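import Groth.Agent.Lib.Helper15.AlgSpEtStalkElt2
import Groth.Prelude.Def_AlgSpOX3

set_option autoImplicit false
set_option linter.style.haveILetI false
universe u
open CategoryTheory CategoryTheory.Limits AlgebraicGeometry MorphismProperty Opposite
open AlgSp

namespace Groth.Agent.Helper15
variable {S : Scheme.{u}} {X : Sp S}

/-- Every point of `|X|` is the class of a geometric point. -/
theorem exists_geometric_point_mk (x : Points X) :
    ∃ p : FieldPt X, p.IsGeometric ∧ Points.mk p = x := by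
  obtain ⟨q, rfl⟩ := Points.mk_surjective x
  obtain ⟨p, hp, l, hl1, -⟩ := exists_geometric_point_over q.toHom (IsLocalRing.closedPoint q.K)
  refine ⟨p, hp, ?_⟩
  rw [← Points.ofPt_toHom p (IsLocalRing.closedPoint p.K), ← hl1, ofPt_comp_yon_map,
    Points.ofPt_toHom]

section Ring
variable (hX : IsAlgSpace X) (p : FieldPt X) (hp : p.IsGeometric)
  (O' : EtSh X CommRingCat.{u + 1})

theorem subsingleton_stalkEt_of_subsingleton (N : EtNbhd p)
    (h : Subsingleton ↥(O'.obj.obj (op N.1))) : Subsingleton ↥(stalkEt p O') := by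
  have h1 : (stalkEtι p O' N).hom 1 = 1 := map_one _
  have h0 : (stalkEtι p O' N).hom 0 = 0 := map_zero _
  have : (0 : ↥(stalkEt p O')) = 1 := by
    rw [← h1, ← h0]; congr 1; exact Subsingleton.elim _ _
  exact subsingleton_of_zero_eq_one this

include hX hp in
theorem exists_subsingleton_of_subsingleton_stalkEt (h : Subsingleton ↥(stalkEt p O')) :
    ∃ N : EtNbhd p, Subsingleton ↥(O'.obj.obj (op N.1)) := by
  haveI := isCofiltered_etNbhd hX p hp
  haveI := preservesColimitsOfShape_etNbhd_forget_commRing p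
  obtain ⟨N0⟩ : Nonempty (EtNbhd p) := IsCofiltered.nonempty
  have h1 : (colimit.ι ((EtNbhd.toEtOver p).op ⋙ O'.obj) (op N0))
      (1 : ↥(O'.obj.obj (op N0.1))) =
      (colimit.ι ((EtNbhd.toEtOver p).op ⋙ O'.obj) (op N0)) (0 : ↥(O'.obj.obj (op N0.1))) :=
    Subsingleton.elim (α := ↥(stalkEt p O')) _ _
  obtain ⟨N', f, hf⟩ := (stalkEtPsh_ι_eq_iff p O'.obj N0 1 0).1 h1
  refine ⟨N', subsingleton_of_zero_eq_one ?_⟩
  have e1 : (O'.obj.map f.1.op).hom 1 = 1 := map_one _
  have e0 : (O'.obj.map f.1.op).hom 0 = 0 := map_zero _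
  rw [← e1, ← e0]
  exact hf.symm

end Ring

end Groth.Agent.Helper15
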