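import Groth.Agent.Lib.Helper15.AlgSpBasic

set_option autoImplicit false
universe u

open CategoryTheory CategoryTheory.Limits AlgebraicGeometry Opposite

namespace Groth.Agent.Helper15

open AlgSp

variable {S : Scheme.{u}}

/-- The point of `F` defined by a map `h_{Spec K} ⟶ F` for a field `K` over `S`. -/
noncomputable def ofField {F : Sp S} {K : Type u} [Field K] {str : Spec (CommRingCat.of K) ⟶ S}
    (ξ : (yon S).obj (Over.mk str) ⟶ F) : Points F :=
  Points.mk ⟨K, str, yonEquiv ξ⟩

theorem exists_ofField {F : Sp S} (x : Points F) :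
    ∃ (K : Type u) (_ : Field K) (str : Spec (CommRingCat.of K) ⟶ S)
      (ξ : (yon S).obj (Over.mk str) ⟶ F), x = ofField ξ := by
  induction x using Points.ind with
  | h p =>
    obtain ⟨K, str, val⟩ := p
    refine ⟨K, inferInstance, str, yonEquiv.symm val, ?_⟩
    simp [ofField]

theorem map_ofField {F G : Sp S} (f : F ⟶ G) {K : Type u} [Field K]
    {str : Spec (CommRingCat.of K) ⟶ S} (ξ : (yon S).obj (Over.mk str) ⟶ F) :
    Points.map f (ofField ξ) = ofField (ξ ≫ f) := by
  simp only [ofField, Points.map_mk, FieldPt.map]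
  rw [GrothendieckTopology.uliftYonedaEquiv_comp (J S) ξ f]

theorem ofField_eq_iff {F : Sp S} {K L : Type u} [Field K] [Field L]
    {str : Spec (CommRingCat.of K) ⟶ S} {str' : Spec (CommRingCat.of L) ⟶ S}
    (ξ : (yon S).obj (Over.mk str) ⟶ F) (η : (yon S).obj (Over.mk str') ⟶ F) :
    ofField ξ = ofField η ↔
      ∃ (Ω : Type u) (_ : Field Ω) (w : Spec (CommRingCat.of Ω) ⟶ S)
        (a : Over.mk w ⟶ Over.mk str) (b : Over.mk w ⟶ Over.mk str'),
        (yon S).map a ≫ ξ = (yon S).map b ≫ η := by
  rw [ofField, ofField, Points.mk_eq_mk_iff]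
  constructor
  · rintro ⟨Ω, hΩ, w, a, b, h⟩
    refine ⟨Ω, hΩ, w, a, b, ?_⟩
    apply yonEquiv.injective
    rw [← GrothendieckTopology.uliftYonedaEquiv_naturality,
      ← GrothendieckTopology.uliftYonedaEquiv_naturality]
    exact h
  · rintro ⟨Ω, hΩ, w, a, b, h⟩
    refine ⟨Ω, hΩ, w, a, b, ?_⟩
    have := congrArg yonEquiv h
    rw [← GrothendieckTopology.uliftYonedaEquiv_naturality,
      ← GrothendieckTopology.uliftYonedaEquiv_naturality] at this
    exact this

/-- Precomposing with a map of field spectra over `S` does not change the point. -/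
theorem ofField_comp {F : Sp S} {K Ω : Type u} [Field K] [Field Ω]
    {str : Spec (CommRingCat.of K) ⟶ S} {w : Spec (CommRingCat.of Ω) ⟶ S}
    (a : Over.mk w ⟶ Over.mk str) (ξ : (yon S).obj (Over.mk str) ⟶ F) :
    ofField ((yon S).map a ≫ ξ) = ofField ξ := by
  rw [ofField_eq_iff]
  exact ⟨Ω, inferInstance, w, 𝟙 _, a, by simp⟩

/-- `ofPt g t` is the point defined by `Spec κ(t) ⟶ T ⟶ F`. -/
theorem ofPt_eq_ofField {F : Sp S} {T : Over S} (g : (yon S).obj T ⟶ F) (t : T.left) :
    Points.ofPt g t =
      ofField (K := T.left.residueField t) (str := T.left.fromSpecResidueField t ≫ T.hom)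
        ((yon S).map (Over.homMk (T.left.fromSpecResidueField t) rfl :
          Over.mk (T.left.fromSpecResidueField t ≫ T.hom) ⟶ T) ≫ g) := by
  simp only [Points.ofPt, ofField, FieldPt.ofPt]
  rw [GrothendieckTopology.uliftYonedaEquiv_comp,
    GrothendieckTopology.uliftYonedaEquiv_uliftYoneda_map]

/-- Points of a fibre product surject onto the fibre product of the sets of points. -/
theorem exists_point_of_isPullback {X Y Z P : Sp S} {fst : P ⟶ X} {snd : P ⟶ Y} {f : X ⟶ Z}
    {g : Y ⟶ Z} (sq : IsPullback fst snd f g) (x : Points X) (y : Points Y)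
    (h : Points.map f x = Points.map g y) :
    ∃ p : Points P, Points.map fst p = x ∧ Points.map snd p = y := by
  obtain ⟨K, _, str, ξ, rfl⟩ := exists_ofField x
  obtain ⟨L, _, str', η, rfl⟩ := exists_ofField y
  rw [map_ofField, map_ofField, ofField_eq_iff] at h
  obtain ⟨Ω, _, w, a, b, hab⟩ := h
  have hab' : ((yon S).map a ≫ ξ) ≫ f = ((yon S).map b ≫ η) ≫ g := by
    simpa only [Category.assoc] using hab
  refine ⟨ofField (sq.lift _ _ hab'), ?_, ?_⟩
  · rw [map_ofField, sq.lift_fst, ofField_comp]
  · rw [map_ofField, sq.lift_snd, ofField_comp]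

/-- Base change of a map surjective on points is surjective on points. -/
theorem isSurjectiveMor_of_isPullback {X Y Z P : Sp S} {fst : P ⟶ X} {snd : P ⟶ Y} {f : X ⟶ Z}
    {g : Y ⟶ Z} (sq : IsPullback fst snd f g) (hf : IsSurjectiveMor f) : IsSurjectiveMor snd := by
  intro y
  obtain ⟨x, hx⟩ := hf (Points.map g y)
  obtain ⟨p, -, hp⟩ := exists_point_of_isPullback sq x y hx
  exact ⟨p, hp⟩

/-- A representable surjective map is surjective on points. -/
theorem isSurjectiveMor_of_repWith_surjective {X Y : Sp S} (f : X ⟶ Y)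
    (hf : RepWith @Surjective f) : IsSurjectiveMor f := by
  intro y
  obtain ⟨L, _, str', η, rfl⟩ := exists_ofField y
  have hrep := hf.rep
  have hsurj : Surjective (hrep.snd η).left := hf.property_snd η
  obtain ⟨v, -⟩ := hsurj.surj (IsLocalRing.closedPoint L)
  refine ⟨Points.ofPt (hrep.fst η) v, ?_⟩
  rw [Points.map_ofPt, hrep.w η, ofPt_eq_ofField, ← Category.assoc, ← Functor.map_comp]
  exact ofField_comp _ η

/-- For a representable map, surjectivity on points implies representable surjectivity. -/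
theorem repWith_surjective_of_isSurjectiveMor {X Y : Sp S} (f : X ⟶ Y)
    (hrep : Representable f) (hf : IsSurjectiveMor f) : RepWith @Surjective f := by
  refine ⟨hrep, fun T V g fst snd sq => ⟨fun t => ?_⟩⟩
  obtain ⟨x, hx⟩ := hf (Points.ofPt g t)
  obtain ⟨K, _, str, ξ, rfl⟩ := exists_ofField x
  rw [map_ofField, ofPt_eq_ofField, ofField_eq_iff] at hx
  obtain ⟨Ω, _, w, a, b, hab⟩ := hx
  set ι : Over.mk (T.left.fromSpecResidueField t ≫ T.hom) ⟶ T :=
    Over.homMk (T.left.fromSpecResidueField t) rfl with hι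
  have hab' : ((yon S).map a ≫ ξ) ≫ f = ((yon S).map (b ≫ ι)) ≫ g := by
    simpa only [Category.assoc, Functor.map_comp] using hab
  obtain ⟨z, hz⟩ := (yon S).map_surjective (sq.lift _ _ hab')
  have hz2 : z ≫ snd = b ≫ ι := by
    apply (yon S).map_injective
    rw [Functor.map_comp, hz, sq.lift_snd]
  let pt : ↥(Over.mk w).left := (show ↥(Spec (CommRingCat.of Ω)) from IsLocalRing.closedPoint Ω)
  refine ⟨z.left pt, ?_⟩
  change snd.left (z.left pt) = t
  have h1 : snd.left (z.left pt) = (z ≫ snd).left pt := by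
    rw [Over.comp_left, Scheme.Hom.comp_apply]
  rw [h1, hz2, Over.comp_left, Scheme.Hom.comp_apply]
  have h2 : b.left pt =
      (show ↥(Spec (CommRingCat.of (T.left.residueField t))) from
        IsLocalRing.closedPoint (T.left.residueField t)) :=
    @Subsingleton.elim (PrimeSpectrum (T.left.residueField t)) inferInstance _ _
  rw [h2]
  exact Scheme.fromSpecResidueField_apply _ _

theorem repWith_surjective_iff_of_representable {X Y : Sp S} (f : X ⟶ Y)
    (hrep : Representable f) : RepWith @Surjective f ↔ IsSurjectiveMor f :=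
  ⟨isSurjectiveMor_of_repWith_surjective f, repWith_surjective_of_isSurjectiveMor f hrep⟩

end Groth.Agent.Helper15
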