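import Groth.Agent.Lib.Helper15.SchemeDim
import Groth.Agent.Lib.Helper15.AlgSpPoints
import Groth.Prelude.Def_AlgSpDec
import Mathlib.RingTheory.Ideal.KrullsHeightTheorem

set_option autoImplicit false
universe u
open CategoryTheory CategoryTheory.Limits AlgebraicGeometry MorphismProperty Opposite
open AlgSp

namespace Groth.Agent.Helper15
variable {S : Scheme.{u}}

/-- A pointed-scheme property invariant under étale morphisms. -/
def EtInv (Q : ∀ U : Scheme.{u}, ↥U → Prop) : Prop :=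
  ∀ ⦃W U : Scheme.{u}⦄ (g : W ⟶ U), Etale g → ∀ w : W, (Q W w ↔ Q U (g w))

theorem etInv_ringKrullDim_stalk (d : WithBot ℕ∞) :
    EtInv (fun U u => ringKrullDim ↥(U.presheaf.stalk u) = d) := by
  intro W U g hg w
  haveI := hg
  change ringKrullDim ↥(W.presheaf.stalk w) = d ↔ ringKrullDim ↥(U.presheaf.stalk (g w)) = d
  rw [ringKrullDim_stalk_eq_of_etale g w]

theorem etInv_localDim (d : WithBot ℕ∞) :
    EtInv (fun U u => FlatMor.localDim ↥U u = d) := by
  intro W U g hg w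
  haveI := hg
  change FlatMor.localDim ↥W w = d ↔ FlatMor.localDim ↥U (g w) = d
  rw [localDim_eq_of_etale g w]

theorem hasAt_forall_chart {Q : ∀ U : Scheme.{u}, ↥U → Prop} (hQ : EtInv Q) {X : Sp S}
    (x : Points X) (h : HasAt Q X x) (U : Over S) (a : (yon S).obj U ⟶ X) (u : U.left)
    (ha : RepWith @Etale a) (hu : Points.ofPt a u = x) : Q U.left u := by
  obtain ⟨U₁, a₁, u₁, ha₁, hu₁, hQ₁⟩ := h
  have sq := ha₁.rep.isPullback' a
  have h1 : Etale (ha₁.rep.snd a).left := ha₁.property_snd a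
  have h2 : Etale (ha₁.rep.fst' a).left := ha.property a₁ _ _ sq.flip
  obtain ⟨w, hw1, hw2⟩ := exists_of_ofPt_eq sq u₁ u (hu₁.trans hu.symm)
  have h3 := (hQ _ h2 w).2 (by rw [hw1]; exact hQ₁)
  have h4 := (hQ _ h1 w).1 h3
  rwa [hw2] at h4

theorem hasAt_iff_forall_chart {Q : ∀ U : Scheme.{u}, ↥U → Prop} (hQ : EtInv Q) {X : Sp S}
    (hX : IsAlgSpace X) (x : Points X) :
    HasAt Q X x ↔ ∀ (U : Over S) (a : (yon S).obj U ⟶ X) (u : U.left),
      RepWith @Etale a → Points.ofPt a u = x → Q U.left u := by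
  constructor
  · intro h U a u ha hu
    exact hasAt_forall_chart hQ x h U a u ha hu
  · intro h
    obtain ⟨U, p, hpe, hps⟩ := hX.atlas
    obtain ⟨u, hu⟩ := surjective_ofPt p hps x
    exact ⟨U, p, u, hpe, hu, h U p u hpe hu⟩

theorem hasAt_iff_of_isEtaleMor {Q : ∀ U : Scheme.{u}, ↥U → Prop} (hQ : EtInv Q) {X Y : Sp S}
    (hX : IsAlgSpace X) (f : X ⟶ Y) (hf : IsEtaleMor f) (x : Points X) :
    HasAt Q X x ↔ HasAt Q Y (Points.map f x) := by
  constructor
  · rintro ⟨U, a, u, ha, hu, hq⟩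
    exact ⟨U, a ≫ f, u, hf a ha, by rw [← Points.map_ofPt, hu], hq⟩
  · rintro ⟨V, b, v, hb, hv, hq⟩
    obtain ⟨U, p, hpe, hps⟩ := hX.atlas
    obtain ⟨u, hu⟩ := surjective_ofPt p hps x
    have hpf : RepWith @Etale (p ≫ f) := hf p hpe
    have sq := hpf.rep.isPullback' b
    have h1 : Etale (hpf.rep.snd b).left := hpf.property_snd b
    have h2 : Etale (hpf.rep.fst' b).left := hb.property (p ≫ f) _ _ sq.flip
    obtain ⟨w, hw1, hw2⟩ := exists_of_ofPt_eq sq u v (by rw [← Points.map_ofPt, hu, hv])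
    refine ⟨_, (yon S).map (hpf.rep.fst' b) ≫ p, w,
      (RepWith @Etale).comp_mem _ _ ((repWith_yon_map_iff _ _).2 h2) hpe,
      by rw [ofPt_comp_yon_map, hw1, hu], ?_⟩
    exact (hQ _ h1 w).2 (by rw [hw2]; exact hq)

/-- S10250 -/
theorem dim_eq_of_isEtaleMor_of_isSurjectiveMor {X Y : Sp S} (hX : IsAlgSpace X) (f : X ⟶ Y)
    (hf : IsEtaleMor f) (hs : IsSurjectiveMor f) : dim X = dim Y := by
  apply le_antisymm
  · refine iSup_le (fun U => iSup_le (fun a => iSup_le (fun ha => ?_)))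
    exact le_iSup_of_le U (le_iSup_of_le (a ≫ f) (le_iSup_of_le (hf a ha) le_rfl))
  · refine iSup_le (fun V => iSup_le (fun b => iSup_le (fun hb => ?_)))
    obtain ⟨U, p, hpe, hps⟩ := hX.atlas
    have hpf : RepWith @Etale (p ≫ f) := hf p hpe
    have hpfs : RepWith @Surjective (p ≫ f) := by
      refine repWith_surjective_of_isSurjectiveMor _ hpf.rep ?_
      intro y
      obtain ⟨x, rfl⟩ := hs y
      obtain ⟨z, rfl⟩ := isSurjectiveMor_of_repWith_surjective p hps x
      exact ⟨z, Points.map_comp _ _ _⟩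
    have sq := hpf.rep.isPullback' b
    haveI h1 : Etale (hpf.rep.snd b).left := hpf.property_snd b
    haveI h1s : Surjective (hpf.rep.snd b).left := hpfs.property_snd b
    have h2 : Etale (hpf.rep.fst' b).left := hb.property (p ≫ f) _ _ sq.flip
    refine (topologicalKrullDim_le_of_flat_surjective (hpf.rep.snd b).left).trans ?_
    exact le_iSup_of_le _ (le_iSup_of_le ((yon S).map (hpf.rep.fst' b) ≫ p)
      (le_iSup_of_le ((RepWith @Etale).comp_mem _ _ ((repWith_yon_map_iff _ _).2 h2) hpe) le_rfl))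

/-- S10347 -/
theorem dim_le_dim_of_locP_lqf {X Y : Sp S} (hY : IsAlgSpace Y) (f : X ⟶ Y)
    (hf : LocP (@LocallyQuasiFinite ⊓ @LocallyOfFiniteType) f) : dim X ≤ dim Y := by
  refine iSup_le (fun U => iSup_le (fun a => iSup_le (fun ha => ?_)))
  obtain ⟨V, q, hqe, hqs⟩ := hY.atlas
  have hrep : Representable (a ≫ f) := hY.representable_from_yon _
  have sq := hrep.isPullback' q
  haveI h2 : Etale (hrep.fst' q).left := hqe.property (a ≫ f) _ _ sq.flip
  haveI h2s : Surjective (hrep.fst' q).left := hqs.property (a ≫ f) _ _ sq.flip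
  have hcomm : ((yon S).map (hrep.fst' q) ≫ a) ≫ f = (yon S).map (hrep.snd q) ≫ q := by
    rw [Category.assoc]; exact sq.w
  have hlqf := hf ((yon S).map (hrep.fst' q) ≫ a) q (hrep.snd q)
    ((RepWith @Etale).comp_mem _ _ ((repWith_yon_map_iff _ _).2 h2) ha) hqe hcomm
  haveI : LocallyQuasiFinite (hrep.snd q).left := hlqf.1
  refine (topologicalKrullDim_le_of_flat_surjective (hrep.fst' q).left).trans ?_
  refine (topologicalKrullDim_le_of_lqf (hrep.snd q).left).trans ?_
  exact le_iSup_of_le V (le_iSup_of_le q (le_iSup_of_le hqe le_rfl))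

/-- S10348 -/
theorem ringKrullDim_stalk_le_of_locP_lqf {X Y : Sp S} (hY : IsAlgSpace Y) (f : X ⟶ Y)
    (hf : LocP (@LocallyQuasiFinite ⊓ @LocallyOfFiniteType) f) (x : Points X) (d e : WithBot ℕ∞)
    (hx : HasAt (fun U u => ringKrullDim ↥(U.presheaf.stalk u) = d) X x)
    (hy : HasAt (fun V v => ringKrullDim ↥(V.presheaf.stalk v) = e) Y (Points.map f x)) :
    d ≤ e := by
  obtain ⟨U, a, u, ha, hu, hd⟩ := hx
  obtain ⟨V, b, v, hb, hv, he⟩ := hy
  have hrep : Representable (a ≫ f) := hY.representable_from_yon _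
  have sq := hrep.isPullback' b
  haveI h2 : Etale (hrep.fst' b).left := hb.property (a ≫ f) _ _ sq.flip
  have hcomm : ((yon S).map (hrep.fst' b) ≫ a) ≫ f = (yon S).map (hrep.snd b) ≫ b := by
    rw [Category.assoc]; exact sq.w
  have hlqf := hf ((yon S).map (hrep.fst' b) ≫ a) b (hrep.snd b)
    ((RepWith @Etale).comp_mem _ _ ((repWith_yon_map_iff _ _).2 h2) ha) hb hcomm
  haveI : LocallyQuasiFinite (hrep.snd b).left := hlqf.1
  obtain ⟨w, hw1, hw2⟩ := exists_of_ofPt_eq sq u v (by rw [← Points.map_ofPt, hu, hv])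
  have e1 := ringKrullDim_stalk_eq_of_etale (hrep.fst' b).left w
  have e2 := ringKrullDim_stalk_le_of_lqf (hrep.snd b).left w
  rw [hw1] at e1
  rw [hw2] at e2
  rw [← hd, ← he, ← e1]
  exact e2

/-- S10342 -/
theorem eq_of_specializes_of_ofPt_eq_of_isLocNoethSp {X : Sp S} (hX : IsLocNoethSp X)
    {U : Over S} (a : (yon S).obj U ⟶ X) (ha : RepWith @Etale a) (u u' : U.left)
    (he : Points.ofPt a u = Points.ofPt a u') (hs : u' ⤳ u) : u = u' := by
  obtain ⟨U₀, p, hpe, hps, hN⟩ := hX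
  haveI := hN
  obtain ⟨u₀, hu₀⟩ := surjective_ofPt p hps (Points.ofPt a u)
  have hQ := etInv_ringKrullDim_stalk (ringKrullDim ↥(U₀.left.presheaf.stalk u₀))
  have hat : HasAt (fun U u => ringKrullDim ↥(U.presheaf.stalk u) =
      ringKrullDim ↥(U₀.left.presheaf.stalk u₀)) X (Points.ofPt a u) :=
    ⟨U₀, p, u₀, hpe, hu₀, rfl⟩
  have h1 := hasAt_forall_chart hQ _ hat U a u ha rfl
  have h2 := hasAt_forall_chart hQ _ hat U a u' ha he.symm
  by_contra hne
  have hlt : u < u' := by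
    refine lt_of_le_not_ge hs (fun h => hne ?_)
    exact (Specializes.antisymm (show u ⤳ u' from h) hs).eq
  rw [ringKrullDim_stalk_eq_coheight] at h1 h2
  haveI : IsNoetherianRing ↥(U₀.left.presheaf.stalk u₀) := inferInstance
  have hfin : ringKrullDim ↥(U₀.left.presheaf.stalk u₀) < ⊤ := ringKrullDim_lt_top
  have hfin' : Order.coheight u' < ⊤ := by
    rw [← h2, ← WithBot.coe_top, WithBot.coe_lt_coe] at hfin
    exact hfin
  have := Order.coheight_strictAnti hlt hfin'
  have h3 : (Order.coheight u' : WithBot ℕ∞) = Order.coheight u := h2.trans h1.symm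
  have h4 : Order.coheight u' = Order.coheight u := by exact_mod_cast h3
  exact absurd this (by rw [h4]; exact lt_irrefl _)

end Groth.Agent.Helper15
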