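import Groth.Agent.Lib.Helper15.SchReduced
import Groth.Agent.Lib.Helper15.AlgSpDimEt
import Mathlib.RingTheory.Flat.FaithfullyFlat.Algebra
import Groth.Prelude.Def_AlgSpSub

set_option autoImplicit false
set_option linter.style.haveILetI false
universe u
open CategoryTheory CategoryTheory.Limits AlgebraicGeometry MorphismProperty Opposite
open AlgSp

namespace Groth.Agent.Helper15
variable {S : Scheme.{u}}

theorem isReduced_stalk_of_etale {W U : Scheme.{u}} (g : W ⟶ U) [Etale g] (w : W)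
    (h : _root_.IsReduced (U.presheaf.stalk (g w))) : _root_.IsReduced (W.presheaf.stalk w) := by
  obtain ⟨_, ⟨V, hV, rfl⟩, hxV, -⟩ :=
    U.isBasis_affineOpens.exists_subset_of_mem_open (Set.mem_univ (g w)) isOpen_univ
  obtain ⟨_, ⟨V', hV', rfl⟩, hxV', hle⟩ :=
    W.isBasis_affineOpens.exists_subset_of_mem_open (show w ∈ (g ⁻¹ᵁ V : Set W) from hxV)
      (g ⁻¹ᵁ V).isOpen
  have he : RingHom.Etale (g.appLE V V' hle).hom :=
    HasRingHomProperty.appLE (P := @Etale) g inferInstance ⟨V, hV⟩ ⟨V', hV'⟩ hle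
  algebraize [(g.appLE V V' hle).hom]
  have hpq : (hV'.primeIdealOf ⟨w, hxV'⟩).asIdeal.under Γ(U, V) =
      (hV.primeIdealOf ⟨g w, hle hxV'⟩).asIdeal :=
    congrArg PrimeSpectrum.asIdeal (IsAffineOpen.comap_primeIdealOf_appLE V hV V' hV' hle hxV')
  have hp : _root_.IsReduced (Localization.AtPrime (hV.primeIdealOf ⟨g w, hle hxV'⟩).asIdeal) := by
    letI := TopCat.Presheaf.algebra_section_stalk U.presheaf (⟨g w, hle hxV'⟩ : V)
    haveI := hV.isLocalization_stalk ⟨g w, hle hxV'⟩
    let e := IsLocalization.algEquiv (hV.primeIdealOf ⟨g w, hle hxV'⟩).asIdeal.primeCompl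
      (Localization.AtPrime (hV.primeIdealOf ⟨g w, hle hxV'⟩).asIdeal) (U.presheaf.stalk (g w))
    exact isReduced_of_injective e.toRingHom e.injective
  have hq := Groth.Agent.Helper14.isReduced_localization_of_etale
    (hV.primeIdealOf ⟨g w, hle hxV'⟩).asIdeal (hV'.primeIdealOf ⟨w, hxV'⟩).asIdeal hpq hp
  letI := TopCat.Presheaf.algebra_section_stalk W.presheaf (⟨w, hxV'⟩ : V')
  haveI := hV'.isLocalization_stalk ⟨w, hxV'⟩
  let e' := IsLocalization.algEquiv (hV'.primeIdealOf ⟨w, hxV'⟩).asIdeal.primeCompl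
    (W.presheaf.stalk w) (Localization.AtPrime (hV'.primeIdealOf ⟨w, hxV'⟩).asIdeal)
  exact isReduced_of_injective e'.toRingHom e'.injective

theorem isReduced_stalk_of_flat {W U : Scheme.{u}} (g : W ⟶ U) [Flat g] (w : W)
    (h : _root_.IsReduced (W.presheaf.stalk w)) : _root_.IsReduced (U.presheaf.stalk (g w)) := by
  have hfl := Flat.stalkMap g w
  algebraize [(g.stalkMap w).hom]
  haveI : IsLocalHom (algebraMap (U.presheaf.stalk (g w)) (W.presheaf.stalk w)) :=
    g.toLRSHom.prop w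
  haveI : Module.FaithfullyFlat (U.presheaf.stalk (g w)) (W.presheaf.stalk w) :=
    Module.FaithfullyFlat.of_flat_of_isLocalHom
  exact isReduced_of_injective (algebraMap (U.presheaf.stalk (g w)) (W.presheaf.stalk w))
    (FaithfulSMul.algebraMap_injective _ _)

theorem etInv_isReduced_stalk :
    EtInv (fun U u => _root_.IsReduced ↥(U.presheaf.stalk u)) := by
  intro W U g hg w
  haveI := hg
  exact ⟨isReduced_stalk_of_flat g w, isReduced_stalk_of_etale g w⟩

/-- S10222 -/
theorem isReducedSp_iff_forall_hasAt {X : Sp S} (hX : IsAlgSpace X) :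
    IsReducedSp X ↔
      ∀ x : Points X, HasAt (fun U u => _root_.IsReduced ↥(U.presheaf.stalk u)) X x := by
  constructor
  · rintro ⟨U, p, hpe, hps, hU⟩ x
    haveI := hU
    obtain ⟨u, hu⟩ := surjective_ofPt p hps x
    exact ⟨U, p, u, hpe, hu, inferInstance⟩
  · intro h
    obtain ⟨U, p, hpe, hps⟩ := hX.atlas
    refine ⟨U, p, hpe, hps, ?_⟩
    refine @isReduced_of_isReduced_stalk U.left (fun u => ?_)
    exact hasAt_forall_chart etInv_isReduced_stalk _ (h (Points.ofPt p u)) U p u hpe rfl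

end Groth.Agent.Helper15
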