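import Mathlib
import Groth.Prelude
import Groth.Agent.Lib.Helper26.EtSub2
import Groth.Agent.Lib.Helper26.SHIndEt1

/-!
# Every element of a strict henselization of `R_p` comes from an étale `R`-algebra (helper15)
(adaptation of helper26's `SHIndEt.isEt` to a non-local base with a prime)
-/

set_option autoImplicit false
set_option linter.unusedSectionVars false
set_option linter.unusedVariables false
set_option linter.style.haveILetI false

universe u

namespace Groth.Agent.Helper15.BrnchEt

open IsLocalRing Polynomial Groth.Agent.Helper26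

variable (R : Type u) [CommRing R] (p : Ideal R) [p.IsPrime]
  (A : Type u) [CommRing A] [IsLocalRing A] [Algebra R A] [IsLocalization.AtPrime A p]
  (Rsh : Type u) [CommRing Rsh] [IsLocalRing Rsh] [Algebra A Rsh] [IsLocalHom (algebraMap A Rsh)]
  [Hensel.IsStrictHenselization A Rsh] [Algebra R Rsh] [IsScalarTower R A Rsh]

include p in
/-- elements of `A = R_p` are étale over `R` -/
theorem isEt_of_base (y : A) : EtSub.IsEt R Rsh (algebraMap A Rsh y) := by
  obtain ⟨a, s, rfl⟩ := IsLocalization.exists_mk'_eq p.primeCompl y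
  have h1 : algebraMap R Rsh (s : R) * algebraMap A Rsh (IsLocalization.mk' A (1 : R) s) = 1 := by
    rw [IsScalarTower.algebraMap_apply R A Rsh, ← map_mul, mul_comm, IsLocalization.mk'_spec,
      map_one, map_one]
  have h2 : EtSub.IsEt R Rsh (algebraMap A Rsh (IsLocalization.mk' A (1 : R) s)) :=
    EtSub.IsEt.inv (EtSub.isEt_algebraMap (s : R)) h1
  have h3 : algebraMap A Rsh (IsLocalization.mk' A a s) =
      algebraMap R Rsh a * algebraMap A Rsh (IsLocalization.mk' A (1 : R) s) := by
    rw [IsScalarTower.algebraMap_apply R A Rsh, ← map_mul]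
    congr 1
    rw [← IsLocalization.mk'_eq_mul_mk'_one]
  rw [h3]
  exact (EtSub.isEt_algebraMap a).mul h2

include p A in
/-- every residue class of the strict henselization is represented by an étale element -/
theorem exists_isEt_residue (α : ResidueField Rsh) :
    ∃ a : Rsh, EtSub.IsEt R Rsh a ∧ residue Rsh a = α := by
  haveI : HenselianLocalRing Rsh := Hensel.IsStrictHenselization.henselian (R := A)
  haveI hsc : IsSepClosure (ResidueField A) (ResidueField Rsh) :=
    Hensel.IsStrictHenselization.isSepClosure
  haveI : Algebra.IsSeparable (ResidueField A) (ResidueField Rsh) := hsc.separable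
  have hsep : (minpoly (ResidueField A) α).Separable := Algebra.IsSeparable.isSeparable _ α
  have hint : IsIntegral (ResidueField A) α := Algebra.IsSeparable.isIntegral _ α
  have hmonic : (minpoly (ResidueField A) α).Monic := minpoly.monic hint
  obtain ⟨n, cbar, hcbar⟩ := PH.exists_eq_mpoly hmonic
  choose c hc using fun i => residue_surjective (cbar i)
  let x : Fin n → Rsh := fun i => algebraMap A Rsh (c i)
  have hx : ∀ i, EtSub.IsEt R Rsh (x i) := fun i => isEt_of_base R p A Rsh (c i)
  have hred : (PH.mpoly n x).map (residue Rsh) =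
      (minpoly (ResidueField A) α).map (algebraMap (ResidueField A) (ResidueField Rsh)) := by
    rw [hcbar, PH.mpoly_map, PH.mpoly_map]
    congr 1
    funext i
    rw [← hc i]
    rfl
  obtain ⟨a₀, ha₀⟩ := residue_surjective α
  have h0 : (PH.mpoly n x).eval a₀ ∈ maximalIdeal Rsh := by
    rw [← residue_eq_zero_iff, ← Polynomial.eval₂_hom, ← Polynomial.eval_map, hred, ha₀,
      Polynomial.eval_map, ← Polynomial.aeval_def]
    exact minpoly.aeval _ α
  have h1 : IsUnit ((PH.mpoly n x).derivative.eval a₀) := by
    have : IsUnit (residue Rsh ((PH.mpoly n x).derivative.eval a₀)) := by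
      rw [← Polynomial.eval₂_hom, ← Polynomial.eval_map, ← Polynomial.derivative_map, hred, ha₀,
        Polynomial.derivative_map, Polynomial.eval_map, ← Polynomial.aeval_def, isUnit_iff_ne_zero]
      exact hsep.aeval_derivative_ne_zero (minpoly.aeval _ α)
    exact isUnit_of_map_unit (residue Rsh) _ this
  obtain ⟨a, ha, haa₀⟩ := HenselianLocalRing.is_henselian (PH.mpoly n x) (PH.mpoly_monic n x) a₀ h0 h1
  have h1' : IsUnit ((PH.mpoly n x).derivative.eval a) :=
    EtSub.isUnit_eval_of_sub_mem _ a a₀ haa₀ h1
  refine ⟨a, EtSub.IsEt.root n x hx a ha h1', ?_⟩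
  rw [← ha₀, ← sub_eq_zero, ← map_sub, residue_eq_zero_iff]
  exact haa₀

include p A in
/-- every element of a strict henselization of `R_p` comes from an étale `R`-algebra -/
theorem isEt (x : Rsh) : EtSub.IsEt R Rsh x := by
  haveI : HenselianLocalRing Rsh := Hensel.IsStrictHenselization.henselian (R := A)
  let T' := EtSub.sub R Rsh
  let ι : T' →+* Rsh := algebraMap T' Rsh
  have hι : ∀ y : T', ι y = (y : Rsh) := fun _ => rfl
  haveI hιloc : IsLocalHom ι := inferInstanceAs (IsLocalHom (algebraMap T' Rsh))
  let f : A →+* T' :=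
    (algebraMap A Rsh).codRestrict (EtSub.sub R Rsh).toSubring (fun y => isEt_of_base R p A Rsh y)
  have hιf : ∀ r : A, ι (f r) = algebraMap A Rsh r := fun _ => rfl
  haveI hfloc : IsLocalHom f := by
    constructor
    intro r hr
    have h1 : IsUnit (ι (f r)) := hr.map ι
    rw [hιf] at h1
    exact isUnit_of_map_unit (algebraMap A Rsh) r h1
  let κι : ResidueField T' →+* ResidueField Rsh := ResidueField.map ι
  have hκι : ∀ y : T', κι (residue T' y) = residue Rsh (y : Rsh) := fun _ => rfl
  have hbij : Function.Bijective κι := by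
    refine ⟨RingHom.injective _, ?_⟩
    intro α
    obtain ⟨a, ha, hα⟩ := exists_isEt_residue R p A Rsh α
    exact ⟨residue T' ⟨a, ha⟩, by rw [hκι]; exact hα⟩
  let e : ResidueField T' ≃+* ResidueField Rsh := RingEquiv.ofBijective κι hbij
  have he : ∀ y : T', e (residue T' y) = residue Rsh (y : Rsh) := fun _ => rfl
  let τ : ResidueField Rsh →+* ResidueField T' := (e.symm : ResidueField Rsh →+* ResidueField T')
  have hτ : τ.comp (ResidueField.map (algebraMap A Rsh)) = ResidueField.map f := by
    apply RingHom.ext
    intro y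
    obtain ⟨r, rfl⟩ := residue_surjective y
    change e.symm (residue Rsh (algebraMap A Rsh r)) = residue T' (f r)
    rw [RingEquiv.symm_apply_eq, he]
    rfl
  obtain ⟨g, ⟨hg1, hg2⟩, -⟩ := Hensel.IsStrictHenselization.universal (R := A) (S := Rsh) T' f τ hτ
  obtain ⟨i, -, hiu⟩ := Hensel.IsStrictHenselization.universal (R := A) (S := Rsh) Rsh
    (algebraMap A Rsh) (RingHom.id _) (RingHom.id_comp _)
  have e1 : ι.comp g = i := by
    apply hiu
    refine ⟨?_, ?_⟩
    · rw [RingHom.comp_assoc, hg1]
      rfl
    · intro z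
      change residue Rsh (ι (g z)) = residue Rsh z
      have h3 : residue Rsh (ι (g z)) = e (residue T' (g z)) := rfl
      rw [h3, hg2 z]
      exact e.apply_symm_apply _
  have e2 : RingHom.id Rsh = i := by
    apply hiu
    exact ⟨rfl, fun _ => rfl⟩
  have e3 : ι (g x) = x := DFunLike.congr_fun (e1.trans e2.symm) x
  rw [← e3]
  exact (g x).2

end Groth.Agent.Helper15.BrnchEt
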