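import Mathlib.RingTheory.Flat.FaithfullyFlat.Algebra
import Mathlib.RingTheory.Noetherian.Basic
import Mathlib.AlgebraicGeometry.Noetherian
import Mathlib.AlgebraicGeometry.Morphisms.Etale
import Mathlib.AlgebraicGeometry.Morphisms.Flat
import Mathlib.AlgebraicGeometry.Morphisms.UniversallyOpen
import Mathlib.AlgebraicGeometry.Morphisms.FlatDescent

/-!
# Noetherianity descends along faithfully flat maps; etale surjective descent of locally
Noetherian schemes
-/

set_option autoImplicit false
universe u
open CategoryTheory CategoryTheory.Limits AlgebraicGeometry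

namespace Groth.Agent.Helper15

theorem isNoetherianRing_of_faithfullyFlat {A B : Type*} [CommRing A] [CommRing B] [Algebra A B]
    [Module.FaithfullyFlat A B] [IsNoetherianRing B] : IsNoetherianRing A := by
  have hB : WellFoundedGT (Ideal B) := (isNoetherian_iff' (R := B) (M := B)).1 inferInstance
  have hm : Monotone (Ideal.map (algebraMap A B)) := fun _ _ hIJ => Ideal.map_mono hIJ
  have hsm : StrictMono (Ideal.map (algebraMap A B)) :=
    hm.strictMono_of_injective (Ideal.map_injective_of_faithfullyFlat (A := A) (B := B))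
  exact (isNoetherian_iff' (R := A) (M := A)).2 hsm.wellFoundedGT

/-- A flat, open, surjective morphism from a locally Noetherian scheme to an affine scheme: the
target is Noetherian. -/
theorem isNoetherianRing_of_flat_open_surjective {V' V : Scheme.{u}} [IsAffine V] (π : V' ⟶ V)
    [Flat π] [UniversallyOpen π] [Surjective π] [IsLocallyNoetherian V'] :
    IsNoetherianRing Γ(V, ⊤) := by
  let 𝒰 := V'.affineCover
  have hopen : ∀ x : V', IsOpen (Set.range (𝒰.f x ≫ π)) := fun x =>
    (𝒰.f x ≫ π).isOpenMap.isOpen_range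
  have hcover : (Set.univ : Set V) ⊆ ⋃ x : V', Set.range (𝒰.f x ≫ π) := by
    intro v _
    obtain ⟨v', rfl⟩ := π.surjective v
    obtain ⟨y, hy⟩ := 𝒰.covers v'
    exact Set.mem_iUnion.2 ⟨_, ⟨y, by rw [Scheme.Hom.comp_apply, hy]⟩⟩
  obtain ⟨t, ht⟩ := isCompact_univ.elim_finite_subcover _ hopen hcover
  let g : t → Scheme.{u} := fun x => 𝒰.X x.1
  let φ : ∐ g ⟶ V := Sigma.desc (fun x : t => 𝒰.f x.1 ≫ π)
  haveI : ∀ x : t, IsAffine (g x) := fun x => inferInstanceAs (IsAffine (𝒰.X x.1))
  haveI : IsAffine (∐ g) := inferInstance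
  haveI : Flat φ := IsZariskiLocalAtSource.sigmaDesc (fun x => inferInstance)
  haveI : Surjective φ := by
    apply Surjective.sigmaDesc_of_union_range_eq_univ
    rw [Set.eq_univ_iff_forall]
    intro v
    have hv := ht (Set.mem_univ v)
    simp only [Set.mem_iUnion] at hv
    obtain ⟨x, hxt, hx⟩ := hv
    exact Set.mem_iUnion.2 ⟨⟨x, hxt⟩, hx⟩
  haveI : IsLocallyNoetherian (∐ g) := by
    rw [isLocallyNoetherian_iff_openCover (sigmaOpenCover g)]
    intro x
    haveI : IsLocallyNoetherian (𝒰.X x.1) := inferInstance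
    exact inferInstanceAs (IsLocallyNoetherian (𝒰.X x.1))
  have hff : φ.appTop.hom.FaithfullyFlat :=
    (Flat.flat_and_surjective_iff_faithfullyFlat_of_isAffine φ).1 ⟨inferInstance, inferInstance⟩
  haveI : IsNoetherianRing Γ(∐ g, ⊤) :=
    IsLocallyNoetherian.component_noetherian ⟨⊤, isAffineOpen_top _⟩
  algebraize [φ.appTop.hom]
  exact isNoetherianRing_of_faithfullyFlat (A := Γ(V, ⊤)) (B := Γ(∐ g, ⊤))

/-- Locally Noetherian descends along flat, universally open, surjective morphisms (e.g. etale
surjective ones). -/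
theorem isLocallyNoetherian_of_flat_open_surjective {V' V : Scheme.{u}} (π : V' ⟶ V)
    [Flat π] [UniversallyOpen π] [Surjective π] [IsLocallyNoetherian V'] :
    IsLocallyNoetherian V := by
  rw [isLocallyNoetherian_iff_of_affine_openCover V.affineCover]
  intro i
  haveI : IsLocallyNoetherian (pullback π (V.affineCover.f i)) :=
    isLocallyNoetherian_of_isOpenImmersion (pullback.fst π (V.affineCover.f i))
  exact isNoetherianRing_of_flat_open_surjective (pullback.snd π (V.affineCover.f i))

end Groth.Agent.Helper15
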