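import Groth.Agent.Lib.Helper15.AlgSpLocP3
import Groth.Agent.Lib.Helper15.NoethDescent

/-!
# Locally Noetherian algebraic spaces
-/

set_option autoImplicit false
universe u
open CategoryTheory CategoryTheory.Limits AlgebraicGeometry MorphismProperty Opposite
open AlgSp

namespace Groth.Agent.Helper15

variable {S : Scheme.{u}}

/-- Every scheme etale over a locally Noetherian sheaf is locally Noetherian. -/
theorem isLocallyNoetherian_of_etale_of_isLocNoethSp {Y : Sp S} (hY : IsLocNoethSp Y)
    {V : Over S} (b : (yon S).obj V ⟶ Y) (hb : RepWith @Etale b) :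
    IsLocallyNoetherian V.left := by
  obtain ⟨V₀, p₀, hp₀e, hp₀s, hV₀⟩ := hY
  have hrep := hb.rep
  have sq := hrep.isPullback' p₀
  haveI : IsLocallyNoetherian V₀.left := hV₀
  haveI : Etale (hrep.snd p₀).left := hb.property_snd p₀
  haveI : IsLocallyNoetherian (hrep.pullback p₀).left :=
    LocallyOfFiniteType.isLocallyNoetherian (hrep.snd p₀).left
  haveI : Etale (hrep.fst' p₀).left := hp₀e.property b _ _ sq.flip
  haveI : Surjective (hrep.fst' p₀).left := hp₀s.property b _ _ sq.flip
  exact isLocallyNoetherian_of_flat_open_surjective (hrep.fst' p₀).left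

/-- S9958. -/
theorem locP_lfp_of_locP_lft_locNoeth {X Y : Sp S} (f : X ⟶ Y) (hY : IsLocNoethSp Y)
    (hf : LocP @LocallyOfFiniteType f) : LocP @LocallyOfFinitePresentation f := by
  intro U V a b h ha hb comm
  haveI : LocallyOfFiniteType h.left := hf a b h ha hb comm
  haveI : IsLocallyNoetherian V.left := isLocallyNoetherian_of_etale_of_isLocNoethSp hY b hb
  exact (inferInstance : LocallyOfFinitePresentation h.left)

end Groth.Agent.Helper15
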