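import Mathlib.CategoryTheory.Limits.Shapes.Pullback.CommSq
import Mathlib.CategoryTheory.Limits.Shapes.BinaryProducts
import Mathlib.CategoryTheory.Limits.Shapes.Diagonal

set_option autoImplicit false
universe v u

open CategoryTheory CategoryTheory.Limits

namespace Groth.Agent.Helper15

variable {C : Type u} [Category.{v} C]

/-- If `i` is a monomorphism, a square is a pullback over `f ≫ i`, `g ≫ i` iff it is over `f`, `g`. -/
theorem isPullback_of_comp_mono {P X Y Z W : C} {fst : P ⟶ X} {snd : P ⟶ Y} {f : X ⟶ Z}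
    {g : Y ⟶ Z} (i : Z ⟶ W) [Mono i] (h : IsPullback fst snd (f ≫ i) (g ≫ i)) :
    IsPullback fst snd f g := by
  have w : fst ≫ f = snd ≫ g := by
    rw [← cancel_mono i, Category.assoc, Category.assoc]; exact h.w
  refine ⟨⟨w⟩, ⟨PullbackCone.IsLimit.mk w
    (fun s => h.lift s.fst s.snd (by rw [← Category.assoc, ← Category.assoc, s.condition]))
    (fun s => h.lift_fst _ _ _) (fun s => h.lift_snd _ _ _) ?_⟩⟩
  intro s m h1 h2
  apply h.hom_ext
  · rw [h1, h.lift_fst]
  · rw [h2, h.lift_snd]

theorem isPullback_comp_mono {P X Y Z W : C} {fst : P ⟶ X} {snd : P ⟶ Y} {f : X ⟶ Z}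
    {g : Y ⟶ Z} (i : Z ⟶ W) [Mono i] (h : IsPullback fst snd f g) :
    IsPullback fst snd (f ≫ i) (g ≫ i) := by
  have w : fst ≫ f ≫ i = snd ≫ g ≫ i := by
    rw [← Category.assoc, ← Category.assoc, h.w]
  refine ⟨⟨w⟩, ⟨PullbackCone.IsLimit.mk w
    (fun s => h.lift s.fst s.snd (by
      rw [← cancel_mono i, Category.assoc, Category.assoc]; exact s.condition))
    (fun s => h.lift_fst _ _ _) (fun s => h.lift_snd _ _ _) ?_⟩⟩
  intro s m h1 h2
  apply h.hom_ext
  · rw [h1, h.lift_fst]
  · rw [h2, h.lift_snd]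

/-- Fibre product of two maps `t, t'` into a fibre product `P = X ×_H Y`, computed in two steps:
first over `X`, then equalizing the two maps to `Y` via the diagonal of `Y`. -/
theorem isPullback_into_pullback [HasBinaryProducts C] {P X Y H T T' A E : C} {fst : P ⟶ X}
    {snd : P ⟶ Y} {f : X ⟶ H} {g : Y ⟶ H} (sqP : IsPullback fst snd f g) (t : T ⟶ P) (t' : T' ⟶ P)
    {a₁ : A ⟶ T} {a₂ : A ⟶ T'} (sqA : IsPullback a₁ a₂ (t ≫ fst) (t' ≫ fst))
    {e : E ⟶ Y} {ε : E ⟶ A}
    (sqE : IsPullback e ε (diag Y) (prod.lift (a₁ ≫ t ≫ snd) (a₂ ≫ t' ≫ snd))) :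
    IsPullback (ε ≫ a₁) (ε ≫ a₂) t t' := by
  have he1 : e = ε ≫ a₁ ≫ t ≫ snd := by
    have := sqE.w =≫ prod.fst
    simp only [Category.assoc, prod.lift_fst, diag] at this
    rw [Category.comp_id] at this
    exact this
  have he2 : e = ε ≫ a₂ ≫ t' ≫ snd := by
    have := sqE.w =≫ prod.snd
    simp only [Category.assoc, prod.lift_snd, diag] at this
    rw [Category.comp_id] at this
    exact this
  have w : (ε ≫ a₁) ≫ t = (ε ≫ a₂) ≫ t' := by
    apply sqP.hom_ext
    · simp only [Category.assoc]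
      rw [sqA.w]
    · simp only [Category.assoc]
      rw [← he1, ← he2]
  have hA : ∀ s : PullbackCone t t', s.fst ≫ t ≫ fst = s.snd ≫ t' ≫ fst := fun s => by
    rw [← Category.assoc, ← Category.assoc, s.condition]
  have hE : ∀ s : PullbackCone t t', (s.fst ≫ t ≫ snd) ≫ diag Y =
      sqA.lift s.fst s.snd (hA s) ≫ prod.lift (a₁ ≫ t ≫ snd) (a₂ ≫ t' ≫ snd) := fun s => by
    ext
    · simp only [Category.assoc, prod.lift_fst, Category.comp_id]
      rw [sqA.lift_fst_assoc]
    · simp only [Category.assoc, prod.lift_snd, Category.comp_id]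
      rw [sqA.lift_snd_assoc, ← Category.assoc, ← Category.assoc, s.condition]
  refine ⟨⟨w⟩, ⟨PullbackCone.IsLimit.mk w
    (fun s => sqE.lift (s.fst ≫ t ≫ snd) (sqA.lift s.fst s.snd (hA s)) (hE s)) ?_ ?_ ?_⟩⟩
  · intro s
    rw [sqE.lift_snd_assoc, sqA.lift_fst]
  · intro s
    rw [sqE.lift_snd_assoc, sqA.lift_snd]
  · intro s m h1 h2
    apply sqE.hom_ext
    · rw [sqE.lift_fst, he1, ← h1]
      simp only [Category.assoc]
    · rw [sqE.lift_snd]
      apply sqA.hom_ext
      · rw [sqA.lift_fst, Category.assoc, h1]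
      · rw [sqA.lift_snd, Category.assoc, h2]

/-- The fibre product `A ×_X B` is the base change of the diagonal of `X` along `f × g`. -/
theorem isPullback_diag_prod_map [HasBinaryProducts C] {P A B X : C} {fst : P ⟶ A} {snd : P ⟶ B}
    {f : A ⟶ X} {g : B ⟶ X} (sq : IsPullback fst snd f g) :
    IsPullback (fst ≫ f) (prod.lift fst snd) (diag X) (prod.map f g) := by
  have w : (fst ≫ f) ≫ diag X = prod.lift fst snd ≫ prod.map f g := by
    ext
    · simp [prod.lift_fst]
    · simp [prod.lift_snd, sq.w]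
  have h1 : ∀ s : PullbackCone (diag X) (prod.map f g),
      (s.snd ≫ prod.fst) ≫ f = s.fst := fun s => by
    have := s.condition =≫ prod.fst
    simp only [Category.assoc, prod.map_fst, diag, prod.lift_fst, Category.comp_id] at this
    rw [Category.assoc]; exact this.symm
  have h2 : ∀ s : PullbackCone (diag X) (prod.map f g),
      (s.snd ≫ prod.snd) ≫ g = s.fst := fun s => by
    have := s.condition =≫ prod.snd
    simp only [Category.assoc, prod.map_snd, diag, prod.lift_snd, Category.comp_id] at this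
    rw [Category.assoc]; exact this.symm
  refine ⟨⟨w⟩, ⟨PullbackCone.IsLimit.mk w
    (fun s => sq.lift (s.snd ≫ prod.fst) (s.snd ≫ prod.snd) ((h1 s).trans (h2 s).symm))
    ?_ ?_ ?_⟩⟩
  · intro s
    rw [sq.lift_fst_assoc]; exact h1 s
  · intro s
    ext
    · simp [prod.lift_fst]
    · simp [prod.lift_snd]
  · intro s m hm1 hm2
    apply sq.hom_ext
    · rw [sq.lift_fst, ← hm2]; simp [prod.lift_fst]
    · rw [sq.lift_snd, ← hm2]; simp [prod.lift_snd]

/-- `f × id` is a base change of `f`. -/
theorem isPullback_prod_map_id [HasBinaryProducts C] {A X : C} (f : A ⟶ X) (Y : C) :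
    IsPullback (prod.map f (𝟙 Y)) prod.fst prod.fst f := by
  have w : prod.map f (𝟙 Y) ≫ prod.fst = prod.fst ≫ f := by simp
  refine ⟨⟨w⟩, ⟨PullbackCone.IsLimit.mk w
    (fun s => prod.lift s.snd (s.fst ≫ prod.snd)) ?_ ?_ ?_⟩⟩
  · intro s
    ext
    · simp [prod.lift_fst, s.condition]
    · simp [prod.lift_snd]
  · intro s
    simp [prod.lift_fst]
  · intro s m hm1 hm2
    ext
    · simp [prod.lift_fst, ← hm2]
    · simp [prod.lift_snd, ← hm1]

/-- `id × f` is a base change of `f`. -/
theorem isPullback_prod_id_map [HasBinaryProducts C] {A X : C} (f : A ⟶ X) (Y : C) :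
    IsPullback (prod.map (𝟙 Y) f) prod.snd prod.snd f := by
  have w : prod.map (𝟙 Y) f ≫ prod.snd = prod.snd ≫ f := by simp
  refine ⟨⟨w⟩, ⟨PullbackCone.IsLimit.mk w
    (fun s => prod.lift (s.fst ≫ prod.fst) s.snd) ?_ ?_ ?_⟩⟩
  · intro s
    ext
    · simp [prod.lift_fst]
    · simp [prod.lift_snd, s.condition]
  · intro s
    simp [prod.lift_snd]
  · intro s m hm1 hm2
    ext
    · simp [prod.lift_fst, ← hm1]
    · simp [prod.lift_snd, ← hm2]

set_option backward.isDefEq.respectTransparency false in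
/-- The diagonal of a base change is the base change of the diagonal. -/
theorem isPullback_diagonal_of_isPullback {P X T Y : C} {fst : P ⟶ X} {snd : P ⟶ T} {f : X ⟶ Y}
    {g : T ⟶ Y} (sq : IsPullback fst snd f g) [HasPullback snd snd] [HasPullback f f] :
    IsPullback fst (pullback.diagonal snd) (pullback.diagonal f)
      (pullback.map snd snd f f fst fst g sq.w.symm sq.w.symm) := by
  have w : fst ≫ pullback.diagonal f =
      pullback.diagonal snd ≫ pullback.map snd snd f f fst fst g sq.w.symm sq.w.symm := by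
    apply pullback.hom_ext <;> simp
  have key : ∀ c : PullbackCone (pullback.diagonal f)
      (pullback.map snd snd f f fst fst g sq.w.symm sq.w.symm),
      c.snd ≫ pullback.fst snd snd = c.snd ≫ pullback.snd snd snd ∧
        (c.snd ≫ pullback.fst snd snd) ≫ fst = c.fst := fun c => by
    have h1 := c.condition =≫ pullback.fst f f
    have h2 := c.condition =≫ pullback.snd f f
    simp only [Category.assoc, pullback.diagonal_fst, pullback.diagonal_snd, pullback.lift_fst,
      pullback.lift_snd, Category.comp_id] at h1 h2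
    refine ⟨?_, ?_⟩
    · apply sq.hom_ext
      · rw [Category.assoc, Category.assoc, ← h1, ← h2]
      · rw [Category.assoc, Category.assoc, pullback.condition]
    · rw [Category.assoc, ← h1]
  refine ⟨⟨w⟩, ⟨PullbackCone.IsLimit.mk w (fun c => c.snd ≫ pullback.fst snd snd) ?_ ?_ ?_⟩⟩
  · intro c
    exact (key c).2
  · intro c
    apply pullback.hom_ext
    · simp
    · simp only [Category.assoc, pullback.diagonal_snd, Category.comp_id]
      exact (key c).1
  · intro c m hm1 hm2
    rw [← hm2]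
    simp

set_option backward.isDefEq.respectTransparency false in
/-- `P ×_T P ⟶ X ×_Y X` is a base change of `T ⟶ Y`. -/
theorem isPullback_map_of_isPullback {P X T Y : C} {fst : P ⟶ X} {snd : P ⟶ T} {f : X ⟶ Y}
    {g : T ⟶ Y} (sq : IsPullback fst snd f g) [HasPullback snd snd] [HasPullback f f] :
    IsPullback (pullback.map snd snd f f fst fst g sq.w.symm sq.w.symm) (pullback.fst snd snd ≫ snd)
      (pullback.fst f f ≫ f) g := by
  have w : pullback.map snd snd f f fst fst g sq.w.symm sq.w.symm ≫ pullback.fst f f ≫ f =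
      (pullback.fst snd snd ≫ snd) ≫ g := by
    simp [sq.w]
  have h1 : ∀ c : PullbackCone (pullback.fst f f ≫ f) g,
      (c.fst ≫ pullback.fst f f) ≫ f = c.snd ≫ g := fun c => by
    rw [Category.assoc]; exact c.condition
  have h2 : ∀ c : PullbackCone (pullback.fst f f ≫ f) g,
      (c.fst ≫ pullback.snd f f) ≫ f = c.snd ≫ g := fun c => by
    rw [Category.assoc, ← pullback.condition]; exact c.condition
  refine ⟨⟨w⟩, ⟨PullbackCone.IsLimit.mk w
    (fun c => pullback.lift (sq.lift _ _ (h1 c)) (sq.lift _ _ (h2 c))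
      (by rw [sq.lift_snd, sq.lift_snd])) ?_ ?_ ?_⟩⟩
  · intro c
    apply pullback.hom_ext
    · simp
    · simp
  · intro c
    simp
  · intro c m hm1 hm2
    apply pullback.hom_ext
    · apply sq.hom_ext
      · rw [pullback.lift_fst, sq.lift_fst, ← hm1]; simp
      · rw [pullback.lift_fst, sq.lift_snd, ← hm2]; simp
    · apply sq.hom_ext
      · rw [pullback.lift_snd, sq.lift_fst, ← hm1]; simp
      · rw [pullback.lift_snd, sq.lift_snd, ← hm2]; simp [pullback.condition]

end Groth.Agent.Helper15
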