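import Groth.Agent.Lib.Helper15.AlgSpBasic
import Groth.Agent.Lib.Helper15.CatLemmas

set_option autoImplicit false
universe u

open CategoryTheory CategoryTheory.Limits AlgebraicGeometry Opposite

namespace Groth.Agent.Helper15

open AlgSp

variable {S : Scheme.{u}}

/-- Every map from a representable into a fibre product `X ×_H Y` of sheaves with representable
diagonals is representable. -/
theorem representable_from_yon_of_isPullback {X Y H P : Sp S}
    (hX : Representable (Limits.diag X)) (hY : Representable (Limits.diag Y))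
    {f : X ⟶ H} {g : Y ⟶ H} {fst : P ⟶ X} {snd : P ⟶ Y} (sqP : IsPullback fst snd f g)
    {T : Over S} (t : (yon S).obj T ⟶ P) : Representable t := by
  intro T' t'
  have hXt : Representable (t ≫ fst) := Functor.relativelyRepresentable.of_diag hX _
  have sqA := hXt.isPullback' (t' ≫ fst)
  set a₁ := hXt.fst' (t' ≫ fst)
  set a₂ := hXt.snd (t' ≫ fst)
  set d : (yon S).obj (hXt.pullback (t' ≫ fst)) ⟶ Y ⨯ Y :=
    prod.lift ((yon S).map a₁ ≫ t ≫ snd) ((yon S).map a₂ ≫ t' ≫ snd) with hd
  have sqE := hY.isPullback d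
  refine ⟨hY.pullback d, hY.snd d ≫ a₂, (yon S).map (hY.snd d ≫ a₁), ?_⟩
  rw [Functor.map_comp, Functor.map_comp]
  exact isPullback_into_pullback sqP t t' sqA sqE

/-- The diagonal of a fibre product of sheaves with representable diagonals is representable. -/
theorem representable_diag_of_isPullback {X Y H P : Sp S}
    (hX : Representable (Limits.diag X)) (hY : Representable (Limits.diag Y))
    {f : X ⟶ H} {g : Y ⟶ H} {fst : P ⟶ X} {snd : P ⟶ Y} (sqP : IsPullback fst snd f g) :
    Representable (Limits.diag P) :=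
  Functor.relativelyRepresentable.diag_of_map_from_obj
    (fun _ t => representable_from_yon_of_isPullback hX hY sqP t)

/-- The fibre product of two algebraic spaces over a sheaf with representable diagonal is an
algebraic space. -/
theorem isAlgSpace_of_isPullback {X Y H P : Sp S} (hH : Representable (Limits.diag H))
    (hX : IsAlgSpace X) (hY : IsAlgSpace Y)
    {f : X ⟶ H} {g : Y ⟶ H} {fst : P ⟶ X} {snd : P ⟶ Y} (sqP : IsPullback fst snd f g) :
    IsAlgSpace P := by
  refine ⟨representable_diag_of_isPullback hX.diag hY.diag sqP, ?_⟩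
  obtain ⟨U, pU, hUe, hUs⟩ := hX.atlas
  obtain ⟨V, pV, hVe, hVs⟩ := hY.atlas
  have hHU : Representable (pU ≫ f) := Functor.relativelyRepresentable.of_diag hH _
  have sqW := hHU.isPullback' (pV ≫ g)
  set w₁ := hHU.fst' (pV ≫ g)
  set w₂ := hHU.snd (pV ≫ g)
  -- intermediate object M = X ×_H h_V
  have sqM : IsPullback (pullback.fst f (pV ≫ g)) (pullback.snd f (pV ≫ g)) f (pV ≫ g) :=
    IsPullback.of_hasPullback _ _
  set m₁ := pullback.fst f (pV ≫ g)
  set m₂ := pullback.snd f (pV ≫ g)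
  have hρw : m₁ ≫ f = (m₂ ≫ pV) ≫ g := by rw [Category.assoc]; exact sqM.w
  set ρ := sqP.lift m₁ (m₂ ≫ pV) hρw with hρ
  have hρ1 : ρ ≫ fst = m₁ := sqP.lift_fst _ _ _
  have hρ2 : ρ ≫ snd = m₂ ≫ pV := sqP.lift_snd _ _ _
  have sqρ : IsPullback ρ m₂ snd pV := by
    refine IsPullback.of_right ?_ hρ2 sqP
    rw [hρ1]; exact sqM
  have hσw : ((yon S).map w₁ ≫ pU) ≫ f = (yon S).map w₂ ≫ pV ≫ g := by
    rw [Category.assoc]; exact sqW.w
  set σ := sqM.lift ((yon S).map w₁ ≫ pU) ((yon S).map w₂) hσw with hσ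
  have hσ1 : σ ≫ m₁ = (yon S).map w₁ ≫ pU := sqM.lift_fst _ _ _
  have hσ2 : σ ≫ m₂ = (yon S).map w₂ := sqM.lift_snd _ _ _
  have sqσ : IsPullback σ ((yon S).map w₁) m₁ pU := by
    refine IsPullback.of_right ?_ hσ1 sqM.flip
    rw [hσ2]; exact sqW.flip
  refine ⟨hHU.pullback (pV ≫ g), σ ≫ ρ, ?_, ?_⟩
  · exact (RepWith @Etale).comp_mem _ _
      ((RepWith @Etale).of_isPullback sqσ.flip hUe) ((RepWith @Etale).of_isPullback sqρ.flip hVe)
  · exact (RepWith @Surjective).comp_mem _ _
      ((RepWith @Surjective).of_isPullback sqσ.flip hUs)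
      ((RepWith @Surjective).of_isPullback sqρ.flip hVs)

/-- Lifting an etale chart of the target to an etale chart of the source. -/
theorem exists_chart_lift {X Y : Sp S} (hX : IsAlgSpace X) (a : X ⟶ Y) {V : Over S}
    (q : (yon S).obj V ⟶ Y) (hqe : RepWith @Etale q) (hqs : RepWith @Surjective q) :
    ∃ (U : Over S) (p : (yon S).obj U ⟶ X) (α : U ⟶ V),
      RepWith @Etale p ∧ RepWith @Surjective p ∧ p ≫ a = (yon S).map α ≫ q := by
  obtain ⟨U₀, p₀, h₀e, h₀s⟩ := hX.atlas
  have hq := hqe.rep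
  have sq := hq.isPullback' (p₀ ≫ a)
  refine ⟨hq.pullback (p₀ ≫ a), (yon S).map (hq.snd (p₀ ≫ a)) ≫ p₀, hq.fst' (p₀ ≫ a), ?_, ?_, ?_⟩
  · exact (RepWith @Etale).comp_mem _ _ ((RepWith @Etale).of_isPullback sq hqe) h₀e
  · exact (RepWith @Surjective).comp_mem _ _ ((RepWith @Surjective).of_isPullback sq hqs) h₀s
  · rw [Category.assoc]; exact sq.w.symm

end Groth.Agent.Helper15
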