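import Groth.Agent.Lib.Helper15.AlgSpPoints
import Groth.Agent.Lib.Helper15.AlgSpFibre
import Mathlib.AlgebraicGeometry.Morphisms.UniversallyOpen

set_option autoImplicit false
universe u

open CategoryTheory CategoryTheory.Limits AlgebraicGeometry Opposite

namespace Groth.Agent.Helper15

open AlgSp

variable {S : Scheme.{u}}

/-- `ofPt` of `h_φ` is the point `φ v` of the target scheme. -/
theorem ofPt_yon_map {T T' : Over S} (φ : T ⟶ T') (v : T.left) :
    Points.ofPt ((yon S).map φ) v = Points.ofScheme T' (φ.left v) := by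
  have h1 : Points.toScheme T' (Points.ofPt ((yon S).map φ) v) =
      Points.toScheme T' (Points.ofScheme T' (φ.left v)) := by
    rw [Points.toScheme_ofPt, Points.toScheme_ofScheme]
  have h2 := congrArg (Points.ofScheme T') h1
  rwa [Points.ofScheme_toScheme, Points.ofScheme_toScheme] at h2

/-- Functoriality of `ofPt` in the scheme. -/
theorem ofPt_comp_yon_map {F : Sp S} {T T' : Over S} (φ : T ⟶ T') (g : (yon S).obj T' ⟶ F)
    (v : T.left) : Points.ofPt ((yon S).map φ ≫ g) v = Points.ofPt g (φ.left v) := by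
  rw [← Points.map_ofPt, ofPt_yon_map, ← Points.ofPt_eq_map_ofScheme]

/-- Points of schemes mapping to the same point of `F` come from a point of the fibre product. -/
theorem exists_of_ofPt_eq {F : Sp S} {U T V : Over S} {a : (yon S).obj U ⟶ F}
    {g : (yon S).obj T ⟶ F} {φ : V ⟶ U} {ψ : V ⟶ T}
    (sq : IsPullback ((yon S).map φ) ((yon S).map ψ) a g) (u : U.left) (t : T.left)
    (h : Points.ofPt a u = Points.ofPt g t) : ∃ v : V.left, φ.left v = u ∧ ψ.left v = t := by
  rw [Points.ofPt_eq_map_ofScheme, Points.ofPt_eq_map_ofScheme g] at h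
  obtain ⟨p, hp1, hp2⟩ := exists_point_of_isPullback sq _ _ h
  obtain ⟨v, rfl⟩ := (Points.schemeEquiv V).surjective p
  change Points.map _ (Points.ofScheme V v) = _ at hp1
  change Points.map _ (Points.ofScheme V v) = _ at hp2
  rw [← Points.ofPt_eq_map_ofScheme, ofPt_yon_map] at hp1 hp2
  exact ⟨v, (Points.schemeEquiv U).injective hp1, (Points.schemeEquiv T).injective hp2⟩

/-- A representable map from a scheme all of whose base changes are open maps induces an open map
on points. -/
theorem isOpenMap_ofPt {F : Sp S} {U : Over S} (a : (yon S).obj U ⟶ F) (ha : Representable a)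
    (hopen : ∀ (T : Over S) (g : (yon S).obj T ⟶ F), IsOpenMap (ha.snd g).left) :
    IsOpenMap (Points.ofPt a) := by
  intro W hW
  rw [Points.isOpen_iff]
  intro T g
  have sq := ha.isPullback' g
  have : Points.ofPt g ⁻¹' (Points.ofPt a '' W) =
      (ha.snd g).left '' ((ha.fst' g).left ⁻¹' W) := by
    ext t
    constructor
    · rintro ⟨u, hu, hut⟩
      obtain ⟨v, hv1, hv2⟩ := exists_of_ofPt_eq sq u t hut
      exact ⟨v, by simpa [hv1] using hu, hv2⟩
    · rintro ⟨v, hv, rfl⟩
      refine ⟨(ha.fst' g).left v, hv, ?_⟩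
      rw [← ofPt_comp_yon_map, ← ofPt_comp_yon_map, sq.w]
  rw [this]
  exact hopen T g _ (hW.preimage (ha.fst' g).left.continuous)

/-- An etale chart induces an open map on points. -/
theorem isOpenMap_ofPt_of_etale {F : Sp S} {U : Over S} (a : (yon S).obj U ⟶ F)
    (ha : RepWith @Etale a) : IsOpenMap (Points.ofPt a) := by
  refine isOpenMap_ofPt a ha.rep (fun T g => ?_)
  have : Etale (ha.rep.snd g).left := ha.property_snd g
  exact (ha.rep.snd g).left.isOpenMap

/-- A surjective chart is surjective on points. -/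
theorem surjective_ofPt {F : Sp S} {U : Over S} (a : (yon S).obj U ⟶ F)
    (ha : RepWith @Surjective a) : Function.Surjective (Points.ofPt a) := by
  intro x
  obtain ⟨p, rfl⟩ := isSurjectiveMor_of_repWith_surjective a ha x
  obtain ⟨u, rfl⟩ := (Points.schemeEquiv U).surjective p
  exact ⟨u, Points.ofPt_eq_map_ofScheme a u⟩

/-- A quasi-compact sheaf has a quasi-compact space of points. -/
theorem compactSpace_points_of_isQuasiCompactSp {F : Sp S} (h : IsQuasiCompactSp F) :
    CompactSpace (Points F) := by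
  obtain ⟨U, p, -, hps, hU⟩ := h
  haveI : CompactSpace U.left := hU
  exact (surjective_ofPt p hps).compactSpace (Points.continuous_ofPt p)

/-- A sheaf with an etale surjective chart... more precisely: given any etale surjective chart
`q₀ : h_{V₀} ⟶ F`, if `Points F` is quasi-compact then `F` is quasi-compact. -/
theorem isQuasiCompactSp_of_compactSpace_points' {F : Sp S} {V₀ : Over S}
    (q₀ : (yon S).obj V₀ ⟶ F) (hqe : RepWith @Etale q₀) (hqs : RepWith @Surjective q₀)
    [CompactSpace (Points F)] : IsQuasiCompactSp F := by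
  have hopen := isOpenMap_ofPt_of_etale q₀ hqe
  have hsurj := surjective_ofPt q₀ hqs
  -- cover by images of affine opens
  have hcover : (Set.univ : Set (Points F)) ⊆
      ⋃ O : V₀.left.affineOpens, Points.ofPt q₀ '' (O.1 : Set V₀.left) := by
    intro x _
    obtain ⟨v, rfl⟩ := hsurj x
    obtain ⟨_, ⟨O, hO, rfl⟩, hvO, -⟩ :=
      (V₀.left.isBasis_affineOpens).exists_subset_of_mem_open (Set.mem_univ v) isOpen_univ
    exact Set.mem_iUnion.2 ⟨⟨O, hO⟩, ⟨v, hvO, rfl⟩⟩
  obtain ⟨t, ht⟩ := isCompact_univ.elim_finite_subcover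
    (fun O : V₀.left.affineOpens => Points.ofPt q₀ '' (O.1 : Set V₀.left))
    (fun O => hopen _ O.1.isOpen) hcover
  let V' : V₀.left.Opens := ⨆ O ∈ t, (O : V₀.left.affineOpens).1
  have hV'c : IsCompact (V' : Set V₀.left) := by
    have : (V' : Set V₀.left) = ⋃ O ∈ t, ((O : V₀.left.affineOpens).1 : Set V₀.left) := by
      simp [V']
    rw [this]
    exact t.isCompact_biUnion (fun O _ => O.2.isCompact)
  let V'' : Over S := Over.mk (V'.ι ≫ V₀.hom)
  let j : V'' ⟶ V₀ := Over.homMk V'.ι rfl
  have hje : RepWith @Etale ((yon S).map j) :=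
    (repWith_yon_map_iff _ j).2 (show Etale V'.ι from inferInstance)
  have hqe' : RepWith @Etale ((yon S).map j ≫ q₀) := (RepWith @Etale).comp_mem _ _ hje hqe
  refine ⟨V'', (yon S).map j ≫ q₀, hqe', ?_, ?_⟩
  · apply repWith_surjective_of_isSurjectiveMor _ hqe'.rep
    intro x
    have hx := ht (Set.mem_univ x)
    simp only [Set.mem_iUnion] at hx
    obtain ⟨O, hOt, v, hvO, rfl⟩ := hx
    have hvV' : v ∈ V' := by
      simp only [V', TopologicalSpace.Opens.mem_iSup]
      exact ⟨O, hOt, hvO⟩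
    refine ⟨Points.ofScheme V'' ⟨v, hvV'⟩, ?_⟩
    rw [← Points.ofPt_eq_map_ofScheme, ofPt_comp_yon_map]
    rfl
  · exact isCompact_iff_compactSpace.1 hV'c

theorem isQuasiCompactSp_of_compactSpace_points {F : Sp S} (hF : IsAlgSpace F)
    [CompactSpace (Points F)] : IsQuasiCompactSp F := by
  obtain ⟨V₀, q₀, hqe, hqs⟩ := hF.atlas
  exact isQuasiCompactSp_of_compactSpace_points' q₀ hqe hqs

theorem isQuasiCompactSp_iff_compactSpace_points {F : Sp S} (hF : IsAlgSpace F) :
    IsQuasiCompactSp F ↔ CompactSpace (Points F) :=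
  ⟨compactSpace_points_of_isQuasiCompactSp, fun _ => isQuasiCompactSp_of_compactSpace_points hF⟩

/-- A quasi-compact open subset of the space of points is the image of a quasi-compact scheme under
an etale map. -/
theorem exists_compact_chart_of_isCompact_isOpen {F : Sp S} {V₀ : Over S}
    (q₀ : (yon S).obj V₀ ⟶ F) (hqe : RepWith @Etale q₀) (hqs : RepWith @Surjective q₀)
    (V : Set (Points F)) (hV : IsOpen V) (hVc : IsCompact V) :
    ∃ (U' : Over S) (g : (yon S).obj U' ⟶ F), RepWith @Etale g ∧ CompactSpace U'.left ∧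
      Set.range (Points.ofPt g) = V := by
  have hopen := isOpenMap_ofPt_of_etale q₀ hqe
  have hsurj := surjective_ofPt q₀ hqs
  have hpre : IsOpen (Points.ofPt q₀ ⁻¹' V) := hV.preimage (Points.continuous_ofPt q₀)
  let I := {O : V₀.left.affineOpens // (O.1 : Set V₀.left) ⊆ Points.ofPt q₀ ⁻¹' V}
  have hcover : V ⊆ ⋃ O : I, Points.ofPt q₀ '' (O.1.1 : Set V₀.left) := by
    intro x hx
    obtain ⟨v, rfl⟩ := hsurj x
    obtain ⟨_, ⟨O, hO, rfl⟩, hvO, hOV⟩ :=
      (V₀.left.isBasis_affineOpens).exists_subset_of_mem_open (show v ∈ Points.ofPt q₀ ⁻¹' V from hx)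
        hpre
    exact Set.mem_iUnion.2 ⟨⟨⟨O, hO⟩, hOV⟩, ⟨v, hvO, rfl⟩⟩
  obtain ⟨t, ht⟩ := hVc.elim_finite_subcover
    (fun O : I => Points.ofPt q₀ '' (O.1.1 : Set V₀.left))
    (fun O => hopen _ O.1.1.isOpen) hcover
  let V' : V₀.left.Opens := ⨆ O ∈ t, (O : I).1.1
  have hV'c : IsCompact (V' : Set V₀.left) := by
    have : (V' : Set V₀.left) = ⋃ O ∈ t, ((O : I).1.1 : Set V₀.left) := by
      simp [V']
    rw [this]
    exact t.isCompact_biUnion (fun O _ => O.1.2.isCompact)
  let V'' : Over S := Over.mk (V'.ι ≫ V₀.hom)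
  let j : V'' ⟶ V₀ := Over.homMk V'.ι rfl
  have hje : RepWith @Etale ((yon S).map j) :=
    (repWith_yon_map_iff _ j).2 (show Etale V'.ι from inferInstance)
  refine ⟨V'', (yon S).map j ≫ q₀, (RepWith @Etale).comp_mem _ _ hje hqe,
    isCompact_iff_compactSpace.1 hV'c, ?_⟩
  apply Set.Subset.antisymm
  · rintro _ ⟨v', rfl⟩
    rw [ofPt_comp_yon_map]
    have hv' : (j.left v') ∈ V' := v'.2
    simp only [V', TopologicalSpace.Opens.mem_iSup] at hv'
    obtain ⟨O, -, hvO⟩ := hv'
    exact O.2 hvO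
  · intro x hx
    have hx' := ht hx
    simp only [Set.mem_iUnion] at hx'
    obtain ⟨O, hOt, v, hvO, rfl⟩ := hx'
    have hvV' : v ∈ V' := by
      simp only [V', TopologicalSpace.Opens.mem_iSup]
      exact ⟨O, hOt, hvO⟩
    refine ⟨⟨v, hvV'⟩, ?_⟩
    rw [ofPt_comp_yon_map]
    rfl

/-- For a quasi-compact morphism, preimages of quasi-compact opens are quasi-compact. -/
theorem isCompact_preimage_of_isQuasiCompactMor {X Y : Sp S} (hY : IsAlgSpace Y) (f : X ⟶ Y)
    (hf : IsQuasiCompactMor f) (V : Set (Points Y)) (hV : IsOpen V) (hVc : IsCompact V) :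
    IsCompact (Points.map f ⁻¹' V) := by
  obtain ⟨V₀, q₀, hqe, hqs⟩ := hY.atlas
  obtain ⟨U', g, hge, hU', hrange⟩ := exists_compact_chart_of_isCompact_isOpen q₀ hqe hqs V hV hVc
  have sq : IsPullback (pullback.fst f g) (pullback.snd f g) f g := IsPullback.of_hasPullback _ _
  have hZ : IsQuasiCompactSp ((yon S).obj U') :=
    ⟨U', 𝟙 _, repWith_id _ U', repWith_id _ U', hU'⟩
  have hZ' := hf (IsAlgSpace.yon_obj U') hZ g _ _ sq
  haveI := compactSpace_points_of_isQuasiCompactSp hZ'
  have : Points.map f ⁻¹' V = Set.range (Points.map (pullback.fst f g)) := by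
    ext x
    constructor
    · intro hx
      rw [← hrange] at hx
      obtain ⟨u', hu'⟩ := hx
      rw [Points.ofPt_eq_map_ofScheme] at hu'
      obtain ⟨p, hp, -⟩ := exists_point_of_isPullback sq x _ hu'.symm
      exact ⟨p, hp⟩
    · rintro ⟨p, rfl⟩
      change Points.map f (Points.map _ p) ∈ V
      rw [← Points.map_comp, sq.w, Points.map_comp, ← hrange]
      obtain ⟨u', hu'⟩ := (Points.schemeEquiv U').surjective (Points.map (pullback.snd f g) p)
      refine ⟨u', ?_⟩
      rw [Points.ofPt_eq_map_ofScheme]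
      exact congrArg (Points.map g) hu'
  rw [this]
  exact isCompact_range (Points.continuous_map _)

/-- A quasi-compact scheme admits an etale surjection from an affine scheme. -/
theorem exists_affine_etale_surjective_of_compactSpace (U : Scheme.{u}) [CompactSpace U] :
    ∃ (U' : Scheme.{u}) (j : U' ⟶ U), IsAffine U' ∧ Etale j ∧ Surjective j := by
  let 𝒰 := U.affineCover.finiteSubcover
  haveI : ∀ i, IsAffine (𝒰.X i) := fun i => by
    dsimp [𝒰, Scheme.OpenCover.finiteSubcover]; infer_instance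
  refine ⟨∐ 𝒰.X, Sigma.desc 𝒰.f, inferInstance,
    IsZariskiLocalAtSource.sigmaDesc (fun i => inferInstance), inferInstance⟩

/-- A quasi-compact sheaf has an affine etale surjective chart. -/
theorem exists_affine_chart_of_isQuasiCompactSp {F : Sp S} (h : IsQuasiCompactSp F) :
    ∃ (U : Over S) (p : (yon S).obj U ⟶ F),
      IsAffine U.left ∧ RepWith @Etale p ∧ RepWith @Surjective p := by
  obtain ⟨U, p, hpe, hps, hU⟩ := h
  haveI : CompactSpace U.left := hU
  obtain ⟨U', j, hU', hje, hjs⟩ := exists_affine_etale_surjective_of_compactSpace U.left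
  let U'' : Over S := Over.mk (j ≫ U.hom)
  let j' : U'' ⟶ U := Over.homMk j rfl
  refine ⟨U'', (yon S).map j' ≫ p, hU', ?_, ?_⟩
  · exact (RepWith @Etale).comp_mem _ _ ((repWith_yon_map_iff _ j').2 hje) hpe
  · exact (RepWith @Surjective).comp_mem _ _ ((repWith_yon_map_iff _ j').2 hjs) hps

theorem isQuasiCompactSp_iff_exists_affine_chart {F : Sp S} :
    IsQuasiCompactSp F ↔ ∃ (U : Over S) (p : (yon S).obj U ⟶ F),
      IsAffine U.left ∧ RepWith @Etale p ∧ RepWith @Surjective p := by
  refine ⟨exists_affine_chart_of_isQuasiCompactSp, ?_⟩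
  rintro ⟨U, p, hU, hpe, hps⟩
  exact ⟨U, p, hpe, hps, inferInstance⟩

end Groth.Agent.Helper15
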