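import Mathlib
import Groth.Prelude
import Groth.Agent.Lib.Helper1.WE1
import Groth.Agent.Lib.Helper1.BRN3
import Groth.Agent.Lib.Helper1.SHznMax
import Groth.Agent.Lib.Helper1.SH2
import Groth.Agent.Lib.Helper12.GorFlatMain
import Groth.Agent.Lib.Helper12.EtStalk
import Groth.Agent.Lib.Helper16.Alg.FlatLocalDescent
import Groth.Agent.Lib.Helper3.DiagFlat

/-!
# Gorenstein homomorphisms and strict henselization (helper15)
-/

set_option autoImplicit false
set_option linter.unusedSectionVars false
set_option linter.unusedVariables false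
set_option linter.style.haveILetI false
universe u

namespace Groth.Agent.Helper15.GorSH
open IsLocalRing

/-- Gorenstein-ness of a Noetherian local ring and of a strict henselization agree. -/
theorem gor_iff_of_isStrictHenselization (C D : Type u) [CommRing C] [IsLocalRing C]
    [IsNoetherianRing C] [CommRing D] [IsLocalRing D] [Algebra C D] [IsLocalHom (algebraMap C D)]
    [Hensel.IsStrictHenselization C D] :
    LocCoh.IsGorensteinLocalRing D ↔ LocCoh.IsGorensteinLocalRing C := by
  haveI : IsNoetherianRing D :=
    (Groth.Agent.Helper1.HFlat.isNoetherianRing_iff_of_isStrictHenselization C D).1 inferInstance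
  haveI hff : Module.FaithfullyFlat C D :=
    Groth.Agent.Helper1.HFlat.faithfullyFlat_of_isStrictHenselization C D
  haveI : Module.Flat C D := hff.toFlat
  have hmax := Groth.Agent.Helper1.SHzn.map_maximalIdeal_eq_of_isStrictHenselization C D
  rw [Groth.Agent.Helper12.GorFlatLoc.main C D]
  constructor
  · exact fun h => h.1
  · intro h
    refine ⟨h, ?_⟩
    have hne : (maximalIdeal C).map (algebraMap C D) ≠ ⊤ := by
      rw [hmax]; exact (maximalIdeal.isMaximal D).ne_top
    haveI : Nontrivial (D ⧸ (maximalIdeal C).map (algebraMap C D)) :=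
      Ideal.Quotient.nontrivial_iff.mpr hne
    haveI : IsLocalRing (D ⧸ (maximalIdeal C).map (algebraMap C D)) :=
      IsLocalRing.of_surjective' (Ideal.Quotient.mk _) Ideal.Quotient.mk_surjective
    apply Groth.Agent.Helper12.EtStalk.gor_of_maximalIdeal_eq_bot
    rw [← IsLocalRing.map_maximalIdeal_of_surjective (Ideal.Quotient.mk _)
      Ideal.Quotient.mk_surjective, ← hmax, Ideal.map_quotient_self]


/-- Flatness and Gorenstein-ness of the closed fibre of a local homomorphism can be tested after
strict henselization of source and target. -/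
theorem flat_gor_iff_strictHenselization {A B R' R : Type u} [CommRing A] [IsLocalRing A]
    [CommRing B] [IsLocalRing B] (σ : A →+* B) [IsLocalHom σ]
    [CommRing R'] [IsLocalRing R'] [Algebra A R'] [IsLocalHom (algebraMap A R')]
    [Hensel.IsStrictHenselization A R']
    [CommRing R] [IsLocalRing R] [Algebra B R] [IsLocalHom (algebraMap B R)]
    [Hensel.IsStrictHenselization B R]
    (φ : R' →+* R) [IsLocalHom φ] (hφ : φ.comp (algebraMap A R') = (algebraMap B R).comp σ)
    (hN : IsNoetherianRing (B ⧸ (maximalIdeal A).map σ)) :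
    (σ.Flat ∧ LocCoh.IsGorensteinLocalRing (B ⧸ (maximalIdeal A).map σ)) ↔
      (φ.Flat ∧ LocCoh.IsGorensteinLocalRing (R ⧸ (maximalIdeal R').map φ)) := by
  have hflat : σ.Flat ↔ φ.Flat := by
    letI algAB : Algebra A B := σ.toAlgebra
    letI algAR : Algebra A R := ((algebraMap B R).comp σ).toAlgebra
    letI algR'R : Algebra R' R := φ.toAlgebra
    haveI : IsScalarTower A B R := IsScalarTower.of_algebraMap_eq (fun _ => rfl)
    haveI : IsScalarTower A R' R :=
      IsScalarTower.of_algebraMap_eq (fun a => (congrArg (fun f => f a) hφ).symm)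
    have hwe := Groth.Agent.Helper1.WE.weaklyEtale_of_isStrictHenselization A R'
    haveI hffB : Module.FaithfullyFlat B R :=
      Groth.Agent.Helper1.HFlat.faithfullyFlat_of_isStrictHenselization B R
    constructor
    · intro h
      haveI : Module.Flat A B := h
      haveI : Module.Flat B R := hffB.toFlat
      haveI : Module.Flat A R := Module.Flat.trans A B R
      exact Groth.Agent.Helper3.DiagFlat.flat_of_flat_lmul' A R' R
        (Algebra.WeaklyEtale.flat_lmul' A R')
    · intro h
      haveI : Module.Flat R' R := h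
      haveI : Module.Flat A R' := hwe.flat
      haveI : Module.Flat A R := Module.Flat.trans A R' R
      exact Groth.Agent.Helper16.FlatLocalDescent.flat_of_faithfullyFlat_of_flat A B R
  -- the Gorenstein part
  obtain ⟨I, hIdef⟩ : ∃ I : Ideal B, I = (maximalIdeal A).map σ := ⟨_, rfl⟩
  have hIle : I ≤ maximalIdeal B := by
    rw [hIdef, Ideal.map_le_iff_le_comap]
    intro a ha
    exact map_nonunit σ a ha
  have hI : I ≠ ⊤ := fun h =>
    (maximalIdeal.isMaximal B).ne_top (top_le_iff.mp (h ▸ hIle))
  have hJ : (maximalIdeal R').map φ = I.map (algebraMap B R) := by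
    rw [← Groth.Agent.Helper1.SHzn.map_maximalIdeal_eq_of_isStrictHenselization A R',
      Ideal.map_map, hφ, ← Ideal.map_map, hIdef]
  have hgor : LocCoh.IsGorensteinLocalRing (R ⧸ I.map (algebraMap B R)) ↔
      LocCoh.IsGorensteinLocalRing (B ⧸ I) := by
    letI : Algebra (B ⧸ I) (R ⧸ I.map (algebraMap B R)) :=
      (Ideal.quotientMap (I.map (algebraMap B R)) (algebraMap B R) Ideal.le_comap_map).toAlgebra
    obtain ⟨hl1, hl2, hl3, hsh⟩ :=
      Groth.Agent.Helper1.BRN.isStrictHenselization_quotient_map B R I hI
    haveI : IsNoetherianRing (B ⧸ I) := by rw [hIdef]; exact hN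
    exact gor_iff_of_isStrictHenselization (B ⧸ I) (R ⧸ I.map (algebraMap B R))
  rw [hflat, ← hIdef, ← hgor,
    Groth.Agent.Helper12.GorFlatLoc.gor_iff_of_ringEquiv (Ideal.quotEquivOfEq hJ)]

end Groth.Agent.Helper15.GorSH
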