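import Mathlib
import Groth.Prelude
import Groth.Agent.Lib.Helper15.GorSH1
import Groth.Agent.Lib.Helper19.GorSp.TFAE
import Groth.Agent.Lib.Helper12.GorSch
import Groth.Agent.Lib.Helper15.AlgSpNoeth
import Groth.Agent.Lib.Helper15.AlgSpPoints
import Groth.Agent.Lib.Helper15.AlgSpTop

/-!
# Flat morphisms from Gorenstein algebraic spaces (helper15)
-/

set_option autoImplicit false
set_option linter.unusedSectionVars false
set_option linter.unusedVariables false
set_option linter.style.haveILetI false
universe u
open CategoryTheory CategoryTheory.Limits AlgebraicGeometry MorphismProperty Opposite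

namespace Groth.Agent.Helper15.GorSH
open AlgSp Groth.Agent.Helper15 Groth.Agent.Helper16.AS

variable {S : Scheme.{u}}

/-- Every scheme etale over a Gorenstein locally Noetherian algebraic space has Gorenstein local
rings. -/
theorem gor_stalk_of_etale_chart {X : Sp S} (hX1 : IsLocNoethSp X)
    (hX2 : EtaleLocally Dual3.IsGorenstein X) {U : Over S} (a : (yon S).obj U ⟶ X)
    (ha : RepWith @Etale a) (u : U.left) :
    LocCoh.IsGorensteinLocalRing (U.left.presheaf.stalk u) := by
  obtain ⟨U₀, p₀, hp₀e, hp₀s, hU₀n, hU₀g⟩ := hX2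
  have hrep := ha.rep
  have sq := hrep.isPullback' p₀
  haveI : IsLocallyNoetherian U₀.left := hU₀n
  haveI : IsLocallyNoetherian U.left := isLocallyNoetherian_of_etale_of_isLocNoethSp hX1 a ha
  haveI hsndE : Etale (hrep.snd p₀).left := ha.property_snd p₀
  haveI : IsLocallyNoetherian (hrep.pullback p₀).left :=
    LocallyOfFiniteType.isLocallyNoetherian (hrep.snd p₀).left
  haveI hfstE : Etale (hrep.fst' p₀).left := hp₀e.property a _ _ sq.flip
  haveI hfstS : Surjective (hrep.fst' p₀).left := hp₀s.property a _ _ sq.flip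
  obtain ⟨w, hw⟩ := (hrep.fst' p₀).left.surjective u
  have h1 := Groth.Agent.Helper12.EtStalk.gor_stalk_iff_of_etale (hrep.snd p₀).left w
  have h2 := Groth.Agent.Helper12.EtStalk.gor_stalk_iff_of_etale (hrep.fst' p₀).left w
  rw [hw] at h2
  exact h2.1 (h1.2 (hU₀g _))


/-- S10691, first part. -/
theorem locPAt_gor_of_flat_of_gor {X Y : Sp S} (f : X ⟶ Y) (hf : LocP @Flat f)
    (hX1 : IsLocNoethSp X) (hY1 : IsLocNoethSp Y) (hX2 : EtaleLocally Dual3.IsGorenstein X)
    (x : Points X) : LocPAt (fun h u => Dual3.IsGorensteinAt h u) f x := by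
  intro U V a b h u ha hb comm hux
  haveI : IsLocallyNoetherian V.left := isLocallyNoetherian_of_etale_of_isLocNoethSp hY1 b hb
  haveI : Flat h.left := hf a b h ha hb comm
  exact (Groth.Agent.Helper12.GorSch.isGorensteinAt_of_gor_stalk h.left u (Flat.stalkMap h.left u)
    (gor_stalk_of_etale_chart hX1 hX2 a ha u)).1

/-- S10691, second part: the local rings of etale charts of the target at points in the image are
Gorenstein. -/
theorem gor_stalk_target_of_flat_of_gor {X Y : Sp S} (hX : IsAlgSpace X) (hY : IsAlgSpace Y)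
    (f : X ⟶ Y) (hf : LocP @Flat f)
    (hX1 : IsLocNoethSp X) (hY1 : IsLocNoethSp Y) (hX2 : EtaleLocally Dual3.IsGorenstein X)
    (x : Points X) {V : Over S} (b : (yon S).obj V ⟶ Y) (hb : RepWith @Etale b) (v : V.left)
    (hv : Points.ofPt b v = Points.map f x) :
    LocCoh.IsGorensteinLocalRing (V.left.presheaf.stalk v) := by
  obtain ⟨U, a, h, comm, hae, -, hsurj⟩ :=
    Groth.Agent.Helper19.GorSp.exists_chart_of_base hX hY f b hb
  have hmap : Points.map f x = Points.map b (Points.ofScheme V v) := by
    rw [← hv]; exact Points.ofPt_eq_map_ofScheme b v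
  obtain ⟨p, hp1, hp2⟩ := exists_point_of_isPullback (IsPullback.of_hasPullback f b) x
    (Points.ofScheme V v) hmap
  obtain ⟨u, hu⟩ := surjective_ofPt _ hsurj p
  have huv : h.left u = v := by
    have h1 : Points.ofPt ((yon S).map h) u = Points.ofScheme V v := by
      rw [← hp2, ← hu, Points.map_ofPt, pullback.lift_snd]
    rw [ofPt_yon_map] at h1
    exact (Points.schemeEquiv V).injective h1
  haveI : IsLocallyNoetherian V.left := isLocallyNoetherian_of_etale_of_isLocNoethSp hY1 b hb
  haveI : Flat h.left := hf a b h hae hb comm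
  have := (Groth.Agent.Helper12.GorSch.isGorensteinAt_of_gor_stalk h.left u
    (Flat.stalkMap h.left u) (gor_stalk_of_etale_chart hX1 hX2 a hae u)).2
  rw [huv] at this
  exact this

end Groth.Agent.Helper15.GorSH
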