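import Mathlib
import Groth.Prelude
import Groth.Agent.Lib.Helper15.GorSH2
import Groth.Agent.Lib.Helper1.UB4
import Groth.Agent.Lib.Helper1.EL4
import Groth.Agent.Lib.Helper1.SHznUniv

/-!
# Geometric unibranchness descends along flat local homomorphisms (helper15)
-/

set_option autoImplicit false
set_option linter.unusedSectionVars false
set_option linter.unusedVariables false
set_option linter.style.haveILetI false
universe u
open CategoryTheory CategoryTheory.Limits AlgebraicGeometry MorphismProperty Opposite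

namespace Groth.Agent.Helper15.GUFlat
open IsLocalRing

/-- Flatness of a local homomorphism can be tested on strict henselizations. -/
theorem flat_iff_strictHenselization {A B R' R : Type u} [CommRing A] [IsLocalRing A]
    [CommRing B] [IsLocalRing B] (σ : A →+* B)
    [CommRing R'] [IsLocalRing R'] [Algebra A R'] [IsLocalHom (algebraMap A R')]
    [Hensel.IsStrictHenselization A R']
    [CommRing R] [IsLocalRing R] [Algebra B R] [IsLocalHom (algebraMap B R)]
    [Hensel.IsStrictHenselization B R]
    (φ : R' →+* R) (hφ : φ.comp (algebraMap A R') = (algebraMap B R).comp σ) :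
    σ.Flat ↔ φ.Flat := by
  letI algAB : Algebra A B := σ.toAlgebra
  letI algAR : Algebra A R := ((algebraMap B R).comp σ).toAlgebra
  letI algR'R : Algebra R' R := φ.toAlgebra
  haveI : IsScalarTower A B R := IsScalarTower.of_algebraMap_eq (fun _ => rfl)
  haveI : IsScalarTower A R' R :=
    IsScalarTower.of_algebraMap_eq (fun a => (congrArg (fun f => f a) hφ).symm)
  have hwe := Groth.Agent.Helper1.WE.weaklyEtale_of_isStrictHenselization A R'
  haveI hffB : Module.FaithfullyFlat B R :=
    Groth.Agent.Helper1.HFlat.faithfullyFlat_of_isStrictHenselization B R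
  constructor
  · intro h
    haveI : Module.Flat A B := h
    haveI : Module.Flat B R := hffB.toFlat
    haveI : Module.Flat A R := Module.Flat.trans A B R
    exact Groth.Agent.Helper3.DiagFlat.flat_of_flat_lmul' A R' R
      (Algebra.WeaklyEtale.flat_lmul' A R')
  · intro h
    haveI : Module.Flat R' R := h
    haveI : Module.Flat A R' := hwe.flat
    haveI : Module.Flat A R := Module.Flat.trans A R' R
    exact Groth.Agent.Helper16.FlatLocalDescent.flat_of_faithfullyFlat_of_flat A B R

/-- Uniqueness of the minimal prime descends along ring maps that are surjective on spectra. -/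
theorem hasUniqueMinimalPrime_of_comap_surjective {R' R : Type u} [CommRing R'] [CommRing R]
    [Nontrivial R'] (φ : R' →+* R) (hsurj : Function.Surjective (PrimeSpectrum.comap φ))
    (h : CAlgX.HasUniqueMinimalPrime R) : CAlgX.HasUniqueMinimalPrime R' := by
  obtain ⟨q, hq, hquniq⟩ := h
  haveI : q.IsPrime := hq.1.1
  have key : ∀ p ∈ minimalPrimes R', p = q.comap φ := by
    intro p hp
    haveI : p.IsPrime := hp.1.1
    obtain ⟨⟨q', hq'⟩, hq'p⟩ := hsurj ⟨p, inferInstance⟩
    have hq'p' : q'.comap φ = p := congrArg PrimeSpectrum.asIdeal hq'p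
    obtain ⟨q₀, hq₀, hq₀le⟩ := Ideal.exists_minimalPrimes_le (show (⊥ : Ideal R) ≤ q' from bot_le)
    have : q₀ = q := hquniq q₀ hq₀
    rw [this] at hq₀le
    have hle : q.comap φ ≤ p := by rw [← hq'p']; exact Ideal.comap_mono hq₀le
    exact le_antisymm (hp.2 ⟨inferInstance, bot_le⟩ hle) hle
  obtain ⟨M, hM⟩ := Ideal.exists_maximal R'
  haveI : M.IsPrime := hM.isPrime
  obtain ⟨p₀, hp₀, -⟩ := Ideal.exists_minimalPrimes_le (show (⊥ : Ideal R') ≤ M from bot_le)
  exact ⟨p₀, hp₀, fun p hp => (key p hp).trans (key p₀ hp₀).symm⟩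

/-- Geometric unibranchness descends along flat local homomorphisms. -/
theorem isGeomUnibranch_of_flat_local {A B : Type u} [CommRing A] [IsLocalRing A]
    [CommRing B] [IsLocalRing B] (σ : A →+* B) [IsLocalHom σ] (hσ : σ.Flat)
    (hB : CAlg2.IsGeomUnibranch B) : CAlg2.IsGeomUnibranch A := by
  haveI := Groth.Agent.Helper1.SHzn.isStrictHenselization A
  haveI := Groth.Agent.Helper1.SHzn.isStrictHenselization B
  have hhens : HenselianLocalRing (Groth.Agent.Helper1.SHzn.S B) :=
    Hensel.IsStrictHenselization.henselian (R := B)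
  haveI := hhens
  have hsc : IsSepClosed (ResidueField (Groth.Agent.Helper1.SHzn.S B)) :=
    (Hensel.IsStrictHenselization.isSepClosure (R := B)
      (S := Groth.Agent.Helper1.SHzn.S B)).sep_closed
  haveI : IsLocalHom ((algebraMap B (Groth.Agent.Helper1.SHzn.S B)).comp σ) :=
    RingHom.isLocalHom_comp _ _
  obtain ⟨τ, φ, hτ, hφ, hres⟩ :=
    Groth.Agent.Helper1.EL.exists_map_of_isStrictHenselization (A := A)
      (RS := Groth.Agent.Helper1.SHzn.S A) (Groth.Agent.Helper1.SHzn.S B) hsc
      ((algebraMap B (Groth.Agent.Helper1.SHzn.S B)).comp σ)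
  haveI : IsLocalHom φ := Groth.Agent.Helper1.EL.isLocalHom_of_residue φ τ hres
  have hflat : φ.Flat := (flat_iff_strictHenselization σ φ hφ).1 hσ
  rw [Groth.Agent.Helper1.UB.geomUnibranch_iff_hasUniqueMinimalPrime A
    (Groth.Agent.Helper1.SHzn.S A)]
  rw [Groth.Agent.Helper1.UB.geomUnibranch_iff_hasUniqueMinimalPrime B
    (Groth.Agent.Helper1.SHzn.S B)] at hB
  apply hasUniqueMinimalPrime_of_comap_surjective φ _ hB
  letI : Algebra (Groth.Agent.Helper1.SHzn.S A) (Groth.Agent.Helper1.SHzn.S B) := φ.toAlgebra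
  haveI : Module.Flat (Groth.Agent.Helper1.SHzn.S A) (Groth.Agent.Helper1.SHzn.S B) := hflat
  haveI : IsLocalHom (algebraMap (Groth.Agent.Helper1.SHzn.S A) (Groth.Agent.Helper1.SHzn.S B)) :=
    ‹IsLocalHom φ›
  haveI : Module.FaithfullyFlat (Groth.Agent.Helper1.SHzn.S A) (Groth.Agent.Helper1.SHzn.S B) :=
    Module.FaithfullyFlat.of_flat_of_isLocalHom
  exact PrimeSpectrum.comap_surjective_of_faithfullyFlat


open AlgSp Groth.Agent.Helper15 Groth.Agent.Helper16.AS

variable {S : Scheme.{u}}

/-- A chart diagram through a given point of the source and a given point of an etale chart of the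
target over its image. -/
theorem exists_chart_through {X Y : Sp S} (hX : IsAlgSpace X) (hY : IsAlgSpace Y) (f : X ⟶ Y)
    {V : Over S} (b : (yon S).obj V ⟶ Y) (hb : RepWith @Etale b) (x : Points X) (w : V.left)
    (hw : Points.ofPt b w = Points.map f x) :
    ∃ (U : Over S) (a : (yon S).obj U ⟶ X) (h : U ⟶ V) (u : U.left),
      RepWith @Etale a ∧ a ≫ f = (yon S).map h ≫ b ∧ Points.ofPt a u = x ∧ h.left u = w := by
  obtain ⟨U, a, h, comm, hae, -, hsurj⟩ :=
    Groth.Agent.Helper19.GorSp.exists_chart_of_base hX hY f b hb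
  have hmap : Points.map f x = Points.map b (Points.ofScheme V w) := by
    rw [← hw]; exact Points.ofPt_eq_map_ofScheme b w
  obtain ⟨p, hp1, hp2⟩ := exists_point_of_isPullback (IsPullback.of_hasPullback f b) x
    (Points.ofScheme V w) hmap
  obtain ⟨u, hu⟩ := surjective_ofPt _ hsurj p
  refine ⟨U, a, h, u, hae, comm, ?_, ?_⟩
  · rw [← hp1, ← hu, Points.map_ofPt, pullback.lift_fst]
  · have h1 : Points.ofPt ((yon S).map h) u = Points.ofScheme V w := by
      rw [← hp2, ← hu, Points.map_ofPt, pullback.lift_snd]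
    rw [ofPt_yon_map] at h1
    exact (Points.schemeEquiv V).injective h1

/-- S10579. -/
theorem isGeomUnibranch_target_of_isFlatAtMor {X Y : Sp S} (hX : IsAlgSpace X) (hY : IsAlgSpace Y)
    (f : X ⟶ Y) (x : Points X) (hf : IsFlatAtMor f x)
    (hXu : ∀ (U : Over S) (a : (yon S).obj U ⟶ X) (v : ↥U.left), RepWith @Etale a →
      Points.ofPt a v = x → CAlg2.IsGeomUnibranch ↥(U.left.presheaf.stalk v))
    (V : Over S) (b : (yon S).obj V ⟶ Y) (w : ↥V.left) (hb : RepWith @Etale b)
    (hw : Points.ofPt b w = Points.map f x) :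
    CAlg2.IsGeomUnibranch ↥(V.left.presheaf.stalk w) := by
  obtain ⟨U, a, h, u, hae, comm, hux, huw⟩ := exists_chart_through hX hY f b hb x w hw
  subst huw
  have hflat : (h.left.stalkMap u).hom.Flat := hf a b h u hae hb comm hux
  exact isGeomUnibranch_of_flat_local (h.left.stalkMap u).hom hflat (hXu U a u hae hux)

end Groth.Agent.Helper15.GUFlat
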