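import Mathlib
import Groth.Prelude
import Groth.Agent.Lib.Helper15.GUFlat1
import Groth.Agent.Lib.Helper1.SH7
import Groth.Agent.Lib.Helper1.GU5
import Groth.Agent.Lib.Helper1.GU4
import Groth.Agent.Lib.Helper1.UB4
import Groth.Agent.Lib.Helper1.SHznUniv

/-!
# Geometric unibranchness and the strict henselization: ascent along the finite towers (helper15)
-/

set_option autoImplicit false
set_option linter.unusedSectionVars false
set_option linter.unusedVariables false
set_option linter.style.haveILetI false
universe u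

namespace Groth.Agent.Helper15.GUPunct
open IsLocalRing Polynomial Groth.Agent.Helper1 Groth.Agent.Helper1.HFlat

theorem gu_congr {A : Type u} [CommRing A] {p p' : Ideal A} [hp : p.IsPrime] [hp' : p'.IsPrime]
    (e : p = p') (h : CAlg2.IsGeomUnibranch (Localization.AtPrime p)) :
    CAlg2.IsGeomUnibranch (Localization.AtPrime p') := by
  subst e
  exact h

theorem isLocalization_atPrime_congr {R T : Type u} [CommSemiring R] [CommSemiring T] [Algebra R T]
    {p p' : Ideal R} [hp : p.IsPrime] [hp' : p'.IsPrime] (e : p = p')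
    [h : IsLocalization.AtPrime T p] : IsLocalization.AtPrime T p' := by
  subst e
  exact h

/-- Geometric unibranchness ascends along `ι` at every prime. -/
def GUA {A B : Type u} [CommRing A] [CommRing B] (ι : A →+* B) : Prop :=
  ∀ (q : Ideal B) [q.IsPrime], CAlg2.IsGeomUnibranch (Localization.AtPrime (q.comap ι)) →
    CAlg2.IsGeomUnibranch (Localization.AtPrime q)

theorem GUA.id (A : Type u) [CommRing A] : GUA (RingHom.id A) := by
  intro q _ h
  exact gu_congr (Ideal.comap_id q) h

theorem GUA.comp {A B C : Type u} [CommRing A] [CommRing B] [CommRing C] {ι : A →+* B}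
    {κ : B →+* C} (hι : GUA ι) (hκ : GUA κ) : GUA (κ.comp ι) := by
  intro q _ h
  apply hκ q
  apply hι (q.comap κ)
  exact gu_congr (Ideal.comap_comap ι κ).symm h

section OneStep

variable {E S : Type u} [CommRing E] [IsLocalRing E] [CommRing S] [IsLocalRing S]
  {φ : E →+* S}

theorem finitePresentation_Q {Λ : Type u} [Finite Λ] (p : Λ → E[X]) :
    Algebra.FinitePresentation E (Q p) := by
  haveI : Fintype Λ := Fintype.ofFinite Λ
  apply Algebra.FinitePresentation.quotient
  exact Submodule.fg_span (Set.finite_range _)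

theorem gua_sext1 (δ : SData φ) : GUA (A := E) (B := SExt1 δ) (algebraMap E (SExt1 δ)) := by
  intro q' hq' hq
  let d : PUnit.{u + 1} → SData φ := fun _ => δ
  haveI : Algebra.FinitePresentation E (Q (spoly d)) := finitePresentation_Q _
  haveI : Module.Flat E (Q (spoly d)) := by
    haveI : Module.Projective E (Q (spoly d)) :=
      projective_quotient (spoly_monic d) (spoly_natDegree_ne_zero d)
    infer_instance
  haveI : Algebra.IsUnramifiedAt E (RingHom.ker (sψ d)) := formallyUnramified_SNext d
  haveI : Algebra.IsEtaleAt E (RingHom.ker (sψ d)) :=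
    Algebra.IsEtaleAt.of_isUnramifiedAt_of_flat _
  obtain ⟨f, hf, het⟩ := Algebra.exists_etale_of_isEtaleAt (R := E) (RingHom.ker (sψ d))
  -- the prime of `Q` below `q'`
  obtain ⟨qQ, hqQ⟩ : ∃ qQ : Ideal (Q (spoly d)),
      qQ = q'.comap (algebraMap (Q (spoly d)) (SExt1 δ)) := ⟨_, rfl⟩
  haveI hqQp : qQ.IsPrime := by rw [hqQ]; infer_instance
  have hle : qQ ≤ RingHom.ker (sψ d) := by
    intro x hx
    rw [hqQ, Ideal.mem_comap] at hx
    by_contra hxn
    have hu : IsUnit (algebraMap (Q (spoly d)) (SExt1 δ) x) :=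
      IsLocalization.map_units (SExt1 δ) (⟨x, hxn⟩ : (RingHom.ker (sψ d)).primeCompl)
    exact hq'.ne_top (Ideal.eq_top_of_isUnit_mem _ hx hu)
  have hfq : f ∉ qQ := fun h => hf (hle h)
  have hdisj : Disjoint (Submonoid.powers f : Set (Q (spoly d))) (qQ : Set (Q (spoly d))) := by
    rw [Set.disjoint_left]
    rintro _ ⟨n, rfl⟩ hmem
    exact hfq (hqQp.mem_of_pow_mem n hmem)
  obtain ⟨qC, hqC⟩ : ∃ qC : Ideal (Localization.Away f),
      qC = qQ.map (algebraMap (Q (spoly d)) (Localization.Away f)) := ⟨_, rfl⟩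
  haveI hqCp : qC.IsPrime := by
    rw [hqC]
    exact IsLocalization.isPrime_of_isPrime_disjoint (Submonoid.powers f) _ qQ hqQp hdisj
  have hcomap : qC.comap (algebraMap (Q (spoly d)) (Localization.Away f)) = qQ := by
    rw [hqC]
    exact IsLocalization.under_map_of_isPrime_disjoint (Submonoid.powers f) _ hqQp hdisj
  -- both localizations are localizations of `Q` at `qQ`
  haveI h1 : IsLocalization.AtPrime (Localization.AtPrime qC) qQ :=
    isLocalization_atPrime_congr (R := Q (spoly d)) (T := Localization.AtPrime qC) hcomap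
  haveI h2 : IsLocalization.AtPrime (Localization.AtPrime q') qQ :=
    isLocalization_atPrime_congr (R := Q (spoly d)) (T := Localization.AtPrime q') hqQ.symm
  let e : Localization.AtPrime qC ≃ₐ[Q (spoly d)] Localization.AtPrime q' :=
    IsLocalization.algEquiv qQ.primeCompl _ _
  refine GU.isGeomUnibranch_of_ringEquiv e.toRingEquiv ?_
  -- apply the etale ascent
  obtain ⟨p0, hp0⟩ : ∃ p0 : Ideal E, p0 = qC.comap (algebraMap E (Localization.Away f)) :=
    ⟨_, rfl⟩
  haveI hp0p : p0.IsPrime := by rw [hp0]; infer_instance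
  haveI hlo : qC.LiesOver p0 := ⟨hp0⟩
  letI := Localization.AtPrime.algebraOfLiesOver p0 qC
  haveI : IsLocalHom (algebraMap (Localization.AtPrime p0) (Localization.AtPrime qC)) :=
    Localization.isLocalHom_localRingHom p0 qC (algebraMap E (Localization.Away f))
      Ideal.LiesOver.over
  have hp0' : q'.comap (algebraMap E (SExt1 δ)) = p0 := by
    rw [hp0, IsScalarTower.algebraMap_eq E (Q (spoly d)) (SExt1 δ),
      IsScalarTower.algebraMap_eq E (Q (spoly d)) (Localization.Away f),
      ← Ideal.comap_comap, ← Ideal.comap_comap, hcomap, hqQ]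
  exact (GU.isGeomUnibranch_atPrime_of_etale (A := E) (C := Localization.Away f) p0 qC
    (Localization.AtPrime p0) (Localization.AtPrime qC) (gu_congr hp0' hq)).1

end OneStep

section Good

variable {R S : Type u} [CommRing R] [IsLocalRing R] [CommRing S] [HenselianLocalRing S]
  {ψ : R →+* S}

theorem SGoodMap.exists_GUA {E : LocRing.{u}} {φ : E.A →+* S} (hg : SGoodMap ψ E φ) :
    ∃ ι : R →+* E.A, φ.comp ι = ψ ∧ GUA ι := by
  induction hg with
  | base => exact ⟨RingHom.id R, RingHom.comp_id _, GUA.id R⟩
  | step E φ δ h ih =>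
    obtain ⟨ι, hι, hgua⟩ := ih
    refine ⟨(algebraMap E.A (SExt1 δ)).comp ι, ?_, hgua.comp (gua_sext1 _)⟩
    rw [← hι]
    ext r
    exact liftSNext_algebraMap _ (ι r)

end Good

end Groth.Agent.Helper15.GUPunct
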