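import Mathlib
import Groth.Prelude
import Groth.Agent.Lib.Helper15.GUPunct1
import Groth.Agent.Lib.Helper1.SH2
import Groth.Agent.Lib.Helper1.SHznMax

/-!
# Geometric unibranchness and connectedness of the punctured spectrum of the strict henselization
(ring-level statements) (helper15)
-/

set_option autoImplicit false
set_option linter.unusedSectionVars false
set_option linter.unusedVariables false
set_option linter.style.haveILetI false
universe u

namespace Groth.Agent.Helper15.GUPunct
open IsLocalRing Polynomial Groth.Agent.Helper1 Groth.Agent.Helper1.HFlat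

/-- A geometrically unibranch local ring has a unique minimal prime. -/
theorem hasUniqueMinimalPrime_of_isGeomUnibranch (A : Type u) [CommRing A] [IsLocalRing A]
    (h : CAlg2.IsGeomUnibranch A) : CAlgX.HasUniqueMinimalPrime A := by
  haveI := SHzn.isStrictHenselization A
  haveI : Module.FaithfullyFlat A (SHzn.S A) :=
    HFlat.faithfullyFlat_of_isStrictHenselization A (SHzn.S A)
  exact GUFlat.hasUniqueMinimalPrime_of_comap_surjective (algebraMap A (SHzn.S A))
    PrimeSpectrum.comap_surjective_of_faithfullyFlat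
    ((UB.geomUnibranch_iff_hasUniqueMinimalPrime A (SHzn.S A)).mp h)

/-- If the localization at `q` has a unique minimal prime, then there is at most one minimal prime
below `q`. -/
theorem minimalPrime_unique_of_le {E : Type u} [CommRing E] (q : Ideal E) [q.IsPrime]
    (h : CAlgX.HasUniqueMinimalPrime (Localization.AtPrime q)) {p1 p2 : Ideal E}
    (h1 : p1 ∈ minimalPrimes E) (h2 : p2 ∈ minimalPrimes E) (l1 : p1 ≤ q) (l2 : p2 ≤ q) :
    p1 = p2 := by
  obtain ⟨P, hP, huniq⟩ := h
  have key : ∀ p ∈ minimalPrimes E, p ≤ q →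
      p = P.under E := by
    intro p hp hle
    have hpp : p.IsPrime := hp.1.1
    have hdisj : Disjoint (q.primeCompl : Set E) (p : Set E) := by
      rw [Set.disjoint_left]
      intro x hx hxp
      exact hx (hle hxp)
    have hunder := IsLocalization.under_map_of_isPrime_disjoint q.primeCompl
      (Localization.AtPrime q) hpp hdisj
    have hmin : p.map (algebraMap E (Localization.AtPrime q)) ∈
        minimalPrimes (Localization.AtPrime q) := by
      have := IsLocalization.minimalPrimes_map q.primeCompl (Localization.AtPrime q)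
        (⊥ : Ideal E)
      rw [Ideal.map_bot] at this
      show p.map _ ∈ (⊥ : Ideal (Localization.AtPrime q)).minimalPrimes
      rw [this, Set.mem_preimage, hunder]
      exact hp
    rw [← huniq _ hmin]
    exact hunder.symm
  rw [key p1 h1 l1, key p2 h2 l2]

/-- The contraction of a minimal prime along a flat ring map is a minimal prime. -/
theorem comap_mem_minimalPrimes_of_flat {E S : Type u} [CommRing E] [CommRing S] (φ : E →+* S)
    (hφ : φ.Flat) {P : Ideal S} (hP : P ∈ minimalPrimes S) : P.comap φ ∈ minimalPrimes E := by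
  letI := φ.toAlgebra
  haveI : Module.Flat E S := hφ
  haveI hPp : P.IsPrime := hP.1.1
  refine ⟨⟨inferInstance, bot_le⟩, ?_⟩
  rintro p' ⟨hp', -⟩ hle
  haveI := hp'
  haveI : (P.comap φ).IsPrime := inferInstance
  haveI : P.LiesOver (P.comap φ) := ⟨rfl⟩
  obtain ⟨P', hP'le, hP'prime, hP'lo⟩ :=
    Ideal.exists_ideal_le_liesOver_of_le (p := p') (q := P.comap φ) P hle
  have h1 : P ≤ P' := hP.2 ⟨hP'prime, bot_le⟩ hP'le
  have hPP' : P' = P := le_antisymm hP'le h1
  have h2 : p' = P'.under E := hP'lo.over
  rw [h2, hPP']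
  exact le_rfl

/-- Key lemma: two minimal primes of the strict henselization contained in a common non-maximal
prime coincide, provided all proper localizations of the base are geometrically unibranch. -/
theorem eq_of_minimalPrimes_le {R S : Type u} [CommRing R] [IsLocalRing R] [CommRing S]
    [IsLocalRing S] [Algebra R S] [IsLocalHom (algebraMap R S)]
    [Hensel.IsStrictHenselization R S]
    (hR : ∀ (p : Ideal R) [p.IsPrime], p ≠ maximalIdeal R →
      CAlg2.IsGeomUnibranch (Localization.AtPrime p))
    {P1 P2 Q : Ideal S} (h1 : P1 ∈ minimalPrimes S) (h2 : P2 ∈ minimalPrimes S) [hQ : Q.IsPrime]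
    (l1 : P1 ≤ Q) (l2 : P2 ≤ Q) (hQm : Q ≠ maximalIdeal S) : P1 = P2 := by
  by_contra hne
  have hnle : ¬ P1 ≤ P2 := fun hle => hne (le_antisymm hle (h2.2 h1.1 hle))
  obtain ⟨a, ha1, ha2⟩ := SetLike.not_le_iff_exists.mp hnle
  haveI hS : HenselianLocalRing S := Hensel.IsStrictHenselization.henselian (R := R)
  have hψ := IsSHensHom.of_isStrictHenselization R S
  obtain ⟨E, φ, hg, e, rfl⟩ := exists_sgood hψ a
  obtain ⟨ι, hι, hgua⟩ := SGoodMap.exists_GUA hg
  have hφ : IsSHensHom φ := hg.isSHensHom hψ
  have hflat : φ.Flat := by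
    have := hφ.faithfullyFlat
    exact this.toFlat
  have hq0 : Q.comap (algebraMap R S) ≠ maximalIdeal R := by
    intro h
    apply hQm
    have hle : maximalIdeal S ≤ Q := by
      rw [← SHzn.map_maximalIdeal_eq_of_isStrictHenselization R S, Ideal.map_le_iff_le_comap, h]
    exact ((maximalIdeal.isMaximal S).eq_of_le hQ.ne_top hle).symm
  have hgu0 := hR (Q.comap (algebraMap R S)) hq0
  have hgu1 : CAlg2.IsGeomUnibranch (Localization.AtPrime (Q.comap φ)) := by
    apply hgua (Q.comap φ)
    refine gu_congr ?_ hgu0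
    rw [Ideal.comap_comap, hι]
  have huniq := hasUniqueMinimalPrime_of_isGeomUnibranch _ hgu1
  have m1 := comap_mem_minimalPrimes_of_flat φ hflat h1
  have m2 := comap_mem_minimalPrimes_of_flat φ hflat h2
  have hEq := minimalPrime_unique_of_le (Q.comap φ) huniq m1 m2 (Ideal.comap_mono l1)
    (Ideal.comap_mono l2)
  have he : e ∈ P1.comap φ := ha1
  rw [hEq] at he
  exact ha2 he

/-- If all proper localizations of the Noetherian local ring `R` are geometrically unibranch and the
punctured spectrum of the strict henselization is connected, the strict henselization has a unique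
minimal prime. -/
theorem hasUniqueMinimalPrime_of_punctured_connected {R S : Type u} [CommRing R] [IsLocalRing R]
    [IsNoetherianRing R] [CommRing S] [IsLocalRing S] [Algebra R S]
    [IsLocalHom (algebraMap R S)] [Hensel.IsStrictHenselization R S]
    (hR : ∀ (p : Ideal R) [p.IsPrime], p ≠ maximalIdeal R →
      CAlg2.IsGeomUnibranch (Localization.AtPrime p))
    (hconn : ConnectedSpace ↥({closedPoint S}ᶜ : Set (PrimeSpectrum S))) :
    CAlgX.HasUniqueMinimalPrime S := by
  haveI : IsNoetherianRing S :=
    (isNoetherianRing_iff_of_isStrictHenselization R S).mp inferInstance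
  have hfin : (minimalPrimes S).Finite := minimalPrimes.finite_of_isNoetherianRing S
  obtain ⟨P1, hP1, -⟩ := Ideal.exists_minimalPrimes_le
    (show (⊥ : Ideal S) ≤ maximalIdeal S from bot_le)
  refine ⟨P1, hP1, fun P2 hP2 => ?_⟩
  by_contra hne
  haveI hP1p : P1.IsPrime := hP1.1.1
  haveI hP2p : P2.IsPrime := hP2.1.1
  have hU : IsPreconnected ({closedPoint S}ᶜ : Set (PrimeSpectrum S)) :=
    (isConnected_iff_connectedSpace.mpr hconn).isPreconnected
  have hne_max : ∀ {P P' : Ideal S}, P ∈ minimalPrimes S → P' ∈ minimalPrimes S → P' ≠ P →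
      P ≠ maximalIdeal S := by
    intro P P' hP hP' hPP' h
    haveI : P'.IsPrime := hP'.1.1
    have hle : P' ≤ P := by rw [h]; exact le_maximalIdeal (Ideal.IsPrime.ne_top inferInstance)
    exact hPP' (le_antisymm hle (hP.2 hP'.1 hle))
  rw [isPreconnected_closed_iff] at hU
  have hcl1 : IsClosed (PrimeSpectrum.zeroLocus (P1 : Set S)) :=
    PrimeSpectrum.isClosed_zeroLocus _
  have hcl2 : IsClosed (⋃ P ∈ (minimalPrimes S \ {P1}), PrimeSpectrum.zeroLocus (P : Set S)) :=
    Set.Finite.isClosed_biUnion (hfin.subset Set.sdiff_subset)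
      (fun P _ => PrimeSpectrum.isClosed_zeroLocus _)
  have hcov : ({closedPoint S}ᶜ : Set (PrimeSpectrum S)) ⊆
      PrimeSpectrum.zeroLocus (P1 : Set S) ∪
        ⋃ P ∈ (minimalPrimes S \ {P1}), PrimeSpectrum.zeroLocus (P : Set S) := by
    intro x _
    obtain ⟨P, hP, hle⟩ := Ideal.exists_minimalPrimes_le
      (show (⊥ : Ideal S) ≤ x.asIdeal from bot_le)
    by_cases hPP1 : P = P1
    · left
      rw [PrimeSpectrum.mem_zeroLocus]
      rw [← hPP1]
      exact hle
    · right
      refine Set.mem_biUnion (x := P) ⟨hP, hPP1⟩ ?_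
      rw [PrimeSpectrum.mem_zeroLocus]
      exact hle
  have hne1 : (({closedPoint S}ᶜ : Set (PrimeSpectrum S)) ∩
      PrimeSpectrum.zeroLocus (P1 : Set S)).Nonempty := by
    refine ⟨⟨P1, hP1p⟩, ?_, ?_⟩
    · intro h
      exact hne_max hP1 hP2 hne (congrArg PrimeSpectrum.asIdeal h)
    · rw [PrimeSpectrum.mem_zeroLocus]
  have hne2 : (({closedPoint S}ᶜ : Set (PrimeSpectrum S)) ∩
      ⋃ P ∈ (minimalPrimes S \ {P1}), PrimeSpectrum.zeroLocus (P : Set S)).Nonempty := by
    refine ⟨⟨P2, hP2p⟩, ?_, ?_⟩
    · intro h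
      exact hne_max hP2 hP1 (Ne.symm hne) (congrArg PrimeSpectrum.asIdeal h)
    · refine Set.mem_biUnion (x := P2) ⟨hP2, hne⟩ ?_
      rw [PrimeSpectrum.mem_zeroLocus]
  obtain ⟨x, hxU, hx1, hx2⟩ := hU _ _ hcl1 hcl2 hcov hne1 hne2
  rw [Set.mem_iUnion₂] at hx2
  obtain ⟨P, ⟨hP, hPP1⟩, hxP⟩ := hx2
  rw [PrimeSpectrum.mem_zeroLocus] at hx1 hxP
  have hxm : x.asIdeal ≠ maximalIdeal S := by
    intro h
    apply hxU
    exact PrimeSpectrum.ext h
  exact hPP1 (eq_of_minimalPrimes_le hR hP1 hP (Q := x.asIdeal) hx1 hxP hxm).symm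

/-- A local ring whose maximal ideal is a minimal prime is geometrically unibranch. -/
theorem isGeomUnibranch_of_maximalIdeal_mem_minimalPrimes (R : Type u) [CommRing R]
    [IsLocalRing R] (h : maximalIdeal R ∈ minimalPrimes R) : CAlg2.IsGeomUnibranch R := by
  haveI := SHzn.isStrictHenselization R
  rw [UB.geomUnibranch_iff_hasUniqueMinimalPrime R (SHzn.S R)]
  have key : ∀ P : Ideal (SHzn.S R), P.IsPrime → P = maximalIdeal (SHzn.S R) := by
    intro P hP
    haveI := hP
    have hprime : (P.comap (algebraMap R (SHzn.S R))).IsPrime := inferInstance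
    have hle0 : P.comap (algebraMap R (SHzn.S R)) ≤ maximalIdeal R :=
      le_maximalIdeal hprime.ne_top
    have h1 : P.comap (algebraMap R (SHzn.S R)) = maximalIdeal R :=
      le_antisymm hle0 (h.2 ⟨hprime, bot_le⟩ hle0)
    have hle : maximalIdeal (SHzn.S R) ≤ P := by
      rw [← SHzn.map_maximalIdeal_eq_of_isStrictHenselization R (SHzn.S R),
        Ideal.map_le_iff_le_comap, h1]
    exact ((maximalIdeal.isMaximal _).eq_of_le hP.ne_top hle).symm
  refine ⟨maximalIdeal _, ⟨⟨inferInstance, bot_le⟩, fun Q hQ _ => (key Q hQ.1).ge⟩,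
    fun Q hQ => key Q hQ.1.1⟩

/-- Connectedness of the punctured spectra of all strict henselizations. -/
def PunctConn (A : Type u) [CommRing A] [IsLocalRing A] : Prop :=
  ∀ (Ash : Type u) [CommRing Ash] [IsLocalRing Ash] [Algebra A Ash]
    [IsLocalHom (algebraMap A Ash)] [Hensel.IsStrictHenselization A Ash],
    ConnectedSpace ↥({closedPoint Ash}ᶜ : Set (PrimeSpectrum Ash))

/-- A geometrically unibranch local ring of positive dimension has connected punctured strict
henselization. -/
theorem punctConn_of_isGeomUnibranch (A : Type u) [CommRing A] [IsLocalRing A]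
    (hA : CAlg2.IsGeomUnibranch A) (hm : maximalIdeal A ∉ minimalPrimes A) : PunctConn A := by
  intro Ash _ _ _ _ _
  obtain ⟨P, hP, huniq⟩ := (UB.geomUnibranch_iff_hasUniqueMinimalPrime A Ash).mp hA
  haveI hPp : P.IsPrime := hP.1.1
  have hPm : P ≠ maximalIdeal Ash := by
    intro h
    apply hm
    have hff : Module.FaithfullyFlat A Ash :=
      HFlat.faithfullyFlat_of_isStrictHenselization A Ash
    have hfl : (algebraMap A Ash).Flat := RingHom.flat_algebraMap_iff.mpr hff.toFlat
    have := comap_mem_minimalPrimes_of_flat (algebraMap A Ash) hfl hP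
    rwa [h, IsLocalRing.maximalIdeal_comap] at this
  have hxU : (⟨P, hPp⟩ : PrimeSpectrum Ash) ∈ ({closedPoint Ash}ᶜ : Set (PrimeSpectrum Ash)) := by
    intro h
    exact hPm (congrArg PrimeSpectrum.asIdeal h)
  have hsub : ({closedPoint Ash}ᶜ : Set (PrimeSpectrum Ash)) ⊆
      closure {(⟨P, hPp⟩ : PrimeSpectrum Ash)} := by
    intro y _
    rw [PrimeSpectrum.closure_singleton, PrimeSpectrum.mem_zeroLocus]
    obtain ⟨P', hP', hle⟩ := Ideal.exists_minimalPrimes_le
      (show (⊥ : Ideal Ash) ≤ y.asIdeal from bot_le)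
    rw [huniq P' hP'] at hle
    exact hle
  have hc : IsConnected ({closedPoint Ash}ᶜ : Set (PrimeSpectrum Ash)) :=
    IsConnected.subset_closure isConnected_singleton (Set.singleton_subset_iff.mpr hxU) hsub
  exact isConnected_iff_connectedSpace.mp hc

theorem PunctConn.of_ringEquiv {A A' : Type u} [CommRing A] [IsLocalRing A] [CommRing A']
    [IsLocalRing A'] (e : A ≃+* A') (h : PunctConn A) : PunctConn A' := by
  intro Ash _ _ _ _ _
  letI algA : Algebra A A' := e.toRingHom.toAlgebra
  letI : Algebra A Ash := ((algebraMap A' Ash).comp e.toRingHom).toAlgebra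
  haveI : IsScalarTower A A' Ash := IsScalarTower.of_algebraMap_eq' rfl
  haveI : IsLocalHom (algebraMap A A') := by
    refine ⟨fun a ha => ?_⟩
    have h1 : IsUnit (e.symm (e a)) := ha.map e.symm
    rwa [RingEquiv.symm_apply_apply] at h1
  haveI : IsLocalHom (algebraMap A Ash) := by
    show IsLocalHom ((algebraMap A' Ash).comp (algebraMap A A'))
    infer_instance
  haveI : IsLocalization (⊥ : Submonoid A) A' := by
    refine IsLocalization.of_le_isUnit_of_bijective ?_ e.bijective
    rintro _ ⟨a, ha, rfl⟩
    rw [Submonoid.mem_bot.mp ha, map_one]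
    exact isUnit_one
  haveI := GU.isStrictHenselization_of_etale_localization A A A' Ash (⊥ : Submonoid A)
  exact h Ash

/-- Ring-level form of the criterion: over a Noetherian ring, if the punctured spectra of the strict
henselizations of the localizations at all non-minimal primes are connected, then all
localizations at primes are geometrically unibranch. -/
theorem isGeomUnibranch_localization_of_punctConn (R0 : Type u) [CommRing R0]
    [IsNoetherianRing R0]
    (h : ∀ (p : Ideal R0) [p.IsPrime], p ∉ minimalPrimes R0 →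
      PunctConn (Localization.AtPrime p)) :
    ∀ (p : Ideal R0) [p.IsPrime], CAlg2.IsGeomUnibranch (Localization.AtPrime p) := by
  suffices H : ∀ n : ℕ, ∀ (p : Ideal R0) [p.IsPrime], p.height = n →
      CAlg2.IsGeomUnibranch (Localization.AtPrime p) by
    intro p _
    obtain ⟨n, hn⟩ := ENat.ne_top_iff_exists.mp (Ideal.height_ne_top_of_isPrime (I := p))
    exact H n p hn.symm
  intro n
  induction n using Nat.strong_induction_on with
  | _ n ih =>
    intro p hp hpn
    have hloc : ∀ (𝔮 : Ideal (Localization.AtPrime p)) [𝔮.IsPrime],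
        𝔮 ≠ maximalIdeal (Localization.AtPrime p) →
        CAlg2.IsGeomUnibranch (Localization.AtPrime 𝔮) := by
      intro 𝔮 h𝔮p h𝔮
      have hu := IsLocalization.AtPrime.under_maximalIdeal (Localization.AtPrime p) p
      have hle : 𝔮.under R0 ≤ p :=
        le_of_le_of_eq (Ideal.comap_mono (le_maximalIdeal h𝔮p.ne_top)) hu
      have hlt : 𝔮.under R0 < p := by
        refine lt_of_le_of_ne hle fun heq => h𝔮 ?_
        rw [← IsLocalization.map_under p.primeCompl (Localization.AtPrime p) 𝔮, heq,
          IsLocalization.AtPrime.map_eq_maximalIdeal p (Localization.AtPrime p)]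
      haveI : (𝔮.under R0).IsPrime := Ideal.IsPrime.under R0 𝔮
      obtain ⟨m, hm⟩ := ENat.ne_top_iff_exists.mp
        (Ideal.height_ne_top_of_isPrime (I := 𝔮.under R0))
      have hmn : m < n := by
        have := Ideal.height_strict_mono_of_isPrime_of_isPrime hlt
        rw [hpn, ← hm] at this
        exact_mod_cast this
      have hgu := ih m hmn (𝔮.under R0) hm.symm
      exact GU.isGeomUnibranch_of_ringEquiv
        (IsLocalization.localizationLocalizationAtPrimeIsoLocalization p.primeCompl
          𝔮).toRingEquiv hgu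
    by_cases hmin : p ∈ minimalPrimes R0
    · apply isGeomUnibranch_of_maximalIdeal_mem_minimalPrimes
      have := IsLocalization.minimalPrimes_map p.primeCompl (Localization.AtPrime p)
        (⊥ : Ideal R0)
      rw [Ideal.map_bot] at this
      show maximalIdeal (Localization.AtPrime p) ∈
        (⊥ : Ideal (Localization.AtPrime p)).minimalPrimes
      rw [this, Set.mem_preimage,
        IsLocalization.AtPrime.under_maximalIdeal (Localization.AtPrime p) p]
      exact hmin
    · haveI := SHzn.isStrictHenselization (Localization.AtPrime p)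
      have hconn := h p hmin (SHzn.S (Localization.AtPrime p))
      exact (UB.geomUnibranch_iff_hasUniqueMinimalPrime _
        (SHzn.S (Localization.AtPrime p))).mpr
        (hasUniqueMinimalPrime_of_punctured_connected hloc hconn)

end Groth.Agent.Helper15.GUPunct
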