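import Mathlib
import Groth.Prelude
import Groth.Agent.Lib.Helper15.BrnchEt1
import Groth.Agent.Lib.Helper15.GUPunct2
import Groth.Agent.Lib.Helper1.SH1

/-!
# Minimal primes of the strict henselization are realised on étale neighbourhoods (helper15)
-/

set_option autoImplicit false
set_option linter.unusedSectionVars false
set_option linter.unusedVariables false
set_option linter.style.haveILetI false

universe u

namespace Groth.Agent.Helper15.BrnchEt

open IsLocalRing Polynomial Groth.Agent.Helper26 Groth.Agent.Helper1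

section General

/-- a prime of an étale algebra lying over a minimal prime is minimal -/
theorem mem_minimalPrimes_of_etale {R C : Type u} [CommRing R] [CommRing C] [Algebra R C]
    [Algebra.Etale R C] (P : Ideal C) [P.IsPrime]
    (hP : P.comap (algebraMap R C) ∈ minimalPrimes R) : P ∈ minimalPrimes C := by
  refine ⟨⟨inferInstance, bot_le⟩, ?_⟩
  rintro Q ⟨hQ, -⟩ hle
  haveI := hQ
  have h1 : Q.comap (algebraMap R C) ≤ P.comap (algebraMap R C) := Ideal.comap_mono hle
  have h2 : P.comap (algebraMap R C) ≤ Q.comap (algebraMap R C) :=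
    hP.2 ⟨inferInstance, bot_le⟩ h1
  have h3 : Q = P := Algebra.QuasiFinite.eq_of_le_of_under_eq (R := R) Q P hle
    (le_antisymm h1 h2)
  rw [h3]

/-- distinct minimal primes are incomparable -/
theorem not_le_of_ne_minimalPrimes {S : Type u} [CommRing S] {P P' : Ideal S}
    (hP : P ∈ minimalPrimes S) (hP' : P' ∈ minimalPrimes S) (hne : P ≠ P') : ¬ P ≤ P' := by
  intro hle
  exact hne (le_antisymm hle (hP'.2 ⟨hP.1.1, bot_le⟩ hle))

end General

variable (R : Type u) [CommRing R] (p : Ideal R) [p.IsPrime]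
  (A : Type u) [CommRing A] [IsLocalRing A] [Algebra R A] [IsLocalization.AtPrime A p]
  (Rsh : Type u) [CommRing Rsh] [IsLocalRing Rsh] [Algebra A Rsh] [IsLocalHom (algebraMap A Rsh)]
  [Hensel.IsStrictHenselization A Rsh] [Algebra R Rsh] [IsScalarTower R A Rsh]

include p A in
theorem flat_base : Module.Flat R Rsh := by
  haveI : Module.Flat R A := IsLocalization.flat A p.primeCompl
  haveI : Module.FaithfullyFlat A Rsh := HFlat.faithfullyFlat_of_isStrictHenselization A Rsh
  exact Module.Flat.trans R A Rsh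

include A in
theorem comap_maximalIdeal_base : (maximalIdeal Rsh).comap (algebraMap R Rsh) = p := by
  rw [IsScalarTower.algebraMap_eq R A Rsh, ← Ideal.comap_comap, IsLocalRing.maximalIdeal_comap]
  exact IsLocalization.AtPrime.under_maximalIdeal A p

include p A in
/-- finitely many minimal primes of the strict henselization are separated on an étale
neighbourhood -/
theorem exists_etale_of_natCast_le (n : ℕ)
    (hn : (n : ℕ∞) ≤ (minimalPrimes Rsh).encard) :
    ∃ (C : Type u) (_ : CommRing C) (_ : Algebra R C) (_ : Algebra.Etale R C) (q : Ideal C)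
      (_ : q.IsPrime), q.comap (algebraMap R C) = p ∧
        (n : ℕ∞) ≤ {P : Ideal C | P ∈ minimalPrimes C ∧ P ≤ q}.encard := by
  classical
  obtain ⟨t, ht, htn⟩ := Set.exists_subset_encard_eq hn
  have htfin : t.Finite := Set.finite_of_encard_eq_coe htn
  haveI : Finite ↥t := htfin.to_subtype
  haveI : Finite (↥t × ↥t) := inferInstance
  -- separating elements
  have hsep : ∀ P P' : ↥t, P ≠ P' → ∃ f : Rsh, f ∈ (P : Ideal Rsh) ∧ f ∉ (P' : Ideal Rsh) := by
    intro P P' hne
    have h1 : ¬ (P : Ideal Rsh) ≤ (P' : Ideal Rsh) :=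
      not_le_of_ne_minimalPrimes (ht P.2) (ht P'.2) (fun h => hne (Subtype.ext h))
    exact Set.not_subset.mp h1
  let sep : ↥t × ↥t → Rsh := fun x =>
    if h : x.1 ≠ x.2 then Classical.choose (hsep x.1 x.2 h) else 0
  have hsep1 : ∀ P P' : ↥t, P ≠ P' → sep (P, P') ∈ (P : Ideal Rsh) ∧
      sep (P, P') ∉ (P' : Ideal Rsh) := by
    intro P P' hne
    have : sep (P, P') = Classical.choose (hsep P P' hne) := dif_pos hne
    rw [this]
    exact Classical.choose_spec (hsep P P' hne)
  obtain ⟨m, ⟨e⟩⟩ := Finite.exists_equiv_fin (↥t × ↥t)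
  obtain ⟨C, _, _, _, φ, c, hc⟩ := EtSub.exists_common (R := R) (T := Rsh) m
    (fun j => sep (e.symm j)) (fun j => isEt R p A Rsh _)
  have hcomm : ∀ I : Ideal Rsh, (I.comap φ.toRingHom).comap (algebraMap R C) =
      I.comap (algebraMap R Rsh) := by
    intro I
    rw [Ideal.comap_comap]
    congr 1
    exact φ.comp_algebraMap
  refine ⟨C, inferInstance, inferInstance, inferInstance, (maximalIdeal Rsh).comap φ.toRingHom,
    Ideal.comap_isPrime _ _, ?_, ?_⟩
  · rw [hcomm]
    exact comap_maximalIdeal_base R p A Rsh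
  · have hflat : (algebraMap R Rsh).Flat :=
      RingHom.flat_algebraMap_iff.mpr (flat_base R p A Rsh)
    have hinj : Set.InjOn (fun P : Ideal Rsh => P.comap φ.toRingHom) t := by
      intro P hP P' hP' heq
      by_contra hne
      obtain ⟨h1, h2⟩ := hsep1 ⟨P, hP⟩ ⟨P', hP'⟩ (fun h => hne (congrArg Subtype.val h))
      have h3 := hc (e (⟨P, hP⟩, ⟨P', hP'⟩))
      rw [Equiv.symm_apply_apply] at h3
      have h4 : c (e (⟨P, hP⟩, ⟨P', hP'⟩)) ∈ P.comap φ.toRingHom := by
        rw [Ideal.mem_comap]
        show φ _ ∈ P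
        rw [h3]
        exact h1
      have h5 : c (e (⟨P, hP⟩, ⟨P', hP'⟩)) ∈ P'.comap φ.toRingHom := by
        have : P.comap φ.toRingHom = P'.comap φ.toRingHom := heq
        rw [← this]
        exact h4
      rw [Ideal.mem_comap] at h5
      apply h2
      have h6 : φ (c (e (⟨P, hP⟩, ⟨P', hP'⟩))) ∈ P' := h5
      rwa [h3] at h6
    have hsub : (fun P : Ideal Rsh => P.comap φ.toRingHom) '' t ⊆
        {P : Ideal C | P ∈ minimalPrimes C ∧ P ≤ (maximalIdeal Rsh).comap φ.toRingHom} := by
      rintro _ ⟨P, hP, rfl⟩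
      have hPmin := ht hP
      haveI hPp : P.IsPrime := hPmin.1.1
      refine ⟨?_, Ideal.comap_mono (IsLocalRing.le_maximalIdeal hPp.ne_top)⟩
      haveI : (P.comap φ.toRingHom).IsPrime := Ideal.comap_isPrime _ _
      apply mem_minimalPrimes_of_etale (R := R)
      rw [hcomm]
      exact Groth.Agent.Helper15.GUPunct.comap_mem_minimalPrimes_of_flat _ hflat hPmin
    calc (n : ℕ∞) = t.encard := htn.symm
      _ = ((fun P : Ideal Rsh => P.comap φ.toRingHom) '' t).encard := (hinj.encard_image).symm
      _ ≤ _ := Set.encard_le_encard hsub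

end Groth.Agent.Helper15.BrnchEt
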