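import Mathlib
import Groth.Prelude
import Groth.Agent.Lib.Helper15.BrnchEt2
import Groth.Agent.Lib.Helper1.GU4
import Groth.Agent.S9238

/-!
# Geometric branches and étale maps (helper15)
-/

set_option autoImplicit false
set_option linter.unusedSectionVars false
set_option linter.unusedVariables false
set_option linter.style.haveILetI false

universe u

open CategoryTheory AlgebraicGeometry TensorProduct

namespace Groth.Agent.Helper15.BrnchEt

open IsLocalRing Groth.Agent.Helper1

/-- along a faithfully flat ring map the number of minimal primes does not decrease -/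
theorem encard_minimalPrimes_le_of_faithfullyFlat (B S : Type u) [CommRing B] [CommRing S]
    [Algebra B S] [Module.FaithfullyFlat B S] :
    (minimalPrimes B).encard ≤ (minimalPrimes S).encard := by
  have hsub : minimalPrimes B ⊆ (fun Q : Ideal S => Q.comap (algebraMap B S)) '' minimalPrimes S := by
    intro P hP
    haveI hPp : P.IsPrime := hP.1.1
    obtain ⟨Q, hQ⟩ := PrimeSpectrum.comap_surjective_of_faithfullyFlat (A := B) (B := S) ⟨P, hPp⟩
    obtain ⟨Q', hQ'min, hQ'le⟩ := Ideal.exists_minimalPrimes_le (I := (⊥ : Ideal S))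
      (J := Q.asIdeal) bot_le
    refine ⟨Q', hQ'min, ?_⟩
    haveI : Q'.IsPrime := hQ'min.1.1
    have h1 : Q'.comap (algebraMap B S) ≤ P := by
      have : Q.asIdeal.comap (algebraMap B S) = P := congrArg PrimeSpectrum.asIdeal hQ
      rw [← this]
      exact Ideal.comap_mono hQ'le
    exact le_antisymm h1 (hP.2 ⟨inferInstance, bot_le⟩ h1)
  exact (Set.encard_le_encard hsub).trans (Set.encard_image_le _ _)

/-- the number of geometric branches is invariant under essentially étale local maps -/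
theorem numGeomBranches_eq_of_etale_localization
    (R B' T : Type u) [CommRing R] [IsLocalRing R] [CommRing B'] [Algebra R B']
    [Algebra.Etale R B']
    [CommRing T] [IsLocalRing T] [Algebra B' T] [Algebra R T] [IsScalarTower R B' T]
    (M : Submonoid B') [IsLocalization M T] [IsLocalHom (algebraMap R T)] :
    Brnch.numGeomBranches T = Brnch.numGeomBranches R := by
  haveI := SHzn.isStrictHenselization T
  letI : Algebra R (SHzn.S T) := ((algebraMap T (SHzn.S T)).comp (algebraMap R T)).toAlgebra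
  haveI : IsScalarTower R T (SHzn.S T) := IsScalarTower.of_algebraMap_eq' rfl
  haveI : IsLocalHom (algebraMap R (SHzn.S T)) := by
    show IsLocalHom ((algebraMap T (SHzn.S T)).comp (algebraMap R T))
    infer_instance
  haveI := GU.isStrictHenselization_of_etale_localization R B' T (SHzn.S T) M
  rw [← Groth.Agent.S9238.result T (SHzn.S T), ← Groth.Agent.S9238.result R (SHzn.S T)]

attribute [local instance] Algebra.TensorProduct.rightAlgebra in
set_option backward.defeqAttrib.useBackward true in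
set_option backward.isDefEq.respectTransparency false in
theorem numGeomBranchesAt_eq_of_etale {X Y : Scheme.{u}} (f : X ⟶ Y) [Etale f] (x : X) :
    Brnch.numGeomBranchesAt X x = Brnch.numGeomBranchesAt Y (f x) := by
  obtain ⟨_, ⟨V, hV, rfl⟩, hxV, -⟩ :=
    Y.isBasis_affineOpens.exists_subset_of_mem_open (Set.mem_univ (f x)) isOpen_univ
  obtain ⟨_, ⟨U, hU, rfl⟩, hxU, hUV⟩ :=
    X.isBasis_affineOpens.exists_subset_of_mem_open hxV (V.2.preimage f.continuous)
  have het := f.etale_appLE hV hU hUV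
  algebraize [(f.appLE V U hUV).hom]
  letI := Y.presheaf.algebra_section_stalk ⟨f x, hxV⟩
  haveI := hV.isLocalization_stalk ⟨f x, hxV⟩
  letI := X.presheaf.algebra_section_stalk ⟨x, hxU⟩
  haveI := hU.isLocalization_stalk ⟨x, hxU⟩
  letI : Algebra (Y.presheaf.stalk (f x)) (X.presheaf.stalk x) := (f.stalkMap x).hom.toAlgebra
  haveI : IsLocalHom (algebraMap (Y.presheaf.stalk (f x)) (X.presheaf.stalk x)) :=
    inferInstanceAs <| IsLocalHom (f.stalkMap x).hom
  letI : Algebra Γ(Y, V) (X.presheaf.stalk x) :=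
    ((algebraMap Γ(X, U) (X.presheaf.stalk x)).comp (algebraMap Γ(Y, V) Γ(X, U))).toAlgebra
  haveI : IsScalarTower Γ(Y, V) Γ(X, U) (X.presheaf.stalk x) := IsScalarTower.of_algebraMap_eq' rfl
  haveI : IsScalarTower Γ(Y, V) (Y.presheaf.stalk (f x)) (X.presheaf.stalk x) := by
    refine IsScalarTower.of_algebraMap_eq' ?_
    ext a
    simp only [RingHom.algebraMap_toAlgebra, RingHom.comp_apply]
    show X.presheaf.germ U x hxU (f.appLE V U hUV a) =
      f.stalkMap x (Y.presheaf.germ V (f x) hxV a)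
    rw [Scheme.Hom.appLE, CommRingCat.comp_apply, TopCat.Presheaf.germ_res_apply,
      ← Scheme.Hom.germ_stalkMap_apply]
  let p := (hV.primeIdealOf ⟨f x, hxV⟩).asIdeal
  let q := (hU.primeIdealOf ⟨x, hxU⟩).asIdeal
  have hlo : q.LiesOver p :=
    ⟨congr($(IsAffineOpen.comap_primeIdealOf_appLE V hV U hU hUV hxU).1).symm⟩
  let φ : (Y.presheaf.stalk (f x)) ⊗[Γ(Y, V)] Γ(X, U) →ₐ[Y.presheaf.stalk (f x)]
      X.presheaf.stalk x :=
    Algebra.TensorProduct.lift (Algebra.ofId (Y.presheaf.stalk (f x)) (X.presheaf.stalk x))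
      (IsScalarTower.toAlgHom Γ(Y, V) Γ(X, U) (X.presheaf.stalk x)) (fun _ _ => Commute.all _ _)
  letI : Algebra ((Y.presheaf.stalk (f x)) ⊗[Γ(Y, V)] Γ(X, U)) (X.presheaf.stalk x) :=
    φ.toRingHom.toAlgebra
  haveI : IsScalarTower (Y.presheaf.stalk (f x)) ((Y.presheaf.stalk (f x)) ⊗[Γ(Y, V)] Γ(X, U))
      (X.presheaf.stalk x) := IsScalarTower.of_algebraMap_eq' φ.comp_algebraMap.symm
  haveI : IsScalarTower Γ(X, U) ((Y.presheaf.stalk (f x)) ⊗[Γ(Y, V)] Γ(X, U))
      (X.presheaf.stalk x) := by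
    refine IsScalarTower.of_algebraMap_eq (fun b => ?_)
    show _ = φ (1 ⊗ₜ b)
    simp [φ]
  haveI : IsLocalization (Algebra.algebraMapSubmonoid Γ(X, U) p.primeCompl)
      ((Y.presheaf.stalk (f x)) ⊗[Γ(Y, V)] Γ(X, U)) := inferInstance
  have hle : Algebra.algebraMapSubmonoid Γ(X, U) p.primeCompl ≤ q.primeCompl := by
    rintro _ ⟨a, ha, rfl⟩
    intro hmem
    apply ha
    rw [hlo.over]
    exact hmem
  haveI := IsLocalization.isLocalization_of_submonoid_le
    ((Y.presheaf.stalk (f x)) ⊗[Γ(Y, V)] Γ(X, U)) (X.presheaf.stalk x) _ _ hle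
  exact numGeomBranches_eq_of_etale_localization (Y.presheaf.stalk (f x))
    ((Y.presheaf.stalk (f x)) ⊗[Γ(Y, V)] Γ(X, U)) (X.presheaf.stalk x)
    (q.primeCompl.map (algebraMap Γ(X, U) ((Y.presheaf.stalk (f x)) ⊗[Γ(Y, V)] Γ(X, U))))

end Groth.Agent.Helper15.BrnchEt
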