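import Mathlib
import Groth.Prelude
import Groth.Agent.Lib.Helper15.BrnchEt3

/-!
# Irreducible components through a point and minimal primes of the local ring (helper15)
-/

set_option autoImplicit false
set_option linter.unusedSectionVars false
set_option linter.unusedVariables false
set_option linter.style.haveILetI false

universe u

open CategoryTheory AlgebraicGeometry

namespace Groth.Agent.Helper15.BrnchEt

open IsLocalRing

/-- each irreducible component through `u` gives a minimal prime of the local ring at `u` -/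
theorem exists_minimalPrime_of_component (U : Scheme.{u}) (u : U) (Z : Set U)
    (hZ : Z ∈ irreducibleComponents U) (hu : u ∈ Z) :
    ∃ P : PrimeSpectrum (U.presheaf.stalk u), P.asIdeal ∈ minimalPrimes (U.presheaf.stalk u) ∧
      closure {(U.fromSpecStalk u) P} = Z := by
  have hirr : IsIrreducible Z := hZ.prop
  have hcl : IsClosed Z := isClosed_of_mem_irreducibleComponents Z hZ
  obtain ⟨η, hη⟩ := QuasiSober.sober hirr hcl
  have hsp : η ⤳ u := hη.specializes hu
  have hmem : η ∈ Set.range (U.fromSpecStalk u) := by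
    rw [Scheme.range_fromSpecStalk]
    exact hsp
  obtain ⟨P, rfl⟩ := hmem
  refine ⟨P, ⟨⟨P.2, bot_le⟩, ?_⟩, hη⟩
  rintro P' ⟨hP', -⟩ hle
  have h1 : (⟨P', hP'⟩ : PrimeSpectrum (U.presheaf.stalk u)) ⤳ P :=
    (PrimeSpectrum.le_iff_specializes _ _).mp hle
  have h2 : (U.fromSpecStalk u) ⟨P', hP'⟩ ⤳ (U.fromSpecStalk u) P :=
    h1.map (U.fromSpecStalk u).continuous
  have h3 : Z ⊆ closure {(U.fromSpecStalk u) ⟨P', hP'⟩} := by
    have := specializes_iff_closure_subset.mp h2
    rwa [hη.def] at this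
  have h4 : closure {(U.fromSpecStalk u) ⟨P', hP'⟩} ⊆ Z :=
    hZ.le_of_ge isIrreducible_singleton.closure h3
  have h5 : IsGenericPoint ((U.fromSpecStalk u) ⟨P', hP'⟩) Z := le_antisymm h4 h3
  have h6 : (U.fromSpecStalk u) ⟨P', hP'⟩ = (U.fromSpecStalk u) P := h5.eq hη
  have h7 := (U.fromSpecStalk u).isEmbedding.injective h6
  have h8 : P' = P.asIdeal := congrArg PrimeSpectrum.asIdeal h7
  exact h8.ge

theorem encard_components_le_minimalPrimes_stalk (U : Scheme.{u}) (u : U) :
    {Z : Set U | Z ∈ irreducibleComponents U ∧ u ∈ Z}.encard ≤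
      (minimalPrimes (U.presheaf.stalk u)).encard := by
  classical
  choose! f hf using exists_minimalPrime_of_component U u
  apply Set.encard_le_encard_of_injOn (f := fun Z => (f Z).asIdeal)
  · rintro Z ⟨hZ, hu⟩
    exact (hf Z hZ hu).1
  · rintro Z ⟨hZ, hu⟩ Z' ⟨hZ', hu'⟩ heq
    have h1 : f Z = f Z' := PrimeSpectrum.ext heq
    rw [← (hf Z hZ hu).2, ← (hf Z' hZ' hu').2, h1]

/-- on an affine scheme, minimal primes below `q` give irreducible components through `q` -/
theorem encard_minimalPrimes_le_components_spec (C : Type u) [CommRing C] (q : PrimeSpectrum C) :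
    {P : Ideal C | P ∈ minimalPrimes C ∧ P ≤ q.asIdeal}.encard ≤
      {Z : Set (PrimeSpectrum C) | Z ∈ irreducibleComponents (PrimeSpectrum C) ∧ q ∈ Z}.encard := by
  apply Set.encard_le_encard_of_injOn (f := fun P : Ideal C => PrimeSpectrum.zeroLocus (P : Set C))
  · rintro P ⟨hP, hle⟩
    refine ⟨?_, ?_⟩
    · rw [← PrimeSpectrum.zeroLocus_minimalPrimes]
      exact ⟨P, hP, rfl⟩
    · rw [PrimeSpectrum.mem_zeroLocus]
      exact hle
  · rintro P ⟨hP, -⟩ P' ⟨hP', -⟩ heq
    haveI : P.IsPrime := hP.1.1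
    haveI : P'.IsPrime := hP'.1.1
    have h1 := congrArg PrimeSpectrum.vanishingIdeal heq
    simp only [PrimeSpectrum.vanishingIdeal_zeroLocus_eq_radical] at h1
    rwa [Ideal.IsPrime.radical ‹P.IsPrime›, Ideal.IsPrime.radical ‹P'.IsPrime›] at h1

end Groth.Agent.Helper15.BrnchEt
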