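import Mathlib
import Groth.Prelude
import Groth.Agent.Lib.Helper15.BrnchEt4
import Groth.Agent.S9236

/-!
# Geometric branches as a supremum over étale neighbourhoods (helper15)
-/

set_option autoImplicit false
set_option linter.unusedSectionVars false
set_option linter.unusedVariables false
set_option linter.style.haveILetI false

universe u

open CategoryTheory AlgebraicGeometry TensorProduct

namespace Groth.Agent.Helper15.BrnchEt

open IsLocalRing Groth.Agent.Helper1

theorem numGeomBranchesAt_eq_encard_minimalPrimes_SH (X : Scheme.{u}) (x : X) :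
    Brnch.numGeomBranchesAt X x = (minimalPrimes (SHzn.S (X.presheaf.stalk x))).encard := by
  haveI := SHzn.isStrictHenselization (X.presheaf.stalk x)
  exact (Groth.Agent.S9238.result (X.presheaf.stalk x) (SHzn.S (X.presheaf.stalk x))).symm

theorem encard_components_le_numGeomBranchesAt (U : Scheme.{u}) (u : U) :
    {Z : Set U | Z ∈ irreducibleComponents U ∧ u ∈ Z}.encard ≤ Brnch.numGeomBranchesAt U u := by
  haveI := SHzn.isStrictHenselization (U.presheaf.stalk u)
  haveI : Module.FaithfullyFlat (U.presheaf.stalk u) (SHzn.S (U.presheaf.stalk u)) :=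
    HFlat.faithfullyFlat_of_isStrictHenselization _ _
  rw [numGeomBranchesAt_eq_encard_minimalPrimes_SH]
  exact (encard_components_le_minimalPrimes_stalk U u).trans
    (encard_minimalPrimes_le_of_faithfullyFlat _ _)

theorem exists_etale_nbhd_of_natCast_le (X : Scheme.{u}) (x : X) (n : ℕ)
    (hn : (n : ℕ∞) ≤ Brnch.numGeomBranchesAt X x) :
    ∃ (U : Scheme.{u}) (g : U ⟶ X) (u : U), Etale g ∧ g u = x ∧
      (n : ℕ∞) ≤ {Z : Set U | Z ∈ irreducibleComponents U ∧ u ∈ Z}.encard := by
  rw [numGeomBranchesAt_eq_encard_minimalPrimes_SH] at hn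
  obtain ⟨_, ⟨V, hV, rfl⟩, hxV, -⟩ :=
    X.isBasis_affineOpens.exists_subset_of_mem_open (Set.mem_univ x) isOpen_univ
  letI := X.presheaf.algebra_section_stalk ⟨x, hxV⟩
  haveI := hV.isLocalization_stalk ⟨x, hxV⟩
  haveI := SHzn.isStrictHenselization (X.presheaf.stalk x)
  letI : Algebra Γ(X, V) (SHzn.S (X.presheaf.stalk x)) :=
    ((algebraMap (X.presheaf.stalk x) (SHzn.S (X.presheaf.stalk x))).comp
      (algebraMap Γ(X, V) (X.presheaf.stalk x))).toAlgebra
  haveI : IsScalarTower Γ(X, V) (X.presheaf.stalk x) (SHzn.S (X.presheaf.stalk x)) :=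
    IsScalarTower.of_algebraMap_eq' rfl
  obtain ⟨C, _, _, hC, q, hq, hqp, hle⟩ :=
    exists_etale_of_natCast_le Γ(X, V) (hV.primeIdealOf ⟨x, hxV⟩).asIdeal
      (X.presheaf.stalk x) (SHzn.S (X.presheaf.stalk x)) n hn
  refine ⟨Spec (CommRingCat.of C),
    Spec.map (CommRingCat.ofHom (algebraMap Γ(X, V) C)) ≫ hV.fromSpec, ⟨q, hq⟩, ?_, ?_, ?_⟩
  · haveI : Etale (Spec.map (CommRingCat.ofHom (algebraMap Γ(X, V) C))) := by
      rw [HasRingHomProperty.Spec_iff (P := @Etale)]
      exact RingHom.etale_algebraMap.mpr hC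
    haveI : IsOpenImmersion hV.fromSpec := inferInstance
    infer_instance
  · have h1 : (Spec.map (CommRingCat.ofHom (algebraMap Γ(X, V) C))) ⟨q, hq⟩ =
        hV.primeIdealOf ⟨x, hxV⟩ := PrimeSpectrum.ext hqp
    rw [Scheme.Hom.comp_apply, h1]
    exact hV.fromSpec_primeIdealOf ⟨x, hxV⟩
  · exact hle.trans (encard_minimalPrimes_le_components_spec C ⟨q, hq⟩)

theorem numGeomBranchesAt_eq_iSup (X : Scheme.{u}) (x : X) :
    Brnch.numGeomBranchesAt X x = ⨆ (U : Scheme.{u}) (g : U ⟶ X) (u : U) (_ : Etale g ∧ g u = x),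
      {Z : Set ↑U | Z ∈ irreducibleComponents ↑U ∧ u ∈ Z}.encard := by
  apply le_antisymm
  · rw [← ENat.forall_natCast_le_iff_le]
    intro n hn
    obtain ⟨U, g, u, hg, hgu, hle⟩ := exists_etale_nbhd_of_natCast_le X x n hn
    exact hle.trans (le_iSup_of_le U (le_iSup_of_le g (le_iSup_of_le u
      (le_iSup_of_le ⟨hg, hgu⟩ le_rfl))))
  · refine iSup_le fun U => iSup_le fun g => iSup_le fun u => iSup_le fun h => ?_
    obtain ⟨hg, rfl⟩ := h
    haveI := hg
    rw [← numGeomBranchesAt_eq_of_etale g u]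
    exact encard_components_le_numGeomBranchesAt U u

theorem one_le_encard_components (U : Scheme.{u}) (u : U) :
    1 ≤ {Z : Set U | Z ∈ irreducibleComponents U ∧ u ∈ Z}.encard := by
  rw [Set.one_le_encard_iff_nonempty]
  obtain ⟨Z, hZ, hu⟩ := exists_mem_irreducibleComponents_subset_of_isIrreducible {u}
    isIrreducible_singleton
  exact ⟨Z, hZ, hu rfl⟩

theorem isGeomUnibranch_stalk_iff (X : Scheme.{u}) (x : X) :
    CAlg2.IsGeomUnibranch ↑(X.presheaf.stalk x) ↔
      ∀ (U : Scheme.{u}) (g : U ⟶ X) (u : U), Etale g → g u = x →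
        {Z : Set ↑U | Z ∈ irreducibleComponents ↑U ∧ u ∈ Z}.encard = 1 := by
  rw [← Groth.Agent.S9236.result]
  show Brnch.numGeomBranchesAt X x = 1 ↔ _
  constructor
  · intro h U g u hg hgu
    apply le_antisymm _ (one_le_encard_components U u)
    rw [← h, numGeomBranchesAt_eq_iSup X x]
    exact le_iSup_of_le U (le_iSup_of_le g (le_iSup_of_le u
      (le_iSup_of_le ⟨hg, hgu⟩ le_rfl)))
  · intro h
    rw [numGeomBranchesAt_eq_iSup X x]
    apply le_antisymm
    · refine iSup_le fun U => iSup_le fun g => iSup_le fun u => iSup_le fun hh => ?_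
      exact (h U g u hh.1 hh.2).le
    · refine le_iSup_of_le X (le_iSup_of_le (𝟙 X) (le_iSup_of_le x
        (le_iSup_of_le ⟨inferInstance, rfl⟩ ?_)))
      exact one_le_encard_components X x

end Groth.Agent.Helper15.BrnchEt
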