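import Groth.Prelude.Def_RelProj

/-!
# Projective space over a base is proper; H-projective = H-quasi-projective + proper
-/

set_option autoImplicit false
universe u
open CategoryTheory CategoryTheory.Limits AlgebraicGeometry

namespace Groth.Agent.Helper15

theorem surjective_algebraMap_polyGrading_zero (n : ℕ) (R : Type u) [CommRing R] :
    Function.Surjective (algebraMap R (CohB1.polyGrading n R 0)) := by
  rintro ⟨p, hp⟩
  have hp' : p.IsHomogeneous 0 := hp
  refine ⟨MvPolynomial.coeff 0 p, ?_⟩
  apply Subtype.ext
  change MvPolynomial.C (MvPolynomial.coeff 0 p) = p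
  exact (MvPolynomial.totalDegree_eq_zero_iff_eq_C.1
    (Nat.le_zero.1 (hp'.totalDegree_le))).symm

instance (n : ℕ) (R : Type u) [CommRing R] :
    Algebra.FiniteType (CohB1.polyGrading n R 0) (MvPolynomial (Fin (n + 1)) R) := by
  haveI : IsScalarTower R (CohB1.polyGrading n R 0) (MvPolynomial (Fin (n + 1)) R) := by
    refine ⟨fun r a m => ?_⟩
    change ((r • a : CohB1.polyGrading n R 0) : MvPolynomial (Fin (n + 1)) R) * m =
      r • ((a : MvPolynomial (Fin (n + 1)) R) * m)
    rw [Submodule.coe_smul, smul_mul_assoc]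
  exact Algebra.FiniteType.of_restrictScalars_finiteType R _ _

instance isProper_projSpace_toSpec (n : ℕ) (R : Type u) [CommRing R] :
    IsProper (CohB1.ProjSpace.toSpec n R) := by
  unfold CohB1.ProjSpace.toSpec
  have h1 : IsProper (Proj.toSpecZero (CohB1.polyGrading n R)) := inferInstance
  refine MorphismProperty.comp_mem (W := @IsProper) _ _ h1 ?_
  have h2 : IsClosedImmersion (Spec.map (CommRingCat.ofHom
      (algebraMap R (CohB1.polyGrading n R 0)))) :=
    IsClosedImmersion.spec_of_surjective _ (surjective_algebraMap_polyGrading_zero n R)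
  exact inferInstanceAs (IsProper (Spec.map (CommRingCat.ofHom
      (algebraMap R (CohB1.polyGrading n R 0)))))

instance isProper_projSpaceOver_toBase (n : ℕ) (S : Scheme.{u}) :
    IsProper (CohB1.ProjSpaceOver.toBase n S) := by
  unfold CohB1.ProjSpaceOver.toBase
  exact MorphismProperty.pullback_snd (P := @IsProper) _ _ (isProper_projSpace_toSpec n _)

theorem isHProjective_iff {X S : Scheme.{u}} (f : X ⟶ S) :
    RelProj.IsHProjective f ↔ RelProj.IsHQuasiProjective f ∧ IsProper f := by
  constructor
  · rintro ⟨n, i, hi, hif⟩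
    refine ⟨⟨n, i, inferInstance, inferInstance, hif⟩, ?_⟩
    rw [← hif]
    infer_instance
  · rintro ⟨⟨n, i, himm, hqc, hif⟩, hproper⟩
    refine ⟨n, i, ?_, hif⟩
    haveI : UniversallyClosed (i ≫ CohB1.ProjSpaceOver.toBase n S) := by rw [hif]; infer_instance
    haveI : UniversallyClosed i :=
      UniversallyClosed.of_comp_of_isSeparated i (CohB1.ProjSpaceOver.toBase n S)
    exact IsClosedImmersion.of_isPreimmersion i i.isClosedMap.isClosed_range

end Groth.Agent.Helper15
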