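import Groth.Agent.Lib.Helper15.AffStr3
import Groth.Prelude.Def_MoreMor

/-!
# A scheme has a finite affine stratification iff it is quasi-compact and quasi-separated
-/

set_option autoImplicit false
universe u
open CategoryTheory CategoryTheory.Limits AlgebraicGeometry

namespace Groth.Agent.Helper15.AffStr

theorem good_of_goodW {L X : Scheme.{u}} (ρ : L ⟶ X) [IsImmersion ρ] (Us : List X.Opens)
    (hUs : ∀ U ∈ Us, IsAffineOpen U) (hcov : lsup Us = ⊤) {P : Set L}
    (h : GoodW L (Us.map (ρ ⁻¹ᵁ ·)) P) : Good X (ρ '' P) := by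
  obtain ⟨Q, π, hπ, hQ, hr, hW⟩ := h
  refine ⟨Q, π ≫ ρ, inferInstance, hQ, ?_, ?_⟩
  · apply isAffineHom_of_forall_exists_isAffineOpen
    intro x
    have hx : x ∈ lsup Us := by rw [hcov]; trivial
    obtain ⟨U, hU, hxU⟩ := (mem_lsup Us x).1 hx
    refine ⟨U, hxU, hUs U hU, ?_⟩
    rw [Scheme.Hom.comp_preimage]
    rcases hW (ρ ⁻¹ᵁ U) (List.mem_map.2 ⟨U, hU, rfl⟩) with h1 | h1
    · rw [h1]; exact isAffineOpen_bot _
    · rw [h1]; exact isAffineOpen_top _
  · rw [← hr]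
    ext x
    simp only [Set.mem_range, Set.mem_image, Scheme.Hom.comp_apply]
    constructor
    · rintro ⟨q, rfl⟩
      exact ⟨π q, ⟨q, rfl⟩, rfl⟩
    · rintro ⟨_, ⟨q, rfl⟩, rfl⟩
      exact ⟨q, rfl⟩

theorem chain_piece (X : Scheme.{u}) [QuasiSeparatedSpace X] (Us : List X.Opens)
    (hUs : ∀ U ∈ Us, IsAffineOpen U) (hcov : lsup Us = ⊤) (U : X.Opens) (hU : IsAffineOpen U)
    (O : X.Opens) :
    ChainFrom (Good X) (((O ⊔ U : X.Opens) : Set X)ᶜ) ((O : Set X)ᶜ) := by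
  haveI : IsAffine (U : Scheme.{u}) := hU
  obtain ⟨L, i, hi, hri⟩ := exists_closedImmersion_range_eq (X := (U : Scheme.{u}))
    (U.ι ⁻¹' (O : Set X)ᶜ) (O.isOpen.isClosed_compl.preimage U.ι.continuous)
  haveI := hi
  haveI : IsAffine L := isAffine_of_isAffineHom i
  let ρ : L ⟶ X := i ≫ U.ι
  haveI : IsImmersion ρ := by dsimp only [ρ]; infer_instance
  have hr : Set.range ρ = (O : Set X)ᶜ \ ((O ⊔ U : X.Opens) : Set X)ᶜ := by
    ext x
    simp only [Set.mem_range, Set.mem_diff, Set.mem_compl_iff, SetLike.mem_coe, ρ,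
      Scheme.Hom.comp_apply]
    constructor
    · rintro ⟨l, rfl⟩
      have h1 : i l ∈ U.ι ⁻¹' (O : Set X)ᶜ := hri ▸ Set.mem_range_self l
      refine ⟨h1, fun h => h (Or.inr (i l).2)⟩
    · rintro ⟨h1, h2⟩
      have hxU : x ∈ U := by
        by_contra hxU
        apply h2
        rintro (h | h)
        · exact h1 h
        · exact hxU h
      have : (⟨x, hxU⟩ : U) ∈ Set.range i := by
        rw [hri]
        exact h1
      obtain ⟨l, hl⟩ := this
      exact ⟨l, by rw [hl]; rfl⟩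
  have hc : ∀ W ∈ Us.map (ρ ⁻¹ᵁ ·), IsCompact (W : Set L) := by
    intro W hW
    obtain ⟨W', hW', rfl⟩ := List.mem_map.1 hW
    exact ρ.isCompact_preimage (hUs W' hW').isCompact
  have hchain := chain_goodW _ L (Us.map (ρ ⁻¹ᵁ ·)) rfl hc
  refine ChainFrom.map_univ ρ ρ.isEmbedding (O ⊔ U).isOpen.isClosed_compl O.isOpen.isClosed_compl
    ?_ hr (fun P hP => good_of_goodW ρ Us hUs hcov hP) hchain
  intro x hx hxO
  exact hx (Or.inl hxO)

theorem chain_good (X : Scheme.{u}) [QuasiSeparatedSpace X] (Us : List X.Opens)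
    (hUs : ∀ U ∈ Us, IsAffineOpen U) (hcov : lsup Us = ⊤) :
    ∀ (Vs : List X.Opens), (∀ V ∈ Vs, IsAffineOpen V) → ∀ O : X.Opens,
      ChainFrom (Good X) (((O ⊔ lsup Vs : X.Opens) : Set X)ᶜ) ((O : Set X)ᶜ) := by
  intro Vs
  induction Vs with
  | nil =>
    intro _ O
    rw [lsup_nil, sup_bot_eq]
    exact .refl
  | cons V Vs ih =>
    intro hVs O
    have h1 := ih (fun V' hV' => hVs V' (List.mem_cons_of_mem _ hV')) (O ⊔ V)
    have h2 := chain_piece X Us hUs hcov V (hVs V List.mem_cons_self) O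
    rw [lsup_cons, ← sup_assoc]
    exact h1.trans h2

theorem hasAffineStratification_of_qcqs (X : Scheme.{u}) [CompactSpace X] [QuasiSeparatedSpace X] :
    ∃ n : ℕ, MoreMor.HasAffineStratification X n := by
  obtain ⟨Us, hUs, hcov⟩ := exists_list_affineOpens (⊤ : X.Opens) isCompact_univ
  have h := chain_good X Us hUs hcov.symm Us hUs ⊥
  rw [bot_sup_eq, ← hcov] at h
  have h' : ChainFrom (Good X) ∅ Set.univ := by simpa using h
  obtain ⟨n, s, hs1, hs2⟩ := h'.exists_strat (good_empty X)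
  refine ⟨n, s, fun i => ?_, fun i => ?_⟩
  · simpa using hs1 i
  · obtain ⟨Z, ι, h1, h2, h3, h4⟩ := hs2 i
    exact ⟨Z, ι, h1, h2, h3, by simpa using h4⟩

theorem qcqs_of_hasAffineStratification {X : Scheme.{u}} {n : ℕ}
    (h : MoreMor.HasAffineStratification X n) : CompactSpace X ∧ QuasiSeparatedSpace X := by
  obtain ⟨s, -, hs⟩ := h
  choose Z ι himm haff hah hr using hs
  have hcover : ∀ x : X, ∃ i, x ∈ Set.range (ι i) := fun x => ⟨s x, by rw [hr]; rfl⟩
  constructor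
  · rw [← isCompact_univ_iff]
    have : (Set.univ : Set X) = ⋃ i, Set.range (ι i) := by
      ext x
      simp only [Set.mem_univ, Set.mem_iUnion, true_iff]
      exact hcover x
    rw [this]
    exact isCompact_iUnion fun i => isCompact_range (ι i).continuous
  · rw [quasiSeparatedSpace_iff_forall_affineOpens]
    intro U V
    have : ((U : X.Opens) : Set X) ∩ (V : X.Opens) =
        ⋃ i, (ι i) '' (((ι i) ⁻¹ᵁ (U : X.Opens) : (Z i).Opens) ∩ ((ι i) ⁻¹ᵁ (V : X.Opens) : (Z i).Opens) :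
          Set (Z i)) := by
      ext x
      simp only [Set.mem_inter_iff, SetLike.mem_coe, Set.mem_iUnion, Set.mem_image]
      constructor
      · rintro ⟨hxU, hxV⟩
        obtain ⟨i, z, rfl⟩ := hcover x
        exact ⟨i, z, ⟨hxU, hxV⟩, rfl⟩
      · rintro ⟨i, z, ⟨hzU, hzV⟩, rfl⟩
        exact ⟨hzU, hzV⟩
    rw [this]
    refine isCompact_iUnion fun i => IsCompact.image ?_ (ι i).continuous
    haveI := haff i
    haveI := hah i
    have hU' : IsAffineOpen ((ι i) ⁻¹ᵁ (U : X.Opens)) := U.2.preimage (ι i)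
    have hV' : IsAffineOpen ((ι i) ⁻¹ᵁ (V : X.Opens)) := V.2.preimage (ι i)
    exact QuasiSeparatedSpace.inter_isCompact _ _ ((ι i) ⁻¹ᵁ (U : X.Opens)).2 hU'.isCompact
      ((ι i) ⁻¹ᵁ (V : X.Opens)).2 hV'.isCompact

end Groth.Agent.Helper15.AffStr
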