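import Groth.Prelude.Def_Flat
import Mathlib.AlgebraicGeometry.Artinian
import Mathlib.AlgebraicGeometry.ZariskisMainTheorem
import Mathlib.AlgebraicGeometry.Morphisms.QuasiFinite

set_option autoImplicit false
universe u

open CategoryTheory CategoryTheory.Limits AlgebraicGeometry Opposite

namespace Groth.Agent.Helper15.FibDim

theorem isOpen_singleton_of_localDim_eq_zero {F : Scheme.{u}} [IsLocallyNoetherian F] (z : F)
    (h : FlatMor.localDim F z = 0) : IsOpen ({z} : Set F) := by
  unfold FlatMor.localDim at h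
  have hex : ∃ U : {U : TopologicalSpace.Opens F // z ∈ U},
      topologicalKrullDim (U.1 : Set F) < 1 := by
    by_contra hcon
    push Not at hcon
    have h1 : (1 : WithBot ℕ∞) ≤ ⨅ U : {U : TopologicalSpace.Opens F // z ∈ U},
        topologicalKrullDim (U.1 : Set F) := le_iInf hcon
    rw [h] at h1
    exact absurd h1 (by decide)
  obtain ⟨⟨U, hzU⟩, hU⟩ := hex
  have hU0 : topologicalKrullDim (U : Set F) ≤ 0 := by
    rcases hd : topologicalKrullDim (U : Set F) with _ | n
    · exact bot_le
    · rw [hd] at hU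
      have h2 : (n : WithBot ℕ∞) < ((1 : ℕ∞) : WithBot ℕ∞) := hU
      rw [WithBot.coe_lt_coe] at h2
      have : n = 0 := Order.lt_one_iff.mp h2
      subst this
      exact le_refl _
  haveI : IsLocallyArtinian (U : Scheme) := .of_topologicalKrullDim_le_zero hU0
  haveI : DiscreteTopology U := inferInstance
  have := (isOpen_discrete ({⟨z, hzU⟩} : Set U)).trans U.2
  have e : ({z} : Set F) = Subtype.val '' ({⟨z, hzU⟩} : Set U) := by
    ext y
    constructor
    · rintro rfl
      exact ⟨⟨y, hzU⟩, rfl, rfl⟩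
    · rintro ⟨w, hw, rfl⟩
      rw [hw]
      rfl
  rw [e]
  exact this

theorem localDim_eq_zero_of_isOpen_singleton {F : Type*} [TopologicalSpace F] (z : F)
    (h : IsOpen ({z} : Set F)) : FlatMor.localDim F z = 0 := by
  unfold FlatMor.localDim
  apply le_antisymm
  · refine (iInf_le _ (⟨⟨{z}, h⟩, rfl⟩ : {U : TopologicalSpace.Opens F // z ∈ U})).trans ?_
    haveI : Subsingleton (({z} : Set F)) := ⟨fun a b => Subtype.ext (a.2.trans b.2.symm)⟩
    haveI : DiscreteTopology (({z} : Set F)) := Subsingleton.discreteTopology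
    exact topologicalKrullDim_zero_of_discreteTopology (({z} : Set F))
  · refine le_iInf fun U => ?_
    haveI : Nonempty ((U.1 : Set F)) := ⟨⟨z, U.2⟩⟩
    haveI : Nonempty (TopologicalSpace.IrreducibleCloseds ((U.1 : Set F))) :=
      ⟨⟨closure {⟨z, U.2⟩}, isIrreducible_singleton.closure, isClosed_closure⟩⟩
    exact Order.krullDim_nonneg

theorem fibreDimAt_eq_zero_iff_quasiFiniteAt {X Y : Scheme.{u}} (f : X ⟶ Y)
    [LocallyOfFiniteType f] (x : X) : FlatMor.fibreDimAt f x = 0 ↔ f.QuasiFiniteAt x := by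
  rw [Scheme.Hom.quasiFiniteAt_iff_isOpen_singleton_asFiber]
  unfold FlatMor.fibreDimAt
  haveI : LocallyOfFiniteType (f.fiberToSpecResidueField (f x)) := by
    unfold Scheme.Hom.fiberToSpecResidueField
    exact MorphismProperty.pullback_snd _ _ ‹_›
  haveI : IsLocallyNoetherian (f.fiber (f x)) :=
    LocallyOfFiniteType.isLocallyNoetherian (f.fiberToSpecResidueField (f x))
  exact ⟨isOpen_singleton_of_localDim_eq_zero _, localDim_eq_zero_of_isOpen_singleton _⟩

end Groth.Agent.Helper15.FibDim
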