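import Groth.Agent.Lib.Helper14.EtaleReduced
import Mathlib.AlgebraicGeometry.Morphisms.Etale
import Mathlib.AlgebraicGeometry.IdealSheaf.Subscheme

set_option autoImplicit false
set_option linter.style.haveILetI false
universe u
open CategoryTheory CategoryTheory.Limits AlgebraicGeometry

namespace Groth.Agent.Helper15

/-- A scheme etale over a reduced scheme is reduced. -/
theorem isReduced_of_etale {X Y : Scheme.{u}} (f : X ⟶ Y) [Etale f] [IsReduced Y] :
    IsReduced X := by
  refine @isReduced_of_isReduced_stalk X (fun x => ?_)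
  obtain ⟨_, ⟨W, hW, rfl⟩, hxW, -⟩ :=
    Y.isBasis_affineOpens.exists_subset_of_mem_open (Set.mem_univ (f x)) isOpen_univ
  obtain ⟨_, ⟨V, hV, rfl⟩, hxV, hVW⟩ :=
    X.isBasis_affineOpens.exists_subset_of_mem_open (show x ∈ (f ⁻¹ᵁ W : Set X) from hxW)
      (f ⁻¹ᵁ W).isOpen
  have he : RingHom.Etale (f.appLE W V hVW).hom :=
    HasRingHomProperty.appLE (P := @Etale) f inferInstance ⟨W, hW⟩ ⟨V, hV⟩ hVW
  algebraize [(f.appLE W V hVW).hom]
  haveI : _root_.IsReduced Γ(Y, W) := inferInstance
  haveI : _root_.IsReduced Γ(X, V) := Groth.Agent.Helper14.isReduced_of_etale Γ(Y, W) Γ(X, V)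
  letI := TopCat.Presheaf.algebra_section_stalk X.presheaf (⟨x, hxV⟩ : V)
  haveI := hV.isLocalization_stalk ⟨x, hxV⟩
  exact isReduced_localizationPreserves (hV.primeIdealOf ⟨x, hxV⟩).asIdeal.primeCompl
    (X.presheaf.stalk x) inferInstance

/-- The reduced induced closed subscheme structure is reduced. -/
instance isReduced_vanishingIdeal_subscheme {X : Scheme.{u}} (Z : TopologicalSpace.Closeds X) :
    IsReduced (Scheme.IdealSheafData.vanishingIdeal Z).subscheme := by
  set I := Scheme.IdealSheafData.vanishingIdeal Z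
  rw [IsReduced.iff_of_openCover (X := I.subscheme) I.subschemeCover.openCover]
  intro (U : X.affineOpens)
  have h3 : (I.ideal U).IsRadical := by
    rw [Scheme.IdealSheafData.vanishingIdeal_ideal]
    exact PrimeSpectrum.isRadical_vanishingIdeal _
  have h2 : _root_.IsReduced (Γ(X, U) ⧸ I.ideal U) := (Ideal.isRadical_iff_quotient_reduced _).mp h3
  exact (affine_isReduced_iff (.of (Γ(X, U) ⧸ I.ideal U))).mpr h2

end Groth.Agent.Helper15
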