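import Mathlib.RingTheory.Ideal.GoingDown
import Mathlib.RingTheory.Ideal.Height
import Mathlib.RingTheory.QuasiFinite.Basic
import Mathlib.RingTheory.Flat.Basic

set_option autoImplicit false
universe u

namespace Groth.Agent.Helper15

/-- Quasi-finite algebras do not raise the Krull dimension. -/
theorem ringKrullDim_le_of_quasiFinite (A B : Type u) [CommRing A] [CommRing B] [Algebra A B]
    [Algebra.QuasiFinite A B] : ringKrullDim B ≤ ringKrullDim A := by
  apply Order.krullDim_le_of_strictMono (PrimeSpectrum.comap (algebraMap A B))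
  intro P Q hPQ
  have hle : P.asIdeal ≤ Q.asIdeal := hPQ.le
  refine lt_of_le_of_ne (Ideal.comap_mono hle) ?_
  intro heq
  have h1 : P.asIdeal.under A = Q.asIdeal.under A := congrArg PrimeSpectrum.asIdeal heq
  have h2 := Algebra.QuasiFinite.eq_of_le_of_under_eq (R := A) P.asIdeal Q.asIdeal hle h1
  exact hPQ.ne (PrimeSpectrum.ext h2)

/-- A flat local homomorphism of local rings does not lower the Krull dimension. -/
theorem ringKrullDim_le_of_flat_of_isLocalHom (A B : Type u) [CommRing A] [CommRing B]
    [IsLocalRing A] [IsLocalRing B] [Algebra A B] [IsLocalHom (algebraMap A B)]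
    [Module.Flat A B] : ringKrullDim A ≤ ringKrullDim B := by
  rw [← IsLocalRing.maximalIdeal_height_eq_ringKrullDim,
    ← IsLocalRing.maximalIdeal_height_eq_ringKrullDim (R := B)]
  norm_cast
  haveI : (IsLocalRing.maximalIdeal B).LiesOver (IsLocalRing.maximalIdeal A) :=
    ⟨(((IsLocalRing.local_hom_TFAE (algebraMap A B)).out 0 4 rfl rfl).mp inferInstance).symm⟩
  have hA := PrimeSpectrum.height_eq_orderHeight
    (⟨IsLocalRing.maximalIdeal A, inferInstance⟩ : PrimeSpectrum A)
  have hB := PrimeSpectrum.height_eq_orderHeight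
    (⟨IsLocalRing.maximalIdeal B, inferInstance⟩ : PrimeSpectrum B)
  simp only at hA hB
  rw [hA, hB]
  apply Order.height_le
  intro p hp
  haveI : (IsLocalRing.maximalIdeal B).LiesOver p.last.asIdeal := by rw [hp]; infer_instance
  obtain ⟨L, hL1, hL2, -⟩ := Ideal.exists_ltSeries_of_hasGoingDown p (IsLocalRing.maximalIdeal B)
  rw [← hL1, ← hL2]
  exact Order.length_le_height_last

end Groth.Agent.Helper15
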