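import Mathlib
import Groth.Prelude.Def_FlatCA

set_option autoImplicit false
universe u v w

namespace Groth.Agent.Helper15.RelFP

open TensorProduct

section FPVia

variable {A : Type*} {B : Type*} {S : Type*} [CommRing A] [CommRing B] [CommRing S]

/-- `N` is finitely presented as an `A`-module through `φ : A →+* S`. -/
def FPVia (φ : A →+* S) (N : Type*) [AddCommGroup N] [Module S N] : Prop :=
  letI := Module.compHom N φ
  Module.FinitePresentation A N

theorem fpVia_iff (φ : A →+* S) (N : Type*) [AddCommGroup N] [Module S N] [Module A N]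
    (h : ∀ (a : A) (n : N), a • n = φ a • n) : FPVia φ N ↔ Module.FinitePresentation A N := by
  have : (Module.compHom N φ : Module A N) = ‹Module A N› := by
    apply Module.ext'
    intro a n
    exact (h a n).symm
  unfold FPVia
  rw [this]

/-- restriction along a surjection with finitely generated kernel -/
theorem FPVia.comp_of_surjective (ψ : A →+* B) (φ : B →+* S) (hψ : Function.Surjective ψ)
    (hk : (RingHom.ker ψ).FG) {N : Type*} [AddCommGroup N] [Module S N] (h : FPVia φ N) :
    FPVia (φ.comp ψ) N := by
  letI mB : Module B N := Module.compHom N φ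
  letI mA : Module A N := Module.compHom N (φ.comp ψ)
  letI := ψ.toAlgebra
  haveI : IsScalarTower A B N := IsScalarTower.of_algebraMap_smul fun a n => rfl
  haveI : Module.FinitePresentation B N := h
  haveI : Module.FinitePresentation A B := by
    refine Module.finitePresentation_of_surjective (Algebra.linearMap A B) hψ ?_
    have : LinearMap.ker (Algebra.linearMap A B) = RingHom.ker ψ := by
      ext x
      simp [RingHom.mem_ker, RingHom.algebraMap_toAlgebra]
    rw [this]
    exact hk
  exact Module.FinitePresentation.trans A N B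

/-- descending along a surjection -/
theorem FPVia.of_comp_surjective (ψ : A →+* B) (φ : B →+* S) (hψ : Function.Surjective ψ)
    {N : Type*} [AddCommGroup N] [Module S N] (h : FPVia (φ.comp ψ) N) : FPVia φ N := by
  letI mB : Module B N := Module.compHom N φ
  letI mA : Module A N := Module.compHom N (φ.comp ψ)
  letI := ψ.toAlgebra
  haveI : IsScalarTower A B N := IsScalarTower.of_algebraMap_smul fun a n => rfl
  haveI : Module.FinitePresentation A N := h
  have hbc : IsBaseChange B (LinearMap.id : N →ₗ[A] N) := by
    apply IsBaseChange.of_lift_unique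
    intro Q _ _ _ _ g
    refine ⟨{ g with map_smul' := ?_ }, ?_, ?_⟩
    · intro b n
      obtain ⟨a, rfl⟩ := hψ b
      change g ((algebraMap A B a) • n) = (algebraMap A B a) • g n
      rw [algebraMap_smul, algebraMap_smul, map_smul]
    · ext n; rfl
    · intro g' hg'
      ext n
      exact LinearMap.congr_fun hg' n
  exact FinitePresentation.of_isBaseChange (LinearMap.id : N →ₗ[A] N) hbc

end FPVia

section K

variable {R S P : Type u} [CommRing R] [CommRing S] [CommRing P] [Algebra R S] [Algebra R P]

theorem relFP_def (N : Type u) [AddCommGroup N] [Module S N] :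
    FlatCA.RelFinitePresentation R S N ↔
      ∃ (n : ℕ) (φ : MvPolynomial (Fin n) R →ₐ[R] S), Function.Surjective φ ∧
        FPVia φ.toRingHom N := Iff.rfl

theorem fpVia_mvPolynomial_indep {n m : ℕ} (φ : MvPolynomial (Fin n) R →ₐ[R] S)
    (hφ : Function.Surjective φ) (ψ : MvPolynomial (Fin m) R →ₐ[R] S) (hψ : Function.Surjective ψ)
    (N : Type*) [AddCommGroup N] [Module S N] (h : FPVia φ.toRingHom N) : FPVia ψ.toRingHom N := by
  classical
  choose hh hhs using fun j => hφ (ψ (MvPolynomial.X j))
  choose gg ggs using fun i => hψ (φ (MvPolynomial.X i))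
  let p₁ : MvPolynomial (Fin n ⊕ Fin m) R →ₐ[R] MvPolynomial (Fin n) R :=
    MvPolynomial.aeval (Sum.elim MvPolynomial.X hh)
  let p₂ : MvPolynomial (Fin n ⊕ Fin m) R →ₐ[R] MvPolynomial (Fin m) R :=
    MvPolynomial.aeval (Sum.elim gg MvPolynomial.X)
  have e₁ : φ.comp p₁ = ψ.comp p₂ := by
    apply MvPolynomial.algHom_ext
    rintro (i | j)
    · simp [p₁, p₂, ggs]
    · simp [p₁, p₂, hhs]
  have hp₁ : Function.Surjective p₁ := by
    intro x
    refine ⟨MvPolynomial.rename Sum.inl x, ?_⟩
    change MvPolynomial.aeval (Sum.elim MvPolynomial.X hh) (MvPolynomial.rename Sum.inl x) = x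
    rw [MvPolynomial.aeval_rename]
    simp [Function.comp_def]
  have hp₂ : Function.Surjective p₂ := by
    intro x
    refine ⟨MvPolynomial.rename Sum.inr x, ?_⟩
    change MvPolynomial.aeval (Sum.elim gg MvPolynomial.X) (MvPolynomial.rename Sum.inr x) = x
    rw [MvPolynomial.aeval_rename]
    simp [Function.comp_def]
  have hk₁ : (RingHom.ker p₁.toRingHom).FG :=
    Algebra.FinitePresentation.ker_fG_of_surjective p₁ hp₁
  have h1 : FPVia (φ.toRingHom.comp p₁.toRingHom) N := FPVia.comp_of_surjective _ _ hp₁ hk₁ h
  have h2 : FPVia (ψ.toRingHom.comp p₂.toRingHom) N := by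
    have : φ.toRingHom.comp p₁.toRingHom = ψ.toRingHom.comp p₂.toRingHom :=
      congrArg AlgHom.toRingHom e₁
    rwa [this] at h1
  exact FPVia.of_comp_surjective _ _ hp₂ h2

/-- relative finite presentation can be tested on any surjection from a finitely presented
`R`-algebra. -/
theorem relFP_iff_fpVia [Algebra.FinitePresentation R P] (π : P →ₐ[R] S)
    (hπ : Function.Surjective π) (N : Type u) [AddCommGroup N] [Module S N] :
    FlatCA.RelFinitePresentation R S N ↔ FPVia π.toRingHom N := by
  obtain ⟨m, f, hf, hk⟩ := Algebra.FinitePresentation.out (R := R) (A := P)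
  constructor
  · rintro ⟨n, φ, hφ, hN⟩
    have h1 : FPVia (π.comp f).toRingHom N :=
      fpVia_mvPolynomial_indep φ hφ (π.comp f) (hπ.comp hf) N hN
    exact FPVia.of_comp_surjective f.toRingHom π.toRingHom hf h1
  · intro h
    exact ⟨m, π.comp f, hπ.comp hf, FPVia.comp_of_surjective f.toRingHom π.toRingHom hf hk h⟩

end K

end Groth.Agent.Helper15.RelFP
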