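import Mathlib
import Groth.Prelude.Def_FlatCA
import Groth.Agent.Lib.Helper15.RelFP1

set_option autoImplicit false
universe u v w

namespace Groth.Agent.Helper15.RelFP

open TensorProduct

section AwayMap

variable {R P S S' : Type u} [CommRing R] [CommRing P] [CommRing S] [CommRing S']
  [Algebra R P] [Algebra R S] [Algebra S S'] [Algebra R S'] [IsScalarTower R S S']
  (φ : P →ₐ[R] S) (p : P) [hloc : IsLocalization.Away (φ p) S']

/-- the map `P[1/p] → S'` induced by `φ : P → S`, where `S' = S[1/φ p]`. -/
noncomputable def awayMap₀ : Localization.Away p →+* S' :=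
  haveI : IsLocalization.Away (φ.toRingHom p) S' := hloc
  IsLocalization.Away.map (Localization.Away p) S' φ.toRingHom p

theorem awayMap₀_algebraMap (x : P) :
    awayMap₀ (S' := S') φ p (algebraMap P (Localization.Away p) x) = algebraMap S S' (φ x) := by
  haveI : IsLocalization.Away (φ.toRingHom p) S' := hloc
  unfold awayMap₀ IsLocalization.Away.map
  exact IsLocalization.map_eq _ x

/-- the map `P[1/p] → S'` induced by `φ : P → S`, where `S' = S[1/φ p]`, as an algebra map. -/
noncomputable def awayMap : Localization.Away p →ₐ[R] S' :=
  { awayMap₀ (S' := S') φ p with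
    commutes' := fun r => by
      change awayMap₀ (S' := S') φ p (algebraMap R (Localization.Away p) r) = _
      rw [IsScalarTower.algebraMap_apply R P (Localization.Away p), awayMap₀_algebraMap,
        IsScalarTower.algebraMap_apply R S S']
      congr 1
      exact φ.commutes r }

theorem awayMap_algebraMap (x : P) :
    awayMap (S' := S') φ p (algebraMap P (Localization.Away p) x) = algebraMap S S' (φ x) :=
  awayMap₀_algebraMap φ p x

theorem awayMap_surjective (hφ : Function.Surjective φ) :
    Function.Surjective (awayMap (S' := S') φ p) := by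
  haveI : IsLocalization ((Submonoid.powers p).map φ.toRingHom) S' := by
    rw [Submonoid.map_powers]
    exact hloc
  exact IsLocalization.map_surjective_of_surjective (Submonoid.powers p) (Localization.Away p)
    S' (g := φ.toRingHom) hφ

instance [Algebra.FinitePresentation R P] : Algebra.FinitePresentation R (Localization.Away p) :=
  haveI : Algebra.FinitePresentation P (Localization.Away p) :=
    IsLocalization.Away.finitePresentation p
  Algebra.FinitePresentation.trans R P (Localization.Away p)

variable {N N' : Type u} [AddCommGroup N] [AddCommGroup N']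
    [Module S N] [Module S' N'] [Module S N'] [IsScalarTower S S' N']
    (ℓ : N →ₗ[S] N') [hℓ : IsLocalizedModule (Submonoid.powers (φ p)) ℓ]

include hℓ in
theorem fpVia_awayMap (hN : FPVia φ.toRingHom N) : FPVia (awayMap (S' := S') φ p).toRingHom N' := by
  letI algPS : Algebra P S := φ.toRingHom.toAlgebra
  letI mPN : Module P N := Module.compHom N φ.toRingHom
  letI mPN' : Module P N' := Module.compHom N' (algebraMap P S)
  letI mP'N' : Module (Localization.Away p) N' := Module.compHom N' (awayMap (S' := S') φ p).toRingHom
  haveI : IsScalarTower P S N := IsScalarTower.of_algebraMap_smul fun _ _ => rfl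
  haveI : IsScalarTower P S N' := IsScalarTower.of_algebraMap_smul fun _ _ => rfl
  haveI : IsScalarTower P (Localization.Away p) N' :=
    IsScalarTower.of_algebraMap_smul fun q x => by
      change awayMap (S' := S') φ p (algebraMap _ _ q) • x = (algebraMap P S q) • x
      rw [awayMap_algebraMap, algebraMap_smul]
      rfl
  haveI : IsLocalizedModule (Submonoid.powers (algebraMap P S p)) ℓ := hℓ
  haveI : IsLocalizedModule (Submonoid.powers p) (ℓ.restrictScalars P) :=
    IsLocalizedModule.restrictScalars_powers p ℓ
  haveI : Module.FinitePresentation P N := hN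
  exact FinitePresentation.of_isBaseChange (ℓ.restrictScalars P)
    ((isLocalizedModule_iff_isBaseChange (Submonoid.powers p) (Localization.Away p)
      (ℓ.restrictScalars P)).mp inferInstance)

include hℓ in
theorem finitePresentation_localizedModule_of_fpVia_awayMap
    (h : FPVia (awayMap (S' := S') φ p).toRingHom N') :
    letI : Module P N := Module.compHom N φ.toRingHom
    Module.FinitePresentation (Localization.Away p) (LocalizedModule (Submonoid.powers p) N) := by
  letI algPS : Algebra P S := φ.toRingHom.toAlgebra
  letI mPN : Module P N := Module.compHom N φ.toRingHom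
  letI mPN' : Module P N' := Module.compHom N' (algebraMap P S)
  letI mP'N' : Module (Localization.Away p) N' := Module.compHom N' (awayMap (S' := S') φ p).toRingHom
  haveI : IsScalarTower P S N := IsScalarTower.of_algebraMap_smul fun _ _ => rfl
  haveI : IsScalarTower P S N' := IsScalarTower.of_algebraMap_smul fun _ _ => rfl
  haveI : IsScalarTower P (Localization.Away p) N' :=
    IsScalarTower.of_algebraMap_smul fun q x => by
      change awayMap (S' := S') φ p (algebraMap _ _ q) • x = (algebraMap P S q) • x
      rw [awayMap_algebraMap, algebraMap_smul]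
      rfl
  haveI : IsLocalizedModule (Submonoid.powers (algebraMap P S p)) ℓ := hℓ
  haveI : IsLocalizedModule (Submonoid.powers p) (ℓ.restrictScalars P) :=
    IsLocalizedModule.restrictScalars_powers p ℓ
  haveI : Module.FinitePresentation (Localization.Away p) N' := h
  let e₀ : LocalizedModule (Submonoid.powers p) N ≃ₗ[P] N' :=
    IsLocalizedModule.iso (Submonoid.powers p) (ℓ.restrictScalars P)
  let e : LocalizedModule (Submonoid.powers p) N ≃ₗ[Localization.Away p] N' :=
    e₀.extendScalarsOfIsLocalization (Submonoid.powers p) (Localization.Away p)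
  exact Module.FinitePresentation.of_equiv e.symm

end AwayMap

/-- relative finite presentation passes to principal localizations of the algebra -/
theorem relFP_localization_away {R S S' : Type u} [CommRing R] [CommRing S] [CommRing S']
    [Algebra R S] [Algebra S S'] [Algebra R S'] [IsScalarTower R S S']
    (g : S) [IsLocalization.Away g S'] {N N' : Type u} [AddCommGroup N] [AddCommGroup N']
    [Module S N] [Module S' N'] [Module S N'] [IsScalarTower S S' N']
    (ℓ : N →ₗ[S] N') [IsLocalizedModule (Submonoid.powers g) ℓ]
    (h : FlatCA.RelFinitePresentation R S N) : FlatCA.RelFinitePresentation R S' N' := by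
  obtain ⟨n, φ, hφ, hN⟩ := h
  obtain ⟨g', rfl⟩ := hφ g
  rw [relFP_iff_fpVia (awayMap (S' := S') φ g') (awayMap_surjective φ g' hφ) N']
  exact fpVia_awayMap φ g' ℓ hN

/-- relative finite presentation does not change along a finitely presented change of base ring -/
theorem relFP_iff_of_base_finitePresentation {R R' S : Type u} [CommRing R] [CommRing R']
    [CommRing S] [Algebra R R'] [Algebra R' S] [Algebra R S] [IsScalarTower R R' S]
    [Algebra.FinitePresentation R R'] (N : Type u) [AddCommGroup N] [Module S N] :
    FlatCA.RelFinitePresentation R S N ↔ FlatCA.RelFinitePresentation R' S N := by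
  constructor
  · rintro ⟨n, φ, hφ, hN⟩
    let φ' : MvPolynomial (Fin n) R' →ₐ[R'] S := MvPolynomial.aeval (fun i => φ (MvPolynomial.X i))
    have hcomp : ∀ p, φ' (MvPolynomial.map (algebraMap R R') p) = φ p := by
      intro p
      induction p using MvPolynomial.induction_on with
      | C r =>
        simp only [MvPolynomial.map_C, φ']
        rw [MvPolynomial.aeval_C, ← IsScalarTower.algebraMap_apply]
        exact (φ.commutes r).symm
      | add p q hp hq => rw [map_add, map_add, hp, hq, map_add]
      | mul_X p i hp =>
        rw [map_mul, map_mul, hp, map_mul, MvPolynomial.map_X]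
        congr 1
        exact MvPolynomial.aeval_X _ i
    have hφ' : Function.Surjective φ' := fun s => by
      obtain ⟨p, rfl⟩ := hφ s
      exact ⟨_, hcomp p⟩
    haveI : Algebra.FinitePresentation R (MvPolynomial (Fin n) R') :=
      Algebra.FinitePresentation.trans R R' (MvPolynomial (Fin n) R')
    have := (relFP_iff_fpVia (R := R) (φ'.restrictScalars R) hφ' N).mp ⟨n, φ, hφ, hN⟩
    exact ⟨n, φ', hφ', this⟩
  · rintro ⟨n, φ, hφ, hN⟩
    haveI : Algebra.FinitePresentation R (MvPolynomial (Fin n) R') :=
      Algebra.FinitePresentation.trans R R' (MvPolynomial (Fin n) R')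
    exact (relFP_iff_fpVia (R := R) (φ.restrictScalars R) hφ N).mpr hN

/-- transport of relative finite presentation along isomorphisms -/
theorem relFP_of_equiv {R S S' : Type u} [CommRing R] [CommRing S] [CommRing S']
    [Algebra R S] [Algebra R S'] (e : S ≃ₐ[R] S') {N N' : Type u} [AddCommGroup N]
    [AddCommGroup N'] [Module S N] [Module S' N'] (ε : N ≃+ N')
    (hε : ∀ (s : S) (n : N), ε (s • n) = e s • ε n)
    (h : FlatCA.RelFinitePresentation R S N) : FlatCA.RelFinitePresentation R S' N' := by
  obtain ⟨n, φ, hφ, hN⟩ := h
  refine ⟨n, e.toAlgHom.comp φ, e.surjective.comp hφ, ?_⟩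
  letI mPN : Module (MvPolynomial (Fin n) R) N := Module.compHom N φ.toRingHom
  letI mPN' : Module (MvPolynomial (Fin n) R) N' :=
    Module.compHom N' (e.toAlgHom.comp φ).toRingHom
  haveI : Module.FinitePresentation (MvPolynomial (Fin n) R) N := hN
  let ε' : N ≃ₗ[MvPolynomial (Fin n) R] N' :=
    { ε with
      map_smul' := fun p x => by
        change ε (φ p • x) = e (φ p) • ε x
        exact hε _ _ }
  exact Module.FinitePresentation.of_equiv ε'

/-- `N` is relatively finitely presented after inverting `g` (in some model of the
localization). -/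
def LocRelFP (R : Type u) {S : Type u} [CommRing R] [CommRing S] [Algebra R S] (N : Type u)
    [AddCommGroup N] [Module S N] (g : S) : Prop :=
  ∃ (S' : Type u) (_ : CommRing S') (_ : Algebra S S') (_ : Algebra R S')
    (_ : IsScalarTower R S S') (_ : IsLocalization.Away g S') (N' : Type u)
    (_ : AddCommGroup N') (_ : Module S' N') (_ : Module S N') (_ : IsScalarTower S S' N')
    (ℓ : N →ₗ[S] N') (_ : IsLocalizedModule (Submonoid.powers g) ℓ),
    FlatCA.RelFinitePresentation R S' N'

theorem LocRelFP.intro {R S S' : Type u} [CommRing R] [CommRing S] [CommRing S']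
    [Algebra R S] [Algebra S S'] [Algebra R S'] [IsScalarTower R S S']
    (g : S) [IsLocalization.Away g S'] {N N' : Type u} [AddCommGroup N] [AddCommGroup N']
    [Module S N] [Module S' N'] [Module S N'] [IsScalarTower S S' N']
    (ℓ : N →ₗ[S] N') [IsLocalizedModule (Submonoid.powers g) ℓ]
    (h : FlatCA.RelFinitePresentation R S' N') : LocRelFP R N g :=
  ⟨S', _, _, _, ‹_›, ‹_›, N', _, _, _, ‹_›, ℓ, ‹_›, h⟩

/-- relative finite presentation is local on the algebra -/
theorem relFP_of_span_eq_top {R S : Type u} [CommRing R] [CommRing S] [Algebra R S]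
    [Algebra.FiniteType R S] (s : Set S) (hs : Ideal.span s = ⊤) (N : Type u) [AddCommGroup N]
    [Module S N] (h : ∀ g ∈ s, LocRelFP R N g) :
    FlatCA.RelFinitePresentation R S N := by
  obtain ⟨n, φ, hφ⟩ := Algebra.FiniteType.iff_quotient_mvPolynomial''.mp ‹Algebra.FiniteType R S›
  refine ⟨n, φ, hφ, ?_⟩
  letI mPN : Module (MvPolynomial (Fin n) R) N := Module.compHom N φ.toRingHom
  change Module.FinitePresentation (MvPolynomial (Fin n) R) N
  let t : Set (MvPolynomial (Fin n) R) := {p | φ p ∈ s ∨ φ p = 0}
  have ht : Ideal.span t = ⊤ := by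
    have h1 : RingHom.ker φ.toRingHom ≤ Ideal.span t := fun p hp =>
      Ideal.subset_span (Or.inr hp)
    have h2 : Ideal.map φ.toRingHom (Ideal.span t) = ⊤ := by
      rw [eq_top_iff, ← hs, Ideal.span_le]
      intro g hg
      obtain ⟨p, rfl⟩ := hφ g
      exact Ideal.mem_map_of_mem _ (Ideal.subset_span (Or.inl hg))
    have h3 := Ideal.comap_map_of_surjective φ.toRingHom hφ (Ideal.span t)
    rw [h2, Ideal.comap_top] at h3
    rw [eq_top_iff, h3]
    exact sup_le le_rfl h1
  refine Module.FinitePresentation.of_localizationSpan t ht ?_
  rintro ⟨p, hp | hp⟩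
  · obtain ⟨S', _, _, _, _, _, N', _, _, _, _, ℓ, _, h1⟩ := h (φ p) hp
    rw [relFP_iff_fpVia (awayMap (S' := S') φ p) (awayMap_surjective φ p hφ)] at h1
    exact finitePresentation_localizedModule_of_fpVia_awayMap φ p ℓ h1
  · haveI : Subsingleton (LocalizedModule (Submonoid.powers p) N) := by
      refine ⟨fun x y => ?_⟩
      have key : ∀ z : LocalizedModule (Submonoid.powers p) N, z = 0 := by
        intro z
        induction z using LocalizedModule.induction_on with
        | h m s =>
          rw [← LocalizedModule.zero_mk 1, LocalizedModule.mk_eq]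
          refine ⟨⟨p, Submonoid.mem_powers p⟩, ?_⟩
          have hpm : ∀ m' : N, p • m' = 0 := fun m' => by
            change φ p • m' = 0
            rw [hp, zero_smul]
          rw [smul_zero, smul_zero, Submonoid.mk_smul, hpm]
      rw [key x, key y]
    infer_instance

end Groth.Agent.Helper15.RelFP
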