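import Mathlib
import Groth.Prelude.Def_Flatn
import Groth.Agent.Lib.Helper15.RelFP2
import Groth.Agent.Lib.Helper13.QCohLoc

set_option autoImplicit false
universe u

open CategoryTheory CategoryTheory.Limits AlgebraicGeometry Opposite TopologicalSpace

namespace Groth.Agent.Helper15.RelFP

open Groth.Agent.Helper13.QCohLoc

variable {X S : Scheme.{u}}

theorem relFPOn_iff' (f : X ⟶ S) (F : X.Modules) (U : X.affineOpens) (V : S.affineOpens)
    (h : (U : X.Opens) ≤ f ⁻¹ᵁ (V : S.Opens)) :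
    Flatn.RelFPOn f F U V h ↔
      (letI := (f.appLE (V : S.Opens) (U : X.Opens) h).hom.toAlgebra
       FlatCA.RelFinitePresentation Γ(S, (V : S.Opens)) Γ(X, (U : X.Opens)) Γ(F, (U : X.Opens))) :=
  Iff.rfl

/-- Step A: passing to a basic open of `U`. -/
theorem relFPOn_basicOpen (f : X ⟶ S) (F : X.Modules) [F.IsQuasicoherent] (U : X.affineOpens)
    (V : S.affineOpens) (h : (U : X.Opens) ≤ f ⁻¹ᵁ (V : S.Opens)) (g : Γ(X, (U : X.Opens)))
    (W : X.affineOpens) (hW : (W : X.Opens) = X.basicOpen g)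
    (hWV : (W : X.Opens) ≤ f ⁻¹ᵁ (V : S.Opens))
    (H : Flatn.RelFPOn f F U V h) : Flatn.RelFPOn f F W V hWV := by
  obtain ⟨W, hWaff⟩ := W
  obtain ⟨U, hU⟩ := U
  obtain ⟨V, hV⟩ := V
  dsimp only at hW hWV h g H ⊢
  subst hW
  rw [relFPOn_iff'] at H ⊢
  dsimp only at H ⊢
  letI algRS : Algebra Γ(S, V) Γ(X, U) := (f.appLE V U h).hom.toAlgebra
  letI algRS' : Algebra Γ(S, V) Γ(X, X.basicOpen g) := (f.appLE V (X.basicOpen g) hWV).hom.toAlgebra
  haveI : IsScalarTower Γ(S, V) Γ(X, U) Γ(X, X.basicOpen g) := by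
    apply IsScalarTower.of_algebraMap_eq'
    change (f.appLE V (X.basicOpen g) hWV).hom =
      (X.presheaf.map (homOfLE (X.basicOpen_le g)).op).hom.comp (f.appLE V U h).hom
    rw [← CommRingCat.hom_comp, Scheme.Hom.appLE_map]
  haveI := hU.isLocalization_basicOpen g
  letI := modBasicOpen F g
  haveI := isScalarTower_basicOpen F g
  haveI := isLocalizedModule_basicOpen F hU g
  exact relFP_localization_away g (resBasicOpen F g) H

/-- Step B: passing to a basic open of `V`. -/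
theorem relFPOn_base_basicOpen (f : X ⟶ S) (F : X.Modules) (U : X.affineOpens)
    (V : S.affineOpens) (a : Γ(S, (V : S.Opens))) (V' : S.affineOpens)
    (hV' : (V' : S.Opens) = S.basicOpen a)
    (h : (U : X.Opens) ≤ f ⁻¹ᵁ (V : S.Opens)) (h' : (U : X.Opens) ≤ f ⁻¹ᵁ (V' : S.Opens)) :
    Flatn.RelFPOn f F U V h ↔ Flatn.RelFPOn f F U V' h' := by
  obtain ⟨V', hV'aff⟩ := V'
  obtain ⟨U, hU⟩ := U
  obtain ⟨V, hV⟩ := V
  dsimp only at hV' h h' a ⊢
  subst hV'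
  rw [relFPOn_iff', relFPOn_iff']
  dsimp only
  letI algRS : Algebra Γ(S, V) Γ(X, U) := (f.appLE V U h).hom.toAlgebra
  letI algR'S : Algebra Γ(S, S.basicOpen a) Γ(X, U) := (f.appLE (S.basicOpen a) U h').hom.toAlgebra
  haveI : IsScalarTower Γ(S, V) Γ(S, S.basicOpen a) Γ(X, U) := by
    apply IsScalarTower.of_algebraMap_eq'
    change (f.appLE V U h).hom =
      (f.appLE (S.basicOpen a) U h').hom.comp (S.presheaf.map (homOfLE (S.basicOpen_le a)).op).hom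
    rw [← CommRingCat.hom_comp, Scheme.Hom.map_appLE]
  haveI := hV.isLocalization_basicOpen a
  haveI : Algebra.FinitePresentation Γ(S, V) Γ(S, S.basicOpen a) :=
    IsLocalization.Away.finitePresentation a
  exact relFP_iff_of_base_finitePresentation Γ(F, U)

/-- local form: around every point of `U` there is a basic open on which `RelFPOn` holds. -/
theorem exists_basicOpen_relFPOn (f : X ⟶ S) (F : X.Modules) [F.IsQuasicoherent]
    (H : Flatn.IsRelFP f F) (U : X.affineOpens) (V : S.affineOpens)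
    (h : (U : X.Opens) ≤ f ⁻¹ᵁ (V : S.Opens)) (x : X) (hx : x ∈ (U : X.Opens)) :
    ∃ g : Γ(X, (U : X.Opens)), x ∈ X.basicOpen g ∧
      Flatn.RelFPOn f F ⟨X.basicOpen g, U.2.basicOpen g⟩ V ((X.basicOpen_le g).trans h) := by
  obtain ⟨𝒱, h𝒱, H⟩ := H
  have hfx : f x ∈ (V : S.Opens) := h hx
  have h0 : f x ∈ (⨆ V ∈ 𝒱, (V : S.Opens)) := by rw [h𝒱]; trivial
  obtain ⟨Vj, hVjmem⟩ := Opens.mem_iSup.mp h0
  obtain ⟨hVj, hfxVj⟩ := Opens.mem_iSup.mp hVjmem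
  obtain ⟨𝒰, h𝒰, H𝒰⟩ := H Vj hVj
  have h1 : x ∈ (⨆ U ∈ 𝒰, (U : X.Opens)) := by rw [h𝒰]; exact hfxVj
  obtain ⟨Uk, hUkmem⟩ := Opens.mem_iSup.mp h1
  obtain ⟨hUk, hxUk⟩ := Opens.mem_iSup.mp hUkmem
  have hUkVj : (Uk : X.Opens) ≤ f ⁻¹ᵁ (Vj : S.Opens) := by
    rw [← h𝒰]
    exact le_iSup₂ (f := fun (U : X.affineOpens) (_ : U ∈ 𝒰) => (U : X.Opens)) Uk hUk
  obtain ⟨a, b, hab, hfxa⟩ := exists_basicOpen_le_affine_inter V.2 Vj.2 (f x) ⟨hfx, hfxVj⟩
  have hxa' : x ∈ X.basicOpen ((f.appLE V U h).hom a) := by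
    rw [Scheme.basicOpen_appLE]
    exact ⟨hx, hfxa⟩
  have hxb' : x ∈ X.basicOpen ((f.appLE Vj Uk hUkVj).hom b) := by
    rw [Scheme.basicOpen_appLE]
    exact ⟨hxUk, hab ▸ hfxa⟩
  obtain ⟨c, d, hcd, hxc⟩ := exists_basicOpen_le_affine_inter
    (U.2.basicOpen ((f.appLE V U h).hom a)) (Uk.2.basicOpen ((f.appLE Vj Uk hUkVj).hom b)) x
    ⟨hxa', hxb'⟩
  obtain ⟨g, hg⟩ := U.2.basicOpen_basicOpen_is_basicOpen ((f.appLE V U h).hom a) c
  obtain ⟨g', hg'⟩ := Uk.2.basicOpen_basicOpen_is_basicOpen ((f.appLE Vj Uk hUkVj).hom b) d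
  refine ⟨g, hg ▸ hxc, ?_⟩
  have hW_Uk : X.basicOpen g = X.basicOpen g' := hg.trans (hcd.trans hg'.symm)
  have hW_V' : X.basicOpen g ≤ f ⁻¹ᵁ (S.basicOpen a) := by
    rw [hg]
    refine (X.basicOpen_le c).trans ?_
    rw [Scheme.basicOpen_appLE]
    exact inf_le_right
  have hW_Vj : X.basicOpen g ≤ f ⁻¹ᵁ (Vj : S.Opens) := by
    rw [hW_Uk]
    exact (X.basicOpen_le g').trans hUkVj
  have h2 : Flatn.RelFPOn f F ⟨X.basicOpen g, U.2.basicOpen g⟩ Vj hW_Vj :=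
    relFPOn_basicOpen f F Uk Vj hUkVj g' ⟨X.basicOpen g, U.2.basicOpen g⟩ hW_Uk hW_Vj
      (H𝒰 Uk hUk hUkVj)
  have h3 : Flatn.RelFPOn f F ⟨X.basicOpen g, U.2.basicOpen g⟩
      ⟨S.basicOpen a, V.2.basicOpen a⟩ hW_V' :=
    (relFPOn_base_basicOpen f F ⟨X.basicOpen g, U.2.basicOpen g⟩ Vj b
      ⟨S.basicOpen a, V.2.basicOpen a⟩ hab hW_Vj hW_V').mp h2
  exact (relFPOn_base_basicOpen f F ⟨X.basicOpen g, U.2.basicOpen g⟩ V a
    ⟨S.basicOpen a, V.2.basicOpen a⟩ rfl _ hW_V').mpr h3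

/-- gluing along basic opens of `U` -/
theorem relFPOn_of_basicOpen_cover (f : X ⟶ S) [LocallyOfFiniteType f] (F : X.Modules)
    [F.IsQuasicoherent] (U : X.affineOpens) (V : S.affineOpens)
    (h : (U : X.Opens) ≤ f ⁻¹ᵁ (V : S.Opens))
    (H : ∀ x ∈ (U : X.Opens), ∃ g : Γ(X, (U : X.Opens)), x ∈ X.basicOpen g ∧
      Flatn.RelFPOn f F ⟨X.basicOpen g, U.2.basicOpen g⟩ V ((X.basicOpen_le g).trans h)) :
    Flatn.RelFPOn f F U V h := by
  obtain ⟨U, hU⟩ := U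
  obtain ⟨V, hV⟩ := V
  dsimp only at h H ⊢
  rw [relFPOn_iff']
  dsimp only
  let s : Set Γ(X, U) := {g | Flatn.RelFPOn f F ⟨X.basicOpen g, hU.basicOpen g⟩ ⟨V, hV⟩
    ((X.basicOpen_le g).trans h)}
  have hs : Ideal.span s = ⊤ := by
    rw [← hU.self_le_iSup_basicOpen_iff]
    intro x hx
    obtain ⟨g, hxg, hg⟩ := H x hx
    exact Opens.mem_iSup.mpr ⟨⟨g, hg⟩, hxg⟩
  letI algRS : Algebra Γ(S, V) Γ(X, U) := (f.appLE V U h).hom.toAlgebra
  haveI : Algebra.FiniteType Γ(S, V) Γ(X, U) :=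
    HasRingHomProperty.appLE (P := @LocallyOfFiniteType) f inferInstance ⟨V, hV⟩ ⟨U, hU⟩ h
  refine relFP_of_span_eq_top s hs Γ(F, U) ?_
  intro g hg
  have hg' : Flatn.RelFPOn f F ⟨X.basicOpen g, hU.basicOpen g⟩ ⟨V, hV⟩
    ((X.basicOpen_le g).trans h) := hg
  rw [relFPOn_iff'] at hg'
  dsimp only at hg'
  letI algRS' : Algebra Γ(S, V) Γ(X, X.basicOpen g) :=
    (f.appLE V (X.basicOpen g) ((X.basicOpen_le g).trans h)).hom.toAlgebra
  haveI : IsScalarTower Γ(S, V) Γ(X, U) Γ(X, X.basicOpen g) := by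
    apply IsScalarTower.of_algebraMap_eq'
    change (f.appLE V (X.basicOpen g) _).hom =
      (X.presheaf.map (homOfLE (X.basicOpen_le g)).op).hom.comp (f.appLE V U h).hom
    rw [← CommRingCat.hom_comp, Scheme.Hom.appLE_map]
  haveI := hU.isLocalization_basicOpen g
  letI := modBasicOpen F g
  haveI := isScalarTower_basicOpen F g
  haveI := isLocalizedModule_basicOpen F hU g
  exact LocRelFP.intro g (resBasicOpen F g) hg'

/-- S9742, forward direction -/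
theorem relFPOn_of_isRelFP (f : X ⟶ S) [LocallyOfFiniteType f] (F : X.Modules)
    [F.IsQuasicoherent] (H : Flatn.IsRelFP f F) (U : X.affineOpens) (V : S.affineOpens)
    (h : (U : X.Opens) ≤ f ⁻¹ᵁ (V : S.Opens)) : Flatn.RelFPOn f F U V h :=
  relFPOn_of_basicOpen_cover f F U V h (fun x hx => exists_basicOpen_relFPOn f F H U V h x hx)

/-- S9742, backward direction -/
theorem isRelFP_of_forall_relFPOn (f : X ⟶ S) (F : X.Modules)
    (H : ∀ (U : X.affineOpens) (V : S.affineOpens) (h : (U : X.Opens) ≤ f ⁻¹ᵁ (V : S.Opens)),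
      Flatn.RelFPOn f F U V h) : Flatn.IsRelFP f F := by
  refine ⟨Set.univ, ?_, fun V _ => ⟨{U | (U : X.Opens) ≤ f ⁻¹ᵁ (V : S.Opens)}, ?_, ?_⟩⟩
  · rw [eq_top_iff]
    intro x _
    obtain ⟨_, ⟨W, hW, rfl⟩, hxW, -⟩ :=
      S.isBasis_affineOpens.exists_subset_of_mem_open (Set.mem_univ x) isOpen_univ
    exact Opens.mem_iSup.mpr ⟨⟨W, hW⟩, Opens.mem_iSup.mpr ⟨Set.mem_univ _, hxW⟩⟩
  · apply le_antisymm
    · exact iSup₂_le fun U hU => hU
    · intro x hx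
      obtain ⟨_, ⟨W, hW, rfl⟩, hxW, hWV⟩ :=
        X.isBasis_affineOpens.exists_subset_of_mem_open hx (f ⁻¹ᵁ (V : S.Opens)).2
      exact Opens.mem_iSup.mpr ⟨⟨W, hW⟩, Opens.mem_iSup.mpr ⟨hWV, hxW⟩⟩
  · intro U _ h
    exact H U V h

theorem isRelFP_iff (f : X ⟶ S) [LocallyOfFiniteType f] (F : X.Modules) [F.IsQuasicoherent] :
    Flatn.IsRelFP f F ↔
      ∀ (U : X.affineOpens) (V : S.affineOpens) (h : (U : X.Opens) ≤ f ⁻¹ᵁ (V : S.Opens)),
        Flatn.RelFPOn f F U V h :=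
  ⟨fun H U V h => relFPOn_of_isRelFP f F H U V h, isRelFP_of_forall_relFPOn f F⟩

end Groth.Agent.Helper15.RelFP
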