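import Groth.Agent.Lib.Helper15.AlgSpSubm
import Mathlib.AlgebraicGeometry.Morphisms.FlatMono

/-!
# Field-valued points of algebraic spaces, universally injective morphisms
-/

set_option autoImplicit false
universe u
open CategoryTheory CategoryTheory.Limits AlgebraicGeometry MorphismProperty Opposite
open AlgSp

namespace Groth.Agent.Helper15

variable {S : Scheme.{u}}

/-- A monomorphism from a nonempty scheme to the spectrum of a field is an isomorphism. -/
theorem isIso_of_mono_to_field {E : Scheme.{u}} {K : Type u} [Field K]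
    (φ : E ⟶ Spec (CommRingCat.of K)) [Mono φ] [Nonempty E] : IsIso φ := by
  haveI : Flat φ := inferInstance
  haveI : Surjective φ := ⟨fun y => by
    obtain ⟨e⟩ := ‹Nonempty E›
    exact ⟨e, Subsingleton.elim _ _⟩⟩
  haveI : Subsingleton E := φ.injective.subsingleton
  haveI : CompactSpace E := inferInstance
  haveI : QuasiCompact φ := (HasAffineProperty.iff_of_isAffine (P := @QuasiCompact)).2 ‹_›
  exact Flat.isIso_of_surjective_of_mono φ

/-- Two `K`-points of a sheaf with representable diagonal which agree after a field extension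
are equal. -/
theorem eq_of_yon_map_comp_eq {X : Sp S} (hX : Representable (Limits.diag X)) {K Ω : Type u}
    [Field K] [Field Ω] {strK : Spec (CommRingCat.of K) ⟶ S} {strΩ : Spec (CommRingCat.of Ω) ⟶ S}
    (α : Over.mk strΩ ⟶ Over.mk strK) (a b : (yon S).obj (Over.mk strK) ⟶ X)
    (h : (yon S).map α ≫ a = (yon S).map α ≫ b) : a = b := by
  have hmono := repWith_monomorphisms_of_mono (Limits.diag X) hX
  have sq := hX.isPullback (prod.lift a b)
  have hm : Mono (hX.snd (prod.lift a b)).left := hmono.property_snd (prod.lift a b)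
  have hw : ((yon S).map α ≫ a) ≫ Limits.diag X = (yon S).map α ≫ prod.lift a b := by
    apply Limits.prod.hom_ext
    · simp [prod.lift_fst]
    · simp [prod.lift_snd, h]
  obtain ⟨l', hl'⟩ := (yon S).map_surjective (sq.lift _ _ hw)
  haveI : Nonempty (hX.pullback (prod.lift a b)).left :=
    ⟨l'.left (IsLocalRing.closedPoint Ω)⟩
  haveI : IsIso (hX.snd (prod.lift a b)).left :=
    isIso_of_mono_to_field (K := K) (hX.snd (prod.lift a b)).left
  haveI : IsIso ((Over.forget S).map (hX.snd (prod.lift a b))) := ‹_›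
  haveI : IsIso (hX.snd (prod.lift a b)) :=
    isIso_of_reflects_iso (hX.snd (prod.lift a b)) (Over.forget S)
  have e1 : hX.fst (prod.lift a b) = (yon S).map (hX.snd (prod.lift a b)) ≫ a := by
    have := congr($(sq.w) ≫ prod.fst)
    simpa [prod.lift_fst] using this
  have e2 : hX.fst (prod.lift a b) = (yon S).map (hX.snd (prod.lift a b)) ≫ b := by
    have := congr($(sq.w) ≫ prod.snd)
    simpa [prod.lift_snd] using this
  rw [← cancel_epi ((yon S).map (hX.snd (prod.lift a b))), ← e1, ← e2]


/-- Injectivity on field-valued points. -/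
def InjOnFieldPts {X Y : Sp S} (f : X ⟶ Y) : Prop :=
  ∀ (K : Type u) [Field K] (str : Spec (CommRingCat.of K) ⟶ S),
    Function.Injective (fun a : (yon S).obj (Over.mk str) ⟶ X => a ≫ f)

theorem InjOnFieldPts.of_isPullback {X Y Z P : Sp S} {f : X ⟶ Y} {g : Z ⟶ Y} {fst : P ⟶ X}
    {snd : P ⟶ Z} (sq : IsPullback fst snd f g) (h : InjOnFieldPts f) : InjOnFieldPts snd := by
  intro K _ str a b hab
  dsimp only at hab
  apply sq.hom_ext _ hab
  apply h K str
  dsimp only
  rw [Category.assoc, Category.assoc, sq.w, ← Category.assoc, ← Category.assoc, hab]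

theorem InjOnFieldPts.injective_points_map {X Y : Sp S} {f : X ⟶ Y} (h : InjOnFieldPts f) :
    Function.Injective (Points.map f) := by
  intro x y hxy
  obtain ⟨K, _, str, ξ, rfl⟩ := exists_ofField x
  obtain ⟨L, _, str', η, rfl⟩ := exists_ofField y
  rw [map_ofField, map_ofField, ofField_eq_iff] at hxy
  obtain ⟨Ω, _, w, a, b, hab⟩ := hxy
  rw [ofField_eq_iff]
  refine ⟨Ω, inferInstance, w, a, b, h Ω w ?_⟩
  simpa only [Category.assoc] using hab

theorem InjOnFieldPts.isUnivInjectiveMor {X Y : Sp S} {f : X ⟶ Y} (h : InjOnFieldPts f) :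
    IsUnivInjectiveMor f := by
  intro Z Z' _ g fst snd sq
  exact (h.of_isPullback sq).injective_points_map

theorem injOnFieldPts_of_isUnivInjectiveMor {X Y : Sp S} (hX : Representable (Limits.diag X))
    {f : X ⟶ Y} (h : IsUnivInjectiveMor f) : InjOnFieldPts f := by
  intro K _ str a b hab
  dsimp only at hab
  have sq : IsPullback (pullback.fst f (a ≫ f)) (pullback.snd f (a ≫ f)) f (a ≫ f) :=
    IsPullback.of_hasPullback _ _
  have hinj := h (IsAlgSpace.yon_obj (Over.mk str)) (a ≫ f) _ _ sq
  let sa := sq.lift a (𝟙 _) (by simp)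
  let sb := sq.lift b (𝟙 _) (by simp [hab])
  have h1 : ofField sa = ofField sb := by
    apply hinj
    rw [map_ofField, map_ofField, sq.lift_snd, sq.lift_snd]
  rw [ofField_eq_iff] at h1
  obtain ⟨Ω, _, w, α, β, hαβ⟩ := h1
  have h2 : (yon S).map α = (yon S).map β := by
    have := congr($hαβ ≫ pullback.snd f (a ≫ f))
    simpa only [Category.assoc, sa, sb, sq.lift_snd, Category.comp_id] using this
  have h3 : (yon S).map α ≫ a = (yon S).map α ≫ b := by
    have := congr($hαβ ≫ pullback.fst f (a ≫ f))
    simp only [Category.assoc, sa, sb, sq.lift_fst] at this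
    rw [this, h2]
  exact eq_of_yon_map_comp_eq hX α a b h3

theorem InjOnFieldPts.isSurjectiveMor_diagonal {X Y : Sp S} {f : X ⟶ Y} (h : InjOnFieldPts f) :
    IsSurjectiveMor (pullback.diagonal f) := by
  intro z
  obtain ⟨K, _, str, ζ, rfl⟩ := exists_ofField z
  have hab : ζ ≫ pullback.fst f f = ζ ≫ pullback.snd f f := by
    apply h K str
    dsimp only
    rw [Category.assoc, Category.assoc, pullback.condition]
  refine ⟨ofField (ζ ≫ pullback.fst f f), ?_⟩
  rw [map_ofField]
  congr 1
  apply pullback.hom_ext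
  · simp
  · simp [hab]

theorem injOnFieldPts_of_isSurjectiveMor_diagonal {X Y : Sp S}
    (hX : Representable (Limits.diag X)) {f : X ⟶ Y}
    (h : IsSurjectiveMor (pullback.diagonal f)) : InjOnFieldPts f := by
  intro K _ str a b hab
  dsimp only at hab
  obtain ⟨x, hx⟩ := h (ofField (pullback.lift a b hab))
  obtain ⟨L, _, str', ξ, rfl⟩ := exists_ofField x
  rw [map_ofField, ofField_eq_iff] at hx
  obtain ⟨Ω, _, w, β, α, hαβ⟩ := hx
  have h1 : (yon S).map β ≫ ξ = (yon S).map α ≫ a := by
    have := congr($hαβ ≫ pullback.fst f f)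
    simpa only [Category.assoc, pullback.diagonal_fst, pullback.lift_fst, Category.comp_id]
      using this
  have h2 : (yon S).map β ≫ ξ = (yon S).map α ≫ b := by
    have := congr($hαβ ≫ pullback.snd f f)
    simpa only [Category.assoc, pullback.diagonal_snd, pullback.lift_snd, Category.comp_id]
      using this
  exact eq_of_yon_map_comp_eq hX α a b (h1.symm.trans h2)

/-- For a representable morphism, representable universal injectivity is injectivity on
field-valued points. -/
theorem repWith_universallyInjective_iff_injOnFieldPts {X Y : Sp S} (f : X ⟶ Y)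
    (hf : Representable f) : RepWith @UniversallyInjective f ↔ InjOnFieldPts f := by
  constructor
  · intro h K _ str a b hab
    dsimp only at hab
    have sq := hf.isPullback (a ≫ f)
    have hui : UniversallyInjective (hf.snd (a ≫ f)).left := h.property_snd (a ≫ f)
    obtain ⟨α, hα⟩ := (yon S).map_surjective (sq.lift a (𝟙 _) (by simp))
    obtain ⟨β, hβ⟩ := (yon S).map_surjective (sq.lift b (𝟙 _) (by simp [hab]))
    have hα2 : α ≫ hf.snd (a ≫ f) = 𝟙 _ := by
      apply (yon S).map_injective
      rw [Functor.map_comp, hα, sq.lift_snd, CategoryTheory.Functor.map_id]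
    have hβ2 : β ≫ hf.snd (a ≫ f) = 𝟙 _ := by
      apply (yon S).map_injective
      rw [Functor.map_comp, hβ, sq.lift_snd, CategoryTheory.Functor.map_id]
    have key : α.left = β.left := by
      have h12 : UniversallyInjective (hf.snd (a ≫ f)).left ↔ ∀ (K : Type u) [Field K],
          Function.Injective (fun g : Spec (CommRingCat.of K) ⟶ _ ↦ g ≫ (hf.snd (a ≫ f)).left) :=
        (tfae_universallyInjective (hf.snd (a ≫ f)).left).out 0 1
      apply h12.1 hui K
      dsimp only
      rw [← Over.comp_left, ← Over.comp_left, hα2, hβ2]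
    have hαβ : α = β := Over.OverMorphism.ext key
    have e1 : a = (yon S).map α ≫ hf.fst (a ≫ f) := by rw [hα, sq.lift_fst]
    have e2 : b = (yon S).map β ≫ hf.fst (a ≫ f) := by rw [hβ, sq.lift_fst]
    rw [e1, e2, hαβ]
  · intro h
    refine ⟨hf, fun T V g fst snd sq => ?_⟩
    change UniversallyInjective snd.left
    have h12 : UniversallyInjective snd.left ↔ ∀ (K : Type u) [Field K],
        Function.Injective (fun g : Spec (CommRingCat.of K) ⟶ _ ↦ g ≫ snd.left) :=
      (tfae_universallyInjective snd.left).out 0 1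
    refine h12.2 ?_
    intro K _ g₁ g₂ hg
    dsimp only at hg
    let strK : Spec (CommRingCat.of K) ⟶ S := g₁ ≫ V.hom
    have hstr : g₂ ≫ V.hom = strK := by
      change g₂ ≫ V.hom = g₁ ≫ V.hom
      rw [← Over.w snd, ← Category.assoc, ← Category.assoc, hg]
    let γ₁ : Over.mk strK ⟶ V := Over.homMk g₁ rfl
    let γ₂ : Over.mk strK ⟶ V := Over.homMk g₂ hstr
    have hγ : γ₁ ≫ snd = γ₂ ≫ snd := Over.OverMorphism.ext hg
    have h1 : (yon S).map γ₁ ≫ fst = (yon S).map γ₂ ≫ fst := by
      apply h K strK
      dsimp only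
      rw [Category.assoc, Category.assoc, sq.w, ← Category.assoc, ← Category.assoc,
        ← Functor.map_comp, ← Functor.map_comp, hγ]
    have h2 : (yon S).map γ₁ = (yon S).map γ₂ := by
      apply sq.hom_ext h1
      rw [← Functor.map_comp, ← Functor.map_comp, hγ]
    have h3 : γ₁ = γ₂ := (yon S).map_injective h2
    exact congrArg (fun γ : Over.mk strK ⟶ V => γ.left) h3

/-- Injectivity on field-valued points descends along a base change which is surjective on
points. -/
theorem injOnFieldPts_of_surjective_base_change {X Y Z P : Sp S}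
    (hX : Representable (Limits.diag X)) {f : X ⟶ Y} {g : Z ⟶ Y} (hg : IsSurjectiveMor g)
    {fst : P ⟶ X} {snd : P ⟶ Z} (sq : IsPullback fst snd f g) (h : InjOnFieldPts snd) :
    InjOnFieldPts f := by
  intro K _ str a b hab
  dsimp only at hab
  obtain ⟨z, hz⟩ := hg (ofField (a ≫ f))
  obtain ⟨L, _, str', ζ, rfl⟩ := exists_ofField z
  rw [map_ofField, ofField_eq_iff] at hz
  obtain ⟨Ω, _, w, α, β, hαβ⟩ := hz
  have ha : ((yon S).map β ≫ a) ≫ f = ((yon S).map α ≫ ζ) ≫ g := by
    simpa only [Category.assoc] using hαβ.symm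
  have hb : ((yon S).map β ≫ b) ≫ f = ((yon S).map α ≫ ζ) ≫ g := by
    rw [Category.assoc, ← hab]
    simpa only [Category.assoc] using hαβ.symm
  have key : sq.lift _ _ ha = sq.lift _ _ hb := by
    apply h Ω w
    dsimp only
    rw [sq.lift_snd, sq.lift_snd]
  have := congr($key ≫ fst)
  rw [sq.lift_fst, sq.lift_fst] at this
  exact eq_of_yon_map_comp_eq hX β a b this

/-- Every point of an algebraic space lies in the image of an etale map from an affine scheme. -/
theorem exists_affine_etale_nbhd {Z : Sp S} (hZ : IsAlgSpace Z) (z : Points Z) :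
    ∃ (T : Over S) (_ : IsAffine T.left) (p : (yon S).obj T ⟶ Z) (t : T.left),
      RepWith @Etale p ∧ Points.ofPt p t = z := by
  obtain ⟨U, p, hpe, hps⟩ := hZ.atlas
  obtain ⟨u, rfl⟩ := surjective_ofPt p hps z
  obtain ⟨_, ⟨O, hO, rfl⟩, huO, -⟩ :=
    (U.left.isBasis_affineOpens).exists_subset_of_mem_open (Set.mem_univ u) isOpen_univ
  let O' : U.left.Opens := O
  let T' : Over S := Over.mk (O'.ι ≫ U.hom)
  let j : T' ⟶ U := Over.homMk O'.ι rfl
  have hT' : IsAffine T'.left := (show IsAffineOpen O' from hO)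
  refine ⟨T', hT', (yon S).map j ≫ p, (⟨u, huO⟩ : O'), ?_, ?_⟩
  · refine (RepWith @Etale).comp_mem _ _ ((repWith_yon_map_iff _ j).2 ?_) hpe
    change Etale O'.ι
    infer_instance
  · rw [ofPt_comp_yon_map]
    rfl

/-- A monomorphism from a nonempty algebraic space to the spectrum of a field is an
isomorphism. -/
theorem isIso_of_mono_to_field_sp {Z : Sp S} (hZ : IsAlgSpace Z) {K : Type u} [Field K]
    (str : Spec (CommRingCat.of K) ⟶ S) (f : Z ⟶ (yon S).obj (Over.mk str)) [Mono f]
    (z : Points Z) : IsIso f := by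
  obtain ⟨T, hT, p, t, hpe, -⟩ := exists_affine_etale_nbhd hZ z
  obtain ⟨φ, hφ⟩ := (yon S).map_surjective (p ≫ f)
  have hrep := hpe.rep
  have sq := hrep.isPullback' p
  have sq' := isPullback_comp_mono f sq
  rw [← hφ] at sq'
  have sq'' : IsPullback (hrep.fst' p) (hrep.snd p) φ φ := IsPullback.of_map (yon S)
    ((yon S).map_injective (by simpa only [Functor.map_comp] using sq'.w)) sq'
  haveI : Subsingleton ↥(Over.mk str).left :=
    (inferInstance : Subsingleton (Spec (CommRingCat.of K)))
  haveI : IsIntegral (Over.mk str).left := (inferInstance : IsIntegral (Spec (CommRingCat.of K)))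
  haveI : IsAffine (Over.mk str).left := (inferInstance : IsAffine (Spec (CommRingCat.of K)))
  have sqL := sq''.map (Over.forget S)
  have het1 : Etale (hrep.fst' p).left := hpe.property p _ _ sq.flip
  haveI : Nonempty T.left := ⟨t⟩
  have hφe : Etale φ.left := by
    refine of_isPullback_of_descendsAlong (P := @Etale)
      (Q := @Surjective ⊓ @Flat ⊓ @QuasiCompact) sqL ⟨⟨?_, ?_⟩, ?_⟩ het1
    · exact ⟨fun y => ⟨t, Subsingleton.elim _ _⟩⟩
    · change Flat φ.left
      infer_instance
    · exact (HasAffineProperty.iff_of_isAffine (P := @QuasiCompact)).2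
        (inferInstance : CompactSpace T.left)
  have hφs : Surjective φ.left := ⟨fun y => ⟨t, Subsingleton.elim _ _⟩⟩
  haveI h1 : Sheaf.IsLocallySurjective (p ≫ f) := by
    rw [← hφ]
    exact isLocallySurjective_of_etale_surjective _ ((repWith_yon_map_iff _ φ).2 hφe)
      ((repWith_yon_map_iff _ φ).2 hφs)
  haveI h2 : Sheaf.IsLocallySurjective f :=
    Presheaf.isLocallySurjective_of_isLocallySurjective_fac (J S) (f₁ := p.hom) (f₂ := f.hom)
      (f₃ := (p ≫ f).hom) rfl
  haveI : Epi f := Sheaf.epi_of_isLocallySurjective f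
  exact isIso_of_mono_of_epi f

end Groth.Agent.Helper15
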