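import Mathlib

set_option autoImplicit false
universe u
open CategoryTheory CategoryTheory.Limits AlgebraicGeometry TensorProduct

namespace Groth.Agent.Helper15

/-- A common field extension of two field extensions (in the same universe). -/
lemma exists_common_field_extension (k K k' : Type u) [Field k] [Field K] [Field k']
    [Algebra k K] [Algebra k k'] :
    ∃ (L : Type u) (_ : Field L) (_ : Algebra K L) (_ : Algebra k' L) (_ : Algebra k L),
      IsScalarTower k K L ∧ IsScalarTower k k' L := by
  obtain ⟨M, hM⟩ := Ideal.exists_maximal (K ⊗[k] k')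
  let _ : Field ((K ⊗[k] k') ⧸ M) := Ideal.Quotient.field M
  let a1 : Algebra K ((K ⊗[k] k') ⧸ M) := inferInstance
  let a2 : Algebra k' ((K ⊗[k] k') ⧸ M) :=
    ((Ideal.Quotient.mk M).comp (Algebra.TensorProduct.includeRight (R := k) (A := K) (B := k')).toRingHom).toAlgebra
  refine ⟨(K ⊗[k] k') ⧸ M, inferInstance, a1, a2, inferInstance, inferInstance, ?_⟩
  refine IsScalarTower.of_algebraMap_eq' ?_
  ext x
  simp only [RingHom.coe_comp, Function.comp_apply]
  change _ = (Ideal.Quotient.mk M) (Algebra.TensorProduct.includeRight (algebraMap k k' x))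
  rw [Algebra.TensorProduct.includeRight_apply]
  rw [IsScalarTower.algebraMap_apply k (K ⊗[k] k') ((K ⊗[k] k') ⧸ M)]
  rw [Algebra.TensorProduct.algebraMap_apply]
  congr 1
  rw [Algebra.algebraMap_eq_smul_one, Algebra.algebraMap_eq_smul_one, TensorProduct.smul_tmul]
  

/-- Geometric reducedness descends along a field extension of the base field. -/
theorem geometricallyReduced_of_fieldExtension {k k' : Type u} [Field k] [Field k'] [Algebra k k']
    {Z Z' : Scheme.{u}} (h : Z ⟶ Spec (.of k)) (h' : Z' ⟶ Spec (.of k')) (p : Z' ⟶ Z)
    (sq : IsPullback p h' h (Spec.map (CommRingCat.ofHom (algebraMap k k'))))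
    [GeometricallyReduced h'] : GeometricallyReduced h := by
  rw [geometricallyReduced_iff, geometrically_iff_of_commRing]
  intro K _ _ Y fst snd hY
  obtain ⟨L, _, _, _, _, t1, t2⟩ := exists_common_field_extension k K k'
  let gL : Spec (.of L) ⟶ Spec (.of K) := Spec.map (CommRingCat.ofHom (algebraMap K L))
  let gL' : Spec (.of L) ⟶ Spec (.of k') := Spec.map (CommRingCat.ofHom (algebraMap k' L))
  have hcomp : gL ≫ Spec.map (CommRingCat.ofHom (algebraMap k K)) =
      gL' ≫ Spec.map (CommRingCat.ofHom (algebraMap k k')) := by
    simp only [gL, gL', ← Spec.map_comp, ← CommRingCat.ofHom_comp]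
    rw [← IsScalarTower.algebraMap_eq k K L, ← IsScalarTower.algebraMap_eq k k' L]
  have hdom : IsDominant gL := by
    have : Surjective gL := by
      rw [surjective_iff]
      intro x
      exact ⟨IsLocalRing.closedPoint L, Subsingleton.elim (α := PrimeSpectrum K) _ _⟩
    infer_instance
  have : IsSchemeTheoreticallyDominant gL := (isSchemeTheoreticallyDominant_iff_isDominant gL).mpr hdom
  have hflat : Flat snd := inferInstance
  have : IsSchemeTheoreticallyDominant (pullback.fst snd gL) := inferInstance
  suffices IsReduced (pullback snd gL) from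
    IsSchemeTheoreticallyDominant.isReduced (pullback.fst snd gL)
  have outer := (IsPullback.of_hasPullback snd gL).paste_horiz hY
  rw [hcomp] at outer
  let q : pullback snd gL ⟶ Z' := sq.lift (pullback.fst snd gL ≫ fst) (pullback.snd snd gL ≫ gL')
    (by rw [Category.assoc, Category.assoc, ← outer.w, Category.assoc])
  have hq1 : q ≫ p = pullback.fst snd gL ≫ fst := sq.lift_fst _ _ _
  have hq2 : q ≫ h' = pullback.snd snd gL ≫ gL' := sq.lift_snd _ _ _
  rw [← hq1] at outer
  have inner := IsPullback.of_right outer hq2 sq
  exact GeometricallyReduced.geometrically_isReduced (f := h') gL' q (pullback.snd snd gL) inner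

end Groth.Agent.Helper15
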