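import Mathlib
import Groth.Agent.Lib.Helper15.GeomReducedBC

set_option autoImplicit false
universe u
open CategoryTheory CategoryTheory.Limits AlgebraicGeometry TensorProduct

namespace Groth.Agent.Helper15

/-- A geometric property descends along a field extension of the base field, as soon as the
property descends along base changes of `Spec L ⟶ Spec K`. -/
theorem geometrically_of_fieldExtension (P : ObjectProperty Scheme.{u})
    (hP : ∀ {K L : Type u} [Field K] [Field L] [Algebra K L] {Y : Scheme.{u}}
      (snd : Y ⟶ Spec (.of K)),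
      P (pullback snd (Spec.map (CommRingCat.ofHom (algebraMap K L)))) → P Y)
    {k k' : Type u} [Field k] [Field k'] [Algebra k k']
    {Z Z' : Scheme.{u}} (h : Z ⟶ Spec (.of k)) (h' : Z' ⟶ Spec (.of k')) (p : Z' ⟶ Z)
    (sq : IsPullback p h' h (Spec.map (CommRingCat.ofHom (algebraMap k k'))))
    (H : geometrically P h') : geometrically P h := by
  rw [geometrically_iff_of_commRing]
  intro K _ _ Y fst snd hY
  obtain ⟨L, _, _, _, _, t1, t2⟩ := exists_common_field_extension k K k'
  let gL : Spec (.of L) ⟶ Spec (.of K) := Spec.map (CommRingCat.ofHom (algebraMap K L))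
  let gL' : Spec (.of L) ⟶ Spec (.of k') := Spec.map (CommRingCat.ofHom (algebraMap k' L))
  have hcomp : gL ≫ Spec.map (CommRingCat.ofHom (algebraMap k K)) =
      gL' ≫ Spec.map (CommRingCat.ofHom (algebraMap k k')) := by
    simp only [gL, gL', ← Spec.map_comp, ← CommRingCat.ofHom_comp]
    rw [← IsScalarTower.algebraMap_eq k K L, ← IsScalarTower.algebraMap_eq k k' L]
  refine hP (L := L) snd ?_
  have outer := (IsPullback.of_hasPullback snd gL).paste_horiz hY
  rw [hcomp] at outer
  let q : pullback snd gL ⟶ Z' := sq.lift (pullback.fst snd gL ≫ fst) (pullback.snd snd gL ≫ gL')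
    (by rw [Category.assoc, Category.assoc, ← outer.w, Category.assoc])
  have hq1 : q ≫ p = pullback.fst snd gL ≫ fst := sq.lift_fst _ _ _
  have hq2 : q ≫ h' = pullback.snd snd gL ≫ gL' := sq.lift_snd _ _ _
  rw [← hq1] at outer
  have inner := IsPullback.of_right outer hq2 sq
  exact H gL' q (pullback.snd snd gL) inner

lemma surjective_SpecMap_of_field {K L : Type u} [Field K] [Field L] [Algebra K L] :
    Surjective (Spec.map (CommRingCat.ofHom (algebraMap K L))) := by
  rw [surjective_iff]
  intro x
  exact ⟨IsLocalRing.closedPoint L, Subsingleton.elim (α := PrimeSpectrum K) _ _⟩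

theorem geometricallyIrreducible_of_fieldExtension {k k' : Type u} [Field k] [Field k']
    [Algebra k k'] {Z Z' : Scheme.{u}} (h : Z ⟶ Spec (.of k)) (h' : Z' ⟶ Spec (.of k')) (p : Z' ⟶ Z)
    (sq : IsPullback p h' h (Spec.map (CommRingCat.ofHom (algebraMap k k'))))
    [GeometricallyIrreducible h'] : GeometricallyIrreducible h := by
  rw [geometricallyIrreducible_iff]
  refine geometrically_of_fieldExtension _ ?_ h h' p sq
    (GeometricallyIrreducible.geometrically_irreducibleSpace)
  intro K L _ _ _ Y snd hY
  have := surjective_SpecMap_of_field (K := K) (L := L)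
  have : IrreducibleSpace ↥(pullback snd (Spec.map (CommRingCat.ofHom (algebraMap K L)))) := hY
  exact (pullback.fst snd (Spec.map (CommRingCat.ofHom (algebraMap K L)))).surjective.irreducibleSpace
    (pullback.fst snd _).continuous

theorem geometricallyConnected_of_fieldExtension {k k' : Type u} [Field k] [Field k']
    [Algebra k k'] {Z Z' : Scheme.{u}} (h : Z ⟶ Spec (.of k)) (h' : Z' ⟶ Spec (.of k')) (p : Z' ⟶ Z)
    (sq : IsPullback p h' h (Spec.map (CommRingCat.ofHom (algebraMap k k'))))
    [GeometricallyConnected h'] : GeometricallyConnected h := by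
  rw [geometricallyConnected_iff]
  refine geometrically_of_fieldExtension _ ?_ h h' p sq
    (GeometricallyConnected.geometrically_connectedSpace)
  intro K L _ _ _ Y snd hY
  have := surjective_SpecMap_of_field (K := K) (L := L)
  have : ConnectedSpace ↥(pullback snd (Spec.map (CommRingCat.ofHom (algebraMap K L)))) := hY
  exact (pullback.fst snd (Spec.map (CommRingCat.ofHom (algebraMap K L)))).surjective.connectedSpace
    (pullback.fst snd _).continuous

end Groth.Agent.Helper15
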