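import Mathlib

/-!
# Etale neighbourhoods with prescribed finite separable residue field extension (helper15)
-/

set_option autoImplicit false
universe u
open AlgebraicGeometry CategoryTheory Limits Polynomial

namespace Groth.Agent.Helper15

/-- scaled primitive element whose minimal polynomial lifts -/
theorem exists_primitive_lifts {A K k : Type*} [CommRing A] [Field K] [Field k]
    [Algebra A K] [Algebra K k] [FiniteDimensional K k] [Algebra.IsSeparable K k]
    (hfrac : ∀ c : K, ∃ a b : A, algebraMap A K b ≠ 0 ∧ c * algebraMap A K b = algebraMap A K a) :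
    ∃ (β : k) (F : A[X]), F.Monic ∧ F.map (algebraMap A K) = minpoly K β ∧
      IntermediateField.adjoin K {β} = ⊤ := by
  classical
  obtain ⟨α, hα⟩ := Field.exists_primitive_element K k
  set m := minpoly K α with hm
  choose a b hb hab using hfrac
  set d : A := ∏ i ∈ m.support, b (m.coeff i) with hd
  have hd0 : algebraMap A K d ≠ 0 := by
    rw [hd, map_prod]
    exact Finset.prod_ne_zero_iff.mpr fun i _ => hb _
  have hcoef : ∀ i, m.coeff i * algebraMap A K d ∈ (algebraMap A K).range := by
    intro i
    by_cases hi : i ∈ m.support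
    · rw [hd, ← Finset.mul_prod_erase _ _ hi, map_mul, ← mul_assoc, hab, ← map_mul]
      exact ⟨_, rfl⟩
    · rw [Polynomial.notMem_support_iff.mp hi, zero_mul]
      exact ⟨0, map_zero _⟩
  have hint : IsIntegral K α := Algebra.IsIntegral.isIntegral α
  refine ⟨algebraMap A K d • α, ?_⟩
  have hmin : minpoly K (algebraMap A K d • α) = m.scaleRoots (algebraMap A K d) :=
    IsIntegrallyClosed.minpoly_smul hd0 hint
  have hmonic : (m.scaleRoots (algebraMap A K d)).Monic := by
    rw [monic_scaleRoots_iff]; exact minpoly.monic hint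
  have hlift : m.scaleRoots (algebraMap A K d) ∈ Polynomial.lifts (algebraMap A K) := by
    rw [Polynomial.lifts_iff_coeff_lifts]
    intro n
    rw [Polynomial.coeff_scaleRoots]
    by_cases h₂ : n = m.natDegree
    · rw [h₂, tsub_self, pow_zero, mul_one, Polynomial.coeff_natDegree, (minpoly.monic hint).leadingCoeff]
      exact ⟨1, map_one _⟩
    · by_cases h₁ : n ∈ m.support
      · have : n + 1 ≤ m.natDegree := lt_of_le_of_ne (Polynomial.le_natDegree_of_mem_supp _ h₁) h₂
        obtain ⟨j, hj⟩ : ∃ j, m.natDegree - n = j + 1 := ⟨m.natDegree - n - 1, by omega⟩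
        rw [hj, pow_succ', ← mul_assoc, ← map_pow]
        exact mul_mem (hcoef n) ⟨_, rfl⟩
      · rw [Polynomial.notMem_support_iff.mp h₁, zero_mul]
        exact ⟨0, map_zero _⟩
  obtain ⟨F, hF, -, hFm⟩ := Polynomial.lifts_and_natDegree_eq_and_monic hlift hmonic
  refine ⟨F, hFm, by rw [hF, hmin], ?_⟩
  rw [eq_top_iff, ← hα, IntermediateField.adjoin_le_iff]
  intro x hx
  rw [Set.mem_singleton_iff.mp hx]
  have h1 : algebraMap A K d • α ∈ IntermediateField.adjoin K {algebraMap A K d • α} :=
    IntermediateField.mem_adjoin_simple_self K _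
  have h2 := (IntermediateField.adjoin K {algebraMap A K d • α}).smul_mem h1 (x := (algebraMap A K d)⁻¹)
  rw [smul_smul, inv_mul_cancel₀ hd0, one_smul] at h2
  exact h2

end Groth.Agent.Helper15

namespace Groth.Agent.Helper15

/-- The standard etale algebra attached to a scaled primitive element. -/
theorem exists_standardEtalePair_lift {A K k : Type*} [CommRing A] [Field K] [Field k]
    [Algebra A K] [Algebra K k] [Algebra A k] [IsScalarTower A K k]
    [FiniteDimensional K k] [Algebra.IsSeparable K k]
    (hfrac : ∀ c : K, ∃ a b : A, algebraMap A K b ≠ 0 ∧ c * algebraMap A K b = algebraMap A K a) :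
    ∃ (P : StandardEtalePair A) (φ : P.Ring →ₐ[A] k),
      ∀ L : IntermediateField K k, (∀ b, φ b ∈ L) → L = ⊤ := by
  obtain ⟨β, F, hF, hFm, hβ⟩ := exists_primitive_lifts (A := A) (K := K) (k := k) hfrac
  let P : StandardEtalePair A := ⟨F, hF, derivative F, ⟨1, 0, 1, by simp⟩⟩
  have hmap : P.HasMap β := by
    refine ⟨?_, ?_⟩
    · change aeval β F = 0
      rw [← Polynomial.aeval_map_algebraMap K β F, hFm]
      exact minpoly.aeval K β
    · change IsUnit (aeval β (derivative F))
      rw [← Polynomial.aeval_map_algebraMap K β (derivative F), ← Polynomial.derivative_map, hFm]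
      exact IsUnit.mk0 _ (Polynomial.Separable.aeval_derivative_ne_zero
        (Algebra.IsSeparable.isSeparable K β) (minpoly.aeval K β))
  refine ⟨P, P.lift β hmap, fun L hL => ?_⟩
  rw [eq_top_iff, ← hβ, IntermediateField.adjoin_le_iff]
  intro x hx
  rw [Set.mem_singleton_iff.mp hx]
  have := hL P.X
  rwa [StandardEtalePair.lift_X] at this

end Groth.Agent.Helper15

namespace Groth.Agent.Helper15

/-- a `K`-point of `X` over a given `K`-point `Spec K → Spec κ(s) → S`. -/
theorem exists_residueField_compat {X S : Scheme.{u}} (K : Type u) [Field K]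
    (y : Spec (.of K) ⟶ X) (f : X ⟶ S) (s : S) (χ : S.residueField s ⟶ .of K)
    (h : y ≫ f = Spec.map χ ≫ S.fromSpecResidueField s) :
    ∃ e : f (y (IsLocalRing.closedPoint K)) = s,
      (S.residueFieldCongr e).inv ≫ f.residueFieldMap (y (IsLocalRing.closedPoint K)) ≫
        X.descResidueField (Scheme.stalkClosedPointTo y) = χ := by
  have h1 : Scheme.SpecToEquivOfField K S (y ≫ f) = ⟨s, χ⟩ := by
    rw [h]
    exact (Scheme.SpecToEquivOfField K S).right_inv ⟨s, χ⟩
  rw [Scheme.SpecToEquivOfField_eq_iff] at h1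
  obtain ⟨e, he⟩ := h1
  refine ⟨e, ?_⟩
  rw [Iso.inv_comp_eq]
  exact (Scheme.descResidueField_stalkClosedPointTo_comp f y).symm.trans he

end Groth.Agent.Helper15

namespace Groth.Agent.Helper15

theorem descResidueField_SpecMap_factor (B : CommRingCat.{u}) (K : Type u) [Field K]
    (φ : B ⟶ .of K) :
    (Scheme.ΓSpecIso B).inv ≫ (Spec B).presheaf.germ ⊤ _ trivial ≫ (Spec B).residue _ ≫
      (Spec B).descResidueField (Scheme.stalkClosedPointTo (Spec.map φ)) = φ := by
  rw [Scheme.residue_descResidueField, Scheme.germ_stalkClosedPointTo_Spec, Iso.inv_hom_id_assoc]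

theorem descResidueField_SpecMap_apply (B : CommRingCat.{u}) (K : Type u) [Field K]
    (φ : B ⟶ .of K) (b : B) :
    ∃ t, ((Spec B).descResidueField (Scheme.stalkClosedPointTo (Spec.map φ))).hom t = φ.hom b :=
  ⟨((Spec B).residue _).hom (((Spec B).presheaf.germ ⊤ _ trivial).hom
        ((Scheme.ΓSpecIso B).inv.hom b)),
    ConcreteCategory.congr_hom (descResidueField_SpecMap_factor B K φ) b⟩

theorem SpecMap_evaluation_fromSpec {S : Scheme.{u}} {W : S.Opens} (hW : IsAffineOpen W) (s : S)
    (hs : s ∈ W) : Spec.map (S.evaluation W s hs) ≫ hW.fromSpec = S.fromSpecResidueField s := by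
  rw [Scheme.evaluation, Spec.map_comp, Category.assoc, Scheme.fromSpecResidueField,
    ← hW.fromSpecStalk_eq_fromSpecStalk hs, IsAffineOpen.fromSpecStalk]

theorem evaluation_frac {S : Scheme.{u}} {W : S.Opens} (hW : IsAffineOpen W) (s : S)
    (hs : s ∈ W) (c : S.residueField s) :
    ∃ a b : Γ(S, W), S.evaluation W s hs b ≠ 0 ∧ c * S.evaluation W s hs b = S.evaluation W s hs a := by
  obtain ⟨t, rfl⟩ := S.residue_surjective s c
  let _ := S.presheaf.algebra_section_stalk ⟨s, hs⟩
  have := hW.isLocalization_stalk ⟨s, hs⟩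
  obtain ⟨⟨a, b⟩, hab⟩ := IsLocalization.surj (hW.primeIdealOf ⟨s, hs⟩).asIdeal.primeCompl t
  have hu : IsUnit (S.presheaf.germ W s hs b.1) :=
    IsLocalization.map_units (M := (hW.primeIdealOf ⟨s, hs⟩).asIdeal.primeCompl)
      (S.presheaf.stalk s) b
  refine ⟨a, b.1, ?_, ?_⟩
  · exact (hu.map (S.residue s).hom).ne_zero
  · have := congrArg (S.residue s).hom hab
    rw [map_mul] at this
    exact this

end Groth.Agent.Helper15

namespace Groth.Agent.Helper15

theorem exists_etale_nbhd_residueField (S : Scheme.{u}) (s : S) (k : Type u) [Field k]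
    [Algebra (S.residueField s) k] [FiniteDimensional (S.residueField s) k]
    [Algebra.IsSeparable (S.residueField s) k] :
    ∃ (U : Scheme.{u}) (g : U ⟶ S) (u : U) (hu : g u = s), Etale g ∧
      letI := ((S.residueFieldCongr hu).inv ≫ g.residueFieldMap u).hom.toAlgebra
      Nonempty (k ≃ₐ[S.residueField s] U.residueField u) := by
  obtain ⟨W, hW, hs⟩ : ∃ W : S.Opens, IsAffineOpen W ∧ s ∈ W := by
    obtain ⟨_, ⟨W, hW, rfl⟩, hs, -⟩ :=
      (S.isBasis_affineOpens).exists_subset_of_mem_open (Set.mem_univ s) isOpen_univ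
    exact ⟨W, hW, hs⟩
  let A := Γ(S, W)
  let ev := S.evaluation W s hs
  let _ : Algebra A (S.residueField s) := ev.hom.toAlgebra
  let _ : Algebra A k := ((algebraMap (S.residueField s) k).comp ev.hom).toAlgebra
  have : IsScalarTower A (S.residueField s) k := IsScalarTower.of_algebraMap_eq fun _ => rfl
  obtain ⟨P, φ, hφ⟩ := exists_standardEtalePair_lift (A := A) (K := S.residueField s) (k := k)
    (evaluation_frac hW s hs)
  let B : CommRingCat.{u} := .of P.Ring
  let ι : A ⟶ B := CommRingCat.ofHom (algebraMap A P.Ring)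
  let φ' : B ⟶ .of k := CommRingCat.ofHom φ.toRingHom
  let g : Spec B ⟶ S := Spec.map ι ≫ hW.fromSpec
  let y : Spec (.of k) ⟶ Spec B := Spec.map φ'
  let χ : S.residueField s ⟶ .of k := CommRingCat.ofHom (algebraMap (S.residueField s) k)
  have hyg : y ≫ g = Spec.map χ ≫ S.fromSpecResidueField s := by
    rw [← SpecMap_evaluation_fromSpec hW s hs, ← Spec.map_comp_assoc, ← Spec.map_comp_assoc]
    congr 2
    ext a
    exact φ.commutes a
  obtain ⟨e, he⟩ := exists_residueField_compat k y g s χ hyg
  refine ⟨Spec B, g, y (IsLocalRing.closedPoint k), e, ?_, ?_⟩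
  · have : Etale (Spec.map ι) := by
      rw [HasRingHomProperty.Spec_iff (P := @Etale)]
      exact RingHom.etale_algebraMap.mpr inferInstance
    infer_instance
  · let _ := ((S.residueFieldCongr e).inv ≫ g.residueFieldMap _).hom.toAlgebra
    let ψ : (Spec B).residueField (y (IsLocalRing.closedPoint k)) →ₐ[S.residueField s] k :=
      { toRingHom := ((Spec B).descResidueField (Scheme.stalkClosedPointTo y)).hom
        commutes' := fun c => ConcreteCategory.congr_hom he c }
    have hsurj : Function.Surjective ψ := by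
      rw [← AlgHom.fieldRange_eq_top]
      apply hφ
      intro b
      rw [AlgHom.mem_fieldRange]
      obtain ⟨t, ht⟩ := descResidueField_SpecMap_apply B k φ' b
      exact ⟨t, ht⟩
    exact ⟨(AlgEquiv.ofBijective ψ ⟨ψ.toRingHom.injective, hsurj⟩).symm⟩

end Groth.Agent.Helper15
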