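import Groth.Agent.Lib.Helper15.AlgSpDiag

/-!
# Checking `RepWith P` locally on the test scheme
-/

set_option autoImplicit false
universe u
open CategoryTheory CategoryTheory.Limits AlgebraicGeometry MorphismProperty Opposite
open AlgSp

namespace Groth.Agent.Helper15

variable {S : Scheme.{u}}

/-- The property `P` of a base change `V ⟶ T` of `f` can be checked on a `K`-cover of `T`, for `P`
local at the target for `K`. -/
theorem property_of_cover {F G : Sp S} {f : F ⟶ G} {P : MorphismProperty Scheme.{u}}
    (K : Precoverage Scheme.{u}) [P.IsLocalAtTarget K] {T V : Over S} {g : (yon S).obj T ⟶ G}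
    {fst : (yon S).obj V ⟶ F} {snd : V ⟶ T} (sq : IsPullback fst ((yon S).map snd) f g)
    {R₀ : Presieve T.left} (hR₀ : R₀ ∈ K T.left)
    (h : ∀ ⦃T' : Scheme.{u}⦄ (i : T' ⟶ T.left), R₀ i → ∀ (V' : Over S)
      (fst' : (yon S).obj V' ⟶ F) (snd' : V' ⟶ Over.mk (i ≫ T.hom)),
      IsPullback fst' ((yon S).map snd') f
        ((yon S).map (Over.homMk i : Over.mk (i ≫ T.hom) ⟶ T) ≫ g) → P snd'.left) :
    P snd.left := by
  refine MorphismProperty.IsLocalAtTarget.of_forall_pullbackSnd (P := P) hR₀ ?_
  intro T' i _ hi
  let T'' : Over S := Over.mk (i ≫ T.hom)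
  let ι : T'' ⟶ T := Over.homMk i
  have sqW : IsPullback (pullback.fst snd ι) (pullback.snd snd ι) snd ι :=
    IsPullback.of_hasPullback _ _
  have sqW' := sqW.map (yon S)
  have big := sqW'.paste_horiz sq
  have hP : P (pullback.snd snd ι).left := h i hi _ _ _ big
  have sqL := sqW.map (Over.forget S)
  have e := sqL.isoPullback_hom_snd
  have : P.RespectsIso := inferInstance
  have hP' : P (sqL.isoPullback.hom ≫
      pullback.snd ((Over.forget S).map snd) ((Over.forget S).map ι)) := by
    rw [e]; exact hP
  exact (P.cancel_left_of_respectsIso _ _).1 hP'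

/-- `RepWith P f` can be checked on affine test schemes, for `P` Zariski local on the target. -/
theorem repWith_of_forall_affine {F G : Sp S} {f : F ⟶ G} (hrep : Representable f)
    (P : MorphismProperty Scheme.{u}) [IsZariskiLocalAtTarget P]
    (h : ∀ (T V : Over S), IsAffine T.left → ∀ (g : (yon S).obj T ⟶ G)
      (fst : (yon S).obj V ⟶ F) (snd : V ⟶ T), IsPullback fst ((yon S).map snd) f g → P snd.left) :
    RepWith P f := by
  refine ⟨hrep, fun T V g fst snd sq => ?_⟩
  change P snd.left
  refine property_of_cover Scheme.zariskiPrecoverage sq (T.left.affineCover.mem₀) ?_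
  rintro T' i ⟨j⟩ V' fst' snd' sq'
  refine h _ _ ?_ _ _ _ sq'
  change IsAffine (T.left.affineCover.X j)
  infer_instance

/-- The property of the projection of a representing pullback does not depend on the choice of
the pullback. -/
theorem property_congr {F G : Sp S} {f : F ⟶ G} {P : MorphismProperty Scheme.{u}} [P.RespectsIso]
    {T V₁ V₂ : Over S} {g : (yon S).obj T ⟶ G} {fst₁ : (yon S).obj V₁ ⟶ F} {snd₁ : V₁ ⟶ T}
    {fst₂ : (yon S).obj V₂ ⟶ F} {snd₂ : V₂ ⟶ T}
    (sq₁ : IsPullback fst₁ ((yon S).map snd₁) f g) (sq₂ : IsPullback fst₂ ((yon S).map snd₂) f g)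
    (h : P snd₁.left) : P snd₂.left := by
  let e := sq₂.isoIsPullback _ _ sq₁
  let ε : V₂ ≅ V₁ := (yon S).preimageIso e
  have hε : ε.hom ≫ snd₁ = snd₂ := by
    apply (yon S).map_injective
    rw [Functor.map_comp]
    change (yon S).map ((yon S).preimage e.hom) ≫ _ = _
    rw [Functor.map_preimage]
    exact sq₂.isoIsPullback_hom_snd _ _ sq₁
  have : snd₂.left = ((Over.forget S).mapIso ε).hom ≫ snd₁.left := by
    rw [← hε]; rfl
  rw [this]
  exact (P.cancel_left_of_respectsIso ((Over.forget S).mapIso ε).hom snd₁.left).2 h

/-- The diagonal of `F` is representable with `P` (Zariski local on the target) if for affine `T`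
the base change of `h_T ×_F h_T ⟶ T ×_S T` along the diagonal of `T` has `P`. -/
theorem repWith_diag_of_forall_affine {F : Sp S} (hF : Representable (Limits.diag F))
    (P : MorphismProperty Scheme.{u}) [IsZariskiLocalAtTarget P]
    (h : ∀ (T W : Over S), IsAffine T.left → ∀ (a b : (yon S).obj T ⟶ F) (fst snd : W ⟶ T),
      IsPullback ((yon S).map fst) ((yon S).map snd) a b →
        P (pullback.snd (prod.lift fst snd) (Limits.diag T)).left) :
    RepWith P (Limits.diag F) := by
  refine repWith_of_forall_affine hF P (fun T V hT c fst' snd' sq' => ?_)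
  have hc : c = prod.lift (c ≫ prod.fst) (c ≫ prod.snd) := by
    ext
    · rw [prod.lift_fst]
    · rw [prod.lift_snd]
  have ha : Representable (c ≫ prod.fst) := Functor.relativelyRepresentable.of_diag hF _
  have sq := ha.isPullback' (c ≫ prod.snd)
  have sqD := isPullback_diag_of_isPullback sq
  rw [← hc] at sqD
  exact property_congr sqD sq' (h T _ hT _ _ _ _ sq)

/-- The diagonal of `T` in `Over S` is the relative diagonal of `T ⟶ S`. -/
theorem diag_left_comp_prodLeftIsoPullback (T : Over S) :
    (Limits.diag T).left ≫ (Over.prodLeftIsoPullback T T).hom = pullback.diagonal T.hom := by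
  apply pullback.hom_ext
  · rw [Category.assoc, Over.prodLeftIsoPullback_hom_fst, ← Over.comp_left, prod.lift_fst,
      pullback.diagonal_fst]
    rfl
  · rw [Category.assoc, Over.prodLeftIsoPullback_hom_snd, ← Over.comp_left, prod.lift_snd,
      pullback.diagonal_snd]
    rfl

theorem diag_left_of (P : MorphismProperty Scheme.{u}) [P.RespectsIso] (T : Over S)
    (h : P (pullback.diagonal T.hom)) : P (Limits.diag T).left := by
  rw [← diag_left_comp_prodLeftIsoPullback] at h
  exact (P.cancel_right_of_respectsIso _ _).1 h

/-- If `W = h_T ×_F h_T` is quasi-compact and `T` is affine, the base change of the diagonal of `F`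
to `T` is quasi-compact. -/
theorem quasiCompact_pullback_snd_diag {T W : Over S} [IsAffine T.left] (fst snd : W ⟶ T)
    [CompactSpace W.left] :
    QuasiCompact (pullback.snd (prod.lift fst snd) (Limits.diag T)).left := by
  have hd : IsClosedImmersion (Limits.diag T).left :=
    diag_left_of @IsClosedImmersion T (inferInstance : IsClosedImmersion (pullback.diagonal T.hom))
  have sqL := (IsPullback.of_hasPullback (prod.lift fst snd) (Limits.diag T)).map (Over.forget S)
  have h1 : IsClosedImmersion (pullback.fst (prod.lift fst snd) (Limits.diag T)).left :=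
    MorphismProperty.of_isPullback (P := @IsClosedImmersion) sqL.flip hd
  haveI : CompactSpace (pullback (prod.lift fst snd) (Limits.diag T)).left := by
    haveI : QuasiCompact (pullback.fst (prod.lift fst snd) (Limits.diag T)).left := inferInstance
    have := QuasiCompact.isCompact_preimage
      (f := (pullback.fst (prod.lift fst snd) (Limits.diag T)).left) Set.univ isOpen_univ
      isCompact_univ
    rw [Set.preimage_univ] at this
    exact isCompact_univ_iff.1 this
  infer_instance

end Groth.Agent.Helper15
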