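import Groth.Agent.Lib.Helper15.AlgSpGlue
import Groth.Agent.Lib.Helper15.AlgSpField
import Groth.Agent.Lib.Helper15.AlgSpFibre
import Groth.Prelude.Def_AlgSpDec
import Groth.Prelude.Def_AlgSpCov

set_option autoImplicit false
universe u

open CategoryTheory CategoryTheory.Limits AlgebraicGeometry Opposite MorphismProperty

namespace Groth.Agent.Helper15.Decent

open AlgSp

theorem isPullback_of_comp_mono {C : Type*} [Category C] {P X Y Z W : C} {fst : P ⟶ X}
    {snd : P ⟶ Y} {f : X ⟶ Z} {g : Y ⟶ Z} (i : Z ⟶ W) [Mono i]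
    (h : IsPullback fst snd (f ≫ i) (g ≫ i)) : IsPullback fst snd f g := by
  have w : fst ≫ f = snd ≫ g := by
    rw [← cancel_mono i, Category.assoc, Category.assoc]; exact h.w
  refine ⟨⟨w⟩, ⟨PullbackCone.IsLimit.mk w
    (fun s => h.lift s.fst s.snd (by
      rw [← Category.assoc, ← Category.assoc, s.condition]))
    (fun s => h.lift_fst _ _ _) (fun s => h.lift_snd _ _ _) ?_⟩⟩
  intro s m h1 h2
  apply h.hom_ext
  · rw [h1, h.lift_fst]
  · rw [h2, h.lift_snd]

theorem quasiCompact_of_isEmpty {X Y : Scheme.{u}} (f : X ⟶ Y) [IsEmpty X] : QuasiCompact f :=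
  ⟨fun U _ _ => by
    rw [Set.eq_empty_of_isEmpty (f ⁻¹' U)]
    exact isCompact_empty⟩

variable {S : Scheme.{u}}

/-- Two monomorphic field points in the same class are isomorphic over `X`. -/
theorem exists_iso_of_mono_fieldPts {X : Sp S} (hX : IsAlgSpace X) (p p' : FieldPt X)
    (hp : Mono p.toHom) (hp' : Mono p'.toHom) (h : Points.mk p = Points.mk p') :
    ∃ ε : (yon S).obj p.pt ≅ (yon S).obj p'.pt, ε.hom ≫ p'.toHom = p.toHom := by
  have sq := IsPullback.of_hasPullback p.toHom p'.toHom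
  have hZ : IsAlgSpace (pullback p.toHom p'.toHom) :=
    isAlgSpace_of_isPullback hX.diag (IsAlgSpace.yon_obj _) (IsAlgSpace.yon_obj _) sq
  let s : ↥p.pt.left := IsLocalRing.closedPoint p.K
  let s' : ↥p'.pt.left := IsLocalRing.closedPoint p'.K
  have h1 : Points.map p.toHom (Points.ofScheme p.pt s) = Points.mk p := by
    rw [← Points.ofPt_eq_map_ofScheme, Points.ofPt_toHom]
  have h2 : Points.map p'.toHom (Points.ofScheme p'.pt s') = Points.mk p' := by
    rw [← Points.ofPt_eq_map_ofScheme, Points.ofPt_toHom]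
  obtain ⟨z, -, -⟩ := exists_point_of_isPullback sq _ _ (h1.trans (h.trans h2.symm))
  haveI : IsIso (pullback.fst p.toHom p'.toHom) := isIso_of_mono_to_field_sp hZ p.str _ z
  haveI : IsIso (pullback.snd p.toHom p'.toHom) := isIso_of_mono_to_field_sp hZ p'.str _ z
  refine ⟨(asIso (pullback.fst p.toHom p'.toHom)).symm ≪≫ asIso (pullback.snd p.toHom p'.toHom), ?_⟩
  simp only [Iso.trans_hom, Iso.symm_hom, asIso_inv, asIso_hom, Category.assoc, IsIso.inv_comp_eq]
  exact pullback.condition.symm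

theorem map_toHom_eq_mk {X : Sp S} (q : FieldPt X) (z : Points ((yon S).obj q.pt)) :
    Points.map q.toHom z = Points.mk q := by
  obtain ⟨t, rfl⟩ := (Points.schemeEquiv q.pt).surjective z
  change Points.map q.toHom (Points.ofScheme q.pt t) = _
  rw [← Points.ofPt_eq_map_ofScheme, Points.ofPt_toHom]

/-- Key step: the base change of a monomorphic field point of `X` to a scheme mapping to a decent
open subspace is quasi-compact. -/
theorem quasiCompact_snd_of_decent {X Xl : Sp S} (hX : IsAlgSpace X) (jl : Xl ⟶ X) [Mono jl]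
    (hdl : IsDecent Xl) (q : FieldPt X) (hqm : Mono q.toHom) {T' W' : Over S}
    (g' : (yon S).obj T' ⟶ Xl) (fst' : (yon S).obj W' ⟶ (yon S).obj q.pt) (snd' : W' ⟶ T')
    {m : (yon S).obj T' ⟶ X} (hm : g' ≫ jl = m)
    (sq : IsPullback fst' ((yon S).map snd') q.toHom m) : QuasiCompact snd'.left := by
  subst hm
  by_cases hW : IsEmpty ↥W'.left
  · exact quasiCompact_of_isEmpty _
  rw [not_isEmpty_iff] at hW
  obtain ⟨w⟩ := hW
  obtain ⟨pl, hpl, hml, hql⟩ := hdl (Points.ofPt ((yon S).map snd' ≫ g') w)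
  have hm' : Mono (pl.map jl).toHom := by
    rw [FieldPt.toHom_map]
    exact @mono_comp _ _ _ _ _ _ hml _ inferInstance
  have hmk : Points.mk q = Points.mk (pl.map jl) := by
    rw [← Points.map_mk, hpl, Points.map_ofPt, Category.assoc, ← sq.w, ← Points.map_ofPt,
      map_toHom_eq_mk]
  obtain ⟨ε, hε⟩ := exists_iso_of_mono_fieldPts hX q (pl.map jl) hqm hm' hmk
  rw [FieldPt.toHom_map] at hε
  have sq' : IsPullback (fst' ≫ ε.hom) ((yon S).map snd') (pl.toHom ≫ jl) (g' ≫ jl) :=
    IsPullback.of_iso sq (Iso.refl _) ε (Iso.refl _) (Iso.refl _) (by simp) (by simp)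
      (by rw [Iso.refl_hom, Category.comp_id]; exact hε.symm) (by simp)
  have sq'' := isPullback_of_comp_mono jl sq'
  exact hql.property g' _ snd' sq''

theorem isDecent_of_isZarCover {X : Sp S} (hX : IsAlgSpace X) {ι : Type u} (Xi : ι → Sp S)
    (j : ∀ i, Xi i ⟶ X) (hj : IsZarCover Xi j) (hd : ∀ i, IsDecent (Xi i)) : IsDecent X := by
  intro x
  obtain ⟨i, y, rfl⟩ := hj.2 x
  obtain ⟨p, rfl, hm, hq⟩ := hd i y
  have hjm : ∀ l, Mono (j l) := fun l => mono_of_repWith_isOpenImmersion _ (hj.1 l)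
  haveI := hjm i
  have hqm : Mono (p.map (j i)).toHom := by
    rw [FieldPt.toHom_map]
    exact @mono_comp _ _ _ _ _ _ hm _ inferInstance
  refine ⟨p.map (j i), rfl, hqm, ?_⟩
  have hrep : Representable (p.map (j i)).toHom := by
    rw [FieldPt.toHom_map]
    exact comp_mem _ _ _ hq.rep (hj.1 i).rep
  haveI : MorphismProperty.RespectsIso (@QuasiCompact : MorphismProperty Scheme.{u}) := inferInstance
  haveI : MorphismProperty.RespectsIso
      (MorphismProperty.inverseImage (@QuasiCompact : MorphismProperty Scheme.{u}) (Over.forget S)) :=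
    RespectsIso.inverseImage _ _
  apply MorphismProperty.relative.of_exists
  intro T g
  have hopen : ∀ l, IsOpenImmersion ((hj.1 l).rep.snd g).left := fun l => (hj.1 l).property_snd g
  have hcov : ∀ t : T.left, ∃ l tk, ((hj.1 l).rep.snd g).left tk = t := by
    intro t
    obtain ⟨l, yl, hyl⟩ := hj.2 (Points.ofPt g t)
    rw [Points.ofPt_eq_map_ofScheme g t] at hyl
    obtain ⟨pt, -, hp2⟩ := exists_point_of_isPullback ((hj.1 l).rep.isPullback g) yl _ hyl
    obtain ⟨w, rfl⟩ := (Points.schemeEquiv _).surjective pt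
    change Points.map _ (Points.ofScheme _ w) = _ at hp2
    rw [← Points.ofPt_eq_map_ofScheme, ofPt_yon_map] at hp2
    exact ⟨l, w, (Points.schemeEquiv T).injective hp2⟩
  obtain ⟨V, fst, snd, hpb, hQ⟩ := exists_rep_pullback_of_cover (Q := @QuasiCompact)
    (p.map (j i)).toHom g _ _ hopen hcov _ _ _
    (fun l => hrep.isPullback ((yon S).map ((hj.1 l).rep.snd g) ≫ g)) (fun l => by
      haveI := hjm l
      exact quasiCompact_snd_of_decent hX (j l) (hd l) (p.map (j i)) hqm
        ((hj.1 l).rep.fst g) _ _ ((hj.1 l).rep.w g)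
        (hrep.isPullback ((yon S).map ((hj.1 l).rep.snd g) ≫ g)))
  exact ⟨V, fst, snd, hpb, hQ⟩

end Groth.Agent.Helper15.Decent
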