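import Groth.Agent.Lib.Helper15.AlgSpOpen
import Mathlib.AlgebraicGeometry.Gluing
import Groth.Prelude.Def_AlgSpMor5

set_option autoImplicit false
universe u
open CategoryTheory CategoryTheory.Limits AlgebraicGeometry MorphismProperty TopologicalSpace
open AlgSp

namespace Groth.Agent.Helper15
variable {S : Scheme.{u}}

theorem mono_of_repWith_isOpenImmersion {G H : Sp S} (f : G ⟶ H)
    (hf : RepWith @IsOpenImmersion f) : Mono f :=
  mono_of_repWith (P := @IsOpenImmersion)
    (fun _ _ g hg => by haveI := hg; exact (inferInstance : Mono g)) f hf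

section Glue

variable {F : Sp S} {ι : Type u} {U : ι → Over S} {a : ∀ i, (yon S).obj (U i) ⟶ F}
  (ha : ∀ i, RepWith @IsOpenImmersion (a i))

theorem fst'_self_eq_snd_yon {T : Over S} {f : (yon S).obj T ⟶ F}
    (hf : RepWith @IsOpenImmersion f) : hf.rep.fst' f = hf.rep.snd f := by
  haveI := mono_of_repWith_isOpenImmersion f hf
  apply (yon S).map_injective
  rw [← cancel_mono f, (hf.rep.isPullback' f).w]

theorem isIso_fst'_self_yon {T : Over S} {f : (yon S).obj T ⟶ F}
    (hf : RepWith @IsOpenImmersion f) : IsIso (hf.rep.fst' f) := by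
  haveI := mono_of_repWith_isOpenImmersion f hf
  haveI := (hf.rep.isPullback' f).isIso_fst_of_mono
  exact isIso_of_fully_faithful (yon S) _

set_option backward.isDefEq.respectTransparency false in
open Functor.relativelyRepresentable in
/-- The gluing data in `Over S` attached to a family of open subfunctors. -/
noncomputable def glueDataOver : CategoryTheory.GlueData (Over S) where
  J := ι
  U := U
  V := fun (i, j) ↦ (ha i).rep.pullback (a j)
  f i j := (ha i).rep.fst' (a j)
  f_mono i j := by
    haveI : IsOpenImmersion ((ha i).rep.fst' (a j)).left :=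
      (ha j).property _ _ _ ((ha i).1.isPullback' (a j)).flip
    exact Over.mono_of_mono_left _
  f_id i := isIso_fst'_self_yon (ha i)
  t i j := (ha i).rep.symmetry (ha j).rep
  t_id i := by
    apply (ha i).rep.hom_ext' <;> simp [fst'_self_eq_snd_yon (ha i)]
  t' i j k := lift₃ _ _ _ (pullback₃.p₂ _ _ _) (pullback₃.p₃ _ _ _) (pullback₃.p₁ _ _ _)
    (by simp) (by simp)
  t_fac i j k := (ha j).rep.hom_ext' (by simp) (by simp)
  cocycle i j k := pullback₃.hom_ext (by simp) (by simp) (by simp)

end Glue
end Groth.Agent.Helper15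

namespace Groth.Agent.Helper15
variable {S : Scheme.{u}}
section Glue2
variable {F : Sp S} {ι : Type u} {U : ι → Over S} {a : ∀ i, (yon S).obj (U i) ⟶ F}
  (ha : ∀ i, RepWith @IsOpenImmersion (a i))

/-- The gluing data of schemes. -/
noncomputable def glueDataSch : Scheme.GlueData where
  toGlueData := (glueDataOver ha).mapGlueData (Over.forget S)
  f_open i j := by
    change IsOpenImmersion ((ha i).rep.fst' (a j)).left
    exact (ha j).property _ _ _ ((ha i).1.isPullback' (a j)).flip

theorem glueDataSch_f (i j : ι) : (glueDataSch ha).f i j = ((ha i).rep.fst' (a j)).left := rfl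
theorem glueDataSch_t (i j : ι) :
    (glueDataSch ha).t i j = ((ha i).rep.symmetry (ha j).rep).left := rfl
theorem glueDataSch_U (i : ι) : (glueDataSch ha).U i = (U i).left := rfl

/-- The structure morphism of the glued scheme. -/
noncomputable def gluedHom : (glueDataSch ha).glued ⟶ S :=
  Multicoequalizer.desc _ S (fun i => (U i).hom) (by
    rintro ⟨i, j⟩
    change ((ha i).rep.fst' (a j)).left ≫ (U i).hom =
      (((ha i).rep.symmetry (ha j).rep).left ≫ ((ha j).rep.fst' (a i)).left) ≫ (U j).hom
    rw [Category.assoc, CategoryTheory.Over.w, CategoryTheory.Over.w, CategoryTheory.Over.w])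

end Glue2
end Groth.Agent.Helper15

namespace Groth.Agent.Helper15
variable {S : Scheme.{u}}
section Glue3
variable {F : Sp S} {ι : Type u} {U : ι → Over S} {a : ∀ i, (yon S).obj (U i) ⟶ F}
  (ha : ∀ i, RepWith @IsOpenImmersion (a i))

/-- The glued scheme over `S`. -/
noncomputable def gluedOver : Over S := Over.mk (gluedHom ha)

/-- The inclusion of the `i`-th piece into the glued scheme. -/
noncomputable def gluedι (i : ι) : U i ⟶ gluedOver ha :=
  Over.homMk ((glueDataSch ha).ι i)
    (Multicoequalizer.π_desc (glueDataSch ha).diagram S (fun i => (U i).hom) _ i)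

theorem gluedι_left (i : ι) : (gluedι ha i).left = (glueDataSch ha).ι i := rfl

instance gluedι_isOpenImmersion (i : ι) : IsOpenImmersion (gluedι ha i).left := by
  rw [gluedι_left]; exact Scheme.GlueData.ι_isOpenImmersion (glueDataSch ha) i

theorem gluedι_jointly_surjective (x : (gluedOver ha).left) :
    ∃ i y, (gluedι ha i).left y = x :=
  (glueDataSch ha).ι_jointly_surjective x

/-- Two maps into pieces which agree in the glued scheme agree in `F`. -/
theorem yon_comp_eq_of_gluedι_eq {T : Over S} {i j : ι} (gi : T ⟶ U i) (gj : T ⟶ U j)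
    (h : gi ≫ gluedι ha i = gj ≫ gluedι ha j) :
    (yon S).map gi ≫ a i = (yon S).map gj ≫ a j := by
  have h0 : gi.left ≫ (glueDataSch ha).ι i = gj.left ≫ (glueDataSch ha).ι j :=
    congrArg (fun t => t.left) h
  let c : PullbackCone ((glueDataSch ha).ι i) ((glueDataSch ha).ι j) :=
    PullbackCone.mk gi.left gj.left h0
  let l : T.left ⟶ ((ha i).rep.pullback (a j)).left :=
    ((glueDataSch ha).vPullbackConeIsLimit i j).lift c
  have hl1 : l ≫ ((ha i).rep.fst' (a j)).left = gi.left :=
    ((glueDataSch ha).vPullbackConeIsLimit i j).fac c WalkingCospan.left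
  have hl2 : l ≫ ((ha i).rep.symmetry (ha j).rep).left ≫ ((ha j).rep.fst' (a i)).left = gj.left :=
    ((glueDataSch ha).vPullbackConeIsLimit i j).fac c WalkingCospan.right
  let l' : T ⟶ (ha i).rep.pullback (a j) := Over.homMk l (by
    rw [← CategoryTheory.Over.w ((ha i).rep.fst' (a j)), ← Category.assoc, hl1,
      CategoryTheory.Over.w])
  have hl1' : l' ≫ (ha i).rep.fst' (a j) = gi := by ext; exact hl1
  have hl2' : l' ≫ (ha i).rep.snd (a j) = gj := by
    rw [← (ha i).rep.symmetry_fst (ha j).rep]
    ext; exact hl2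
  rw [← hl1', ← hl2', Functor.map_comp, Functor.map_comp, Category.assoc, Category.assoc,
    ((ha i).rep.isPullback' (a j)).w]

/-- Two maps into pieces which agree in `F` agree in the glued scheme. -/
theorem gluedι_eq_of_yon_comp_eq {T : Over S} {i j : ι} (gi : T ⟶ U i) (gj : T ⟶ U j)
    (h : (yon S).map gi ≫ a i = (yon S).map gj ≫ a j) :
    gi ≫ gluedι ha i = gj ≫ gluedι ha j := by
  rw [← (ha i).rep.lift'_fst gi gj h, Category.assoc]
  conv_rhs => rw [← (ha i).rep.lift'_snd gi gj h, Category.assoc]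
  congr 1
  ext
  have := (glueDataSch ha).glue_condition i j
  rw [glueDataSch_f, glueDataSch_t, glueDataSch_f] at this
  rw [← (ha i).rep.symmetry_fst (ha j).rep]
  exact this.symm

theorem ofArrows_gluedι_mem_J : Sieve.ofArrows U (gluedι ha) ∈ (J S) (gluedOver ha) :=
  ofArrows_mem_J _ _ (fun i => inferInstance) (fun i => inferInstance)
    (gluedι_jointly_surjective ha)

/-- The glued section: a map from the glued scheme to `F` restricting to the `a i`. -/
theorem exists_gluedSection :
    ∃ e : (yon S).obj (gluedOver ha) ⟶ F, ∀ i, (yon S).map (gluedι ha i) ≫ e = a i := by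
  have hsh : Presieve.IsSheafFor F.obj (Presieve.ofArrows U (gluedι ha)) := by
    rw [Presieve.isSheafFor_iff_generate]
    exact ((isSheaf_iff_isSheaf_of_type _ _).1 F.property) _ (ofArrows_gluedι_mem_J ha)
  rw [Presieve.isSheafFor_arrows_iff] at hsh
  obtain ⟨t, ht, -⟩ := hsh (fun i => yonEquiv (a i)) (by
    intro i j Z gi gj hg
    change F.obj.map gi.op (yonEquiv (a i)) = F.obj.map gj.op (yonEquiv (a j))
    rw [GrothendieckTopology.uliftYonedaEquiv_naturality,
      GrothendieckTopology.uliftYonedaEquiv_naturality]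
    exact congrArg _ (yon_comp_eq_of_gluedι_eq ha gi gj hg))
  refine ⟨yonEquiv.symm t, fun i => ?_⟩
  apply yonEquiv.injective
  rw [← GrothendieckTopology.uliftYonedaEquiv_naturality, Equiv.apply_symm_apply]
  exact ht i

end Glue3
end Groth.Agent.Helper15

namespace Groth.Agent.Helper15
variable {S : Scheme.{u}}
section Glue4
variable {F : Sp S} {ι : Type u} {U : ι → Over S} {a : ∀ i, (yon S).obj (U i) ⟶ F}
  (ha : ∀ i, RepWith @IsOpenImmersion (a i))

theorem mono_gluedSection (e : (yon S).obj (gluedOver ha) ⟶ F)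
    (he : ∀ i, (yon S).map (gluedι ha i) ≫ e = a i) : Mono e := by
  apply mono_of_yon
  intro T x y hxy
  obtain ⟨x', rfl⟩ := (yon S).map_surjective x
  obtain ⟨y', rfl⟩ := (yon S).map_surjective y
  congr 1
  ext : 1
  apply Scheme.hom_ext_of_forall
  intro t
  obtain ⟨i, ui, hui⟩ := gluedι_jointly_surjective ha (x'.left t)
  obtain ⟨j, uj, huj⟩ := gluedι_jointly_surjective ha (y'.left t)
  let W : T.left.Opens := x'.left ⁻¹ᵁ (gluedι ha i).left.opensRange ⊓
    y'.left ⁻¹ᵁ (gluedι ha j).left.opensRange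
  have htW : t ∈ W := ⟨⟨ui, hui⟩, ⟨uj, huj⟩⟩
  refine ⟨W, htW, ?_⟩
  have h1 : Set.range (W.ι ≫ x'.left) ⊆ Set.range (gluedι ha i).left := by
    rintro _ ⟨w, rfl⟩
    exact w.2.1
  have h2 : Set.range (W.ι ≫ y'.left) ⊆ Set.range (gluedι ha j).left := by
    rintro _ ⟨w, rfl⟩
    exact w.2.2
  let WO : Over S := Over.mk (W.ι ≫ T.hom)
  let ιW : WO ⟶ T := Over.homMk W.ι rfl
  let gi : WO ⟶ U i := Over.homMk (IsOpenImmersion.lift (gluedι ha i).left (W.ι ≫ x'.left) h1) (by
    rw [← CategoryTheory.Over.w (gluedι ha i), IsOpenImmersion.lift_fac_assoc, Category.assoc,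
      CategoryTheory.Over.w]
    rfl)
  let gj : WO ⟶ U j := Over.homMk (IsOpenImmersion.lift (gluedι ha j).left (W.ι ≫ y'.left) h2) (by
    rw [← CategoryTheory.Over.w (gluedι ha j), IsOpenImmersion.lift_fac_assoc, Category.assoc,
      CategoryTheory.Over.w]
    rfl)
  have hgi : gi ≫ gluedι ha i = ιW ≫ x' := by
    ext; exact IsOpenImmersion.lift_fac _ _ _
  have hgj : gj ≫ gluedι ha j = ιW ≫ y' := by
    ext; exact IsOpenImmersion.lift_fac _ _ _
  have key : (yon S).map gi ≫ a i = (yon S).map gj ≫ a j := by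
    rw [← he i, ← he j, ← Category.assoc, ← Category.assoc, ← Functor.map_comp,
      ← Functor.map_comp, hgi, hgj, Functor.map_comp, Functor.map_comp, Category.assoc,
      Category.assoc, hxy]
  have := gluedι_eq_of_yon_comp_eq ha gi gj key
  rw [hgi, hgj] at this
  exact congrArg (fun t => t.left) this

theorem isLocallySurjective_gluedSection (e : (yon S).obj (gluedOver ha) ⟶ F)
    (he : ∀ i, (yon S).map (gluedι ha i) ≫ e = a i)
    (hcov : ∀ x : Points F, ∃ i, x ∈ Set.range (Points.map (a i))) :
    Sheaf.IsLocallySurjective e := by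
  constructor
  intro T s
  obtain ⟨σ, rfl⟩ := (yonEquiv (T := T) (F := F)).surjective s
  have hc : Sieve.ofArrows (fun i => (ha i).rep.pullback σ) (fun i => (ha i).rep.snd σ) ∈
      (J S) T := by
    refine ofArrows_mem_J _ _ (fun i => ?_) (fun i => ?_) (fun t => ?_)
    · haveI : IsOpenImmersion ((ha i).rep.snd σ).left := (ha i).property_snd σ
      infer_instance
    · haveI : IsOpenImmersion ((ha i).rep.snd σ).left := (ha i).property_snd σ
      infer_instance
    · obtain ⟨i, ui, hui⟩ := hcov (Points.ofPt σ t)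
      rw [Points.ofPt_eq_map_ofScheme σ t] at hui
      obtain ⟨p, -, hp2⟩ := exists_point_of_isPullback ((ha i).rep.isPullback σ) ui _ hui
      obtain ⟨w, rfl⟩ := (Points.schemeEquiv _).surjective p
      change Points.map _ (Points.ofScheme _ w) = _ at hp2
      rw [← Points.ofPt_eq_map_ofScheme, ofPt_yon_map] at hp2
      exact ⟨i, w, (Points.schemeEquiv T).injective hp2⟩
  refine (J S).superset_covering ?_ hc
  rw [Sieve.ofArrows, Sieve.generate_le_iff]
  rintro _ _ ⟨i⟩
  refine ⟨yonEquiv ((ha i).rep.fst σ ≫ (yon S).map (gluedι ha i)), ?_⟩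
  have h1 := GrothendieckTopology.uliftYonedaEquiv_comp (J S)
    ((ha i).rep.fst σ ≫ (yon S).map (gluedι ha i)) e
  have h2 := GrothendieckTopology.uliftYonedaEquiv_naturality (J S) σ ((ha i).rep.snd σ)
  rw [← (ha i).rep.w σ] at h2
  rw [Category.assoc, he i] at h1
  exact h1.symm.trans h2.symm

include ha in
/-- **Gluing of representable open subfunctors** (Stacks 01JJ in the relative fppf setting). -/
theorem exists_rep_of_openCover (hcov : ∀ x : Points F, ∃ i, x ∈ Set.range (Points.map (a i))) :
    ∃ (V : Over S) (e : (yon S).obj V ≅ F) (j : ∀ i, U i ⟶ V),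
      (∀ i, IsOpenImmersion (j i).left) ∧ (∀ i, (yon S).map (j i) ≫ e.hom = a i) ∧
      (∀ v : V.left, ∃ i u, (j i).left u = v) := by
  obtain ⟨e, he⟩ := exists_gluedSection ha
  haveI := mono_gluedSection ha e he
  haveI := isLocallySurjective_gluedSection ha e he hcov
  haveI : Epi e := (Sheaf.isLocallySurjective_iff_epi e).1 inferInstance
  haveI : IsIso e := isIso_of_mono_of_epi e
  exact ⟨gluedOver ha, asIso e, gluedι ha, fun i => inferInstance, he,
    gluedι_jointly_surjective ha⟩

end Glue4
end Groth.Agent.Helper15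

namespace Groth.Agent.Helper15
variable {S : Scheme.{u}}

/-- A morphism of sheaves whose base changes to affine schemes are representable with `Q`
(`Q` Zariski local on the target) is representable with `Q`. -/
theorem repWith_of_affRep {Q : MorphismProperty Scheme.{u}} [IsZariskiLocalAtTarget Q]
    {F G : Sp S} (f : F ⟶ G) (h : AffRep Q f) : RepWith Q f := by
  haveI : Q.RespectsIso := inferInstance
  haveI : (Q.inverseImage (Over.forget S)).RespectsIso := RespectsIso.inverseImage Q _
  apply MorphismProperty.relative.of_exists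
  intro T g
  let 𝒰 := T.left.affineCover
  let Tk : 𝒰.I₀ → Over S := fun k => Over.mk (𝒰.f k ≫ T.hom)
  let ιk : ∀ k, Tk k ⟶ T := fun k => Over.homMk (𝒰.f k) rfl
  have hTk : ∀ k, IsAffine (Tk k).left := fun k => by
    change IsAffine (𝒰.X k); infer_instance
  choose W i fstW sqW hQ using fun k => h (hTk k) ((yon S).map (ιk k) ≫ g)
  let p1 := pullback.fst f g
  let p2 := pullback.snd f g
  have pb : IsPullback p1 p2 f g := IsPullback.of_hasPullback f g
  let a : ∀ k, (yon S).obj (W k) ⟶ pullback f g := fun k =>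
    pb.lift (fstW k) ((yon S).map (i k) ≫ (yon S).map (ιk k)) (by
      rw [(sqW k).w, Category.assoc])
  have ha1 : ∀ k, a k ≫ p1 = fstW k := fun k => pb.lift_fst _ _ _
  have ha2 : ∀ k, a k ≫ p2 = (yon S).map (i k) ≫ (yon S).map (ιk k) := fun k => pb.lift_snd _ _ _
  have hL : ∀ k, IsPullback (a k) ((yon S).map (i k)) p2 ((yon S).map (ιk k)) := fun k => by
    refine IsPullback.of_right ?_ (ha2 k) pb
    rw [ha1 k]
    exact sqW k
  have ha : ∀ k, RepWith @IsOpenImmersion (a k) := fun k => by
    refine (RepWith @IsOpenImmersion).of_isPullback (hL k).flip ?_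
    rw [repWith_yon_map_iff]
    change IsOpenImmersion (𝒰.f k)
    infer_instance
  have hcov : ∀ x : Points (pullback f g), ∃ k, x ∈ Set.range (Points.map (a k)) := by
    intro x
    obtain ⟨t, ht⟩ := (Points.schemeEquiv T).surjective (Points.map p2 x)
    obtain ⟨tk, htk⟩ := 𝒰.covers t
    have hx : Points.map p2 x = Points.map ((yon S).map (ιk (𝒰.idx t))) (Points.ofScheme _ tk) := by
      rw [← Points.ofPt_eq_map_ofScheme, ofPt_yon_map, ← ht]
      change _ = Points.ofScheme T ((𝒰.f (𝒰.idx t)) tk)
      rw [htk]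
      rfl
    obtain ⟨w, hw, -⟩ := exists_point_of_isPullback (hL (𝒰.idx t)) x _ hx
    exact ⟨𝒰.idx t, w, hw⟩
  obtain ⟨V, e, j, hj, hje, hjs⟩ := exists_rep_of_openCover ha hcov
  obtain ⟨sndV, hsndV⟩ := (yon S).map_surjective (e.hom ≫ p2)
  refine ⟨V, e.hom ≫ p1, sndV, ?_, ?_⟩
  · rw [hsndV]
    exact IsPullback.of_iso pb e.symm (Iso.refl _) (Iso.refl _) (Iso.refl _)
      (by simp) (by simp) (by simp) (by simp)
  · change Q sndV.left
    refine (IsZariskiLocalAtTarget.iff_of_openCover (P := Q) (f := sndV.left) 𝒰).2 ?_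
    intro k
    have hB : IsPullback e.hom ((yon S).map sndV) p2 (𝟙 _) := by
      rw [hsndV]
      exact IsPullback.of_horiz_isIso ⟨by simp⟩
    have hA : IsPullback ((yon S).map (j k)) ((yon S).map (i k)) ((yon S).map sndV)
        ((yon S).map (ιk k)) := by
      refine IsPullback.of_right ?_ ?_ hB
      · rw [hje k, Category.comp_id]
        exact hL k
      · rw [hsndV, ← Category.assoc, hje k, ha2 k]
    have hA' : IsPullback (j k) (i k) sndV (ιk k) :=
      IsPullback.of_map (yon S) ((yon S).map_injective (by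
        rw [Functor.map_comp, Functor.map_comp]; exact hA.w)) hA
    have hA'' := hA'.map (Over.forget S)
    have e1 := hA''.isoPullback_hom_snd
    have : Q (hA''.isoPullback.hom ≫ pullback.snd sndV.left (𝒰.f k)) := by
      have hq := hQ k
      rw [← show _ = (i k).left from e1] at hq
      exact hq
    exact (Q.cancel_left_of_respectsIso _ _).1 this


end Groth.Agent.Helper15

namespace Groth.Agent.Helper15
variable {S : Scheme.{u}}

/-- Representability of a base change can be checked on an open cover of the base scheme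
(with `Q` Zariski local on the target). -/
theorem exists_rep_pullback_of_cover {Q : MorphismProperty Scheme.{u}} [IsZariskiLocalAtTarget Q]
    {F G : Sp S} (f : F ⟶ G) {T : Over S} (g : (yon S).obj T ⟶ G) {K : Type u}
    (Tk : K → Over S) (ιk : ∀ k, Tk k ⟶ T) (hι : ∀ k, IsOpenImmersion (ιk k).left)
    (hcov : ∀ t : T.left, ∃ k tk, (ιk k).left tk = t) (W : K → Over S) (i : ∀ k, W k ⟶ Tk k)
    (fstW : ∀ k, (yon S).obj (W k) ⟶ F)
    (sqW : ∀ k, IsPullback (fstW k) ((yon S).map (i k)) f ((yon S).map (ιk k) ≫ g))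
    (hQ : ∀ k, Q (i k).left) :
    ∃ (V : Over S) (fst : (yon S).obj V ⟶ F) (snd : V ⟶ T),
      IsPullback fst ((yon S).map snd) f g ∧ Q snd.left := by
  haveI : Q.RespectsIso := inferInstance
  let 𝒰 : T.left.OpenCover := Scheme.Cover.mkOfCovers K (fun k => (Tk k).left)
    (fun k => (ιk k).left) hcov hι
  let p1 := pullback.fst f g
  let p2 := pullback.snd f g
  have pb : IsPullback p1 p2 f g := IsPullback.of_hasPullback f g
  let a : ∀ k, (yon S).obj (W k) ⟶ pullback f g := fun k =>
    pb.lift (fstW k) ((yon S).map (i k) ≫ (yon S).map (ιk k)) (by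
      rw [(sqW k).w, Category.assoc])
  have ha1 : ∀ k, a k ≫ p1 = fstW k := fun k => pb.lift_fst _ _ _
  have ha2 : ∀ k, a k ≫ p2 = (yon S).map (i k) ≫ (yon S).map (ιk k) := fun k => pb.lift_snd _ _ _
  have hL : ∀ k, IsPullback (a k) ((yon S).map (i k)) p2 ((yon S).map (ιk k)) := fun k => by
    refine IsPullback.of_right ?_ (ha2 k) pb
    rw [ha1 k]
    exact sqW k
  have ha : ∀ k, RepWith @IsOpenImmersion (a k) := fun k => by
    refine (RepWith @IsOpenImmersion).of_isPullback (hL k).flip ?_
    rw [repWith_yon_map_iff]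
    exact hι k
  have hcov' : ∀ x : Points (pullback f g), ∃ k, x ∈ Set.range (Points.map (a k)) := by
    intro x
    obtain ⟨t, ht⟩ := (Points.schemeEquiv T).surjective (Points.map p2 x)
    obtain ⟨k, tk, htk⟩ := hcov t
    have hx : Points.map p2 x = Points.map ((yon S).map (ιk k)) (Points.ofScheme _ tk) := by
      rw [← Points.ofPt_eq_map_ofScheme, ofPt_yon_map, ← ht, htk]
      rfl
    obtain ⟨w, hw, -⟩ := exists_point_of_isPullback (hL k) x _ hx
    exact ⟨k, w, hw⟩
  obtain ⟨V, e, j, hj, hje, hjs⟩ := exists_rep_of_openCover ha hcov'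
  obtain ⟨sndV, hsndV⟩ := (yon S).map_surjective (e.hom ≫ p2)
  refine ⟨V, e.hom ≫ p1, sndV, ?_, ?_⟩
  · rw [hsndV]
    exact IsPullback.of_iso pb e.symm (Iso.refl _) (Iso.refl _) (Iso.refl _)
      (by simp) (by simp) (by simp) (by simp)
  · refine (IsZariskiLocalAtTarget.iff_of_openCover (P := Q) (f := sndV.left) 𝒰).2 ?_
    intro k
    have hB : IsPullback e.hom ((yon S).map sndV) p2 (𝟙 _) := by
      rw [hsndV]
      exact IsPullback.of_horiz_isIso ⟨by simp⟩
    have hA : IsPullback ((yon S).map (j k)) ((yon S).map (i k)) ((yon S).map sndV)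
        ((yon S).map (ιk k)) := by
      refine IsPullback.of_right ?_ ?_ hB
      · rw [hje k, Category.comp_id]
        exact hL k
      · rw [hsndV, ← Category.assoc, hje k, ha2 k]
    have hA' : IsPullback (j k) (i k) sndV (ιk k) :=
      IsPullback.of_map (yon S) ((yon S).map_injective (by
        rw [Functor.map_comp, Functor.map_comp]; exact hA.w)) hA
    have hA'' := hA'.map (Over.forget S)
    have e1 := hA''.isoPullback_hom_snd
    have : Q (hA''.isoPullback.hom ≫ pullback.snd sndV.left (𝒰.f k)) := by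
      have hq := hQ k
      rw [← show _ = (i k).left from e1] at hq
      exact hq
    exact (Q.cancel_left_of_respectsIso _ _).1 this


/-- `RepWith Q` is Zariski local on the base (for `Q` Zariski local on the target). -/
theorem repWith_of_zarCover_base {Q : MorphismProperty Scheme.{u}} [IsZariskiLocalAtTarget Q]
    {X Y : Sp S} (f : X ⟶ Y) {ι : Type u} (Yi : ι → Sp S) (j : ∀ i, Yi i ⟶ Y)
    (hj : IsZarCover Yi j) (Xi : ι → Sp S) (p : ∀ i, Xi i ⟶ X) (q : ∀ i, Xi i ⟶ Yi i)
    (sq : ∀ i, IsPullback (p i) (q i) f (j i)) (h : ∀ i, RepWith Q (q i)) : RepWith Q f := by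
  haveI : Q.RespectsIso := inferInstance
  haveI : (Q.inverseImage (Over.forget S)).RespectsIso := RespectsIso.inverseImage Q _
  apply MorphismProperty.relative.of_exists
  intro T g
  have hopen : ∀ i, IsOpenImmersion ((hj.1 i).rep.snd g).left := fun i => (hj.1 i).property_snd g
  have hcov : ∀ t : T.left, ∃ i tk, ((hj.1 i).rep.snd g).left tk = t := by
    intro t
    obtain ⟨i, yi, hyi⟩ := hj.2 (Points.ofPt g t)
    rw [Points.ofPt_eq_map_ofScheme g t] at hyi
    obtain ⟨pt, -, hp2⟩ := exists_point_of_isPullback ((hj.1 i).rep.isPullback g) yi _ hyi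
    obtain ⟨w, rfl⟩ := (Points.schemeEquiv _).surjective pt
    change Points.map _ (Points.ofScheme _ w) = _ at hp2
    rw [← Points.ofPt_eq_map_ofScheme, ofPt_yon_map] at hp2
    exact ⟨i, w, (Points.schemeEquiv T).injective hp2⟩
  have sqW : ∀ i, IsPullback ((h i).rep.fst ((hj.1 i).rep.fst g) ≫ p i)
      ((yon S).map ((h i).rep.snd ((hj.1 i).rep.fst g))) f
      ((yon S).map ((hj.1 i).rep.snd g) ≫ g) := fun i => by
    rw [← (hj.1 i).rep.w g]
    exact ((h i).rep.isPullback ((hj.1 i).rep.fst g)).paste_horiz (sq i)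
  obtain ⟨V, fst, snd, hpb, hQ⟩ := exists_rep_pullback_of_cover f g _ _ hopen hcov _ _ _ sqW
    (fun i => (h i).property_snd _)
  exact ⟨V, fst, snd, hpb, hQ⟩

/-- finite ⊓ flat ⊓ locally of finite presentation. -/
def finFlatLfp : MorphismProperty Scheme.{u} :=
  @IsFinite ⊓ (@Flat ⊓ @LocallyOfFinitePresentation)

instance : IsZariskiLocalAtTarget finFlatLfp.{u} := by
  unfold finFlatLfp; infer_instance

theorem finLocFree_eq : (finLocFree : MorphismProperty Scheme.{u}) = finFlatLfp := by
  ext X Y f
  exact Iff.rfl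


end Groth.Agent.Helper15
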