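import Groth.Agent.Lib.Helper15.AlgSpRed
import Groth.Agent.Lib.Helper15.AlgSpGlue

set_option autoImplicit false
universe u
open CategoryTheory CategoryTheory.Limits AlgebraicGeometry MorphismProperty Opposite
open AlgSp

namespace Groth.Agent.Helper15

variable {S : Scheme.{u}}

/-- A section of a sheaf which locally lifts along a monomorphism of sheaves lifts. -/
theorem factors_of_locally_factors {Z Y : Sp S} (m : Z ⟶ Y) [Mono m] {T : Over S}
    (s : (yon S).obj T ⟶ Y) (R : Sieve T) (hR : R ∈ (J S) T)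
    (h : ∀ ⦃T' : Over S⦄ (k : T' ⟶ T), R k →
      ∃ x : (yon S).obj T' ⟶ Z, x ≫ m = (yon S).map k ≫ s) :
    ∃ x : (yon S).obj T ⟶ Z, x ≫ m = s := by
  have hY : Presieve.IsSheaf (J S) Y.obj := (isSheaf_iff_isSheaf_of_type _ _).1 Y.property
  have hsh := (Subfunctor.isSheaf_iff _ hY).1 (isSheaf_range_of_mono m) (op T) (yonEquiv s)
    ((J S).superset_covering (fun T' k hk => by
      obtain ⟨x, hx⟩ := h k hk
      refine ⟨yonEquiv x, ?_⟩
      have h1 := GrothendieckTopology.uliftYonedaEquiv_comp (J S) x m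
      have h2 := GrothendieckTopology.uliftYonedaEquiv_naturality (J S) s k
      rw [hx] at h1
      exact h1.symm.trans h2.symm) hR)
  obtain ⟨z, hz⟩ := hsh
  refine ⟨yonEquiv.symm z, ?_⟩
  apply yonEquiv.injective
  rw [GrothendieckTopology.uliftYonedaEquiv_comp, Equiv.apply_symm_apply]
  exact hz

section Cofan

variable {ι : Type*} {F : ι → Sp S} (c : Cofan F) (hc : IsColimit c)

include hc in
/-- Sections of a coproduct of sheaves locally come from the summands. -/
theorem cofan_exists_local {T : Over S} (s : (yon S).obj T ⟶ c.pt) :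
    ∃ R ∈ (J S) T, ∀ ⦃T' : Over S⦄ (h : T' ⟶ T), R h →
      ∃ (i : ι) (x : (yon S).obj T' ⟶ F i), x ≫ c.inj i = (yon S).map h ≫ s := by
  have hY : Presieve.IsSheaf (J S) c.pt.obj := (isSheaf_iff_isSheaf_of_type _ _).1 c.pt.property
  let G₀ : Subfunctor c.pt.obj := ⨆ i, Subfunctor.range (c.inj i).hom
  let G : Subfunctor c.pt.obj := G₀.sheafify (J S)
  let Gs : Sp S := ⟨G.toFunctor, (isSheaf_iff_isSheaf_of_type _ _).2 (G₀.sheafify_isSheaf hY)⟩
  let ιG : Gs ⟶ c.pt := ⟨G.ι⟩
  have hle : ∀ i, Subfunctor.range (c.inj i).hom ≤ G := fun i =>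
    (le_iSup (fun i => Subfunctor.range (c.inj i).hom) i).trans (G₀.le_sheafify (J S))
  let k : ∀ i, F i ⟶ Gs := fun i => ⟨Subfunctor.lift (c.inj i).hom (hle i)⟩
  have hk : ∀ i, k i ≫ ιG = c.inj i := fun i => by
    apply Sheaf.hom_ext
    exact Subfunctor.lift_ι (c.inj i).hom (hle i)
  let d : c.pt ⟶ Gs := Cofan.IsColimit.desc hc k
  have hd : d ≫ ιG = 𝟙 _ := by
    apply Cofan.IsColimit.hom_ext hc
    intro i
    rw [Cofan.IsColimit.fac_assoc, hk, Category.comp_id]
  have hmem : yonEquiv s ∈ G.obj (op T) := by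
    have h1 : (d ≫ ιG).hom.app (op T) (yonEquiv s) = yonEquiv s := by rw [hd]; rfl
    rw [← h1]
    exact (d.hom.app (op T) (yonEquiv s)).2
  refine ⟨G₀.sieveOfSection (yonEquiv s), hmem, fun T' h hh => ?_⟩
  have hh' : c.pt.obj.map h.op (yonEquiv s) ∈ G₀.obj (op T') := hh
  rw [Subfunctor.iSup_obj] at hh'
  obtain ⟨i, z, hz⟩ := Set.mem_iUnion.1 hh'
  refine ⟨i, yonEquiv.symm z, ?_⟩
  apply yonEquiv.injective
  rw [GrothendieckTopology.uliftYonedaEquiv_comp, Equiv.apply_symm_apply]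
  exact hz.trans (GrothendieckTopology.uliftYonedaEquiv_naturality (J S) s h)

theorem cofan_inj_mono {ι : Type u} {F : ι → Sp S} (c : Cofan F) (hc : IsColimit c) (i : ι) :
    Mono (c.inj i) :=
  MonoCoprod.mono_inj F c hc i

include hc in
/-- Distinct summands of a coproduct of sheaves are disjoint. -/
theorem cofan_disjoint {i j : ι} (hij : i ≠ j) {T : Over S} (x : (yon S).obj T ⟶ F i)
    (y : (yon S).obj T ⟶ F j) (h : x ≫ c.inj i = y ≫ c.inj j) : IsEmpty T.left := by
  classical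
  let one : Over S := Over.mk (𝟙 S)
  have hone : IsTerminal ((yon S).obj one) :=
    IsTerminal.isTerminalObj (yon S) _ Over.mkIdTerminal
  let Ω : Over S := Over.mk (coprod.desc (𝟙 S) (𝟙 S))
  let a : one ⟶ Ω := Over.homMk coprod.inl (coprod.inl_desc _ _)
  let b : one ⟶ Ω := Over.homMk coprod.inr (coprod.inr_desc _ _)
  let d : c.pt ⟶ (yon S).obj Ω := Cofan.IsColimit.desc hc (fun k =>
    if k = i then hone.from _ ≫ (yon S).map a else hone.from _ ≫ (yon S).map b)
  have h1 : c.inj i ≫ d = hone.from _ ≫ (yon S).map a := by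
    rw [Cofan.IsColimit.fac]; simp
  have h2 : c.inj j ≫ d = hone.from _ ≫ (yon S).map b := by
    rw [Cofan.IsColimit.fac]; simp [hij.symm]
  have h3 : x ≫ hone.from _ = y ≫ hone.from _ := hone.hom_ext _ _
  obtain ⟨t, ht⟩ := (yon S).map_surjective (x ≫ hone.from _)
  have h4 : (yon S).map (t ≫ a) = (yon S).map (t ≫ b) := by
    rw [Functor.map_comp, Functor.map_comp, ht]
    calc (x ≫ hone.from _) ≫ (yon S).map a = x ≫ c.inj i ≫ d := by rw [h1, Category.assoc]
      _ = y ≫ c.inj j ≫ d := by rw [← Category.assoc, h, Category.assoc]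
      _ = (x ≫ hone.from _) ≫ (yon S).map b := by rw [h2, ← Category.assoc, ← h3]
  have h5 : t.left ≫ coprod.inl = t.left ≫ coprod.inr :=
    congrArg (fun m => m.left) ((yon S).map_injective h4)
  refine ⟨fun p => ?_⟩
  have h6 := congrArg (fun m : T.left ⟶ _ => m p) h5
  exact inl_ne_inr _ _ _ _ h6

include hc in
/-- The pullback of a summand of a coproduct of sheaves along a map from a scheme is an
open and closed subscheme. -/
theorem cofan_decomposition (hm : ∀ k, Mono (c.inj k)) {T : Over S}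
    (g : (yon S).obj T ⟶ c.pt) :
    ∃ (W : ι → T.left.Opens), (∀ i, IsClosed (W i : Set T.left)) ∧
      (∀ t : T.left, ∃ i, t ∈ W i) ∧ (∀ i j, i ≠ j → ∀ t, t ∈ W i → t ∉ W j) ∧
      ∀ i, ∃ (fst : (yon S).obj (Over.mk ((W i).ι ≫ T.hom)) ⟶ F i),
        IsPullback fst ((yon S).map (Over.homMk (W i).ι rfl : Over.mk ((W i).ι ≫ T.hom) ⟶ T))
          (c.inj i) g := by
  classical
  haveI := hm
  let InS : ι → ∀ ⦃T' : Over S⦄, (T' ⟶ T) → Prop := fun k T' h =>
    ∃ x : (yon S).obj T' ⟶ F k, x ≫ c.inj k = (yon S).map h ≫ g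
  have hres : ∀ k {T' T'' : Over S} (h : T' ⟶ T) (l : T'' ⟶ T'), InS k h → InS k (l ≫ h) := by
    rintro k T' T'' h l ⟨x, hx⟩
    exact ⟨(yon S).map l ≫ x, by rw [Category.assoc, hx, Functor.map_comp, Category.assoc]⟩
  have hpt : ∀ {k k' : ι} (_ : k ≠ k') {T₁ T₂ : Over S} (h₁ : T₁ ⟶ T) (h₂ : T₂ ⟶ T)
      (t₁ : T₁.left) (t₂ : T₂.left), h₁.left t₁ = h₂.left t₂ → InS k h₁ → InS k' h₂ → False := by
    intro k k' hk T₁ T₂ h₁ h₂ t₁ t₂ ht hin₁ hin₂
    obtain ⟨p, -, -⟩ := Scheme.Pullback.exists_preimage_pullback (f := h₁.left) (g := h₂.left)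
      t₁ t₂ ht
    let T₁₂ : Over S := Over.mk (pullback.fst h₁.left h₂.left ≫ T₁.hom)
    let l₁ : T₁₂ ⟶ T₁ := Over.homMk (pullback.fst h₁.left h₂.left) rfl
    let l₂ : T₁₂ ⟶ T₂ := Over.homMk (pullback.snd h₁.left h₂.left) (by
      change pullback.snd h₁.left h₂.left ≫ T₂.hom = pullback.fst h₁.left h₂.left ≫ T₁.hom
      rw [← CategoryTheory.Over.w h₁, ← CategoryTheory.Over.w h₂, ← Category.assoc,
        ← Category.assoc, pullback.condition])
    have hl : l₁ ≫ h₁ = l₂ ≫ h₂ := by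
      apply Over.OverMorphism.ext
      exact pullback.condition
    obtain ⟨x, hx⟩ := hres k h₁ l₁ hin₁
    obtain ⟨y, hy⟩ := hres k' h₂ l₂ hin₂
    rw [← hl] at hy
    haveI : IsEmpty T₁₂.left := cofan_disjoint c hc hk x y (hx.trans hy.symm)
    exact isEmptyElim (α := T₁₂.left) p
  let Wset : ι → Set T.left := fun k => {t | ∃ (T' : Over S) (h : T' ⟶ T) (t' : T'.left),
    Flat h.left ∧ LocallyOfFinitePresentation h.left ∧ h.left t' = t ∧ InS k h}
  have hopen : ∀ k, IsOpen (Wset k) := by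
    intro k
    rw [isOpen_iff_forall_mem_open]
    rintro t ⟨T', h, t', hf, hp, rfl, hin⟩
    haveI := hf
    haveI := hp
    refine ⟨Set.range h.left, ?_, h.left.isOpenMap.isOpen_range, ⟨t', rfl⟩⟩
    rintro _ ⟨t'', rfl⟩
    exact ⟨T', h, t'', hf, hp, rfl, hin⟩
  have hcover : ∀ t : T.left, ∃ k, t ∈ Wset k := by
    intro t
    obtain ⟨R, hR, hRk⟩ := cofan_exists_local c hc g
    obtain ⟨R₀, hR₀, hle⟩ := exists_fppf_presieve_of_mem_J R hR
    obtain ⟨T', i', t', hi', ht'⟩ := exists_mem_of_mem_fppfPrecoverage hR₀ t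
    obtain ⟨k, x, hx⟩ := hRk _ (hle i' hi')
    have hP := hR₀.2 hi'
    exact ⟨k, Over.mk (i' ≫ T.hom), Over.homMk i', t', hP.1, hP.2, ht', x, hx⟩
  have hdisj : ∀ k k', k ≠ k' → ∀ t, t ∈ Wset k → t ∉ Wset k' := by
    rintro k k' hk t ⟨T₁, h₁, t₁, -, -, rfl, hin₁⟩ ⟨T₂, h₂, t₂, -, -, ht₂, hin₂⟩
    exact hpt hk h₁ h₂ t₁ t₂ ht₂.symm hin₁ hin₂
  refine ⟨fun i => ⟨Wset i, hopen i⟩, ?_, hcover, hdisj, ?_⟩
  · intro i
    rw [← isOpen_compl_iff]
    have : ((⟨Wset i, hopen i⟩ : T.left.Opens) : Set T.left)ᶜ = ⋃ k ∈ {k | k ≠ i}, Wset k := by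
      ext t
      simp only [Set.mem_compl_iff, Set.mem_iUnion, Set.mem_setOf_eq, exists_prop]
      constructor
      · intro ht
        obtain ⟨k, hk⟩ := hcover t
        refine ⟨k, ?_, hk⟩
        rintro rfl
        exact ht hk
      · rintro ⟨k, hki, hk⟩ ht
        exact hdisj k i hki t hk ht
    rw [this]
    exact isOpen_biUnion fun k _ => hopen k
  intro i
  let W : T.left.Opens := ⟨Wset i, hopen i⟩
  let TW : Over S := Over.mk (W.ι ≫ T.hom)
  let jW : TW ⟶ T := Over.homMk W.ι rfl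
  -- the section restricted to `W` lies in the summand
  have hW : InS i jW := by
    have hch : ∀ w : W, ∃ (T' : Over S) (h : T' ⟶ T) (t' : T'.left),
        Flat h.left ∧ LocallyOfFinitePresentation h.left ∧ h.left t' = w.1 ∧ InS i h := fun w => w.2
    choose T' h t' hf hp ht hin using hch
    have hrange : ∀ w, Set.range (h w).left ⊆ Set.range W.ι := by
      rintro w _ ⟨t'', rfl⟩
      rw [Scheme.Opens.range_ι]
      exact ⟨T' w, h w, t'', hf w, hp w, rfl, hin w⟩
    let l : ∀ w, (T' w).left ⟶ W.toScheme := fun w => IsOpenImmersion.lift W.ι (h w).left (hrange w)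
    have hl : ∀ w, l w ≫ W.ι = (h w).left := fun w => IsOpenImmersion.lift_fac _ _ _
    let l' : ∀ w, T' w ⟶ TW := fun w => Over.homMk (l w) (by
      change l w ≫ W.ι ≫ T.hom = (T' w).hom
      rw [← Category.assoc, hl, CategoryTheory.Over.w])
    have hl' : ∀ w, l' w ≫ jW = h w := fun w => by
      apply Over.OverMorphism.ext
      exact hl w
    have hcov : Sieve.ofArrows T' l' ∈ (J S) TW := by
      apply ofArrows_mem_J
      · intro w
        have h1 : Flat (l w ≫ W.ι) := by rw [hl]; exact hf w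
        exact MorphismProperty.of_postcomp (W := @Flat) (W' := @IsOpenImmersion) (l w) W.ι
          inferInstance h1
      · intro w
        have h1 : LocallyOfFinitePresentation (l w ≫ W.ι) := by rw [hl]; exact hp w
        exact MorphismProperty.of_postcomp (W := @LocallyOfFinitePresentation)
          (W' := @IsOpenImmersion) (l w) W.ι inferInstance h1
      · intro w
        change W at w
        refine ⟨w, t' w, ?_⟩
        apply W.ι.isOpenEmbedding.injective
        have h1 : W.ι ((l w) (t' w)) = (h w).left (t' w) := by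
          rw [← Scheme.Hom.comp_apply, hl]
        change W.ι ((l w) (t' w)) = W.ι w
        rw [h1, ht]
        rfl
    obtain ⟨x, hx⟩ := factors_of_locally_factors (c.inj i) ((yon S).map jW ≫ g) _ hcov (by
      rintro T'' k ⟨_, l₀, _, ⟨w⟩, rfl⟩
      obtain ⟨x, hx⟩ := hres i (h w) l₀ (hin w)
      refine ⟨x, ?_⟩
      rw [hx, ← hl' w, ← Category.assoc l₀, Functor.map_comp (yon S), Category.assoc])
    exact ⟨x, hx⟩
  obtain ⟨fst, hfst⟩ := hW
  haveI : Mono jW := by
    haveI : Mono jW.left := (inferInstance : Mono W.ι)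
    exact Over.mono_of_mono_left jW
  refine ⟨fst, isPullback_of_mono_of_yon_lift (c.inj i) g jW fst hfst ?_⟩
  intro T'' cc z hz
  have hin : InS i cc := ⟨z, hz⟩
  have hrange : Set.range cc.left ⊆ Set.range W.ι := by
    rintro _ ⟨t'', rfl⟩
    rw [Scheme.Opens.range_ι]
    obtain ⟨k, hk⟩ := hcover (cc.left t'')
    by_cases hki : k = i
    · rw [hki] at hk; exact hk
    · exfalso
      obtain ⟨T₂, h₂, t₂, -, -, ht₂, hin₂⟩ := hk
      exact hpt hki h₂ cc t₂ t'' ht₂ hin₂ hin
  refine ⟨Over.homMk (IsOpenImmersion.lift W.ι cc.left hrange) ?_, ?_⟩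
  · change IsOpenImmersion.lift W.ι cc.left hrange ≫ W.ι ≫ T.hom = T''.hom
    rw [← Category.assoc, IsOpenImmersion.lift_fac, CategoryTheory.Over.w]
  · apply Over.OverMorphism.ext
    exact IsOpenImmersion.lift_fac _ _ _

include hc in
/-- The summands of a coproduct of sheaves are open and closed subsheaves. -/
theorem repWith_cofan_inj (hm : ∀ k, Mono (c.inj k)) (i : ι) :
    RepWith (@IsOpenImmersion ⊓ @IsClosedImmersion) (c.inj i) := by
  haveI : MorphismProperty.RespectsIso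
      (@IsOpenImmersion ⊓ @IsClosedImmersion : MorphismProperty Scheme.{u}) := inferInstance
  haveI : (MorphismProperty.inverseImage
      (@IsOpenImmersion ⊓ @IsClosedImmersion : MorphismProperty Scheme.{u})
      (Over.forget S)).RespectsIso := RespectsIso.inverseImage _ _
  apply MorphismProperty.relative.of_exists
  intro T g
  obtain ⟨W, hW, -, -, hsq⟩ := cofan_decomposition c hc hm g
  obtain ⟨fst, sq⟩ := hsq i
  refine ⟨_, fst, _, sq, ⟨(inferInstance : IsOpenImmersion (W i).ι), ?_⟩⟩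
  exact IsClosedImmersion.of_isPreimmersion (W i).ι (by rw [Scheme.Opens.range_ι]; exact hW i)

end Cofan

/-- The coprojections of a binary coproduct of sheaves are open and closed subsheaves. -/
theorem repWith_binaryCofan_inl {F G : Sp S} (c : BinaryCofan F G) (hc : IsColimit c) :
    RepWith (@IsOpenImmersion ⊓ @IsClosedImmersion) c.inl := by
  let c' : Cofan (fun j : WalkingPair => (pair F G).obj ⟨j⟩) := c
  have hc' : IsColimit c' := hc
  have hm : ∀ k, Mono (c'.inj k) := by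
    rintro (_ | _)
    · exact FinitaryExtensive.mono_inl_of_isColimit hc
    · exact FinitaryExtensive.mono_inr_of_isColimit hc
  exact repWith_cofan_inj c' hc' hm WalkingPair.left

end Groth.Agent.Helper15
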