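import Groth.Agent.Lib.Helper15.SchImageFlat
import Groth.Agent.Lib.Helper15.AlgSpCoprod
import Mathlib.AlgebraicGeometry.Morphisms.FlatDescent

/-!
# Effective descent of closed immersions for sheaves on the big fppf site

A monomorphism of sheaves whose base change to an fppf chart is representable by closed immersions is
itself representable by closed immersions (`repWith_isClosedImmersion_of_chart`).
-/

set_option autoImplicit false
set_option linter.style.haveILetI false
universe u
open CategoryTheory CategoryTheory.Limits AlgebraicGeometry MorphismProperty Opposite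
open AlgSp

namespace Groth.Agent.Helper15

variable {S : Scheme.{u}}


/-- `h_c` is an epimorphism of sheaves for an fppf cover `c`. -/
theorem isLocallySurjective_yon_map {T' T : Over S} (c : T' ⟶ T) (hflat : Flat c.left)
    (hlfp : LocallyOfFinitePresentation c.left) (hsurj : Surjective c.left) :
    Sheaf.IsLocallySurjective ((yon S).map c) :=
  isLocallySurjective_of_repWith _ ((repWith_yon_map_iff _ c).2 hflat)
    ((repWith_yon_map_iff _ c).2 hlfp) ((repWith_yon_map_iff _ c).2 hsurj)

/-- Two subsheaves with the same pullback along an epimorphism are isomorphic. -/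
theorem exists_iso_of_isPullback_of_epi {G₁ G₂ H H' Q : Sp S} (m₁ : G₁ ⟶ H) [Mono m₁]
    (m₂ : G₂ ⟶ H) [Mono m₂] (b : H' ⟶ H) (n : Q ⟶ H') (f₁ : Q ⟶ G₁) (f₂ : Q ⟶ G₂)
    [Epi f₁] [Epi f₂] (h₁ : f₁ ≫ m₁ = n ≫ b) (h₂ : f₂ ≫ m₂ = n ≫ b) :
    ∃ e : G₁ ≅ G₂, e.hom ≫ m₂ = m₁ := by
  obtain ⟨k₁, hk₁⟩ := exists_lift_of_epi_of_mono f₁ m₂ m₁ f₂ (by rw [h₂, h₁])
  obtain ⟨k₂, hk₂⟩ := exists_lift_of_epi_of_mono f₂ m₁ m₂ f₁ (by rw [h₂, h₁])
  refine ⟨⟨k₁, k₂, ?_, ?_⟩, hk₁⟩
  · rw [← cancel_mono m₁, Category.assoc, hk₂, hk₁, Category.id_comp]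
  · rw [← cancel_mono m₂, Category.assoc, hk₁, hk₂, Category.id_comp]

/-- Effective descent of closed subschemes along a quasi-compact fppf cover, sheaf form. -/
theorem exists_rep_closedImmersion_of_qc_cover {G : Sp S} {T T'' W : Over S}
    (m : G ⟶ (yon S).obj T) [Mono m] (c : T'' ⟶ T) (hflat : Flat c.left)
    (hlfp : LocallyOfFinitePresentation c.left) (hsurj : Surjective c.left)
    (hqc : QuasiCompact c.left) (i : W ⟶ T'') (hi : IsClosedImmersion i.left)
    (fst : (yon S).obj W ⟶ G) (sq : IsPullback fst ((yon S).map i) m ((yon S).map c)) :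
    ∃ (Z : Over S) (j : Z ⟶ T) (e : (yon S).obj Z ≅ G),
      IsClosedImmersion j.left ∧ e.hom ≫ m = (yon S).map j := by
  -- the invariance of `W`
  have sqP : IsPullback (pullback.fst (i ≫ c) c) (pullback.snd (i ≫ c) c) (i ≫ c) c :=
    IsPullback.of_hasPullback _ _
  set p₁ := pullback.fst (i ≫ c) c
  set p₂ := pullback.snd (i ≫ c) c
  have hw : ((yon S).map p₁ ≫ fst) ≫ m = (yon S).map p₂ ≫ (yon S).map c := by
    rw [Category.assoc, sq.w, ← Functor.map_comp, ← Functor.map_comp, ← Functor.map_comp, sqP.w]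
  obtain ⟨l, hl⟩ := (yon S).map_surjective (sq.lift _ _ hw)
  have hli : l ≫ i = p₂ := by
    apply (yon S).map_injective
    rw [Functor.map_comp, hl]
    exact sq.lift_snd _ _ hw
  have sqL := sqP.map (Over.forget S)
  haveI := hflat
  haveI := hqc
  haveI := hi
  have hcore := isPullback_toImage_of_flat c.left i.left sqL l.left (by
    have := congrArg (fun k => k.left) hli
    exact this)
  -- the closed subscheme `Z` of `T`
  let f₀ : W.left ⟶ T.left := i.left ≫ c.left
  let Z : Over S := Over.mk (f₀.imageι ≫ T.hom)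
  let j : Z ⟶ T := Over.homMk f₀.imageι rfl
  let g : W ⟶ Z := Over.homMk f₀.toImage (by
    change f₀.toImage ≫ f₀.imageι ≫ T.hom = W.hom
    rw [← Category.assoc, f₀.toImage_imageι, Category.assoc, Over.w c, Over.w i])
  have hgj : g ≫ j = i ≫ c := by
    ext1
    exact f₀.toImage_imageι
  have hj : IsClosedImmersion j.left := (inferInstance : IsClosedImmersion f₀.imageι)
  haveI : Mono ((yon S).map j) :=
    mono_of_repWith isClosedImmersion_le_mono _ ((repWith_yon_map_iff _ j).2 hj)
  have hg_flat : Flat g.left := MorphismProperty.of_isPullback (P := @Flat) hcore hflat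
  have hg_lfp : LocallyOfFinitePresentation g.left :=
    MorphismProperty.of_isPullback (P := @LocallyOfFinitePresentation) hcore hlfp
  have hg_surj : Surjective g.left :=
    MorphismProperty.of_isPullback (P := @Surjective) hcore hsurj
  haveI := isLocallySurjective_yon_map g hg_flat hg_lfp hg_surj
  haveI : Epi ((yon S).map g) := Sheaf.epi_of_isLocallySurjective _
  -- `fst` is an epimorphism
  have hc_flat : RepWith @Flat ((yon S).map c) := (repWith_yon_map_iff _ c).2 hflat
  have hc_lfp : RepWith @LocallyOfFinitePresentation ((yon S).map c) :=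
    (repWith_yon_map_iff _ c).2 hlfp
  have hc_surj : RepWith @Surjective ((yon S).map c) := (repWith_yon_map_iff _ c).2 hsurj
  haveI := isLocallySurjective_of_repWith fst ((RepWith @Flat).of_isPullback sq.flip hc_flat)
    ((RepWith @LocallyOfFinitePresentation).of_isPullback sq.flip hc_lfp)
    ((RepWith @Surjective).of_isPullback sq.flip hc_surj)
  haveI : Epi fst := Sheaf.epi_of_isLocallySurjective _
  obtain ⟨e, he⟩ := exists_iso_of_isPullback_of_epi ((yon S).map j) m ((yon S).map c)
    ((yon S).map i) ((yon S).map g) fst (by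
      rw [← Functor.map_comp, ← Functor.map_comp, hgj]) sq.w
  exact ⟨Z, j, e, hj, he⟩



/-- An fppf cover of an affine scheme can be refined by an affine fppf cover. -/
theorem exists_affine_refinement {T T' : Over S} [IsAffine T.left] (c : T' ⟶ T)
    (hflat : Flat c.left) (hlfp : LocallyOfFinitePresentation c.left)
    (hsurj : Surjective c.left) :
    ∃ (T'' : Over S) (d : T'' ⟶ T'), IsAffine T''.left ∧ Flat (d ≫ c).left ∧
      LocallyOfFinitePresentation (d ≫ c).left ∧ Surjective (d ≫ c).left := by
  haveI := hflat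
  haveI := hlfp
  haveI := hsurj
  obtain ⟨V, hV, e⟩ := c.left.isOpenMap.exists_opens_image_eq_of_prespectralSpace
    c.left.continuous (by simp) isOpen_univ isCompact_univ
  let V' : T'.left.Opens := V
  haveI : CompactSpace V' := isCompact_iff_compactSpace.mp hV
  obtain ⟨Y, q, hqs, hqe, hY⟩ :=
    Scheme.exists_hom_isAffine_of_isZariskiLocalAtSource @Etale (V' : Scheme.{u})
  haveI := hqs
  haveI : Etale q := hqe
  let d₀ : Y ⟶ T'.left := q ≫ V'.ι
  refine ⟨Over.mk (d₀ ≫ T'.hom), Over.homMk d₀ rfl, hY, ?_, ?_, ?_⟩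
  · change Flat ((q ≫ V'.ι) ≫ c.left)
    infer_instance
  · change LocallyOfFinitePresentation ((q ≫ V'.ι) ≫ c.left)
    infer_instance
  · change Surjective (d₀ ≫ c.left)
    refine ⟨fun t => ?_⟩
    obtain ⟨v, hv, rfl⟩ := e.ge (Set.mem_univ t)
    obtain ⟨y, hy⟩ := q.surjective ⟨v, hv⟩
    refine ⟨y, ?_⟩
    change c.left (V'.ι (q y)) = _
    rw [hy]
    rfl


/-- **Effective descent of closed immersions** along an fppf chart: a monomorphism of sheaves
whose base change to an fppf chart is representable by closed immersions is representable by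
closed immersions. -/
theorem repWith_isClosedImmersion_of_chart {F H : Sp S} (f : F ⟶ H) [Mono f] {V : Over S}
    (p : (yon S).obj V ⟶ H) (hp₁ : RepWith @Flat p)
    (hp₂ : RepWith @LocallyOfFinitePresentation p) (hp₃ : RepWith @Surjective p) {F' : Sp S}
    (fst : F' ⟶ F) (snd : F' ⟶ (yon S).obj V) (sq : IsPullback fst snd f p)
    (h : RepWith @IsClosedImmersion snd) : RepWith @IsClosedImmersion f := by
  apply repWith_of_affRep
  intro T hT g
  haveI := hT
  have pb : IsPullback (pullback.fst f g) (pullback.snd f g) f g := IsPullback.of_hasPullback f g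
  haveI : Mono (pullback.snd f g) := inferInstance
  have hrep := hp₁.rep
  have sqT : IsPullback (hrep.fst g) ((yon S).map (hrep.snd g)) p g := hrep.isPullback g
  obtain ⟨T'', d, hT'', hd1, hd2, hd3⟩ := exists_affine_refinement (hrep.snd g)
    (hp₁.property_snd g) (hp₂.property_snd g) (hp₃.property_snd g)
  haveI := hT''
  set c := hrep.snd g
  set v := hrep.fst g
  let t : (yon S).obj T'' ⟶ (yon S).obj V := (yon S).map d ≫ v
  have hrepS := h.rep
  have sqW : IsPullback (hrepS.fst t) ((yon S).map (hrepS.snd t)) snd t := hrepS.isPullback t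
  have hi : IsClosedImmersion (hrepS.snd t).left := h.property_snd t
  set i := hrepS.snd t
  have big : IsPullback (hrepS.fst t ≫ fst) ((yon S).map i) f (t ≫ p) := sqW.paste_horiz sq
  have ht : t ≫ p = (yon S).map (d ≫ c) ≫ g := by
    simp only [t, Category.assoc, sqT.w, Functor.map_comp]
  have hw : (hrepS.fst t ≫ fst) ≫ f = ((yon S).map i ≫ (yon S).map (d ≫ c)) ≫ g := by
    rw [Category.assoc _ _ g, ← ht]
    exact big.w
  have sqW' : IsPullback (pb.lift _ _ hw) ((yon S).map i) (pullback.snd f g)
      ((yon S).map (d ≫ c)) := by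
    refine IsPullback.of_right ?_ (pb.lift_snd _ _ _) pb
    rw [pb.lift_fst, ← ht]
    exact big
  have hqc : QuasiCompact (d ≫ c).left := inferInstance
  obtain ⟨Z, j, e, hj, he⟩ := exists_rep_closedImmersion_of_qc_cover (pullback.snd f g) (d ≫ c)
    hd1 hd2 hd3 hqc i hi _ sqW'
  refine ⟨Z, j, e.hom ≫ pullback.fst f g, ?_, hj⟩
  rw [← he]
  exact IsPullback.of_iso pb e.symm (Iso.refl _) (Iso.refl _) (Iso.refl _)
    (by simp) (by simp) (by simp) (by simp)

end Groth.Agent.Helper15
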