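import Groth.Agent.Lib.Helper15.GpdSp
import Mathlib.CategoryTheory.Sites.LocallyBijective

/-!
# Effectivity of pre-equivalence relations in the topos of fppf sheaves
-/

set_option autoImplicit false
set_option linter.style.haveILetI false
universe u
open CategoryTheory CategoryTheory.Limits AlgebraicGeometry Opposite
open AlgSp

namespace Groth.Agent.Helper15

variable {S : Scheme.{u}}

/-- Two sections of a sheaf which agree on a covering sieve agree. -/
theorem yon_hom_ext_of_cover {F : Sp S} {T : Over S} (a b : (yon S).obj T ⟶ F) (Rv : Sieve T)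
    (hRv : Rv ∈ (J S) T)
    (h : ∀ ⦃T' : Over S⦄ (k : T' ⟶ T), Rv k → (yon S).map k ≫ a = (yon S).map k ≫ b) : a = b := by
  have hY : Presieve.IsSheaf (J S) F.obj := (isSheaf_iff_isSheaf_of_type _ _).1 F.property
  apply yonEquiv.injective
  refine (hY Rv hRv).isSeparatedFor.ext fun T' k hk => ?_
  have h1 := GrothendieckTopology.uliftYonedaEquiv_naturality (J S) a k
  have h2 := GrothendieckTopology.uliftYonedaEquiv_naturality (J S) b k
  exact h1.trans ((congrArg yonEquiv (h k hk)).trans h2.symm)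

/-- Sections of the target of an epimorphism of sheaves lift locally. -/
theorem exists_local_lift_of_epi' {H' G : Sp S} (b : H' ⟶ G) [Epi b] {T : Over S}
    (g : (yon S).obj T ⟶ G) :
    ∃ R ∈ (J S) T, ∀ ⦃T' : Over S⦄ (k : T' ⟶ T), R k →
      ∃ τ : (yon S).obj T' ⟶ H', τ ≫ b = (yon S).map k ≫ g := by
  haveI : Sheaf.IsLocallySurjective b := (Sheaf.isLocallySurjective_iff_epi b).2 inferInstance
  refine ⟨_, Presheaf.imageSieve_mem (J S) b.hom (yonEquiv g), fun T' k hk => ?_⟩
  obtain ⟨t, ht⟩ := hk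
  refine ⟨yonEquiv.symm t, ?_⟩
  apply yonEquiv.injective
  rw [GrothendieckTopology.uliftYonedaEquiv_comp, Equiv.apply_symm_apply]
  rw [← GrothendieckTopology.uliftYonedaEquiv_naturality]
  exact ht

section Eff

variable {R U : Sp S} (s t : R ⟶ U)

/-- The relation on sections of `U` defined by `R`. -/
def secRel (T : (Over S)ᵒᵖ) (a b : U.obj.obj T) : Prop :=
  ∃ r : R.obj.obj T, t.hom.app T r = a ∧ s.hom.app T r = b

theorem secRel_map {T T' : (Over S)ᵒᵖ} (f : T ⟶ T') {a b : U.obj.obj T} (h : secRel s t T a b) :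
    secRel s t T' (U.obj.map f a) (U.obj.map f b) := by
  obtain ⟨r, rfl, rfl⟩ := h
  exact ⟨R.obj.map f r, NatTrans.naturality_apply t.hom f r, NatTrans.naturality_apply s.hom f r⟩

/-- The presheaf quotient. -/
def quotPsh : (Over S)ᵒᵖ ⥤ Type (u + 1) where
  obj T := Quot (secRel s t T)
  map {T T'} f := TypeCat.ofHom (Quot.map (U.obj.map f) (fun _ _ h => secRel_map s t f h))
  map_id T := by
    ext x
    induction x using Quot.ind with
    | mk a => simp [Quot.map]
  map_comp f g := by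
    ext x
    induction x using Quot.ind with
    | mk a => simp [Quot.map]

/-- The projection to the presheaf quotient. -/
def toQuotPsh : U.obj ⟶ quotPsh s t where
  app T := TypeCat.ofHom (fun a => Quot.mk _ a)
  naturality _ _ f := by ext a; rfl

/-- The sheaf quotient (a model of it). -/
noncomputable def quotShf : Sp S := (presheafToSheaf (J S) (Type (u + 1))).obj (quotPsh s t)

/-- The projection to the sheaf quotient. -/
noncomputable def toQuotShf : U ⟶ quotShf s t :=
  ⟨toQuotPsh s t ≫ toSheafify (J S) (quotPsh s t)⟩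

theorem toQuotShf_condition : s ≫ toQuotShf s t = t ≫ toQuotShf s t := by
  apply Sheaf.hom_ext
  change s.hom ≫ toQuotPsh s t ≫ toSheafify (J S) (quotPsh s t) =
    t.hom ≫ toQuotPsh s t ≫ toSheafify (J S) (quotPsh s t)
  rw [← Category.assoc, ← Category.assoc]
  congr 1
  ext T r
  exact (Quot.sound ⟨r, rfl, rfl⟩ : Quot.mk (secRel s t T) (t.hom.app T r) =
    Quot.mk (secRel s t T) (s.hom.app T r)).symm

/-- **Effectivity of pre-equivalence relations**: two sections of `U` with the same image in the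
quotient sheaf `U/R` are locally related by `R`. -/
theorem exists_local_rel_of_quotSpπ_eq (hpre : IsPreEqvRelSp s t) {T : Over S}
    (a b : (yon S).obj T ⟶ U) (h : a ≫ quotSpπ s t = b ≫ quotSpπ s t) :
    ∃ Rv ∈ (J S) T, ∀ ⦃T' : Over S⦄ (k : T' ⟶ T), Rv k →
      ∃ r : (yon S).obj T' ⟶ R, r ≫ t = (yon S).map k ≫ a ∧ r ≫ s = (yon S).map k ≫ b := by
  have h' : a ≫ toQuotShf s t = b ≫ toQuotShf s t := by
    rw [← quotSpπ_desc s t (toQuotShf s t) (toQuotShf_condition s t), ← Category.assoc,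
      ← Category.assoc, h]
  have h1 := congrArg yonEquiv h'
  rw [GrothendieckTopology.uliftYonedaEquiv_comp, GrothendieckTopology.uliftYonedaEquiv_comp] at h1
  have h2 : (toSheafify (J S) (quotPsh s t)).app (op T) (Quot.mk _ (yonEquiv a)) =
      (toSheafify (J S) (quotPsh s t)).app (op T) (Quot.mk _ (yonEquiv b)) := h1
  have h3 := Presheaf.equalizerSieve_mem (J S) (toSheafify (J S) (quotPsh s t))
    (X := op T) (Quot.mk _ (yonEquiv a)) (Quot.mk _ (yonEquiv b)) h2
  refine ⟨_, h3, fun T' k hk => ?_⟩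
  have hk' : Quot.mk (secRel s t (op T')) (U.obj.map k.op (yonEquiv a)) =
      Quot.mk (secRel s t (op T')) (U.obj.map k.op (yonEquiv b)) := hk
  have heq : _root_.Equivalence (secRel s t (op T')) := by
    have he := hpre T'
    have hiff : ∀ x y : U.obj.obj (op T'), secRel s t (op T') x y ↔
        ∃ r : (yon S).obj T' ⟶ R, r ≫ t = yonEquiv.symm x ∧ r ≫ s = yonEquiv.symm y := by
      intro x y
      constructor
      · rintro ⟨ρ, rfl, rfl⟩
        refine ⟨yonEquiv.symm ρ, ?_, ?_⟩
        · apply yonEquiv.injective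
          rw [GrothendieckTopology.uliftYonedaEquiv_comp, Equiv.apply_symm_apply,
            Equiv.apply_symm_apply]
        · apply yonEquiv.injective
          rw [GrothendieckTopology.uliftYonedaEquiv_comp, Equiv.apply_symm_apply,
            Equiv.apply_symm_apply]
      · rintro ⟨r, hr1, hr2⟩
        refine ⟨yonEquiv r, ?_, ?_⟩
        · rw [← GrothendieckTopology.uliftYonedaEquiv_comp, hr1, Equiv.apply_symm_apply]
        · rw [← GrothendieckTopology.uliftYonedaEquiv_comp, hr2, Equiv.apply_symm_apply]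
    refine ⟨fun x => (hiff x x).2 (he.refl _), fun {x y} hxy => (hiff y x).2
      (he.symm ((hiff x y).1 hxy)), fun {x y z} hxy hyz => (hiff x z).2
      (he.trans ((hiff x y).1 hxy) ((hiff y z).1 hyz))⟩
  obtain ⟨ρ, hρ1, hρ2⟩ := heq.eqvGen_iff.1 (Quot.eqvGen_exact hk')
  refine ⟨yonEquiv.symm ρ, ?_, ?_⟩
  · apply yonEquiv.injective
    rw [GrothendieckTopology.uliftYonedaEquiv_comp, Equiv.apply_symm_apply, hρ1]
    exact GrothendieckTopology.uliftYonedaEquiv_naturality (J S) a k
  · apply yonEquiv.injective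
    rw [GrothendieckTopology.uliftYonedaEquiv_comp, Equiv.apply_symm_apply, hρ2]
    exact GrothendieckTopology.uliftYonedaEquiv_naturality (J S) b k

end Eff

/-- Injectivity of the map of quotient sheaves induced by a map of pre-relations which reflects
relatedness. -/
theorem mono_quotSp_map {R U R' U' : Sp S} (s t : R ⟶ U) (hpre : IsPreEqvRelSp s t)
    (s' t' : R' ⟶ U') (g : U' ⟶ U) (ψ : quotSp s' t' ⟶ quotSp s t)
    (hψ : quotSpπ s' t' ≫ ψ = g ≫ quotSpπ s t)
    (hlift : ∀ (T : Over S) (a b : (yon S).obj T ⟶ U') (r : (yon S).obj T ⟶ R),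
      r ≫ t = a ≫ g → r ≫ s = b ≫ g → ∃ r' : (yon S).obj T ⟶ R', r' ≫ t' = a ∧ r' ≫ s' = b) :
    Mono ψ := by
  haveI : Epi (quotSpπ s' t') := coequalizer.π_epi
  apply mono_of_yon
  intro T x y hxy
  obtain ⟨Rx, hRx, hx⟩ := exists_local_lift_of_epi' (quotSpπ s' t') x
  obtain ⟨Ry, hRy, hy⟩ := exists_local_lift_of_epi' (quotSpπ s' t') y
  refine yon_hom_ext_of_cover x y (Rx ⊓ Ry) ((J S).intersection_covering hRx hRy) ?_
  rintro T' k ⟨hkx, hky⟩
  obtain ⟨a, ha⟩ := hx k hkx
  obtain ⟨b, hb⟩ := hy k hky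
  have hab : (a ≫ g) ≫ quotSpπ s t = (b ≫ g) ≫ quotSpπ s t := by
    rw [Category.assoc, Category.assoc, ← hψ, ← Category.assoc, ← Category.assoc, ha, hb,
      Category.assoc, Category.assoc, hxy]
  obtain ⟨Rv, hRv, hrel⟩ := exists_local_rel_of_quotSpπ_eq s t hpre (a ≫ g) (b ≫ g) hab
  rw [← ha, ← hb]
  refine yon_hom_ext_of_cover _ _ Rv hRv ?_
  intro T'' l hl
  obtain ⟨r, hr1, hr2⟩ := hrel l hl
  obtain ⟨r', hr'1, hr'2⟩ := hlift T'' ((yon S).map l ≫ a) ((yon S).map l ≫ b) r
    (by rw [hr1, Category.assoc]) (by rw [hr2, Category.assoc])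
  rw [← Category.assoc, ← Category.assoc, ← hr'1, ← hr'2, Category.assoc, Category.assoc,
    quotSp_condition]

/-- The source and target of a groupoid form a pre-equivalence relation. -/
theorem isPreEqvRelSp_of_groupoid {B : Sp S} (G : GroupoidSp B) : IsPreEqvRelSp G.s G.t := by
  intro T
  refine ⟨fun a => ⟨a ≫ G.e, ?_, ?_⟩, ?_, ?_⟩
  · rw [Category.assoc, G.e_t, Category.comp_id]
  · rw [Category.assoc, G.e_s, Category.comp_id]
  · rintro a b ⟨r, rfl, rfl⟩
    exact ⟨r ≫ G.i, by rw [Category.assoc, G.i_t], by rw [Category.assoc, G.i_s]⟩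
  · rintro a b c ⟨r₁, rfl, hr₁⟩ ⟨r₂, hr₂, rfl⟩
    exact ⟨gcomp G r₁ r₂ (hr₁.trans hr₂.symm), gcomp_t G _ _ _, gcomp_s G _ _ _⟩

end Groth.Agent.Helper15
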