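import Groth.Agent.Lib.Helper15.AlgSpCD7

/-!
# Scheme theoretic images of quasi-compact morphisms of sheaves, computed on a chart with a cover

Generalisation of `AlgSpCD4` to morphisms which are not representable: the pullback of `f` to a
chart `h_U` is only a sheaf `YU`, covered by a scheme `W` quasi-compact over `U`.
-/

set_option autoImplicit false
set_option linter.style.haveILetI false
universe u
open CategoryTheory CategoryTheory.Limits AlgebraicGeometry MorphismProperty Opposite
open AlgSp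

namespace Groth.Agent.Helper15

variable {S : Scheme.{u}}

/-- Epimorphisms of sheaves are stable under base change. -/
theorem epi_of_isPullback_of_epi {A B C P : Sp S} {fst : P ⟶ A} {snd : P ⟶ B} {f : A ⟶ C}
    {g : B ⟶ C} (sq : IsPullback fst snd f g) [Epi g] : Epi fst := by
  haveI : Sheaf.IsLocallySurjective fst := by
    constructor
    intro T s
    obtain ⟨x, rfl⟩ := (yonEquiv (T := T) (F := A)).surjective s
    obtain ⟨R, hR, hlift⟩ := exists_local_lift_of_epi g (x ≫ f)
    refine (J S).superset_covering ?_ hR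
    intro T' k hk
    obtain ⟨τ, hτ⟩ := hlift k hk
    have hw : ((yon S).map k ≫ x) ≫ f = τ ≫ g := by rw [Category.assoc, hτ]
    refine ⟨yonEquiv (sq.lift _ _ hw), ?_⟩
    have h1 := GrothendieckTopology.uliftYonedaEquiv_comp (J S) (sq.lift _ _ hw) fst
    have h2 := GrothendieckTopology.uliftYonedaEquiv_naturality (J S) x k
    rw [sq.lift_fst] at h1
    exact h1.symm.trans h2.symm
  exact Sheaf.epi_of_isLocallySurjective _

/-- Two schemes over `R` covering the same sheaf over `h_R` have the same kernel (scheme theoretic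
image) in `R`. -/
theorem ker_le_ker_of_common_epi {Q₁ Q₂ R : Over S} (q₁ : Q₁ ⟶ R) (q₂ : Q₂ ⟶ R) {F : Sp S}
    (e₁ : (yon S).obj Q₁ ⟶ F) (e₂ : (yon S).obj Q₂ ⟶ F) (r : F ⟶ (yon S).obj R) [Epi e₂]
    (h₁ : e₁ ≫ r = (yon S).map q₁) (h₂ : e₂ ≫ r = (yon S).map q₂) :
    q₂.left.ker ≤ q₁.left.ker := by
  have hcomm : (yon S).map (toImageOver q₂) ≫ (yon S).map (imageOverι q₂) = e₂ ≫ r := by
    rw [← Functor.map_comp, toImageOver_ι, h₂]
  obtain ⟨l, hl⟩ := exists_lift_of_epi_of_mono e₂ ((yon S).map (imageOverι q₂)) r _ hcomm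
  obtain ⟨l₀, hl₀⟩ := (yon S).map_surjective (e₁ ≫ l)
  have h3 : l₀ ≫ imageOverι q₂ = q₁ := (yon S).map_injective (by
    rw [Functor.map_comp, hl₀, Category.assoc, hl, h₁])
  have h3' : l₀.left ≫ q₂.left.imageι = q₁.left := congrArg (fun k => k.left) h3
  rw [← h3', ← ker_imageι q₂.left]
  exact Scheme.Hom.le_ker_comp _ _

theorem ker_eq_of_common_epi {Q₁ Q₂ R : Over S} (q₁ : Q₁ ⟶ R) (q₂ : Q₂ ⟶ R) {F : Sp S}
    (e₁ : (yon S).obj Q₁ ⟶ F) (e₂ : (yon S).obj Q₂ ⟶ F) (r : F ⟶ (yon S).obj R) [Epi e₁] [Epi e₂]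
    (h₁ : e₁ ≫ r = (yon S).map q₁) (h₂ : e₂ ≫ r = (yon S).map q₂) :
    q₁.left.ker = q₂.left.ker :=
  le_antisymm (ker_le_ker_of_common_epi q₂ q₁ e₂ e₁ r h₂ h₁)
    (ker_le_ker_of_common_epi q₁ q₂ e₁ e₂ r h₁ h₂)

/-- Base change of a cover of the chart pullback of `f` along a map of schemes `k : R' ⟶ U`. -/
theorem exists_epi_cover_base_change {Y X : Sp S} (f : Y ⟶ X) {U W : Over S}
    (p : (yon S).obj U ⟶ X) {YU : Sp S} (fstU : YU ⟶ Y) (sndU : YU ⟶ (yon S).obj U)
    (sqU : IsPullback fstU sndU f p) (w : (yon S).obj W ⟶ YU) [Epi w] (g : W ⟶ U)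
    (hg : (yon S).map g = w ≫ sndU) {R' : Over S} (k : R' ⟶ U) (x : (yon S).obj R' ⟶ X)
    (hx : x = (yon S).map k ≫ p) :
    ∃ e : (yon S).obj (pullback g k) ⟶ pullback f x, Epi e ∧
      e ≫ pullback.snd f x = (yon S).map (pullback.snd g k) ∧
      e ≫ pullback.fst f x = (yon S).map (pullback.fst g k) ≫ w ≫ fstU := by
  subst hx
  have sqF : IsPullback (pullback.fst f ((yon S).map k ≫ p)) (pullback.snd f ((yon S).map k ≫ p))
      f ((yon S).map k ≫ p) := IsPullback.of_hasPullback _ _
  have hwm : pullback.fst f ((yon S).map k ≫ p) ≫ f =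
      (pullback.snd f ((yon S).map k ≫ p) ≫ (yon S).map k) ≫ p := by
    rw [Category.assoc]; exact sqF.w
  set m := sqU.lift _ _ hwm with hm
  have hm1 : m ≫ fstU = pullback.fst f ((yon S).map k ≫ p) := sqU.lift_fst _ _ hwm
  have hm2 : m ≫ sndU = pullback.snd f ((yon S).map k ≫ p) ≫ (yon S).map k :=
    sqU.lift_snd _ _ hwm
  have sqA : IsPullback m (pullback.snd f ((yon S).map k ≫ p)) sndU ((yon S).map k) := by
    refine IsPullback.of_right ?_ hm2 sqU
    rw [hm1]; exact sqF
  have sqQ : IsPullback (pullback.fst g k) (pullback.snd g k) g k := IsPullback.of_hasPullback _ _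
  have sqB := sqQ.map (yon S)
  have hwe : ((yon S).map (pullback.fst g k) ≫ w ≫ fstU) ≫ f =
      (yon S).map (pullback.snd g k) ≫ (yon S).map k ≫ p := by
    rw [Category.assoc, Category.assoc, sqU.w, ← Category.assoc w, ← hg, ← Category.assoc,
      ← Category.assoc, sqB.w]
  set e := sqF.lift _ _ hwe with he
  have he1 : e ≫ pullback.fst f ((yon S).map k ≫ p) = (yon S).map (pullback.fst g k) ≫ w ≫ fstU :=
    sqF.lift_fst _ _ hwe
  have he2 : e ≫ pullback.snd f ((yon S).map k ≫ p) = (yon S).map (pullback.snd g k) :=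
    sqF.lift_snd _ _ hwe
  have hem : (yon S).map (pullback.fst g k) ≫ w = e ≫ m := by
    apply sqU.hom_ext
    · rw [Category.assoc, Category.assoc, hm1, he1]
    · rw [Category.assoc, Category.assoc, hm2, ← Category.assoc e, he2, ← hg, sqB.w]
  have sqTop : IsPullback ((yon S).map (pullback.fst g k)) e w m := by
    refine IsPullback.of_bot ?_ hem sqA
    rw [he2, ← hg]
    exact sqB
  haveI : Epi e := epi_of_isPullback_of_epi sqTop.flip
  exact ⟨e, inferInstance, he2, he1⟩

/-- The kernel of a quasi-compact cover of the chart pullback of a morphism of sheaves is invariant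
under the equivalence relation of a flat chart. -/
theorem ker_le_ker_of_cover {Y X : Sp S} (f : Y ⟶ X) {U W : Over S} (p : (yon S).obj U ⟶ X)
    (hp : RepWith @Flat p) {YU : Sp S} (fstU : YU ⟶ Y) (sndU : YU ⟶ (yon S).obj U)
    (sqU : IsPullback fstU sndU f p) (w : (yon S).obj W ⟶ YU) [Epi w] (g : W ⟶ U)
    (hg : (yon S).map g = w ≫ sndU) (hqc : QuasiCompact g.left)
    {T₁ : Over S} (a b : T₁ ⟶ U) (hab : (yon S).map a ≫ p = (yon S).map b ≫ p)
    (ha : g.left.ker ≤ a.left.ker) : g.left.ker ≤ b.left.ker := by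
  haveI := hqc
  have hrep := hp.rep
  have sqR := hrep.isPullback' p
  set t := hrep.fst' p
  set s := hrep.snd p
  haveI hs : Flat s.left := hp.property_snd p
  haveI ht : Flat t.left := hp.property p _ _ sqR.flip
  have sqQs : IsPullback (pullback.fst g s) (pullback.snd g s) g s := IsPullback.of_hasPullback _ _
  have sqQt : IsPullback (pullback.fst g t) (pullback.snd g t) g t := IsPullback.of_hasPullback _ _
  obtain ⟨es, hes, hes2, -⟩ := exists_epi_cover_base_change f p fstU sndU sqU w g hg s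
    ((yon S).map s ≫ p) rfl
  obtain ⟨et, het, het2, -⟩ := exists_epi_cover_base_change f p fstU sndU sqU w g hg t
    ((yon S).map s ≫ p) sqR.w.symm
  have hkst : (pullback.snd g s).left.ker = (pullback.snd g t).left.ker :=
    ker_eq_of_common_epi _ _ es et (pullback.snd f ((yon S).map s ≫ p)) hes2 het2
  have hks : (pullback.snd g s).left.ker = g.left.ker.comap s.left :=
    ker_of_isPullback_of_flat (sqQs.map (Over.forget S))
  have hkt : (pullback.snd g t).left.ker = g.left.ker.comap t.left :=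
    ker_of_isPullback_of_flat (sqQt.map (Over.forget S))
  have hcomap : g.left.ker.comap s.left = g.left.ker.comap t.left := by
    rw [← hks, ← hkt, hkst]
  obtain ⟨r, hr⟩ := (yon S).map_surjective (sqR.lift ((yon S).map a) ((yon S).map b) hab)
  have hr1 : r ≫ t = a := (yon S).map_injective (by
    rw [Functor.map_comp, hr]; exact sqR.lift_fst _ _ _)
  have hr2 : r ≫ s = b := (yon S).map_injective (by
    rw [Functor.map_comp, hr]; exact sqR.lift_snd _ _ _)
  have hr1' : r.left ≫ t.left = a.left := congrArg (fun k => k.left) hr1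
  have hr2' : r.left ≫ s.left = b.left := congrArg (fun k => k.left) hr2
  rw [← hr1', Scheme.Hom.ker_comp, Scheme.IdealSheafData.le_map_iff_comap_le, ← hcomap] at ha
  rw [← hr2', Scheme.Hom.ker_comp, Scheme.IdealSheafData.le_map_iff_comap_le]
  exact ha

/-- The scheme theoretic image of a quasi-compact cover of the chart pullback is invariant. -/
theorem imageOverι_invariant_of_cover {Y X : Sp S} (f : Y ⟶ X) {U W : Over S}
    (p : (yon S).obj U ⟶ X) (hp : RepWith @Flat p) {YU : Sp S} (fstU : YU ⟶ Y)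
    (sndU : YU ⟶ (yon S).obj U) (sqU : IsPullback fstU sndU f p) (w : (yon S).obj W ⟶ YU) [Epi w]
    (g : W ⟶ U) (hg : (yon S).map g = w ≫ sndU) (hqc : QuasiCompact g.left)
    (T₁ : Over S) (a b : T₁ ⟶ U) (hab : (yon S).map a ≫ p = (yon S).map b ≫ p)
    (ha : ∃ a' : T₁ ⟶ imageOver g, a' ≫ imageOverι g = a) :
    ∃ b' : T₁ ⟶ imageOver g, b' ≫ imageOverι g = b := by
  obtain ⟨a', rfl⟩ := ha
  have h1 : g.left.ker ≤ (a' ≫ imageOverι g).left.ker :=
    (ker_imageι g.left).ge.trans (Scheme.Hom.le_ker_comp a'.left g.left.imageι)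
  have h2 : g.left.imageι.ker ≤ b.left.ker :=
    (ker_imageι g.left).le.trans
      (ker_le_ker_of_cover f p hp fstU sndU sqU w g hg hqc (a' ≫ imageOverι g) b hab h1)
  let l := IsClosedImmersion.lift g.left.imageι b.left h2
  have hl : l ≫ g.left.imageι = b.left := IsClosedImmersion.lift_fac _ _ _
  have hl' : l ≫ (imageOver g).hom = T₁.hom := by
    change l ≫ g.left.imageι ≫ U.hom = T₁.hom
    rw [← Category.assoc, hl, Over.w b]
  exact ⟨Over.homMk l hl', Over.OverMorphism.ext hl⟩

/-- Chart-wise construction of the scheme theoretic image of a morphism of sheaves whose pullback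
to an fppf chart `p : h_U ⟶ X` is covered by a scheme `W` quasi-compact over `U`. -/
theorem exists_closed_of_chart_cover {Y X : Sp S} (f : Y ⟶ X) {U W : Over S}
    (p : (yon S).obj U ⟶ X) (hp₁ : RepWith @Flat p)
    (hp₂ : RepWith @LocallyOfFinitePresentation p) (hp₃ : RepWith @Surjective p)
    {YU : Sp S} (fstU : YU ⟶ Y) (sndU : YU ⟶ (yon S).obj U) (sqU : IsPullback fstU sndU f p)
    (w : (yon S).obj W ⟶ YU) [Epi w] (g : W ⟶ U) (hg : (yon S).map g = w ≫ sndU)
    (hqc : QuasiCompact g.left) :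
    ∃ (Zbar : Sp S) (c : Zbar ⟶ X) (q : (yon S).obj (imageOver g) ⟶ Zbar) (j : Y ⟶ Zbar),
      IsSchImage f c ∧ IsPullback q ((yon S).map (imageOverι g)) c p ∧ j ≫ c = f := by
  have hcU : IsClosedImmersion (imageOverι g).left :=
    (inferInstance : IsClosedImmersion g.left.imageι)
  have hinv := imageOverι_invariant_of_cover f p hp₁ fstU sndU sqU w g hg hqc
  have sqD := isPullback_image_of_invariant p (imageOverι g) hinv
  have hcl : RepWith @IsClosedImmersion (Sheaf.imageι ((yon S).map (imageOverι g) ≫ p)) :=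
    repWith_isClosedImmersion_imageι_of_invariant p hp₁ hp₂ hp₃ (imageOverι g) hcU hinv
  haveI := isLocallySurjective_of_repWith p hp₁ hp₂ hp₃
  haveI : Epi p := Sheaf.epi_of_isLocallySurjective _
  haveI : Epi fstU := epi_of_isPullback_of_epi sqU
  have hcomm : ((yon S).map (toImageOver g) ≫ Sheaf.toImage ((yon S).map (imageOverι g) ≫ p)) ≫
      Sheaf.imageι ((yon S).map (imageOverι g) ≫ p) = (w ≫ fstU) ≫ f := by
    rw [Category.assoc, Sheaf.toImage_ι, ← Category.assoc, ← Functor.map_comp, toImageOver_ι,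
      hg, Category.assoc, Category.assoc, sqU.w]
  obtain ⟨j, hj⟩ := exists_lift_of_epi_of_mono (w ≫ fstU)
    (Sheaf.imageι ((yon S).map (imageOverι g) ≫ p)) f _ hcomm
  refine ⟨_, _, Sheaf.toImage ((yon S).map (imageOverι g) ≫ p), j, ⟨hcl, ⟨j, hj⟩, ?_⟩, sqD, hj⟩
  intro Z' i' _ hi' hfac
  obtain ⟨f'', hf''⟩ := hfac
  haveI : Mono i' := mono_of_repWith isClosedImmersion_le_mono _ hi'
  have hrep' := hi'.rep
  have sq' := hrep'.isPullback p
  haveI hι' : IsClosedImmersion (hrep'.snd p).left := hi'.property_snd p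
  obtain ⟨l, hl⟩ := (yon S).map_surjective (sq'.lift ((w ≫ fstU) ≫ f'') ((yon S).map g) (by
    rw [Category.assoc, hf'', hg, Category.assoc, Category.assoc, sqU.w]))
  have hl2 : l ≫ hrep'.snd p = g := (yon S).map_injective (by
    rw [Functor.map_comp, hl]; exact sq'.lift_snd _ _ _)
  have hl2' : l.left ≫ (hrep'.snd p).left = g.left := congrArg (fun k => k.left) hl2
  have hle : (hrep'.snd p).left.ker ≤ g.left.imageι.ker := by
    rw [ker_imageι, ← hl2']
    exact Scheme.Hom.le_ker_comp _ _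
  let lam := IsClosedImmersion.lift (hrep'.snd p).left g.left.imageι hle
  have hlam : lam ≫ (hrep'.snd p).left = g.left.imageι := IsClosedImmersion.lift_fac _ _ _
  have hlam' : lam ≫ (hrep'.pullback p).hom = (imageOver g).hom := by
    change lam ≫ (hrep'.pullback p).hom = g.left.imageι ≫ U.hom
    rw [← hlam, Category.assoc, Over.w (hrep'.snd p)]
  let lamO : imageOver g ⟶ hrep'.pullback p := Over.homMk lam hlam'
  have hlamO : lamO ≫ hrep'.snd p = imageOverι g := Over.OverMorphism.ext hlam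
  exact exists_lift_of_epi_of_mono (Sheaf.toImage ((yon S).map (imageOverι g) ≫ p)) i' _
    ((yon S).map lamO ≫ hrep'.fst p) (by
      rw [Category.assoc, sq'.w, ← Category.assoc, ← Functor.map_comp, hlamO, Sheaf.toImage_ι])

end Groth.Agent.Helper15
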