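import Groth.Agent.Lib.Helper15.AffDesc2
import Groth.Agent.Lib.Helper15.AlgSpCD
import Groth.Agent.Lib.Helper15.AlgSpSI1
import Groth.Agent.Lib.Helper15.AlgSpQuotEff
import Mathlib.CategoryTheory.Sites.RegularEpi

/-!
# Effective descent of affine schemes along an fppf cover of affine schemes (sheaf form)
-/

set_option autoImplicit false
set_option linter.style.haveILetI false
set_option linter.unusedSectionVars false
set_option linter.unusedVariables false
universe u
open CategoryTheory CategoryTheory.Limits AlgebraicGeometry MorphismProperty Opposite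
open AlgSp

namespace Groth.Agent.Helper15.AffDesc

variable {S : Scheme.{u}}

/-- Descend a map along an epimorphism of sheaves, checking the kernel pair condition on
representables. -/
theorem exists_desc_of_epi {A G H : Sp S} (f : A ⟶ G) [Epi f] (h : A ⟶ H)
    (hk : ∀ (X : Over S) (x y : (yon S).obj X ⟶ A), x ≫ f = y ≫ f → x ≫ h = y ≫ h) :
    ∃ γ : G ⟶ H, f ≫ γ = h := by
  haveI : IsRegularEpi f := IsRegularEpiCategory.regularEpiOfEpi f
  haveI : EffectiveEpi f := (isRegularEpi_iff_effectiveEpi f).1 inferInstance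
  have hcond : ∀ {Z : Sp S} (g₁ g₂ : Z ⟶ A), g₁ ≫ f = g₂ ≫ f → g₁ ≫ h = g₂ ≫ h := by
    intro Z g₁ g₂ hg
    apply Groth.Agent.Helper15.hom_ext_yon
    intro T z
    rw [← Category.assoc, ← Category.assoc]
    apply hk
    rw [Category.assoc, Category.assoc, hg]
  exact ⟨EffectiveEpi.desc f h hcond, EffectiveEpi.fac f h hcond⟩

/-- Two sheaves with the same base change along an epimorphism are isomorphic via any compatible
map. -/
theorem isIso_of_isPullback_of_isPullback_of_epi {P G H K K' : Sp S} {f₁ : P ⟶ G} {f₂ : P ⟶ H}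
    {p : P ⟶ K'} {m : G ⟶ K} {n : H ⟶ K} {b : K' ⟶ K} [Epi b]
    (sq₁ : IsPullback f₁ p m b) (sq₂ : IsPullback f₂ p n b) (γ : G ⟶ H) (h₁ : f₁ ≫ γ = f₂)
    (h₂ : γ ≫ n = m) : IsIso γ := by
  haveI : Epi f₂ := Groth.Agent.Helper15.epi_of_isPullback_of_epi sq₂
  haveI : Epi γ := epi_of_epi_fac h₁
  haveI : Mono γ := by
    apply Groth.Agent.Helper15.mono_of_yon
    intro X x y hxy
    have hm : x ≫ m = y ≫ m := by rw [← h₂, ← Category.assoc, hxy, Category.assoc]
    obtain ⟨R, hR, hlift⟩ := Groth.Agent.Helper15.exists_local_lift_of_epi b (x ≫ m)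
    apply Groth.Agent.Helper15.yon_hom_ext_of_cover x y R hR
    intro X' k hk
    obtain ⟨τ, hτ⟩ := hlift k hk
    have hwx : ((yon S).map k ≫ x) ≫ m = τ ≫ b := by rw [Category.assoc, hτ]
    have hwy : ((yon S).map k ≫ y) ≫ m = τ ≫ b := by rw [Category.assoc, ← hm, hτ]
    have heq : sq₁.lift _ _ hwx = sq₁.lift _ _ hwy := by
      apply sq₂.hom_ext
      · rw [← h₁, ← Category.assoc, ← Category.assoc, sq₁.lift_fst, sq₁.lift_fst,
          Category.assoc, Category.assoc, hxy]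
      · rw [sq₁.lift_snd, sq₁.lift_snd]
    have := congrArg (fun l => l ≫ f₁) heq
    simpa using this
  exact isIso_of_mono_of_epi γ

/-- Effective descent of affine schemes along an fppf cover of affine schemes: a sheaf `G` over an
affine scheme `T` whose base change to an affine fppf cover `T''` of `T` is an affine scheme is
itself an affine scheme. -/
theorem exists_affine_rep_of_affine_cover {G : Sp S} {T T'' U : Over S}
    [IsAffine T.left] [IsAffine T''.left] [IsAffine U.left]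
    (m : G ⟶ (yon S).obj T) (c : T'' ⟶ T) (hflat : Flat c.left)
    (hlfp : LocallyOfFinitePresentation c.left) (hsurj : Surjective c.left)
    (π : U ⟶ T'') (fst : (yon S).obj U ⟶ G)
    (sq : IsPullback fst ((yon S).map π) m ((yon S).map c)) :
    ∃ (W : Over S) (j : W ⟶ T) (e : (yon S).obj W ≅ G) (w : U ⟶ W),
      IsAffine W.left ∧ e.hom ≫ m = (yon S).map j ∧ (yon S).map w ≫ e.hom = fst ∧
        IsPullback w π j c := by
  -- the relation `R = U ×_T T''`
  obtain ⟨R, p₁, p₂, sqR⟩ : ∃ (R : Over S) (p₁ : R ⟶ U) (p₂ : R ⟶ T''),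
      IsPullback p₁ p₂ (π ≫ c) c := ⟨_, _, _, IsPullback.of_hasPullback _ _⟩
  have hsqw : fst ≫ m = (yon S).map π ≫ (yon S).map c := sq.w
  have hw : ((yon S).map p₁ ≫ fst) ≫ m = (yon S).map p₂ ≫ (yon S).map c := by
    rw [Category.assoc, hsqw, ← Functor.map_comp, ← Functor.map_comp, ← Functor.map_comp, sqR.w]
  obtain ⟨t, ht⟩ := (yon S).map_surjective (sq.lift _ _ hw)
  have ht₁ : (yon S).map t ≫ fst = (yon S).map p₁ ≫ fst := by rw [ht, sq.lift_fst]
  have ht₂ : t ≫ π = p₂ := by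
    apply (yon S).map_injective
    rw [Functor.map_comp, ht, sq.lift_snd]
  -- equality of maps into `U` can be tested on `fst` and `π`
  have hUext : ∀ {X : Over S} (x y : X ⟶ U), (yon S).map x ≫ fst = (yon S).map y ≫ fst →
      x ≫ π = y ≫ π → x = y := by
    intro X x y h1 h2
    apply (yon S).map_injective
    apply sq.hom_ext h1
    rw [← Functor.map_comp, ← Functor.map_comp, h2]
  -- the diagonal
  let Δ : U ⟶ R := sqR.lift (𝟙 U) π (by simp)
  have hΔ₁ : Δ ≫ p₁ = 𝟙 U := sqR.lift_fst _ _ _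
  have hΔ₂ : Δ ≫ p₂ = π := sqR.lift_snd _ _ _
  have hΔt : Δ ≫ t = 𝟙 U := by
    apply hUext
    · rw [Functor.map_comp, Category.assoc, ht₁, ← Category.assoc, ← Functor.map_comp, hΔ₁]
    · rw [Category.assoc, ht₂, hΔ₂, Category.id_comp]
  -- the triple product
  obtain ⟨R₂, q₁, q₂, sqR₂⟩ : ∃ (R₂ : Over S) (q₁ : R₂ ⟶ R) (q₂ : R₂ ⟶ T''),
      IsPullback q₁ q₂ (p₁ ≫ π ≫ c) c := ⟨_, _, _, IsPullback.of_hasPullback _ _⟩
  have hRw : p₁ ≫ π ≫ c = p₂ ≫ c := sqR.w
  have hR₂w : q₁ ≫ p₁ ≫ π ≫ c = q₂ ≫ c := sqR₂.w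
  let τ : R₂ ⟶ R := sqR.lift (q₁ ≫ t) q₂ (by
    rw [Category.assoc, ← Category.assoc t, ht₂, ← hRw, hR₂w])
  have hτ₁ : τ ≫ p₁ = q₁ ≫ t := sqR.lift_fst _ _ _
  have hτ₂ : τ ≫ p₂ = q₂ := sqR.lift_snd _ _ _
  let σ : R₂ ⟶ R := sqR.lift (q₁ ≫ p₁) q₂ (by
    rw [Category.assoc, hR₂w])
  have hσ₁ : σ ≫ p₁ = q₁ ≫ p₁ := sqR.lift_fst _ _ _
  have hσ₂ : σ ≫ p₂ = q₂ := sqR.lift_snd _ _ _
  have hco : τ ≫ t = σ ≫ t := by
    apply hUext
    · rw [Functor.map_comp, Functor.map_comp, Category.assoc, Category.assoc, ht₁,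
        ← Category.assoc, ← Category.assoc, ← Functor.map_comp, ← Functor.map_comp, hτ₁, hσ₁,
        Functor.map_comp, Functor.map_comp, Category.assoc, Category.assoc, ht₁]
    · rw [Category.assoc, Category.assoc, ht₂, hτ₂, hσ₂]
  -- pass to rings
  have sqRl : IsPullback p₁.left p₂.left (π.left ≫ c.left) c.left := sqR.map (Over.forget S)
  haveI : IsAffine R.left := IsAffine.of_isPullback sqRl
  have sqR₂l : IsPullback q₁.left q₂.left (p₁.left ≫ π.left ≫ c.left) c.left :=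
    sqR₂.map (Over.forget S)
  have hC0 := isPushout_appTop_of_isPullback sqRl
  have hE0 := isPushout_appTop_of_isPullback sqR₂l
  simp only [Scheme.Hom.comp_appTop, Category.assoc] at hC0 hE0
  let a := c.left.appTop
  let ι := π.left.appTop
  let ρ := t.left.appTop
  let i₁ := p₁.left.appTop
  have e1 : ι ≫ ρ = p₂.left.appTop := by
    rw [← Scheme.Hom.comp_appTop, ← Over.comp_left, ht₂]
  have hpo := isPushout_of_coaction (D := CommRingCat.of (RingHom.eqLocus ρ.hom i₁.hom))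
    a ι p₂.left.appTop i₁ hC0.flip
    q₂.left.appTop q₁.left.appTop hE0.flip
    ρ e1
    Δ.left.appTop (by rw [← Scheme.Hom.comp_appTop, ← Over.comp_left, hΔ₂])
    (by rw [← Scheme.Hom.comp_appTop, ← Over.comp_left, hΔ₁]; rfl)
    (by rw [← Scheme.Hom.comp_appTop, ← Over.comp_left, hΔt]; rfl)
    τ.left.appTop σ.left.appTop
    (by rw [← Scheme.Hom.comp_appTop, ← Over.comp_left, hτ₂])
    (by rw [← Scheme.Hom.comp_appTop, ← Over.comp_left, hτ₁, Over.comp_left,
      Scheme.Hom.comp_appTop])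
    (by rw [← Scheme.Hom.comp_appTop, ← Over.comp_left, hσ₂])
    (by rw [← Scheme.Hom.comp_appTop, ← Over.comp_left, hσ₁, Over.comp_left,
      Scheme.Hom.comp_appTop])
    (by rw [← Scheme.Hom.comp_appTop, ← Scheme.Hom.comp_appTop, ← Over.comp_left,
      ← Over.comp_left, hco])
    ((HasRingHomProperty.iff_of_isAffine (P := @Flat)).1 hflat)
    (CommRingCat.ofHom (RingHom.eqLocus ρ.hom i₁.hom).subtype)
    (by ext x; exact x.2)
    (Subtype.val_injective)
    (fun b hb => ⟨⟨b, hb⟩, rfl⟩)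
    (CommRingCat.ofHom ((a ≫ ι).hom.codRestrict (RingHom.eqLocus ρ.hom i₁.hom) (by
      intro x
      change ρ.hom (ι.hom (a.hom x)) = i₁.hom (ι.hom (a.hom x))
      have e2 := hC0.w
      have h1 := congrArg (fun f => f.hom (a.hom x)) e1
      have h2 := congrArg (fun f => f.hom x) e2
      simp only [CommRingCat.hom_comp, RingHom.coe_comp, Function.comp_apply] at h1 h2
      rw [h1]
      exact h2.symm)))
    (by ext x; rfl)
  set D : CommRingCat := CommRingCat.of (RingHom.eqLocus ρ.hom i₁.hom) with hDdef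
  set d : D ⟶ Γ(U.left, ⊤) := CommRingCat.ofHom (RingHom.eqLocus ρ.hom i₁.hom).subtype with hddef
  generalize hadef : (CommRingCat.ofHom ((a ≫ ι).hom.codRestrict (RingHom.eqLocus ρ.hom i₁.hom) _) :
    Γ(T.left, ⊤) ⟶ D) = a₀ at hpo
  have hpb := isPullback_SpecMap_of_isPushout a a₀ ι d hpo
  let w₀ : U.left ⟶ Spec D := U.left.isoSpec.hom ≫ Spec.map d
  let j₀ : Spec D ⟶ T.left := Spec.map a₀ ≫ T.left.isoSpec.inv
  have hsqS : IsPullback w₀ π.left j₀ c.left := by
    refine hpb.flip.of_iso U.left.isoSpec.symm (Iso.refl _) T''.left.isoSpec.symm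
      T.left.isoSpec.symm ?_ ?_ ?_ ?_
    · simp [w₀]
    · exact Scheme.isoSpec_inv_naturality π.left
    · simp [j₀]
    · exact Scheme.isoSpec_inv_naturality c.left
  let W : Over S := Over.mk (j₀ ≫ T.hom)
  let j : W ⟶ T := Over.homMk j₀ rfl
  have hw₀ : w₀ ≫ j₀ ≫ T.hom = U.hom := by
    rw [← Category.assoc, hsqS.w, Category.assoc, Over.w c, Over.w π]
  let w : U ⟶ W := Over.homMk w₀ hw₀
  have sqW : IsPullback w π j c := IsPullback.of_map_of_faithful (Over.forget S) hsqS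
  have hdeq : d ≫ i₁ = d ≫ ρ := by
    ext x
    exact x.2.symm
  have hcoeq : p₁ ≫ w = t ≫ w := by
    ext1
    change p₁.left ≫ U.left.isoSpec.hom ≫ Spec.map d = t.left ≫ U.left.isoSpec.hom ≫ Spec.map d
    rw [← Scheme.isoSpec_hom_naturality_assoc, ← Scheme.isoSpec_hom_naturality_assoc,
      ← Spec.map_comp, ← Spec.map_comp]
    congr 2
  -- descend
  haveI := Groth.Agent.Helper15.isLocallySurjective_yon_map c hflat hlfp hsurj
  haveI : Epi ((yon S).map c) := Sheaf.epi_of_isLocallySurjective _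
  haveI : Epi fst := Groth.Agent.Helper15.epi_of_isPullback_of_epi sq
  obtain ⟨γ, hγ⟩ := exists_desc_of_epi fst ((yon S).map w) (by
    intro X x y hxy
    obtain ⟨α, rfl⟩ := (yon S).map_surjective x
    obtain ⟨β, rfl⟩ := (yon S).map_surjective y
    have hαβ : α ≫ π ≫ c = (β ≫ π) ≫ c := by
      apply (yon S).map_injective
      simp only [Functor.map_comp, Category.assoc]
      rw [← hsqw, ← Category.assoc, hxy, Category.assoc]
    have hr₁ : sqR.lift α (β ≫ π) hαβ ≫ p₁ = α := sqR.lift_fst _ _ _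
    have hr₂ : sqR.lift α (β ≫ π) hαβ ≫ p₂ = β ≫ π := sqR.lift_snd _ _ _
    have hrt : sqR.lift α (β ≫ π) hαβ ≫ t = β := by
      apply hUext
      · rw [Functor.map_comp, Category.assoc, ht₁, ← Category.assoc, ← Functor.map_comp, hr₁, hxy]
      · rw [Category.assoc, ht₂, hr₂]
    rw [← Functor.map_comp, ← Functor.map_comp]
    congr 1
    calc α ≫ w = (sqR.lift α (β ≫ π) hαβ ≫ p₁) ≫ w := by rw [hr₁]
      _ = (sqR.lift α (β ≫ π) hαβ ≫ t) ≫ w := by rw [Category.assoc, Category.assoc, hcoeq]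
      _ = β ≫ w := by rw [hrt])
  have hγj : γ ≫ (yon S).map j = m := by
    rw [← cancel_epi fst, ← Category.assoc, hγ, ← Functor.map_comp, sqW.w, Functor.map_comp, hsqw]
  haveI : IsIso γ := isIso_of_isPullback_of_isPullback_of_epi sq (sqW.map (yon S)) γ hγ hγj
  refine ⟨W, j, (asIso γ).symm, w, ?_, ?_, ?_, sqW⟩
  · change IsAffine (Spec D)
    infer_instance
  · change inv γ ≫ m = _
    rw [IsIso.inv_comp_eq, hγj]
  · change _ ≫ inv γ = _
    rw [IsIso.comp_inv_eq, hγ]

end Groth.Agent.Helper15.AffDesc
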