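import Mathlib

/-!
# Groupoids on the spectrum of a field: the algebra

Let `K` be a field and `B` a `K`-algebra (through `σ = algebraMap K B`) with a second ring map
`τ : K →+* B`, a retraction `e : B →+* K` of both, and a "composition" map
`c : B →+* A ⊗[K] B` where `A` is a copy of `B` with the `K`-algebra structure through `τ`.
Then, for the subfield `K₀ = {a | σ a = τ a}`, the map `K ⊗[K₀] K → B`, `a ⊗ b ↦ σ a * τ b`,
is injective.
-/

set_option autoImplicit false
universe u
open TensorProduct CategoryTheory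

namespace Groth.Agent.Helper15.GpdField

variable {K B : Type u} [Field K] [CommRing B] [Algebra K B] (τ : K →+* B)

/-- The subfield of `K` on which the two maps `algebraMap K B` and `τ` agree. -/
def eqField : Subfield K where
  carrier := {a | algebraMap K B a = τ a}
  mul_mem' := by
    intro a b ha hb
    simp only [Set.mem_ofPred_eq] at ha hb ⊢
    rw [map_mul, map_mul, ha, hb]
  one_mem' := by simp
  add_mem' := by
    intro a b ha hb
    simp only [Set.mem_ofPred_eq] at ha hb ⊢
    rw [map_add, map_add, ha, hb]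
  zero_mem' := by simp
  neg_mem' := by
    intro a ha
    simp only [Set.mem_ofPred_eq] at ha ⊢
    rw [map_neg, map_neg, ha]
  inv_mem' := by
    intro a ha
    simp only [Set.mem_ofPred_eq] at ha ⊢
    by_cases h0 : a = 0
    · subst h0; simp
    · have h1 : τ a * τ a⁻¹ = 1 := by rw [← map_mul, mul_inv_cancel₀ h0, map_one]
      have h2 : algebraMap K B a⁻¹ * algebraMap K B a = 1 := by
        rw [← map_mul, inv_mul_cancel₀ h0, map_one]
      calc algebraMap K B a⁻¹ = algebraMap K B a⁻¹ * (τ a * τ a⁻¹) := by rw [h1, mul_one]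
        _ = (algebraMap K B a⁻¹ * algebraMap K B a) * τ a⁻¹ := by rw [ha]; ring
        _ = τ a⁻¹ := by rw [h2, one_mul]

theorem mem_eqField {a : K} : a ∈ eqField τ ↔ algebraMap K B a = τ a := Iff.rfl

variable {A : Type u} [CommRing A] [Algebra K A]

/-- **Key lemma** (Artin-style): elements of `K` linearly independent over the equalizer subfield
have `τ`-images linearly independent over `K`. -/
theorem linearIndepOn_tau (j : B →+* A) (hj : Function.Injective j)
    (hjτ : ∀ a, j (τ a) = algebraMap K A a)
    (e : B →+* K) (he1 : ∀ a, e (algebraMap K B a) = a) (he2 : ∀ a, e (τ a) = a)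
    (c : B →+* A ⊗[K] B) (hc1 : ∀ a, c (algebraMap K B a) = j (algebraMap K B a) ⊗ₜ[K] 1)
    (hc2 : ∀ a, c (τ a) = 1 ⊗ₜ[K] τ a) (s : Finset K)
    (hs : LinearIndepOn (eqField τ) id (s : Set K)) :
    LinearIndepOn K (fun a : K => τ a) (s : Set K) := by
  classical
  induction s using Finset.induction_on with
  | empty => simp
  | insert a s has ih =>
    rw [Finset.coe_insert] at hs ⊢
    rw [linearIndepOn_insert (by simpa using has)] at hs ⊢
    refine ⟨ih hs.1, fun ha => ?_⟩
    rw [Finsupp.mem_span_image_iff_linearCombination] at ha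
    obtain ⟨l, hl, hla⟩ := ha
    rw [Finsupp.linearCombination_apply_of_mem_supported K hl] at hla
    -- all coefficients lie in the equalizer field
    have key : ∀ i ∈ s, l i ∈ eqField τ := by
      intro i his
      have h1 : ∑ x ∈ s, (j (algebraMap K B (l x))) ⊗ₜ[K] τ x = (1 : A) ⊗ₜ[K] τ a := by
        rw [← hc2, ← hla, map_sum]
        refine Finset.sum_congr rfl fun x _ => ?_
        rw [Algebra.smul_def, map_mul, hc1, hc2, Algebra.TensorProduct.tmul_mul_tmul, mul_one,
          one_mul]
      have h2 : ∑ x ∈ s, (algebraMap K A (l x)) ⊗ₜ[K] τ x = (1 : A) ⊗ₜ[K] τ a := by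
        rw [← hla, TensorProduct.tmul_sum]
        refine Finset.sum_congr rfl fun x _ => ?_
        rw [TensorProduct.tmul_smul, TensorProduct.smul_tmul', Algebra.smul_def, mul_one]
      have h3 : ∑ x ∈ s.attach, (j (algebraMap K B (l x)) - algebraMap K A (l x)) •
          ((1 : A) ⊗ₜ[K] τ (x : K)) = 0 := by
        rw [Finset.sum_attach s (fun x => (j (algebraMap K B (l x)) - algebraMap K A (l x)) •
          ((1 : A) ⊗ₜ[K] τ x))]
        simp only [sub_smul, TensorProduct.smul_tmul', smul_eq_mul, mul_one,
          Finset.sum_sub_distrib]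
        rw [h1, h2, sub_self]
      have hli : LinearIndependent A (fun x : (s : Set K) => (1 : A) ⊗ₜ[K] τ (x : K)) :=
        Module.Flat.linearIndependent_one_tmul (S := A) (ih hs.1)
      have h4 := linearIndependent_iff'.1 hli s.attach
        (fun x => j (algebraMap K B (l x)) - algebraMap K A (l x)) h3 ⟨i, his⟩
        (Finset.mem_attach _ _)
      rw [mem_eqField]
      apply hj
      rw [hjτ]
      exact sub_eq_zero.1 h4
    -- apply the retraction
    have h5 : a = ∑ x ∈ s, l x * x := by
      have := congrArg e hla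
      rw [map_sum, he2] at this
      rw [← this]
      refine Finset.sum_congr rfl fun x _ => ?_
      rw [Algebra.smul_def, map_mul, he1, he2]
    apply hs.2
    rw [h5]
    refine Submodule.sum_mem _ fun x hx => ?_
    have : l x * x = (⟨l x, key x hx⟩ : eqField τ) • (id x) := rfl
    rw [this]
    exact Submodule.smul_mem _ _ (Submodule.subset_span ⟨x, by simpa using hx, rfl⟩)

section phi

/-- `τ` as an algebra map over the equalizer field. -/
def tauAlgHom : K →ₐ[eqField τ] B :=
  { τ with commutes' := fun r => ((mem_eqField τ).1 r.2).symm }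

/-- The canonical map `K ⊗[K₀] K → B`, `a ⊗ b ↦ σ a * τ b`. -/
noncomputable def phi : K ⊗[eqField τ] K →ₐ[eqField τ] B :=
  Algebra.TensorProduct.productMap (IsScalarTower.toAlgHom (eqField τ) K B) (tauAlgHom τ)

theorem phi_tmul (a b : K) : phi τ (a ⊗ₜ b) = algebraMap K B a * τ b := by
  simp [phi, tauAlgHom]

theorem phi_smul (r : K) (x : K ⊗[eqField τ] K) : phi τ (r • x) = algebraMap K B r * phi τ x := by
  induction x using TensorProduct.induction_on with
  | zero => simp
  | tmul a b =>
    rw [TensorProduct.smul_tmul', phi_tmul, phi_tmul, smul_eq_mul, map_mul, mul_assoc]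
  | add x y hx hy => rw [smul_add, map_add, map_add, hx, hy, mul_add]

theorem phi_injective (j : B →+* A) (hj : Function.Injective j)
    (hjτ : ∀ a, j (τ a) = algebraMap K A a)
    (e : B →+* K) (he1 : ∀ a, e (algebraMap K B a) = a) (he2 : ∀ a, e (τ a) = a)
    (c : B →+* A ⊗[K] B) (hc1 : ∀ a, c (algebraMap K B a) = j (algebraMap K B a) ⊗ₜ[K] 1)
    (hc2 : ∀ a, c (τ a) = 1 ⊗ₜ[K] τ a) : Function.Injective (phi τ) := by
  classical
  let 𝔟 := Module.Basis.ofVectorSpace (eqField τ) K
  have hind : LinearIndependent K ((fun a : K => τ a) ∘ 𝔟) := by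
    rw [← linearIndepOn_range_iff 𝔟.injective, linearIndepOn_iff_linearIndepOn_finset]
    intro t ht
    exact linearIndepOn_tau τ j hj hjτ e he1 he2 c hc1 hc2 t
      (𝔟.linearIndependent.linearIndepOn_id.mono ht)
  let 𝔟' := Algebra.TensorProduct.basis K 𝔟
  let φK : K ⊗[eqField τ] K →ₗ[K] B :=
    { toFun := phi τ
      map_add' := map_add _
      map_smul' := fun r x => by rw [phi_smul, RingHom.id_apply, Algebra.smul_def] }
  have hφ : ∀ i, φK (𝔟' i) = ((fun a : K => τ a) ∘ 𝔟) i := by
    intro i
    change phi τ (𝔟' i) = τ (𝔟 i)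
    rw [Algebra.TensorProduct.basis_apply, phi_tmul, map_one, one_mul]
  intro x y hxy
  rw [← sub_eq_zero]
  have h0 : φK (x - y) = 0 := by
    change phi τ (x - y) = 0
    rw [map_sub, hxy, sub_self]
  rw [← 𝔟'.linearCombination_repr (x - y), Finsupp.apply_linearCombination] at h0
  have h1 : (φK ∘ ⇑𝔟') = (fun a : K => τ a) ∘ 𝔟 := funext hφ
  rw [h1] at h0
  have h2 := linearIndependent_iff.1 hind _ h0
  have h3 : 𝔟'.repr (x - y) = 0 := h2
  exact (𝔟'.repr.map_eq_zero_iff).1 h3

theorem phi_surjective [Module.Finite K B]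
    (hepi : ∀ (C : Type u) [CommRing C] (γ γ' : B →+* C),
      γ.comp (algebraMap K B) = γ'.comp (algebraMap K B) → γ.comp τ = γ'.comp τ → γ = γ') :
    Function.Surjective (phi τ) := by
  let f : CommRingCat.of (K ⊗[eqField τ] K) ⟶ CommRingCat.of B :=
    CommRingCat.ofHom (phi τ).toRingHom
  haveI : Epi f := by
    refine ⟨fun {C} g h hgh => ?_⟩
    ext1
    apply hepi C g.hom h.hom
    · ext a
      have := congrArg (fun k => k.hom (a ⊗ₜ[eqField τ] (1 : K))) hgh
      simp only [f, CommRingCat.hom_comp, CommRingCat.hom_ofHom, RingHom.comp_apply] at this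
      change g.hom (phi τ _) = h.hom (phi τ _) at this
      rw [phi_tmul, map_one, mul_one] at this
      exact this
    · ext a
      have := congrArg (fun k => k.hom ((1 : K) ⊗ₜ[eqField τ] a)) hgh
      simp only [f, CommRingCat.hom_comp, CommRingCat.hom_ofHom, RingHom.comp_apply] at this
      change g.hom (phi τ _) = h.hom (phi τ _) at this
      rw [phi_tmul, map_one, one_mul] at this
      exact this
  have hfin : f.hom.Finite := by
    have h1 : (f.hom.comp (Algebra.TensorProduct.includeLeftRingHom :
        K →+* K ⊗[eqField τ] K)) = algebraMap K B := by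
      ext a
      change phi τ (a ⊗ₜ 1) = _
      rw [phi_tmul, map_one, mul_one]
    apply RingHom.Finite.of_comp_finite (f := (Algebra.TensorProduct.includeLeftRingHom :
        K →+* K ⊗[eqField τ] K))
    rw [h1]
    exact RingHom.finite_algebraMap.2 inferInstance
  exact RingHom.surjective_of_epi_of_finite f hfin

end phi

section Twist

/-- A copy of `B` carrying the `K`-algebra structure through `τ`. -/
def Twist (_τ : K →+* B) : Type u := B

instance : CommRing (Twist τ) := inferInstanceAs (CommRing B)

/-- The identity ring isomorphism from `B` to its copy. -/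
def Twist.of : B ≃+* Twist τ := RingEquiv.refl B

instance : Algebra K (Twist τ) := (((Twist.of τ : B ≃+* Twist τ) : B →+* Twist τ).comp τ).toAlgebra

theorem Twist.algebraMap_apply (a : K) : algebraMap K (Twist τ) a = Twist.of τ (τ a) := rfl

/-- Bijectivity of `K ⊗[K₀] K → B` for a finite "equivalence relation" on `Spec K`. -/
theorem phi_bijective_of_groupoid [Module.Finite K B]
    (e : B →+* K) (he1 : ∀ a, e (algebraMap K B a) = a) (he2 : ∀ a, e (τ a) = a)
    (c : B →+* Twist τ ⊗[K] B)
    (hc1 : ∀ a, c (algebraMap K B a) = Twist.of τ (algebraMap K B a) ⊗ₜ[K] 1)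
    (hc2 : ∀ a, c (τ a) = 1 ⊗ₜ[K] τ a)
    (hepi : ∀ (C : Type u) [CommRing C] (γ γ' : B →+* C),
      γ.comp (algebraMap K B) = γ'.comp (algebraMap K B) → γ.comp τ = γ'.comp τ → γ = γ') :
    Function.Bijective (phi τ) :=
  ⟨phi_injective τ ((Twist.of τ : B ≃+* Twist τ) : B →+* Twist τ) (Twist.of τ).injective
    (fun _ => rfl) e he1 he2 c hc1 hc2, phi_surjective τ hepi⟩

end Twist

end Groth.Agent.Helper15.GpdField
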