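import Groth.Agent.Lib.Helper15.AlgSpLocP
import Mathlib.AlgebraicGeometry.Morphisms.FlatDescent
import Mathlib.AlgebraicGeometry.Morphisms.LocalFlatDescent
import Mathlib.AlgebraicGeometry.Morphisms.Proper
import Mathlib.AlgebraicGeometry.ZariskisMainTheorem
import Mathlib.AlgebraicGeometry.Morphisms.QuasiFinite
import Mathlib.AlgebraicGeometry.Morphisms.FormallyUnramified
import Mathlib.RingTheory.Unramified.LocalStructure
import Mathlib.RingTheory.RingHom.Flat

/-!
# Descent of properties of morphisms of schemes and fppf-locality on the target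

Bridge between Mathlib's `MorphismProperty.DescendsAlong` results and
`MorphismProperty.IsLocalAtTarget _ Scheme.fppfPrecoverage`, plus a few more descent results.
-/

set_option autoImplicit false
universe u
open CategoryTheory CategoryTheory.Limits AlgebraicGeometry MorphismProperty
open AlgSp

namespace Groth.Agent.Helper15

/-- Bridge: a Zariski-local property stable under base change which descends along fppf covers
is local at the target for the fppf precoverage. -/
theorem isLocalAtTarget_fppf_of_descendsAlong (P : MorphismProperty Scheme.{u})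
    [IsZariskiLocalAtTarget P] [P.IsStableUnderBaseChange]
    [P.DescendsAlong (@Surjective ⊓ @Flat ⊓ @LocallyOfFinitePresentation)] :
    P.IsLocalAtTarget Scheme.fppfPrecoverage := by
  haveI : Precoverage.Small.{u} Scheme.fppfPrecoverage.{u} := by
    unfold Scheme.fppfPrecoverage; infer_instance
  refine IsLocalAtTarget.mk_of_small.{u} (fun 𝒰 hf i => P.pullback_snd _ _ hf) ?_
  intro X Y f 𝒰 h
  let p : ∐ 𝒰.X ⟶ Y := Sigma.desc 𝒰.f
  have hmem := 𝒰.mem₀
  unfold Scheme.fppfPrecoverage at hmem
  rw [Scheme.presieve₀_mem_precoverage_iff] at hmem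
  obtain ⟨hcov, hprop⟩ := hmem
  have hp : (@Surjective ⊓ @Flat ⊓ @LocallyOfFinitePresentation : MorphismProperty Scheme.{u}) p := by
    refine ⟨⟨?_, ?_⟩, ?_⟩
    · apply Surjective.sigmaDesc_of_union_range_eq_univ
      rw [Set.eq_univ_iff_forall]
      intro y
      obtain ⟨i, hi⟩ := hcov y
      exact Set.mem_iUnion.2 ⟨i, hi⟩
    · exact IsZariskiLocalAtSource.sigmaDesc (fun i => (hprop i).1)
    · exact IsZariskiLocalAtSource.sigmaDesc (fun i => (hprop i).2)
  refine of_pullback_snd_of_descendsAlong (P := P) hp ?_
  rw [IsZariskiLocalAtTarget.iff_of_openCover (P := P) (sigmaOpenCover 𝒰.X)]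
  intro i
  change P (pullback.snd (pullback.snd f p) (Sigma.ι 𝒰.X i))
  have e : Sigma.ι 𝒰.X i ≫ p = 𝒰.f i := Sigma.ι_desc _ _
  have h' : P (pullback.snd f (Sigma.ι 𝒰.X i ≫ p)) := by
    rw [e]; exact h i
  rw [← pullbackLeftPullbackSndIso_hom_snd]
  exact (P.cancel_left_of_respectsIso _ _).2 h'

/-- Quasi-compactness descends along surjective quasi-compact morphisms. -/
theorem quasiCompact_descendsAlong_surjective_inf_quasiCompact :
    DescendsAlong (@QuasiCompact : MorphismProperty Scheme.{u}) (@Surjective ⊓ @QuasiCompact) := by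
  apply DescendsAlong.mk'
  intro X Y Z f g _ hf hfst
  haveI : Surjective f := hf.1
  haveI : QuasiCompact f := hf.2
  haveI : QuasiCompact (pullback.fst f g) := hfst
  rw [quasiCompact_iff_forall_isAffineOpen]
  intro V hV
  have h1 : IsCompact ((pullback.fst f g ≫ f) ⁻¹ᵁ V : Set ↥(pullback f g)) :=
    (pullback.fst f g ≫ f).isCompact_preimage hV.isCompact
  have h2 : (g ⁻¹ᵁ V : Set Y) = (pullback.snd f g) '' ((pullback.fst f g ≫ f) ⁻¹ᵁ V : Set _) := by
    haveI : Surjective (pullback.snd f g) := inferInstance
    ext y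
    constructor
    · intro hy
      obtain ⟨w, rfl⟩ := (pullback.snd f g).surjective y
      refine ⟨w, ?_, rfl⟩
      change (pullback.fst f g ≫ f) w ∈ V
      rw [pullback.condition]
      exact hy
    · rintro ⟨w, hw, rfl⟩
      change g (pullback.snd f g w) ∈ V
      rw [← Scheme.Hom.comp_apply, ← pullback.condition]
      exact hw
  rw [h2]
  exact h1.image (pullback.snd f g).continuous

instance quasiCompact_descendsAlong_fpqc :
    DescendsAlong (@QuasiCompact : MorphismProperty Scheme.{u})
      (@Surjective ⊓ @Flat ⊓ @QuasiCompact) :=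
  haveI := quasiCompact_descendsAlong_surjective_inf_quasiCompact.{u}
  DescendsAlong.of_le (Q := (@Surjective ⊓ @QuasiCompact : MorphismProperty Scheme.{u}))
    (fun _ _ _ h => ⟨h.1.1, h.2⟩)

instance quasiSeparated_descendsAlong_fpqc :
    DescendsAlong (@QuasiSeparated : MorphismProperty Scheme.{u})
      (@Surjective ⊓ @Flat ⊓ @QuasiCompact) := by
  rw [quasiSeparated_eq_diagonal_is_quasiCompact]
  infer_instance

theorem isSeparated_eq_diagonal_universallyClosed :
    (@IsSeparated : MorphismProperty Scheme.{u}) = diagonal @UniversallyClosed := by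
  ext X Y f
  constructor
  · intro h
    haveI : IsSeparated f := h
    exact (inferInstance : UniversallyClosed (pullback.diagonal f))
  · intro h
    haveI : UniversallyClosed (pullback.diagonal f) := h
    exact ⟨IsClosedImmersion.of_isPreimmersion _
      (pullback.diagonal f).isClosedMap.isClosed_range⟩

instance isSeparated_descendsAlong_fpqc :
    DescendsAlong (@IsSeparated : MorphismProperty Scheme.{u})
      (@Surjective ⊓ @Flat ⊓ @QuasiCompact) := by
  rw [isSeparated_eq_diagonal_universallyClosed]
  infer_instance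

instance monomorphisms_descendsAlong_fpqc :
    DescendsAlong (monomorphisms Scheme.{u}) (@Surjective ⊓ @Flat ⊓ @QuasiCompact) := by
  rw [← diagonal_isomorphisms]
  infer_instance

instance isProper_descendsAlong_fpqc :
    DescendsAlong (@IsProper : MorphismProperty Scheme.{u})
      (@Surjective ⊓ @Flat ⊓ @QuasiCompact) := by
  rw [isProper_eq]
  infer_instance

instance isClosedImmersion_descendsAlong_fpqc :
    DescendsAlong (@IsClosedImmersion : MorphismProperty Scheme.{u})
      (@Surjective ⊓ @Flat ⊓ @QuasiCompact) := by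
  rw [IsClosedImmersion.eq_proper_inf_monomorphisms]
  infer_instance

/-! ### fppf-locality on the target -/

instance isLocalAtTarget_fppf_lft :
    IsLocalAtTarget (@LocallyOfFiniteType : MorphismProperty Scheme.{u}) Scheme.fppfPrecoverage :=
  isLocalAtTarget_fppf_of_descendsAlong _

instance isLocalAtTarget_fppf_lfp :
    IsLocalAtTarget (@LocallyOfFinitePresentation : MorphismProperty Scheme.{u}) Scheme.fppfPrecoverage :=
  isLocalAtTarget_fppf_of_descendsAlong _

instance isLocalAtTarget_fppf_smooth :
    IsLocalAtTarget (@Smooth : MorphismProperty Scheme.{u}) Scheme.fppfPrecoverage :=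
  isLocalAtTarget_fppf_of_descendsAlong _

instance isLocalAtTarget_fppf_etale :
    IsLocalAtTarget (@Etale : MorphismProperty Scheme.{u}) Scheme.fppfPrecoverage :=
  isLocalAtTarget_fppf_of_descendsAlong _

instance isLocalAtTarget_fppf_formallyUnramified :
    IsLocalAtTarget (@FormallyUnramified : MorphismProperty Scheme.{u}) Scheme.fppfPrecoverage :=
  isLocalAtTarget_fppf_of_descendsAlong _

instance isLocalAtTarget_fppf_universallyClosed :
    IsLocalAtTarget (@UniversallyClosed : MorphismProperty Scheme.{u}) Scheme.fppfPrecoverage :=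
  isLocalAtTarget_fppf_of_descendsAlong _

instance isLocalAtTarget_fppf_universallyOpen :
    IsLocalAtTarget (@UniversallyOpen : MorphismProperty Scheme.{u}) Scheme.fppfPrecoverage :=
  isLocalAtTarget_fppf_of_descendsAlong _

instance isLocalAtTarget_fppf_universallyInjective :
    IsLocalAtTarget (@UniversallyInjective : MorphismProperty Scheme.{u}) Scheme.fppfPrecoverage :=
  isLocalAtTarget_fppf_of_descendsAlong _

instance isLocalAtTarget_fppf_isomorphisms :
    IsLocalAtTarget (isomorphisms Scheme.{u} : MorphismProperty Scheme.{u}) Scheme.fppfPrecoverage :=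
  isLocalAtTarget_fppf_of_descendsAlong _

instance isLocalAtTarget_fppf_isOpenImmersion :
    IsLocalAtTarget (@IsOpenImmersion : MorphismProperty Scheme.{u}) Scheme.fppfPrecoverage :=
  isLocalAtTarget_fppf_of_descendsAlong _

instance isLocalAtTarget_fppf_surjective :
    IsLocalAtTarget (@Surjective : MorphismProperty Scheme.{u}) Scheme.fppfPrecoverage :=
  isLocalAtTarget_fppf_of_descendsAlong _

instance isLocalAtTarget_fppf_quasiCompact :
    IsLocalAtTarget (@QuasiCompact : MorphismProperty Scheme.{u}) Scheme.fppfPrecoverage :=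
  isLocalAtTarget_fppf_of_descendsAlong _

instance isLocalAtTarget_fppf_quasiSeparated :
    IsLocalAtTarget (@QuasiSeparated : MorphismProperty Scheme.{u}) Scheme.fppfPrecoverage :=
  isLocalAtTarget_fppf_of_descendsAlong _

instance isLocalAtTarget_fppf_isSeparated :
    IsLocalAtTarget (@IsSeparated : MorphismProperty Scheme.{u}) Scheme.fppfPrecoverage :=
  isLocalAtTarget_fppf_of_descendsAlong _

instance isLocalAtTarget_fppf_monomorphisms :
    IsLocalAtTarget (monomorphisms Scheme.{u} : MorphismProperty Scheme.{u}) Scheme.fppfPrecoverage :=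
  isLocalAtTarget_fppf_of_descendsAlong _

instance isLocalAtTarget_fppf_isProper :
    IsLocalAtTarget (@IsProper : MorphismProperty Scheme.{u}) Scheme.fppfPrecoverage :=
  isLocalAtTarget_fppf_of_descendsAlong _

instance isLocalAtTarget_fppf_isClosedImmersion :
    IsLocalAtTarget (@IsClosedImmersion : MorphismProperty Scheme.{u}) Scheme.fppfPrecoverage :=
  isLocalAtTarget_fppf_of_descendsAlong _

/-- Unramified morphisms are locally quasi-finite. -/
theorem locallyQuasiFinite_of_formallyUnramified {X Y : Scheme.{u}} (f : X ⟶ Y)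
    [FormallyUnramified f] [LocallyOfFiniteType f] : LocallyQuasiFinite f := by
  rw [HasRingHomProperty.iff_appLE (P := @LocallyQuasiFinite)]
  intro U V e
  have h1 := HasRingHomProperty.appLE @FormallyUnramified f inferInstance U V e
  have h2 := HasRingHomProperty.appLE @LocallyOfFiniteType f inferInstance U V e
  algebraize [(f.appLE U V e).hom]
  change Algebra.QuasiFinite Γ(Y, U.1) Γ(X, V.1)
  infer_instance

/-- Etale morphisms are locally quasi-finite. -/
theorem locallyQuasiFinite_of_etale {X Y : Scheme.{u}} (f : X ⟶ Y) [Etale f] :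
    LocallyQuasiFinite f :=
  locallyQuasiFinite_of_formallyUnramified f

theorem etale_le_lqf : (@Etale : MorphismProperty Scheme.{u}) ≤ @LocallyQuasiFinite :=
  fun _ _ f hf => by haveI : Etale f := hf; exact locallyQuasiFinite_of_etale f


lemma flat_codescendsAlong_faithfullyFlat :
    RingHom.CodescendsAlong RingHom.Flat RingHom.FaithfullyFlat := by
  refine .mk _ RingHom.Flat.respectsIso fun R S T _ _ _ _ _ h h' ↦ ?_
  rw [RingHom.flat_algebraMap_iff] at h' ⊢
  rw [RingHom.faithfullyFlat_algebraMap_iff] at h
  exact Module.Flat.of_flat_tensorProduct R T S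

instance flat_descendsAlong_fpqc :
    DescendsAlong (@Flat : MorphismProperty Scheme.{u}) (@Surjective ⊓ @Flat ⊓ @QuasiCompact) :=
  HasRingHomProperty.descendsAlong_flat flat_codescendsAlong_faithfullyFlat

instance isLocalAtTarget_fppf_flat :
    IsLocalAtTarget (@Flat : MorphismProperty Scheme.{u}) Scheme.fppfPrecoverage :=
  isLocalAtTarget_fppf_of_descendsAlong _


theorem lqf_lft_descendsAlong_fpqc :
    DescendsAlong (@LocallyQuasiFinite ⊓ @LocallyOfFiniteType : MorphismProperty Scheme.{u})
      (@Surjective ⊓ @Flat ⊓ @QuasiCompact) := by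
  refine IsZariskiLocalAtTarget.descendsAlong_inf_quasiCompact _ _ ?_ ?_
  · rw [inf_comm]
    exact inf_le_inf le_rfl (IsLocalIso.le_of_isZariskiLocalAtSource _)
  intro R S Y φ g h hfst
  haveI : Surjective (Spec.map φ) := h.1
  haveI : Flat (Spec.map φ) := h.2
  haveI hlqf : LocallyQuasiFinite (pullback.fst (Spec.map φ) g) := hfst.1
  have hlft : LocallyOfFiniteType g :=
    of_pullback_fst_of_descendsAlong (P := @LocallyOfFiniteType)
      (Q := @Surjective ⊓ @Flat ⊓ @QuasiCompact) (f := Spec.map φ)
      ⟨⟨inferInstance, inferInstance⟩, inferInstance⟩ hfst.2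
  refine ⟨?_, hlft⟩
  rw [IsZariskiLocalAtSource.iff_of_openCover (P := @LocallyQuasiFinite) Y.affineCover]
  intro i
  set j := Y.affineCover.f i
  haveI : QuasiCompact (j ≫ g) := by
    haveI : IsAffine (Y.affineCover.X i) := by dsimp [Scheme.affineCover]; infer_instance
    infer_instance
  haveI : LocallyOfFiniteType (j ≫ g) := inferInstance
  have heq : pullback.fst (Spec.map φ) (j ≫ g) =
      pullback.map _ _ _ _ (𝟙 _) j (𝟙 _) (by simp) (by simp) ≫
        pullback.fst (Spec.map φ) g := (pullback.lift_fst _ _ _).symm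
  haveI : LocallyQuasiFinite (pullback.fst (Spec.map φ) (j ≫ g)) := by
    rw [heq]
    exact IsZariskiLocalAtSource.comp hlqf _
  rw [locallyQuasiFinite_iff_finite_preimage_singleton]
  intro x
  obtain ⟨s, hs⟩ := (Spec.map φ).surjective x
  have hfin := (pullback.fst (Spec.map φ) (j ≫ g)).finite_preimage_singleton s
  refine (hfin.image (pullback.snd (Spec.map φ) (j ≫ g))).subset ?_
  intro y hy
  obtain ⟨z, hz1, hz2⟩ := Scheme.Pullback.exists_preimage_pullback (f := Spec.map φ) (g := j ≫ g)
    s y (by rw [hs]; exact hy.symm)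
  exact ⟨z, hz1, hz2⟩


instance lqf_lft_descendsAlong_fpqc' :
    DescendsAlong (@LocallyQuasiFinite ⊓ @LocallyOfFiniteType : MorphismProperty Scheme.{u})
      (@Surjective ⊓ @Flat ⊓ @QuasiCompact) := lqf_lft_descendsAlong_fpqc

instance isLocalAtTarget_fppf_lqf_lft :
    IsLocalAtTarget (@LocallyQuasiFinite ⊓ @LocallyOfFiniteType : MorphismProperty Scheme.{u})
      Scheme.fppfPrecoverage :=
  isLocalAtTarget_fppf_of_descendsAlong _

instance isLocalAtTarget_fppf_lft_unramified :
    IsLocalAtTarget (@LocallyOfFiniteType ⊓ @FormallyUnramified : MorphismProperty Scheme.{u})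
      Scheme.fppfPrecoverage :=
  isLocalAtTarget_fppf_of_descendsAlong _

end Groth.Agent.Helper15
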