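import Groth.Agent.Lib.Helper15.AlgSpTop
import Groth.Agent.Lib.Helper15.AlgSpDescent
import Mathlib.AlgebraicGeometry.Morphisms.QuasiFinite
import Mathlib.AlgebraicGeometry.Noetherian

set_option autoImplicit false
universe u
open CategoryTheory CategoryTheory.Limits AlgebraicGeometry MorphismProperty Opposite
open AlgSp

namespace Groth.Agent.Helper15
variable {S : Scheme.{u}}

/-- A locally quasi-finite morphism from a quasi-compact scheme has finite fibres. -/
theorem finite_preimage_singleton_of_compactSpace {W U : Scheme.{u}} (f : W ⟶ U)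
    [LocallyQuasiFinite f] [CompactSpace W] (y : U) : (f ⁻¹' {y}).Finite := by
  have hd : _root_.IsDiscrete (f ⁻¹' {y}) := f.isDiscrete_preimage_singleton y
  haveI : QuasiCompact (U.fromSpecResidueField y) := inferInstance
  haveI : QuasiCompact (f.fiberι y) := by
    delta Scheme.Hom.fiberι
    exact MorphismProperty.pullback_fst (P := @QuasiCompact) _ _ inferInstance
  haveI : CompactSpace (f.fiber y) := QuasiCompact.compactSpace_of_compactSpace (f.fiberι y)
  have hc : IsCompact (f ⁻¹' {y}) := by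
    rw [← Scheme.Hom.range_fiberι]
    exact isCompact_range (f.fiberι y).continuous
  exact hc.finite hd

/-- S10363: finite fibres over `x` on a jointly surjective etale family imply finite fibres on every
affine etale chart. -/
theorem finite_fibre_of_etale_cover_finite_fibres {X : Sp S} (x : Points X) {ι : Type u}
    (U : ι → Over S) (φ : ∀ i, (yon S).obj (U i) ⟶ X) (hφ : ∀ i, RepWith @Etale (φ i))
    (hsurj : ∀ y : Points X, ∃ (i : ι) (v : (U i).left), Points.ofPt (φ i) v = y)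
    (hfin : ∀ i, (Points.ofPt (φ i) ⁻¹' {x}).Finite)
    {V : Over S} [IsAffine V.left] (ψ : (yon S).obj V ⟶ X) (hψ : RepWith @Etale ψ) :
    (Points.ofPt ψ ⁻¹' {x}).Finite := by
  have sq : ∀ i, IsPullback ((yon S).map ((hφ i).rep.fst' ψ)) ((yon S).map ((hφ i).rep.snd ψ))
      (φ i) ψ := fun i => (hφ i).rep.isPullback' ψ
  have hp : ∀ i, Etale ((hφ i).rep.snd ψ).left := fun i => (hφ i).property_snd ψ
  have hq : ∀ i, Etale ((hφ i).rep.fst' ψ).left := fun i => hψ.property (φ i) _ _ (sq i).flip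
  have key : ∀ v : V.left, ∃ (i : ι) (w : ((hφ i).rep.pullback ψ).left),
      ((hφ i).rep.snd ψ).left w = v := by
    intro v
    obtain ⟨i, u, hu⟩ := hsurj (Points.ofPt ψ v)
    obtain ⟨w, -, hw⟩ := exists_of_ofPt_eq (sq i) u v hu
    exact ⟨i, w, hw⟩
  choose i w hw using key
  have key2 : ∀ v, ∃ W : ((hφ (i v)).rep.pullback ψ).left.Opens, IsAffineOpen W ∧ w v ∈ W := by
    intro v
    obtain ⟨_, ⟨W, hW, rfl⟩, hwW, -⟩ :=
      (((hφ (i v)).rep.pullback ψ).left.isBasis_affineOpens).exists_subset_of_mem_open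
        (Set.mem_univ (w v)) isOpen_univ
    exact ⟨W, hW, hwW⟩
  choose W hWaff hwW using key2
  let O : V.left → Set V.left := fun v => ((hφ (i v)).rep.snd ψ).left '' (W v : Set _)
  have hO : ∀ v, IsOpen (O v) := fun v => by
    haveI := hp (i v)
    exact ((hφ (i v)).rep.snd ψ).left.isOpenMap _ (W v).2
  have hcov : (Set.univ : Set V.left) ⊆ ⋃ v, O v :=
    fun v _ => Set.mem_iUnion.2 ⟨v, w v, hwW v, hw v⟩
  obtain ⟨t, ht⟩ := isCompact_univ.elim_finite_subcover O hO hcov
  have hsub : Points.ofPt ψ ⁻¹' {x} ⊆ ⋃ v ∈ t, ((hφ (i v)).rep.snd ψ).left ''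
      ((W v : Set _) ∩ ((hφ (i v)).rep.fst' ψ).left ⁻¹' (Points.ofPt (φ (i v)) ⁻¹' {x})) := by
    intro v hv
    obtain ⟨v', hv't, hv'⟩ := Set.mem_iUnion₂.1 (ht (Set.mem_univ v))
    obtain ⟨z, hzW, rfl⟩ := hv'
    refine Set.mem_iUnion₂.2 ⟨v', hv't, z, ⟨hzW, ?_⟩, rfl⟩
    change Points.ofPt (φ (i v')) (((hφ (i v')).rep.fst' ψ).left z) = x
    rw [← ofPt_comp_yon_map, (sq (i v')).w, ofPt_comp_yon_map]
    exact hv
  refine Set.Finite.subset (Set.Finite.biUnion t.finite_toSet
    (fun v _ => Set.Finite.image _ ?_)) hsub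
  haveI : IsAffine (W v) := hWaff v
  haveI := hq (i v)
  haveI : LocallyQuasiFinite ((W v).ι ≫ ((hφ (i v)).rep.fst' ψ).left) :=
    locallyQuasiFinite_of_etale _
  have hfin' : (((W v).ι ≫ ((hφ (i v)).rep.fst' ψ).left) ⁻¹'
      (Points.ofPt (φ (i v)) ⁻¹' {x})).Finite :=
    (hfin (i v)).preimage' (fun y _ => finite_preimage_singleton_of_compactSpace _ y)
  refine (hfin'.image (W v).ι).subset ?_
  rintro z ⟨hzW, hz⟩
  refine ⟨⟨z, hzW⟩, ?_, rfl⟩
  rw [Set.mem_preimage, Scheme.Hom.comp_apply]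
  exact hz

end Groth.Agent.Helper15
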