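import Groth.Agent.Lib.Helper15.AlgSpDecent
import Groth.Agent.Lib.Helper15.AlgSpFinFib
import Mathlib.AlgebraicGeometry.Morphisms.UniversallyOpen

set_option autoImplicit false
universe u
open CategoryTheory CategoryTheory.Limits AlgebraicGeometry MorphismProperty Opposite
open AlgSp

namespace Groth.Agent.Helper15
variable {S : Scheme.{u}}

/-- A point represented by a quasi-compact field point has finite fibres on affine etale charts. -/
theorem finite_fibre_of_repWith_quasiCompact_fieldPt {X : Sp S} (p : FieldPt X)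
    (hq : RepWith @QuasiCompact p.toHom) {V : Over S} [IsAffine V.left]
    (ψ : (yon S).obj V ⟶ X) (hψ : RepWith @Etale ψ) :
    (Points.ofPt ψ ⁻¹' {Points.mk p}).Finite := by
  have sq := hq.rep.isPullback' ψ
  haveI hsnd : QuasiCompact (hq.rep.snd ψ).left := hq.property_snd ψ
  haveI hfst : Etale (hq.rep.fst' ψ).left := hψ.property p.toHom _ _ sq.flip
  haveI : CompactSpace (hq.rep.pullback ψ).left :=
    QuasiCompact.compactSpace_of_compactSpace (hq.rep.snd ψ).left
  haveI : LocallyQuasiFinite (hq.rep.fst' ψ).left := locallyQuasiFinite_of_etale _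
  let s : ↥(Spec (CommRingCat.of p.K)) := IsLocalRing.closedPoint p.K
  have hfin : ((hq.rep.fst' ψ).left ⁻¹' {s}).Finite :=
    finite_preimage_singleton_of_compactSpace _ s
  refine (hfin.image (hq.rep.snd ψ).left).subset ?_
  intro v hv
  have hv' : Points.ofPt p.toHom s = Points.ofPt ψ v := by
    rw [Points.ofPt_toHom]; exact hv.symm
  obtain ⟨w, hw1, hw2⟩ := exists_of_ofPt_eq sq s v hv'
  exact ⟨w, hw1, hw2⟩

/-- On a decent space, affine etale charts have finite fibres. -/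
theorem finite_fibre_of_isDecent {X : Sp S} (hX : IsDecent X) (x : Points X) {V : Over S}
    [IsAffine V.left] (ψ : (yon S).obj V ⟶ X) (hψ : RepWith @Etale ψ) :
    (Points.ofPt ψ ⁻¹' {x}).Finite := by
  obtain ⟨p, rfl, -, hq⟩ := hX x
  exact finite_fibre_of_repWith_quasiCompact_fieldPt p hq ψ hψ

/-- No nontrivial specializations in the fibres of a locally quasi-finite morphism. -/
theorem eq_of_specializes_of_map_eq {R U : Scheme.{u}} (f : R ⟶ U) [LocallyQuasiFinite f]
    {r r' : R} (h : r' ⤳ r) (he : f r' = f r) : r' = r :=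
  (f.isDiscrete_preimage_singleton (f r)).eq_of_specializes h he rfl

section
attribute [local instance] specializationPreorder

/-- S10340: no nontrivial specializations in the fibres of an etale chart of a decent space. -/
theorem eq_of_specializes_of_ofPt_eq_of_isDecent {X : Sp S} (hX : IsDecent X) {U : Over S}
    (a : (yon S).obj U ⟶ X) (ha : RepWith @Etale a) (u u' : U.left)
    (he : Points.ofPt a u = Points.ofPt a u') (hs : u' ⤳ u) : u = u' := by
  -- an affine open neighbourhood of `u`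
  obtain ⟨_, ⟨U₀, hU₀, rfl⟩, huU₀, -⟩ :=
    (U.left.isBasis_affineOpens).exists_subset_of_mem_open (Set.mem_univ u) isOpen_univ
  let U₀' : U.left.Opens := U₀
  let V : Over S := Over.mk (U₀'.ι ≫ U.hom)
  let j₀ : V ⟶ U := Over.homMk U₀'.ι rfl
  haveI : IsAffine V.left := hU₀
  have hj₀ : Etale j₀.left := (inferInstance : Etale U₀'.ι)
  have ha₀ : RepWith @Etale ((yon S).map j₀ ≫ a) :=
    (RepWith @Etale).comp_mem _ _ ((repWith_yon_map_iff _ j₀).2 hj₀) ha
  have hfin₀ := finite_fibre_of_isDecent hX (Points.ofPt a u) ((yon S).map j₀ ≫ a) ha₀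
  -- the finite set of generizations of `u` in the fibre
  let G : Set U.left := {y | Points.ofPt a y = Points.ofPt a u ∧ y ⤳ u}
  have hG : G.Finite := by
    refine (hfin₀.image U₀'.ι).subset ?_
    rintro y ⟨hy1, hy2⟩
    have hyU : y ∈ U₀' := hy2.mem_open U₀'.2 huU₀
    refine ⟨⟨y, hyU⟩, ?_, rfl⟩
    change Points.ofPt ((yon S).map j₀ ≫ a) ⟨y, hyU⟩ = _
    rw [ofPt_comp_yon_map]
    exact hy1
  by_contra hne
  have hu'G : u' ∈ G := ⟨he.symm, hs⟩
  obtain ⟨b, hb1, hb2⟩ := hG.exists_le_maximal hu'G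
  have hbu' : b ⤳ u' := hb1
  have hbG : b ∈ G := hb2.prop
  have hbu : b ≠ u := by
    rintro rfl
    exact hne (hbu'.antisymm hs).eq
  -- the fibre product
  have sq := ha.rep.isPullback' a
  haveI h1 : Etale (ha.rep.snd a).left := ha.property_snd a
  haveI h2 : Etale (ha.rep.fst' a).left := ha.property a _ _ sq.flip
  obtain ⟨r, hr1, hr2⟩ := exists_of_ofPt_eq sq u b hbG.1.symm
  -- lift the generization `b ⤳ u` along `fst'`
  have hgen : GeneralizingMap (ha.rep.fst' a).left := Flat.generalizingMap _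
  obtain ⟨r', hr'r, hr'b⟩ := hgen (show b ⤳ (ha.rep.fst' a).left r by rw [hr1]; exact hbG.2)
  have hy₀b : (ha.rep.snd a).left r' ⤳ b := by
    rw [← hr2]; exact hr'r.map (ha.rep.snd a).left.continuous
  have hy₀x : Points.ofPt a ((ha.rep.snd a).left r') = Points.ofPt a u := by
    rw [← ofPt_comp_yon_map, ← sq.w, ofPt_comp_yon_map, hr'b]
    exact hbG.1
  have hy₀G : (ha.rep.snd a).left r' ∈ G := ⟨hy₀x, hy₀b.trans hbG.2⟩
  have hby₀ : b ⤳ (ha.rep.snd a).left r' := hb2.le_of_ge hy₀G hy₀b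
  have hy₀ : (ha.rep.snd a).left r' = b := (hy₀b.antisymm hby₀).eq
  haveI : LocallyQuasiFinite (ha.rep.snd a).left := locallyQuasiFinite_of_etale _
  have hrr' : r' = r := eq_of_specializes_of_map_eq (ha.rep.snd a).left hr'r (by rw [hy₀, hr2])
  exact hbu (by rw [← hr'b, hrr', hr1])

/-- Generizations lift along etale charts of a decent space. -/
theorem exists_specializes_lift_of_isDecent {X : Sp S} (hX : IsDecent X) {U : Over S}
    (a : (yon S).obj U ⟶ X) (ha : RepWith @Etale a) (v : U.left) (x : Points X)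
    (hx : x ⤳ Points.ofPt a v) : ∃ w : U.left, w ⤳ v ∧ Points.ofPt a w = x := by
  obtain ⟨_, ⟨U₀, hU₀, rfl⟩, hvU₀, -⟩ :=
    (U.left.isBasis_affineOpens).exists_subset_of_mem_open (Set.mem_univ v) isOpen_univ
  let U₀' : U.left.Opens := U₀
  let V : Over S := Over.mk (U₀'.ι ≫ U.hom)
  let j₀ : V ⟶ U := Over.homMk U₀'.ι rfl
  haveI : IsAffine V.left := hU₀
  have hj₀ : Etale j₀.left := (inferInstance : Etale U₀'.ι)
  have ha₀ : RepWith @Etale ((yon S).map j₀ ≫ a) :=
    (RepWith @Etale).comp_mem _ _ ((repWith_yon_map_iff _ j₀).2 hj₀) ha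
  have hfin₀ := finite_fibre_of_isDecent hX x ((yon S).map j₀ ≫ a) ha₀
  by_contra hno
  push_neg at hno
  have key : ∀ w ∈ (Points.ofPt ((yon S).map j₀ ≫ a) ⁻¹' {x}),
      ∃ O : U.left.Opens, v ∈ O ∧ U₀'.ι w ∉ O := by
    intro w hw
    have h1 : ¬ (U₀'.ι w ⤳ v) := fun h => hno _ h (by
      have := ofPt_comp_yon_map j₀ a w
      exact this.symm.trans hw)
    rw [specializes_iff_forall_open] at h1
    push_neg at h1
    obtain ⟨O, hO, hvO, hwO⟩ := h1
    exact ⟨⟨O, hO⟩, hvO, hwO⟩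
  choose! O hO1 hO2 using key
  let O' : Set U.left := (U₀' : Set U.left) ∩
    ⋂ w ∈ (Points.ofPt ((yon S).map j₀ ≫ a) ⁻¹' {x}), (O w : Set U.left)
  have hO'open : IsOpen O' := U₀'.2.inter (hfin₀.isOpen_biInter (fun w _ => (O w).2))
  have hvO' : v ∈ O' := ⟨hvU₀, Set.mem_iInter₂.2 (fun w hw => hO1 w hw)⟩
  have himg : IsOpen (Points.ofPt a '' O') := isOpenMap_ofPt_of_etale a ha _ hO'open
  obtain ⟨w, hwO', rfl⟩ : x ∈ Points.ofPt a '' O' := hx.mem_open himg ⟨v, hvO', rfl⟩
  have hw₀ : (⟨w, hwO'.1⟩ : U₀') ∈ (Points.ofPt ((yon S).map j₀ ≫ a) ⁻¹' {Points.ofPt a w}) := by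
    change Points.ofPt ((yon S).map j₀ ≫ a) ⟨w, hwO'.1⟩ = _
    rw [ofPt_comp_yon_map]; rfl
  exact hO2 _ hw₀ (Set.mem_iInter₂.1 hwO'.2 _ hw₀)

/-- S10338: the space of points of a decent algebraic space is T0. -/
theorem t0Space_points_of_isDecent {X : Sp S} (hXa : IsAlgSpace X) (hX : IsDecent X) :
    T0Space (Points X) := by
  refine ⟨fun x y hxy => ?_⟩
  obtain ⟨U, p, hpe, hps⟩ := hXa.atlas
  obtain ⟨v, rfl⟩ := surjective_ofPt p hps y
  obtain ⟨w, hwv, rfl⟩ := exists_specializes_lift_of_isDecent hX p hpe v x hxy.specializes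
  obtain ⟨v', hv'w, hv'⟩ :=
    exists_specializes_lift_of_isDecent hX p hpe w (Points.ofPt p v) hxy.specializes'
  have hvv' : v = v' :=
    eq_of_specializes_of_ofPt_eq_of_isDecent hX p hpe v v' hv'.symm (hv'w.trans hwv)
  subst hvv'
  exact congrArg _ (hwv.antisymm hv'w).eq

end

end Groth.Agent.Helper15
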