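import Groth.Agent.Lib.Helper15.TopDim
import Groth.Agent.Lib.Helper15.AlgSpDecent2
import Groth.Prelude.Def_Flat
import Groth.Agent.Lib.Helper15.RingDimLocal

set_option autoImplicit false
universe u
open CategoryTheory CategoryTheory.Limits AlgebraicGeometry MorphismProperty Opposite

namespace Groth.Agent.Helper15

theorem topologicalKrullDim_le_of_lqf {W U : Scheme.{u}} (f : W ⟶ U) [LocallyQuasiFinite f] :
    topologicalKrullDim W ≤ topologicalKrullDim U :=
  topologicalKrullDim_le_of_discrete_fibres f f.continuous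
    (fun _ _ h he => eq_of_specializes_of_map_eq f h he)

theorem topologicalKrullDim_le_of_flat_surjective {W U : Scheme.{u}} (f : W ⟶ U) [Flat f]
    [Surjective f] : topologicalKrullDim U ≤ topologicalKrullDim W :=
  topologicalKrullDim_le_of_generalizingMap f f.surjective (Flat.generalizingMap f)

theorem topologicalKrullDim_eq_of_etale_surjective {W U : Scheme.{u}} (f : W ⟶ U) [Etale f]
    [Surjective f] : topologicalKrullDim W = topologicalKrullDim U := by
  haveI : LocallyQuasiFinite f := locallyQuasiFinite_of_etale f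
  exact le_antisymm (topologicalKrullDim_le_of_lqf f) (topologicalKrullDim_le_of_flat_surjective f)

/-- Local dimension is preserved by étale morphisms. -/
theorem localDim_eq_of_etale {W U : Scheme.{u}} (g : W ⟶ U) [Etale g] (w : W) :
    FlatMor.localDim W w = FlatMor.localDim U (g w) := by
  haveI : LocallyQuasiFinite g := locallyQuasiFinite_of_etale g
  apply le_antisymm
  · refine le_iInf (fun O => ?_)
    obtain ⟨O, hO⟩ := O
    let O' : TopologicalSpace.Opens W := ⟨g ⁻¹' (O : Set U), O.2.preimage g.continuous⟩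
    refine (iInf_le _ (⟨O', hO⟩ : {V : TopologicalSpace.Opens W // w ∈ V})).trans ?_
    haveI : QuasiSober ↥(O' : Set W) := O'.isOpenEmbedding'.quasiSober
    haveI : QuasiSober ↥(O : Set U) := O.isOpenEmbedding'.quasiSober
    refine topologicalKrullDim_le_of_discrete_fibres
      (fun x : ↥(O' : Set W) => (⟨g x.1, x.2⟩ : ↥(O : Set U)))
      (Continuous.subtype_mk (g.continuous.comp continuous_subtype_val) _) ?_
    intro x x' h he
    rw [subtype_specializes_iff] at h
    exact Subtype.ext (eq_of_specializes_of_map_eq g h (congrArg Subtype.val he))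
  · refine le_iInf (fun O' => ?_)
    obtain ⟨O', hO'⟩ := O'
    have hopen : IsOpen (g '' (O' : Set W)) := g.isOpenMap _ O'.2
    let O : TopologicalSpace.Opens U := ⟨g '' (O' : Set W), hopen⟩
    refine (iInf_le _ (⟨O, ⟨w, hO', rfl⟩⟩ : {V : TopologicalSpace.Opens U // g w ∈ V})).trans ?_
    haveI : QuasiSober ↥(O' : Set W) := O'.isOpenEmbedding'.quasiSober
    haveI : QuasiSober ↥(O : Set U) := O.isOpenEmbedding'.quasiSober
    refine topologicalKrullDim_le_of_generalizingMap
      (fun x : ↥(O' : Set W) => (⟨g x.1, ⟨x.1, x.2, rfl⟩⟩ : ↥(O : Set U))) ?_ ?_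
    · rintro ⟨_, x, hx, rfl⟩
      exact ⟨⟨x, hx⟩, rfl⟩
    · intro a b hab
      rw [subtype_specializes_iff] at hab
      obtain ⟨a', ha'a, ha'b⟩ := (Flat.generalizingMap g) hab
      exact ⟨⟨a', ha'a.mem_open O'.2 a.2⟩, (subtype_specializes_iff _ _).2 ha'a, Subtype.ext ha'b⟩

theorem ringKrullDim_stalk_le_of_lqf {W U : Scheme.{u}} (f : W ⟶ U) [LocallyQuasiFinite f]
    (w : W) : ringKrullDim (W.presheaf.stalk w) ≤ ringKrullDim (U.presheaf.stalk (f w)) := by
  have h := f.quasiFiniteAt w
  rw [Scheme.Hom.QuasiFiniteAt] at h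
  algebraize [(f.stalkMap w).hom]
  exact ringKrullDim_le_of_quasiFinite _ _

theorem ringKrullDim_stalk_le_of_flat {W U : Scheme.{u}} (f : W ⟶ U) [Flat f] (w : W) :
    ringKrullDim (U.presheaf.stalk (f w)) ≤ ringKrullDim (W.presheaf.stalk w) := by
  have h := Flat.stalkMap f w
  algebraize [(f.stalkMap w).hom]
  haveI : IsLocalHom (algebraMap (U.presheaf.stalk (f w)) (W.presheaf.stalk w)) :=
    f.toLRSHom.prop w
  exact ringKrullDim_le_of_flat_of_isLocalHom _ _

theorem ringKrullDim_stalk_eq_of_etale {W U : Scheme.{u}} (f : W ⟶ U) [Etale f] (w : W) :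
    ringKrullDim (W.presheaf.stalk w) = ringKrullDim (U.presheaf.stalk (f w)) := by
  haveI : LocallyQuasiFinite f := locallyQuasiFinite_of_etale f
  exact le_antisymm (ringKrullDim_stalk_le_of_lqf f w) (ringKrullDim_stalk_le_of_flat f w)

end Groth.Agent.Helper15
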