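import Groth.Agent.Lib.Helper15.AlgSpRedStalk
import Groth.Agent.Lib.Helper15.SchemeDim
import Mathlib

set_option autoImplicit false
universe u
open CategoryTheory CategoryTheory.Limits AlgebraicGeometry Topology TopologicalSpace TensorProduct

namespace Groth.Agent.Helper15

theorem surjective_algebraMap_of_isEpi_field (L K : Type*) [Field L] [Field K] [Algebra L K]
    [Algebra.IsEpi L K] : Function.Surjective (algebraMap L K) := by
  obtain ⟨g, hg⟩ := LinearMap.exists_leftInverse_of_injective (Algebra.linearMap L K)
    (LinearMap.ker_eq_bot.2 (algebraMap L K).injective)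
  have hg1 : g 1 = 1 := by
    have := LinearMap.congr_fun hg 1
    simpa using this
  intro a
  have h := (Algebra.isEpi_iff_forall_one_tmul_eq L K).1 inferInstance a
  have h2 := congrArg (fun t => TensorProduct.lid L K (LinearMap.rTensor K g t)) h
  simp only [LinearMap.rTensor_tmul, TensorProduct.lid_tmul, hg1, one_smul] at h2
  exact ⟨g a, by rw [Algebra.algebraMap_eq_smul_one]; exact h2.symm⟩

theorem surjective_of_epi_field {L K : Type u} [Field L] [Field K] (f : L →+* K)
    (hf : Epi (CommRingCat.ofHom f)) : Function.Surjective f := by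
  letI : Algebra L K := f.toAlgebra
  have : Algebra.IsEpi L K := CommRingCat.epi_iff_epi.1 hf
  exact surjective_algebraMap_of_isEpi_field L K

theorem epi_of_mono_SpecMap {R T : CommRingCat.{u}} (f : R ⟶ T) [Mono (Spec.map f)] : Epi f := by
  refine ⟨fun a b hab => ?_⟩
  apply Spec.map_injective
  rw [← cancel_mono (Spec.map f), ← Spec.map_comp, ← Spec.map_comp, hab]

theorem surjective_residueFieldMap_of_mono {Z U : Scheme.{u}} (i : Z ⟶ U) [Mono i] (z : Z) :
    Function.Surjective (i.residueFieldMap z).hom := by
  have : Mono (Z.fromSpecResidueField z ≫ i) := mono_comp _ _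
  have : Mono (Spec.map (i.residueFieldMap z) ≫ U.fromSpecResidueField (i z)) := by
    rw [Scheme.Hom.SpecMap_residueFieldMap_fromSpecResidueField]; infer_instance
  have : Mono (Spec.map (i.residueFieldMap z)) := mono_of_mono _ (U.fromSpecResidueField (i z))
  have := epi_of_mono_SpecMap (i.residueFieldMap z)
  exact surjective_of_epi_field (i.residueFieldMap z).hom this


theorem isField_stalk_of_etale_over_field {Z : Scheme.{u}} {k : Type u} [Field k]
    (h : Z ⟶ Spec (CommRingCat.of k)) [Etale h] (z : Z) : IsField (Z.presheaf.stalk z) := by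
  haveI : _root_.IsReduced (Z.presheaf.stalk z) := isReduced_stalk_of_etale h z inferInstance
  haveI : Ring.KrullDimLE 0 (Z.presheaf.stalk z) := by
    rw [Ring.krullDimLE_iff, ringKrullDim_stalk_eq_of_etale h z, ringKrullDim_stalk_eq_coheight]
    have : Order.coheight (h z) = 0 := by
      rw [Order.coheight_eq_zero]
      intro b _
      exact (Subsingleton.elim _ _).le
    rw [this]; rfl
  exact Ring.KrullDimLE.isField_of_isReduced


theorem surjective_stalkMap_of_mono_of_etale_over_field {Z U : Scheme.{u}} (i : Z ⟶ U) [Mono i]
    {k : Type u} [Field k] (h : Z ⟶ Spec (CommRingCat.of k)) [Etale h] (z : Z) :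
    Function.Surjective (i.stalkMap z).hom := by
  have hf := isField_stalk_of_etale_over_field h z
  have hinj : Function.Injective (Z.residue z).hom := by
    rw [injective_iff_map_eq_zero]
    intro b hb
    have hb' : b ∈ IsLocalRing.maximalIdeal (Z.presheaf.stalk z) :=
      (IsLocalRing.residue_eq_zero_iff b).1 hb
    rw [IsLocalRing.isField_iff_maximalIdeal_eq.1 hf] at hb'
    exact hb'
  intro b
  obtain ⟨c, hc⟩ := surjective_residueFieldMap_of_mono i z ((Z.residue z).hom b)
  obtain ⟨r, rfl⟩ := U.residue_surjective (i z) c
  refine ⟨r, hinj ?_⟩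
  rw [← hc]
  have := congrArg (fun φ => φ.hom r) (Scheme.residue_residueFieldMap i z)
  exact this.symm


theorem discreteTopology_of_etale_over_field {Z : Scheme.{u}} {k : Type u} [Field k]
    (h : Z ⟶ Spec (CommRingCat.of k)) [LocallyQuasiFinite h] : DiscreteTopology Z := by
  have hne : Nonempty (Spec (CommRingCat.of k)) := inferInstance
  obtain ⟨pt⟩ := hne
  have h1 := h.isDiscrete_preimage_singleton pt
  have h2 : h ⁻¹' {pt} = Set.univ := Set.eq_univ_of_forall (fun z => Subsingleton.elim _ _)
  rw [h2] at h1
  exact isDiscrete_univ_iff.1 h1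

theorem isClosedImmersion_of_mono_of_etale_over_field_of_compact {Z U : Scheme.{u}}
    [CompactSpace U] (i : Z ⟶ U) [Mono i] [QuasiCompact i] {k : Type u} [Field k]
    (h : Z ⟶ Spec (CommRingCat.of k)) [Etale h] (hcl : ∀ z, IsClosed ({i z} : Set U)) :
    IsClosedImmersion i := by
  haveI : CompactSpace Z := QuasiCompact.compactSpace_of_compactSpace i
  haveI : LocallyQuasiFinite h := locallyQuasiFinite_of_etale h
  haveI : DiscreteTopology Z := discreteTopology_of_etale_over_field h
  haveI : Finite Z := finite_of_compact_of_discrete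
  have hcm : IsClosedMap i := by
    intro A _
    have : i '' A = ⋃ z ∈ A, {i z} := by
      ext u; simp [eq_comm]
    rw [this]
    exact (Set.toFinite A).isClosed_biUnion (fun z _ => hcl z)
  have hemb := Topology.IsClosedEmbedding.of_continuous_injective_isClosedMap i.continuous
    i.injective hcm
  haveI : IsPreimmersion i :=
    { stalkMap_surjective := fun z => surjective_stalkMap_of_mono_of_etale_over_field i h z
      isEmbedding := hemb.isEmbedding }
  exact IsClosedImmersion.of_isPreimmersion i hemb.isClosed_range


theorem isClosedImmersion_of_mono_of_etale_over_field {Z U : Scheme.{u}}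
    (i : Z ⟶ U) [Mono i] [QuasiCompact i] {k : Type u} [Field k]
    (h : Z ⟶ Spec (CommRingCat.of k)) [Etale h] (hcl : ∀ z, IsClosed ({i z} : Set U)) :
    IsClosedImmersion i := by
  rw [IsZariskiLocalAtTarget.iff_of_openCover (P := @IsClosedImmersion) U.affineCover]
  intro j
  change IsClosedImmersion (pullback.snd i (U.affineCover.f j))
  haveI : Etale (pullback.fst i (U.affineCover.f j) ≫ h) := inferInstance
  refine isClosedImmersion_of_mono_of_etale_over_field_of_compact _
    (pullback.fst i (U.affineCover.f j) ≫ h) (fun z' => ?_)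
  have hinj : Function.Injective (U.affineCover.f j) :=
    (U.affineCover.f j).isOpenEmbedding.injective
  have : ({pullback.snd i (U.affineCover.f j) z'} : Set (U.affineCover.X j)) =
      (U.affineCover.f j) ⁻¹' {i (pullback.fst i (U.affineCover.f j) z')} := by
    ext u'
    simp only [Set.mem_singleton_iff, Set.mem_preimage]
    have hc : i (pullback.fst i (U.affineCover.f j) z') =
        (U.affineCover.f j) (pullback.snd i (U.affineCover.f j) z') := by
      rw [← Scheme.Hom.comp_apply, pullback.condition, Scheme.Hom.comp_apply]
    rw [hc]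
    exact ⟨fun h => by rw [h], fun h => hinj h⟩
  rw [this]
  exact (hcl _).preimage (U.affineCover.f j).continuous

end Groth.Agent.Helper15
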