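import Groth.Agent.Lib.Helper15.AlgSpCD5
import Groth.Prelude.Def_CInt

/-!
# Immersions into scheme theoretic images; schematic density
-/

set_option autoImplicit false
set_option linter.style.haveILetI false
universe u
open CategoryTheory CategoryTheory.Limits AlgebraicGeometry MorphismProperty Opposite
open AlgSp

namespace Groth.Agent.Helper15

/-- The range of a quasi-compact scheme theoretically dominant open immersion is schematically
dense. -/
theorem isSchematicallyDense_opensRange_of_dominant {X Y : Scheme.{u}} (f : X ⟶ Y)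
    [IsOpenImmersion f] [IsSchemeTheoreticallyDominant f] [QuasiCompact f] :
    CInt.IsSchematicallyDense f.opensRange := by
  intro V
  have hinj := f.app_injective V
  have hle : f ⁻¹ᵁ V ≤ f ⁻¹ᵁ (V ⊓ f.opensRange) := fun x hx => ⟨hx, ⟨x, rfl⟩⟩
  have hnat := f.naturality (homOfLE (inf_le_left : V ⊓ f.opensRange ≤ V)).op
  have hinj2 : Function.Injective
      (X.presheaf.map ((TopologicalSpace.Opens.map f.base).map
        (homOfLE (inf_le_left : V ⊓ f.opensRange ≤ V))).op) := by
    have hli : X.presheaf.map ((TopologicalSpace.Opens.map f.base).map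
        (homOfLE (inf_le_left : V ⊓ f.opensRange ≤ V))).op ≫
        X.presheaf.map (homOfLE hle).op = 𝟙 _ := by
      rw [← Functor.map_comp, ← op_comp]
      have : homOfLE hle ≫ (TopologicalSpace.Opens.map f.base).map
          (homOfLE (inf_le_left : V ⊓ f.opensRange ≤ V)) = 𝟙 _ := Subsingleton.elim _ _
      rw [this, op_id, X.presheaf.map_id]
    intro a b hab
    have := congrArg (X.presheaf.map (homOfLE hle).op).hom hab
    rwa [← CommRingCat.comp_apply, ← CommRingCat.comp_apply, hli] at this
  have hcomp : Function.Injective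
      ((Y.presheaf.map (homOfLE (inf_le_left : V ⊓ f.opensRange ≤ V)).op ≫
        f.app (V ⊓ f.opensRange)).hom) := by
    rw [hnat]
    rw [CommRingCat.hom_comp, RingHom.coe_comp]
    exact hinj2.comp hinj
  rw [CommRingCat.hom_comp, RingHom.coe_comp] at hcomp
  exact Function.Injective.of_comp hcomp


/-- A dense open subscheme of a reduced scheme is schematically dense. -/
theorem isSchematicallyDense_of_dense_of_isReduced {Y : Scheme.{u}} [IsReduced Y] (W : Y.Opens)
    (hW : Dense (W : Set Y)) : CInt.IsSchematicallyDense W := by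
  intro V
  rw [injective_iff_map_eq_zero]
  intro s hs
  have h1 : (V ⊓ W) ⊓ Y.basicOpen s = ⊥ := by
    rw [← Scheme.basicOpen_res, hs, Scheme.basicOpen_zero]
  have h2 : Y.basicOpen s = ⊥ := by
    by_contra hne
    have hne' : (Y.basicOpen s : Set Y).Nonempty := by
      rw [Set.nonempty_iff_ne_empty]
      intro h
      exact hne (TopologicalSpace.Opens.ext h)
    obtain ⟨x, hx1, hx2⟩ := hW.inter_open_nonempty _ (Y.basicOpen s).isOpen hne'
    have : x ∈ ((V ⊓ W) ⊓ Y.basicOpen s : Y.Opens) := ⟨⟨Y.basicOpen_le s hx1, hx2⟩, hx1⟩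
    rw [h1] at this
    exact this
  exact (basicOpen_eq_bot_iff s).1 h2


variable {S : Scheme.{u}}

/-- Packaging `IsSchDense` from a chart on which the inverse image is a schematically dense open
immersion. -/
theorem isSchDense_of_chart {F G : Sp S} (j : G ⟶ F) (hj : RepWith @IsOpenImmersion j)
    {V GV : Over S} (φ : (yon S).obj V ⟶ F) (hφe : RepWith @Etale φ)
    (hφs : RepWith @Surjective φ) (jV : GV ⟶ V) [IsOpenImmersion jV.left]
    (fstV : (yon S).obj GV ⟶ G) (sq : IsPullback fstV ((yon S).map jV) j φ)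
    (hd : CInt.IsSchematicallyDense jV.left.opensRange) : IsSchDense j := by
  let W := jV.left.opensRange
  let WO : Over S := Over.mk (W.ι ≫ V.hom)
  let ιW : WO ⟶ V := Over.homMk W.ι rfl
  let e : WO ⟶ GV := Over.homMk jV.left.isoOpensRange.inv (by
    change jV.left.isoOpensRange.inv ≫ GV.hom = W.ι ≫ V.hom
    rw [← Over.w jV, ← Category.assoc, Scheme.Hom.isoOpensRange_inv_comp])
  have he : e ≫ jV = ιW := by
    ext1
    exact jV.left.isoOpensRange_inv_comp
  haveI : IsIso ((Over.forget S).map e) := (inferInstance : IsIso jV.left.isoOpensRange.inv)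
  haveI : IsIso e := isIso_of_reflects_iso e (Over.forget S)
  have sq1 : IsPullback ((yon S).map e) ((yon S).map ιW) ((yon S).map jV) (𝟙 _) :=
    IsPullback.of_horiz_isIso ⟨by rw [Category.comp_id, ← Functor.map_comp, he]⟩
  have sq2 := sq1.paste_horiz sq
  rw [Category.id_comp] at sq2
  exact ⟨hj, V, φ, W, (yon S).map e ≫ fstV, hφe, hφs, sq2, hd⟩

/-- Density on points can be checked on a surjective chart. -/
theorem dense_range_of_chart {F G : Sp S} (j : G ⟶ F) {V GV : Over S} (φ : (yon S).obj V ⟶ F)
    (hφs : RepWith @Surjective φ) (jV : GV ⟶ V) (fstV : (yon S).obj GV ⟶ G)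
    (comm : fstV ≫ j = (yon S).map jV ≫ φ) (hd : Dense (Set.range jV.left)) :
    Dense (Set.range (Points.map j)) := by
  rw [dense_iff_closure_eq, Set.eq_univ_iff_forall]
  intro x
  obtain ⟨v, rfl⟩ := surjective_ofPt φ hφs x
  have hcl : IsClosed (Points.ofPt φ ⁻¹' closure (Set.range (Points.map j))) :=
    isClosed_closure.preimage (Points.continuous_ofPt φ)
  have hsub : Set.range jV.left ⊆ Points.ofPt φ ⁻¹' closure (Set.range (Points.map j)) := by
    rintro _ ⟨g, rfl⟩
    apply subset_closure
    refine ⟨Points.ofPt fstV g, ?_⟩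
    rw [Points.map_ofPt, comm, ofPt_comp_yon_map]
  have := closure_minimal hsub hcl
  rw [hd.closure_eq] at this
  exact this (Set.mem_univ v)


/-- Two scheme theoretic images of the same morphism are isomorphic. -/
theorem exists_iso_of_isSchImage {Y X Z₁ Z₂ : Sp S} (f : Y ⟶ X) (c₁ : Z₁ ⟶ X) (c₂ : Z₂ ⟶ X)
    (hZ₁ : IsAlgSpace Z₁) (hZ₂ : IsAlgSpace Z₂) (h₁ : IsSchImage f c₁) (h₂ : IsSchImage f c₂) :
    ∃ e : Z₁ ≅ Z₂, e.hom ≫ c₂ = c₁ := by
  haveI : Mono c₁ := mono_of_repWith isClosedImmersion_le_mono _ h₁.1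
  haveI : Mono c₂ := mono_of_repWith isClosedImmersion_le_mono _ h₂.1
  obtain ⟨k, hk⟩ := h₁.2.2 c₂ hZ₂ h₂.1 h₂.2.1
  obtain ⟨k', hk'⟩ := h₂.2.2 c₁ hZ₁ h₁.1 h₁.2.1
  refine ⟨⟨k, k', ?_, ?_⟩, hk⟩
  · rw [← cancel_mono c₁, Category.assoc, hk', hk, Category.id_comp]
  · rw [← cancel_mono c₂, Category.assoc, hk, hk', Category.id_comp]

/-- A quasi-compact immersion is a scheme theoretically dense, topologically dense open immersion
into its scheme theoretic image. -/
theorem immersion_into_schImage_of_quasiCompact {Z X Zbar : Sp S} (hX : IsAlgSpace X)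
    (hZbar : IsAlgSpace Zbar) (h : Z ⟶ X) (hh : RepWith @IsImmersion h)
    (hq : IsQuasiCompactMor h) (c : Zbar ⟶ X) (hc : IsSchImage h c) (h' : Z ⟶ Zbar)
    (fac : h' ≫ c = h) :
    RepWith @IsOpenImmersion h' ∧ IsSchDense h' ∧ Dense (Set.range (Points.map h')) := by
  obtain ⟨U, p, hpe, hps⟩ := hX.atlas
  have hp₁ := repWith_mono etale_le_flat hpe
  have hp₂ := repWith_mono etale_le_lfp hpe
  have hrep := hh.rep
  have sqU := hrep.isPullback p
  have hqc : QuasiCompact (hrep.snd p).left :=
    (repWith_quasiCompact_of_isQuasiCompactMor h hh.rep hq).property_snd p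
  haveI himm : IsImmersion (hrep.snd p).left := hh.property_snd p
  haveI := hqc
  obtain ⟨Zbar₀, c₀, q, j₀, hsch₀, sqD, hj₀, sqJ⟩ :=
    exists_closed_of_chart_image h p hp₁ hp₂ hps (hrep.snd p) hqc (hrep.fst p) sqU
  haveI : Mono c₀ := mono_of_repWith isClosedImmersion_le_mono _ hsch₀.1
  haveI : Mono c := mono_of_repWith isClosedImmersion_le_mono _ hc.1
  have hZbar₀ : IsAlgSpace Zbar₀ := isAlgSpace_of_representable c₀ hsch₀.1.rep hX
  obtain ⟨e, he⟩ := exists_iso_of_isSchImage h c₀ c hZbar₀ hZbar hsch₀ hc
  have hh'j : j₀ ≫ e.hom = h' := by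
    rw [← cancel_mono c, Category.assoc, he, hj₀, fac]
  -- the chart of `Zbar`
  have hqe : RepWith @Etale q := (RepWith @Etale).of_isPullback sqD.flip hpe
  have hqs : RepWith @Surjective q := (RepWith @Surjective).of_isPullback sqD.flip hps
  have hφe : RepWith @Etale (q ≫ e.hom) := MorphismProperty.RespectsIso.postcomp _ e.hom _ hqe
  have hφs : RepWith @Surjective (q ≫ e.hom) :=
    MorphismProperty.RespectsIso.postcomp _ e.hom _ hqs
  have sq' : IsPullback (hrep.fst p) ((yon S).map (toImageOver (hrep.snd p))) h' (q ≫ e.hom) :=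
    IsPullback.of_iso sqJ (Iso.refl _) (Iso.refl _) (Iso.refl _) e (by simp) (by simp)
      (by simp [hh'j]) (by simp)
  -- `h'` is representable
  have hjpb : IsPullback (𝟙 Z) h' h c := by
    have := isPullback_id_of_comp_mono h' c
    rwa [fac] at this
  have hh'imm : RepWith @IsImmersion h' := (RepWith @IsImmersion).of_isPullback hjpb hh
  haveI := isLocallySurjective_of_etale_surjective (q ≫ e.hom) hφe hφs
  haveI hopen : IsOpenImmersion (toImageOver (hrep.snd p)).left :=
    (inferInstance : IsOpenImmersion (hrep.snd p).left.toImage)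
  have hh'open : RepWith @IsOpenImmersion h' :=
    repWith_of_isLocallySurjective_base h' hh'imm.rep (q ≫ e.hom) _ _ sq' _
      ((repWith_yon_map_iff _ _).2 hopen)
  refine ⟨hh'open, ?_, ?_⟩
  · refine isSchDense_of_chart h' hh'open (q ≫ e.hom) hφe hφs (toImageOver (hrep.snd p))
      (hrep.fst p) sq' ?_
    exact isSchematicallyDense_opensRange_of_dominant (hrep.snd p).left.toImage
  · refine dense_range_of_chart h' (q ≫ e.hom) hφs (toImageOver (hrep.snd p)) (hrep.fst p)
      sq'.w ?_
    exact (hrep.snd p).left.toImage.denseRange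


/-- An immersion of schemes with dense image into a reduced scheme is an open immersion. -/
theorem isOpenImmersion_of_isImmersion_of_dense {A B : Scheme.{u}} (f : A ⟶ B) [IsImmersion f]
    [IsReduced B] (hd : Dense (Set.range f)) : IsOpenImmersion f := by
  have hrange : Set.range f.liftCoborder = f.coborderRange.ι ⁻¹' Set.range f := by
    ext x
    constructor
    · rintro ⟨a, rfl⟩
      exact ⟨a, by rw [← Scheme.Hom.comp_apply, f.liftCoborder_ι]⟩
    · rintro ⟨a, ha⟩
      refine ⟨a, f.coborderRange.ι.injective ?_⟩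
      rw [← Scheme.Hom.comp_apply, f.liftCoborder_ι, ha]
  have hdense : Dense (Set.range f.liftCoborder) := by
    rw [hrange]
    exact hd.preimage f.coborderRange.ι.isOpenEmbedding.isOpenMap
  haveI : Surjective f.liftCoborder := by
    refine ⟨fun x => ?_⟩
    have h1 : Set.range f.liftCoborder = Set.univ := by
      rw [← f.liftCoborder.isClosedEmbedding.isClosed_range.closure_eq]
      exact hdense.closure_eq
    have h2 : x ∈ Set.range f.liftCoborder := h1 ▸ Set.mem_univ x
    exact h2
  haveI : IsIso f.liftCoborder := isIso_of_isClosedImmersion_of_surjective _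
  rw [← f.liftCoborder_ι]
  infer_instance

/-- An immersion from a reduced algebraic space is a scheme theoretically dense, topologically
dense open immersion into its scheme theoretic image. -/
theorem immersion_into_schImage_of_isReducedSp {Z X Zbar : Sp S} (hX : IsAlgSpace X)
    (h : Z ⟶ X) (hh : RepWith @IsImmersion h)
    (hred : IsReducedSp Z) (c : Zbar ⟶ X) (hc : IsSchImage h c) (h' : Z ⟶ Zbar)
    (fac : h' ≫ c = h) :
    RepWith @IsOpenImmersion h' ∧ IsSchDense h' ∧ Dense (Set.range (Points.map h')) := by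
  obtain ⟨hccl, hrange, hZbarred⟩ := isRedInduced_of_isSchImage_of_isReducedSp hX h c hred hc
  haveI : Mono c := mono_of_repWith isClosedImmersion_le_mono _ hccl
  -- density on points
  have hdense : Dense (Set.range (Points.map h')) := by
    obtain ⟨W, q, hqe, hqs⟩ := hX.atlas
    have hcm : IsClosedMor c := isClosedMor_of_repWith c (P := @IsClosedImmersion)
      (fun φ hφ => by haveI : IsClosedImmersion φ := hφ; exact φ.isClosedMap) hccl q hqe hqs
    have hinj : Function.Injective (Points.map c) := (injOnFieldPts_of_mono c).injective_points_map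
    rw [dense_iff_closure_eq, Set.eq_univ_iff_forall]
    intro z
    have hcl := hcm _ (isClosed_closure (s := Set.range (Points.map h')))
    have hsub : Set.range (Points.map h) ⊆ Points.map c '' closure (Set.range (Points.map h')) := by
      rintro _ ⟨x, rfl⟩
      exact ⟨Points.map h' x, subset_closure ⟨x, rfl⟩, by rw [← Points.map_comp, fac]⟩
    have h2 := closure_minimal hsub hcl
    rw [← hrange] at h2
    obtain ⟨z', hz', hzz'⟩ := h2 ⟨z, rfl⟩
    rw [← hinj hzz']
    exact hz'
  obtain ⟨V, φ, hφe, hφs, hV⟩ := hZbarred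
  haveI : IsReduced V.left := hV
  have hjpb : IsPullback (𝟙 Z) h' h c := by
    have := isPullback_id_of_comp_mono h' c
    rwa [fac] at this
  have hh'imm : RepWith @IsImmersion h' := (RepWith @IsImmersion).of_isPullback hjpb hh
  have hrep' := hh'imm.rep
  have sqV := hrep'.isPullback φ
  haveI himm : IsImmersion (hrep'.snd φ).left := hh'imm.property_snd φ
  have hdV : Dense (Set.range (hrep'.snd φ).left) := by
    rw [range_snd_left_eq sqV]
    exact hdense.preimage (isOpenMap_ofPt_of_etale φ hφe)
  haveI hopen : IsOpenImmersion (hrep'.snd φ).left :=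
    isOpenImmersion_of_isImmersion_of_dense _ hdV
  haveI := isLocallySurjective_of_etale_surjective φ hφe hφs
  have hh'open : RepWith @IsOpenImmersion h' :=
    repWith_of_isLocallySurjective_base h' hh'imm.rep φ _ _ sqV _
      ((repWith_yon_map_iff _ _).2 hopen)
  refine ⟨hh'open, ?_, hdense⟩
  refine isSchDense_of_chart h' hh'open φ hφe hφs (hrep'.snd φ) (hrep'.fst φ) sqV ?_
  refine isSchematicallyDense_of_dense_of_isReduced _ ?_
  rw [Scheme.Hom.coe_opensRange]
  exact hdV

end Groth.Agent.Helper15
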