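import Groth.Agent.Lib.Helper15.AlgSpSI4
import Groth.Agent.Lib.Helper15.AlgSpCD6

/-!
# Valuation rings reaching points of scheme theoretic images (Stacks 0894-style)
-/

set_option autoImplicit false
universe u
open CategoryTheory CategoryTheory.Limits AlgebraicGeometry Opposite MorphismProperty
open AlgSp IsLocalRing

namespace Groth.Agent.Helper15

/-- In a prime spectrum, a point in the closure of the image of `Spec A ⟶ Spec R` is a
specialization of a point of the image. -/
theorem exists_comap_specializes_of_mem_closure {R A : Type u} [CommRing R] [CommRing A]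
    (φ : R →+* A) (z : PrimeSpectrum R) (hz : z ∈ closure (Set.range (PrimeSpectrum.comap φ))) :
    ∃ w : PrimeSpectrum A, PrimeSpectrum.comap φ w ⤳ z := by
  rw [PrimeSpectrum.closure_range_comap, PrimeSpectrum.mem_zeroLocus] at hz
  have hz' : RingHom.ker φ ≤ z.asIdeal := hz
  obtain ⟨q, hq, hqz⟩ := Ideal.exists_minimalPrimes_le hz'
  obtain ⟨p', hp', -, hcomap⟩ := Ideal.exists_comap_eq_of_mem_minimalPrimes (I := ⊥) φ q (by
    rwa [← RingHom.ker_eq_comap_bot])
  refine ⟨⟨p', hp'⟩, ?_⟩
  rw [← PrimeSpectrum.le_iff_specializes]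
  change Ideal.comap φ p' ≤ z.asIdeal
  rw [hcomap]; exact hqz

theorem exists_specializes_of_mem_closure_range_spec {R A : CommRingCat.{u}} (φ : R ⟶ A)
    (z : Spec R) (hz : z ∈ closure (Set.range (Spec.map φ))) :
    ∃ w : Spec A, Spec.map φ w ⤳ z :=
  exists_comap_specializes_of_mem_closure φ.hom z hz

theorem exists_specializes_of_mem_closure_range_affine {W U : Scheme.{u}} [IsAffine W]
    [IsAffine U] (g : W ⟶ U) (z : U) (hz : z ∈ closure (Set.range g)) :
    ∃ w : W, g w ⤳ z := by
  have e : g ≫ U.isoSpec.hom = W.isoSpec.hom ≫ Spec.map g.appTop :=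
    (Scheme.isoSpec_hom_naturality g).symm
  have hz' : U.isoSpec.hom z ∈ closure (Set.range (Spec.map g.appTop)) := by
    have h1 := image_closure_subset_closure_image (f := U.isoSpec.hom)
      (s := Set.range g) U.isoSpec.hom.continuous ⟨z, hz, rfl⟩
    refine closure_mono ?_ h1
    rintro _ ⟨_, ⟨w, rfl⟩, rfl⟩
    refine ⟨W.isoSpec.hom w, ?_⟩
    rw [← Scheme.Hom.comp_apply, ← e, Scheme.Hom.comp_apply]
  obtain ⟨w, hw⟩ := exists_specializes_of_mem_closure_range_spec g.appTop _ hz'
  refine ⟨W.isoSpec.inv w, ?_⟩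
  have h2 : U.isoSpec.hom (g (W.isoSpec.inv w)) = Spec.map g.appTop w := by
    rw [← Scheme.Hom.comp_apply, ← Scheme.Hom.comp_apply, e]
    simp
  have h3 := hw.map U.isoSpec.inv.continuous
  rw [← h2] at h3
  simpa using h3

theorem exists_specializes_of_mem_closure_range {W U : Scheme.{u}} [CompactSpace W]
    [IsAffine U] (g : W ⟶ U) (z : U) (hz : z ∈ closure (Set.range g)) :
    ∃ w : W, g w ⤳ z := by
  let 𝒰 := W.affineCover.finiteSubcover
  haveI : Finite 𝒰.I₀ := inferInstance
  have hr : Set.range g = ⋃ j : 𝒰.I₀, Set.range (𝒰.f j ≫ g) := by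
    ext y
    simp only [Set.mem_range, Set.mem_iUnion]
    constructor
    · rintro ⟨w, rfl⟩
      obtain ⟨j, v, rfl⟩ := 𝒰.exists_eq w
      exact ⟨j, v, rfl⟩
    · rintro ⟨j, v, rfl⟩
      exact ⟨𝒰.f j v, rfl⟩
  rw [hr, closure_iUnion_of_finite, Set.mem_iUnion] at hz
  obtain ⟨j, hj⟩ := hz
  haveI : IsAffine (𝒰.X j) := by
    change IsAffine (W.affineCover.X _); infer_instance
  obtain ⟨v, hv⟩ := exists_specializes_of_mem_closure_range_affine (𝒰.f j ≫ g) z hj
  exact ⟨𝒰.f j v, hv⟩

variable {S : Scheme.{u}}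

/-- A closed immersion into `Spec A` through which `Spec K ⟶ Spec A` factors, for `A → K` injective, is an iso. -/
theorem isIso_of_isClosedImmersion_of_factors' {A K : CommRingCat.{u}} (φ : A ⟶ K)
    (hφ : Function.Injective φ.hom) {W : Scheme.{u}} (g : W ⟶ Spec A) [IsClosedImmersion g]
    (k : Spec K ⟶ W) (hk : k ≫ g = Spec.map φ) : IsIso g := by
  apply IsClosedImmersion.isIso_of_injective_of_isAffine
  have h1 : g.appTop ≫ k.appTop = (Spec.map φ).appTop := by
    rw [← Scheme.Hom.comp_appTop, hk]
  have h2 : Function.Injective (Spec.map φ).appTop.hom := by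
    have := Scheme.ΓSpecIso_naturality φ
    have h3 : (Spec.map φ).appTop = (Scheme.ΓSpecIso A).hom ≫ φ ≫ (Scheme.ΓSpecIso K).inv := by
      rw [← Category.assoc, ← this]; simp
    rw [h3]
    simp only [CommRingCat.hom_comp, RingHom.coe_comp]
    exact ((ConcreteCategory.bijective_of_isIso (Scheme.ΓSpecIso K).inv).1.comp hφ).comp
      (ConcreteCategory.bijective_of_isIso (Scheme.ΓSpecIso A).hom).1
  rw [← h1] at h2
  simp only [CommRingCat.hom_comp, RingHom.coe_comp] at h2
  exact Function.Injective.of_comp h2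

/-- A map from `Spec A` whose restriction to `Spec K` (`A ⊆ K`) factors through a closed immersion
factors through it. -/
theorem exists_factor_closedImmersion_of_generic {Z Y : Sp S} (i : Z ⟶ Y)
    (hi : RepWith @IsClosedImmersion i) {A K : Type u} [CommRing A] [CommRing K] [Algebra A K]
    (hinj : Function.Injective (algebraMap A K)) (str : Spec (CommRingCat.of A) ⟶ S)
    (a' : (yon S).obj (Over.mk str) ⟶ Y)
    (ξ : (yon S).obj (Over.mk (Spec.map (CommRingCat.ofHom (algebraMap A K)) ≫ str)) ⟶ Z)
    (h : ξ ≫ i = (yon S).map (Over.homMk (Spec.map (CommRingCat.ofHom (algebraMap A K))) rfl :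
      Over.mk (Spec.map (CommRingCat.ofHom (algebraMap A K)) ≫ str) ⟶ Over.mk str) ≫ a') :
    ∃ a : (yon S).obj (Over.mk str) ⟶ Z, a ≫ i = a' := by
  have hrep := hi.rep
  have hpb := hrep.isPullback a'
  have hcl : IsClosedImmersion (hrep.snd a').left := hi.property_snd a'
  obtain ⟨k, hk⟩ := (yon S).map_surjective (hpb.lift ξ _ h)
  have hk2 : k ≫ hrep.snd a' = CategoryTheory.Over.homMk (Spec.map (CommRingCat.ofHom (algebraMap A K))) rfl :=
    (yon S).map_injective (by rw [Functor.map_comp, hk, hpb.lift_snd])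
  have hk3 : k.left ≫ (hrep.snd a').left = Spec.map (CommRingCat.ofHom (algebraMap A K)) := by
    rw [← Over.comp_left, hk2]; rfl
  haveI : IsIso (hrep.snd a').left := isIso_of_isClosedImmersion_of_factors'
    (CommRingCat.ofHom (algebraMap A K)) hinj _ k.left hk3
  haveI : IsIso ((Over.forget S).map (hrep.snd a')) := this
  haveI : IsIso (hrep.snd a') := isIso_of_reflects_iso _ (Over.forget S)
  refine ⟨inv ((yon S).map (hrep.snd a')) ≫ hrep.fst a', ?_⟩
  rw [Category.assoc, hpb.w, IsIso.inv_hom_id_assoc]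

set_option backward.isDefEq.respectTransparency.types false in
theorem exists_valuationRing_to_schImage {X Y Z : Sp S} (hY : IsAlgSpace Y) (f : X ⟶ Y) (i : Z ⟶ Y)
    (hq : IsQuasiCompactMor f) (hZ : IsSchImage f i) (z : Points Z) :
    ∃ (A : Type u) (_ : CommRing A) (_ : IsDomain A) (_ : ValuationRing A)
      (str : Spec (CommRingCat.of A) ⟶ S) (a : (yon S).obj (Over.mk str) ⟶ Z)
      (x : (yon S).obj (Over.mk (Spec.map (CommRingCat.ofHom (algebraMap A (FractionRing A))) ≫ str)) ⟶ X),
      Points.ofPt a (IsLocalRing.closedPoint A) = z ∧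
      x ≫ f = (yon S).map (CategoryTheory.Over.homMk (Spec.map (CommRingCat.ofHom (algebraMap A (FractionRing A)))) rfl) ≫
        a ≫ i := by
  obtain ⟨hcl, ⟨f', hf'⟩, huniv⟩ := hZ
  haveI : Mono i := mono_of_repWith (P := @IsClosedImmersion)
    (fun _ _ g hg => by haveI := hg; exact (inferInstance : Mono g)) i hcl
  obtain ⟨B, U, p, hUaff, hpe, hpcov⟩ := exists_affine_charts hY
  obtain ⟨b, u, hu⟩ := hpcov (Points.map i z)
  haveI := hUaff b
  obtain ⟨D⟩ := nonempty_coverDatum f hq (p b)
  obtain ⟨q, sq⟩ := isPullback_imageOver_of_isSchImage hY f hq i ⟨hcl, ⟨f', hf'⟩, huniv⟩ (p b)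
    (hpe b) D
  obtain ⟨pt, hpt1, hpt2⟩ := exists_point_of_isPullback sq z (Points.ofScheme (U b) u)
    (by rw [← Points.ofPt_eq_map_ofScheme]; exact hu.symm)
  obtain ⟨z', rfl⟩ := (Points.schemeEquiv _).surjective pt
  have hz'u : (imageOverι D.g).left z' = u := by
    change Points.map _ (Points.ofScheme _ z') = _ at hpt2
    rw [← Points.ofPt_eq_map_ofScheme, ofPt_yon_map] at hpt2
    exact (Points.schemeEquiv (U b)).injective hpt2
  haveI := D.compact
  haveI : QuasiCompact D.g.left :=
    (HasAffineProperty.iff_of_isAffine (P := @QuasiCompact)).2 inferInstance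
  have hucl : u ∈ closure (Set.range D.g.left) := by
    rw [← Scheme.Hom.support_ker, ← Scheme.IdealSheafData.range_subschemeι]
    exact ⟨z', hz'u⟩
  obtain ⟨w', hw'⟩ := exists_specializes_of_mem_closure_range D.g.left u hucl
  let sres : (U b).left.presheaf.stalk u ⟶ D.W.left.residueField w' :=
    (U b).left.presheaf.stalkSpecializes hw' ≫ D.g.left.stalkMap w' ≫ D.W.left.residue w'
  obtain ⟨A, hA, hA_local⟩ := exists_factor_valuationRing sres.hom
  let toA : (U b).left.presheaf.stalk u ⟶ .of A := CommRingCat.ofHom (sres.hom.codRestrict _ hA)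
  have hw'' : D.W.left.fromSpecResidueField w' ≫ D.g.left =
      Spec.map (CommRingCat.ofHom (algebraMap A (D.W.left.residueField w'))) ≫
        Spec.map toA ≫ (U b).left.fromSpecStalk u := by
    rw [Scheme.fromSpecResidueField, Category.assoc, ← Scheme.SpecMap_stalkMap_fromSpecStalk,
      ← Scheme.SpecMap_stalkSpecializes_fromSpecStalk hw']
    simp_rw [← Spec.map_comp_assoc]
    rfl
  obtain ⟨strA, hstrA⟩ : ∃ s : Spec (.of A) ⟶ S,
      s = (Spec.map toA ≫ (U b).left.fromSpecStalk u) ≫ (U b).hom := ⟨_, rfl⟩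
  let β : Over.mk strA ⟶ U b :=
    CategoryTheory.Over.homMk (Spec.map toA ≫ (U b).left.fromSpecStalk u) hstrA.symm
  have hρ : D.W.left.fromSpecResidueField w' ≫ D.W.hom =
      Spec.map (CommRingCat.ofHom (algebraMap A (D.W.left.residueField w'))) ≫ strA := by
    rw [← CategoryTheory.Over.w D.g, ← Category.assoc, hw'']
    simp only [hstrA, Category.assoc]
  let ρ : Over.mk (Spec.map (CommRingCat.ofHom (algebraMap A (D.W.left.residueField w'))) ≫ strA) ⟶
      D.W := CategoryTheory.Over.homMk (D.W.left.fromSpecResidueField w') hρ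
  let jj : Over.mk (Spec.map (CommRingCat.ofHom (algebraMap A (D.W.left.residueField w'))) ≫ strA) ⟶
      Over.mk strA := CategoryTheory.Over.homMk (Spec.map (CommRingCat.ofHom (algebraMap A _))) rfl
  have hρg : ρ ≫ D.g = jj ≫ β := by
    ext
    exact hw''
  -- the generic point maps compatibly
  have hgen : ((yon S).map ρ ≫ D.w ≫ pullback.fst f (p b)) ≫ f = (yon S).map jj ≫ (yon S).map β ≫ p b := by
    rw [Category.assoc, Category.assoc, pullback.condition, ← Category.assoc D.w, ← D.hg,
      ← Category.assoc, ← Functor.map_comp, hρg, Functor.map_comp, Category.assoc]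
  obtain ⟨a, ha⟩ := exists_factor_closedImmersion_of_generic i hcl
    (A := A) (K := D.W.left.residueField w')
    (IsFractionRing.injective A (D.W.left.residueField w')) strA ((yon S).map β ≫ p b)
    (((yon S).map ρ ≫ D.w ≫ pullback.fst f (p b)) ≫ f') (by
      rw [Category.assoc, hf']; exact hgen)
  -- the fraction field
  let eK : D.W.left.residueField w' →+* FractionRing A :=
    (FractionRing.algEquiv A (D.W.left.residueField w')).symm.toAlgHom.toRingHom
  have heK : eK.comp (algebraMap A (D.W.left.residueField w')) = algebraMap A (FractionRing A) := by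
    ext r
    exact (FractionRing.algEquiv A (D.W.left.residueField w')).symm.commutes r
  have hε : Spec.map (CommRingCat.ofHom eK) ≫
      Spec.map (CommRingCat.ofHom (algebraMap A (D.W.left.residueField w'))) =
      Spec.map (CommRingCat.ofHom (algebraMap A (FractionRing A))) := by
    rw [← Spec.map_comp, ← CommRingCat.ofHom_comp, heK]
  let ε : Over.mk (Spec.map (CommRingCat.ofHom (algebraMap A (FractionRing A))) ≫ strA) ⟶
      Over.mk (Spec.map (CommRingCat.ofHom (algebraMap A (D.W.left.residueField w'))) ≫ strA) :=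
    CategoryTheory.Over.homMk (Spec.map (CommRingCat.ofHom eK)) (by
      change Spec.map (CommRingCat.ofHom eK) ≫ Spec.map _ ≫ strA = _
      rw [← Category.assoc, hε]; rfl)
  have hεj : ε ≫ jj = CategoryTheory.Over.homMk
      (Spec.map (CommRingCat.ofHom (algebraMap A (FractionRing A)))) rfl := by
    ext
    exact hε
  refine ⟨A, inferInstance, inferInstance, inferInstance, strA, a,
    (yon S).map ε ≫ (yon S).map ρ ≫ D.w ≫ pullback.fst f (p b), ?_, ?_⟩
  · apply (injOnFieldPts_of_mono i).injective_points_map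
    rw [Points.map_ofPt, ha, ofPt_comp_yon_map, ← hu]
    congr 1
    change ((U b).left.fromSpecStalk u) (Spec.map toA (closedPoint A)) = u
    have h2 : Spec.map toA (closedPoint A) = closedPoint ((U b).left.presheaf.stalk u) :=
      comap_closedPoint (S := A) (sres.hom.codRestrict A.toSubring hA)
    rw [h2, (U b).left.fromSpecStalk_closedPoint]
  · rw [Category.assoc, Category.assoc, Category.assoc]
    have := hgen
    simp only [Category.assoc] at this
    rw [this, ha, ← Category.assoc, ← Functor.map_comp, hεj]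

end Groth.Agent.Helper15
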