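import Mathlib
import Groth.Agent.Lib.Helper15.AlgSpSI5

/-!
# Valuation rings along specializations, and lifting along flat morphisms
-/

set_option autoImplicit false
universe u
open CategoryTheory CategoryTheory.Limits AlgebraicGeometry Opposite MorphismProperty
open AlgSp IsLocalRing

namespace Groth.Agent.Helper15.ValLift

open Groth.Agent.Helper15

variable {S : Scheme.{u}}

/-- For a specialization `u ⤳ u'` in a scheme there is a valuation ring of the residue field of
`u` and a morphism from its spectrum sending the closed point to `u'` and restricting to the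
canonical morphism at the generic point. -/
theorem exists_valuationRing_of_specializes {U : Scheme.{u}} {u u' : U} (h : u ⤳ u') :
    ∃ (A' : ValuationSubring (U.residueField u)) (β : Spec (.of A') ⟶ U),
      β (closedPoint A') = u' ∧
      Spec.map (CommRingCat.ofHom (algebraMap A' (U.residueField u))) ≫ β =
        U.fromSpecResidueField u := by
  let sres : U.presheaf.stalk u' ⟶ U.residueField u :=
    U.presheaf.stalkSpecializes h ≫ U.residue u
  obtain ⟨A, hA, hA_local⟩ := exists_factor_valuationRing sres.hom
  let toA : U.presheaf.stalk u' ⟶ .of A := CommRingCat.ofHom (sres.hom.codRestrict _ hA)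
  refine ⟨A, Spec.map toA ≫ U.fromSpecStalk u', ?_, ?_⟩
  · change (U.fromSpecStalk u') (Spec.map toA (closedPoint A)) = u'
    have h2 : Spec.map toA (closedPoint A) = closedPoint (U.presheaf.stalk u') :=
      comap_closedPoint (S := A) (sres.hom.codRestrict A.toSubring hA)
    rw [h2, U.fromSpecStalk_closedPoint]
  · rw [Scheme.fromSpecResidueField, ← Scheme.SpecMap_stalkSpecializes_fromSpecStalk h]
    simp_rw [← Spec.map_comp_assoc]
    rfl


/-- The generic point of the spectrum of a domain. -/
noncomputable def genPt (A : Type u) [CommRing A] [IsDomain A] : Spec (CommRingCat.of A) :=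
  (⊥ : PrimeSpectrum A)

theorem genPt_specializes (A : Type u) [CommRing A] [IsDomain A] (x : Spec (CommRingCat.of A)) :
    genPt A ⤳ x :=
  (PrimeSpectrum.le_iff_specializes (⊥ : PrimeSpectrum A) x).1 bot_le

/-- The image of the point of the spectrum of a field `K` under `Spec K ⟶ Spec A`, for `A ⟶ K`
injective, is the generic point. -/
theorem specMap_eq_genPt {A K : Type u} [CommRing A] [IsDomain A] [Field K] (φ : A →+* K)
    (hφ : Function.Injective φ) (pt : Spec (CommRingCat.of K)) :
    Spec.map (CommRingCat.ofHom φ) pt = genPt A := by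
  apply PrimeSpectrum.ext
  change Ideal.comap φ pt.asIdeal = ⊥
  have : pt.asIdeal = ⊥ := Ideal.eq_bot_of_prime pt.asIdeal
  rw [this, ← RingHom.ker_eq_comap_bot]
  exact (RingHom.injective_iff_ker_eq_bot φ).1 hφ

/-- A ring map between domains whose spectrum map preserves generic points is injective. -/
theorem injective_of_specMap_genPt {A A' : Type u} [CommRing A] [IsDomain A] [CommRing A']
    [IsDomain A'] (φ : A →+* A') (h : Spec.map (CommRingCat.ofHom φ) (genPt A') = genPt A) :
    Function.Injective φ := by
  rw [RingHom.injective_iff_ker_eq_bot, RingHom.ker_eq_comap_bot]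
  have := congrArg PrimeSpectrum.asIdeal h
  exact this

/-- A ring map between local rings whose spectrum map preserves closed points is local. -/
theorem isLocalHom_of_specMap_closedPoint {A A' : Type u} [CommRing A] [IsLocalRing A]
    [CommRing A'] [IsLocalRing A'] (φ : A →+* A')
    (h : Spec.map (CommRingCat.ofHom φ) (closedPoint A') = closedPoint A) : IsLocalHom φ :=
  (isLocalHom_iff_comap_closedPoint φ).2 h

/-- Lifting valuation rings along flat morphisms of schemes, after an extension. -/
theorem exists_valuationRing_lift_of_flat {U : Scheme.{u}} {A : Type u} [CommRing A] [IsDomain A]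
    [ValuationRing A] (g : U ⟶ Spec (CommRingCat.of A)) [Flat g] (u' : U)
    (hu' : g u' = closedPoint A) :
    ∃ (A' : Type u) (_ : CommRing A') (_ : IsDomain A') (_ : ValuationRing A') (φ : A →+* A')
      (β : Spec (CommRingCat.of A') ⟶ U),
      Function.Injective φ ∧ IsLocalHom φ ∧ β ≫ g = Spec.map (CommRingCat.ofHom φ) ∧
        β (closedPoint A') = u' := by
  have hgen : genPt A ⤳ g u' := genPt_specializes A _
  obtain ⟨u, huu', hgu⟩ := Flat.generalizingMap g hgen
  obtain ⟨A', β, hβ1, hβ2⟩ := exists_valuationRing_of_specializes huu'
  let φ : A →+* A' := (Spec.preimage (β ≫ g)).hom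
  have hφ : Spec.map (CommRingCat.ofHom φ) = β ≫ g := Spec.map_preimage _
  refine ⟨A', inferInstance, inferInstance, inferInstance, φ, β, ?_, ?_, hφ.symm, hβ1⟩
  · apply injective_of_specMap_genPt
    rw [hφ]
    have hpt : Nonempty (Spec (CommRingCat.of (U.residueField u))) := inferInstance
    obtain ⟨pt⟩ := hpt
    have h1 : Spec.map (CommRingCat.ofHom (algebraMap A' (U.residueField u))) pt = genPt A' :=
      specMap_eq_genPt _ (IsFractionRing.injective A' (U.residueField u)) pt
    have h2 : β (Spec.map (CommRingCat.ofHom (algebraMap A' (U.residueField u))) pt) = u := by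
      rw [← Scheme.Hom.comp_apply, hβ2, Scheme.fromSpecResidueField_apply]
    rw [← h1, Scheme.Hom.comp_apply, h2, hgu]
  · apply isLocalHom_of_specMap_closedPoint
    rw [hφ, Scheme.Hom.comp_apply, hβ1, hu']

end Groth.Agent.Helper15.ValLift
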