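import Mathlib
import Groth.Agent.Lib.Helper15.ValLift
import Groth.Agent.Lib.Helper15.AlgSpField
import Groth.Agent.Lib.Helper15.SchemeClosedImm

/-!
# Existence part of the valuative criterion for universally closed morphisms
-/

set_option autoImplicit false
universe u
open CategoryTheory CategoryTheory.Limits AlgebraicGeometry Opposite MorphismProperty
open AlgSp IsLocalRing

namespace Groth.Agent.Helper15.ValExist

open Groth.Agent.Helper15 Groth.Agent.Helper15.ValLift

variable {S : Scheme.{u}}

/-- For a specialization `u ⤳ u'` in a scheme and a field extension `L` of the residue field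
of `u`, there is a valuation ring of `L` and a morphism from its spectrum sending the closed point
to `u'` and restricting to the canonical morphism at the generic point. -/
theorem exists_valuationRing_of_specializes_field {U : Scheme.{u}} {u u' : U} (h : u ⤳ u')
    {L : Type u} [Field L] (φ : U.residueField u ⟶ CommRingCat.of L) :
    ∃ (A' : ValuationSubring L) (β : Spec (.of A') ⟶ U),
      β (closedPoint A') = u' ∧
      Spec.map (CommRingCat.ofHom (algebraMap A' L)) ≫ β =
        Spec.map φ ≫ U.fromSpecResidueField u := by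
  let sres : U.presheaf.stalk u' ⟶ CommRingCat.of L :=
    U.presheaf.stalkSpecializes h ≫ U.residue u ≫ φ
  obtain ⟨A, hA, hA_local⟩ := exists_factor_valuationRing sres.hom
  let toA : U.presheaf.stalk u' ⟶ .of A := CommRingCat.ofHom (sres.hom.codRestrict _ hA)
  refine ⟨A, Spec.map toA ≫ U.fromSpecStalk u', ?_, ?_⟩
  · change (U.fromSpecStalk u') (Spec.map toA (closedPoint A)) = u'
    have h2 : Spec.map toA (closedPoint A) = closedPoint (U.presheaf.stalk u') :=
      comap_closedPoint (S := A) (sres.hom.codRestrict A.toSubring hA)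
    rw [h2, U.fromSpecStalk_closedPoint]
  · rw [Scheme.fromSpecResidueField, ← Scheme.SpecMap_stalkSpecializes_fromSpecStalk h]
    simp_rw [← Spec.map_comp_assoc]
    rfl

/-- A compact scheme etale over a field is finite. -/
theorem finite_of_compact_etale_over_field {W : Scheme.{u}} [CompactSpace W] {k : Type u}
    [Field k] (h : W ⟶ Spec (CommRingCat.of k)) [Etale h] : Finite W := by
  haveI : LocallyQuasiFinite h := locallyQuasiFinite_of_etale h
  haveI : DiscreteTopology W := discreteTopology_of_etale_over_field h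
  exact finite_of_compact_of_discrete


/-- **Core lemma.** For a universally closed morphism, a valuative square has a lift after a
dominating extension as soon as the fibres of the affine etale charts of the base change to the
valuation ring over the given `K`-point are finite. -/
theorem hasLiftExt_of_finite_fibres {X Y : Sp S} (hX : IsAlgSpace X) (hY : IsAlgSpace Y)
    (f : X ⟶ Y) (hc : IsUnivClosedMor f) (sq : ValSq f)
    (hfin : ∀ (U : Over S) (a : (yon S).obj U ⟶ pullback f sq.bot), IsAffine U.left →
      RepWith @Etale a → ∀ σ : (yon S).obj sq.ptK ⟶ pullback f sq.bot,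
      σ ≫ pullback.snd f sq.bot = (yon S).map sq.j →
      {u : U.left | Points.ofPt a u = Points.ofPt σ (closedPoint sq.K)}.Finite) :
    sq.HasLiftExt := by
  have pb : IsPullback (pullback.fst f sq.bot) (pullback.snd f sq.bot) f sq.bot :=
    IsPullback.of_hasPullback _ _
  have hP : IsAlgSpace (pullback f sq.bot) :=
    isAlgSpace_of_isPullback hY.diag hX (IsAlgSpace.yon_obj _) pb
  let σ : (yon S).obj sq.ptK ⟶ pullback f sq.bot := pb.lift sq.top ((yon S).map sq.j) sq.comm
  have hσ1 : σ ≫ pullback.fst f sq.bot = sq.top := pb.lift_fst _ _ _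
  have hσ2 : σ ≫ pullback.snd f sq.bot = (yon S).map sq.j := pb.lift_snd _ _ _
  let ptK : sq.ptK.left := closedPoint sq.K
  set xK := Points.ofPt σ ptK with hxK
  -- the image of the closure of `xK` contains the closed point
  have hcl : IsClosedMap (Points.map (pullback.snd f sq.bot)) :=
    hc (IsAlgSpace.yon_obj _) sq.bot _ _ pb
  have himg : IsClosed (Points.map (pullback.snd f sq.bot) '' closure {xK}) :=
    hcl _ isClosed_closure
  have hη : Points.map (pullback.snd f sq.bot) xK = Points.ofScheme sq.ptA (genPt sq.A) := by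
    rw [hxK, Points.map_ofPt, hσ2, ofPt_yon_map]
    congr 1
    exact specMap_eq_genPt _ (IsFractionRing.injective sq.A sq.K) ptK
  have hspec : Points.ofScheme sq.ptA (genPt sq.A) ⤳ Points.ofScheme sq.ptA (closedPoint sq.A) :=
    (genPt_specializes sq.A (closedPoint sq.A)).map (Points.schemeHomeo sq.ptA).continuous
  have hm : Points.ofScheme sq.ptA (closedPoint sq.A) ∈
      Points.map (pullback.snd f sq.bot) '' closure {xK} :=
    hspec.mem_closed himg ⟨xK, subset_closure rfl, hη⟩
  obtain ⟨x', hx'cl, hx'm⟩ := hm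
  -- an affine etale chart through `x'`
  obtain ⟨U, hU, a, u', hae, hu'⟩ := exists_affine_etale_nbhd hP x'
  obtain ⟨g, hg⟩ := (yon S).map_surjective (a ≫ pullback.snd f sq.bot)
  have hgu' : g.left u' = closedPoint sq.A := by
    have h1 : Points.ofPt ((yon S).map g) u' = Points.ofScheme sq.ptA (closedPoint sq.A) := by
      rw [hg, ← Points.map_ofPt, hu', hx'm]
    have h2 := congrArg (Points.toScheme sq.ptA) h1
    rw [Points.toScheme_ofPt] at h2
    rw [h2]
    exact (Points.schemeEquiv sq.ptA).left_inv _
  -- a generalization of `u'` over `xK`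
  have hopen : IsOpenMap (Points.ofPt a) := isOpenMap_ofPt_of_etale a hae
  have hF := hfin U a hU hae σ hσ2
  have hu'cl : u' ∈ closure {u : U.left | Points.ofPt a u = xK} := by
    have h1 : u' ∈ Points.ofPt a ⁻¹' closure {xK} := by
      rw [Set.mem_preimage, hu']; exact hx'cl
    exact hopen.preimage_closure_subset_closure_preimage h1
  have hex : ∃ u : U.left, Points.ofPt a u = xK ∧ u ⤳ u' := by
    have h2 : {u : U.left | Points.ofPt a u = xK} =
        ⋃ u ∈ {u : U.left | Points.ofPt a u = xK}, {u} := (Set.biUnion_of_singleton _).symm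
    rw [h2, hF.closure_biUnion] at hu'cl
    simp only [Set.mem_iUnion] at hu'cl
    obtain ⟨u, hu, hu2⟩ := hu'cl
    exact ⟨u, hu, specializes_iff_mem_closure.2 hu2⟩
  obtain ⟨u, huK, huu'⟩ := hex
  -- the point of the fibre product
  obtain ⟨W, pW, qW, sqW⟩ : ∃ (W : Over S) (pW : W ⟶ U) (qW : W ⟶ sq.ptK),
      IsPullback ((yon S).map pW) ((yon S).map qW) a σ := ⟨_, _, _, hae.rep.isPullback' σ⟩
  obtain ⟨w, hw1, -⟩ := exists_of_ofPt_eq sqW u ptK huK
  subst hw1
  -- the valuation ring
  obtain ⟨A', β, hβ1, hβ2⟩ := exists_valuationRing_of_specializes_field huu'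
    (L := W.left.residueField w) (pW.left.residueFieldMap w)
  rw [Scheme.Hom.SpecMap_residueFieldMap_fromSpecResidueField] at hβ2
  let φA : sq.A →+* A' :=
    (Spec.preimage (β ≫ g.left : Spec (.of A') ⟶ Spec (.of sq.A))).hom
  have hφA : Spec.map (CommRingCat.ofHom φA) = β ≫ g.left := Spec.map_preimage _
  let ψ : sq.K →+* W.left.residueField w :=
    (Spec.preimage (W.left.fromSpecResidueField w ≫ qW.left :
      Spec (.of (W.left.residueField w)) ⟶ Spec (.of sq.K))).hom
  have hψ : Spec.map (CommRingCat.ofHom ψ) = W.left.fromSpecResidueField w ≫ qW.left :=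
    Spec.map_preimage _
  -- compatibility of the two projections of `W` over `Spec A`
  have hWcomm : pW ≫ g = qW ≫ sq.j := by
    apply (yon S).map_injective
    rw [Functor.map_comp, Functor.map_comp, hg, ← hσ2, ← Category.assoc, ← Category.assoc, sqW.w]
  have hWcomm' : pW.left ≫ g.left = qW.left ≫ sq.j.left := by
    rw [← Over.comp_left, ← Over.comp_left, hWcomm]
  have hcomm : (algebraMap A' (W.left.residueField w)).comp φA =
      ψ.comp (algebraMap sq.A sq.K) := by
    have h1 : CommRingCat.ofHom ((algebraMap A' (W.left.residueField w)).comp φA) =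
        CommRingCat.ofHom (ψ.comp (algebraMap sq.A sq.K)) := by
      apply Spec.map_injective
      have e1 : CommRingCat.ofHom ((algebraMap A' (W.left.residueField w)).comp φA) =
          CommRingCat.ofHom φA ≫ CommRingCat.ofHom (algebraMap A' (W.left.residueField w)) := rfl
      have e2 : CommRingCat.ofHom (ψ.comp (algebraMap sq.A sq.K)) =
          CommRingCat.ofHom (algebraMap sq.A sq.K) ≫ CommRingCat.ofHom ψ := rfl
      rw [e1, e2, Spec.map_comp, Spec.map_comp, hφA, hψ,
        ← Category.assoc, hβ2, Category.assoc, hWcomm', Category.assoc]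
      rfl
    exact congrArg CommRingCat.Hom.hom h1
  have hloc : IsLocalHom φA := by
    apply isLocalHom_of_specMap_closedPoint
    rw [hφA, Scheme.Hom.comp_apply, hβ1, hgu']
  let e : sq.DomExt :=
    { A' := A', K' := W.left.residueField w, φ := φA, ψ := ψ, comm := hcomm, isLocalHom := hloc }
  refine ⟨e, ?_⟩
  -- the lift
  have hwβ : β ≫ U.hom = Spec.map (CommRingCat.ofHom φA) ≫ sq.str := by
    rw [← Over.w g, ← Category.assoc, hφA]
    rfl
  let β' : e.ptA' ⟶ U := Over.homMk β hwβ
  have hβ'g : β' ≫ g = (Over.homMk (Spec.map (CommRingCat.ofHom e.φ)) rfl : e.ptA' ⟶ sq.ptA) := by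
    ext
    exact hφA.symm
  -- the point `Spec K' ⟶ W`
  have hwρ : W.left.fromSpecResidueField w ≫ W.hom = e.ptK'.hom := by
    change _ = Spec.map (CommRingCat.ofHom (algebraMap A' (W.left.residueField w))) ≫
      Spec.map (CommRingCat.ofHom φA) ≫ sq.str
    rw [← Over.w pW, ← Category.assoc, ← hβ2, Category.assoc, hwβ]
  let ρ : e.ptK' ⟶ W := Over.homMk (W.left.fromSpecResidueField w) hwρ
  have hρ1 : (Over.homMk (Spec.map (CommRingCat.ofHom (algebraMap e.A' e.K'))) rfl :
      e.ptK' ⟶ e.ptA') ≫ β' = ρ ≫ pW := by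
    ext
    exact hβ2
  have hρ2 : ∀ (pf : Spec.map (CommRingCat.ofHom e.ψ) ≫ sq.ptK.hom = e.ptK'.hom),
      ρ ≫ qW = (Over.homMk (Spec.map (CommRingCat.ofHom e.ψ)) pf : e.ptK' ⟶ sq.ptK) := by
    intro pf
    ext
    exact hψ.symm
  refine ⟨(yon S).map β' ≫ a ≫ pullback.fst f sq.bot, ?_, ?_⟩
  · rw [← Category.assoc, ← Functor.map_comp, hρ1, Functor.map_comp, Category.assoc,
      ← Category.assoc ((yon S).map pW), sqW.w, Category.assoc, hσ1, ← Category.assoc,
      ← Functor.map_comp, hρ2]
  · rw [Category.assoc, Category.assoc, pb.w, ← Category.assoc a, ← hg, ← Category.assoc,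
      ← Functor.map_comp, hβ'g]

/-- Finiteness of the fibre of an affine etale chart over a point represented by a quasi-compact
morphism from the spectrum of a field. -/
theorem finite_fibre_of_qc_point {P : Sp S} {U : Over S} (hU : IsAffine U.left)
    (a : (yon S).obj U ⟶ P) (hae : RepWith @Etale a) (p : FieldPt P)
    (hq : RepWith @QuasiCompact p.toHom) :
    {u : U.left | Points.ofPt a u = Points.mk p}.Finite := by
  obtain ⟨W, pW, qW, sqW, hqc⟩ : ∃ (W : Over S) (pW : W ⟶ p.pt) (qW : W ⟶ U),
      IsPullback ((yon S).map pW) ((yon S).map qW) p.toHom a ∧ QuasiCompact qW.left :=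
    ⟨_, _, _, hq.rep.isPullback' a, hq.property_snd a⟩
  have hpe : Etale pW.left :=
    (repWith_yon_map_iff _ pW).1 ((RepWith @Etale).of_isPullback sqW.flip hae)
  haveI : CompactSpace W.left := QuasiCompact.compactSpace_of_compactSpace qW.left
  haveI : Finite W.left := finite_of_compact_etale_over_field (k := p.K) pW.left
  refine (Set.finite_range qW.left).subset ?_
  intro u hu
  have hu' : Points.ofPt a u = Points.ofPt p.toHom (closedPoint p.K) := by
    rw [Points.ofPt_toHom]; exact hu
  obtain ⟨w, hw, -⟩ := exists_of_ofPt_eq sqW.flip u (closedPoint p.K) hu'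
  exact ⟨w, hw⟩

/-- Finiteness of the fibre of an affine etale chart over a field point, for a space
quasi-separated over an affine scheme. -/
theorem finite_fibre_of_isQuasiSeparatedMor {P : Sp S} {T U : Over S} [IsAffine T.left]
    (hU : IsAffine U.left) (snd : P ⟶ (yon S).obj T) (hqs : IsQuasiSeparatedMor snd)
    (a : (yon S).obj U ⟶ P) (hae : RepWith @Etale a) {k : Type u} [Field k]
    (strK : Spec (CommRingCat.of k) ⟶ S) (σ : (yon S).obj (Over.mk strK) ⟶ P)
    (pt : Spec (CommRingCat.of k)) :
    {u : U.left | Points.ofPt a u = Points.ofPt σ pt}.Finite := by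
  obtain ⟨W, pW, qW, sqW, hqe⟩ : ∃ (W : Over S) (pW : W ⟶ U) (qW : W ⟶ Over.mk strK),
      IsPullback ((yon S).map pW) ((yon S).map qW) a σ ∧ Etale qW.left :=
    ⟨_, _, _, hae.rep.isPullback' σ, hae.property_snd σ⟩
  obtain ⟨g, hg⟩ := (yon S).map_surjective (a ≫ snd)
  obtain ⟨gK, hgK⟩ := (yon S).map_surjective (σ ≫ snd)
  have sqV₀ : IsPullback (pullback.fst g gK) (pullback.snd g gK) g gK := IsPullback.of_hasPullback _ _
  have sqV := sqV₀.map (yon S)
  rw [hg, hgK] at sqV
  have hm : RepWith @QuasiCompact (pullback.mapDesc a σ snd) := repWith_mapDesc a σ snd hqs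
  obtain ⟨μ, hμ⟩ := (yon S).map_surjective
    (sqW.isoPullback.hom ≫ pullback.mapDesc a σ snd ≫ sqV.isoPullback.inv)
  have sqr : IsPullback sqW.isoPullback.hom ((yon S).map μ) (pullback.mapDesc a σ snd)
      sqV.isoPullback.hom :=
    IsPullback.of_horiz_isIso ⟨by rw [hμ]; simp⟩
  haveI hμqc : QuasiCompact μ.left := hm.property _ _ μ sqr
  haveI : IsAffine (Over.mk strK).left := (inferInstance : IsAffine (Spec (CommRingCat.of k)))
  haveI := hU
  haveI : IsAffine ((Over.forget S).obj U) := hU
  haveI : IsAffine ((Over.forget S).obj (Over.mk strK)) :=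
    (inferInstance : IsAffine (Spec (CommRingCat.of k)))
  haveI : IsAffine ((Over.forget S).obj T) := ‹IsAffine T.left›
  haveI : IsAffine (pullback g gK).left :=
    IsAffine.of_isIso (sqV₀.map (Over.forget S)).isoPullback.hom
  haveI : CompactSpace W.left := QuasiCompact.compactSpace_of_compactSpace μ.left
  haveI : Finite W.left := finite_of_compact_etale_over_field (k := k) qW.left
  refine (Set.finite_range pW.left).subset ?_
  intro u hu
  obtain ⟨w, hw, -⟩ := exists_of_ofPt_eq sqW u pt hu
  exact ⟨w, hw⟩

/-- A quasi-separated universally closed morphism satisfies the existence part of the valuative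
criterion. -/
theorem existVC_of_quasiSeparated_univClosed {X Y : Sp S} (hX : IsAlgSpace X) (hY : IsAlgSpace Y)
    (f : X ⟶ Y) (hqs : IsQuasiSeparatedMor f) (hc : IsUnivClosedMor f) : ExistVC f := by
  intro sq
  refine hasLiftExt_of_finite_fibres hX hY f hc sq (fun U a hU hae σ _ => ?_)
  have pb : IsPullback (pullback.fst f sq.bot) (pullback.snd f sq.bot) f sq.bot :=
    IsPullback.of_hasPullback _ _
  have hqs' : IsQuasiSeparatedMor (pullback.snd f sq.bot) :=
    MorphismProperty.of_isPullback (P := (RepWith @QuasiCompact).diagonal) pb hqs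
  haveI : IsAffine sq.ptA.left := (inferInstance : IsAffine (Spec (CommRingCat.of sq.A)))
  exact finite_fibre_of_isQuasiSeparatedMor hU (pullback.snd f sq.bot) hqs' a hae _ σ _

/-- A decent universally closed morphism satisfies the existence part of the valuative
criterion. -/
theorem existVC_of_decent_univClosed {X Y : Sp S} (hX : IsAlgSpace X) (hY : IsAlgSpace Y)
    (f : X ⟶ Y) (hd : IsDecentMor f) (hc : IsUnivClosedMor f) : ExistVC f := by
  intro sq
  refine hasLiftExt_of_finite_fibres hX hY f hc sq (fun U a hU hae σ _ => ?_)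
  have pb : IsPullback (pullback.fst f sq.bot) (pullback.snd f sq.bot) f sq.bot :=
    IsPullback.of_hasPullback _ _
  have hdec : IsDecent (pullback f sq.bot) := hd sq.bot _ _ pb
  obtain ⟨p, hp, -, hpq⟩ := hdec (Points.ofPt σ (closedPoint sq.K))
  rw [← hp]
  exact finite_fibre_of_qc_point hU a hae p hpq

end Groth.Agent.Helper15.ValExist
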