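import Mathlib
import Groth.Agent.Lib.Helper15.GpdField
import Groth.Agent.Lib.Helper15.AffDesc3
import Groth.Agent.Lib.Helper15.AlgSpTop
import Groth.Agent.Lib.Helper15.ValExist

/-!
# The quotient of the spectrum of a field by a finite etale equivalence relation
-/

set_option autoImplicit false
universe u
open CategoryTheory CategoryTheory.Limits AlgebraicGeometry Opposite MorphismProperty TensorProduct
open AlgSp

namespace Groth.Agent.Helper15.GpdGeom

open Groth.Agent.Helper15 Groth.Agent.Helper15.GpdField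

variable {S : Scheme.{u}}

/-- If `e` is an epimorphism of sheaves and the kernel pair of `e ≫ q₀` is contained in the kernel
pair of `e`, then `q₀` is a monomorphism. -/
theorem mono_of_kernelPair {A A₀ X R : Sp S} (e : A ⟶ A₀) [Epi e] (q₀ : A₀ ⟶ X) (s t : R ⟶ A)
    (sq : IsPullback s t (e ≫ q₀) (e ≫ q₀)) (h : s ≫ e = t ≫ e) : Mono q₀ := by
  refine ⟨fun {Z} x y hxy => ?_⟩
  have sq1 := IsPullback.of_hasPullback x e
  haveI : Epi (pullback.fst x e) := epi_of_isPullback_of_epi sq1
  have sq2 := IsPullback.of_hasPullback (pullback.fst x e ≫ y) e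
  haveI : Epi (pullback.fst (pullback.fst x e ≫ y) e) := epi_of_isPullback_of_epi sq2
  set k₁ := pullback.fst x e
  set x' := pullback.snd x e
  set k₂ := pullback.fst (k₁ ≫ y) e
  set y' := pullback.snd (k₁ ≫ y) e
  have hx' : x' ≫ e = k₁ ≫ x := sq1.w.symm
  have hy' : y' ≫ e = k₂ ≫ k₁ ≫ y := sq2.w.symm
  have hw : (k₂ ≫ x') ≫ e ≫ q₀ = y' ≫ e ≫ q₀ := by
    rw [Category.assoc, ← Category.assoc x', hx', ← Category.assoc y', hy']
    simp only [Category.assoc]
    rw [hxy]
  have h1 : (k₂ ≫ x') ≫ e = y' ≫ e := by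
    rw [← sq.lift_fst _ _ hw, Category.assoc, h, ← Category.assoc, sq.lift_snd]
  have h2 : (k₂ ≫ k₁) ≫ x = (k₂ ≫ k₁) ≫ y := by
    rw [Category.assoc, ← hx', ← Category.assoc, h1, hy', Category.assoc]
  haveI : Epi (k₂ ≫ k₁) := epi_comp _ _
  exact (cancel_epi (k₂ ≫ k₁)).1 h2

section ringData

variable {X : Sp S} (q : FieldPt X) {B : Type u} [CommRing B] (σ τ : q.K →+* B)
  (hστ : Spec.map (CommRingCat.ofHom τ) ≫ q.str = Spec.map (CommRingCat.ofHom σ) ≫ q.str)

/-- The scheme `Spec B` over `S`. -/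
noncomputable abbrev relOver : Over S := Over.mk (Spec.map (CommRingCat.ofHom σ) ≫ q.str)

/-- The first projection `Spec B ⟶ Spec K`. -/
noncomputable abbrev relS : relOver q σ ⟶ q.pt := Over.homMk (Spec.map (CommRingCat.ofHom σ)) rfl

/-- The second projection `Spec B ⟶ Spec K`. -/
noncomputable abbrev relT : relOver q σ ⟶ q.pt := Over.homMk (Spec.map (CommRingCat.ofHom τ)) hστ

variable (sq : IsPullback ((yon S).map (relS q σ)) ((yon S).map (relT q σ τ hστ)) q.toHom q.toHom)

include sq in
/-- The "epimorphism" property of the relation. -/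
theorem rel_hepi (C : Type u) [CommRing C] (γ γ' : B →+* C)
    (h1 : γ.comp σ = γ'.comp σ) (h2 : γ.comp τ = γ'.comp τ) : γ = γ' := by
  have hw : Spec.map (CommRingCat.ofHom γ') ≫ (relOver q σ).hom =
      Spec.map (CommRingCat.ofHom γ) ≫ (relOver q σ).hom := by
    change Spec.map _ ≫ Spec.map _ ≫ _ = Spec.map _ ≫ Spec.map _ ≫ _
    rw [← Category.assoc, ← Category.assoc, ← Spec.map_comp, ← Spec.map_comp,
      ← CommRingCat.ofHom_comp, ← CommRingCat.ofHom_comp, h1]
  let W : Over S := Over.mk (Spec.map (CommRingCat.ofHom γ) ≫ (relOver q σ).hom)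
  let g : W ⟶ relOver q σ := Over.homMk (Spec.map (CommRingCat.ofHom γ)) rfl
  let g' : W ⟶ relOver q σ := Over.homMk (Spec.map (CommRingCat.ofHom γ')) hw
  have e1 : g ≫ relS q σ = g' ≫ relS q σ := by
    ext
    change Spec.map _ ≫ Spec.map _ = Spec.map _ ≫ Spec.map _
    rw [← Spec.map_comp, ← Spec.map_comp, ← CommRingCat.ofHom_comp, ← CommRingCat.ofHom_comp, h1]
  have e2 : g ≫ relT q σ τ hστ = g' ≫ relT q σ τ hστ := by
    ext
    change Spec.map _ ≫ Spec.map _ = Spec.map _ ≫ Spec.map _
    rw [← Spec.map_comp, ← Spec.map_comp, ← CommRingCat.ofHom_comp, ← CommRingCat.ofHom_comp, h2]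
  have e3 : (yon S).map g = (yon S).map g' := by
    apply sq.hom_ext
    · rw [← Functor.map_comp, ← Functor.map_comp, e1]
    · rw [← Functor.map_comp, ← Functor.map_comp, e2]
  have e4 : g = g' := (yon S).map_injective e3
  have e5 : Spec.map (CommRingCat.ofHom γ) = Spec.map (CommRingCat.ofHom γ') :=
    congrArg (fun k => k.left) e4
  have e6 := Spec.map_injective e5
  exact congrArg CommRingCat.Hom.hom e6

include sq in
/-- The retraction coming from the diagonal. -/
theorem rel_exists_e : ∃ e : B →+* q.K, (∀ a, e (σ a) = a) ∧ (∀ a, e (τ a) = a) := by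
  obtain ⟨δ, hδ⟩ := (yon S).map_surjective (sq.lift (𝟙 _) (𝟙 _) rfl)
  have h1 : δ ≫ relS q σ = 𝟙 _ := (yon S).map_injective (by
    rw [Functor.map_comp, hδ, sq.lift_fst, CategoryTheory.Functor.map_id])
  have h2 : δ ≫ relT q σ τ hστ = 𝟙 _ := (yon S).map_injective (by
    rw [Functor.map_comp, hδ, sq.lift_snd, CategoryTheory.Functor.map_id])
  let δ' : Spec (CommRingCat.of q.K) ⟶ Spec (CommRingCat.of B) := δ.left
  have hpre : Spec.map (Spec.preimage δ') = δ' := Spec.map_preimage _
  refine ⟨(Spec.preimage δ').hom, fun a => ?_, fun a => ?_⟩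
  · have h3 : CommRingCat.ofHom σ ≫ Spec.preimage δ' = 𝟙 _ := by
      apply Spec.map_injective
      rw [Spec.map_comp, hpre, Spec.map_id]
      exact congrArg (fun k => k.left) h1
    exact congrArg (fun k => k.hom a) h3
  · have h3 : CommRingCat.ofHom τ ≫ Spec.preimage δ' = 𝟙 _ := by
      apply Spec.map_injective
      rw [Spec.map_comp, hpre, Spec.map_id]
      exact congrArg (fun k => k.left) h2
    exact congrArg (fun k => k.hom a) h3

include sq in
/-- The composition map of the relation. -/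
theorem rel_exists_c : letI : Algebra q.K B := σ.toAlgebra
    ∃ c : B →+* Twist τ ⊗[q.K] B,
      (∀ a, c (σ a) = Twist.of τ (σ a) ⊗ₜ[q.K] (1 : B)) ∧
      (∀ a, c (τ a) = (1 : Twist τ) ⊗ₜ[q.K] τ a) := by
  letI : Algebra q.K B := σ.toAlgebra
  let i₁ : B →+* Twist τ ⊗[q.K] B :=
    (Algebra.TensorProduct.includeLeftRingHom : Twist τ →+* Twist τ ⊗[q.K] B).comp
      ((Twist.of τ : B ≃+* Twist τ) : B →+* Twist τ)
  let i₂ : B →+* Twist τ ⊗[q.K] B :=
    (Algebra.TensorProduct.includeRight : B →ₐ[q.K] Twist τ ⊗[q.K] B).toRingHom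
  have hi : i₁.comp τ = i₂.comp σ := by
    ext a
    change (Twist.of τ (τ a)) ⊗ₜ[q.K] (1 : B) = (1 : Twist τ) ⊗ₜ[q.K] (algebraMap q.K B a)
    rw [← Twist.algebraMap_apply, Algebra.algebraMap_eq_smul_one, TensorProduct.smul_tmul,
      ← Algebra.algebraMap_eq_smul_one]
  have hSpec : Spec.map (CommRingCat.ofHom i₁) ≫ Spec.map (CommRingCat.ofHom τ) =
      Spec.map (CommRingCat.ofHom i₂) ≫ Spec.map (CommRingCat.ofHom σ) := by
    rw [← Spec.map_comp, ← Spec.map_comp, ← CommRingCat.ofHom_comp, ← CommRingCat.ofHom_comp, hi]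
  let P₂ : Over S := Over.mk (Spec.map (CommRingCat.ofHom i₂) ≫ (relOver q σ).hom)
  let π₂ : P₂ ⟶ relOver q σ := Over.homMk (Spec.map (CommRingCat.ofHom i₂)) rfl
  have hw1 : Spec.map (CommRingCat.ofHom i₁) ≫ (relOver q σ).hom = P₂.hom := by
    change Spec.map _ ≫ Spec.map _ ≫ _ = Spec.map _ ≫ Spec.map _ ≫ _
    calc Spec.map (CommRingCat.ofHom i₁) ≫ Spec.map (CommRingCat.ofHom σ) ≫ q.str
        = Spec.map (CommRingCat.ofHom i₁) ≫ Spec.map (CommRingCat.ofHom τ) ≫ q.str := by
          rw [hστ]
      _ = Spec.map (CommRingCat.ofHom i₂) ≫ Spec.map (CommRingCat.ofHom σ) ≫ q.str := by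
          rw [← Category.assoc, hSpec, Category.assoc]
  let π₁ : P₂ ⟶ relOver q σ := Over.homMk (Spec.map (CommRingCat.ofHom i₁)) hw1
  have hπ : π₁ ≫ relT q σ τ hστ = π₂ ≫ relS q σ := by
    ext
    exact hSpec
  have hw : (yon S).map (π₁ ≫ relS q σ) ≫ q.toHom =
      (yon S).map (π₂ ≫ relT q σ τ hστ) ≫ q.toHom := by
    rw [Functor.map_comp, Category.assoc, sq.w, ← Category.assoc, ← Functor.map_comp, hπ,
      Functor.map_comp, Category.assoc, sq.w, ← Category.assoc, ← Functor.map_comp]
  obtain ⟨m, hm⟩ := (yon S).map_surjective (sq.lift _ _ hw)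
  have hm1 : m ≫ relS q σ = π₁ ≫ relS q σ := (yon S).map_injective (by
    rw [Functor.map_comp, hm, sq.lift_fst])
  have hm2 : m ≫ relT q σ τ hστ = π₂ ≫ relT q σ τ hστ := (yon S).map_injective (by
    rw [Functor.map_comp, hm, sq.lift_snd])
  let m' : Spec (CommRingCat.of (Twist τ ⊗[q.K] B)) ⟶ Spec (CommRingCat.of B) := m.left
  have hpre : Spec.map (Spec.preimage m') = m' := Spec.map_preimage _
  refine ⟨(Spec.preimage m').hom, fun a => ?_, fun a => ?_⟩
  · have h3 : CommRingCat.ofHom σ ≫ Spec.preimage m' =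
        CommRingCat.ofHom σ ≫ CommRingCat.ofHom i₁ := by
      apply Spec.map_injective
      rw [Spec.map_comp, hpre, Spec.map_comp]
      exact congrArg (fun k => k.left) hm1
    exact congrArg (fun k => k.hom a) h3
  · have h3 : CommRingCat.ofHom τ ≫ Spec.preimage m' =
        CommRingCat.ofHom τ ≫ CommRingCat.ofHom i₂ := by
      apply Spec.map_injective
      rw [Spec.map_comp, hpre, Spec.map_comp]
      exact congrArg (fun k => k.left) hm2
    exact congrArg (fun k => k.hom a) h3

include sq in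
/-- The relation is the kernel pair of `Spec K ⟶ Spec K₀`. -/
theorem rel_isPullback_Spec (hfin : σ.Finite) : letI : Algebra q.K B := σ.toAlgebra
    IsPullback (Spec.map (CommRingCat.ofHom σ)) (Spec.map (CommRingCat.ofHom τ))
      (Spec.map (CommRingCat.ofHom (algebraMap (eqField τ) q.K)))
      (Spec.map (CommRingCat.ofHom (algebraMap (eqField τ) q.K))) := by
  letI : Algebra q.K B := σ.toAlgebra
  haveI : Module.Finite q.K B := hfin
  obtain ⟨e, he1, he2⟩ := rel_exists_e q σ τ hστ sq
  obtain ⟨c, hc1, hc2⟩ := rel_exists_c q σ τ hστ sq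
  have bij := phi_bijective_of_groupoid τ e he1 he2 c hc1 hc2
    (fun C _ γ γ' h1 h2 => rel_hepi q σ τ hστ sq C γ γ' h1 h2)
  let ψ : q.K ⊗[eqField τ] q.K ≃+* B := RingEquiv.ofBijective (phi τ).toRingHom bij
  have h := CommRingCat.isPushout_tensorProduct (eqField τ) q.K q.K
  have h' : IsPushout (CommRingCat.ofHom (algebraMap (eqField τ) q.K))
      (CommRingCat.ofHom (algebraMap (eqField τ) q.K)) (CommRingCat.ofHom σ)
      (CommRingCat.ofHom τ) := by
    refine h.of_iso (Iso.refl _) (Iso.refl _) (Iso.refl _) ψ.toCommRingCatIso (by simp) (by simp)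
      ?_ ?_
    · ext a
      change phi τ (a ⊗ₜ 1) = σ a
      rw [phi_tmul, map_one, mul_one]
      rfl
    · ext a
      change phi τ (1 ⊗ₜ a) = τ a
      rw [phi_tmul, map_one, one_mul]
  exact isPullback_SpecMap_of_isPushout _ _ _ _ h'

include hστ in
/-- The structure morphism of `Spec K` descends to `Spec K₀`. -/
theorem rel_exists_str : letI : Algebra q.K B := σ.toAlgebra
    ∃ str₀ : Spec (CommRingCat.of (eqField τ)) ⟶ S,
      Spec.map (CommRingCat.ofHom (algebraMap (eqField τ) q.K)) ≫ str₀ = q.str := by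
  letI : Algebra q.K B := σ.toAlgebra
  let x₀ : S := q.str (IsLocalRing.closedPoint q.K)
  let ψ : S.residueField x₀ ⟶ CommRingCat.of q.K :=
    Scheme.descResidueField (Scheme.stalkClosedPointTo q.str)
  have hψ : Spec.map ψ ≫ S.fromSpecResidueField x₀ = q.str :=
    Scheme.descResidueField_stalkClosedPointTo_fromSpecResidueField q.K S q.str
  have h1 : Spec.map (ψ ≫ CommRingCat.ofHom τ) = Spec.map (ψ ≫ CommRingCat.ofHom σ) := by
    rw [← cancel_mono (S.fromSpecResidueField x₀), Spec.map_comp, Spec.map_comp, Category.assoc,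
      Category.assoc, hψ, hστ]
  have h2 : ψ ≫ CommRingCat.ofHom τ = ψ ≫ CommRingCat.ofHom σ := Spec.map_injective h1
  have h3 : ∀ a, ψ.hom a ∈ eqField τ := by
    intro a
    rw [mem_eqField]
    exact (congrArg (fun k => k.hom a) h2).symm
  let ψ₀ : S.residueField x₀ →+* eqField τ := ψ.hom.codRestrict (eqField τ) h3
  refine ⟨Spec.map (CommRingCat.ofHom ψ₀) ≫ S.fromSpecResidueField x₀, ?_⟩
  rw [← Category.assoc, ← Spec.map_comp, ← hψ]
  rfl

include sq in
/-- **Quotient of the spectrum of a field by a finite etale equivalence relation**, in the form: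
a field valued point of an algebraic space whose self fibre product is `Spec B` with `B` finite
etale over the field factors through a monomorphic field valued point, via a finite etale
morphism of spectra of fields. -/
theorem exists_mono_fieldPt_of_affine_relation (hfin : σ.Finite) (het : σ.Etale) :
    ∃ (p : FieldPt X) (c : q.pt ⟶ p.pt), (yon S).map c ≫ p.toHom = q.toHom ∧ Mono p.toHom ∧
      Etale c.left ∧ Surjective c.left := by
  letI : Algebra q.K B := σ.toAlgebra
  have pb := rel_isPullback_Spec q σ τ hστ sq hfin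
  obtain ⟨str₀, hstr⟩ := rel_exists_str q σ τ hστ
  -- `c₀` is etale, by descent
  haveI hσe : Etale (Spec.map (CommRingCat.ofHom σ)) :=
    (HasRingHomProperty.Spec_iff (P := @Etale)).2 het
  have hflat : Flat (Spec.map (CommRingCat.ofHom (algebraMap (eqField τ) q.K))) := by
    rw [Flat.SpecMap_iff]
    exact (RingHom.flat_algebraMap_iff).2 inferInstance
  have hsurj : Surjective (Spec.map (CommRingCat.ofHom (algebraMap (eqField τ) q.K))) :=
    ⟨fun y => ⟨IsLocalRing.closedPoint q.K,
      @Subsingleton.elim (Spec (CommRingCat.of (eqField τ))) inferInstance _ _⟩⟩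
  have hqc : QuasiCompact (Spec.map (CommRingCat.ofHom (algebraMap (eqField τ) q.K))) :=
    inferInstance
  have het₀ : Etale (Spec.map (CommRingCat.ofHom (algebraMap (eqField τ) q.K))) :=
    MorphismProperty.of_isPullback_of_descendsAlong (P := @Etale)
      (Q := @Surjective ⊓ @Flat ⊓ @QuasiCompact) pb ⟨⟨hsurj, hflat⟩, hqc⟩ hσe
  let T₀ : Over S := Over.mk str₀
  let c : q.pt ⟶ T₀ := Over.homMk (Spec.map (CommRingCat.ofHom (algebraMap (eqField τ) q.K))) hstr
  haveI := isLocallySurjective_of_etale_surjective ((yon S).map c)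
    ((repWith_yon_map_iff _ c).2 het₀) ((repWith_yon_map_iff _ c).2 hsurj)
  haveI : Epi ((yon S).map c) := Sheaf.epi_of_isLocallySurjective _
  have hsc : relS q σ ≫ c = relT q σ τ hστ ≫ c := by
    ext
    exact pb.w
  -- descend `q`
  obtain ⟨q₀, hq₀⟩ := AffDesc.exists_desc_of_epi ((yon S).map c) q.toHom (by
    intro W x y hxy
    obtain ⟨x', rfl⟩ := (yon S).map_surjective x
    obtain ⟨y', rfl⟩ := (yon S).map_surjective y
    have h1 : x' ≫ c = y' ≫ c := (yon S).map_injective (by
      rw [Functor.map_comp, Functor.map_comp, hxy])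
    have h2 : x'.left ≫ Spec.map (CommRingCat.ofHom (algebraMap (eqField τ) q.K)) =
        y'.left ≫ Spec.map (CommRingCat.ofHom (algebraMap (eqField τ) q.K)) :=
      congrArg (fun k => k.left) h1
    have hr : pb.lift x'.left y'.left h2 ≫ (relOver q σ).hom = W.hom := by
      change _ ≫ Spec.map _ ≫ q.str = _
      rw [← Category.assoc, pb.lift_fst]
      exact Over.w x'
    let r : W ⟶ relOver q σ := Over.homMk (pb.lift x'.left y'.left h2) hr
    have hr1 : r ≫ relS q σ = x' := by
      ext
      exact pb.lift_fst _ _ _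
    have hr2 : r ≫ relT q σ τ hστ = y' := by
      ext
      exact pb.lift_snd _ _ _
    rw [← hr1, ← hr2, Functor.map_comp, Functor.map_comp, Category.assoc, Category.assoc, sq.w])
  let p : FieldPt X := { K := eqField τ, str := str₀, val := (J S).uliftYonedaEquiv q₀ }
  have hp : p.toHom = q₀ := Equiv.symm_apply_apply _ _
  refine ⟨p, c, by rw [hp, hq₀], ?_, het₀, hsurj⟩
  rw [hp]
  refine mono_of_kernelPair ((yon S).map c) q₀ ((yon S).map (relS q σ))
    ((yon S).map (relT q σ τ hστ)) (by rw [hq₀]; exact sq) ?_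
  rw [← Functor.map_comp, ← Functor.map_comp, hsc]

end ringData

/-- **Quotient of a field valued point by an etale quasi-compact relation.** A field valued point
of an algebraic space whose self fibre product has etale quasi-compact first projection factors
through a monomorphic field valued point via an etale surjective morphism of spectra of fields. -/
theorem exists_mono_fieldPt_of_etale_qc {X : Sp S} (q : FieldPt X)
    {R : Over S} (s t : R ⟶ q.pt)
    (sq : IsPullback ((yon S).map s) ((yon S).map t) q.toHom q.toHom)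
    (hs : Etale s.left) (hqc : QuasiCompact s.left) :
    ∃ (p : FieldPt X) (c : q.pt ⟶ p.pt), (yon S).map c ≫ p.toHom = q.toHom ∧ Mono p.toHom ∧
      Etale c.left ∧ Surjective c.left := by
  let s₀ : R.left ⟶ Spec (CommRingCat.of q.K) := s.left
  haveI : Etale s₀ := hs
  haveI : QuasiCompact s₀ := hqc
  haveI : CompactSpace R.left := QuasiCompact.compactSpace_of_compactSpace s₀
  haveI : Finite R.left := ValExist.finite_of_compact_etale_over_field s₀
  haveI : LocallyQuasiFinite s₀ := locallyQuasiFinite_of_etale s₀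
  haveI : DiscreteTopology R.left := discreteTopology_of_etale_over_field s₀
  haveI : IsAffine R.left := inferInstance
  let B : Type u := Γ(R.left, ⊤)
  let ρ : R.left ≅ Spec (CommRingCat.of B) := R.left.isoSpec
  let σ : q.K →+* B := (Spec.preimage (ρ.inv ≫ s.left :
    Spec (CommRingCat.of B) ⟶ Spec (CommRingCat.of q.K))).hom
  let τ : q.K →+* B := (Spec.preimage (ρ.inv ≫ t.left :
    Spec (CommRingCat.of B) ⟶ Spec (CommRingCat.of q.K))).hom
  have hσ : Spec.map (CommRingCat.ofHom σ) = ρ.inv ≫ s.left := Spec.map_preimage _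
  have hτ : Spec.map (CommRingCat.ofHom τ) = ρ.inv ≫ t.left := Spec.map_preimage _
  have hs' : s.left ≫ q.str = R.hom := Over.w s
  have ht' : t.left ≫ q.str = R.hom := Over.w t
  have hστ : Spec.map (CommRingCat.ofHom τ) ≫ q.str = Spec.map (CommRingCat.ofHom σ) ≫ q.str := by
    rw [hσ, hτ, Category.assoc, Category.assoc, hs', ht']
  have hι : ρ.inv ≫ R.hom = (relOver q σ).hom := by
    change _ = Spec.map _ ≫ q.str
    rw [hσ, Category.assoc, hs']
  let ι : relOver q σ ≅ R := Over.isoMk ρ.symm hι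
  have h1 : relS q σ = ι.hom ≫ s := by
    ext
    exact hσ
  have h2 : relT q σ τ hστ = ι.hom ≫ t := by
    ext
    exact hτ
  have sq' : IsPullback ((yon S).map (relS q σ)) ((yon S).map (relT q σ τ hστ)) q.toHom
      q.toHom := by
    refine IsPullback.of_iso sq ((yon S).mapIso ι).symm (Iso.refl _) (Iso.refl _) (Iso.refl _)
      ?_ ?_ (by simp) (by simp)
    · rw [h1, Functor.map_comp]
      simp
    · rw [h2, Functor.map_comp]
      simp
  haveI : Etale (Spec.map (CommRingCat.ofHom σ)) := by
    rw [hσ]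
    exact (inferInstance : Etale (ρ.inv ≫ s₀))
  have het : σ.Etale :=
    (HasRingHomProperty.Spec_iff (P := @Etale) (φ := CommRingCat.ofHom σ)).1 inferInstance
  have hfin : σ.Finite := by
    algebraize [σ]
    change Module.Finite q.K B
    exact Algebra.FormallyUnramified.finite_of_free q.K B
  exact exists_mono_fieldPt_of_affine_relation q σ τ hστ sq' hfin het

end Groth.Agent.Helper15.GpdGeom
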