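import Groth.Agent.Lib.Helper15.AlgSpOnePt
import Groth.Agent.Lib.Helper15.AlgSpRedStalk

set_option autoImplicit false
universe u
open CategoryTheory CategoryTheory.Limits AlgebraicGeometry Topology TopologicalSpace
open AlgSp

namespace Groth.Agent.Helper15
variable {S : Scheme.{u}}

theorem isField_of_injective_isLocalHom_to_isField {A K : Type*} [CommRing A] [IsLocalRing A]
    [CommRing K] (hK : IsField K) (f : A →+* K) (hf : Function.Injective f) [IsLocalHom f] :
    IsField A := by
  rw [IsLocalRing.isField_iff_maximalIdeal_eq, eq_bot_iff]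
  intro a ha
  rw [Ideal.mem_bot]
  apply hf
  rw [map_zero]
  by_contra hne
  letI := hK.toField
  have hu : IsUnit (f a) := isUnit_iff_ne_zero.2 hne
  have := (isUnit_map_iff f a).1 hu
  exact (IsLocalRing.mem_maximalIdeal a).1 ha this

theorem isField_stalk_of_flat {W V : Scheme.{u}} (g : W ⟶ V) [Flat g] (w : W)
    (h : IsField (W.presheaf.stalk w)) : IsField (V.presheaf.stalk (g w)) := by
  have hfl := Flat.stalkMap g w
  algebraize [(g.stalkMap w).hom]
  haveI : IsLocalHom (algebraMap (V.presheaf.stalk (g w)) (W.presheaf.stalk w)) :=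
    g.toLRSHom.prop w
  haveI : Module.FaithfullyFlat (V.presheaf.stalk (g w)) (W.presheaf.stalk w) :=
    Module.FaithfullyFlat.of_flat_of_isLocalHom
  exact isField_of_injective_isLocalHom_to_isField h
    (algebraMap (V.presheaf.stalk (g w)) (W.presheaf.stalk w))
    (FaithfulSMul.algebraMap_injective _ _)

theorem flat_of_forall_isField_stalk {U V : Scheme.{u}} (h : U ⟶ V)
    (hV : ∀ v : V, IsField (V.presheaf.stalk v)) : Flat h := by
  rw [Flat.iff_flat_stalkMap]
  intro u
  letI := (hV (h u)).toField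
  algebraize [(h.stalkMap u).hom]
  change Module.Flat (V.presheaf.stalk (h u)) (U.presheaf.stalk u)
  infer_instance


/-- If `Z` receives a flat surjective morphism from the spectrum of a field, then every scheme
étale over `Z` has all its local rings fields. -/
theorem isField_stalk_of_flat_surjective_field {Z : Sp S}
    (k : Type u) [Field k] (str : Spec (CommRingCat.of k) ⟶ S)
    (p : (AlgSp.yon S).obj (Over.mk str) ⟶ Z)
    (hpf : AlgSp.LocP @Flat p) (hps : AlgSp.IsSurjectiveMor p)
    {V : Over S} (b : (yon S).obj V ⟶ Z) (hb : RepWith @Etale b) (v : V.left) :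
    IsField (V.left.presheaf.stalk v) := by
  have sq := hb.rep.isPullback' p
  haveI h1 : Etale (hb.rep.snd p).left := hb.property_snd p
  haveI h2 : Flat (hb.rep.fst' p).left :=
    hpf ((yon S).map (hb.rep.snd p)) b (hb.rep.fst' p)
      ((repWith_yon_map_iff _ _).2 h1) hb sq.w.symm
  obtain ⟨y, hy⟩ := hps (Points.ofPt b v)
  obtain ⟨t, rfl⟩ := (Points.schemeEquiv (Over.mk str)).surjective y
  have hy' : Points.ofPt b v = Points.ofPt p t := by
    rw [Points.ofPt_eq_map_ofScheme p t]; exact hy.symm
  obtain ⟨w, hw, -⟩ := exists_of_ofPt_eq sq v t hy'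
  rw [← hw]
  exact isField_stalk_of_flat _ w (isField_stalk_of_etale_over_field (hb.rep.snd p).left w)

theorem subsingleton_points_of_surjective_field {Z : Sp S}
    (k : Type u) [Field k] (str : Spec (CommRingCat.of k) ⟶ S)
    (p : (AlgSp.yon S).obj (Over.mk str) ⟶ Z) (hps : AlgSp.IsSurjectiveMor p) :
    Subsingleton (Points Z) := by
  refine ⟨fun x y => ?_⟩
  obtain ⟨x', rfl⟩ := hps x
  obtain ⟨y', rfl⟩ := hps y
  obtain ⟨t, rfl⟩ := (Points.schemeEquiv (Over.mk str)).surjective x'
  obtain ⟨t', rfl⟩ := (Points.schemeEquiv (Over.mk str)).surjective y'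
  have : t = t' := @Subsingleton.elim ↥(Spec (CommRingCat.of k)) inferInstance _ _
  rw [this]

/-- S10365 -/
theorem locP_flat_and_surjective_of_flat_surjective_field {Z : Sp S}
    (k : Type u) [Field k] (str : Spec (CommRingCat.of k) ⟶ S)
    (p : (AlgSp.yon S).obj (Over.mk str) ⟶ Z)
    (hpf : AlgSp.LocP @Flat p) (hps : AlgSp.IsSurjectiveMor p)
    (k' : Type u) [Field k'] (str' : Spec (CommRingCat.of k') ⟶ S)
    (q : (AlgSp.yon S).obj (Over.mk str') ⟶ Z) :
    AlgSp.LocP @Flat q ∧ AlgSp.IsSurjectiveMor q := by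
  constructor
  · intro U V a b h _ hb _
    exact flat_of_forall_isField_stalk _
      (fun v => isField_stalk_of_flat_surjective_field k str p hpf hps b hb v)
  · intro z
    haveI := subsingleton_points_of_surjective_field k str p hps
    exact ⟨Points.ofScheme (Over.mk str') (IsLocalRing.closedPoint k'), Subsingleton.elim _ _⟩


theorem flat_of_forall_isField_stalk' {U V : Scheme.{u}} (h : U ⟶ V)
    (hV : ∀ u : U, IsField (V.presheaf.stalk (h u))) : Flat h := by
  rw [Flat.iff_flat_stalkMap]
  intro u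
  letI := (hV u).toField
  algebraize [(h.stalkMap u).hom]
  change Module.Flat (V.presheaf.stalk (h u)) (U.presheaf.stalk u)
  infer_instance

instance hasOfPostcompProperty_flat_etale :
    MorphismProperty.HasOfPostcompProperty (@Flat : MorphismProperty Scheme.{u}) @Etale := by
  rw [MorphismProperty.hasOfPostcompProperty_iff_le_diagonal]
  intro X Y f hf
  haveI : Etale f := hf
  exact inferInstanceAs <| Flat (pullback.diagonal f)

/-- If `f ≫ g` is flat and `g` is étale then `f` is flat. -/
theorem flat_of_comp_etale {X Y Z : Scheme.{u}} (f : X ⟶ Y) (g : Y ⟶ Z) [Flat (f ≫ g)]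
    [Etale g] : Flat f :=
  MorphismProperty.of_postcomp (W := @Flat) (W' := @Etale) f g ‹_› ‹_›

/-- A nonempty reduced scheme has a point whose local ring is a field. -/
theorem exists_isField_stalk_of_isReduced (U : Scheme.{u}) [IsReduced U] [Nonempty U] :
    ∃ u : U, IsField (U.presheaf.stalk u) := by
  obtain ⟨u₁⟩ := (inferInstance : Nonempty U)
  have hirr : IsIrreducible (irreducibleComponent u₁) := isIrreducible_irreducibleComponent
  have hcl : IsClosed (irreducibleComponent u₁) := isClosed_irreducibleComponent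
  let ξ := hirr.genericPoint
  have hξ : IsGenericPoint ξ (irreducibleComponent u₁) := by
    have := hirr.isGenericPoint_genericPoint_closure
    rwa [hcl.closure_eq] at this
  refine ⟨ξ, ?_⟩
  haveI : Ring.KrullDimLE 0 (U.presheaf.stalk ξ) := by
    rw [Ring.krullDimLE_iff, ringKrullDim_stalk_eq_coheight]
    have : Order.coheight ξ = 0 := by
      rw [Order.coheight_eq_zero]
      intro b hb
      -- hb : ξ ≤ b, i.e. b ⤳ ξ
      have hb' : b ⤳ ξ := hb
      have h1 : irreducibleComponent u₁ ⊆ closure {b} := by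
        rw [← hξ.def]
        exact specializes_iff_closure_subset.1 hb'
      have h2 : closure {b} = irreducibleComponent u₁ :=
        eq_irreducibleComponent isIrreducible_singleton.closure.isPreirreducible h1
      have h3 : b ∈ closure {ξ} := by
        rw [hξ.def, ← h2]; exact subset_closure rfl
      exact (specializes_iff_mem_closure.2 h3 : ξ ⤳ b)
    rw [this]; rfl
  exact Ring.KrullDimLE.isField_of_isReduced


/-- A field-valued point of an étale chart at a point with field local ring gives a flat map. -/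
theorem locP_flat_ofPt_of_isField_stalk {Z : Sp S} {U : Over S} (a : (yon S).obj U ⟶ Z)
    (hae : RepWith @Etale a) (u₀ : U.left) (hu₀ : IsField (U.left.presheaf.stalk u₀)) :
    LocP @Flat (FieldPt.ofPt a u₀).toHom := by
  intro U' V a' b h ha' hb hcomm
  obtain ⟨α, rfl⟩ := (yon S).map_surjective a'
  have hα : Etale α.left := (repWith_yon_map_iff _ α).1 ha'
  let ι : (FieldPt.ofPt a u₀).pt ⟶ U := Over.homMk (U.left.fromSpecResidueField u₀) rfl
  have hι : Flat ι.left := by
    apply flat_of_forall_isField_stalk'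
    intro t
    have : ι.left t = u₀ := Scheme.fromSpecResidueField_apply _ _
    rw [this]; exact hu₀
  have hg : Flat (α ≫ ι).left := by
    rw [Over.comp_left]; infer_instance
  have hcomm' : (yon S).map (α ≫ ι) ≫ a = (yon S).map h ≫ b := by
    rw [Functor.map_comp, Category.assoc, ← hcomm, FieldPt.toHom_ofPt]
  have sqP := hae.rep.isPullback' b
  have hπ₂ : Etale (hae.rep.snd b).left := hae.property_snd b
  have hπ₁ : Etale (hae.rep.fst' b).left := hb.property a _ _ sqP.flip
  obtain ⟨ℓ, hℓ⟩ := (yon S).map_surjective (sqP.lift _ _ hcomm')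
  have hℓ₁ : ℓ ≫ hae.rep.fst' b = α ≫ ι := by
    apply (yon S).map_injective
    rw [Functor.map_comp, hℓ, sqP.lift_fst]
  have hℓ₂ : ℓ ≫ hae.rep.snd b = h := by
    apply (yon S).map_injective
    rw [Functor.map_comp, hℓ, sqP.lift_snd]
  have hℓf : Flat ℓ.left := by
    have : Flat (ℓ.left ≫ (hae.rep.fst' b).left) := by
      rw [← Over.comp_left, hℓ₁]; exact hg
    exact flat_of_comp_etale ℓ.left (hae.rep.fst' b).left
  rw [← hℓ₂, Over.comp_left]
  infer_instance

/-- S10366 -/
theorem reduced_one_point_iff_exists_flat_surjective_field {Z : Sp S} (hZ : IsAlgSpace Z) :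
    (AlgSp.EtaleLocally (fun U => IsReduced U) Z ∧ Nonempty (AlgSp.Points Z) ∧
        Subsingleton (AlgSp.Points Z)) ↔
      ∃ (k : Type u) (_ : Field k) (str : Spec (CommRingCat.of k) ⟶ S)
        (p : (AlgSp.yon S).obj (Over.mk str) ⟶ Z),
        AlgSp.LocP @Flat p ∧ AlgSp.IsSurjectiveMor p := by
  constructor
  · rintro ⟨⟨U, a, hae, has, hred⟩, ⟨x⟩, hsub⟩
    haveI : IsReduced U.left := hred
    obtain ⟨u₁, -⟩ := surjective_ofPt a has x
    haveI : Nonempty U.left := ⟨u₁⟩
    obtain ⟨u₀, hu₀⟩ := exists_isField_stalk_of_isReduced U.left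
    refine ⟨(FieldPt.ofPt a u₀).K, inferInstance, (FieldPt.ofPt a u₀).str,
      (FieldPt.ofPt a u₀).toHom, locP_flat_ofPt_of_isField_stalk a hae u₀ hu₀, fun z => ?_⟩
    exact ⟨Points.ofScheme _ (IsLocalRing.closedPoint _), Subsingleton.elim _ _⟩
  · rintro ⟨k, _, str, p, hpf, hps⟩
    refine ⟨?_, ⟨Points.map p (Points.ofScheme _ (IsLocalRing.closedPoint k))⟩,
      subsingleton_points_of_surjective_field k str p hps⟩
    obtain ⟨U, a, hae, has⟩ := hZ.atlas
    refine ⟨U, a, hae, has, ?_⟩
    haveI : ∀ x : U.left, _root_.IsReduced (U.left.presheaf.stalk x) := fun x => by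
      letI := (isField_stalk_of_flat_surjective_field k str p hpf hps a hae x).toField
      infer_instance
    exact isReduced_of_isReduced_stalk U.left


/-- In a scheme all of whose local rings are fields, every point is closed. -/
theorem isClosed_singleton_of_forall_isField_stalk {U : Scheme.{u}}
    (hU : ∀ u : U, IsField (U.presheaf.stalk u)) (u₀ : U) : IsClosed ({u₀} : Set U) := by
  rw [← closure_eq_iff_isClosed]
  refine Set.Subset.antisymm (fun u' hu' => ?_) subset_closure
  have hs : u₀ ⤳ u' := specializes_iff_mem_closure.2 hu'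
  have hco : Order.coheight u' = 0 := by
    have h := ringKrullDim_stalk_eq_coheight u'
    rw [ringKrullDim_eq_zero_of_isField (hU u')] at h
    exact_mod_cast h.symm
  rw [Order.coheight_eq_zero] at hco
  have hs' : u' ⤳ u₀ := hco (show u' ≤ u₀ from hs)
  exact (hs'.antisymm hs).eq

/-- S10367 -/
theorem exists_lft_flat_surjective_field {Z : Sp S} (hZ : IsAlgSpace Z)
    (k : Type u) [Field k] (str : Spec (CommRingCat.of k) ⟶ S)
    (p : (AlgSp.yon S).obj (Over.mk str) ⟶ Z)
    (hpf : AlgSp.LocP @Flat p) (hps : AlgSp.IsSurjectiveMor p) :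
    ∃ (k' : Type u) (_ : Field k') (str' : Spec (CommRingCat.of k') ⟶ S)
      (q : (AlgSp.yon S).obj (Over.mk str') ⟶ Z),
      AlgSp.LocP @LocallyOfFiniteType q ∧ AlgSp.LocP @Flat q ∧ AlgSp.IsSurjectiveMor q := by
  obtain ⟨U, a, hae, has⟩ := hZ.atlas
  obtain ⟨u₀, -⟩ := surjective_ofPt a has
    (Points.map p (Points.ofScheme _ (IsLocalRing.closedPoint k)))
  have hU : ∀ u : U.left, IsField (U.left.presheaf.stalk u) :=
    fun u => isField_stalk_of_flat_surjective_field k str p hpf hps a hae u
  obtain ⟨hfl, hsurj⟩ := locP_flat_and_surjective_of_flat_surjective_field k str p hpf hps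
    (FieldPt.ofPt a u₀).K (FieldPt.ofPt a u₀).str (FieldPt.ofPt a u₀).toHom
  refine ⟨(FieldPt.ofPt a u₀).K, inferInstance, (FieldPt.ofPt a u₀).str,
    (FieldPt.ofPt a u₀).toHom, ?_, hfl, hsurj⟩
  intro U' V a' b h ha' hb hcomm
  obtain ⟨α, rfl⟩ := (yon S).map_surjective a'
  have hα : Etale α.left := (repWith_yon_map_iff _ α).1 ha'
  let ι : (FieldPt.ofPt a u₀).pt ⟶ U := Over.homMk (U.left.fromSpecResidueField u₀) rfl
  have hι : IsClosedImmersion ι.left :=
    isClosed_singleton_iff_isClosedImmersion.1 (isClosed_singleton_of_forall_isField_stalk hU u₀)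
  have hg : LocallyOfFiniteType (α ≫ ι).left := by
    rw [Over.comp_left]; infer_instance
  have hcomm' : (yon S).map (α ≫ ι) ≫ a = (yon S).map h ≫ b := by
    rw [Functor.map_comp, Category.assoc, ← hcomm, FieldPt.toHom_ofPt]
  have sqP := hae.rep.isPullback' b
  have hπ₂ : Etale (hae.rep.snd b).left := hae.property_snd b
  obtain ⟨ℓ, hℓ⟩ := (yon S).map_surjective (sqP.lift _ _ hcomm')
  have hℓ₁ : ℓ ≫ hae.rep.fst' b = α ≫ ι := by
    apply (yon S).map_injective
    rw [Functor.map_comp, hℓ, sqP.lift_fst]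
  have hℓ₂ : ℓ ≫ hae.rep.snd b = h := by
    apply (yon S).map_injective
    rw [Functor.map_comp, hℓ, sqP.lift_snd]
  have hℓf : LocallyOfFiniteType ℓ.left := by
    have : LocallyOfFiniteType (ℓ.left ≫ (hae.rep.fst' b).left) := by
      rw [← Over.comp_left, hℓ₁]; exact hg
    exact locallyOfFiniteType_of_comp ℓ.left (hae.rep.fst' b).left
  rw [← hℓ₂, Over.comp_left]
  infer_instance

end Groth.Agent.Helper15
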