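import Groth.Agent.Lib.Helper15.SchemeFTPoint
import Groth.Agent.Lib.Helper15.AlgSpFieldCover

set_option autoImplicit false
universe u
open CategoryTheory CategoryTheory.Limits AlgebraicGeometry Topology TopologicalSpace
open AlgSp

namespace Groth.Agent.Helper15
variable {S : Scheme.{u}}

/-- `x` is a finite type point of `X`. -/
def IsFTPoint {X : Sp S} (x : Points X) : Prop :=
  ∃ (k : Type u) (_ : Field k) (str : Spec (CommRingCat.of k) ⟶ S)
    (ξ : (AlgSp.yon S).obj (Over.mk str) ⟶ X),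
    AlgSp.LocP @LocallyOfFiniteType ξ ∧ AlgSp.Points.ofPt ξ (IsLocalRing.closedPoint k) = x

/-- The residue field point of a closed point of an étale chart is locally of finite type. -/
theorem locP_lft_ofPt_of_isClosed {X : Sp S} {U : Over S} (a : (yon S).obj U ⟶ X)
    (hae : RepWith @Etale a) (u₀ : U.left) (hu₀ : IsClosed ({u₀} : Set U.left)) :
    LocP @LocallyOfFiniteType (FieldPt.ofPt a u₀).toHom := by
  intro U' V a' b h ha' hb hcomm
  obtain ⟨α, rfl⟩ := (yon S).map_surjective a'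
  have hα : Etale α.left := (repWith_yon_map_iff _ α).1 ha'
  let ι : (FieldPt.ofPt a u₀).pt ⟶ U := Over.homMk (U.left.fromSpecResidueField u₀) rfl
  have hι : IsClosedImmersion ι.left := isClosed_singleton_iff_isClosedImmersion.1 hu₀
  have hg : LocallyOfFiniteType (α ≫ ι).left := by
    rw [Over.comp_left]; infer_instance
  have hcomm' : (yon S).map (α ≫ ι) ≫ a = (yon S).map h ≫ b := by
    rw [Functor.map_comp, Category.assoc, ← hcomm, FieldPt.toHom_ofPt]
  have sqP := hae.rep.isPullback' b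
  have hπ₂ : Etale (hae.rep.snd b).left := hae.property_snd b
  obtain ⟨ℓ, hℓ⟩ := (yon S).map_surjective (sqP.lift _ _ hcomm')
  have hℓ₁ : ℓ ≫ hae.rep.fst' b = α ≫ ι := by
    apply (yon S).map_injective
    rw [Functor.map_comp, hℓ, sqP.lift_fst]
  have hℓ₂ : ℓ ≫ hae.rep.snd b = h := by
    apply (yon S).map_injective
    rw [Functor.map_comp, hℓ, sqP.lift_snd]
  have hℓf : LocallyOfFiniteType ℓ.left := by
    have : LocallyOfFiniteType (ℓ.left ≫ (hae.rep.fst' b).left) := by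
      rw [← Over.comp_left, hℓ₁]; exact hg
    exact locallyOfFiniteType_of_comp ℓ.left (hae.rep.fst' b).left
  rw [← hℓ₂, Over.comp_left]
  infer_instance

theorem isFTPoint_of_isClosed {X : Sp S} {U : Over S} (a : (yon S).obj U ⟶ X)
    (hae : RepWith @Etale a) (u₀ : U.left) (hu₀ : IsClosed ({u₀} : Set U.left)) :
    IsFTPoint (Points.ofPt a u₀) :=
  ⟨(FieldPt.ofPt a u₀).K, inferInstance, (FieldPt.ofPt a u₀).str, (FieldPt.ofPt a u₀).toHom,
    locP_lft_ofPt_of_isClosed a hae u₀ hu₀, Points.ofPt_toHom _ _⟩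


/-- A finite type point is the image of a closed point of some étale chart; moreover the chart
can be taken to be an open subscheme of any given étale chart hitting the point. -/
theorem exists_closed_point_chart_of_lft {X : Sp S} {U₀ : Over S} (a : (yon S).obj U₀ ⟶ X)
    (hae : RepWith @Etale a) (k : Type u) [Field k] (str : Spec (CommRingCat.of k) ⟶ S)
    (ξ : (AlgSp.yon S).obj (Over.mk str) ⟶ X) (hξ : AlgSp.LocP @LocallyOfFiniteType ξ)
    (u₀ : U₀.left) (hu₀ : Points.ofPt a u₀ = Points.ofPt ξ (IsLocalRing.closedPoint k)) :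
    ∃ U' : U₀.left.Opens, u₀ ∈ U' ∧ ∀ y ∈ U', u₀ ⤳ y → y = u₀ := by
  have sq := hae.rep.isPullback' ξ
  have h1 : Etale (hae.rep.snd ξ).left := hae.property_snd ξ
  have h2 : LocallyOfFiniteType (hae.rep.fst' ξ).left :=
    hξ ((yon S).map (hae.rep.snd ξ)) a (hae.rep.fst' ξ)
      ((repWith_yon_map_iff _ _).2 h1) hae sq.w.symm
  obtain ⟨w, hw, -⟩ := exists_of_ofPt_eq sq u₀ (IsLocalRing.closedPoint k) hu₀
  have hwcl : IsClosed ({w} : Set (hae.rep.pullback ξ).left) :=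
    isClosed_singleton_of_forall_isField_stalk
      (fun w' => isField_stalk_of_etale_over_field (k := k) (hae.rep.snd ξ).left w') w
  have h3 : IsClosedImmersion ((hae.rep.pullback ξ).left.fromSpecResidueField w) :=
    isClosed_singleton_iff_isClosedImmersion.1 hwcl
  let g := (hae.rep.pullback ξ).left.fromSpecResidueField w ≫ (hae.rep.fst' ξ).left
  haveI : LocallyOfFiniteType g := inferInstance
  let pt : Spec ((hae.rep.pullback ξ).left.residueField w) := IsLocalRing.closedPoint _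
  have hg : g pt = u₀ := by
    change (hae.rep.fst' ξ).left (((hae.rep.pullback ξ).left.fromSpecResidueField w) pt) = u₀
    rw [Scheme.fromSpecResidueField_apply, hw]
  obtain ⟨U', hU'1, hU'2⟩ := exists_opens_of_lft_field
    (K := (hae.rep.pullback ξ).left.residueField w) g pt
  rw [hg] at hU'1 hU'2
  exact ⟨U', hU'1, hU'2⟩


theorem exists_chart_closed_point {X : Sp S} {U₀ : Over S} (a : (yon S).obj U₀ ⟶ X)
    (hae : RepWith @Etale a) (u₀ : U₀.left) (U' : U₀.left.Opens) (h1 : u₀ ∈ U')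
    (h2 : ∀ y ∈ U', u₀ ⤳ y → y = u₀) :
    ∃ (U : Over S) (φ : (AlgSp.yon S).obj U ⟶ X) (u : ↥U.left), AlgSp.RepWith @Etale φ ∧
      IsClosed ({u} : Set ↥U.left) ∧ AlgSp.Points.ofPt φ u = Points.ofPt a u₀ := by
  let U : Over S := Over.mk (U'.ι ≫ U₀.hom)
  let j : U ⟶ U₀ := Over.homMk U'.ι rfl
  have hj : Etale j.left := (inferInstance : Etale U'.ι)
  have hφ : RepWith @Etale ((yon S).map j ≫ a) :=
    (RepWith @Etale).comp_mem _ _ ((repWith_yon_map_iff _ j).2 hj) hae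
  let u : U.left := ⟨u₀, h1⟩
  refine ⟨U, (yon S).map j ≫ a, u, hφ, ?_, ?_⟩
  · rw [← closure_eq_iff_isClosed]
    refine Set.Subset.antisymm (fun y hy => ?_) subset_closure
    have hs : u ⤳ y := specializes_iff_mem_closure.2 hy
    have hs' : U'.ι u ⤳ U'.ι y := (U'.ι.isOpenEmbedding.isInducing.specializes_iff).2 hs
    have hy' : U'.ι y = u₀ := h2 _ y.2 hs'
    have : y = u := Subtype.ext hy'
    rw [this]; rfl
  · rw [ofPt_comp_yon_map]; rfl

/-- S9975 -/
theorem isFTPoint_iff_exists_closed_point_chart {X : Sp S} (hX : IsAlgSpace X) (x : Points X) :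
    IsFTPoint x ↔
      ∃ (U : Over S) (φ : (AlgSp.yon S).obj U ⟶ X) (u : ↥U.left), AlgSp.RepWith @Etale φ ∧
        IsClosed ({u} : Set ↥U.left) ∧ AlgSp.Points.ofPt φ u = x := by
  constructor
  · rintro ⟨k, _, str, ξ, hξ, rfl⟩
    obtain ⟨U₀, a, hae, has⟩ := hX.atlas
    obtain ⟨u₀, hu₀⟩ := surjective_ofPt a has (Points.ofPt ξ (IsLocalRing.closedPoint k))
    obtain ⟨U', h1, h2⟩ := exists_closed_point_chart_of_lft a hae k str ξ hξ u₀ hu₀
    obtain ⟨U, φ, u, hφ, hu, he⟩ := exists_chart_closed_point a hae u₀ U' h1 h2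
    exact ⟨U, φ, u, hφ, hu, he.trans hu₀⟩
  · rintro ⟨U, φ, u, hφ, hu, rfl⟩
    exact isFTPoint_of_isClosed φ hφ u hu


/-- A nonempty locally closed subset of a scheme contains a point that is closed in some open
neighbourhood. -/
theorem exists_locally_closed_point_of_isLocallyClosed {U₀ : Scheme.{u}} (T₀ : Set U₀)
    (hT : IsLocallyClosed T₀) (hne : T₀.Nonempty) :
    ∃ u ∈ T₀, ∃ U' : U₀.Opens, u ∈ U' ∧ ∀ y ∈ U', u ⤳ y → y = u := by
  obtain ⟨O, Z, hO, hZ, rfl⟩ := hT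
  obtain ⟨t, htO, htZ⟩ := hne
  obtain ⟨_, ⟨V, hV, rfl⟩, htV, hVO⟩ :=
    (U₀.isBasis_affineOpens).exists_subset_of_mem_open htO hO
  let V' : U₀.Opens := V
  haveI : IsAffine V'.toScheme := hV
  have hcl : IsClosed (V'.ι ⁻¹' Z) := hZ.preimage V'.ι.continuous
  have hne' : (V'.ι ⁻¹' Z).Nonempty := ⟨⟨t, htV⟩, htZ⟩
  obtain ⟨v, hvZ, hv⟩ := hcl.exists_closed_singleton hne'
  refine ⟨V'.ι v, ⟨hVO v.2, hvZ⟩, V', v.2, ?_⟩
  intro y hy hs
  have hs' : v ⤳ (⟨y, hy⟩ : V') := (V'.ι.isOpenEmbedding.isInducing.specializes_iff).1 hs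
  have : (⟨y, hy⟩ : V') ∈ ({v} : Set V'.toScheme) := hs'.mem_closed hv rfl
  exact congrArg Subtype.val this


/-- S9977 -/
theorem exists_isFTPoint_of_isLocallyClosed {X : Sp S} (hX : IsAlgSpace X) :
    (∀ T : Set (Points X), IsLocallyClosed T → T.Nonempty → ∃ x ∈ T, IsFTPoint x) ∧
    (∀ T : Set (Points X), IsClosed T → T ⊆ closure {x | x ∈ T ∧ IsFTPoint x}) := by
  have key : ∀ T : Set (Points X), IsLocallyClosed T → T.Nonempty → ∃ x ∈ T, IsFTPoint x := by
    intro T hT hne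
    obtain ⟨U₀, a, hae, has⟩ := hX.atlas
    have hT₀ : IsLocallyClosed (Points.ofPt a ⁻¹' T) := hT.preimage (Points.continuous_ofPt a)
    have hne₀ : (Points.ofPt a ⁻¹' T).Nonempty := by
      obtain ⟨x, hx⟩ := hne
      obtain ⟨u, rfl⟩ := surjective_ofPt a has x
      exact ⟨u, hx⟩
    obtain ⟨u, huT, U', h1, h2⟩ := exists_locally_closed_point_of_isLocallyClosed _ hT₀ hne₀
    obtain ⟨U, φ, u', hφ, hu', he⟩ := exists_chart_closed_point a hae u U' h1 h2
    refine ⟨Points.ofPt a u, huT, ?_⟩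
    rw [← he]
    exact isFTPoint_of_isClosed φ hφ u' hu'
  refine ⟨key, fun T hT x hx => ?_⟩
  rw [mem_closure_iff]
  intro N hN hxN
  obtain ⟨y, ⟨hyT, hyN⟩, hy⟩ := key (T ∩ N) (hT.isLocallyClosed.inter hN.isLocallyClosed)
    ⟨x, hx, hxN⟩
  exact ⟨y, hyN, hyT, hy⟩

/-- S9976 -/
theorem exists_isFTPoint_over_of_surjective {X Y : Sp S} (hX : IsAlgSpace X) (hY : IsAlgSpace Y)
    (f : X ⟶ Y) (hs : IsSurjectiveMor f) (y : Points Y) (hy : IsFTPoint y) :
    ∃ x : Points X, Points.map f x = y ∧ IsFTPoint x := by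
  obtain ⟨V, b, v, hb, hv, rfl⟩ := (isFTPoint_iff_exists_closed_point_chart hY y).1 hy
  obtain ⟨U, a, hae, has⟩ := hX.atlas
  obtain ⟨x₀, hx₀⟩ := hs (Points.ofPt b v)
  obtain ⟨u₀, rfl⟩ := surjective_ofPt a has x₀
  have sq := hb.rep.isPullback' (a ≫ f)
  have h2 : Etale (hb.rep.snd (a ≫ f)).left := hb.property_snd (a ≫ f)
  have hφ : RepWith @Etale ((yon S).map (hb.rep.snd (a ≫ f)) ≫ a) :=
    (RepWith @Etale).comp_mem _ _ ((repWith_yon_map_iff _ _).2 h2) hae
  obtain ⟨p, hp1, -⟩ := exists_of_ofPt_eq sq v u₀ (by rw [← hx₀]; rfl)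
  have hcl : IsClosed ((hb.rep.fst' (a ≫ f)).left ⁻¹' {v}) :=
    hv.preimage (hb.rep.fst' (a ≫ f)).left.continuous
  obtain ⟨p', hp', P', h1, h2'⟩ := exists_locally_closed_point_of_isLocallyClosed _
    hcl.isLocallyClosed ⟨p, hp1⟩
  obtain ⟨U', φ, u', hφ', hu', he⟩ := exists_chart_closed_point _ hφ p' P' h1 h2'
  refine ⟨Points.ofPt ((yon S).map (hb.rep.snd (a ≫ f)) ≫ a) p', ?_, ?_⟩
  · rw [Points.map_ofPt, Category.assoc, ← sq.w, ofPt_comp_yon_map]
    exact congrArg _ hp'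
  · rw [← he]
    exact isFTPoint_of_isClosed φ hφ' u' hu'

end Groth.Agent.Helper15
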