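import Groth.Agent.Lib.Helper15.AlgSpFinite2
import Groth.Prelude.Def_AlgSpCov

/-!
# Open subspaces of algebraic spaces
-/

set_option autoImplicit false
universe u
open CategoryTheory CategoryTheory.Limits AlgebraicGeometry MorphismProperty TopologicalSpace
open AlgSp

namespace Groth.Agent.Helper15
variable {S : Scheme.{u}}

/-- S10194: factoring through an open subspace is a condition on points. -/
theorem factors_through_open_iff {X X' Y : Sp S} (j : X' ⟶ X)
    (hj : RepWith @IsOpenImmersion j) (f : Y ⟶ X) :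
    (∃ g : Y ⟶ X', g ≫ j = f) ↔
      Set.range (Points.map f) ⊆ Set.range (Points.map j) := by
  constructor
  · rintro ⟨g, rfl⟩ _ ⟨y, rfl⟩
    exact ⟨Points.map g y, (Points.map_comp _ _ _).symm⟩
  · intro h
    have sq : IsPullback (pullback.fst f j) (pullback.snd f j) f j := IsPullback.of_hasPullback _ _
    have h1 : RepWith @IsOpenImmersion (pullback.fst f j) :=
      (RepWith @IsOpenImmersion).of_isPullback sq.flip hj
    have h2 : IsSurjectiveMor (pullback.fst f j) := by
      intro y
      obtain ⟨x', hx'⟩ := h ⟨y, rfl⟩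
      obtain ⟨p, hp, -⟩ := exists_point_of_isPullback sq y x' hx'.symm
      exact ⟨p, hp⟩
    haveI := isIso_of_repWith_isOpenImmersion_surjective _ h1
      (repWith_surjective_of_isSurjectiveMor _ h1.rep h2)
    exact ⟨inv (pullback.fst f j) ≫ pullback.snd f j, by
      rw [Category.assoc, ← sq.w, IsIso.inv_hom_id_assoc]⟩

end Groth.Agent.Helper15

namespace Groth.Agent.Helper15
variable {S : Scheme.{u}}

/-- A member of an fppf covering family hits any given point. -/
theorem exists_mem_of_mem_fppfPrecoverage {T : Scheme.{u}} {R₀ : Presieve T}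
    (hR₀ : R₀ ∈ Scheme.fppfPrecoverage T) (t : T) :
    ∃ (T' : Scheme.{u}) (i : T' ⟶ T) (t' : T'), R₀ i ∧ i t' = t := by
  have h1 : R₀ ∈ Scheme.jointlySurjectivePrecoverage T := hR₀.1
  obtain ⟨Y, g, hg, y, hy⟩ := h1 t
  cases hg with
  | of hu => exact ⟨_, _, y, hu, hy⟩

/-- A locally surjective map of sheaves is surjective on points. -/
theorem isSurjectiveMor_of_isLocallySurjective {F G : Sp S} (b : F ⟶ G)
    [Sheaf.IsLocallySurjective b] : IsSurjectiveMor b := by
  intro y
  obtain ⟨K, _, str, ξ, rfl⟩ := exists_ofField y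
  have hs := Presheaf.imageSieve_mem (J S) b.hom (yonEquiv ξ)
  obtain ⟨R₀, hR₀, hle⟩ := exists_fppf_presieve_of_mem_J _ hs
  obtain ⟨T', i, t', hi, -⟩ := exists_mem_of_mem_fppfPrecoverage hR₀
    (show ↥(Over.mk str).left from (default : Spec (CommRingCat.of K)))
  let T'' : Over S := Over.mk (i ≫ (Over.mk str).hom)
  let ι : T'' ⟶ Over.mk str := Over.homMk i
  obtain ⟨s, hs'⟩ : ∃ s : F.obj.obj (Opposite.op T''), b.hom.app _ s = G.obj.map ι.op (yonEquiv ξ) :=
    hle i hi
  let τ : (yon S).obj T'' ⟶ F := yonEquiv.symm s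
  have hτb : τ ≫ b = (yon S).map ι ≫ ξ := by
    apply yonEquiv.injective
    rw [GrothendieckTopology.uliftYonedaEquiv_comp, Equiv.apply_symm_apply]
    rw [← GrothendieckTopology.uliftYonedaEquiv_naturality]
    exact hs'
  refine ⟨Points.ofPt τ t', ?_⟩
  rw [Points.map_ofPt, hτb, ofPt_eq_ofField, ← Category.assoc, ← Functor.map_comp]
  exact ofField_comp _ ξ

theorem isSurjectiveMor_of_epi {F G : Sp S} (b : F ⟶ G) [Epi b] : IsSurjectiveMor b := by
  haveI : Sheaf.IsLocallySurjective b := (Sheaf.isLocallySurjective_iff_epi b).2 inferInstance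
  exact isSurjectiveMor_of_isLocallySurjective b

end Groth.Agent.Helper15

namespace Groth.Agent.Helper15
variable {S : Scheme.{u}}

theorem representable_diag_of_mono {X' X : Sp S} (j : X' ⟶ X) [Mono j]
    (hX : Representable (Limits.diag X)) : Representable (Limits.diag X') :=
  Functor.relativelyRepresentable.diag_of_map_from_obj (fun T t => fun T' t' => by
    have h : Representable (t ≫ j) := Functor.relativelyRepresentable.of_diag hX (t ≫ j)
    obtain ⟨b, snd, fst, sq⟩ := h (t' ≫ j)
    exact ⟨b, snd, fst, isPullback_of_comp_mono j sq⟩)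

/-- The image sheaf of a representable etale map to an algebraic space is an open subspace. -/
theorem openSubspace_of_etale {X : Sp S} (hX : IsAlgSpace X) {U : Over S}
    (a : (yon S).obj U ⟶ X) (ha : RepWith @Etale a) :
    IsAlgSpace (Sheaf.image a) ∧ RepWith @IsOpenImmersion (Sheaf.imageι a) ∧
      RepWith @Etale (Sheaf.toImage a) ∧ RepWith @Surjective (Sheaf.toImage a) ∧
      Set.range (Points.map (Sheaf.imageι a)) = Set.range (Points.ofPt a) := by
  have hfac : Sheaf.toImage a ≫ Sheaf.imageι a = a := Sheaf.toImage_ι a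
  have h1 : RepWith @Etale (Sheaf.toImage a) := by
    apply repWith_of_comp_mono _ (Sheaf.imageι a)
    rw [hfac]; exact ha
  have hsurj : IsSurjectiveMor (Sheaf.toImage a) := isSurjectiveMor_of_isLocallySurjective _
  have h2 : RepWith @Surjective (Sheaf.toImage a) :=
    repWith_surjective_of_isSurjectiveMor _ h1.rep hsurj
  have h3 : RepWith @IsOpenImmersion (Sheaf.imageι a) :=
    repWith_isOpenImmersion_of_mono_of_chart _ (Sheaf.toImage a) h1 h2 (by rw [hfac]; exact ha)
  refine ⟨⟨representable_diag_of_mono (Sheaf.imageι a) hX.diag, U, Sheaf.toImage a, h1, h2⟩,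
    h3, h1, h2, ?_⟩
  ext x
  constructor
  · rintro ⟨y, rfl⟩
    obtain ⟨z, rfl⟩ := hsurj y
    obtain ⟨u, rfl⟩ := (Points.schemeEquiv U).surjective z
    refine ⟨u, ?_⟩
    rw [← Points.map_comp, hfac]
    exact Points.ofPt_eq_map_ofScheme a u
  · rintro ⟨u, rfl⟩
    refine ⟨Points.ofPt (Sheaf.toImage a) u, ?_⟩
    rw [Points.map_ofPt, hfac]

/-- S10195. -/
theorem exists_open_subspace_of_isOpen {X : Sp S} (hX : IsAlgSpace X) (W : Set (Points X))
    (hW : IsOpen W) :
    ∃ (X' : Sp S) (j : X' ⟶ X), IsAlgSpace X' ∧ RepWith @IsOpenImmersion j ∧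
      Set.range (Points.map j) = W := by
  obtain ⟨U, p, hpe, hps⟩ := hX.atlas
  let UW : U.left.Opens := ⟨Points.ofPt p ⁻¹' W, hW.preimage (Points.continuous_ofPt p)⟩
  let U' : Over S := Over.mk (UW.ι ≫ U.hom)
  let j₀ : U' ⟶ U := Over.homMk UW.ι rfl
  have hj₀ : Etale j₀.left := (inferInstance : Etale UW.ι)
  have ha : RepWith @Etale ((yon S).map j₀ ≫ p) :=
    (RepWith @Etale).comp_mem _ _ ((repWith_yon_map_iff _ j₀).2 hj₀) hpe
  obtain ⟨h1, h2, -, -, h5⟩ := openSubspace_of_etale hX _ ha
  refine ⟨_, _, h1, h2, ?_⟩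
  rw [h5]
  ext x
  constructor
  · rintro ⟨u, rfl⟩
    rw [ofPt_comp_yon_map]
    exact u.2
  · intro hx
    obtain ⟨u, rfl⟩ := surjective_ofPt p hps x
    refine ⟨⟨u, hx⟩, ?_⟩
    rw [ofPt_comp_yon_map]
    rfl

end Groth.Agent.Helper15

namespace Groth.Agent.Helper15
variable {S : Scheme.{u}}

theorem injOnFieldPts_of_mono {X Y : Sp S} (f : X ⟶ Y) [Mono f] : InjOnFieldPts f := by
  intro K _ str a b hab
  exact (cancel_mono f).1 hab

/-- The fibre product `h_U ×_F h_U` for a representable etale `a` is an etale equivalence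
relation. -/
theorem isEtaleEqvRel_of_isPullback {F : Sp S} {R U : Over S} (s t : R ⟶ U)
    (a : (yon S).obj U ⟶ F) (ha : RepWith @Etale a)
    (sq : IsPullback ((yon S).map t) ((yon S).map s) a a) : IsEtaleEqvRel s t := by
  have key : ∀ (T : Over S) (x y : T ⟶ U),
      (∃ r : T ⟶ R, r ≫ t = x ∧ r ≫ s = y) ↔ (yon S).map x ≫ a = (yon S).map y ≫ a := by
    intro T x y
    constructor
    · rintro ⟨r, rfl, rfl⟩
      rw [Functor.map_comp, Functor.map_comp, Category.assoc, Category.assoc, sq.w]
    · intro h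
      obtain ⟨r, hr⟩ := (yon S).map_surjective (sq.lift _ _ h)
      refine ⟨r, ?_, ?_⟩
      · apply (yon S).map_injective
        rw [Functor.map_comp, hr, sq.lift_fst]
      · apply (yon S).map_injective
        rw [Functor.map_comp, hr, sq.lift_snd]
  refine ⟨⟨?_, ?_⟩, ?_, ?_⟩
  · intro T r r' h1 h2
    apply (yon S).map_injective
    apply sq.hom_ext
    · rw [← Functor.map_comp, ← Functor.map_comp, h1]
    · rw [← Functor.map_comp, ← Functor.map_comp, h2]
  · intro T
    refine ⟨fun x => (key T x x).2 rfl, fun {x y} h => (key T y x).2 ((key T x y).1 h).symm,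
      fun {x y z} h1 h2 => (key T x z).2 (((key T x y).1 h1).trans ((key T y z).1 h2))⟩
  · exact ha.property a _ _ sq
  · exact ha.property a _ _ sq.flip

/-- S10196. -/
theorem exists_factor_surjective_etale_of_open_image {X X' : Sp S} {U : Over S}
    (a : (yon S).obj U ⟶ X) (ha : RepWith @Etale a) (j : X' ⟶ X)
    (hj : RepWith @IsOpenImmersion j)
    (himage : Set.range (Points.map j) = Set.range (Points.ofPt a)) :
    ∃ a' : (yon S).obj U ⟶ X', a' ≫ j = a ∧ RepWith @Etale a' ∧ RepWith @Surjective a' ∧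
      ∀ (R : Over S) (s t : R ⟶ U), IsPullback ((yon S).map t) ((yon S).map s) a a →
        IsPresentation s t a' := by
  haveI : Mono j := mono_of_repWith isOpenImmersion_le_mono j hj
  obtain ⟨a', ha'⟩ := (factors_through_open_iff j hj a).2 (by
    rintro _ ⟨y, rfl⟩
    obtain ⟨u, rfl⟩ := (Points.schemeEquiv U).surjective y
    rw [himage]
    exact ⟨u, Points.ofPt_eq_map_ofScheme a u⟩)
  have h1 : RepWith @Etale a' := by
    apply repWith_of_comp_mono _ j
    rw [ha']; exact ha
  have hsurj : IsSurjectiveMor a' := by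
    intro x'
    have : Points.map j x' ∈ Set.range (Points.ofPt a) := by
      rw [← himage]; exact ⟨x', rfl⟩
    obtain ⟨u, hu⟩ := this
    refine ⟨Points.ofScheme U u, ?_⟩
    apply (injOnFieldPts_of_mono j).injective_points_map
    rw [← Points.map_comp, ha', ← hu]
    exact (Points.ofPt_eq_map_ofScheme a u).symm
  have h2 : RepWith @Surjective a' := repWith_surjective_of_isSurjectiveMor _ h1.rep hsurj
  refine ⟨a', ha', h1, h2, fun R s t sq => ?_⟩
  have sq' : IsPullback ((yon S).map t) ((yon S).map s) a' a' := by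
    apply isPullback_of_comp_mono j
    rw [ha']; exact sq
  exact ⟨isEtaleEqvRel_of_isPullback s t a' h1 sq', h1, h2, sq'⟩

end Groth.Agent.Helper15

namespace Groth.Agent.Helper15
variable {S : Scheme.{u}}

/-- Every point of a scheme over `S` has an affine open neighbourhood mapping into an affine open
of `S`. -/
theorem exists_affine_nbhd_into_affine (U : Over S) (v : U.left) :
    ∃ O : U.left.Opens, IsAffineOpen O ∧ v ∈ O ∧
      ∃ W : S.Opens, IsAffineOpen W ∧ ∀ o : O, U.hom (O.ι o) ∈ W := by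
  obtain ⟨_, ⟨W, hW, rfl⟩, hvW, -⟩ :=
    (S.isBasis_affineOpens).exists_subset_of_mem_open (Set.mem_univ (U.hom v)) isOpen_univ
  let W' : S.Opens := W
  have hopen : IsOpen ((U.hom) ⁻¹' (W' : Set S)) := W'.2.preimage U.hom.continuous
  obtain ⟨_, ⟨O, hO, rfl⟩, hvO, hOW⟩ :=
    (U.left.isBasis_affineOpens).exists_subset_of_mem_open (show v ∈ (U.hom) ⁻¹' (W' : Set S) from hvW)
      hopen
  let O' : U.left.Opens := O
  refine ⟨O', hO, hvO, W', hW, fun o => ?_⟩
  have : (O'.ι o) ∈ (U.hom) ⁻¹' (W' : Set S) := hOW (by simpa using o.2)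
  exact this

/-- S10214. -/
theorem exists_isZarCover_affine_charts {X : Sp S} (hX : IsAlgSpace X) :
    ∃ (ι : Type u) (Xi : ι → Sp S) (j : ∀ i, Xi i ⟶ X), (∀ i, IsAlgSpace (Xi i)) ∧
      IsZarCover Xi j ∧
        ∀ i, ∃ (U : Over S) (p : (yon S).obj U ⟶ Xi i), IsAffine U.left ∧
          RepWith @Etale p ∧ RepWith @Surjective p ∧
          ∃ W : S.Opens, IsAffineOpen W ∧ ∀ v : ↥U.left, U.hom v ∈ W := by
  obtain ⟨U₀, p₀, hpe, hps⟩ := hX.atlas
  choose O hO hvO W hW hOW using exists_affine_nbhd_into_affine U₀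
  let Uv (v : U₀.left) : Over S := Over.mk ((O v).ι ≫ U₀.hom)
  let jv (v : U₀.left) : Uv v ⟶ U₀ := Over.homMk (O v).ι rfl
  have hjv (v : U₀.left) : Etale (jv v).left := (inferInstance : Etale (O v).ι)
  have ha (v : U₀.left) : RepWith @Etale ((yon S).map (jv v) ≫ p₀) :=
    (RepWith @Etale).comp_mem _ _ ((repWith_yon_map_iff _ (jv v)).2 (hjv v)) hpe
  have key := fun v => openSubspace_of_etale hX _ (ha v)
  refine ⟨U₀.left, fun v => Sheaf.image ((yon S).map (jv v) ≫ p₀),
    fun v => Sheaf.imageι _, fun v => (key v).1, ⟨fun v => (key v).2.1, fun x => ?_⟩, fun v => ?_⟩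
  · obtain ⟨v, rfl⟩ := surjective_ofPt p₀ hps x
    refine ⟨v, ?_⟩
    rw [(key v).2.2.2.2]
    refine ⟨⟨v, hvO v⟩, ?_⟩
    rw [ofPt_comp_yon_map]
    rfl
  · refine ⟨Uv v, Sheaf.toImage _, hO v, (key v).2.2.1, (key v).2.2.2.1, W v, hW v, ?_⟩
    intro o
    exact hOW v o

end Groth.Agent.Helper15

namespace Groth.Agent.Helper15
variable {S : Scheme.{u}}

/-- S10213. -/
theorem exists_etale_surjective_sigma_affine {X : Sp S} (hX : IsAlgSpace X) :
    ∃ (ι : Type u) (V : ι → Scheme.{u}) (_ : ∀ i, IsAffine (V i)) (q : (∐ V) ⟶ S)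
      (p : (yon S).obj (Over.mk q) ⟶ X),
      RepWith @Etale p ∧ RepWith @Surjective p ∧
        ∀ i, ∃ W : S.Opens, IsAffineOpen W ∧ ∀ v : ↥(V i), (Sigma.ι V i ≫ q) v ∈ W := by
  obtain ⟨U₀, p₀, hpe, hps⟩ := hX.atlas
  choose O hO hvO W hW hOW using exists_affine_nbhd_into_affine U₀
  let V (v : U₀.left) : Scheme.{u} := (O v : Scheme.{u})
  let d : (∐ V) ⟶ U₀.left := Sigma.desc (fun v => (O v).ι)
  let T : Over S := Over.mk (d ≫ U₀.hom)
  let δ : T ⟶ U₀ := Over.homMk d rfl
  have hde : Etale δ.left :=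
    IsZariskiLocalAtSource.sigmaDesc (P := @Etale) (fun v => (inferInstance : Etale (O v).ι))
  have hds : Surjective δ.left := by
    refine ⟨fun v => ?_⟩
    refine ⟨(Sigma.ι V v) ⟨v, hvO v⟩, ?_⟩
    change (Sigma.ι V v ≫ d) _ = v
    rw [Sigma.ι_desc]
    rfl
  refine ⟨U₀.left, V, fun v => hO v, d ≫ U₀.hom, (yon S).map δ ≫ p₀, ?_, ?_, fun v => ?_⟩
  · exact (RepWith @Etale).comp_mem _ _ ((repWith_yon_map_iff _ δ).2 hde) hpe
  · exact (RepWith @Surjective).comp_mem _ _ ((repWith_yon_map_iff _ δ).2 hds) hps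
  · refine ⟨W v, hW v, fun o => ?_⟩
    rw [← Category.assoc, Sigma.ι_desc]
    exact hOW v o

end Groth.Agent.Helper15

namespace Groth.Agent.Helper15
variable {S : Scheme.{u}}

/-- S10191: an immersion induces an embedding with locally closed image on points. -/
theorem isEmbedding_points_of_immersion {Z X : Sp S} (hX : IsAlgSpace X) (i : Z ⟶ X)
    (hi : RepWith @IsImmersion i) :
    Topology.IsEmbedding (Points.map i) ∧ IsLocallyClosed (Set.range (Points.map i)) := by
  haveI : Mono i := mono_of_repWith isImmersion_le_mono i hi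
  obtain ⟨U, p, hpe, hps⟩ := hX.atlas
  have hrep := hi.rep
  have sq := hrep.isPullback p
  set fst := hrep.fst p
  set snd := hrep.snd p
  haveI himm : IsImmersion snd.left := hi.property_snd p
  have hfe : RepWith @Etale fst := (RepWith @Etale).of_isPullback sq.flip hpe
  have hfs : RepWith @Surjective fst := (RepWith @Surjective).of_isPullback sq.flip hps
  have hquot : Topology.IsQuotientMap (Points.ofPt p) :=
    (isOpenMap_ofPt_of_etale p hpe).isQuotientMap (Points.continuous_ofPt p)
      (surjective_ofPt p hps)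
  refine ⟨⟨⟨?_⟩, (injOnFieldPts_of_mono i).injective_points_map⟩, ?_⟩
  · -- inducing
    apply le_antisymm
    · exact (Points.continuous_map i).le_induced
    · intro O hO
      have hO' : IsOpen (Points.ofPt fst ⁻¹' O) := hO.preimage (Points.continuous_ofPt fst)
      obtain ⟨O', hO'open, hO'eq⟩ := snd.left.isEmbedding.isInducing.isOpen_iff.1 hO'
      refine ⟨Points.ofPt p '' O', isOpenMap_ofPt_of_etale p hpe _ hO'open, ?_⟩
      ext z
      constructor
      · rintro ⟨u', hu', hz⟩
        rw [Points.ofPt_eq_map_ofScheme p u'] at hz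
        obtain ⟨q, hq1, hq2⟩ := exists_point_of_isPullback sq z _ hz.symm
        obtain ⟨v, rfl⟩ := (Points.schemeEquiv _).surjective q
        change Points.map _ (Points.ofScheme _ v) = _ at hq1
        change Points.map _ (Points.ofScheme _ v) = _ at hq2
        rw [← Points.ofPt_eq_map_ofScheme] at hq1 hq2
        rw [ofPt_yon_map] at hq2
        have hv : snd.left v = u' := (Points.schemeEquiv U).injective hq2
        have : v ∈ snd.left ⁻¹' O' := by
          change snd.left v ∈ O'
          rw [hv]; exact hu'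
        rw [hO'eq] at this
        rw [← hq1]
        exact this
      · intro hz
        obtain ⟨v, rfl⟩ := surjective_ofPt fst hfs z
        have : v ∈ snd.left ⁻¹' O' := by rw [hO'eq]; exact hz
        exact ⟨snd.left v, this, (map_ofPt_fst_eq sq v).symm⟩
  · rw [isLocallyClosed_iff_isOpen_coborder, ← hquot.isOpen_preimage,
      ← coborder_preimage (isOpenMap_ofPt_of_etale p hpe) (Points.continuous_ofPt p)]
    have : Points.ofPt p ⁻¹' Set.range (Points.map i) = Set.range snd.left := by
      have := preimage_image_of_isPullback sq Set.univ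
      rwa [Set.image_univ, Set.preimage_univ, Set.image_univ] at this
    rw [this]
    exact snd.left.isLocallyClosed_range.isOpen_coborder

end Groth.Agent.Helper15
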