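import Mathlib
import Groth.Agent.Lib.Helper15.SchemeClosedImm
import Groth.Agent.Lib.Helper15.AlgSpFTPoint
import Groth.Agent.Lib.Helper15.AlgSpOpen
import Groth.Agent.Lib.Helper16.AlgSp.SrcEtLocal

/-!
# The residual space of a finite type point
-/

set_option autoImplicit false
universe u
open CategoryTheory CategoryTheory.Limits AlgebraicGeometry MorphismProperty Opposite
open AlgSp

namespace Groth.Agent.Helper15.ResidualSp

open Groth.Agent.Helper15

variable {S : Scheme.{u}}

/-- A closed immersion into a scheme etale over a field is an open immersion. -/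
theorem isOpenImmersion_of_isClosedImmersion_of_etale_over_field {R E : Scheme.{u}} (i : R ⟶ E)
    [IsClosedImmersion i] {k : Type u} [Field k] (h : E ⟶ Spec (CommRingCat.of k)) [Etale h] :
    IsOpenImmersion i := by
  haveI : LocallyQuasiFinite h := locallyQuasiFinite_of_etale h
  haveI : DiscreteTopology E := discreteTopology_of_etale_over_field h
  have hemb : Topology.IsOpenEmbedding i :=
    ⟨i.isClosedEmbedding.isEmbedding, isOpen_discrete _⟩
  haveI : ∀ r, IsIso (i.stalkMap r) := by
    intro r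
    have hf := isField_stalk_of_etale_over_field h (i r)
    have hsurj : Function.Surjective (i.stalkMap r).hom := i.stalkMap_surjective r
    have hinj : Function.Injective (i.stalkMap r).hom := by
      rw [injective_iff_map_eq_zero]
      intro x hx
      by_contra hne
      obtain ⟨y, hy⟩ := hf.mul_inv_cancel hne
      have : (i.stalkMap r).hom (x * y) = 1 := by rw [hy, map_one]
      rw [map_mul, hx, zero_mul] at this
      exact zero_ne_one this
    exact (ConcreteCategory.isIso_iff_bijective _).2 ⟨hinj, hsurj⟩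
  exact IsOpenImmersion.of_isIso_stalkMap i hemb

end Groth.Agent.Helper15.ResidualSp

namespace Groth.Agent.Helper15.ResidualSp

open Groth.Agent.Helper15

variable {S : Scheme.{u}}

/-- The residual space of a closed point of an etale chart: the image sheaf of the residue field
point is an algebraic space, etale-covered by the spectrum of the residue field, and its inclusion
is locally of finite type. -/
theorem residual_space {X : Sp S} (hX : IsAlgSpace X) {U : Over S}
    (φ : (yon S).obj U ⟶ X) (hφ : RepWith @Etale φ) (u : U.left)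
    (hu : IsClosed ({u} : Set U.left)) :
    IsAlgSpace (Sheaf.image (FieldPt.ofPt φ u).toHom) ∧
      RepWith @Etale (Sheaf.toImage (FieldPt.ofPt φ u).toHom) ∧
      RepWith @Surjective (Sheaf.toImage (FieldPt.ofPt φ u).toHom) ∧
      LocP @LocallyOfFiniteType (Sheaf.imageι (FieldPt.ofPt φ u).toHom) := by
  set p := FieldPt.ofPt φ u with hp
  set ξ₀ := p.toHom with hξ₀
  let ι : p.pt ⟶ U := Over.homMk (U.left.fromSpecResidueField u) rfl
  have hξ : ξ₀ = (yon S).map ι ≫ φ := FieldPt.toHom_ofPt φ u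
  have hι : IsClosedImmersion ι.left := isClosed_singleton_iff_isClosedImmersion.1 hu
  have hlft : LocP @LocallyOfFiniteType ξ₀ := locP_lft_ofPt_of_isClosed φ hφ u hu
  -- the scheme `E = U ×_X pt`
  have sqE := hφ.rep.isPullback' ξ₀
  have hsnd : Etale (hφ.rep.snd ξ₀).left := hφ.property_snd ξ₀
  -- the scheme `R = pt ×_U E`
  have sqR : IsPullback (pullback.fst ι (hφ.rep.fst' ξ₀)) (pullback.snd ι (hφ.rep.fst' ξ₀)) ι
      (hφ.rep.fst' ξ₀) := IsPullback.of_hasPullback _ _
  have hci : IsClosedImmersion (pullback.snd ι (hφ.rep.fst' ξ₀)).left :=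
    MorphismProperty.of_isPullback (P := @IsClosedImmersion) (sqR.map (Over.forget S)) hι
  have hoi : IsOpenImmersion (pullback.snd ι (hφ.rep.fst' ξ₀)).left :=
    isOpenImmersion_of_isClosedImmersion_of_etale_over_field (k := p.K) _ (hφ.rep.snd ξ₀).left
  let s : pullback ι (hφ.rep.fst' ξ₀) ⟶ p.pt := pullback.snd ι (hφ.rep.fst' ξ₀) ≫ hφ.rep.snd ξ₀
  have hs : Etale s.left := by
    change Etale ((pullback.snd ι (hφ.rep.fst' ξ₀)).left ≫ (hφ.rep.snd ξ₀).left)
    infer_instance
  have big := (sqR.map (yon S)).paste_vert sqE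
  rw [← hξ, ← Functor.map_comp] at big
  -- the image
  have hfac : Sheaf.toImage ξ₀ ≫ Sheaf.imageι ξ₀ = ξ₀ := Sheaf.toImage_ι ξ₀
  have big' : IsPullback ((yon S).map (pullback.fst ι (hφ.rep.fst' ξ₀))) ((yon S).map s)
      (Sheaf.toImage ξ₀ ≫ Sheaf.imageι ξ₀) (Sheaf.toImage ξ₀ ≫ Sheaf.imageι ξ₀) := by
    rw [hfac]; exact big
  have sqZ := isPullback_of_comp_mono (Sheaf.imageι ξ₀) big'
  have hξrep : Representable ξ₀ := Functor.relativelyRepresentable.of_diag hX.diag ξ₀
  have hzrep : Representable (Sheaf.toImage ξ₀) :=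
    (repWith_of_comp_mono (P := ⊤) (Sheaf.toImage ξ₀) (Sheaf.imageι ξ₀)
      (by rw [hfac]; exact ⟨hξrep, fun _ _ _ _ _ _ => trivial⟩)).rep
  have h1 : RepWith @Etale (Sheaf.toImage ξ₀) :=
    repWith_of_isLocallySurjective_base (Sheaf.toImage ξ₀) hzrep (Sheaf.toImage ξ₀) _ _ sqZ
      @Etale ((repWith_yon_map_iff _ s).2 hs)
  have hsurj : IsSurjectiveMor (Sheaf.toImage ξ₀) := isSurjectiveMor_of_isLocallySurjective _
  have h2 : RepWith @Surjective (Sheaf.toImage ξ₀) :=
    repWith_surjective_of_isSurjectiveMor _ hzrep hsurj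
  have hZ : IsAlgSpace (Sheaf.image ξ₀) :=
    ⟨representable_diag_of_mono (Sheaf.imageι ξ₀) hX.diag, p.pt, Sheaf.toImage ξ₀, h1, h2⟩
  refine ⟨hZ, h1, h2, ?_⟩
  have hloc := Groth.Agent.Helper16.AS.isLocalOnSource_et_locP_lft (S := S)
    (fun _ : PUnit.{u+1} => (yon S).obj p.pt) (fun _ => Sheaf.toImage ξ₀) hZ
    (fun _ => IsAlgSpace.yon_obj _)
    ⟨fun _ V ψ hψ => (RepWith @Etale).comp_mem _ _ hψ h1, fun x => ⟨PUnit.unit, hsurj x⟩⟩
    (Sheaf.imageι ξ₀) hX
  refine hloc.2 (fun _ => ?_)
  rw [hfac]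
  exact hlft

end Groth.Agent.Helper15.ResidualSp
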