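import Mathlib
import Groth.Agent.Lib.Helper15.GpdGeom
import Groth.Agent.Lib.Helper15.ResidualSp
import Groth.Agent.Lib.Helper15.DecentZar
import Groth.Agent.Lib.Helper15.AlgSpLocal
import Groth.Agent.Lib.Helper15.ValExist

/-!
# Quasi-separated morphisms are decent
-/

set_option autoImplicit false
universe u
open CategoryTheory CategoryTheory.Limits AlgebraicGeometry Opposite MorphismProperty
open AlgSp

namespace Groth.Agent.Helper15.QsDecent

open Groth.Agent.Helper15

variable {S : Scheme.{u}}

/-- A monomorphism into a scheme etale over a field is an open immersion. -/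
theorem isOpenImmersion_of_mono_to_etale_over_field {R E : Scheme.{u}} (i : R ⟶ E) [Mono i]
    {k : Type u} [Field k] (h : E ⟶ Spec (CommRingCat.of k)) [Etale h] : IsOpenImmersion i := by
  haveI : LocallyQuasiFinite h := locallyQuasiFinite_of_etale h
  haveI : DiscreteTopology E := discreteTopology_of_etale_over_field h
  have hoi : ∀ r : E, IsOpenImmersion (E.fromSpecResidueField r) := fun r => by
    haveI : IsClosedImmersion (E.fromSpecResidueField r) :=
      isClosed_singleton_iff_isClosedImmersion.1 (isClosed_discrete _)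
    exact ResidualSp.isOpenImmersion_of_isClosedImmersion_of_etale_over_field _ h
  let 𝒰 : E.OpenCover := Scheme.Cover.mkOfCovers E (fun r => Spec (E.residueField r))
    (fun r => E.fromSpecResidueField r)
    (fun x => ⟨x, IsLocalRing.closedPoint _, Scheme.fromSpecResidueField_apply _ _⟩) hoi
  rw [IsZariskiLocalAtTarget.iff_of_openCover (P := @IsOpenImmersion) 𝒰]
  intro r
  change IsOpenImmersion (pullback.snd i (E.fromSpecResidueField r))
  by_cases hne : Nonempty ↥(pullback i (E.fromSpecResidueField r))
  · haveI := hne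
    haveI : IsIso (pullback.snd i (E.fromSpecResidueField r)) :=
      isIso_of_mono_to_field (K := E.residueField r) _
    infer_instance
  · haveI : IsEmpty ↥(pullback i (E.fromSpecResidueField r)) := not_nonempty_iff.1 hne
    infer_instance

/-- For a space quasi-separated over an affine scheme, the fibre product of two affine schemes
over it is quasi-compact. -/
theorem compactSpace_pullback_of_isQuasiSeparatedMor {P : Sp S} {T U₁ U₂ W : Over S}
    [IsAffine T.left] (hU₁ : IsAffine U₁.left) (hU₂ : IsAffine U₂.left)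
    (snd : P ⟶ (yon S).obj T) (hqs : IsQuasiSeparatedMor snd)
    (a₁ : (yon S).obj U₁ ⟶ P) (a₂ : (yon S).obj U₂ ⟶ P) (p₁ : W ⟶ U₁) (p₂ : W ⟶ U₂)
    (sqW : IsPullback ((yon S).map p₁) ((yon S).map p₂) a₁ a₂) : CompactSpace W.left := by
  obtain ⟨g, hg⟩ := (yon S).map_surjective (a₁ ≫ snd)
  obtain ⟨gK, hgK⟩ := (yon S).map_surjective (a₂ ≫ snd)
  have sqV₀ : IsPullback (pullback.fst g gK) (pullback.snd g gK) g gK :=
    IsPullback.of_hasPullback _ _
  have sqV := sqV₀.map (yon S)
  rw [hg, hgK] at sqV
  have hm : RepWith @QuasiCompact (pullback.mapDesc a₁ a₂ snd) := repWith_mapDesc a₁ a₂ snd hqs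
  obtain ⟨μ, hμ⟩ := (yon S).map_surjective
    (sqW.isoPullback.hom ≫ pullback.mapDesc a₁ a₂ snd ≫ sqV.isoPullback.inv)
  have sqr : IsPullback sqW.isoPullback.hom ((yon S).map μ) (pullback.mapDesc a₁ a₂ snd)
      sqV.isoPullback.hom :=
    IsPullback.of_horiz_isIso ⟨by rw [hμ]; simp⟩
  haveI hμqc : QuasiCompact μ.left := hm.property _ _ μ sqr
  haveI := hU₁
  haveI := hU₂
  haveI : IsAffine ((Over.forget S).obj U₁) := hU₁
  haveI : IsAffine ((Over.forget S).obj U₂) := hU₂
  haveI : IsAffine ((Over.forget S).obj T) := ‹IsAffine T.left›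
  haveI : IsAffine (pullback g gK).left :=
    IsAffine.of_isIso (sqV₀.map (Over.forget S)).isoPullback.hom
  exact QuasiCompact.compactSpace_of_compactSpace μ.left

/-- The kernel pair of the residue field point of an etale chart has etale projections. -/
theorem etale_kernelPair_ofPt {P : Sp S} {U : Over S} (a : (yon S).obj U ⟶ P)
    (hae : RepWith @Etale a) (u : U.left) {R : Over S} (s t : R ⟶ (FieldPt.ofPt a u).pt)
    (sq : IsPullback ((yon S).map s) ((yon S).map t) (FieldPt.ofPt a u).toHom
      (FieldPt.ofPt a u).toHom) : Etale s.left := by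
  let ι : (FieldPt.ofPt a u).pt ⟶ U := Over.homMk (U.left.fromSpecResidueField u) rfl
  have hq : (FieldPt.ofPt a u).toHom = (yon S).map ι ≫ a := FieldPt.toHom_ofPt a u
  have sqE := hae.rep.isPullback' (FieldPt.ofPt a u).toHom
  haveI hK : Etale (hae.rep.snd (FieldPt.ofPt a u).toHom).left := hae.property_snd _
  have hw : (yon S).map (t ≫ ι) ≫ a = (yon S).map s ≫ (FieldPt.ofPt a u).toHom := by
    rw [Functor.map_comp, Category.assoc, ← hq, sq.w]
  obtain ⟨ρ, hρ⟩ := (yon S).map_surjective (sqE.lift _ _ hw)
  have hρ1 : ρ ≫ hae.rep.fst' (FieldPt.ofPt a u).toHom = t ≫ ι := (yon S).map_injective (by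
    rw [Functor.map_comp, hρ, sqE.lift_fst])
  have hρ2 : ρ ≫ hae.rep.snd (FieldPt.ofPt a u).toHom = s := (yon S).map_injective (by
    rw [Functor.map_comp, hρ, sqE.lift_snd])
  haveI : Mono ι.left := (inferInstance : Mono (U.left.fromSpecResidueField u))
  haveI : Mono ι := Over.mono_of_mono_left _
  haveI : Mono ρ := by
    refine ⟨fun {Z} x y hxy => ?_⟩
    apply (yon S).map_injective
    apply sq.hom_ext
    · rw [← Functor.map_comp, ← Functor.map_comp, ← hρ2, ← Category.assoc, hxy, Category.assoc]
    · rw [← Functor.map_comp, ← Functor.map_comp]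
      congr 1
      rw [← cancel_mono ι, Category.assoc, Category.assoc, ← hρ1, ← Category.assoc, hxy,
        Category.assoc]
  haveI : Mono ρ.left := inferInstance
  haveI : IsOpenImmersion ρ.left :=
    isOpenImmersion_of_mono_to_etale_over_field ρ.left (k := (FieldPt.ofPt a u).K)
      (hae.rep.snd (FieldPt.ofPt a u).toHom).left
  have : s.left = ρ.left ≫ (hae.rep.snd (FieldPt.ofPt a u).toHom).left := by
    rw [← Over.comp_left, hρ2]
  rw [this]
  infer_instance

/-- An algebraic space quasi-separated over an affine scheme is decent. -/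
theorem isDecent_of_isQuasiSeparatedMor_affine {P : Sp S} (hP : IsAlgSpace P) {T : Over S}
    [IsAffine T.left] (snd : P ⟶ (yon S).obj T) (hqs : IsQuasiSeparatedMor snd) : IsDecent P := by
  intro x
  obtain ⟨U, hU, a, u, hae, rfl⟩ := exists_affine_etale_nbhd hP x
  have hrep : Representable (FieldPt.ofPt a u).toHom := hP.representable_from_yon _
  have sq := hrep.isPullback' (FieldPt.ofPt a u).toHom
  have hs : Etale (hrep.fst' (FieldPt.ofPt a u).toHom).left := etale_kernelPair_ofPt a hae u _ _ sq
  have haff : IsAffine (FieldPt.ofPt a u).pt.left :=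
    (inferInstance : IsAffine (Spec (CommRingCat.of (FieldPt.ofPt a u).K)))
  haveI := haff
  haveI : CompactSpace (hrep.pullback (FieldPt.ofPt a u).toHom).left :=
    compactSpace_pullback_of_isQuasiSeparatedMor haff haff snd hqs _ _ _ _ sq
  have hqc : QuasiCompact (hrep.fst' (FieldPt.ofPt a u).toHom).left :=
    (HasAffineProperty.iff_of_isAffine (P := @QuasiCompact)).2
      (inferInstance : CompactSpace (hrep.pullback (FieldPt.ofPt a u).toHom).left)
  obtain ⟨p, c, hc, hm, hce, hcs⟩ :=
    GpdGeom.exists_mono_fieldPt_of_etale_qc (FieldPt.ofPt a u) _ _ sq hs hqc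
  refine ⟨p, ?_, hm, ?_⟩
  · change Points.mk p = Points.mk (FieldPt.ofPt a u)
    rw [← Points.ofPt_toHom (FieldPt.ofPt a u) (IsLocalRing.closedPoint _), ← hc,
      ofPt_comp_yon_map, Points.ofPt_toHom]
  · have hrp : Representable p.toHom := hP.representable_from_yon _
    refine repWith_of_forall_affine hrp @QuasiCompact ?_
    intro V W' hV g fst snd' sqW'
    haveI := hV
    have sqW'' := hrep.isPullback' g
    have hw : ((yon S).map (hrep.fst' g) ≫ (yon S).map c) ≫ p.toHom =
        (yon S).map (hrep.snd g) ≫ g := by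
      rw [Category.assoc, hc]; exact sqW''.w
    obtain ⟨m, hm'⟩ := (yon S).map_surjective (sqW'.lift _ _ hw)
    have hm1 : (yon S).map m ≫ fst = (yon S).map (hrep.fst' g) ≫ (yon S).map c := by
      rw [hm', sqW'.lift_fst]
    have hm2 : m ≫ snd' = hrep.snd g := (yon S).map_injective (by
      rw [Functor.map_comp, hm', sqW'.lift_snd])
    have sqm : IsPullback ((yon S).map (hrep.fst' g)) ((yon S).map m) ((yon S).map c) fst := by
      refine (IsPullback.of_right ?_ hm1 sqW'.flip).flip
      rw [hc, ← Functor.map_comp, hm2]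
      exact sqW''.flip
    have hms : Surjective m.left :=
      ((repWith_yon_map_iff @Surjective c).2 hcs).property fst _ m sqm
    haveI : CompactSpace (hrep.pullback g).left :=
      compactSpace_pullback_of_isQuasiSeparatedMor haff hV snd hqs _ _ _ _ sqW''
    haveI : CompactSpace W'.left :=
      Function.Surjective.compactSpace m.left.continuous hms.surj
    exact (HasAffineProperty.iff_of_isAffine (P := @QuasiCompact)).2
      (inferInstance : CompactSpace W'.left)

end Groth.Agent.Helper15.QsDecent
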