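import Mathlib.RingTheory.Flat.Equalizer
import Mathlib.RingTheory.TensorProduct.Maps
import Mathlib.Algebra.Category.Ring.Constructions
import Mathlib.RingTheory.RingHom.Flat

/-!
# Coalgebra form of flat descent for algebras

Let `A → B'` be flat and `B` a `B'`-algebra with a "coaction" `ρ : B → B' ⊗[A] B` (counital,
coassociative, compatible with `B'`).  Then `B' ⊗[A] D ≃ B` for `D` the equalizer of `ρ` and
`b ↦ 1 ⊗ b`.
-/

set_option autoImplicit false
set_option linter.unusedSectionVars false
universe u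
open TensorProduct

namespace Groth.Agent.Helper15.AffDesc

section Concrete

variable {A B' B : Type u} [CommRing A] [CommRing B'] [CommRing B] [Algebra A B'] [Algebra A B]
  [Algebra B' B] [IsScalarTower A B' B]

/-- multiplication map `B' ⊗ B → B`. -/
noncomputable def mulMap (A B' B : Type u) [CommRing A] [CommRing B'] [CommRing B] [Algebra A B']
    [Algebra A B] [Algebra B' B] [IsScalarTower A B' B] : B' ⊗[A] B →ₐ[A] B :=
  Algebra.TensorProduct.lift (IsScalarTower.toAlgHom A B' B) (AlgHom.id A B)
    (fun _ _ => Commute.all _ _)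

@[simp] theorem mulMap_tmul (b' : B') (b : B) : mulMap A B' B (b' ⊗ₜ b) = algebraMap B' B b' * b := by
  simp [mulMap]

variable (ρ : B →ₐ[A] B' ⊗[A] B)

/-- the descended algebra. -/
noncomputable abbrev descAlg : Subalgebra A B :=
  AlgHom.equalizer ρ (Algebra.TensorProduct.includeRight : B →ₐ[A] B' ⊗[A] B)

/-- the comparison map `B' ⊗ D → B`. -/
noncomputable def compMap : B' ⊗[A] descAlg ρ →ₐ[A] B :=
  (mulMap A B' B).comp (Algebra.TensorProduct.map (AlgHom.id A B') (descAlg ρ).val)

theorem compMap_tmul (b' : B') (d : descAlg ρ) :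
    compMap ρ (b' ⊗ₜ d) = algebraMap B' B b' * (d : B) := by
  simp [compMap]

variable [Module.Flat A B']

theorem map_val_injective :
    Function.Injective (Algebra.TensorProduct.map (AlgHom.id A B') (descAlg ρ).val) := by
  have h1 : Function.Injective (AlgHom.tensorEqualizerEquiv A B' ρ
      (Algebra.TensorProduct.includeRight : B →ₐ[A] B' ⊗[A] B)) := AlgEquiv.injective _
  intro x y hxy
  apply h1
  apply Subtype.ext
  rw [AlgHom.tensorEqualizerEquiv_apply, AlgHom.tensorEqualizerEquiv_apply,
    AlgHom.coe_tensorEqualizer, AlgHom.coe_tensorEqualizer]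
  exact hxy

theorem compMap_bijective
    (hρι : ∀ b', ρ (algebraMap B' B b') = b' ⊗ₜ 1)
    (hcounit : ∀ b, mulMap A B' B (ρ b) = b)
    (hcoassoc : ∀ b, Algebra.TensorProduct.map (AlgHom.id A B') ρ (ρ b) =
      Algebra.TensorProduct.map (AlgHom.id A B')
        (Algebra.TensorProduct.includeRight : B →ₐ[A] B' ⊗[A] B) (ρ b)) :
    Function.Bijective (compMap ρ) := by
  have key : ∀ z, ρ (compMap ρ z) =
      Algebra.TensorProduct.map (AlgHom.id A B') (descAlg ρ).val z := by
    intro z
    induction z with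
    | zero => simp
    | add x y hx hy => simp [hx, hy]
    | tmul b' d =>
      rw [compMap_tmul, map_mul, hρι]
      have hd : ρ (d : B) = (1 : B') ⊗ₜ (d : B) := d.2
      rw [hd]
      simp
  constructor
  · intro x y hxy
    apply map_val_injective ρ
    rw [← key, ← key, hxy]
  · intro b
    have hmem : ρ b ∈ AlgHom.equalizer (Algebra.TensorProduct.map (AlgHom.id A B') ρ)
        (Algebra.TensorProduct.map (AlgHom.id A B')
          (Algebra.TensorProduct.includeRight : B →ₐ[A] B' ⊗[A] B)) := hcoassoc b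
    obtain ⟨z, hz⟩ := (AlgHom.tensorEqualizerEquiv A B' ρ
      (Algebra.TensorProduct.includeRight : B →ₐ[A] B' ⊗[A] B)).surjective ⟨ρ b, hmem⟩
    have hz' : Algebra.TensorProduct.map (AlgHom.id A B') (descAlg ρ).val z = ρ b := by
      have := congrArg Subtype.val hz
      rw [AlgHom.tensorEqualizerEquiv_apply, AlgHom.coe_tensorEqualizer] at this
      exact this
    refine ⟨z, ?_⟩
    change mulMap A B' B (Algebra.TensorProduct.map (AlgHom.id A B') (descAlg ρ).val z) = b
    rw [hz', hcounit]

/-- version for an arbitrary model `(D, d)` of the equalizer. -/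
theorem lift_bijective
    (hρι : ∀ b', ρ (algebraMap B' B b') = b' ⊗ₜ 1)
    (hcounit : ∀ b, mulMap A B' B (ρ b) = b)
    (hcoassoc : ∀ b, Algebra.TensorProduct.map (AlgHom.id A B') ρ (ρ b) =
      Algebra.TensorProduct.map (AlgHom.id A B')
        (Algebra.TensorProduct.includeRight : B →ₐ[A] B' ⊗[A] B) (ρ b))
    {D : Type u} [CommRing D] [Algebra A D] (d : D →ₐ[A] B) (hinj : Function.Injective d)
    (hd : ∀ x, ρ (d x) = 1 ⊗ₜ d x) (hsurj : ∀ b, ρ b = 1 ⊗ₜ b → ∃ x, d x = b) :
    Function.Bijective (Algebra.TensorProduct.lift (IsScalarTower.toAlgHom A B' B) d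
      (fun _ _ => Commute.all _ _)) := by
  let δ₀ : D →ₐ[A] descAlg ρ := d.codRestrict (descAlg ρ) hd
  have hδ : Function.Bijective δ₀ := by
    constructor
    · intro x y hxy
      apply hinj
      exact congrArg Subtype.val hxy
    · rintro ⟨b, hb⟩
      obtain ⟨x, hx⟩ := hsurj b hb
      exact ⟨x, Subtype.ext hx⟩
  let δ : D ≃ₐ[A] descAlg ρ := AlgEquiv.ofBijective δ₀ hδ
  have heq : (Algebra.TensorProduct.lift (IsScalarTower.toAlgHom A B' B) d
      (fun _ _ => Commute.all _ _)) =
      (compMap ρ).comp (Algebra.TensorProduct.congr (AlgEquiv.refl : B' ≃ₐ[A] B') δ).toAlgHom := by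
    apply Algebra.TensorProduct.ext'
    intro b' x
    simp [compMap_tmul, δ, δ₀]
  rw [heq]
  exact (compMap_bijective ρ hρι hcounit hcoassoc).comp (AlgEquiv.bijective _)

end Concrete

end Groth.Agent.Helper15.AffDesc
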