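import Groth.Agent.Lib.Helper15.AffDesc1

set_option autoImplicit false
set_option linter.unusedSectionVars false
set_option linter.unusedVariables false
set_option linter.style.haveILetI false
set_option linter.unnecessarySimpa false
universe u
open TensorProduct CategoryTheory CategoryTheory.Limits

namespace Groth.Agent.Helper15.AffDesc

open CommRingCat in
theorem isPushout_of_coaction
    {A B' B C E D : CommRingCat.{u}} (a : A ⟶ B') (ι : B' ⟶ B)
    (i₂ : B' ⟶ C) (i₁ : B ⟶ C) (hC : IsPushout a (a ≫ ι) i₂ i₁)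
    (j₂ : B' ⟶ E) (j₁ : C ⟶ E) (hE : IsPushout a (a ≫ ι ≫ i₁) j₂ j₁)
    (ρ : B ⟶ C) (hρι : ι ≫ ρ = i₂)
    (μ : C ⟶ B) (hμ₂ : i₂ ≫ μ = ι) (hμ₁ : i₁ ≫ μ = 𝟙 B) (hμρ : ρ ≫ μ = 𝟙 B)
    (ρ₁ ν : C ⟶ E) (hρ₁₂ : i₂ ≫ ρ₁ = j₂) (hρ₁₁ : i₁ ≫ ρ₁ = ρ ≫ j₁)
    (hν₂ : i₂ ≫ ν = j₂) (hν₁ : i₁ ≫ ν = i₁ ≫ j₁) (hco : ρ ≫ ρ₁ = ρ ≫ ν)
    (hflat : a.hom.Flat)
    (d : D ⟶ B) (hd : d ≫ ρ = d ≫ i₁) (hinj : Function.Injective d.hom)
    (hsurj : ∀ b, ρ.hom b = i₁.hom b → ∃ x, d.hom x = b)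
    (a₀ : A ⟶ D) (ha₀ : a₀ ≫ d = a ≫ ι) :
    IsPushout a a₀ ι d := by
  letI algB' : Algebra A B' := a.hom.toAlgebra
  letI algB : Algebra A B := (a ≫ ι).hom.toAlgebra
  letI algB'B : Algebra B' B := ι.hom.toAlgebra
  haveI : IsScalarTower A B' B := IsScalarTower.of_algebraMap_eq' rfl
  letI algC : Algebra A C := (a ≫ ι ≫ i₁).hom.toAlgebra
  letI algD : Algebra A D := a₀.hom.toAlgebra
  haveI : Module.Flat A B' := hflat
  have hT : IsPushout a (a ≫ ι)
      (ofHom (S := B' ⊗[A] B) <| Algebra.TensorProduct.includeLeftRingHom)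
      (ofHom (S := B' ⊗[A] B) <| Algebra.TensorProduct.includeRight.toRingHom) :=
    CommRingCat.isPushout_tensorProduct A B' B
  let eC : CommRingCat.of (B' ⊗[A] B) ≅ C := hT.isoIsPushout _ _ hC
  have heC₂ : ofHom (S := B' ⊗[A] B) Algebra.TensorProduct.includeLeftRingHom ≫ eC.hom = i₂ :=
    hT.inl_isoIsPushout_hom _ _ hC
  have heC₁ : ofHom (S := B' ⊗[A] B) Algebra.TensorProduct.includeRight.toRingHom ≫ eC.hom = i₁ :=
    hT.inr_isoIsPushout_hom _ _ hC
  have hT' : IsPushout a (a ≫ ι ≫ i₁)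
      (ofHom (S := B' ⊗[A] C) <| Algebra.TensorProduct.includeLeftRingHom)
      (ofHom (S := B' ⊗[A] C) <| Algebra.TensorProduct.includeRight.toRingHom) :=
    CommRingCat.isPushout_tensorProduct A B' C
  let eE : CommRingCat.of (B' ⊗[A] C) ≅ E := hT'.isoIsPushout _ _ hE
  have heE₂ : ofHom (S := B' ⊗[A] C) Algebra.TensorProduct.includeLeftRingHom ≫ eE.hom = j₂ :=
    hT'.inl_isoIsPushout_hom _ _ hE
  have heE₁ : ofHom (S := B' ⊗[A] C) Algebra.TensorProduct.includeRight.toRingHom ≫ eE.hom = j₁ :=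
    hT'.inr_isoIsPushout_hom _ _ hE
  -- elementwise forms
  have eC_tmul : ∀ (b' : B') (b : B), eC.hom.hom (b' ⊗ₜ b) = i₂.hom b' * i₁.hom b := by
    intro b' b
    have h1 : (b' ⊗ₜ[A] b : B' ⊗[A] B) = (b' ⊗ₜ 1) * (1 ⊗ₜ b) := by simp
    rw [h1, map_mul]
    congr 1
    · exact congrArg (fun f => f.hom b') heC₂
    · exact congrArg (fun f => f.hom b) heC₁
  have eE_tmul : ∀ (b' : B') (c : C), eE.hom.hom (b' ⊗ₜ c) = j₂.hom b' * j₁.hom c := by
    intro b' c
    have h1 : (b' ⊗ₜ[A] c : B' ⊗[A] C) = (b' ⊗ₜ 1) * (1 ⊗ₜ c) := by simp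
    rw [h1, map_mul]
    congr 1
    · exact congrArg (fun f => f.hom b') heE₂
    · exact congrArg (fun f => f.hom c) heE₁
  have eC_inv_hom : ∀ c : C, eC.hom.hom (eC.inv.hom c) = c := fun c => by
    have := congrArg (fun f => f.hom c) eC.inv_hom_id
    simpa using this
  have eC_hom_inv : ∀ z : B' ⊗[A] B, eC.inv.hom (eC.hom.hom z) = z := fun z => by
    have := congrArg (fun f => f.hom z) eC.hom_inv_id
    simpa using this
  -- the coaction
  let ρ' : B →ₐ[A] B' ⊗[A] B :=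
    { toRingHom := (ρ ≫ eC.inv).hom
      commutes' := by
        intro x
        change eC.inv.hom (ρ.hom (ι.hom (a.hom x))) = (a.hom x) ⊗ₜ 1
        have h1 : ρ.hom (ι.hom (a.hom x)) = i₂.hom (a.hom x) :=
          congrArg (fun f => f.hom (a.hom x)) hρι
        have h2 : i₂.hom (a.hom x) = eC.hom.hom ((a.hom x) ⊗ₜ 1) := by
          rw [eC_tmul]; simp
        rw [h1, h2, eC_hom_inv] }
  have hρ'apply : ∀ b, eC.hom.hom (ρ' b) = ρ.hom b := fun b => eC_inv_hom _
  -- `eC` as an algebra equivalence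
  let eCa : (B' ⊗[A] B) ≃ₐ[A] C :=
    { eC.commRingCatIsoToRingEquiv with
      commutes' := by
        intro x
        change eC.hom.hom ((a.hom x) ⊗ₜ 1) = i₁.hom (ι.hom (a.hom x))
        rw [eC_tmul]
        have := congrArg (fun f => f.hom x) hC.w
        simp only [CommRingCat.hom_comp, RingHom.coe_comp, Function.comp_apply] at this
        rw [map_one, mul_one, this] }
  have heCa : ∀ z, eCa z = eC.hom.hom z := fun z => rfl
  -- the injective comparison
  let Θ : B' ⊗[A] (B' ⊗[A] B) → E := fun w =>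
    eE.hom.hom (Algebra.TensorProduct.congr (AlgEquiv.refl : B' ≃ₐ[A] B') eCa w)
  have hΘinj : Function.Injective Θ := by
    intro x y hxy
    have h1 : Function.Injective eE.hom.hom := by
      intro p q hpq
      have hp := congrArg (fun f => f.hom p) eE.hom_inv_id
      have hq := congrArg (fun f => f.hom q) eE.hom_inv_id
      simp only [CommRingCat.hom_comp, RingHom.coe_comp, Function.comp_apply,
        CommRingCat.hom_id, RingHom.id_apply] at hp hq
      rw [← hp, ← hq, hpq]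
    exact (AlgEquiv.injective _) (h1 hxy)
  have hΘ₁ : ∀ z : B' ⊗[A] B,
      Θ (Algebra.TensorProduct.map (AlgHom.id A B') ρ' z) = ρ₁.hom (eC.hom.hom z) := by
    intro z
    induction z with
    | zero => simp [Θ]
    | add x y hx hy =>
      simp only [map_add, Θ] at hx hy ⊢
      rw [hx, hy]
    | tmul b' b =>
      simp only [Θ, Algebra.TensorProduct.map_tmul, AlgHom.coe_id, id_eq,
        Algebra.TensorProduct.congr_apply, AlgEquiv.refl_toAlgHom]
      rw [eE_tmul, eC_tmul, map_mul]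
      have e1 : (eCa : (B' ⊗[A] B) →ₐ[A] C) (ρ' b) = ρ.hom b := hρ'apply b
      rw [e1]
      have e2 : ρ₁.hom (i₂.hom b') = j₂.hom b' := congrArg (fun f => f.hom b') hρ₁₂
      have e3 : ρ₁.hom (i₁.hom b) = j₁.hom (ρ.hom b) := congrArg (fun f => f.hom b) hρ₁₁
      rw [e2, e3]
  have hΘ₂ : ∀ z : B' ⊗[A] B,
      Θ (Algebra.TensorProduct.map (AlgHom.id A B')
        (Algebra.TensorProduct.includeRight : B →ₐ[A] B' ⊗[A] B) z) = ν.hom (eC.hom.hom z) := by
    intro z
    induction z with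
    | zero => simp [Θ]
    | add x y hx hy =>
      simp only [map_add, Θ] at hx hy ⊢
      rw [hx, hy]
    | tmul b' b =>
      simp only [Θ, Algebra.TensorProduct.map_tmul, AlgHom.coe_id, id_eq,
        Algebra.TensorProduct.congr_apply, AlgEquiv.refl_toAlgHom,
        Algebra.TensorProduct.includeRight_apply]
      rw [eE_tmul, eC_tmul, map_mul]
      have e1 : (eCa : (B' ⊗[A] B) →ₐ[A] C) ((1 : B') ⊗ₜ b) = i₁.hom b := by
        change eC.hom.hom ((1 : B') ⊗ₜ b) = _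
        rw [eC_tmul]; simp
      rw [e1]
      have e2 : ν.hom (i₂.hom b') = j₂.hom b' := congrArg (fun f => f.hom b') hν₂
      have e3 : ν.hom (i₁.hom b) = j₁.hom (i₁.hom b) := congrArg (fun f => f.hom b) hν₁
      rw [e2, e3]
  -- hypotheses of the concrete lemma
  have hρι' : ∀ b', ρ' (algebraMap B' B b') = b' ⊗ₜ 1 := by
    intro b'
    change eC.inv.hom (ρ.hom (ι.hom b')) = _
    have h1 : ρ.hom (ι.hom b') = i₂.hom b' := congrArg (fun f => f.hom b') hρι
    have h2 : i₂.hom b' = eC.hom.hom (b' ⊗ₜ 1) := by rw [eC_tmul]; simp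
    rw [h1, h2, eC_hom_inv]
  have hmul : ∀ z : B' ⊗[A] B, mulMap A B' B z = μ.hom (eC.hom.hom z) := by
    intro z
    induction z with
    | zero => simp
    | add x y hx hy => rw [map_add, map_add, map_add, hx, hy]
    | tmul b' b =>
      rw [mulMap_tmul, eC_tmul, map_mul]
      have e2 : μ.hom (i₂.hom b') = ι.hom b' := congrArg (fun f => f.hom b') hμ₂
      have e3 : μ.hom (i₁.hom b) = b := congrArg (fun f => f.hom b) hμ₁
      rw [e2, e3]
      rfl
  have hcounit' : ∀ b, mulMap A B' B (ρ' b) = b := by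
    intro b
    rw [hmul, hρ'apply]
    exact congrArg (fun f => f.hom b) hμρ
  have hcoassoc' : ∀ b, Algebra.TensorProduct.map (AlgHom.id A B') ρ' (ρ' b) =
      Algebra.TensorProduct.map (AlgHom.id A B')
        (Algebra.TensorProduct.includeRight : B →ₐ[A] B' ⊗[A] B) (ρ' b) := by
    intro b
    apply hΘinj
    rw [hΘ₁, hΘ₂, hρ'apply]
    exact congrArg (fun f => f.hom b) hco
  -- the model `(D, d)`
  let d' : D →ₐ[A] B :=
    { toRingHom := d.hom
      commutes' := fun x => congrArg (fun f => f.hom x) ha₀ }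
  have hd' : ∀ x, ρ' (d' x) = 1 ⊗ₜ d' x := by
    intro x
    change eC.inv.hom (ρ.hom (d.hom x)) = _
    have h1 : ρ.hom (d.hom x) = i₁.hom (d.hom x) := congrArg (fun f => f.hom x) hd
    have h2 : i₁.hom (d.hom x) = eC.hom.hom ((1 : B') ⊗ₜ d.hom x) := by rw [eC_tmul]; simp
    rw [h1, h2, eC_hom_inv]
    rfl
  have hsurj' : ∀ b, ρ' b = 1 ⊗ₜ b → ∃ x, d' x = b := by
    intro b hb
    apply hsurj b
    have h1 := congrArg eC.hom.hom hb
    rw [hρ'apply, eC_tmul] at h1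
    simpa using h1
  have hbij := lift_bijective ρ' hρι' hcounit' hcoassoc' d' hinj hd' hsurj'
  let Ψ : (B' ⊗[A] D) ≃+* B := RingEquiv.ofBijective _ hbij
  have hD : IsPushout a a₀
      (ofHom (S := B' ⊗[A] D) <| Algebra.TensorProduct.includeLeftRingHom)
      (ofHom (S := B' ⊗[A] D) <| Algebra.TensorProduct.includeRight.toRingHom) :=
    CommRingCat.isPushout_tensorProduct A B' D
  refine hD.of_iso (Iso.refl _) (Iso.refl _) (Iso.refl _) Ψ.toCommRingCatIso ?_ ?_ ?_ ?_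
  · simp
  · simp
  · ext b'
    simp [Ψ]
    rfl
  · ext x
    simp [Ψ, d']
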