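import Groth.Agent.Lib.Helper15.AlgSpImm
import Mathlib.AlgebraicGeometry.Morphisms.Affine
import Mathlib.AlgebraicGeometry.Morphisms.Integral

/-!
# Affine, integral and finite morphisms of algebraic spaces
-/

set_option autoImplicit false
universe u
open CategoryTheory CategoryTheory.Limits AlgebraicGeometry MorphismProperty Opposite
open AlgSp

namespace Groth.Agent.Helper15

variable {S : Scheme.{u}}

/-- `f` is representable with `Q` after base change to affine schemes. -/
def AffRep (Q : MorphismProperty Scheme.{u}) : MorphismProperty (Sp S) := fun F G f =>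
  ∀ ⦃Z : Over S⦄, IsAffine Z.left → ∀ (g : (yon S).obj Z ⟶ G),
    ∃ (W : Over S) (i : W ⟶ Z) (fst : (yon S).obj W ⟶ F),
      IsPullback fst ((yon S).map i) f g ∧ Q i.left

theorem isAffineMor_iff_affRep {F G : Sp S} (f : F ⟶ G) :
    IsAffineMor f ↔ AffRep @IsAffineHom f := by
  constructor
  · intro h Z hZ g
    obtain ⟨W, i, fst, sq, hW⟩ := h hZ g
    exact ⟨W, i, fst, sq, isAffineHom_of_isAffine i.left⟩
  · intro h Z hZ g
    obtain ⟨W, i, fst, sq, hW⟩ := h hZ g
    haveI : IsAffineHom i.left := hW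
    exact ⟨W, i, fst, sq, isAffine_of_isAffineHom i.left⟩

theorem isIntegralMor_iff_affRep {F G : Sp S} (f : F ⟶ G) :
    IsIntegralMor f ↔ AffRep @IsIntegralHom f := by
  constructor
  · intro h Z hZ g
    obtain ⟨W, i, fst, sq, -, hW⟩ := h hZ g
    exact ⟨W, i, fst, sq, hW⟩
  · intro h Z hZ g
    obtain ⟨W, i, fst, sq, hW⟩ := h hZ g
    haveI : IsIntegralHom i.left := hW
    exact ⟨W, i, fst, sq, isAffine_of_isAffineHom i.left, hW⟩

theorem isFiniteMor_iff_affRep {F G : Sp S} (f : F ⟶ G) :
    IsFiniteMor f ↔ AffRep @IsFinite f := by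
  constructor
  · intro h Z hZ g
    obtain ⟨W, i, fst, sq, -, hW⟩ := h hZ g
    exact ⟨W, i, fst, sq, hW⟩
  · intro h Z hZ g
    obtain ⟨W, i, fst, sq, hW⟩ := h hZ g
    haveI : IsFinite i.left := hW
    exact ⟨W, i, fst, sq, isAffine_of_isAffineHom i.left, hW⟩

instance affRep_isStableUnderBaseChange (Q : MorphismProperty Scheme.{u}) :
    (AffRep (S := S) Q).IsStableUnderBaseChange where
  of_isPullback {X Y Y' T f g f' g'} sq hg := by
    intro Z hZ t
    obtain ⟨W, i, fst, sqW, hW⟩ := hg hZ (t ≫ f)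
    refine ⟨W, i, sq.lift fst ((yon S).map i ≫ t) (by rw [sqW.w, Category.assoc]), ?_, hW⟩
    refine IsPullback.of_right ?_ (sq.lift_snd _ _ _) sq
    rw [sq.lift_fst]
    exact sqW

theorem AffRep.comp {Q : MorphismProperty Scheme.{u}} [Q.IsStableUnderComposition]
    (hQ : Q ≤ @IsAffineHom) {F G H : Sp S} {f : F ⟶ G} {g : G ⟶ H} (hf : AffRep Q f)
    (hg : AffRep Q g) : AffRep Q (f ≫ g) := by
  intro Z hZ t
  obtain ⟨W, i, fst, sqW, hW⟩ := hg hZ t
  haveI : IsAffineHom i.left := hQ _ hW
  have hWa : IsAffine W.left := isAffine_of_isAffineHom i.left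
  obtain ⟨W', i', fst', sqW', hW'⟩ := hf hWa fst
  refine ⟨W', i' ≫ i, fst', ?_, ?_⟩
  · rw [Functor.map_comp]
    exact sqW'.paste_vert sqW
  · rw [Over.comp_left]
    exact Q.comp_mem _ _ hW' hW

instance affRep_isStableUnderComposition_isAffineHom :
    (AffRep (S := S) @IsAffineHom).IsStableUnderComposition where
  comp_mem _ _ hf hg := AffRep.comp le_rfl hf hg

theorem affRep_of_repWith {Q : MorphismProperty Scheme.{u}} {F G : Sp S} {f : F ⟶ G}
    (h : RepWith Q f) : AffRep Q f := by
  intro Z _ g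
  have hrep := h.rep
  exact ⟨_, hrep.snd g, hrep.fst g, hrep.isPullback g, h.property_snd g⟩

theorem AffRep.mono {Q Q' : MorphismProperty Scheme.{u}} (hQ : Q ≤ Q') {F G : Sp S} {f : F ⟶ G}
    (h : AffRep Q f) : AffRep Q' f := by
  intro Z hZ g
  obtain ⟨W, i, fst, sqW, hW⟩ := h hZ g
  exact ⟨W, i, fst, sqW, hQ _ hW⟩

/-- A section of a morphism is a base change of its diagonal (for general properties). -/
theorem of_section {W : MorphismProperty (Sp S)} [W.IsStableUnderBaseChange] {X T : Sp S}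
    (f : X ⟶ T) (s : T ⟶ X) (hs : s ≫ f = 𝟙 T) (h : W (pullback.diagonal f)) : W s :=
  W.of_isPullback (isPullback_section f s hs
    (by rw [Category.id_comp, Category.assoc, hs, Category.comp_id])) h

/-- Cancellation for general properties of morphisms of sheaves. -/
theorem of_comp_of_diagonal {W : MorphismProperty (Sp S)} [W.IsStableUnderBaseChange]
    [W.IsStableUnderComposition] {Z Y X : Sp S} (a : Z ⟶ Y) (b : Y ⟶ X)
    (hab : W (a ≫ b)) (hΔ : W (pullback.diagonal b)) : W a := by
  haveI : W.RespectsIso := IsStableUnderBaseChange.respectsIso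
  have sq : IsPullback (pullback.fst (a ≫ b) b) (pullback.snd (a ≫ b) b) (a ≫ b) b :=
    IsPullback.of_hasPullback _ _
  have h1 : W (pullback.diagonal (pullback.fst (a ≫ b) b)) :=
    W.diagonal.of_isPullback sq.flip hΔ
  have hs : pullback.lift (𝟙 Z) a (by simp) ≫ pullback.fst (a ≫ b) b = 𝟙 Z :=
    pullback.lift_fst _ _ _
  have h2 : W (pullback.lift (𝟙 Z) a (by simp) : Z ⟶ pullback (a ≫ b) b) :=
    of_section _ _ hs h1
  have h3 : W (pullback.snd (a ≫ b) b) := W.of_isPullback sq hab
  have e : a = pullback.lift (𝟙 Z) a (by simp) ≫ pullback.snd (a ≫ b) b := by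
    rw [pullback.lift_snd]
  rw [e]
  exact W.comp_mem _ _ h2 h3

theorem isClosedImmersion_le_isAffineHom :
    (@IsClosedImmersion : MorphismProperty Scheme.{u}) ≤ @IsAffineHom :=
  fun _ _ f hf => by haveI : IsClosedImmersion f := hf; infer_instance

/-- Over a base `B`: if `X` is affine over `B` and the diagonal of `Y` over `B` is affine then any
`B`-morphism `X ⟶ Y` is affine. -/
theorem isAffineMor_of_affine_over_base {X Y B : Sp S} (g : X ⟶ Y) (p : X ⟶ B) (q : Y ⟶ B)
    (comm : g ≫ q = p) (hp : IsAffineMor p) :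
    (IsAffineMor (pullback.diagonal q) → IsAffineMor g) ∧ (IsSeparatedMor q → IsAffineMor g) := by
  have key : IsAffineMor (pullback.diagonal q) → IsAffineMor g := by
    intro hΔ
    rw [isAffineMor_iff_affRep] at hp hΔ ⊢
    rw [← comm] at hp
    exact of_comp_of_diagonal g q hp hΔ
  refine ⟨key, fun hsep => key ?_⟩
  rw [isAffineMor_iff_affRep]
  exact (affRep_of_repWith hsep).mono isClosedImmersion_le_isAffineHom

end Groth.Agent.Helper15
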