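import Groth.Agent.Lib.Helper15.AffDesc3
import Groth.Agent.Lib.Helper15.AlgSpAff

/-!
# Affine morphisms of sheaves descend along fppf charts
-/

set_option autoImplicit false
set_option linter.style.haveILetI false
set_option linter.unusedSectionVars false
set_option linter.unusedVariables false
universe u
open CategoryTheory CategoryTheory.Limits AlgebraicGeometry MorphismProperty Opposite
open AlgSp

namespace Groth.Agent.Helper15.AffDesc

variable {S : Scheme.{u}}

/-- Descent datum for a property of affine morphisms along fppf covers of affine schemes. -/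
def DescAff (Q : MorphismProperty Scheme.{u}) : Prop :=
  ∀ ⦃U W T'' T : Scheme.{u}⦄ (w : U ⟶ W) (i : U ⟶ T'') (j : W ⟶ T) (c : T'' ⟶ T),
    IsAffine U → IsAffine W → IsAffine T'' → IsAffine T → IsPullback w i j c → Flat c →
      Surjective c → LocallyOfFinitePresentation c → Q i → Q j

theorem descAff_isAffineHom : DescAff (@IsAffineHom : MorphismProperty Scheme.{u}) := by
  intro U W T'' T w i j c hU hW hT'' hT _ _ _ _ _
  exact isAffineHom_of_isAffine j

theorem descAff_of_descendsAlong (Q : MorphismProperty Scheme.{u})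
    [Q.DescendsAlong (@Surjective ⊓ @Flat ⊓ @QuasiCompact)] : DescAff Q := by
  intro U W T'' T w i j c hU hW hT'' hT sq hfl hsu _ hi
  haveI : QuasiCompact c := by
    haveI : IsAffineHom c := isAffineHom_of_isAffine c
    infer_instance
  exact MorphismProperty.of_isPullback_of_descendsAlong (P := Q)
    (Q := @Surjective ⊓ @Flat ⊓ @QuasiCompact) sq.flip ⟨⟨hsu, hfl⟩, inferInstance⟩ hi

/-- `AffRep Q` descends along an fppf chart of the target. -/
theorem affRep_of_chart {Q : MorphismProperty Scheme.{u}} (hQa : Q ≤ @IsAffineHom)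
    (hQd : DescAff Q) {F H : Sp S} (f : F ⟶ H) {V : Over S}
    (p : (yon S).obj V ⟶ H) (hp₁ : RepWith @Flat p)
    (hp₂ : RepWith @LocallyOfFinitePresentation p) (hp₃ : RepWith @Surjective p) {F' : Sp S}
    (fst : F' ⟶ F) (snd : F' ⟶ (yon S).obj V) (sq : IsPullback fst snd f p)
    (h : AffRep Q snd) : AffRep Q f := by
  intro T hT g
  haveI := hT
  have pb : IsPullback (pullback.fst f g) (pullback.snd f g) f g := IsPullback.of_hasPullback f g
  have hrep := hp₁.rep
  have sqT : IsPullback (hrep.fst g) ((yon S).map (hrep.snd g)) p g := hrep.isPullback g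
  obtain ⟨T'', d, hT'', hd1, hd2, hd3⟩ := exists_affine_refinement (hrep.snd g)
    (hp₁.property_snd g) (hp₂.property_snd g) (hp₃.property_snd g)
  haveI := hT''
  set c := hrep.snd g
  set v := hrep.fst g
  let t : (yon S).obj T'' ⟶ (yon S).obj V := (yon S).map d ≫ v
  obtain ⟨U, i, fstU, sqU, hQi⟩ := h hT'' t
  haveI : IsAffineHom i.left := hQa _ hQi
  haveI hUa : IsAffine U.left := isAffine_of_isAffineHom i.left
  have big : IsPullback (fstU ≫ fst) ((yon S).map i) f (t ≫ p) := sqU.paste_horiz sq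
  have htp : t ≫ p = (yon S).map (d ≫ c) ≫ g := by
    change ((yon S).map d ≫ v) ≫ p = _
    rw [Category.assoc, sqT.w, Functor.map_comp, Category.assoc]
  rw [htp] at big
  have hwℓ : (fstU ≫ fst) ≫ f = ((yon S).map i ≫ (yon S).map (d ≫ c)) ≫ g := by
    rw [Category.assoc _ _ g]; exact big.w
  have hℓ₁ : pb.lift _ _ hwℓ ≫ pullback.fst f g = fstU ≫ fst := pb.lift_fst _ _ _
  have hℓ₂ : pb.lift _ _ hwℓ ≫ pullback.snd f g = (yon S).map i ≫ (yon S).map (d ≫ c) :=
    pb.lift_snd _ _ _
  have left : IsPullback (pb.lift _ _ hwℓ) ((yon S).map i) (pullback.snd f g)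
      ((yon S).map (d ≫ c)) := by
    refine IsPullback.of_right ?_ hℓ₂ pb
    rw [hℓ₁]
    exact big
  obtain ⟨W, j, e, w, hWa, hej, hwe, sqW⟩ := exists_affine_rep_of_affine_cover
    (pullback.snd f g) (d ≫ c) hd1 hd2 hd3 i (pb.lift _ _ hwℓ) left
  refine ⟨W, j, e.hom ≫ pullback.fst f g, ?_, ?_⟩
  · refine pb.of_iso e.symm (Iso.refl _) (Iso.refl _) (Iso.refl _) ?_ ?_ ?_ ?_
    · simp
    · simp only [Iso.symm_hom, Iso.refl_hom, Category.comp_id]
      rw [← hej, Iso.inv_hom_id_assoc]
    · simp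
    · simp
  · exact hQd w.left i.left j.left (d ≫ c).left hUa hWa hT'' hT (sqW.map (Over.forget S)) hd1 hd3
      hd2 hQi

/-- Being affine descends along an fppf chart. -/
theorem isAffineMor_of_chart {F H : Sp S} (f : F ⟶ H) {V : Over S}
    (p : (yon S).obj V ⟶ H) (hp₁ : RepWith @Flat p)
    (hp₂ : RepWith @LocallyOfFinitePresentation p) (hp₃ : RepWith @Surjective p) {F' : Sp S}
    (fst : F' ⟶ F) (snd : F' ⟶ (yon S).obj V) (sq : IsPullback fst snd f p)
    (h : IsAffineMor snd) : IsAffineMor f := by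
  rw [isAffineMor_iff_affRep] at h ⊢
  exact affRep_of_chart le_rfl descAff_isAffineHom f p hp₁ hp₂ hp₃ fst snd sq h

end Groth.Agent.Helper15.AffDesc
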