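import Mathlib.RingTheory.Finiteness.Descent
import Mathlib.RingTheory.RingHom.Integral
import Mathlib.RingTheory.RingHom.FaithfullyFlat
import Mathlib.RingTheory.IntegralClosure.Algebra.Basic

set_option autoImplicit false
universe u
open TensorProduct

namespace Groth.Agent.Helper15.AffDesc

/-- Integral ring maps descend along faithfully flat base change. -/
theorem isIntegral_codescendsAlong_faithfullyFlat :
    RingHom.CodescendsAlong (fun f => f.IsIntegral) RingHom.FaithfullyFlat := by
  refine .mk _ RingHom.isIntegral_respectsIso fun R S T _ _ _ _ _ h h' ↦ ?_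
  rw [RingHom.faithfullyFlat_algebraMap_iff] at h
  intro t
  let T₀ : Subalgebra R T := Algebra.adjoin R {t}
  let t₀ : T₀ := ⟨t, Algebra.subset_adjoin rfl⟩
  have htop : Algebra.adjoin R ({t₀} : Set T₀) = ⊤ := by
    have := Algebra.adjoin_adjoin_coe_preimage (R := R) (s := ({t} : Set T))
    convert this using 2
    ext x
    simp [t₀, Subtype.ext_iff]
  have hgen : Algebra.adjoin S ({(1 : S) ⊗ₜ[R] t₀} : Set (S ⊗[R] T₀)) = ⊤ := by
    have := Algebra.TensorProduct.adjoin_one_tmul_image_eq_top (A := S) ({t₀} : Set T₀) htop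
    simpa using this
  have hinj : Function.Injective (Algebra.TensorProduct.map (AlgHom.id S S) T₀.val) :=
    Module.Flat.lTensor_preserves_injective_linearMap (M := S) T₀.val.toLinearMap
      Subtype.val_injective
  have hint : IsIntegral S ((1 : S) ⊗ₜ[R] t₀ : S ⊗[R] T₀) := by
    rw [← isIntegral_algHom_iff (Algebra.TensorProduct.map (AlgHom.id S S) T₀.val) hinj]
    exact h' _
  have hfg : (⊤ : Subalgebra S (S ⊗[R] T₀)).toSubmodule.FG := by
    rw [← hgen]
    exact hint.fg_adjoin_singleton
  haveI : Module.Finite S (S ⊗[R] T₀) := ⟨by simpa using hfg⟩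
  haveI : Module.Finite R T₀ := Module.Finite.of_finite_tensorProduct_of_faithfullyFlat S
  have h0 : IsIntegral R t₀ := IsIntegral.of_finite R t₀
  exact (isIntegral_algHom_iff T₀.val Subtype.val_injective).2 h0

end Groth.Agent.Helper15.AffDesc
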