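import Groth.Agent.Lib.Helper15.AffDesc4
import Groth.Agent.Lib.Helper15.AffDesc5
import Mathlib.AlgebraicGeometry.Morphisms.Finite
import Mathlib.AlgebraicGeometry.Morphisms.Integral

set_option autoImplicit false
set_option linter.style.haveILetI false
set_option linter.unusedSectionVars false
set_option linter.unusedVariables false
universe u
open CategoryTheory CategoryTheory.Limits AlgebraicGeometry MorphismProperty Opposite
open AlgSp

namespace Groth.Agent.Helper15.AffDesc

variable {S : Scheme.{u}}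

theorem faithfullyFlat_appTop {T'' T : Scheme.{u}} [IsAffine T''] [IsAffine T] (c : T'' ⟶ T)
    (hfl : Flat c) (hsu : Surjective c) : c.appTop.hom.FaithfullyFlat := by
  rw [RingHom.FaithfullyFlat.iff_flat_and_comap_surjective]
  refine ⟨(HasRingHomProperty.iff_of_isAffine (P := @Flat)).1 hfl, ?_⟩
  have h1 : Spec.map c.appTop = T''.isoSpec.inv ≫ c ≫ T.isoSpec.hom := by
    rw [← Scheme.isoSpec_hom_naturality, Iso.inv_hom_id_assoc]
  haveI : Surjective (Spec.map c.appTop) := by
    rw [h1]; infer_instance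
  exact (Spec.map c.appTop).surjective

/-- A property of morphisms of affine schemes given by a ring-hom property codescending along
faithfully flat maps satisfies `DescAff`. -/
theorem descAff_of_codescendsAlong (P : MorphismProperty Scheme.{u})
    (Q : ∀ {R S : Type u} [CommRing R] [CommRing S], (R →+* S) → Prop)
    (hPQ : ∀ {X Y : Scheme.{u}} [IsAffine X] [IsAffine Y] (f : X ⟶ Y), P f ↔ Q f.appTop.hom)
    (hQ : RingHom.CodescendsAlong Q RingHom.FaithfullyFlat) : DescAff P := by
  intro U W T'' T w i j c hU hW hT'' hT sq hfl hsu _ hi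
  rw [hPQ] at hi ⊢
  have hpo := isPushout_appTop_of_isPullback sq
  letI : Algebra Γ(T, ⊤) Γ(W, ⊤) := j.appTop.hom.toAlgebra
  letI : Algebra Γ(T, ⊤) Γ(T'', ⊤) := c.appTop.hom.toAlgebra
  letI : Algebra Γ(W, ⊤) Γ(U, ⊤) := w.appTop.hom.toAlgebra
  letI : Algebra Γ(T'', ⊤) Γ(U, ⊤) := i.appTop.hom.toAlgebra
  letI : Algebra Γ(T, ⊤) Γ(U, ⊤) := (j.appTop ≫ w.appTop).hom.toAlgebra
  haveI : IsScalarTower Γ(T, ⊤) Γ(W, ⊤) Γ(U, ⊤) := IsScalarTower.of_algebraMap_eq' rfl
  haveI : IsScalarTower Γ(T, ⊤) Γ(T'', ⊤) Γ(U, ⊤) := IsScalarTower.of_algebraMap_eq' (by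
    change (j.appTop ≫ w.appTop).hom = (c.appTop ≫ i.appTop).hom
    rw [hpo.w])
  haveI : Algebra.IsPushout Γ(T, ⊤) Γ(W, ⊤) Γ(T'', ⊤) Γ(U, ⊤) :=
    CommRingCat.isPushout_iff_isPushout.1 hpo
  exact hQ (faithfullyFlat_appTop c hfl hsu) hi

theorem descAff_isFinite : DescAff (@IsFinite : MorphismProperty Scheme.{u}) := by
  refine descAff_of_codescendsAlong _ (fun f => f.Finite) ?_
    RingHom.Finite.codescendsAlong_faithfullyFlat
  intro X Y _ _ f
  rw [HasAffineProperty.iff_of_isAffine (P := @IsFinite)]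
  exact ⟨fun h => h.2, fun h => ⟨inferInstance, h⟩⟩

theorem descAff_isIntegralHom : DescAff (@IsIntegralHom : MorphismProperty Scheme.{u}) := by
  refine descAff_of_codescendsAlong _ (fun f => f.IsIntegral) ?_
    isIntegral_codescendsAlong_faithfullyFlat
  intro X Y _ _ f
  rw [HasAffineProperty.iff_of_isAffine (P := @IsIntegralHom)]
  exact ⟨fun h => h.2, fun h => ⟨inferInstance, h⟩⟩

end Groth.Agent.Helper15.AffDesc
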