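import Groth.Agent.Lib.Helper15.AffDesc4
import Groth.Agent.Lib.Helper15.AlgSpGlue

set_option autoImplicit false
set_option linter.style.haveILetI false
set_option linter.unusedSectionVars false
set_option linter.unusedVariables false
universe u
open CategoryTheory CategoryTheory.Limits AlgebraicGeometry MorphismProperty Opposite
open AlgSp

namespace Groth.Agent.Helper15.AffDesc

variable {S : Scheme.{u}}

/-- If `X ×_Y V` is an affine scheme for every affine scheme `V` etale over the algebraic space `Y`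
then `X ⟶ Y` is affine. -/
theorem isAffineMor_of_forall_etale_affine {X Y : Sp S} (hY : IsAlgSpace Y) (f : X ⟶ Y)
    (h : ∀ (V : Over S), IsAffine V.left → ∀ (b : (yon S).obj V ⟶ Y), RepWith @Etale b →
      ∃ (W : Over S) (sW : W ⟶ V) (fstW : (yon S).obj W ⟶ X), IsAffine W.left ∧
        IsPullback fstW ((yon S).map sW) f b) : IsAffineMor f := by
  rw [isAffineMor_iff_affRep]
  intro T hT g
  haveI := hT
  obtain ⟨U₀, p₀, hpe, hps⟩ := hY.atlas
  have hrep := hpe.rep
  have sqT : IsPullback ((yon S).map (hrep.fst' g)) ((yon S).map (hrep.snd g)) p₀ g :=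
    hrep.isPullback' g
  set c := hrep.snd g
  set v := hrep.fst' g
  have hce : Etale c.left := hpe.property_snd g
  have hcs : Surjective c.left := hps.property_snd g
  have key : ∀ x : T.left, ∃ (Tx : Over S) (ιx : Tx ⟶ T), IsOpenImmersion ιx.left ∧
      (∃ y, ιx.left y = x) ∧ ∃ (W : Over S) (i : W ⟶ Tx) (fstW : (yon S).obj W ⟶ X),
        IsPullback fstW ((yon S).map i) f ((yon S).map ιx ≫ g) ∧ IsAffineHom i.left := by
    intro x
    obtain ⟨t', ht'⟩ := hcs.surj x
    -- affine open of `U₀`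
    obtain ⟨V₀, hV₀, huV₀, -⟩ := exists_isAffineOpen_mem_and_subset (X := U₀.left)
      (x := v.left t') (U := ⊤) trivial
    -- affine open of `T'`
    obtain ⟨T'x, hT'x, ht'T'x, hT'xV⟩ := exists_isAffineOpen_mem_and_subset
      (X := (hrep.pullback g).left) (x := t') (U := v.left ⁻¹ᵁ V₀) huV₀
    -- affine open of `T`
    have hopen : IsOpen (c.left '' (T'x : Set (hrep.pullback g).left)) :=
      c.left.isOpenMap _ T'x.2
    obtain ⟨Tx, hTx, hxTx, hTxsub⟩ := exists_isAffineOpen_mem_and_subset (X := T.left) (x := x)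
      (U := ⟨_, hopen⟩) ⟨t', ht'T'x, ht'⟩
    haveI : IsAffine (V₀ : Scheme.{u}) := hV₀
    haveI : IsAffine (T'x : Scheme.{u}) := hT'x
    haveI : IsAffine (Tx : Scheme.{u}) := hTx
    let Vo : Over S := Over.mk (V₀.ι ≫ U₀.hom)
    let jV : Vo ⟶ U₀ := Over.homMk V₀.ι rfl
    let T'o : Over S := Over.mk (T'x.ι ≫ (hrep.pullback g).hom)
    let jT' : T'o ⟶ hrep.pullback g := Over.homMk T'x.ι rfl
    let Txo : Over S := Over.mk (Tx.ι ≫ T.hom)
    let ιx : Txo ⟶ T := Over.homMk Tx.ι rfl
    have hrange : Set.range (T'x.ι ≫ v.left) ⊆ Set.range V₀.ι := by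
      rintro _ ⟨z, rfl⟩
      rw [Scheme.Opens.range_ι]
      exact hT'xV z.2
    let vx₀ : (T'x : Scheme.{u}) ⟶ V₀ := IsOpenImmersion.lift V₀.ι (T'x.ι ≫ v.left) hrange
    have hvx₀ : vx₀ ≫ V₀.ι = T'x.ι ≫ v.left := IsOpenImmersion.lift_fac _ _ _
    let vx : T'o ⟶ Vo := Over.homMk vx₀ (by
      change vx₀ ≫ V₀.ι ≫ U₀.hom = T'x.ι ≫ (hrep.pullback g).hom
      rw [← Category.assoc, hvx₀, Category.assoc, Over.w v])
    have hvx : vx ≫ jV = jT' ≫ v := by
      ext1
      exact hvx₀
    -- the etale chart `Vo ⟶ Y`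
    let b : (yon S).obj Vo ⟶ Y := (yon S).map jV ≫ p₀
    have hb : RepWith @Etale b := by
      refine (RepWith @Etale).comp_mem _ _ ?_ hpe
      rw [repWith_yon_map_iff]
      exact (inferInstance : Etale V₀.ι)
    obtain ⟨WV, sW, fstWV, hWV, sqWV⟩ := h Vo hV₀ b hb
    -- the fppf cover `T''x ⟶ Tx`
    have sqP : IsPullback (pullback.fst (jT' ≫ c) ιx) (pullback.snd (jT' ≫ c) ιx) (jT' ≫ c) ιx :=
      IsPullback.of_hasPullback _ _
    set π₁ := pullback.fst (jT' ≫ c) ιx
    set cx := pullback.snd (jT' ≫ c) ιx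
    have sqPl : IsPullback π₁.left cx.left (T'x.ι ≫ c.left) Tx.ι := sqP.map (Over.forget S)
    haveI : IsAffine (pullback (jT' ≫ c) ιx).left := by
      haveI : IsAffine T'o.left := hT'x
      haveI : IsAffineHom Tx.ι := isAffineHom_of_isAffine _
      exact IsAffine.of_isPullback sqPl
    have hcxe : Etale cx.left := by
      haveI : Etale (T'x.ι ≫ c.left) := inferInstance
      exact MorphismProperty.of_isPullback (P := @Etale) sqPl inferInstance
    have hcxs : Surjective cx.left := by
      refine ⟨fun y => ?_⟩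
      obtain ⟨z, hz, hzy⟩ := hTxsub y.2
      obtain ⟨w, hw1, hw2⟩ := Scheme.Pullback.exists_preimage_pullback (f := T'x.ι ≫ c.left)
        (g := Tx.ι) ⟨z, hz⟩ y (by simpa using hzy)
      refine ⟨sqPl.isoPullback.inv w, ?_⟩
      rw [← Scheme.Hom.comp_apply, IsPullback.isoPullback_inv_snd]
      exact hw2
    -- `X ×_Y T''x`
    let r : pullback (jT' ≫ c) ιx ⟶ Vo := π₁ ≫ vx
    have hrb : (yon S).map r ≫ b = (yon S).map (cx ≫ ιx) ≫ g := by
      change (yon S).map (π₁ ≫ vx) ≫ (yon S).map jV ≫ p₀ = _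
      rw [← Category.assoc, ← Functor.map_comp, Category.assoc, hvx, ← sqP.w,
        Functor.map_comp, Functor.map_comp, Functor.map_comp, Functor.map_comp,
        Category.assoc, Category.assoc, Category.assoc, sqT.w]
      simp only [Category.assoc]
    have sqU : IsPullback (pullback.fst sW r) (pullback.snd sW r) sW r :=
      IsPullback.of_hasPullback _ _
    haveI : IsAffine (pullback sW r).left := by
      have hsqUl : IsPullback (pullback.fst sW r).left
        (pullback.snd sW r).left sW.left r.left := sqU.map (Over.forget S)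
      haveI : IsAffine Vo.left := hV₀
      haveI : IsAffineHom r.left := isAffineHom_of_isAffine _
      exact IsAffine.of_isPullback hsqUl
    have big : IsPullback ((yon S).map (pullback.fst sW r) ≫ fstWV)
        ((yon S).map (pullback.snd sW r)) f ((yon S).map r ≫ b) :=
      (sqU.map (yon S)).paste_horiz sqWV
    rw [hrb, Functor.map_comp, Category.assoc] at big
    have pb : IsPullback (pullback.fst f ((yon S).map ιx ≫ g))
        (pullback.snd f ((yon S).map ιx ≫ g)) f ((yon S).map ιx ≫ g) :=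
      IsPullback.of_hasPullback _ _
    have hwℓ : ((yon S).map (pullback.fst sW r) ≫ fstWV) ≫ f =
        ((yon S).map (pullback.snd sW r) ≫ (yon S).map cx) ≫ (yon S).map ιx ≫ g := by
      rw [Category.assoc _ _ ((yon S).map ιx ≫ g)]; exact big.w
    have hℓ₁ := pb.lift_fst _ _ hwℓ
    have hℓ₂ := pb.lift_snd _ _ hwℓ
    have left : IsPullback (pb.lift _ _ hwℓ) ((yon S).map (pullback.snd sW r))
        (pullback.snd f ((yon S).map ιx ≫ g)) ((yon S).map cx) := by
      refine IsPullback.of_right ?_ hℓ₂ pb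
      rw [hℓ₁]
      exact big
    haveI : IsAffine Txo.left := hTx
    obtain ⟨W, j, e, w, hWa, hej, hwe, sqW⟩ := exists_affine_rep_of_affine_cover
      (pullback.snd f ((yon S).map ιx ≫ g)) cx (inferInstance) (inferInstance) hcxs
      (pullback.snd sW r) (pb.lift _ _ hwℓ) left
    refine ⟨Txo, ιx, (inferInstance : IsOpenImmersion Tx.ι), ⟨⟨x, hxTx⟩, rfl⟩, W, j,
      e.hom ≫ pullback.fst f ((yon S).map ιx ≫ g), ?_, ?_⟩
    · refine pb.of_iso e.symm (Iso.refl _) (Iso.refl _) (Iso.refl _) ?_ ?_ ?_ ?_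
      · simp
      · simp only [Iso.symm_hom, Iso.refl_hom, Category.comp_id]
        rw [← hej, Iso.inv_hom_id_assoc]
      · simp
      · simp
    · haveI := hWa
      exact isAffineHom_of_isAffine j.left
  choose Tx ιx hι hx W i fstW sqW hQ using key
  obtain ⟨V, fst, snd, sq, hsnd⟩ := exists_rep_pullback_of_cover (Q := @IsAffineHom) f g Tx ιx hι
    (fun t => ⟨t, hx t⟩) W i fstW sqW hQ
  exact ⟨V, snd, fst, sq, hsnd⟩

end Groth.Agent.Helper15.AffDesc
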