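import Groth.Agent.Lib.Helper15.AlgSpGeomPt
import Mathlib.CategoryTheory.Sites.Point.OfIsCofiltered
import Mathlib.CategoryTheory.Sites.Point.Conservative

set_option autoImplicit false
set_option linter.style.haveILetI false
universe u
open CategoryTheory CategoryTheory.Limits AlgebraicGeometry MorphismProperty Opposite
open AlgSp

namespace Groth.Agent.Helper15
variable {S : Scheme.{u}}

instance initiallySmall_etNbhd {X : Sp S} (p : FieldPt X) : InitiallySmall.{u + 1} (EtNbhd p) :=
  initiallySmall_of_essentiallySmall _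

/-- Lifting a geometric point along a covering family of the small étale site (any index universe). -/
theorem exists_lift_etNbhd_of_mem_etPre' {X : Sp S} (p : FieldPt X) (hp : p.IsGeometric)
    (N : EtNbhd p) {ι : Type*} (Ui : ι → EtOver X) (g : ∀ i, Ui i ⟶ N.1)
    (hcov : Presieve.ofArrows Ui g ∈ etPre X N.1) :
    ∃ (i : ι) (ui : (FieldPt.liftsTo p).obj (Ui i)), (FieldPt.liftsTo p).map (g i) ui = N.2 := by
  haveI : IsAlgClosed p.K := hp
  rw [ofArrows_mem_etPre_iff] at hcov
  obtain ⟨i, y, hy⟩ := hcov (N.2.1.left (IsLocalRing.closedPoint p.K))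
  haveI : Etale (g i).hom.left.left := EtOver.etale_left (g i)
  obtain ⟨l, hl1, -⟩ := Scheme.exists_fac_of_etale_of_isSepClosed (g i).hom.left.left
    N.2.1.left y (by
      rw [hy]; congr 1
      exact @Subsingleton.elim ↥(Spec (CommRingCat.of p.K)) inferInstance _ _)
  have hw' : l ≫ (Ui i).obj.left.hom = p.pt.hom := by
    rw [← Over.w (g i).hom.left, ← Category.assoc, hl1]
    exact Over.w N.2.1
  let l' : p.pt ⟶ (Ui i).obj.left := Over.homMk l hw'
  have hl' : l' ≫ (g i).hom.left = N.2.1 := by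
    apply Over.OverMorphism.ext
    exact hl1
  refine ⟨i, ⟨l', ?_⟩, ?_⟩
  · rw [← EtOver.w (g i), ← Category.assoc, ← Functor.map_comp, hl']
    exact N.2.2
  · apply Subtype.ext
    exact hl'

/-- The lifting property of étale neighbourhoods of a geometric point against covering sieves. -/
theorem etNbhd_lift_of_mem_etTop {X : Sp S} (hX : IsAlgSpace X) (p : FieldPt X)
    (hp : p.IsGeometric) ⦃E : EtOver X⦄ (R : Sieve E) (hR : R ∈ etTop X E) ⦃U : EtNbhd p⦄
    (f : (EtNbhd.toEtOver p).obj U ⟶ E) :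
    ∃ (Y : EtOver X) (g : Y ⟶ E) (_ : R g) (V : EtNbhd p) (q : V ⟶ U)
      (a : (EtNbhd.toEtOver p).obj V ⟶ Y), a ≫ g = (EtNbhd.toEtOver p).map q ≫ f := by
  haveI := isCofiltered_etNbhd hX p hp
  change (etPre X).Saturate E R at hR
  induction hR generalizing U with
  | of E T hT =>
    obtain ⟨ι, Z, g, rfl⟩ := T.exists_eq_ofArrows
    let N : EtNbhd p := ⟨E, (FieldPt.liftsTo p).map f U.2⟩
    obtain ⟨i, ui, hui⟩ := exists_lift_etNbhd_of_mem_etPre' p hp N Z g hT
    let Ni : EtNbhd p := ⟨Z i, ui⟩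
    let α₁ : Ni ⟶ N := ⟨g i, hui⟩
    let α₂ : U ⟶ N := ⟨f, rfl⟩
    obtain ⟨V, q₁, q₂, fac⟩ := IsCofiltered.cospan α₁ α₂
    refine ⟨Z i, g i, Sieve.le_generate _ _ _ (Presieve.ofArrows.mk i), V, q₂, q₁.1, ?_⟩
    exact congrArg Subtype.val fac
  | top E =>
    exact ⟨_, f, trivial, U, 𝟙 U, 𝟙 _, by rw [CategoryTheory.Functor.map_id]⟩
  | pullback E T _ E' h ih =>
    obtain ⟨Y, g, hg, V, q, a, fac⟩ := ih (f ≫ h)
    refine ⟨_, (EtNbhd.toEtOver p).map q ≫ f, ?_, V, q, 𝟙 _, by simp⟩
    change T (((EtNbhd.toEtOver p).map q ≫ f) ≫ h)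
    rw [Category.assoc, ← fac]
    exact T.downward_closed hg a
  | transitive E T R' _ _ ih₁ ih₂ =>
    obtain ⟨Y, g, hg, V, q, a, fac⟩ := ih₁ f
    obtain ⟨Y', g', hg', V', q', a', fac'⟩ := ih₂ hg a
    refine ⟨Y', g' ≫ g, hg', V', q' ≫ q, a', ?_⟩
    rw [← Category.assoc, fac', Category.assoc, fac, Functor.map_comp, Category.assoc]


/-- The point of the small étale site defined by a geometric point (in the universe `u + 1`). -/
noncomputable def etPoint {X : Sp S} (hX : IsAlgSpace X) (p : FieldPt X) (hp : p.IsGeometric) :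
    GrothendieckTopology.Point.{u + 1} (etTop X) :=
  haveI := isCofiltered_etNbhd hX p hp
  GrothendieckTopology.Point.ofIsCofiltered.{u + 1} (EtNbhd.toEtOver p) (etNbhd_lift_of_mem_etTop hX p hp)

section
universe v' u'
variable {A : Type u'} [Category.{v'} A] [HasColimitsOfSize.{u + 1, u + 1} A]

/-- The colimit cocone exhibiting the fibre of `etPoint` at a presheaf as the colimit over étale
neighbourhoods. -/
noncomputable def etPointCocone {X : Sp S} (hX : IsAlgSpace X) (p : FieldPt X) (hp : p.IsGeometric)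
    (P : (EtOver X)ᵒᵖ ⥤ A) : Cocone ((EtNbhd.toEtOver p).op ⋙ P) :=
  haveI := isCofiltered_etNbhd hX p hp
  GrothendieckTopology.Point.presheafFiberOfIsCofilteredCocone.{u + 1} (EtNbhd.toEtOver p)
    (etNbhd_lift_of_mem_etTop hX p hp) P

noncomputable def etPointIsColimit {X : Sp S} (hX : IsAlgSpace X) (p : FieldPt X)
    (hp : p.IsGeometric) (P : (EtOver X)ᵒᵖ ⥤ A) : IsColimit (etPointCocone hX p hp P) :=
  haveI := isCofiltered_etNbhd hX p hp
  GrothendieckTopology.Point.isColimitPresheafFiberOfIsCofilteredCocone.{u + 1} (EtNbhd.toEtOver p)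
    (etNbhd_lift_of_mem_etTop hX p hp) P

theorem etPointCocone_pt {X : Sp S} (hX : IsAlgSpace X) (p : FieldPt X) (hp : p.IsGeometric)
    (P : (EtOver X)ᵒᵖ ⥤ A) :
    (etPointCocone hX p hp P).pt = (etPoint hX p hp).presheafFiber.obj P := rfl

theorem etPointCocone_ι_naturality {X : Sp S} (hX : IsAlgSpace X) (p : FieldPt X)
    (hp : p.IsGeometric) {P Q : (EtOver X)ᵒᵖ ⥤ A} (g : P ⟶ Q) (N : (EtNbhd p)ᵒᵖ) :
    (etPointCocone hX p hp P).ι.app N ≫ (etPoint hX p hp).presheafFiber.map g =
      g.app (op N.unop.1) ≫ (etPointCocone hX p hp Q).ι.app N := by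
  haveI := isCofiltered_etNbhd hX p hp
  exact GrothendieckTopology.Point.toPresheafFiberOfIsCofiltered_naturality.{u + 1} (EtNbhd.toEtOver p)
    (etNbhd_lift_of_mem_etTop hX p hp) g N.unop

set_option backward.isDefEq.respectTransparency false in
/-- The fibre functor of `etPoint` on presheaves is the prelude's stalk functor. -/
noncomputable def etPointPresheafFiberIso {X : Sp S} (hX : IsAlgSpace X) (p : FieldPt X)
    (hp : p.IsGeometric) [HasColimitsOfShape (EtNbhd p)ᵒᵖ A] :
    (etPoint hX p hp).presheafFiber (A := A) ≅ stalkEtPshFunctor A p :=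
  NatIso.ofComponents
    (fun P => IsColimit.coconePointUniqueUpToIso (etPointIsColimit hX p hp P) (colimit.isColimit _))
    (by
      intro P Q g
      apply (etPointIsColimit hX p hp P).hom_ext
      intro N
      rw [← Category.assoc, etPointCocone_ι_naturality, Category.assoc,
        IsColimit.comp_coconePointUniqueUpToIso_hom, ← Category.assoc,
        IsColimit.comp_coconePointUniqueUpToIso_hom]
      simp [stalkEtPshFunctor]
      rfl)

/-- The fibre functor of `etPoint` on sheaves is the prelude's stalk functor. -/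
noncomputable def etPointSheafFiberIso {X : Sp S} (hX : IsAlgSpace X) (p : FieldPt X)
    (hp : p.IsGeometric) [HasColimitsOfShape (EtNbhd p)ᵒᵖ A] :
    (etPoint hX p hp).sheafFiber (A := A) ≅ stalkEtFunctor A p :=
  Functor.isoWhiskerLeft (sheafToPresheaf (etTop X) A) (etPointPresheafFiberIso hX p hp)

end

end Groth.Agent.Helper15
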