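import Groth.Agent.Lib.Helper15.AlgSpEtGsectRed
import Groth.Agent.Lib.Helper15.AlgSpEtPoint
import Mathlib.CategoryTheory.Sites.RegularEpi

set_option autoImplicit false
set_option linter.style.haveILetI false
universe u
open CategoryTheory CategoryTheory.Limits AlgebraicGeometry MorphismProperty Opposite
open AlgSp

namespace Groth.Agent.Helper15
variable {S : Scheme.{u}}

/-- Morphisms into an affine scheme exist for every ring map on global sections. -/
theorem exists_hom_appTop_eq {E T : Scheme.{u}} [IsAffine T] (ψ : Γ(T, ⊤) ⟶ Γ(E, ⊤)) :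
    ∃ g : E ⟶ T, g.appTop = ψ := by
  let h : E ⟶ Spec Γ(T, ⊤) := (ΓSpec.adjunction.homEquiv E (op Γ(T, ⊤))) ψ.op
  have hh : h.appTop = (Scheme.ΓSpecIso Γ(T, ⊤)).hom ≫ ψ := ΓSpec_adjunction_homEquiv_eq ψ
  have hinv : T.isoSpec.inv.appTop = (Scheme.ΓSpecIso Γ(T, ⊤)).inv := by
    have h1 : T.isoSpec.hom.appTop = (Scheme.ΓSpecIso Γ(T, ⊤)).hom := Scheme.toSpecΓ_appTop T
    have h2 : T.isoSpec.hom.appTop ≫ T.isoSpec.inv.appTop = 𝟙 _ := by
      rw [← Scheme.Hom.comp_appTop, Iso.inv_hom_id]; rfl
    rw [h1] at h2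
    have h3 := congrArg (fun m => (Scheme.ΓSpecIso Γ(T, ⊤)).inv ≫ m) h2
    simp only [Iso.inv_hom_id_assoc, Category.comp_id] at h3
    exact h3
  refine ⟨h ≫ T.isoSpec.inv, ?_⟩
  rw [Scheme.Hom.comp_appTop, hinv, hh, Iso.inv_hom_id_assoc]


section
variable {X : Sp S} (T : Over S) (φ : Γ(T.left, ⊤) →+* ↥(gsectEt (OEt X)))

/-- The ring map `Γ(T) ⟶ Γ(E)` obtained from `φ` by projecting to the object `E` of the site. -/
noncomputable def gsectRingHom (E : EtOver X) : Γ(T.left, ⊤) ⟶ Γ(E.obj.left.left, ⊤) :=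
  CommRingCat.ofHom (((ULift.ringEquiv.{u, u + 1} (R := Γ(E.obj.left.left, ⊤))).toRingHom.comp
    (limit.π (OEt X).obj (op E)).hom).comp φ)

theorem gsectRingHom_apply (E : EtOver X) (r : Γ(T.left, ⊤)) :
    (gsectRingHom T φ E).hom r = ((limit.π (OEt X).obj (op E)) (φ r)).down := rfl

theorem gsectRingHom_comp {E E' : EtOver X} (k : E ⟶ E') :
    gsectRingHom T φ E' ≫ k.hom.left.left.appTop = gsectRingHom T φ E := by
  ext r
  have h := ConcreteCategory.congr_hom (limit.w (OEt X).obj k.op) (φ r)
  exact congrArg ULift.down h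

variable (hS : IsTerminal S) [IsAffine T.left]

/-- The morphism `E ⟶ T` over `S` (terminal) corresponding to the ring map. -/
noncomputable def gsectHom (E : EtOver X) : E.obj.left ⟶ T :=
  Over.homMk (exists_hom_appTop_eq (gsectRingHom T φ E)).choose (hS.hom_ext _ _)

theorem gsectHom_appTop (E : EtOver X) :
    (gsectHom T φ hS E).left.appTop = gsectRingHom T φ E :=
  (exists_hom_appTop_eq (gsectRingHom T φ E)).choose_spec

theorem gsectHom_comp {E E' : EtOver X} (k : E ⟶ E') :
    k.hom.left ≫ gsectHom T φ hS E' = gsectHom T φ hS E := by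
  apply Over.OverMorphism.ext
  apply ext_of_isAffine
  rw [Over.comp_left, Scheme.Hom.comp_appTop, gsectHom_appTop, gsectHom_appTop, gsectRingHom_comp]


/-- The projection from the base change of an étale surjective chart is an epimorphism. -/
theorem epi_yon_map_snd_of_atlas {U : Over S} (a : (yon S).obj U ⟶ X) (hae : RepWith @Etale a)
    (has : RepWith @Surjective a) {V : Over S} (g : (yon S).obj V ⟶ X) :
    Epi ((yon S).map (hae.rep.snd g)) := by
  have h1 : Etale (hae.rep.snd g).left := hae.property_snd g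
  have h2 : Surjective (hae.rep.snd g).left := has.property g _ _ (hae.rep.isPullback g)
  haveI : Sheaf.IsLocallySurjective ((yon S).map (hae.rep.snd g)) :=
    isLocallySurjective_of_repWith _ ((repWith_yon_map_iff _ _).2 (etale_le_flat _ _ _ h1))
      ((repWith_yon_map_iff _ _).2 (etale_le_lfp _ _ _ h1)) ((repWith_yon_map_iff _ _).2 h2)
  exact (Sheaf.isLocallySurjective_iff_epi _).1 inferInstance

set_option backward.isDefEq.respectTransparency false in
include hS in
theorem exists_unique_hom_to_affine (hX : IsAlgSpace X) :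
    ∃! f : X ⟶ (yon S).obj T, ∀ (E : EtOver X) (r : Γ(T.left, ⊤)),
      ((limit.π (OEt X).obj (op E)) (φ r)).down =
        ((yon S).preimage (E.obj.hom ≫ f)).left.appTop r := by
  obtain ⟨U, a, hae, has⟩ := hX.atlas
  let EU : EtOver X := EtOver.mk a hae
  haveI : Sheaf.IsLocallySurjective a := isLocallySurjective_of_etale_surjective a hae has
  haveI : Epi a := (Sheaf.isLocallySurjective_iff_epi a).1 inferInstance
  haveI : IsRegularEpi a := IsRegularEpiCategory.regularEpiOfEpi a
  haveI : EffectiveEpi a := (isRegularEpi_iff_effectiveEpi a).1 inferInstance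
  let gU : U ⟶ T := gsectHom T φ hS EU
  let e : (yon S).obj U ⟶ (yon S).obj T := (yon S).map gU
  -- compatibility of the family with the two projections of `E ×_X U`
  have hproj : ∀ E : EtOver X, hae.rep.fst' E.obj.hom ≫ gU =
      hae.rep.snd E.obj.hom ≫ gsectHom T φ hS E := by
    intro E
    have h1 := gsectHom_comp T φ hS (EtOver.prodFst E EU)
    have h2 := gsectHom_comp T φ hS (EtOver.prodSnd E EU)
    exact h2.trans h1.symm
  have hcond : ∀ {Z : Sp S} (g₁ g₂ : Z ⟶ (yon S).obj U), g₁ ≫ a = g₂ ≫ a →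
      g₁ ≫ e = g₂ ≫ e := by
    intro Z g₁ g₂ h
    apply hom_ext_yon
    intro T'' z
    obtain ⟨b₁, hb₁⟩ := (yon S).map_surjective (z ≫ g₁)
    obtain ⟨b₂, hb₂⟩ := (yon S).map_surjective (z ≫ g₂)
    have hb : (yon S).map b₁ ≫ a = (yon S).map b₂ ≫ a := by
      rw [hb₁, hb₂, Category.assoc, Category.assoc, h]
    have sq := hae.rep.isPullback' a
    obtain ⟨c, hc⟩ := (yon S).map_surjective (sq.lift ((yon S).map b₁) ((yon S).map b₂) hb)
    have hc1 : c ≫ hae.rep.fst' a = b₁ :=
      (yon S).map_injective (by rw [Functor.map_comp, hc, sq.lift_fst])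
    have hc2 : c ≫ hae.rep.snd a = b₂ :=
      (yon S).map_injective (by rw [Functor.map_comp, hc, sq.lift_snd])
    rw [← Category.assoc, ← Category.assoc, ← hb₁, ← hb₂]
    change (yon S).map b₁ ≫ (yon S).map gU = (yon S).map b₂ ≫ (yon S).map gU
    rw [← Functor.map_comp, ← Functor.map_comp, ← hc1, ← hc2, Category.assoc, Category.assoc]
    congr 2
    exact hproj EU
  let f : X ⟶ (yon S).obj T := EffectiveEpi.desc a e hcond
  have hf : a ≫ f = e := EffectiveEpi.fac a e hcond
  have hfE : ∀ E : EtOver X, E.obj.hom ≫ f = (yon S).map (gsectHom T φ hS E) := by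
    intro E
    haveI := epi_yon_map_snd_of_atlas a hae has E.obj.hom
    have sq := hae.rep.isPullback' E.obj.hom
    rw [← cancel_epi ((yon S).map (hae.rep.snd E.obj.hom)), ← Category.assoc, ← sq.w,
      Category.assoc, hf, ← Functor.map_comp, ← Functor.map_comp, hproj E]
  refine ⟨f, ?_, ?_⟩
  · intro E r
    rw [hfE E, Functor.preimage_map, gsectHom_appTop]
    rfl
  · intro f' hf'
    have h1 : a ≫ f' = e := by
      have hb : (yon S).preimage (EU.obj.hom ≫ f') = gU := by
        apply Over.OverMorphism.ext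
        apply ext_of_isAffine
        ext r
        rw [gsectHom_appTop]
        exact (hf' EU r).symm
      have h2 : (yon S).map ((yon S).preimage (EU.obj.hom ≫ f')) = EU.obj.hom ≫ f' :=
        Functor.map_preimage _ _
      rw [hb] at h2
      exact h2.symm
    rw [← cancel_epi a, h1, hf]

end

end Groth.Agent.Helper15
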