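import Groth.Agent.Lib.Helper15.AlgSpField

/-!
# Immersions and permanence properties for morphisms of algebraic spaces
-/

set_option autoImplicit false
universe u
open CategoryTheory CategoryTheory.Limits AlgebraicGeometry MorphismProperty Opposite
open AlgSp

namespace Groth.Agent.Helper15

variable {S : Scheme.{u}}

/-- Cancellation: if `a ≫ b` and the diagonal of `b` are representable with `Q`, so is `a`. -/
theorem repWith_of_comp_of_diagonal {Q : MorphismProperty Scheme.{u}} [Q.IsMultiplicative]
    [Q.IsStableUnderBaseChange] {Z Y X : Sp S} (a : Z ⟶ Y) (b : Y ⟶ X)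
    (hab : RepWith Q (a ≫ b)) (hΔ : RepWith Q (pullback.diagonal b)) : RepWith Q a := by
  have sq : IsPullback (pullback.fst (a ≫ b) b) (pullback.snd (a ≫ b) b) (a ≫ b) b :=
    IsPullback.of_hasPullback _ _
  have h1 : RepWith Q (pullback.diagonal (pullback.fst (a ≫ b) b)) :=
    (RepWith Q).diagonal.of_isPullback sq.flip hΔ
  have hs : pullback.lift (𝟙 Z) a (by simp) ≫ pullback.fst (a ≫ b) b = 𝟙 Z :=
    pullback.lift_fst _ _ _
  have h2 : RepWith Q (pullback.lift (𝟙 Z) a (by simp) : Z ⟶ pullback (a ≫ b) b) :=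
    repWith_section _ _ hs h1
  have h3 : RepWith Q (pullback.snd (a ≫ b) b) := (RepWith Q).of_isPullback sq hab
  have e : a = pullback.lift (𝟙 Z) a (by simp) ≫ pullback.snd (a ≫ b) b := by
    rw [pullback.lift_snd]
  rw [e]
  exact (RepWith Q).comp_mem _ _ h2 h3

theorem permanence {Z Y X : Sp S} (hY : IsAlgSpace Y) (a : Z ⟶ Y) (b : Y ⟶ X) :
    ((Representable (a ≫ b) ∧ RepWith @LocallyOfFiniteType (a ≫ b) ∧
        RepWith (@LocallyQuasiFinite ⊓ @LocallyOfFiniteType) (a ≫ b) ∧
        RepWith @IsSeparated (a ≫ b) ∧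
        RepWith (MorphismProperty.monomorphisms Scheme.{u}) (a ≫ b)) →
      (Representable a ∧ RepWith @LocallyOfFiniteType a ∧
        RepWith (@LocallyQuasiFinite ⊓ @LocallyOfFiniteType) a ∧
        RepWith @IsSeparated a ∧
        RepWith (MorphismProperty.monomorphisms Scheme.{u}) a)) ∧
    (RepWith @IsClosedImmersion (a ≫ b) → IsSeparatedMor b →
      RepWith @IsClosedImmersion a) := by
  obtain ⟨h0, h1, h2, h3, h4⟩ := diagonal_properties hY b
  refine ⟨fun ⟨_, k1, k2, k3, k4⟩ => ?_, fun k hb => repWith_of_comp_of_diagonal a b k hb⟩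
  have r1 := repWith_of_comp_of_diagonal a b k1 h1
  exact ⟨r1.rep, r1, repWith_of_comp_of_diagonal a b k2 h4, repWith_of_comp_of_diagonal a b k3 h3,
    repWith_of_comp_of_diagonal a b k4 h2⟩


/-- The image of a base change to a scheme is the preimage of the image on points. -/
theorem range_snd_left_eq {X Y : Sp S} {f : X ⟶ Y} {T V : Over S} {g : (yon S).obj T ⟶ Y}
    {fst : (yon S).obj V ⟶ X} {snd : V ⟶ T} (sq : IsPullback fst ((yon S).map snd) f g) :
    Set.range snd.left = Points.ofPt g ⁻¹' Set.range (Points.map f) := by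
  ext t
  constructor
  · rintro ⟨v, rfl⟩
    exact ⟨Points.ofPt fst v, map_ofPt_fst_eq sq v⟩
  · rintro ⟨x, hx⟩
    rw [Points.ofPt_eq_map_ofScheme g t] at hx
    obtain ⟨p, hp1, hp2⟩ := exists_point_of_isPullback sq x _ hx
    obtain ⟨v, rfl⟩ := (Points.schemeEquiv _).surjective p
    change Points.map _ (Points.ofScheme _ v) = _ at hp2
    rw [← Points.ofPt_eq_map_ofScheme, ofPt_yon_map] at hp2
    exact ⟨v, (Points.schemeEquiv T).injective hp2⟩

/-- An immersion of algebraic spaces is a closed immersion iff its image on points is closed. -/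
theorem repWith_isClosedImmersion_iff_isClosed_range {Z X : Sp S} (hX : IsAlgSpace X) (i : Z ⟶ X)
    (hi : RepWith @IsImmersion i) :
    RepWith @IsClosedImmersion i ↔ IsClosed (Set.range (Points.map i)) := by
  constructor
  · intro h
    obtain ⟨W, q, hqe, hqs⟩ := hX.atlas
    have hc : IsClosedMor i := isClosedMor_of_repWith i (P := @IsClosedImmersion)
      (fun φ hφ => by haveI : IsClosedImmersion φ := hφ; exact φ.isClosedMap) h q hqe hqs
    rw [← Set.image_univ]
    exact hc _ isClosed_univ
  · intro h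
    refine ⟨hi.rep, fun T V g fst snd sq => ?_⟩
    haveI : IsImmersion snd.left := hi.property g fst snd sq
    change IsClosedImmersion snd.left
    refine IsClosedImmersion.of_isPreimmersion _ ?_
    have := range_snd_left_eq sq
    rw [this]
    exact h.preimage (Points.continuous_ofPt g)

end Groth.Agent.Helper15
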