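import Groth.Agent.Lib.Helper15.AlgSpLocPRep

/-!
# Relative diagonals of morphisms of algebraic spaces
-/

set_option autoImplicit false
universe u
open CategoryTheory CategoryTheory.Limits AlgebraicGeometry MorphismProperty Opposite
open AlgSp

namespace Groth.Agent.Helper15

variable {S : Scheme.{u}}

instance mono_prod_lift_pullback {X Y : Sp S} (f g : X ⟶ Y) :
    Mono (prod.lift (pullback.fst f g) (pullback.snd f g)) := by
  constructor
  intro Z a b hab
  apply pullback.hom_ext
  · have := hab =≫ prod.fst
    simpa only [Category.assoc, prod.lift_fst] using this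
  · have := hab =≫ prod.snd
    simpa only [Category.assoc, prod.lift_snd] using this

theorem diagonal_comp_prod_lift {X Y : Sp S} (f : X ⟶ Y) :
    pullback.diagonal f ≫ prod.lift (pullback.fst f f) (pullback.snd f f) = Limits.diag X := by
  ext
  · simp [prod.lift_fst]
  · simp [prod.lift_snd]

/-- The relative diagonal inherits `RepWith P` from the absolute diagonal. -/
theorem repWith_diagonal_of_repWith_diag {P : MorphismProperty Scheme.{u}} {X Y : Sp S}
    (f : X ⟶ Y) (h : RepWith P (Limits.diag X)) : RepWith P (pullback.diagonal f) := by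
  rw [← diagonal_comp_prod_lift f] at h
  exact repWith_of_comp_mono _ _ h

/-- Properties of the relative diagonal of a morphism from an algebraic space. -/
theorem diagonal_properties {X Y : Sp S} (hX : IsAlgSpace X) (f : X ⟶ Y) :
    Representable (pullback.diagonal f) ∧
    RepWith @LocallyOfFiniteType (pullback.diagonal f) ∧
    RepWith (monomorphisms Scheme.{u}) (pullback.diagonal f) ∧
    RepWith @IsSeparated (pullback.diagonal f) ∧
    RepWith (@LocallyQuasiFinite ⊓ @LocallyOfFiniteType) (pullback.diagonal f) := by
  have h1 := repWith_diagonal_of_repWith_diag f (repWith_lft_diag hX)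
  have h2 := repWith_diagonal_of_repWith_diag f
    (repWith_monomorphisms_of_mono (Limits.diag X) hX.diag)
  refine ⟨h1.rep, h1, h2, repWith_mono ?_ h2, repWith_mono ?_ (repWith_inf h1 h2)⟩
  · intro A B g hg
    haveI : Mono g := hg
    exact (inferInstance : IsSeparated g)
  · intro A B g hg
    haveI : LocallyOfFiniteType g := hg.1
    haveI : Mono g := hg.2
    exact ⟨(inferInstance : LocallyQuasiFinite g), hg.1⟩

/-- A section of `f` is a base change of the diagonal of `f`. -/
theorem isPullback_section {C : Type*} [Category C] {X T : C} (f : X ⟶ T) (s : T ⟶ X)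
    (hs : s ≫ f = 𝟙 T) [HasPullback f f] (hw : 𝟙 X ≫ f = (f ≫ s) ≫ f) :
    IsPullback s s (pullback.diagonal f) (pullback.lift (𝟙 X) (f ≫ s) hw) := by
  have hsfs : s ≫ f ≫ s = s := by
    calc s ≫ f ≫ s = (s ≫ f) ≫ s := (Category.assoc _ _ _).symm
      _ = s := by rw [hs, Category.id_comp]
  have w : s ≫ pullback.diagonal f = s ≫ pullback.lift (𝟙 X) (f ≫ s) hw := by
    apply pullback.hom_ext
    · simp only [Category.assoc, pullback.diagonal_fst, pullback.lift_fst]
    · simp only [Category.assoc, pullback.diagonal_snd, pullback.lift_snd]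
      rw [Category.comp_id, hsfs]
  have key : ∀ c : PullbackCone (pullback.diagonal f) (pullback.lift (𝟙 X) (f ≫ s) hw),
      c.fst = c.snd ∧ c.fst = c.snd ≫ f ≫ s := fun c => by
    have h1 := c.condition =≫ pullback.fst f f
    have h2 := c.condition =≫ pullback.snd f f
    simp only [Category.assoc, pullback.diagonal_fst, pullback.diagonal_snd, pullback.lift_fst,
      pullback.lift_snd, Category.comp_id] at h1 h2
    exact ⟨h1, h2⟩
  refine ⟨⟨w⟩, ⟨PullbackCone.IsLimit.mk w (fun c => c.fst ≫ f) ?_ ?_ ?_⟩⟩
  · intro c
    obtain ⟨h1, h2⟩ := key c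
    calc (c.fst ≫ f) ≫ s = c.fst ≫ f ≫ s := Category.assoc _ _ _
      _ = c.snd ≫ f ≫ s := by rw [h1]
      _ = c.fst := h2.symm
  · intro c
    obtain ⟨h1, h2⟩ := key c
    calc (c.fst ≫ f) ≫ s = c.fst ≫ f ≫ s := Category.assoc _ _ _
      _ = c.snd ≫ f ≫ s := by rw [h1]
      _ = c.fst := h2.symm
      _ = c.snd := h1
  · intro c m hm1 hm2
    calc m = m ≫ 𝟙 T := (Category.comp_id _).symm
      _ = m ≫ s ≫ f := by rw [hs]
      _ = (m ≫ s) ≫ f := (Category.assoc _ _ _).symm
      _ = c.fst ≫ f := by rw [hm1]

/-- Properties of a section of a morphism between algebraic spaces, from those of the diagonal. -/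
theorem repWith_section {P : MorphismProperty Scheme.{u}} {X T : Sp S} (f : X ⟶ T) (s : T ⟶ X)
    (hs : s ≫ f = 𝟙 T) (h : RepWith P (pullback.diagonal f)) : RepWith P s :=
  (RepWith P).of_isPullback (isPullback_section f s hs
    (by rw [Category.id_comp, Category.assoc, hs, Category.comp_id])) h

/-- Properties of `X ×_Z Y ⟶ X ×_T Y` from those of the diagonal of `Z ⟶ T`. -/
theorem repWith_mapDesc {P : MorphismProperty Scheme.{u}} {X Y Z T : Sp S} (f : X ⟶ Z) (g : Y ⟶ Z)
    (h : Z ⟶ T) (hd : RepWith P (pullback.diagonal h)) : RepWith P (pullback.mapDesc f g h) :=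
  (RepWith P).of_isPullback (pullback_map_diagonal_isPullback f g h) hd

/-- For a representable morphism to an algebraic space, the diagonal has `P` in the representable
sense iff `f` is representable by morphisms whose diagonal has `P`. -/
theorem repWith_diagonal_iff_of_representable (P : MorphismProperty Scheme.{u})
    [P.IsStableUnderBaseChange] [P.IsLocalAtTarget Scheme.fppfPrecoverage] {X Y : Sp S}
    (hX : IsAlgSpace X) (hY : IsAlgSpace Y) (f : X ⟶ Y) (hf : Representable f) :
    RepWith P (pullback.diagonal f) ↔ RepWith P.diagonal f := by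
  constructor
  · intro h
    refine ⟨hf, fun T V g fst snd sq => ?_⟩
    have h1 : (RepWith P).diagonal ((yon S).map snd) :=
      (RepWith P).diagonal.of_isPullback sq h
    exact (repWith_diagonal_yon_map_iff P snd).1 h1
  · intro h
    obtain ⟨V₀, q, hqe, hqs⟩ := hY.atlas
    have sq := hf.isPullback q
    set σ := (yon S).map (hf.snd q) with hσ
    have sqD := isPullback_diagonal_of_isPullback sq
    have sqM := isPullback_map_of_isPullback sq
    have hbe : RepWith @Etale (pullback.map σ σ f f (hf.fst q) (hf.fst q) q sq.w.symm sq.w.symm) :=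
      (RepWith @Etale).of_isPullback sqM.flip hqe
    have hbs : RepWith @Surjective
        (pullback.map σ σ f f (hf.fst q) (hf.fst q) q sq.w.symm sq.w.symm) :=
      (RepWith @Surjective).of_isPullback sqM.flip hqs
    haveI := isLocallySurjective_of_etale_surjective _ hbe hbs
    have hd : RepWith P (pullback.diagonal σ) :=
      (repWith_diagonal_yon_map_iff P (hf.snd q)).2 (h.property_snd q)
    exact repWith_of_isLocallySurjective_base (pullback.diagonal f)
      (diagonal_properties hX f).1 _ (hf.fst q) (pullback.diagonal σ) sqD P hd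

/-- For a representable morphism of algebraic spaces, separated in the diagonal sense agrees with
separated in the representable sense. -/
theorem isSeparatedMor_iff_repWith {X Y : Sp S} (hX : IsAlgSpace X) (hY : IsAlgSpace Y)
    (f : X ⟶ Y) (hf : Representable f) : IsSeparatedMor f ↔ RepWith @IsSeparated f := by
  rw [IsSeparated.isSeparated_eq_diagonal_isClosedImmersion]
  exact repWith_diagonal_iff_of_representable @IsClosedImmersion hX hY f hf

theorem isQuasiSeparatedMor_iff_repWith {X Y : Sp S} (hX : IsAlgSpace X) (hY : IsAlgSpace Y)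
    (f : X ⟶ Y) (hf : Representable f) : IsQuasiSeparatedMor f ↔ RepWith @QuasiSeparated f := by
  rw [quasiSeparated_eq_diagonal_is_quasiCompact]
  exact repWith_diagonal_iff_of_representable @QuasiCompact hX hY f hf

/-- The diagonal of `f` has `P` if the diagonal of one etale surjective base change has `P`
(`P` fppf local on the target). -/
theorem repWith_diagonal_of_chart {X Y : Sp S} (hX : IsAlgSpace X) (f : X ⟶ Y) {V : Over S}
    (p : (yon S).obj V ⟶ Y) (hpe : RepWith @Etale p) (hps : RepWith @Surjective p) {P' : Sp S}
    (fst : P' ⟶ X) (snd : P' ⟶ (yon S).obj V) (sq : IsPullback fst snd f p)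
    (P : MorphismProperty Scheme.{u}) [P.IsStableUnderBaseChange]
    [P.IsLocalAtTarget Scheme.fppfPrecoverage] (h : RepWith P (pullback.diagonal snd)) :
    RepWith P (pullback.diagonal f) := by
  have sqD := isPullback_diagonal_of_isPullback sq
  have sqM := isPullback_map_of_isPullback sq
  have hbe : RepWith @Etale (pullback.map snd snd f f fst fst p sq.w.symm sq.w.symm) :=
    (RepWith @Etale).of_isPullback sqM.flip hpe
  have hbs : RepWith @Surjective (pullback.map snd snd f f fst fst p sq.w.symm sq.w.symm) :=
    (RepWith @Surjective).of_isPullback sqM.flip hps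
  haveI := isLocallySurjective_of_etale_surjective _ hbe hbs
  exact repWith_of_isLocallySurjective_base (pullback.diagonal f)
    (diagonal_properties hX f).1 _ fst (pullback.diagonal snd) sqD P h

/-- The diagonal of `f` has `P` if the diagonals of all base changes to affine schemes have `P`
(`P` Zariski local on the target). -/
theorem repWith_diagonal_of_forall_affine {X Y : Sp S} (hX : IsAlgSpace X) (f : X ⟶ Y)
    (P : MorphismProperty Scheme.{u}) [IsZariskiLocalAtTarget P]
    (h : ∀ (Z : Over S), IsAffine Z.left → ∀ (g : (yon S).obj Z ⟶ Y),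
      RepWith P (pullback.diagonal (pullback.snd f g))) :
    RepWith P (pullback.diagonal f) := by
  refine repWith_of_forall_affine (diagonal_properties hX f).1 P
    (fun T V hT c fst' snd' sq' => ?_)
  set g : (yon S).obj T ⟶ Y := c ≫ pullback.fst f f ≫ f with hg
  have sqP : IsPullback (pullback.fst f g) (pullback.snd f g) f g := IsPullback.of_hasPullback _ _
  have sqD := isPullback_diagonal_of_isPullback sqP
  have w1 : (c ≫ pullback.fst f f) ≫ f = 𝟙 _ ≫ g := by rw [Category.id_comp, Category.assoc]
  have w2 : (c ≫ pullback.snd f f) ≫ f = 𝟙 _ ≫ g := by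
    rw [Category.id_comp, Category.assoc, ← pullback.condition]
  set c' : (yon S).obj T ⟶ pullback (pullback.snd f g) (pullback.snd f g) :=
    pullback.lift (sqP.lift _ _ w1) (sqP.lift _ _ w2) (by rw [sqP.lift_snd, sqP.lift_snd]) with hc'
  have hc'b : c' ≫ pullback.map (pullback.snd f g) (pullback.snd f g) f f (pullback.fst f g)
      (pullback.fst f g) g sqP.w.symm sqP.w.symm = c := by
    apply pullback.hom_ext
    · rw [Category.assoc, pullback.lift_fst, hc', pullback.lift_fst_assoc, sqP.lift_fst]
    · rw [Category.assoc, pullback.lift_snd, hc', pullback.lift_snd_assoc, sqP.lift_fst]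
  have hw : fst' ≫ pullback.diagonal f = ((yon S).map snd' ≫ c') ≫
      pullback.map (pullback.snd f g) (pullback.snd f g) f f (pullback.fst f g)
        (pullback.fst f g) g sqP.w.symm sqP.w.symm := by
    rw [Category.assoc, hc'b]; exact sq'.w
  have hl1 := sqD.lift_fst _ _ hw
  have hl2 := sqD.lift_snd _ _ hw
  have big : IsPullback (sqD.lift _ _ hw ≫ pullback.fst f g) ((yon S).map snd')
      (pullback.diagonal f) (c' ≫ pullback.map (pullback.snd f g) (pullback.snd f g) f f
        (pullback.fst f g) (pullback.fst f g) g sqP.w.symm sqP.w.symm) := by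
    rw [hl1, hc'b]; exact sq'
  have left := IsPullback.of_right big hl2 sqD
  exact (h T hT g).property c' _ snd' left

end Groth.Agent.Helper15
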