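import Groth.Agent.Lib.Helper15.AlgSpPoints
import Groth.Prelude.Def_AlgSpDec

set_option autoImplicit false
universe u
open CategoryTheory CategoryTheory.Limits AlgebraicGeometry MorphismProperty Opposite
open AlgSp

namespace Groth.Agent.Helper15
variable {S : Scheme.{u}}

/-- The source of a decent morphism to a decent space is decent. -/
theorem isDecent_of_isDecentMor {X Y : Sp S} (f : X ⟶ Y) (hf : IsDecentMor f) (hY : IsDecent Y) :
    IsDecent X := by
  intro x
  obtain ⟨p, hp, hm, hq⟩ := hY (Points.map f x)
  have sq := IsPullback.of_hasPullback f p.toHom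
  have hP : IsDecent (pullback f p.toHom) := hf p.toHom _ _ sq
  let s : ↥(Spec (CommRingCat.of p.K)) := IsLocalRing.closedPoint p.K
  have hs : Points.map f x = Points.map p.toHom (Points.ofScheme p.pt s) := by
    rw [← hp, ← Points.ofPt_toHom p s, Points.map_ofPt, Category.id_comp]
  obtain ⟨x', hx'1, hx'2⟩ := exists_point_of_isPullback sq x _ hs
  obtain ⟨q, hq1, hq2, hq3⟩ := hP x'
  refine ⟨q.map (pullback.fst _ _), ?_, ?_, ?_⟩
  · rw [← Points.map_mk, hq1, hx'1]
  · rw [FieldPt.toHom_map]
    haveI : Mono p.toHom := hm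
    exact @mono_comp _ _ _ _ _ _ hq2 _ inferInstance
  · rw [FieldPt.toHom_map]
    exact (RepWith @QuasiCompact).comp_mem _ _ hq3
      ((RepWith @QuasiCompact).of_isPullback sq.flip hq)

/-- Base change of a decent morphism is decent. -/
theorem isDecentMor_of_isPullback {X Y X' Y' : Sp S} {f : X ⟶ Y} {g : Y' ⟶ Y} {f' : X' ⟶ Y'}
    {g' : X' ⟶ X} (sq : IsPullback g' f' f g) (hf : IsDecentMor f) : IsDecentMor f' := by
  intro T F' h fst snd sq'
  exact hf (h ≫ g) (fst ≫ g') snd (sq'.paste_horiz sq)

/-- Composition of decent morphisms is decent. -/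
theorem isDecentMor_comp {X Y Z : Sp S} (f : X ⟶ Y) (g : Y ⟶ Z) (hf : IsDecentMor f)
    (hg : IsDecentMor g) : IsDecentMor (f ≫ g) := by
  intro T F' h fst snd sq
  have sqY := IsPullback.of_hasPullback g h
  have hYT : IsDecent (pullback g h) := hg h _ _ sqY
  have w : (fst ≫ f) ≫ g = snd ≫ h := by simpa using sq.w
  have sqX : IsPullback fst (pullback.lift (fst ≫ f) snd w) f (pullback.fst g h) :=
    IsPullback.of_bot (by rw [pullback.lift_snd]; exact sq) (by rw [pullback.lift_fst]) sqY
  exact isDecent_of_isDecentMor _ (isDecentMor_of_isPullback sqX hf) hYT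

/-- Schemes are decent. -/
theorem isDecent_yon (T : Over S) : IsDecent ((yon S).obj T) := by
  intro x
  obtain ⟨t, rfl⟩ := (Points.schemeEquiv T).surjective x
  refine ⟨FieldPt.ofPt (𝟙 _) t, rfl, ?_, ?_⟩
  · rw [FieldPt.toHom_ofPt, Category.comp_id]
    have : Mono (Over.homMk (T.left.fromSpecResidueField t) rfl :
        Over.mk (T.left.fromSpecResidueField t ≫ T.hom) ⟶ T) :=
      CategoryTheory.Over.mono_of_mono_left _
    exact @Functor.map_mono _ _ _ _ (yon S) _ _ _ _ this
  · rw [FieldPt.toHom_ofPt, Category.comp_id]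
    exact (repWith_yon_map_iff _ _).2 (inferInstance : QuasiCompact (T.left.fromSpecResidueField t))

/-- Representable morphisms are decent. -/
theorem isDecentMor_of_representable {X Y : Sp S} (f : X ⟶ Y) (hf : Representable f) :
    IsDecentMor f := by
  intro T F' h fst snd sq
  obtain ⟨V, e⟩ : ∃ V : Over S, Nonempty (F' ≅ (yon S).obj V) := by
    have sq0 := hf.isPullback h
    exact ⟨_, ⟨sq.isoIsPullback _ _ sq0⟩⟩
  exact (isDecent_yon V).of_iso e.some.symm

/-- The source of a representable morphism to a decent space is decent. -/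
theorem isDecent_of_representable {X Y : Sp S} (f : X ⟶ Y) (hf : Representable f)
    (hY : IsDecent Y) : IsDecent X :=
  isDecent_of_isDecentMor f (isDecentMor_of_representable f hf) hY

/-- A morphism of algebraic spaces with decent source is decent. -/
theorem isDecentMor_of_isDecent_source {X Y : Sp S} (hY : IsAlgSpace Y) (f : X ⟶ Y)
    (hX : IsDecent X) : IsDecentMor f := by
  intro T F' h fst snd sq
  have hh : Representable h := hY.representable_from_yon h
  exact isDecent_of_representable fst
    (MorphismProperty.of_isPullback (P := Representable) sq.flip hh) hX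

end Groth.Agent.Helper15
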