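import Mathlib
import Groth.Prelude.Def_AlgSp3
import Groth.Agent.Lib.Helper15.AlgSpAff

set_option autoImplicit false

universe u

open CategoryTheory CategoryTheory.Limits AlgebraicGeometry MorphismProperty Opposite
open AlgSp

namespace Groth.Agent.Helper15.AlgSpLim

variable {S : Scheme.{u}}

attribute [local instance] IsCofiltered.isConnected

section LemmaA

variable {K : Type u} [SmallCategory K] [IsCofiltered K] (E : K ⥤ Sp S)
  (W : K → Over S) (hW : ∀ k, IsAffine (W k).left) (e : ∀ k, (yon S).obj (W k) ≅ E.obj k)

/-- The lifted diagram of schemes over `S`. -/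
noncomputable def liftDiag : K ⥤ Over S where
  obj := W
  map {k l} f := (yon S).preimage ((e k).hom ≫ E.map f ≫ (e l).inv)
  map_id k := by
    apply (yon S).map_injective
    simp
  map_comp {k l m} f g := by
    apply (yon S).map_injective
    simp

noncomputable def liftDiagIso : liftDiag E W e ⋙ yon S ≅ E :=
  NatIso.ofComponents e (fun {k l} f => by simp [liftDiag])

/-- The diagram of affine schemes. -/
noncomputable def affDiag : K ⥤ AffineScheme.{u} :=
  ObjectProperty.lift _ (liftDiag E W e ⋙ Over.forget S) (fun k => by
    change Scheme.Spec.essImage (W k).left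
    exact AlgebraicGeometry.essImage_Spec.2 (hW k))

include hW in
theorem affDiag_comp : affDiag E W hW e ⋙ AffineScheme.forgetToScheme =
    liftDiag E W e ⋙ Over.forget S := rfl

include hW in
theorem hasLimit_liftDiag_forget : HasLimit (liftDiag E W e ⋙ Over.forget S) := by
  have h : HasLimit (affDiag E W hW e ⋙ AffineScheme.forgetToScheme) := inferInstance
  rw [affDiag_comp] at h
  exact h

include hW in
theorem isAffine_limit_liftDiag_forget :
    haveI := hasLimit_liftDiag_forget E W hW e
    IsAffine (limit (liftDiag E W e ⋙ Over.forget S)) := by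
  haveI := hasLimit_liftDiag_forget E W hW e
  let c := AffineScheme.forgetToScheme.mapCone (limit.cone (affDiag E W hW e))
  have hc : IsLimit c := isLimitOfPreserves _ (limit.isLimit _)
  have iso : c.pt ≅ limit (liftDiag E W e ⋙ Over.forget S) :=
    hc.conePointUniqueUpToIso (limit.isLimit (liftDiag E W e ⋙ Over.forget S))
  haveI : IsAffine c.pt := by
    change IsAffine (limit (affDiag E W hW e)).obj
    infer_instance
  exact .of_isIso iso.inv

include hW in
theorem hasLimit_liftDiag : HasLimit (liftDiag E W e) := by
  haveI := hasLimit_liftDiag_forget E W hW e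
  exact hasLimit_of_created _ (Over.forget S)

include hW e in
/-- **Lemma A.** A cofiltered limit of sheaves representable by affine schemes is representable by an
affine scheme. -/
theorem exists_affine_rep_of_isLimit (c : Cone E) (hc : IsLimit c) :
    ∃ (L : Over S) (_ : IsAffine L.left), Nonempty ((yon S).obj L ≅ c.pt) := by
  haveI := hasLimit_liftDiag_forget E W hW e
  haveI := hasLimit_liftDiag E W hW e
  refine ⟨limit (liftDiag E W e), ?_, ?_⟩
  · have h1 : IsLimit ((Over.forget S).mapCone (limit.cone (liftDiag E W e))) :=
      isLimitOfPreserves _ (limit.isLimit _)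
    have iso : (limit (liftDiag E W e)).left ≅ limit (liftDiag E W e ⋙ Over.forget S) :=
      h1.conePointUniqueUpToIso (limit.isLimit _)
    haveI := isAffine_limit_liftDiag_forget E W hW e
    exact .of_isIso iso.hom
  · have h2 : IsLimit ((yon S).mapCone (limit.cone (liftDiag E W e))) :=
      isLimitOfPreserves _ (limit.isLimit _)
    have h3 : IsLimit ((Cone.postcompose (liftDiagIso E W e).hom).obj
        ((yon S).mapCone (limit.cone (liftDiag E W e)))) :=
      (IsLimit.postcomposeHomEquiv (liftDiagIso E W e) _).symm h2
    exact ⟨h3.conePointUniqueUpToIso hc⟩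

end LemmaA

end Groth.Agent.Helper15.AlgSpLim
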