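import Groth.Agent.Lib.Helper15.RepDiag
import Groth.Agent.Lib.Helper15.AlgSpOpen

set_option autoImplicit false
universe u
open CategoryTheory CategoryTheory.Limits AlgebraicGeometry MorphismProperty TopologicalSpace
open AlgSp

namespace Groth.Agent.Helper15

variable {S : Scheme.{u}}

/-- The source of a representable morphism into a sheaf with representable diagonal has
representable diagonal. -/
theorem representable_diag_of_representable {F G : Sp S} (f : F ⟶ G) (hf : Representable f)
    (hG : Representable (Limits.diag G)) : Representable (Limits.diag F) := by
  have h1 : Representable (pullback.diagonal f) := relativelyRepresentable_diagonal (yon S) f hf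
  have h2 : Representable (prod.lift (pullback.fst f f) (pullback.snd f f)) :=
    (Representable (S := S)).of_isPullback (isPullback_diag_prod_map (IsPullback.of_hasPullback f f)) hG
  rw [← diagonal_comp_prod_lift f]
  exact (Representable (S := S)).comp_mem _ _ h1 h2

/-- The source of a representable morphism into an algebraic space is an algebraic space. -/
theorem isAlgSpace_of_representable {F G : Sp S} (f : F ⟶ G) (hf : Representable f)
    (hG : IsAlgSpace G) : IsAlgSpace F := by
  refine ⟨representable_diag_of_representable f hf hG.diag, ?_⟩
  obtain ⟨V, q, hqe, hqs⟩ := hG.atlas
  have sq := hf.isPullback q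
  exact ⟨hf.pullback q, hf.fst q, (RepWith @Etale).of_isPullback sq.flip hqe,
    (RepWith @Surjective).of_isPullback sq.flip hqs⟩

end Groth.Agent.Helper15
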