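import Mathlib
import Groth.Prelude.Def_AlgSp3
import Groth.Agent.Lib.Helper15.AlgSpAff
import Groth.Agent.Lib.Helper15.AlgSpGlue
import Groth.Agent.Lib.Helper15.AlgSpRepSrc
import Groth.Agent.Lib.Helper15.AlgSpLim1

set_option autoImplicit false

universe u

open CategoryTheory CategoryTheory.Limits AlgebraicGeometry MorphismProperty Opposite
open AlgSp

namespace Groth.Agent.Helper15.AlgSpLim

variable {S : Scheme.{u}}

attribute [local instance] IsCofiltered.isConnected

theorem isAffineMor_cone_π {I : Type u} [SmallCategory I] [IsCofiltered I]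
    (D : I ⥤ Sp S) (hDa : ∀ (i j : I) (φ : i ⟶ j), IsAffineMor (D.map φ))
    (c : Cone D) (hc : IsLimit c) (i : I) : IsAffineMor (c.π.app i) := by
  intro Z hZ g
  let G : Over (D.obj i) ⥤ Sp S := Over.pullback g ⋙ Over.forget _
  let E : Over i ⥤ Sp S := Over.post D ⋙ G
  let c' : Cone E := G.mapCone ((Over.conePost D i).obj c)
  have hc' : IsLimit c' := isLimitOfPreserves G (Over.isLimitConePost i hc)
  have h : ∀ k : Over i, ∃ (W : Over S) (_ : IsAffine W.left),
      Nonempty ((yon S).obj W ≅ E.obj k) := by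
    intro k
    obtain ⟨W, iW, fst, sq, hWa⟩ := hDa _ _ k.hom hZ g
    exact ⟨W, hWa, ⟨sq.isoPullback⟩⟩
  choose W hW e using h
  obtain ⟨L, hL, ⟨θ⟩⟩ : ∃ (L : Over S) (_ : IsAffine L.left),
      Nonempty ((yon S).obj L ≅ pullback (c.π.app i) g) :=
    exists_affine_rep_of_isLimit E W hW (fun k => (e k).some) c' hc'
  let iL : L ⟶ Z := (yon S).preimage (θ.hom ≫ pullback.snd (c.π.app i) g)
  refine ⟨L, iL, θ.hom ≫ pullback.fst (c.π.app i) g, ?_, hL⟩
  have hiL : (yon S).map iL = θ.hom ≫ pullback.snd (c.π.app i) g := (yon S).map_preimage _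
  rw [hiL]
  exact IsPullback.of_iso (IsPullback.of_hasPullback (c.π.app i) g) θ.symm (Iso.refl _) (Iso.refl _)
    (Iso.refl _) (by simp) (by simp) (by simp) (by simp)

/-- A cofiltered limit of algebraic spaces with affine transition maps is an algebraic space. -/
theorem isAlgSpace_limit {I : Type u} [SmallCategory I] [IsCofiltered I]
    (D : I ⥤ Sp S) (hD : ∀ i, IsAlgSpace (D.obj i))
    (hDa : ∀ (i j : I) (φ : i ⟶ j), IsAffineMor (D.map φ))
    (c : Cone D) (hc : IsLimit c) : IsAlgSpace c.pt := by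
  obtain ⟨i⟩ : Nonempty I := IsCofiltered.nonempty
  have h1 : IsAffineMor (c.π.app i) := isAffineMor_cone_π D hDa c hc i
  have h2 : RepWith @IsAffineHom (c.π.app i) :=
    repWith_of_affRep _ ((isAffineMor_iff_affRep _).1 h1)
  exact isAlgSpace_of_representable (c.π.app i) h2.rep (hD i)

end Groth.Agent.Helper15.AlgSpLim
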