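import Mathlib
import Groth.Agent.Lib.Helper15.AlgSpLim2
import Groth.Agent.Lib.Helper15.AlgSpTop
import Groth.Agent.Lib.Helper15.AlgSpPoints

set_option autoImplicit false

universe u

open CategoryTheory CategoryTheory.Limits AlgebraicGeometry MorphismProperty Opposite
open AlgSp

namespace Groth.Agent.Helper15.AlgSpLim

variable {S : Scheme.{u}}

attribute [local instance] IsCofiltered.isConnected

section LemmaA

variable {K : Type u} [SmallCategory K] [IsCofiltered K] (E : K ⥤ Sp S)
  (W : K → Over S) (hW : ∀ k, IsAffine (W k).left) (e : ∀ k, (yon S).obj (W k) ≅ E.obj k)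

include hW e in
/-- Lemma A with nonemptiness. -/
theorem exists_affine_rep_of_isLimit_nonempty (hne : ∀ k, Nonempty (W k).left)
    (c : Cone E) (hc : IsLimit c) :
    ∃ (L : Over S), IsAffine L.left ∧ Nonempty L.left ∧ Nonempty ((yon S).obj L ≅ c.pt) := by
  have := hasLimit_liftDiag_forget E W hW e
  have := hasLimit_liftDiag E W hW e
  have h1 : IsLimit ((Over.forget S).mapCone (limit.cone (liftDiag E W e))) :=
    isLimitOfPreserves _ (limit.isLimit _)
  refine ⟨limit (liftDiag E W e), ?_, ?_, ?_⟩
  · have iso : (limit (liftDiag E W e)).left ≅ limit (liftDiag E W e ⋙ Over.forget S) :=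
      h1.conePointUniqueUpToIso (limit.isLimit _)
    have := isAffine_limit_liftDiag_forget E W hW e
    exact .of_isIso iso.hom
  · have : ∀ {i j : K} (f : i ⟶ j), IsAffineHom ((liftDiag E W e ⋙ Over.forget S).map f) := by
      intro i j f
      have : IsAffine ((liftDiag E W e ⋙ Over.forget S).obj i) := hW i
      have : IsAffine ((liftDiag E W e ⋙ Over.forget S).obj j) := hW j
      exact isAffineHom_of_isAffine _
    have : ∀ i, Nonempty ((liftDiag E W e ⋙ Over.forget S).obj i) := hne
    have : ∀ i, CompactSpace ((liftDiag E W e ⋙ Over.forget S).obj i) := by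
      intro i
      have : IsAffine ((liftDiag E W e ⋙ Over.forget S).obj i) := hW i
      infer_instance
    exact Scheme.nonempty_of_isLimit (liftDiag E W e ⋙ Over.forget S) _ h1
  · have h2 : IsLimit ((yon S).mapCone (limit.cone (liftDiag E W e))) :=
      isLimitOfPreserves _ (limit.isLimit _)
    have h3 : IsLimit ((Cone.postcompose (liftDiagIso E W e).hom).obj
        ((yon S).mapCone (limit.cone (liftDiag E W e)))) :=
      (IsLimit.postcomposeHomEquiv (liftDiagIso E W e) _).symm h2
    exact ⟨h3.conePointUniqueUpToIso hc⟩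

end LemmaA

/-- A cofiltered limit of nonempty quasi-compact algebraic spaces with affine transition maps is
nonempty. -/
theorem nonempty_points_limit {I : Type u} [SmallCategory I] [IsCofiltered I]
    (D : I ⥤ Sp S) (hDa : ∀ (i j : I) (φ : i ⟶ j), IsAffineMor (D.map φ))
    (c : Cone D) (hc : IsLimit c)
    (hqc : ∀ i, IsQuasiCompactSp (D.obj i)) (hne : ∀ i, Nonempty (Points (D.obj i))) :
    Nonempty (Points c.pt) := by
  obtain ⟨i⟩ : Nonempty I := IsCofiltered.nonempty
  obtain ⟨Z, g, hZ, hge, hgs⟩ := exists_affine_chart_of_isQuasiCompactSp (hqc i)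
  let G : Over (D.obj i) ⥤ Sp S := Over.pullback g ⋙ Over.forget _
  let E : Over i ⥤ Sp S := Over.post D ⋙ G
  let c' : Cone E := G.mapCone ((Over.conePost D i).obj c)
  have hc' : IsLimit c' := isLimitOfPreserves G (Over.isLimitConePost i hc)
  have h : ∀ k : Over i, ∃ (W : Over S), IsAffine W.left ∧ Nonempty W.left ∧
      Nonempty ((yon S).obj W ≅ E.obj k) := by
    intro k
    obtain ⟨W, iW, fst, sq, hWa⟩ := hDa _ _ k.hom hZ g
    refine ⟨W, hWa, ?_, ⟨sq.isoPullback⟩⟩
    have hs : IsSurjectiveMor fst :=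
      isSurjectiveMor_of_repWith_surjective _ ((RepWith @Surjective).of_isPullback sq.flip hgs)
    obtain ⟨x⟩ := hne k.left
    obtain ⟨y, -⟩ := hs x
    exact ⟨(Points.schemeEquiv W).symm y⟩
  choose W hW hWne e using h
  obtain ⟨L, hL, ⟨l⟩, ⟨θ⟩⟩ : ∃ (L : Over S), IsAffine L.left ∧ Nonempty L.left ∧
      Nonempty ((yon S).obj L ≅ pullback (c.π.app i) g) :=
    exists_affine_rep_of_isLimit_nonempty E W hW (fun k => (e k).some) hWne c' hc'
  exact ⟨Points.map (θ.hom ≫ pullback.fst (c.π.app i) g) (Points.schemeEquiv L l)⟩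

end Groth.Agent.Helper15.AlgSpLim
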