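import Mathlib
import Groth.Agent.Lib.Helper15.AlgSpLim3
import Groth.Agent.Lib.Helper15.AlgSpRedStalk

set_option autoImplicit false

universe u

open CategoryTheory CategoryTheory.Limits AlgebraicGeometry MorphismProperty Opposite
open AlgSp

namespace Groth.Agent.Helper15.AlgSpLim

variable {S : Scheme.{u}}

attribute [local instance] IsCofiltered.isConnected

section LemmaA

variable {K : Type u} [SmallCategory K] [IsCofiltered K] (E : K ⥤ Sp S)
  (W : K → Over S) (hW : ∀ k, IsAffine (W k).left) (e : ∀ k, (yon S).obj (W k) ≅ E.obj k)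

include hW e in
/-- Lemma A with a limit-stable property of schemes. -/
theorem exists_affine_rep_of_isLimit_of (Q : Scheme.{u} → Prop)
    (hQ : ∀ (D' : K ⥤ Scheme.{u}) (c' : Cone D'), IsLimit c' → (∀ k, IsAffine (D'.obj k)) →
      (∀ k, Q (D'.obj k)) → Q c'.pt)
    (hWQ : ∀ k, Q (W k).left)
    (c : Cone E) (hc : IsLimit c) :
    ∃ (L : Over S), IsAffine L.left ∧ Q L.left ∧ Nonempty ((yon S).obj L ≅ c.pt) := by
  have := hasLimit_liftDiag_forget E W hW e
  have := hasLimit_liftDiag E W hW e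
  have h1 : IsLimit ((Over.forget S).mapCone (limit.cone (liftDiag E W e))) :=
    isLimitOfPreserves _ (limit.isLimit _)
  refine ⟨limit (liftDiag E W e), ?_, ?_, ?_⟩
  · have iso : (limit (liftDiag E W e)).left ≅ limit (liftDiag E W e ⋙ Over.forget S) :=
      h1.conePointUniqueUpToIso (limit.isLimit _)
    have := isAffine_limit_liftDiag_forget E W hW e
    exact .of_isIso iso.hom
  · exact hQ (liftDiag E W e ⋙ Over.forget S) _ h1 hW hWQ
  · have h2 : IsLimit ((yon S).mapCone (limit.cone (liftDiag E W e))) :=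
      isLimitOfPreserves _ (limit.isLimit _)
    have h3 : IsLimit ((Cone.postcompose (liftDiagIso E W e).hom).obj
        ((yon S).mapCone (limit.cone (liftDiag E W e)))) :=
      (IsLimit.postcomposeHomEquiv (liftDiagIso E W e) _).symm h2
    exact ⟨h3.conePointUniqueUpToIso hc⟩

end LemmaA

/-- A cofiltered limit of reduced affine schemes is reduced. -/
theorem isReduced_of_isLimit_affine {K : Type u} [SmallCategory K] [IsCofiltered K]
    (D' : K ⥤ Scheme.{u}) (c' : Cone D') (hc' : IsLimit c') (ha : ∀ k, IsAffine (D'.obj k))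
    (hr : ∀ k, IsReduced (D'.obj k)) : IsReduced c'.pt := by
  have : IsAffine c'.pt := Scheme.isAffine_of_isLimit c' hc'
  have : _root_.IsReduced Γ(c'.pt, ⊤) := by
    refine ⟨fun s hs => ?_⟩
    obtain ⟨n, hn⟩ := hs
    obtain ⟨i, t, rfl⟩ := exists_appTop_π_eq_of_isAffine_of_isLimit D' c' hc' s
    have h0 : (c'.π.app i).appTop (t ^ n) = 0 := by rw [map_pow, hn]
    obtain ⟨j, f, hj⟩ := exists_appTop_map_eq_zero_of_isAffine_of_isLimit D' c' hc' i (t ^ n) h0
    rw [map_pow] at hj
    have : IsReduced (D'.obj j) := hr j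
    have h1 : (D'.map f).appTop t = 0 := (IsNilpotent.eq_zero ⟨n, hj⟩)
    have h2 : c'.π.app j ≫ D'.map f = c'.π.app i := c'.w f
    rw [← h2, Scheme.Hom.comp_appTop, CommRingCat.comp_apply, h1, map_zero]
  exact isReduced_of_isAffine_isReduced c'.pt

/-- Every scheme etale over a reduced algebraic space is reduced. -/
theorem isReduced_of_etale_chart {X : Sp S} (hX : IsAlgSpace X) (hred : IsReducedSp X)
    {W : Over S} (q : (yon S).obj W ⟶ X) (hq : RepWith @Etale q) : IsReduced W.left := by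
  refine @isReduced_of_isReduced_stalk W.left (fun w => ?_)
  exact hasAt_forall_chart etInv_isReduced_stalk _
    ((isReducedSp_iff_forall_hasAt hX).1 hred (Points.ofPt q w)) W q w hq rfl

/-- A cofiltered limit of reduced algebraic spaces with affine transition maps is reduced. -/
theorem isReducedSp_limit {I : Type u} [SmallCategory I] [IsCofiltered I]
    (D : I ⥤ Sp S) (hD : ∀ i, IsAlgSpace (D.obj i))
    (hDa : ∀ (i j : I) (φ : i ⟶ j), IsAffineMor (D.map φ))
    (c : Cone D) (hc : IsLimit c) (hred : ∀ i, IsReducedSp (D.obj i)) : IsReducedSp c.pt := by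
  have hX : IsAlgSpace c.pt := isAlgSpace_limit D hD hDa c hc
  rw [isReducedSp_iff_forall_hasAt hX]
  intro x
  obtain ⟨i⟩ : Nonempty I := IsCofiltered.nonempty
  obtain ⟨U₀, p, hpe, hps⟩ := (hD i).atlas
  obtain ⟨u₀, hu₀⟩ := surjective_ofPt p hps (Points.map (c.π.app i) x)
  obtain ⟨_, ⟨V, hV, rfl⟩, hu₀V, -⟩ :=
    U₀.left.isBasis_affineOpens.exists_subset_of_mem_open (Set.mem_univ u₀) isOpen_univ
  let V' : U₀.left.Opens := V
  have hV' : IsAffineOpen V' := hV
  let Z : Over S := Over.mk (V'.ι ≫ U₀.hom)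
  let ι : Z ⟶ U₀ := Over.homMk V'.ι rfl
  have hZ : IsAffine Z.left := hV'
  let g : (yon S).obj Z ⟶ D.obj i := (yon S).map ι ≫ p
  have hge : RepWith @Etale g :=
    (RepWith @Etale).comp_mem _ _ ((repWith_yon_map_iff _ ι).2
      (inferInstanceAs (Etale V'.ι))) hpe
  let G : Over (D.obj i) ⥤ Sp S := Over.pullback g ⋙ Over.forget _
  let E : Over i ⥤ Sp S := Over.post D ⋙ G
  let c' : Cone E := G.mapCone ((Over.conePost D i).obj c)
  have hc' : IsLimit c' := isLimitOfPreserves G (Over.isLimitConePost i hc)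
  have h : ∀ k : Over i, ∃ (W : Over S), IsAffine W.left ∧ IsReduced W.left ∧
      Nonempty ((yon S).obj W ≅ E.obj k) := by
    intro k
    obtain ⟨W, iW, fst, sq, hWa⟩ := hDa _ _ k.hom hZ g
    refine ⟨W, hWa, ?_, ⟨sq.isoPullback⟩⟩
    exact isReduced_of_etale_chart (hD k.left) (hred k.left) fst
      ((RepWith @Etale).of_isPullback sq.flip hge)
  choose W hW hWr e using h
  obtain ⟨L, hL, hLr, ⟨θ⟩⟩ : ∃ (L : Over S), IsAffine L.left ∧ IsReduced L.left ∧
      Nonempty ((yon S).obj L ≅ pullback (c.π.app i) g) :=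
    exists_affine_rep_of_isLimit_of E W hW (fun k => (e k).some) (fun T => IsReduced T)
      (fun D' c' hc' ha hr => isReduced_of_isLimit_affine D' c' hc' ha hr) hWr c' hc'
  -- the point
  have hpt : Points.map (c.π.app i) x = Points.map g (Points.ofScheme Z (⟨u₀, hu₀V⟩ : V')) := by
    rw [← Points.ofPt_eq_map_ofScheme, ofPt_comp_yon_map, ← hu₀]
    rfl
  obtain ⟨y, hy1, -⟩ := exists_point_of_isPullback (IsPullback.of_hasPullback (c.π.app i) g) x _ hpt
  obtain ⟨l, hl⟩ := (Points.schemeEquiv L).surjective (Points.map θ.inv y)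
  refine ⟨L, θ.hom ≫ pullback.fst (c.π.app i) g, l, ?_, ?_, ?_⟩
  · exact (RepWith @Etale).comp_mem _ _ ((RepWith @Etale).of_isIso θ.hom)
      ((RepWith @Etale).of_isPullback (IsPullback.of_hasPullback (c.π.app i) g).flip hge)
  · rw [Points.ofPt_eq_map_ofScheme]
    change Points.map _ (Points.schemeEquiv L l) = x
    rw [hl, ← Points.map_comp, Iso.inv_hom_id_assoc, hy1]
  · have := hLr
    infer_instance

end Groth.Agent.Helper15.AlgSpLim
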