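import Mathlib
import Groth.Agent.Lib.Helper15.AlgSpLim4

set_option autoImplicit false

universe u v w

open CategoryTheory CategoryTheory.Limits AlgebraicGeometry MorphismProperty Opposite
open AlgSp

namespace Groth.Agent.Helper15.AlgSpLim

section Cat

variable {C : Type u} [Category.{v} C] [HasPullbacks C] {I : Type w} [Category.{w} I]
  (DX DY : I ⥤ C) (τ : DX ⟶ DY) (cX : Cone DX) (cY : Cone DY)
  (g : cX.pt ⟶ cY.pt) (hg : ∀ i, g ≫ cY.π.app i = cX.π.app i ≫ τ.app i) {Z : C} (h : Z ⟶ cY.pt)

set_option backward.isDefEq.respectTransparency false in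
/-- The diagram `i ↦ DX i ×_{DY i} Z`. -/
noncomputable def pbDiag : I ⥤ C where
  obj i := pullback (τ.app i) (h ≫ cY.π.app i)
  map {i j} φ := pullback.map _ _ _ _ (DX.map φ) (𝟙 Z) (DY.map φ) (τ.naturality φ).symm
    (by rw [Category.id_comp, Category.assoc, cY.w])
  map_id i := by
    apply pullback.hom_ext <;> simp [pullback.map]
  map_comp φ ψ := by
    apply pullback.hom_ext <;> simp [pullback.map]

/-- First projection. -/
noncomputable def pbFst (i : I) : (pbDiag DX DY τ cY h).obj i ⟶ DX.obj i :=
  pullback.fst (τ.app i) (h ≫ cY.π.app i)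

/-- Second projection. -/
noncomputable def pbSnd (i : I) : (pbDiag DX DY τ cY h).obj i ⟶ Z :=
  pullback.snd (τ.app i) (h ≫ cY.π.app i)

theorem pb_condition (i : I) :
    pbFst DX DY τ cY h i ≫ τ.app i = pbSnd DX DY τ cY h i ≫ h ≫ cY.π.app i :=
  pullback.condition

theorem pb_isPullback (i : I) :
    IsPullback (pbFst DX DY τ cY h i) (pbSnd DX DY τ cY h i) (τ.app i) (h ≫ cY.π.app i) :=
  IsPullback.of_hasPullback _ _

theorem pb_hom_ext {i : I} {T : C} {x y : T ⟶ (pbDiag DX DY τ cY h).obj i}
    (h1 : x ≫ pbFst DX DY τ cY h i = y ≫ pbFst DX DY τ cY h i)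
    (h2 : x ≫ pbSnd DX DY τ cY h i = y ≫ pbSnd DX DY τ cY h i) : x = y :=
  pullback.hom_ext h1 h2

set_option backward.isDefEq.respectTransparency false in
@[reassoc]
theorem pbDiag_map_snd {i j : I} (φ : i ⟶ j) :
    (pbDiag DX DY τ cY h).map φ ≫ pbSnd DX DY τ cY h j = pbSnd DX DY τ cY h i := by
  simp [pbDiag, pbSnd, pullback.map]

set_option backward.isDefEq.respectTransparency false in
@[reassoc]
theorem pbDiag_map_fst {i j : I} (φ : i ⟶ j) :
    (pbDiag DX DY τ cY h).map φ ≫ pbFst DX DY τ cY h j = pbFst DX DY τ cY h i ≫ DX.map φ := by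
  simp [pbDiag, pbFst, pullback.map]

include hg in
set_option backward.isDefEq.respectTransparency false in
/-- The cone over `pbDiag` with vertex `cX.pt ×_{cY.pt} Z`. -/
noncomputable def pbCone : Cone (pbDiag DX DY τ cY h) where
  pt := pullback g h
  π :=
    { app := fun i => pullback.map _ _ _ _ (cX.π.app i) (𝟙 Z) (cY.π.app i) (hg i)
        (by rw [Category.id_comp])
      naturality := fun i j φ => by
        apply pullback.hom_ext
        · simp [pbDiag, pullback.map]
        · simp [pbDiag, pullback.map] }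

set_option backward.isDefEq.respectTransparency false in
@[reassoc]
theorem pbCone_π_snd (i : I) :
    (pbCone DX DY τ cX cY g hg h).π.app i ≫ pbSnd DX DY τ cY h i = pullback.snd g h := by
  simp [pbCone, pbSnd, pullback.map]

set_option backward.isDefEq.respectTransparency false in
@[reassoc]
theorem pbCone_π_fst (i : I) :
    (pbCone DX DY τ cX cY g hg h).π.app i ≫ pbFst DX DY τ cY h i =
      pullback.fst g h ≫ cX.π.app i := by
  simp [pbCone, pbFst, pullback.map]

variable {DX DY τ cX cY g}

/-- All the second components of a cone over `pbDiag` agree (cofiltered index category). -/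
theorem cone_snd_eq [IsCofiltered I] (s : Cone (pbDiag DX DY τ cY h)) (i j : I) :
    s.π.app i ≫ pbSnd DX DY τ cY h i = s.π.app j ≫ pbSnd DX DY τ cY h j := by
  have key : ∀ {a b : I} (φ : a ⟶ b), s.π.app a ≫ pbSnd DX DY τ cY h a =
      s.π.app b ≫ pbSnd DX DY τ cY h b := by
    intro a b φ
    rw [← s.w φ, Category.assoc, pbDiag_map_snd]
  rw [← key (IsCofiltered.minToLeft i j), key (IsCofiltered.minToRight i j)]

/-- The cone `pbCone` is a limit cone: cofiltered limits commute with fibre products. -/
noncomputable def isLimitPbCone [IsCofiltered I] (hcX : IsLimit cX) (hcY : IsLimit cY) :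
    IsLimit (pbCone DX DY τ cX cY g hg h) := by
  have i₀ : I := IsCofiltered.nonempty.some
  let a : ∀ s : Cone (pbDiag DX DY τ cY h), s.pt ⟶ cX.pt := fun s =>
    hcX.lift ⟨s.pt, { app := fun i => s.π.app i ≫ pbFst DX DY τ cY h i
                      naturality := fun i j φ => by
                        dsimp
                        rw [Category.id_comp, ← s.w φ, Category.assoc, pbDiag_map_fst,
                          Category.assoc] }⟩
  have ha : ∀ s i, a s ≫ cX.π.app i = s.π.app i ≫ pbFst DX DY τ cY h i := fun s i =>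
    hcX.fac _ i
  let b : ∀ s : Cone (pbDiag DX DY τ cY h), s.pt ⟶ Z := fun s =>
    s.π.app i₀ ≫ pbSnd DX DY τ cY h i₀
  have hb : ∀ s i, b s = s.π.app i ≫ pbSnd DX DY τ cY h i := fun s i => cone_snd_eq h s i₀ i
  have hab : ∀ s, a s ≫ g = b s ≫ h := by
    intro s
    apply hcY.hom_ext
    intro i
    rw [Category.assoc, hg i, ← Category.assoc, ha, Category.assoc, pb_condition,
      Category.assoc, hb s i, Category.assoc]
  refine
    { lift := fun s => pullback.lift (a s) (b s) (hab s)
      fac := fun s i => ?_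
      uniq := fun s m hm => ?_ }
  · apply pb_hom_ext
    · rw [Category.assoc, pbCone_π_fst]
      erw [pullback.lift_fst_assoc]
      rw [ha]
    · rw [Category.assoc, pbCone_π_snd]
      erw [pullback.lift_snd]
      rw [hb s i]
  · apply pullback.hom_ext
    · rw [pullback.lift_fst]
      apply hcX.hom_ext
      intro i
      rw [ha, ← hm i, Category.assoc, Category.assoc, pbCone_π_fst]
      rfl
    · rw [pullback.lift_snd]
      change _ = s.π.app i₀ ≫ _
      rw [← hm i₀, Category.assoc, pbCone_π_snd]
      rfl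

end Cat

end Groth.Agent.Helper15.AlgSpLim
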