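import Mathlib
import Groth.Agent.Lib.Helper15.AlgSpLim5

set_option autoImplicit false

universe u

open CategoryTheory CategoryTheory.Limits AlgebraicGeometry MorphismProperty Opposite
open AlgSp

namespace Groth.Agent.Helper15.AlgSpLim

variable {S : Scheme.{u}}

attribute [local instance] IsCofiltered.isConnected

section LemmaAOver

variable {K : Type u} [SmallCategory K] [IsCofiltered K] (E : K ⥤ Sp S)
  (W : K → Over S) (hW : ∀ k, IsAffine (W k).left) (e : ∀ k, (yon S).obj (W k) ≅ E.obj k)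
  (Z : Over S) (ρ : ∀ k, E.obj k ⟶ (yon S).obj Z)
  (hρ : ∀ {k l : K} (f : k ⟶ l), E.map f ≫ ρ l = ρ k)

/-- The maps of the lifted diagram to the target. -/
noncomputable def liftTo (k : K) : W k ⟶ Z := (yon S).preimage ((e k).hom ≫ ρ k)

include hρ in
theorem liftDiag_map_liftTo {k l : K} (f : k ⟶ l) :
    (liftDiag E W e).map f ≫ liftTo E W e Z ρ l = liftTo E W e Z ρ k := by
  apply (yon S).map_injective
  simp [liftDiag, liftTo, hρ f]

include hW hρ in
/-- Lemma A over a target scheme, with a limit-stable property of morphisms. -/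
theorem exists_affine_rep_of_isLimit_over (Q : ∀ (T : Scheme.{u}), (T ⟶ Z.left) → Prop)
    (hQ : ∀ (D' : K ⥤ Scheme.{u}) (c' : Cone D'), IsLimit c' → (∀ k, IsAffine (D'.obj k)) →
      ∀ (r : ∀ k, D'.obj k ⟶ Z.left), (∀ {k l : K} (f : k ⟶ l), D'.map f ≫ r l = r k) →
        (∀ k, Q _ (r k)) → ∀ k, Q c'.pt (c'.π.app k ≫ r k))
    (hWQ : ∀ k, Q (W k).left (liftTo E W e Z ρ k).left)
    (c : Cone E) (hc : IsLimit c) (k₀ : K) :
    ∃ (L : Over S) (r : L ⟶ Z) (θ : (yon S).obj L ≅ c.pt), IsAffine L.left ∧ Q L.left r.left ∧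
      (yon S).map r = θ.hom ≫ c.π.app k₀ ≫ ρ k₀ := by
  have := hasLimit_liftDiag_forget E W hW e
  have := hasLimit_liftDiag E W hW e
  have h1 : IsLimit ((Over.forget S).mapCone (limit.cone (liftDiag E W e))) :=
    isLimitOfPreserves _ (limit.isLimit _)
  have h2 : IsLimit ((yon S).mapCone (limit.cone (liftDiag E W e))) :=
    isLimitOfPreserves _ (limit.isLimit _)
  have h3 : IsLimit ((Cone.postcompose (liftDiagIso E W e).hom).obj
      ((yon S).mapCone (limit.cone (liftDiag E W e)))) :=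
    (IsLimit.postcomposeHomEquiv (liftDiagIso E W e) _).symm h2
  refine ⟨limit (liftDiag E W e), limit.π (liftDiag E W e) k₀ ≫ liftTo E W e Z ρ k₀,
    h3.conePointUniqueUpToIso hc, ?_, ?_, ?_⟩
  · have iso : (limit (liftDiag E W e)).left ≅ limit (liftDiag E W e ⋙ Over.forget S) :=
      h1.conePointUniqueUpToIso (limit.isLimit _)
    have := isAffine_limit_liftDiag_forget E W hW e
    exact .of_isIso iso.hom
  · exact hQ (liftDiag E W e ⋙ Over.forget S) _ h1 hW (fun k => (liftTo E W e Z ρ k).left)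
      (fun {k l} f => by
        have := congrArg (fun m => m.left) (liftDiag_map_liftTo E W e Z ρ hρ f)
        simpa using this) hWQ k₀
  · have h4 := IsLimit.conePointUniqueUpToIso_hom_comp h3 hc k₀
    rw [← Category.assoc, h4]
    simp only [liftDiagIso, liftTo, Functor.map_comp, Cone.postcompose_obj_π,
      NatTrans.comp_app, Functor.mapCone_π_app, limit.cone_π, NatIso.ofComponents_hom_app,
      Category.assoc]
    erw [(yon S).map_preimage]
    rfl

end LemmaAOver

/-- A cofiltered limit of closed subschemes of an affine scheme is a closed subscheme. -/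
theorem isClosedImmersion_of_isLimit_affine {K : Type u} [SmallCategory K] [IsCofiltered K]
    (D' : K ⥤ Scheme.{u}) (c' : Cone D') (hc' : IsLimit c') (ha : ∀ k, IsAffine (D'.obj k))
    (Z : Scheme.{u}) [IsAffine Z] (r : ∀ k, D'.obj k ⟶ Z)
    (hnat : ∀ {k l : K} (f : k ⟶ l), D'.map f ≫ r l = r k)
    (hr : ∀ k, IsClosedImmersion (r k)) (k₀ : K) : IsClosedImmersion (c'.π.app k₀ ≫ r k₀) := by
  have : IsAffine c'.pt := Scheme.isAffine_of_isLimit c' hc'
  have key : ∀ i, c'.π.app i ≫ r i = c'.π.app k₀ ≫ r k₀ := by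
    intro i
    rw [← c'.w (IsCofiltered.minToLeft i k₀), Category.assoc, hnat,
      ← c'.w (IsCofiltered.minToRight i k₀), Category.assoc, hnat]
  refine @IsClosedImmersion.of_surjective_of_isAffine c'.pt Z this _ _ ?_
  intro s
  obtain ⟨i, t, rfl⟩ := exists_appTop_π_eq_of_isAffine_of_isLimit D' c' hc' s
  have := hr i
  obtain ⟨z, rfl⟩ := (IsClosedImmersion.isAffine_surjective_of_isAffine (f := r i)).2 t
  refine ⟨z, ?_⟩
  rw [← key i, Scheme.Hom.comp_appTop, CommRingCat.comp_apply]

end Groth.Agent.Helper15.AlgSpLim
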