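import Mathlib
import Groth.Agent.Lib.Helper15.AlgSpLim6

set_option autoImplicit false

universe u

open CategoryTheory CategoryTheory.Limits AlgebraicGeometry MorphismProperty Opposite
open AlgSp

namespace Groth.Agent.Helper15.AlgSpLim

variable {S : Scheme.{u}}

/-- A cofiltered limit of closed immersions is a closed immersion. -/
theorem repWith_isClosedImmersion_limit {I : Type u} [SmallCategory I] [IsCofiltered I]
    (DX DY : I ⥤ Sp S) (τ : DX ⟶ DY) (hτ : ∀ i, RepWith @IsClosedImmersion (τ.app i))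
    (cX : Cone DX) (hcX : IsLimit cX) (cY : Cone DY) (hcY : IsLimit cY)
    (g : cX.pt ⟶ cY.pt) (hg : ∀ i, g ≫ cY.π.app i = cX.π.app i ≫ τ.app i) :
    RepWith @IsClosedImmersion g := by
  apply repWith_of_affRep
  intro Z hZ h
  have : IsAffine Z.left := hZ
  let W : I → Over S := fun i => (hτ i).rep.pullback (h ≫ cY.π.app i)
  have hsq : ∀ i, IsPullback ((hτ i).rep.fst (h ≫ cY.π.app i))
      ((yon S).map ((hτ i).rep.snd (h ≫ cY.π.app i))) (τ.app i) (h ≫ cY.π.app i) :=
    fun i => (hτ i).rep.isPullback _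
  have hci : ∀ i, IsClosedImmersion ((hτ i).rep.snd (h ≫ cY.π.app i)).left :=
    fun i => (hτ i).property_snd _
  have hW : ∀ i, IsAffine (W i).left := fun i => by
    have := hci i
    exact isAffine_of_isAffineHom ((hτ i).rep.snd (h ≫ cY.π.app i)).left
  let e : ∀ i, (yon S).obj (W i) ≅ (pbDiag DX DY τ cY h).obj i := fun i => (hsq i).isoPullback
  have he : ∀ i, (e i).hom ≫ pbSnd DX DY τ cY h i =
      (yon S).map ((hτ i).rep.snd (h ≫ cY.π.app i)) := fun i => (hsq i).isoPullback_hom_snd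
  have hlift : ∀ i, liftTo (pbDiag DX DY τ cY h) W e Z (pbSnd DX DY τ cY h) i =
      (hτ i).rep.snd (h ≫ cY.π.app i) := fun i => by
    apply (yon S).map_injective
    rw [liftTo, (yon S).map_preimage, he]
  obtain ⟨i₀⟩ : Nonempty I := IsCofiltered.nonempty
  obtain ⟨L, r, θ, hL, hr, hyr⟩ : ∃ (L : Over S) (r : L ⟶ Z) (θ : (yon S).obj L ≅ pullback g h),
      IsAffine L.left ∧ IsClosedImmersion r.left ∧ (yon S).map r = θ.hom ≫ pullback.snd g h := by
    obtain ⟨L, r, θ, hL, hr, hyr⟩ := exists_affine_rep_of_isLimit_over (pbDiag DX DY τ cY h) W hW e Z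
      (pbSnd DX DY τ cY h) (fun f => pbDiag_map_snd DX DY τ cY h f)
      (fun T r => IsClosedImmersion r)
      (fun D' c' hc' ha r hnat hr k =>
        isClosedImmersion_of_isLimit_affine D' c' hc' ha Z.left r hnat hr k)
      (fun i => by rw [hlift]; exact hci i)
      (pbCone DX DY τ cX cY g hg h) (isLimitPbCone hg h hcX hcY) i₀
    rw [pbCone_π_snd] at hyr
    exact ⟨L, r, θ, hL, hr, hyr⟩
  refine ⟨L, r, θ.hom ≫ pullback.fst g h, ?_, hr⟩
  rw [hyr]
  exact IsPullback.of_iso (IsPullback.of_hasPullback g h) θ.symm (Iso.refl _) (Iso.refl _)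
    (Iso.refl _) (by simp) (by simp) (by simp) (by simp)

end Groth.Agent.Helper15.AlgSpLim
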