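import Mathlib
import Groth.Agent.Lib.Helper15.AlgSpLim7
import Groth.Agent.Lib.Helper15.AlgSpField
import Groth.Prelude.Def_AlgSpDec

set_option autoImplicit false

universe u

open CategoryTheory CategoryTheory.Limits AlgebraicGeometry MorphismProperty Opposite
open AlgSp

namespace Groth.Agent.Helper15.AlgSpLim

variable {S : Scheme.{u}}

/-- **Lemma M.** A field point with the same image as a monomorphic field point factors through
it. -/
theorem exists_factor_of_mono_fieldPt {F : Sp S} (hF : IsAlgSpace F) {K L : Type u} [Field K]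
    [Field L] {strK : Spec (CommRingCat.of K) ⟶ S} {strL : Spec (CommRingCat.of L) ⟶ S}
    (p : (yon S).obj (Over.mk strK) ⟶ F) [Mono p] (q : (yon S).obj (Over.mk strL) ⟶ F)
    (h : ofField q = ofField p) :
    ∃ a : Over.mk strL ⟶ Over.mk strK, q = (yon S).map a ≫ p := by
  have hrep := hF.representable_from_yon p
  have sq := hrep.isPullback' q
  have hmono : Mono ((yon S).map (hrep.snd q)) := sq.mono_snd_of_mono
  obtain ⟨Ω, _, w, a, b, hab⟩ := (ofField_eq_iff q p).1 h
  let z : (yon S).obj (Over.mk w) ⟶ (yon S).obj (hrep.pullback q) :=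
    sq.lift ((yon S).map b) ((yon S).map a) hab.symm
  have hiso : IsIso ((yon S).map (hrep.snd q)) :=
    isIso_of_mono_to_field_sp (IsAlgSpace.yon_obj _) strL ((yon S).map (hrep.snd q))
      (ofField z)
  refine ⟨(yon S).preimage (inv ((yon S).map (hrep.snd q)) ≫ (yon S).map (hrep.fst' q)), ?_⟩
  rw [(yon S).map_preimage, Category.assoc, sq.w, IsIso.inv_hom_id_assoc]

end Groth.Agent.Helper15.AlgSpLim

namespace Groth.Agent.Helper15.AlgSpLim

variable {S : Scheme.{u}}

/-- A cofiltered limit of spectra of fields has a field of global sections. -/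
theorem isField_Γ_of_isLimit_affine {K : Type u} [SmallCategory K] [IsCofiltered K]
    (D' : K ⥤ Scheme.{u}) (c' : Cone D') (hc' : IsLimit c') (ha : ∀ k, IsAffine (D'.obj k))
    (hf : ∀ k, IsField Γ(D'.obj k, ⊤)) : IsField Γ(c'.pt, ⊤) := by
  obtain ⟨k₀⟩ : Nonempty K := IsCofiltered.nonempty
  refine ⟨⟨0, 1, ?_⟩, mul_comm, ?_⟩
  · intro h01
    have h0 : (c'.π.app k₀).appTop (1 : Γ(D'.obj k₀, ⊤)) = 0 := by rw [map_one]; exact h01.symm
    obtain ⟨j, f, hj⟩ := exists_appTop_map_eq_zero_of_isAffine_of_isLimit D' c' hc' k₀ 1 h0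
    rw [map_one] at hj
    have := (hf j).nontrivial
    exact one_ne_zero hj
  · intro s hs
    obtain ⟨i, t, rfl⟩ := exists_appTop_π_eq_of_isAffine_of_isLimit D' c' hc' s
    have ht : t ≠ 0 := by
      rintro rfl
      exact hs (map_zero _)
    obtain ⟨t', ht'⟩ := (hf i).mul_inv_cancel ht
    exact ⟨(c'.π.app i).appTop t', by rw [← map_mul, ht', map_one]⟩

end Groth.Agent.Helper15.AlgSpLim

namespace Groth.Agent.Helper15.AlgSpLim

variable {S : Scheme.{u}}

theorem ofField_toHom {F : Sp S} (p : FieldPt F) : ofField p.toHom = Points.mk p := by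
  simp only [ofField]
  congr 1
  rw [FieldPt.uliftYonedaEquiv_toHom]
  cases p
  rfl

theorem isField_Γ_Spec (K : Type u) [Field K] : IsField Γ(Spec (CommRingCat.of K), ⊤) :=
  (Scheme.ΓSpecIso (CommRingCat.of K)).commRingCatIsoToRingEquiv.toMulEquiv.isField
    (Field.toIsField K)

theorem subsingleton_of_isField_Γ (T : Scheme.{u}) [IsAffine T] (h : IsField Γ(T, ⊤)) :
    Subsingleton T ∧ Nonempty T := by
  letI := h.toField
  have h1 : Subsingleton (Spec Γ(T, ⊤)) :=
    (inferInstance : Subsingleton (PrimeSpectrum Γ(T, ⊤)))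
  have h2 : Nonempty (Spec Γ(T, ⊤)) := (inferInstance : Nonempty (PrimeSpectrum Γ(T, ⊤)))
  constructor
  · have hinj : Function.Injective T.isoSpec.hom.base :=
      (TopCat.homeoOfIso (Scheme.forgetToTop.mapIso T.isoSpec)).injective
    exact hinj.subsingleton
  · obtain ⟨x⟩ := h2
    exact ⟨T.isoSpec.inv.base x⟩

end Groth.Agent.Helper15.AlgSpLim

namespace Groth.Agent.Helper15.AlgSpLim

variable {S : Scheme.{u}}

/-- The point of the limit defined by a compatible family of points of decent spaces. -/
theorem exists_limit_point {I : Type u} [SmallCategory I] [IsCofiltered I]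
    (D : I ⥤ Sp S) (hD : ∀ i, IsAlgSpace (D.obj i)) (c : Cone D) (hc : IsLimit c)
    (hdec : ∀ i, IsDecent (D.obj i)) (s : ∀ i, Points (D.obj i))
    (hs : ∀ (i j : I) (φ : i ⟶ j), Points.map (D.map φ) (s i) = s j) :
    ∃ (L : Over S) (ℓ : (yon S).obj L ⟶ c.pt) (l : L.left),
      (∀ i, Points.map (c.π.app i) (Points.ofPt ℓ l) = s i) ∧
      ∀ (K : Type u) [Field K] (str : Spec (CommRingCat.of K) ⟶ S)
        (q : (yon S).obj (Over.mk str) ⟶ c.pt), (∀ i, ofField (q ≫ c.π.app i) = s i) →
        ofField q = Points.ofPt ℓ l := by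
  choose P hP1 hP2 _ using fun i => hdec i (s i)
  have hmk : ∀ i, ofField (P i).toHom = s i := fun i => by rw [ofField_toHom, hP1]
  have ha : ∀ {i j : I} (φ : i ⟶ j), ∃ a : (P i).pt ⟶ (P j).pt,
      (P i).toHom ≫ D.map φ = (yon S).map a ≫ (P j).toHom := by
    intro i j φ
    have := hP2 j
    refine exists_factor_of_mono_fieldPt (hD j) (P j).toHom ((P i).toHom ≫ D.map φ) ?_
    rw [← map_ofField, hmk, hs, hmk]
  choose a ha using @ha
  have huniq : ∀ {j : I} {T : Over S} (x y : T ⟶ (P j).pt),
      (yon S).map x ≫ (P j).toHom = (yon S).map y ≫ (P j).toHom → x = y := by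
    intro j T x y h
    have := hP2 j
    exact (yon S).map_injective ((cancel_mono (P j).toHom).1 h)
  let T : I ⥤ Over S :=
    { obj := fun i => (P i).pt
      map := fun φ => a φ
      map_id := fun i => huniq _ _ (by
        rw [← ha, D.map_id, Category.comp_id, (yon S).map_id, Category.id_comp])
      map_comp := fun φ ψ => huniq _ _ (by
        rw [← ha, D.map_comp, ← Category.assoc, ha, Category.assoc, ha, (yon S).map_comp,
          Category.assoc]) }
  let E : I ⥤ Sp S := T ⋙ yon S
  have hW : ∀ i, IsAffine (T.obj i).left := fun i =>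
    (inferInstance : IsAffine (Spec (CommRingCat.of (P i).K)))
  obtain ⟨L, hL, hLf, ⟨θ⟩⟩ := exists_affine_rep_of_isLimit_of E T.obj hW (fun i => Iso.refl _)
    (fun T => IsField Γ(T, ⊤))
    (fun D' c' hc' ha hf => isField_Γ_of_isLimit_affine D' c' hc' ha hf)
    (fun i => isField_Γ_Spec (P i).K) (limit.cone E) (limit.isLimit E)
  have : IsAffine L.left := hL
  obtain ⟨hsub, ⟨l⟩⟩ := subsingleton_of_isField_Γ L.left hLf
  let ℓ : (yon S).obj L ⟶ c.pt := hc.lift
    { pt := (yon S).obj L
      π := { app := fun i => θ.hom ≫ limit.π E i ≫ (P i).toHom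
             naturality := fun i j φ => by
               dsimp
               rw [Category.id_comp, Category.assoc, Category.assoc, ha, ← Category.assoc (limit.π E i)]
               have := limit.w E φ
               dsimp [E] at this ⊢
               rw [this] } }
  have hℓ : ∀ i, ℓ ≫ c.π.app i = θ.hom ≫ limit.π E i ≫ (P i).toHom := fun i => hc.fac _ i
  refine ⟨L, ℓ, l, ?_, ?_⟩
  · intro i
    rw [Points.map_ofPt, hℓ]
    let r : L ⟶ (P i).pt := (yon S).preimage (θ.hom ≫ limit.π E i)
    have hr : (yon S).map r = θ.hom ≫ limit.π E i := (yon S).map_preimage _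
    rw [← Category.assoc, ← hr, ofPt_comp_yon_map, Points.ofPt_toHom, hP1]
  · intro K _ str q hq
    have hb : ∀ i, ∃ b : Over.mk str ⟶ (P i).pt, q ≫ c.π.app i = (yon S).map b ≫ (P i).toHom := by
      intro i
      have := hP2 i
      refine exists_factor_of_mono_fieldPt (hD i) (P i).toHom (q ≫ c.π.app i) ?_
      rw [hq, hmk]
    choose b hb using hb
    have hbc : ∀ {i j : I} (φ : i ⟶ j), b i ≫ a φ = b j := by
      intro i j φ
      apply huniq
      rw [(yon S).map_comp, Category.assoc, ← ha, ← Category.assoc, ← hb, Category.assoc, c.w, hb]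
    let m : (yon S).obj (Over.mk str) ⟶ limit E := limit.lift E
      { pt := (yon S).obj (Over.mk str)
        π := { app := fun i => (yon S).map (b i)
               naturality := fun i j φ => by
                 dsimp [E]
                 rw [Category.id_comp, ← (yon S).map_comp]
                 exact congrArg _ (hbc φ).symm } }
    have hm : ∀ i, m ≫ limit.π E i = (yon S).map (b i) := fun i => limit.lift_π _ i
    have hq' : q = (m ≫ θ.inv) ≫ ℓ := by
      apply hc.hom_ext
      intro i
      rw [Category.assoc, Category.assoc, hℓ, Iso.inv_hom_id_assoc, ← Category.assoc, hm, hb]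
    rw [hq', ← map_ofField, Points.ofPt_eq_map_ofScheme]
    congr 1
    apply (Points.schemeEquiv L).symm.injective
    exact Subsingleton.elim _ _

end Groth.Agent.Helper15.AlgSpLim

namespace Groth.Agent.Helper15.AlgSpLim

variable {S : Scheme.{u}}

/-- `|lim X_i| = lim |X_i|` as sets, for decent spaces. -/
theorem points_limit_bijective {I : Type u} [SmallCategory I] [IsCofiltered I]
    (D : I ⥤ Sp S) (hD : ∀ i, IsAlgSpace (D.obj i)) (c : Cone D) (hc : IsLimit c)
    (hdec : ∀ i, IsDecent (D.obj i)) :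
    (∀ x x' : Points c.pt,
      (∀ i, Points.map (c.π.app i) x = Points.map (c.π.app i) x') → x = x') ∧
    (∀ s : ∀ i, Points (D.obj i),
      (∀ (i j : I) (φ : i ⟶ j), Points.map (D.map φ) (s i) = s j) →
      ∃ x : Points c.pt, ∀ i, Points.map (c.π.app i) x = s i) := by
  constructor
  · intro x x' h
    have hs : ∀ (i j : I) (φ : i ⟶ j),
        Points.map (D.map φ) (Points.map (c.π.app i) x) = Points.map (c.π.app j) x := by
      intro i j φ
      rw [← Points.map_comp, c.w]
    obtain ⟨L, ℓ, l, -, hb⟩ := exists_limit_point D hD c hc hdec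
      (fun i => Points.map (c.π.app i) x) hs
    obtain ⟨K, _, str, q, rfl⟩ := exists_ofField x
    obtain ⟨K', _, str', q', rfl⟩ := exists_ofField x'
    rw [hb K str q (fun i => (map_ofField _ _).symm),
      hb K' str' q' (fun i => by rw [← map_ofField, ← h i])]
  · intro s hs
    obtain ⟨L, ℓ, l, ha, -⟩ := exists_limit_point D hD c hc hdec s hs
    exact ⟨Points.ofPt ℓ l, ha⟩

end Groth.Agent.Helper15.AlgSpLim
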