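import Mathlib
import Groth.Agent.Lib.Helper15.AlgSpLim8

set_option autoImplicit false

universe u

open CategoryTheory CategoryTheory.Limits AlgebraicGeometry MorphismProperty Opposite
open AlgSp

namespace Groth.Agent.Helper15.AlgSpLim

variable {S : Scheme.{u}}

attribute [local instance] IsCofiltered.isConnected

section LemmaA

variable {K : Type u} [SmallCategory K] [IsCofiltered K] (E : K ⥤ Sp S)
  (W : K → Over S) (hW : ∀ k, IsAffine (W k).left) (e : ∀ k, (yon S).obj (W k) ≅ E.obj k)

include hW e in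
/-- Lemma A, exposing the limit cone of schemes. -/
theorem exists_affine_rep_cone_of_isLimit (c : Cone E) (hc : IsLimit c) :
    ∃ (cL : Cone (liftDiag E W e)) (_ : IsLimit ((Over.forget S).mapCone cL))
      (_ : IsAffine cL.pt.left) (θ : (yon S).obj cL.pt ≅ c.pt),
      ∀ k, θ.hom ≫ c.π.app k = (yon S).map (cL.π.app k) ≫ (e k).hom := by
  have := hasLimit_liftDiag_forget E W hW e
  have := hasLimit_liftDiag E W hW e
  have h1 : IsLimit ((Over.forget S).mapCone (limit.cone (liftDiag E W e))) :=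
    isLimitOfPreserves _ (limit.isLimit _)
  have h2 : IsLimit ((yon S).mapCone (limit.cone (liftDiag E W e))) :=
    isLimitOfPreserves _ (limit.isLimit _)
  have h3 : IsLimit ((Cone.postcompose (liftDiagIso E W e).hom).obj
      ((yon S).mapCone (limit.cone (liftDiag E W e)))) :=
    (IsLimit.postcomposeHomEquiv (liftDiagIso E W e) _).symm h2
  refine ⟨limit.cone _, h1, ?_, h3.conePointUniqueUpToIso hc, fun k => ?_⟩
  · have iso : (limit (liftDiag E W e)).left ≅ limit (liftDiag E W e ⋙ Over.forget S) :=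
      h1.conePointUniqueUpToIso (limit.isLimit _)
    have := isAffine_limit_liftDiag_forget E W hW e
    exact .of_isIso iso.hom
  · rw [IsLimit.conePointUniqueUpToIso_hom_comp]
    rfl

end LemmaA

/-- The functor `Over.pullback g` sends a morphism to a base change of it. -/
theorem isPullback_overPullback_map {C : Type*} [Category C] [HasPullbacks C] {Y Z : C} (g : Z ⟶ Y)
    {A B : Over Y} (f : A ⟶ B) :
    IsPullback ((Over.pullback g).map f).left (pullback.fst A.hom g) (pullback.fst B.hom g)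
      f.left := by
  have hbig : IsPullback (pullback.fst A.hom g) (pullback.snd A.hom g) (f.left ≫ B.hom) g := by
    rw [Over.w f]
    exact IsPullback.of_hasPullback A.hom g
  have hright : IsPullback (pullback.fst B.hom g) (pullback.snd B.hom g) B.hom g :=
    IsPullback.of_hasPullback _ _
  have hl : ((Over.pullback g).map f).left ≫ pullback.snd B.hom g = pullback.snd A.hom g :=
    pullback.lift_snd _ _ _
  have hf : ((Over.pullback g).map f).left ≫ pullback.fst B.hom g = pullback.fst A.hom g ≫ f.left :=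
    pullback.lift_fst _ _ _
  refine IsPullback.of_right (t := hright.flip) ?_ hf
  rw [hl]
  exact hbig.flip

/-- Opens of `|lim X_i|` come, locally, from a finite stage. -/
theorem exists_open_nbhd_of_limit {I : Type u} [SmallCategory I] [IsCofiltered I]
    (D : I ⥤ Sp S) (hD : ∀ i, IsAlgSpace (D.obj i))
    (hDa : ∀ (i j : I) (φ : i ⟶ j), IsAffineMor (D.map φ))
    (c : Cone D) (hc : IsLimit c) (O : Set (Points c.pt)) (hO : IsOpen O) (x : Points c.pt)
    (hx : x ∈ O) :
    ∃ (i : I) (Oi : Set (Points (D.obj i))), IsOpen Oi ∧ Points.map (c.π.app i) x ∈ Oi ∧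
      Points.map (c.π.app i) ⁻¹' Oi ⊆ O := by
  obtain ⟨i⟩ : Nonempty I := IsCofiltered.nonempty
  obtain ⟨U₀, p, hpe, hps⟩ := (hD i).atlas
  obtain ⟨u₀, hu₀⟩ := surjective_ofPt p hps (Points.map (c.π.app i) x)
  obtain ⟨_, ⟨V, hV, rfl⟩, hu₀V, -⟩ :=
    U₀.left.isBasis_affineOpens.exists_subset_of_mem_open (Set.mem_univ u₀) isOpen_univ
  let V' : U₀.left.Opens := V
  have hV' : IsAffineOpen V' := hV
  let Z : Over S := Over.mk (V'.ι ≫ U₀.hom)
  let ι : Z ⟶ U₀ := Over.homMk V'.ι rfl
  have hZ : IsAffine Z.left := hV'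
  let g : (yon S).obj Z ⟶ D.obj i := (yon S).map ι ≫ p
  have hge : RepWith @Etale g :=
    (RepWith @Etale).comp_mem _ _ ((repWith_yon_map_iff _ ι).2
      (inferInstanceAs (Etale V'.ι))) hpe
  let G : Over (D.obj i) ⥤ Sp S := Over.pullback g ⋙ Over.forget _
  let E : Over i ⥤ Sp S := Over.post D ⋙ G
  let c' : Cone E := G.mapCone ((Over.conePost D i).obj c)
  have hc' : IsLimit c' := isLimitOfPreserves G (Over.isLimitConePost i hc)
  have h : ∀ k : Over i, ∃ (W : Over S), IsAffine W.left ∧
      Nonempty ((yon S).obj W ≅ E.obj k) := by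
    intro k
    obtain ⟨W, iW, fst, sq, hWa⟩ := hDa _ _ k.hom hZ g
    exact ⟨W, hWa, ⟨sq.isoPullback⟩⟩
  choose W hW e' using h
  let e : ∀ k, (yon S).obj (W k) ≅ E.obj k := fun k => (e' k).some
  obtain ⟨cL, hcL, hLaff, θ, hθ⟩ : ∃ (cL : Cone (liftDiag E W e))
      (_ : IsLimit ((Over.forget S).mapCone cL)) (_ : IsAffine cL.pt.left)
      (θ : (yon S).obj cL.pt ≅ pullback (c.π.app i) g),
      ∀ k, θ.hom ≫ c'.π.app k = (yon S).map (cL.π.app k) ≫ (e k).hom :=
    exists_affine_rep_cone_of_isLimit E W hW e c' hc'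
  -- the etale charts of the `D.obj k`
  let pk : ∀ k : Over i, cL.pt ⟶ W k := fun k => cL.π.app k
  let ck : ∀ k : Over i, pullback (c.π.app i) g ⟶ E.obj k := fun k => c'.π.app k
  have hθ' : ∀ k, θ.hom ≫ ck k = (yon S).map (pk k) ≫ (e k).hom := hθ
  let fstk : ∀ k : Over i, E.obj k ⟶ D.obj k.left := fun k => pullback.fst (D.map k.hom) g
  let q : ∀ k : Over i, (yon S).obj (W k) ⟶ D.obj k.left := fun k => (e k).hom ≫ fstk k
  have hq : ∀ k, RepWith @Etale (q k) := fun k =>
    (RepWith @Etale).comp_mem _ _ ((RepWith @Etale).of_isIso (e k).hom)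
      ((RepWith @Etale).of_isPullback (IsPullback.of_hasPullback (D.map k.hom) g).flip hge)
  -- the pullback squares
  let fstP : pullback (c.π.app i) g ⟶ c.pt := pullback.fst (c.π.app i) g
  let πk : ∀ k : Over i, c.pt ⟶ D.obj k.left := fun k => c.π.app k.left
  have hsq : ∀ k : Over i, IsPullback (ck k) fstP (fstk k) (πk k) := fun k =>
    isPullback_overPullback_map g (((Over.conePost D i).obj c).π.app k)
  let r : (yon S).obj cL.pt ⟶ c.pt := θ.hom ≫ fstP
  have hr : ∀ k : Over i, r ≫ πk k = (yon S).map (pk k) ≫ q k := by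
    intro k
    calc r ≫ πk k = θ.hom ≫ (fstP ≫ πk k) := Category.assoc _ _ _
      _ = θ.hom ≫ (ck k ≫ fstk k) := congrArg (θ.hom ≫ ·) (hsq k).w.symm
      _ = (θ.hom ≫ ck k) ≫ fstk k := (Category.assoc _ _ _).symm
      _ = ((yon S).map (pk k) ≫ (e k).hom) ≫ fstk k := by rw [hθ' k]
      _ = (yon S).map (pk k) ≫ q k := Category.assoc _ _ _
  -- the point
  have hpt : Points.map (c.π.app i) x = Points.map g (Points.ofScheme Z (⟨u₀, hu₀V⟩ : V')) := by
    rw [← Points.ofPt_eq_map_ofScheme, ofPt_comp_yon_map, ← hu₀]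
    rfl
  obtain ⟨y, hy1, -⟩ := exists_point_of_isPullback (IsPullback.of_hasPullback (c.π.app i) g) x _ hpt
  obtain ⟨l, hl⟩ := (Points.schemeEquiv cL.pt).surjective (Points.map θ.inv y)
  have hlx : Points.ofPt r l = x := by
    rw [Points.ofPt_eq_map_ofScheme]
    change Points.map _ (Points.schemeEquiv cL.pt l) = x
    rw [hl, ← Points.map_comp, Iso.inv_hom_id_assoc]
    exact hy1
  -- the open subset of the affine limit scheme
  have hOL : IsOpen (Points.ofPt r ⁻¹' O) := Points.isOpen_iff.1 hO _ r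
  have haff : ∀ {k l : Over i} (f : k ⟶ l),
      IsAffineHom ((liftDiag E W e ⋙ Over.forget S).map f) := fun {k l} f => by
    have : IsAffine ((liftDiag E W e).obj k).left := hW k
    have : IsAffine ((liftDiag E W e).obj l).left := hW l
    change IsAffineHom ((liftDiag E W e).map f).left
    infer_instance
  obtain ⟨_, ⟨k, Vk, -, rfl⟩, hlV, hVle⟩ := TopologicalSpace.Opens.isBasis_iff_nbhd.1
    (isBasis_preimage_isAffineOpen _ _ hcL) (U := ⟨_, hOL⟩) (x := l) (by
      change Points.ofPt r l ∈ O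
      rw [hlx]; exact hx)
  let Vk' : (W k).left.Opens := Vk
  have hlV' : (pk k).left l ∈ Vk' := hlV
  refine ⟨k.left, Points.ofPt (q k) '' (Vk' : Set (W k).left),
    isOpenMap_ofPt_of_etale (q k) (hq k) _ Vk'.isOpen, ?_, ?_⟩
  · refine ⟨(pk k).left l, hlV', ?_⟩
    rw [← ofPt_comp_yon_map, ← hr k, ← Points.map_ofPt, hlx]
  · rintro x' ⟨v, hv, hvx'⟩
    have h1 : Points.map (πk k) x' =
        Points.map (fstk k) (Points.map (e k).hom (Points.ofScheme (W k) v)) := by
      rw [← Points.map_comp, ← Points.ofPt_eq_map_ofScheme]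
      exact hvx'.symm
    obtain ⟨y', hy'1, hy'2⟩ := exists_point_of_isPullback (hsq k).flip x' _ h1
    obtain ⟨l', hl'⟩ := (Points.schemeEquiv cL.pt).surjective (Points.map θ.inv y')
    have hl'x : Points.ofPt r l' = x' := by
      rw [Points.ofPt_eq_map_ofScheme]
      change Points.map _ (Points.schemeEquiv cL.pt l') = x'
      rw [hl', ← Points.map_comp, Iso.inv_hom_id_assoc]
      exact hy'1
    have hl'v : (pk k).left l' = v := by
      apply (Points.schemeEquiv (W k)).injective
      change Points.ofScheme (W k) _ = Points.ofScheme (W k) v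
      have h2 : (yon S).map (pk k) = θ.hom ≫ ck k ≫ (e k).inv := by
        rw [← Category.assoc, hθ' k, Category.assoc, Iso.hom_inv_id, Category.comp_id]
      rw [← ofPt_yon_map, h2, Points.ofPt_eq_map_ofScheme]
      change Points.map _ (Points.schemeEquiv cL.pt l') = _
      rw [hl', ← Points.map_comp, Iso.inv_hom_id_assoc, Points.map_comp, hy'2, ← Points.map_comp,
        Iso.hom_inv_id, Points.map_id]
    have : l' ∈ (⟨_, hOL⟩ : TopologicalSpace.Opens cL.pt.left) := hVle (by
      change (pk k).left l' ∈ Vk'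
      rw [hl'v]; exact hv)
    rw [← hl'x]
    exact this

end Groth.Agent.Helper15.AlgSpLim
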