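import Groth.Agent.Lib.Helper15.AlgSpInter

set_option autoImplicit false
universe u
open CategoryTheory CategoryTheory.Limits AlgebraicGeometry MorphismProperty Opposite
open AlgSp

namespace Groth.Agent.Helper15

/-- In a balanced category with pullbacks, epimorphisms lift against monomorphisms. -/
theorem exists_lift_of_epi_of_mono {C : Type*} [Category C] [HasPullbacks C] [Balanced C]
    {V Y Z X : C} (q : V ⟶ Y) [Epi q] (i : Z ⟶ X) [Mono i] (f : Y ⟶ X) (g' : V ⟶ Z)
    (h : g' ≫ i = q ≫ f) : ∃ g : Y ⟶ Z, g ≫ i = f := by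
  let l : V ⟶ pullback f i := pullback.lift q g' h.symm
  have hl : l ≫ pullback.fst f i = q := pullback.lift_fst _ _ _
  haveI : Epi (pullback.fst f i) := by
    haveI : Epi (l ≫ pullback.fst f i) := by rw [hl]; infer_instance
    exact epi_of_epi l (pullback.fst f i)
  haveI : IsIso (pullback.fst f i) := isIso_of_mono_of_epi _
  exact ⟨inv (pullback.fst f i) ≫ pullback.snd f i, by
    rw [Category.assoc, ← pullback.condition, IsIso.inv_hom_id_assoc]⟩

variable {S : Scheme.{u}}

/-- A map from a sheaf with an etale surjective chart factors through a subsheaf as soon as its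
restriction to the chart does. -/
theorem exists_factor_of_chart {Y Z X : Sp S} {V : Over S} (p : (yon S).obj V ⟶ Y)
    (hpe : RepWith @Etale p) (hps : RepWith @Surjective p) (i : Z ⟶ X) [Mono i] (f : Y ⟶ X)
    (g' : (yon S).obj V ⟶ Z) (h : g' ≫ i = p ≫ f) : ∃ g : Y ⟶ Z, g ≫ i = f := by
  haveI := isLocallySurjective_of_etale_surjective p hpe hps
  haveI : Epi p := Sheaf.epi_of_isLocallySurjective p
  exact exists_lift_of_epi_of_mono p i f g' h

theorem isClosedImmersion_le_mono :
    (@IsClosedImmersion : MorphismProperty Scheme.{u}) ≤ MorphismProperty.monomorphisms Scheme.{u} :=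
  fun _ _ g hg => by haveI := hg; exact (inferInstance : Mono g)

/-- A map from a reduced scheme whose points land in a closed subspace factors through it. -/
theorem exists_factor_of_isReduced {Z X : Sp S} (i : Z ⟶ X) (hi : RepWith @IsClosedImmersion i)
    {V : Over S} [IsReduced V.left] (t : (yon S).obj V ⟶ X)
    (ht : ∀ v : V.left, Points.ofPt t v ∈ Set.range (Points.map i)) :
    ∃ g' : (yon S).obj V ⟶ Z, g' ≫ i = t := by
  have hrep := hi.rep
  haveI hcl : IsClosedImmersion (hrep.snd t).left := hi.property_snd t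
  haveI : Surjective (hrep.snd t).left := by
    refine ⟨fun v => ?_⟩
    obtain ⟨z, hz⟩ := ht v
    rw [Points.ofPt_eq_map_ofScheme t v] at hz
    obtain ⟨pt, -, hp2⟩ := exists_point_of_isPullback (hrep.isPullback t) z _ hz
    obtain ⟨w, rfl⟩ := (Points.schemeEquiv _).surjective pt
    change Points.map _ (Points.ofScheme _ w) = _ at hp2
    rw [← Points.ofPt_eq_map_ofScheme, ofPt_yon_map] at hp2
    exact ⟨w, (Points.schemeEquiv V).injective hp2⟩
  haveI : IsIso (hrep.snd t).left := isIso_of_isClosedImmersion_of_surjective _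
  haveI : IsIso ((Over.forget S).map (hrep.snd t)) := (inferInstance : IsIso (hrep.snd t).left)
  haveI : IsIso (hrep.snd t) := isIso_of_reflects_iso _ (Over.forget S)
  refine ⟨(yon S).map (inv (hrep.snd t)) ≫ hrep.fst t, ?_⟩
  rw [Category.assoc, hrep.w t, ← Category.assoc, ← Functor.map_comp, IsIso.inv_hom_id,
    CategoryTheory.Functor.map_id, Category.id_comp]

/-- A map from a reduced sheaf factors through a closed subspace iff it does so on points. -/
theorem factors_iff_of_isReducedSp {Y Z X : Sp S} (i : Z ⟶ X) (hi : RepWith @IsClosedImmersion i)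
    (hY : IsReducedSp Y) (f : Y ⟶ X) :
    (∃ g : Y ⟶ Z, g ≫ i = f) ↔
      Set.range (Points.map f) ⊆ Set.range (Points.map i) := by
  constructor
  · rintro ⟨g, rfl⟩ _ ⟨y, rfl⟩
    exact ⟨Points.map g y, (Points.map_comp g i y).symm⟩
  · intro h
    obtain ⟨V, p, hpe, hps, hV⟩ := hY
    haveI : IsReduced V.left := hV
    haveI : Mono i := mono_of_repWith isClosedImmersion_le_mono i hi
    obtain ⟨g', hg'⟩ := exists_factor_of_isReduced i hi (p ≫ f) (fun v => by
      apply h
      exact ⟨Points.ofPt p v, Points.map_ofPt p f v⟩)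
    exact exists_factor_of_chart p hpe hps i f g' hg'

end Groth.Agent.Helper15
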