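import Mathlib
import Groth.Agent.Lib.Helper15.AlgSpLim9
import Groth.Agent.Lib.Helper15.AlgSpRed
import Groth.Agent.Lib.Helper15.AlgSpDecent

set_option autoImplicit false

universe u

open CategoryTheory CategoryTheory.Limits AlgebraicGeometry MorphismProperty Opposite
open AlgSp

namespace Groth.Agent.Helper15.AlgSpLim

variable {S : Scheme.{u}}

/-- The closure of a point of `|lim X_i|` is the limit of the closures. -/
theorem closure_singleton_limit {I : Type u} [SmallCategory I] [IsCofiltered I]
    (D : I ⥤ Sp S) (hD : ∀ i, IsAlgSpace (D.obj i))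
    (hDa : ∀ (i j : I) (φ : i ⟶ j), IsAffineMor (D.map φ))
    (c : Cone D) (hc : IsLimit c) (x : Points c.pt) :
    closure {x} = {x' | ∀ i, Points.map (c.π.app i) x' ∈ closure {Points.map (c.π.app i) x}} := by
  ext x'
  constructor
  · intro hx' i
    have := (Points.continuous_map (c.π.app i)).closure_preimage_subset {Points.map (c.π.app i) x}
    exact this (closure_mono (by simp) hx')
  · intro hx'
    by_contra hcon
    obtain ⟨i, Oi, hOi, hxi, hsub⟩ := exists_open_nbhd_of_limit D hD hDa c hc (closure {x})ᶜ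
      isClosed_closure.isOpen_compl x' hcon
    have h1 := hx' i
    rw [mem_closure_iff] at h1
    obtain ⟨y, hy1, hy2⟩ := h1 Oi hOi hxi
    rw [Set.mem_singleton_iff] at hy2
    subst hy2
    exact hsub hy1 (subset_closure rfl)

/-- A closed immersion is affine. -/
theorem isAffineMor_of_isClosedImmersion {X Y : Sp S} (f : X ⟶ Y)
    (hf : RepWith @IsClosedImmersion f) : IsAffineMor f := by
  rw [isAffineMor_iff_affRep]
  exact (affRep_of_repWith hf).mono isClosedImmersion_le_isAffineHom

/-- A monomorphism is separated. -/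
theorem isSeparatedMor_of_mono {X Y : Sp S} (f : X ⟶ Y) [Mono f] : IsSeparatedMor f := by
  have : IsIso (pullback.diagonal f) := inferInstance
  exact (RepWith @IsClosedImmersion).of_isIso _

/-- A system of closed subspaces of a system with affine transition maps has affine transition
maps. -/
theorem isAffineMor_of_nat_closedImmersion {I : Type u} [SmallCategory I]
    (D DZ : I ⥤ Sp S) (hDa : ∀ (i j : I) (φ : i ⟶ j), IsAffineMor (D.map φ))
    (ι : DZ ⟶ D) (hι : ∀ i, RepWith @IsClosedImmersion (ι.app i)) (i j : I) (φ : i ⟶ j) :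
    IsAffineMor (DZ.map φ) := by
  have : Mono (ι.app j) := mono_of_repWith isClosedImmersion_le_mono _ (hι j)
  refine (isAffineMor_of_affine_over_base (DZ.map φ) (ι.app i ≫ D.map φ) (ι.app j)
    (ι.naturality φ) ?_).2 (isSeparatedMor_of_mono _)
  rw [isAffineMor_iff_affRep]
  exact AffRep.comp le_rfl ((isAffineMor_iff_affRep _).1 (isAffineMor_of_isClosedImmersion _ (hι i)))
    ((isAffineMor_iff_affRep _).1 (hDa i j φ))

/-- The reduced induced closed subspace on the closure of a point of `lim X_i` is the limit of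
the reduced induced closed subspaces on the closures of its images. -/
theorem isLimit_redInduced {I : Type u} [SmallCategory I] [IsCofiltered I]
    (D : I ⥤ Sp S) (hD : ∀ i, IsAlgSpace (D.obj i))
    (hDa : ∀ (i j : I) (φ : i ⟶ j), IsAffineMor (D.map φ))
    (c : Cone D) (hc : IsLimit c) (hdec : ∀ i, IsDecent (D.obj i)) (x : Points c.pt)
    (Z : Sp S) (zι : Z ⟶ c.pt) (hZ : IsRedInduced (closure {x}) zι)
    (DZ : I ⥤ Sp S) (hDZ : ∀ i, IsAlgSpace (DZ.obj i)) (ι : DZ ⟶ D)
    (hι : ∀ i, IsRedInduced (closure {Points.map (c.π.app i) x}) (ι.app i))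
    (ξ : (Functor.const I).obj Z ⟶ DZ) (hξ : ∀ i, ξ.app i ≫ ι.app i = zι ≫ c.π.app i) :
    Nonempty (IsLimit (Cone.mk Z ξ)) := by
  have hDZa := isAffineMor_of_nat_closedImmersion D DZ hDa ι (fun i => (hι i).1)
  have hDZdec : ∀ i, IsDecent (DZ.obj i) := fun i =>
    isDecent_of_representable (ι.app i) (hι i).1.rep (hdec i)
  let cZ := limit.cone DZ
  have hcZ : IsLimit cZ := limit.isLimit DZ
  let g : cZ.pt ⟶ c.pt := hc.lift ((Cones.postcompose ι).obj cZ)
  have hg : ∀ i, g ≫ c.π.app i = cZ.π.app i ≫ ι.app i := fun i => hc.fac _ i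
  have hgci : RepWith @IsClosedImmersion g :=
    repWith_isClosedImmersion_limit DZ D ι (fun i => (hι i).1) cZ hcZ c hc g hg
  have hred : IsReducedSp cZ.pt := isReducedSp_limit DZ hDZ hDZa cZ hcZ (fun i => (hι i).2.2)
  have hmono : ∀ i, Mono (ι.app i) := fun i => mono_of_repWith isClosedImmersion_le_mono _ (hι i).1
  have hinj : ∀ i, Function.Injective (Points.map (ι.app i)) := fun i => by
    have := hmono i
    exact (injOnFieldPts_of_mono _).injective_points_map
  have hrange : Set.range (Points.map g) = closure {x} := by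
    rw [closure_singleton_limit D hD hDa c hc x]
    ext x'
    constructor
    · rintro ⟨z, rfl⟩ i
      rw [← Points.map_comp, hg i, Points.map_comp, ← (hι i).2.1]
      exact ⟨_, rfl⟩
    · intro hx'
      have hs : ∀ i, ∃ s : Points (DZ.obj i),
          Points.map (ι.app i) s = Points.map (c.π.app i) x' := fun i => by
        have := hx' i
        rw [← (hι i).2.1] at this
        exact this
      choose s hs using hs
      obtain ⟨z, hz⟩ := (points_limit_bijective DZ hDZ cZ hcZ hDZdec).2 s (fun i j φ => by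
        apply hinj j
        rw [← Points.map_comp, ι.naturality, Points.map_comp, hs, hs, ← Points.map_comp, c.w])
      refine ⟨z, (points_limit_bijective D hD c hc hdec).1 _ _ fun i => ?_⟩
      rw [← Points.map_comp, hg i, Points.map_comp, hz, hs]
  have : Mono g := mono_of_repWith isClosedImmersion_le_mono _ hgci
  have : Mono zι := mono_of_repWith isClosedImmersion_le_mono _ hZ.1
  obtain ⟨a, ha⟩ := (factors_iff_of_isReducedSp g hgci hZ.2.2 zι).2 (by rw [hrange, hZ.2.1])
  obtain ⟨b, hb⟩ := (factors_iff_of_isReducedSp zι hZ.1 hred g).2 (by rw [hrange, hZ.2.1])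
  have hab : a ≫ b = 𝟙 _ := by rw [← cancel_mono zι, Category.assoc, hb, ha, Category.id_comp]
  have hba : b ≫ a = 𝟙 _ := by rw [← cancel_mono g, Category.assoc, ha, hb, Category.id_comp]
  let θ : cZ.pt ≅ Z := ⟨b, a, hba, hab⟩
  refine ⟨IsLimit.ofIsoLimit hcZ (Cones.ext θ fun i => ?_)⟩
  have := hmono i
  rw [← cancel_mono (ι.app i)]
  change cZ.π.app i ≫ ι.app i = (b ≫ ξ.app i) ≫ ι.app i
  rw [Category.assoc, hξ i, ← Category.assoc, hb, hg i]

end Groth.Agent.Helper15.AlgSpLim
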