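import Mathlib
import Groth.Agent.Lib.Helper15.AlgSpLim10

set_option autoImplicit false

universe u

open CategoryTheory CategoryTheory.Limits AlgebraicGeometry MorphismProperty Opposite
open AlgSp

namespace Groth.Agent.Helper15.AlgSpLim

variable {S : Scheme.{u}}

attribute [local instance] IsCofiltered.isConnected

/-- A chart of a limit `X = lim X_i` of sheaves with affine transition maps, built from an affine
chart `g : h_Z ⟶ X_i` of one stage: affine schemes `T k = X_k ×_{X_i} Z` for `k ⟶ i`, with affine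
limit scheme `L = X ×_{X_i} Z`. -/
structure LimChart {I : Type u} [SmallCategory I] (D : I ⥤ Sp S) (c : Cone D) (i : I)
    {Z : Over S} (g : (yon S).obj Z ⟶ D.obj i) where
  T : Over i ⥤ Over S
  isAffine : ∀ k, IsAffine (T.obj k).left
  q : ∀ k, (yon S).obj (T.obj k) ⟶ D.obj k.left
  z : ∀ k, T.obj k ⟶ Z
  sq : ∀ k, IsPullback (q k) ((yon S).map (z k)) (D.map k.hom) g
  cL : Cone T
  isLimit : IsLimit ((Over.forget S).mapCone cL)
  isAffine_pt : IsAffine cL.pt.left
  r : (yon S).obj cL.pt ⟶ c.pt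
  zL : cL.pt ⟶ Z
  sqL : IsPullback r ((yon S).map zL) (c.π.app i) g
  sqk : ∀ k, IsPullback ((yon S).map (cL.π.app k)) r (q k) (c.π.app k.left)

/-- Limit charts exist. -/
theorem nonempty_limChart {I : Type u} [SmallCategory I] [IsCofiltered I]
    (D : I ⥤ Sp S) (hDa : ∀ (i j : I) (φ : i ⟶ j), IsAffineMor (D.map φ))
    (c : Cone D) (hc : IsLimit c) (i : I) {Z : Over S} (hZ : IsAffine Z.left)
    (g : (yon S).obj Z ⟶ D.obj i) : Nonempty (LimChart D c i g) := by
  let G : Over (D.obj i) ⥤ Sp S := Over.pullback g ⋙ Over.forget _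
  let E : Over i ⥤ Sp S := Over.post D ⋙ G
  let c' : Cone E := G.mapCone ((Over.conePost D i).obj c)
  have hc' : IsLimit c' := isLimitOfPreserves G (Over.isLimitConePost i hc)
  have h : ∀ k : Over i, ∃ (W : Over S), IsAffine W.left ∧
      Nonempty ((yon S).obj W ≅ E.obj k) := by
    intro k
    obtain ⟨W, iW, fst, sq, hWa⟩ := hDa _ _ k.hom hZ g
    exact ⟨W, hWa, ⟨sq.isoPullback⟩⟩
  choose W hW e' using h
  let e : ∀ k, (yon S).obj (W k) ≅ E.obj k := fun k => (e' k).some
  obtain ⟨cL, hcL, hLaff, θ, hθ⟩ : ∃ (cL : Cone (liftDiag E W e))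
      (_ : IsLimit ((Over.forget S).mapCone cL)) (_ : IsAffine cL.pt.left)
      (θ : (yon S).obj cL.pt ≅ pullback (c.π.app i) g),
      ∀ k, θ.hom ≫ c'.π.app k = (yon S).map (cL.π.app k) ≫ (e k).hom :=
    exists_affine_rep_cone_of_isLimit E W hW e c' hc'
  let pk : ∀ k : Over i, cL.pt ⟶ W k := fun k => cL.π.app k
  let ck : ∀ k : Over i, pullback (c.π.app i) g ⟶ E.obj k := fun k => c'.π.app k
  have hθ' : ∀ k, θ.hom ≫ ck k = (yon S).map (pk k) ≫ (e k).hom := hθ
  let fstk : ∀ k : Over i, E.obj k ⟶ D.obj k.left := fun k => pullback.fst (D.map k.hom) g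
  let sndk : ∀ k : Over i, E.obj k ⟶ (yon S).obj Z := fun k => pullback.snd (D.map k.hom) g
  let fstP : pullback (c.π.app i) g ⟶ c.pt := pullback.fst (c.π.app i) g
  let sndP : pullback (c.π.app i) g ⟶ (yon S).obj Z := pullback.snd (c.π.app i) g
  let πk : ∀ k : Over i, c.pt ⟶ D.obj k.left := fun k => c.π.app k.left
  have hsq : ∀ k : Over i, IsPullback (ck k) fstP (fstk k) (πk k) := fun k =>
    isPullback_overPullback_map g (((Over.conePost D i).obj c).π.app k)
  refine ⟨{
    T := liftDiag E W e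
    isAffine := hW
    q := fun k => (e k).hom ≫ fstk k
    z := fun k => (yon S).preimage ((e k).hom ≫ sndk k)
    sq := fun k => ?_
    cL := cL
    isLimit := hcL
    isAffine_pt := hLaff
    r := θ.hom ≫ fstP
    zL := (yon S).preimage (θ.hom ≫ sndP)
    sqL := ?_
    sqk := fun k => ?_ }⟩
  · rw [Functor.map_preimage]
    refine (IsPullback.of_hasPullback (D.map k.hom) g).of_iso (e k).symm (Iso.refl _) (Iso.refl _)
      (Iso.refl _) ?_ ?_ (by simp) (by simp)
    · simp only [Iso.refl_hom, Category.comp_id, Iso.symm_hom]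
      exact (Iso.inv_hom_id_assoc (e k) _).symm
    · simp only [Iso.refl_hom, Category.comp_id, Iso.symm_hom]
      exact (Iso.inv_hom_id_assoc (e k) _).symm
  · rw [Functor.map_preimage]
    refine (IsPullback.of_hasPullback (c.π.app i) g).of_iso θ.symm (Iso.refl _) (Iso.refl _)
      (Iso.refl _) ?_ ?_ (by simp) (by simp)
    · simp only [Iso.refl_hom, Category.comp_id, Iso.symm_hom]
      exact (Iso.inv_hom_id_assoc θ _).symm
    · simp only [Iso.refl_hom, Category.comp_id, Iso.symm_hom]
      exact (Iso.inv_hom_id_assoc θ _).symm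
  · refine (hsq k).of_iso θ.symm (e k).symm (Iso.refl _) (Iso.refl _) ?_ ?_ ?_ ?_
    · change ck k ≫ (e k).inv = θ.inv ≫ (yon S).map (pk k)
      rw [Iso.eq_inv_comp, ← Category.assoc, hθ' k, Category.assoc, Iso.hom_inv_id,
        Category.comp_id]
    · simp only [Iso.refl_hom, Category.comp_id, Iso.symm_hom]
      exact (Iso.inv_hom_id_assoc θ _).symm
    · simp only [Iso.refl_hom, Category.comp_id, Iso.symm_hom]
      exact (Iso.inv_hom_id_assoc (e k) _).symm
    · simp only [Iso.refl_hom, Category.comp_id, Category.id_comp]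
      rfl

namespace LimChart

variable {I : Type u} [SmallCategory I] {D : I ⥤ Sp S} {c : Cone D} {i : I}
  {Z : Over S} {g : (yon S).obj Z ⟶ D.obj i} (C : LimChart D c i g)

theorem etale_q (hge : RepWith @Etale g) (k : Over i) : RepWith @Etale (C.q k) :=
  (RepWith @Etale).of_isPullback (C.sq k).flip hge

theorem etale_r (hge : RepWith @Etale g) : RepWith @Etale C.r :=
  (RepWith @Etale).of_isPullback C.sqL.flip hge

theorem surjective_q (hgs : RepWith @Surjective g) (k : Over i) : RepWith @Surjective (C.q k) :=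
  (RepWith @Surjective).of_isPullback (C.sq k).flip hgs

theorem surjective_r (hgs : RepWith @Surjective g) : RepWith @Surjective C.r :=
  (RepWith @Surjective).of_isPullback C.sqL.flip hgs

theorem isAffineHom_map {k l : Over i} (f : k ⟶ l) :
    IsAffineHom ((C.T ⋙ Over.forget S).map f) := by
  have := C.isAffine k
  have := C.isAffine l
  change IsAffineHom (C.T.map f).left
  infer_instance

theorem ofPt_q_π (k : Over i) (l : C.cL.pt.left) :
    Points.ofPt (C.q k) ((C.cL.π.app k).left l) =
      Points.map (c.π.app k.left) (Points.ofPt C.r l) := by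
  rw [← ofPt_comp_yon_map, (C.sqk k).w, ← Points.map_ofPt]

theorem ofPt_g_zL (l : C.cL.pt.left) :
    Points.ofPt g (C.zL.left l) = Points.map (c.π.app i) (Points.ofPt C.r l) := by
  rw [← ofPt_comp_yon_map, ← C.sqL.w, ← Points.map_ofPt]

theorem exists_point (k : Over i) (x' : Points c.pt) (v : (C.T.obj k).left)
    (h : Points.map (c.π.app k.left) x' = Points.ofPt (C.q k) v) :
    ∃ l : C.cL.pt.left, Points.ofPt C.r l = x' ∧ (C.cL.π.app k).left l = v := by
  rw [Points.ofPt_eq_map_ofScheme] at h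
  obtain ⟨p, hp1, hp2⟩ := exists_point_of_isPullback (C.sqk k) _ x' h.symm
  obtain ⟨l, rfl⟩ := (Points.schemeEquiv C.cL.pt).surjective p
  refine ⟨l, ?_, ?_⟩
  · rw [Points.ofPt_eq_map_ofScheme]
    exact hp2
  · apply (Points.schemeEquiv (C.T.obj k)).injective
    change Points.ofScheme _ _ = Points.ofScheme _ v
    rw [← ofPt_yon_map, Points.ofPt_eq_map_ofScheme]
    exact hp1

theorem exists_point_L (x' : Points c.pt) (v : Z.left)
    (h : Points.map (c.π.app i) x' = Points.ofPt g v) :
    ∃ l : C.cL.pt.left, Points.ofPt C.r l = x' ∧ C.zL.left l = v := by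
  rw [Points.ofPt_eq_map_ofScheme] at h
  obtain ⟨p, hp1, hp2⟩ := exists_point_of_isPullback C.sqL x' _ h
  obtain ⟨l, rfl⟩ := (Points.schemeEquiv C.cL.pt).surjective p
  refine ⟨l, ?_, ?_⟩
  · rw [Points.ofPt_eq_map_ofScheme]
    exact hp1
  · apply (Points.schemeEquiv Z).injective
    change Points.ofScheme _ _ = Points.ofScheme _ v
    rw [← ofPt_yon_map, Points.ofPt_eq_map_ofScheme]
    exact hp2

end LimChart

end Groth.Agent.Helper15.AlgSpLim
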