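import Groth.Agent.Lib.Helper15.AlgSpUniv

set_option autoImplicit false
universe u

open CategoryTheory CategoryTheory.Limits AlgebraicGeometry Opposite

namespace Groth.Agent.Helper15

open AlgSp

variable {S : Scheme.{u}}

/-- An isomorphism of sheaves is representable with `P` for `P` containing identities. -/
theorem repWith_of_isIso (P : MorphismProperty Scheme.{u}) [P.IsStableUnderBaseChange]
    [P.IsMultiplicative] {F G : Sp S} (f : F ⟶ G) [IsIso f] : RepWith P f := by
  have h1 : RepWith P (𝟙 G) := (repWith_isMultiplicative (S := S) P).id_mem G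
  have h2 : RepWith P (f ≫ 𝟙 G) := MorphismProperty.RespectsIso.precomp _ _ _ h1
  rwa [Category.comp_id] at h2

/-- If `h_u ≫ c = a` with `a`, `c` etale charts, then `u` is etale. -/
theorem etale_of_comp_repWith {F : Sp S} {U V : Over S} (a : (yon S).obj U ⟶ F)
    (c : (yon S).obj V ⟶ F) (u : U ⟶ V) (h : (yon S).map u ≫ c = a) (ha : RepWith @Etale a)
    (hc : RepWith @Etale c) : Etale u.left := by
  have hrep := hc.rep
  have sq := hrep.isPullback' a
  -- r₁ : R ⟶ U (base change of c), r₂ : R ⟶ V (base change of a)
  have h1 : Etale (hrep.snd a).left := hc.property_snd a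
  have h2 : Etale (hrep.fst' a).left := by
    have := (RepWith @Etale).of_isPullback sq.flip ha
    exact (repWith_yon_map_iff _ _).1 this
  -- the section
  have hw : (yon S).map u ≫ c = (yon S).map (𝟙 U) ≫ a := by
    rw [h, CategoryTheory.Functor.map_id, Category.id_comp]
  obtain ⟨σ, hσ1, hσ2⟩ : ∃ σ : U ⟶ hrep.pullback a, σ ≫ hrep.fst' a = u ∧ σ ≫ hrep.snd a = 𝟙 U :=
    ⟨hrep.lift' u (𝟙 U) hw, hrep.lift'_fst _ _ hw, hrep.lift'_snd _ _ hw⟩
  have hσe : Etale σ.left := by
    have e : σ.left ≫ (hrep.snd a).left = 𝟙 _ := by
      rw [← Over.comp_left, hσ2]; rfl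
    haveI : Etale (σ.left ≫ (hrep.snd a).left) := by rw [e]; infer_instance
    exact Etale.of_comp σ.left (hrep.snd a).left
  have : u.left = σ.left ≫ (hrep.fst' a).left := by rw [← Over.comp_left, hσ1]
  rw [this]
  infer_instance

/-- A representable map with `P` has `P` etale locally on source and target, if `P` is stable under
composition and holds for etale morphisms. -/
theorem locP_of_repWith {P : MorphismProperty Scheme.{u}} [P.IsStableUnderComposition]
    (hEt : (@Etale : MorphismProperty Scheme.{u}) ≤ P) {X Y : Sp S} (f : X ⟶ Y)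
    (hf : RepWith P f) : LocP P f := by
  intro U V a b h ha hb comm
  have hrep := hf.rep
  have sq := hrep.isPullback b
  -- V' = X ×_Y h_V, fst : h_V' ⟶ X etale
  have hfst : RepWith @Etale (hrep.fst b) := (RepWith @Etale).of_isPullback sq.flip hb
  obtain ⟨u, hu⟩ := (yon S).map_surjective (sq.lift a ((yon S).map h) comm)
  have hu1 : (yon S).map u ≫ hrep.fst b = a := by rw [hu, sq.lift_fst]
  have hu2 : u ≫ hrep.snd b = h := by
    apply (yon S).map_injective
    rw [Functor.map_comp, hu, sq.lift_snd]
  have hue : Etale u.left := etale_of_comp_repWith a (hrep.fst b) u hu1 ha hfst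
  have : h.left = u.left ≫ (hrep.snd b).left := by rw [← Over.comp_left, hu2]
  rw [this]
  exact P.comp_mem _ _ (hEt _ _ _ hue) (hf.property_snd b)

theorem isClosedImmersion_le_quasiCompact :
    (@IsClosedImmersion : MorphismProperty Scheme.{u}) ≤ @QuasiCompact :=
  fun _ _ f hf => by haveI : IsClosedImmersion f := hf; infer_instance

theorem isClosedImmersion_le_universallyClosed :
    (@IsClosedImmersion : MorphismProperty Scheme.{u}) ≤ @UniversallyClosed :=
  fun _ _ f hf => by haveI : IsClosedImmersion f := hf; infer_instance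

theorem isClosedImmersion_le_isImmersion :
    (@IsClosedImmersion : MorphismProperty Scheme.{u}) ≤ @IsImmersion :=
  fun _ _ f hf => by haveI : IsClosedImmersion f := hf; infer_instance

theorem isOpenImmersion_le_isImmersion :
    (@IsOpenImmersion : MorphismProperty Scheme.{u}) ≤ @IsImmersion :=
  fun _ _ f hf => by haveI : IsOpenImmersion f := hf; infer_instance

theorem isImmersion_le_lft :
    (@IsImmersion : MorphismProperty Scheme.{u}) ≤ @LocallyOfFiniteType :=
  fun _ _ f hf => by haveI : IsImmersion f := hf; infer_instance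

theorem etale_le_lft : (@Etale : MorphismProperty Scheme.{u}) ≤ @LocallyOfFiniteType :=
  fun _ _ f hf => by haveI : Etale f := hf; infer_instance

/-- A monomorphism of sheaves is separated: its diagonal is an isomorphism. -/
theorem isSeparatedMor_of_mono {X Y : Sp S} (f : X ⟶ Y) [Mono f] : IsSeparatedMor f := by
  have : IsIso (pullback.diagonal f) := by infer_instance
  exact repWith_of_isIso _ _

theorem isQuasiSeparatedMor_of_mono {X Y : Sp S} (f : X ⟶ Y) [Mono f] :
    IsQuasiSeparatedMor f := by
  have : IsIso (pullback.diagonal f) := by infer_instance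
  exact repWith_of_isIso _ _

end Groth.Agent.Helper15
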