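import Groth.Agent.Lib.Helper15.AlgSpMorTop

/-!
# Quasi-compactness of morphisms of algebraic spaces
-/

set_option autoImplicit false
universe u
open CategoryTheory CategoryTheory.Limits AlgebraicGeometry MorphismProperty Opposite
open AlgSp

namespace Groth.Agent.Helper15

variable {S : Scheme.{u}}

theorem isQuasiCompactSp_of_iso {Z' Z'' : Sp S} (e : Z' ≅ Z'') (h : IsQuasiCompactSp Z'') :
    IsQuasiCompactSp Z' :=
  isQuasiCompactSp_of_repWith_quasiCompact e.hom (repWith_of_isIso _ e.hom) h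

/-- `g ∘ f` quasi-compact and `g` quasi-separated imply `f` quasi-compact. -/
theorem isQuasiCompactMor_of_comp {X Y Z : Sp S} (f : X ⟶ Y) (g : Y ⟶ Z)
    (hgf : IsQuasiCompactMor (f ≫ g)) (hg : IsQuasiSeparatedMor g) : IsQuasiCompactMor f := by
  intro W W' hW hWqc w fst snd sq
  have sq2 : IsPullback (pullback.fst (f ≫ g) (w ≫ g)) (pullback.snd (f ≫ g) (w ≫ g)) (f ≫ g)
      (w ≫ g) := IsPullback.of_hasPullback _ _
  have h2 : IsQuasiCompactSp (pullback (f ≫ g) (w ≫ g)) := hgf hW hWqc (w ≫ g) _ _ sq2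
  have hm : RepWith @QuasiCompact (pullback.mapDesc f w g) := repWith_mapDesc f w g hg
  have h1 : IsQuasiCompactSp (pullback f w) := isQuasiCompactSp_of_repWith_quasiCompact _ hm h2
  exact isQuasiCompactSp_of_iso sq.isoPullback h1

/-- Over a quasi-separated base, the product of two quasi-compact sheaves is quasi-compact. -/
theorem isQuasiCompactSp_prod [QuasiSeparatedSpace ↥S] {X W : Sp S} (hX : IsQuasiCompactSp X)
    (hW : IsQuasiCompactSp W) : IsQuasiCompactSp (X ⨯ W) := by
  obtain ⟨U, p, hpe, hps, hU⟩ := hX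
  obtain ⟨U', p', hpe', hps', hU'⟩ := hW
  haveI : CompactSpace U.left := hU
  haveI : CompactSpace U'.left := hU'
  refine ⟨U ⨯ U', prodComparison (yon S) U U' ≫ prod.map p p', ?_, ?_, ?_⟩
  · exact ((RepWith @Etale).cancel_left_of_respectsIso _ _).2 (repWith_prod_map p p' hpe hpe')
  · exact ((RepWith @Surjective).cancel_left_of_respectsIso _ _).2
      (repWith_prod_map p p' hps hps')
  · have e := (Over.prodLeftIsoPullback U U')
    haveI : CompactSpace ↥(pullback U.hom U'.hom) := inferInstance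
    exact (TopCat.homeoOfIso (Scheme.forgetToTop.mapIso e)).symm.compactSpace

/-- Over a quasi-separated base, a fibre product of quasi-compact sheaves over a quasi-separated
sheaf is quasi-compact. -/
theorem isQuasiCompactSp_of_isPullback [QuasiSeparatedSpace ↥S] {X Y W P : Sp S} {f : X ⟶ Y}
    {w : W ⟶ Y} {fst : P ⟶ X} {snd : P ⟶ W} (sq : IsPullback fst snd f w)
    (hX : IsQuasiCompactSp X) (hW : IsQuasiCompactSp W) (hY : IsQuasiSeparatedSp Y) :
    IsQuasiCompactSp P :=
  isQuasiCompactSp_of_repWith_quasiCompact (prod.lift fst snd)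
    ((RepWith @QuasiCompact).of_isPullback (isPullback_diag_prod_map sq) hY)
    (isQuasiCompactSp_prod hX hW)

/-- Over a quasi-separated base, a morphism from a quasi-compact sheaf to a quasi-separated sheaf
is quasi-compact. -/
theorem isQuasiCompactMor_of_quasiCompact_of_quasiSeparated [QuasiSeparatedSpace ↥S] {X Y : Sp S}
    (f : X ⟶ Y) (hX : IsQuasiCompactSp X) (hY : IsQuasiSeparatedSp Y) : IsQuasiCompactMor f := by
  intro W W' _ hWqc w fst snd sq
  exact isQuasiCompactSp_of_isPullback sq hX hWqc hY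

/-- A fibre product of quasi-separated sheaves is quasi-separated. -/
theorem isQuasiSeparatedSp_of_isPullback {X Y Z P : Sp S} {f : X ⟶ Y} {g : Z ⟶ Y}
    {fst : P ⟶ X} {snd : P ⟶ Z} (sq : IsPullback fst snd f g)
    (hX : IsQuasiSeparatedSp X) (hZ : IsQuasiSeparatedSp Z) : IsQuasiSeparatedSp P := by
  have h1 : RepWith @QuasiCompact (pullback.diagonal g) := repWith_diagonal_of_repWith_diag g hZ
  have h2 : RepWith @QuasiCompact (pullback.diagonal fst) :=
    (RepWith @QuasiCompact).of_isPullback (isPullback_diagonal_of_isPullback sq.flip) h1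
  have sqP : IsPullback (pullback.fst fst fst) (pullback.snd fst fst) fst fst :=
    IsPullback.of_hasPullback _ _
  have h3 : RepWith @QuasiCompact (prod.lift (pullback.fst fst fst) (pullback.snd fst fst)) :=
    (RepWith @QuasiCompact).of_isPullback (isPullback_diag_prod_map sqP) hX
  have := (RepWith @QuasiCompact).comp_mem _ _ h2 h3
  rwa [diagonal_comp_prod_lift] at this

/-- An etale morphism from an algebraic space is universally open. -/
theorem isUnivOpenMor_of_isEtaleMor {X Y : Sp S} (hX : IsAlgSpace X) (f : X ⟶ Y)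
    (hf : IsEtaleMor f) : IsUnivOpenMor f := by
  obtain ⟨U, a, hae, has⟩ := hX.atlas
  refine isUnivOpenMor_of_comp_surjective a f has ?_
  apply isUnivOpenMor_of_repWith
  refine repWith_mono ?_ (hf a hae)
  intro A B φ hφ
  haveI : Etale φ := hφ
  exact (inferInstance : UniversallyOpen φ)

/-- A universally open morphism to an algebraic space is open on points. -/
theorem isOpenMor_of_isUnivOpenMor {X Y : Sp S} (hY : IsAlgSpace Y) (f : X ⟶ Y)
    (hf : IsUnivOpenMor f) : IsOpenMor f :=
  hf hY (𝟙 Y) (𝟙 X) f (IsPullback.of_id_fst)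

/-- Quasi-compactness can be checked after base change to affine schemes. -/
theorem isQuasiCompactMor_of_forall_affine {X Y : Sp S} (f : X ⟶ Y)
    (h : ∀ (Z : Over S), IsAffine Z.left → ∀ (g : (yon S).obj Z ⟶ Y),
      IsQuasiCompactSp (pullback f g)) : IsQuasiCompactMor f := by
  intro Z Z' hZ hZqc g fst snd sq
  obtain ⟨W, q, hW, hqe, hqs⟩ := exists_affine_chart_of_isQuasiCompactSp hZqc
  have sqW : IsPullback (pullback.fst snd q) (pullback.snd snd q) snd q :=
    IsPullback.of_hasPullback _ _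
  have big := sqW.paste_horiz sq
  have h1 : IsQuasiCompactSp (pullback f (q ≫ g)) := h W hW (q ≫ g)
  have h2 : IsQuasiCompactSp (pullback snd q) := isQuasiCompactSp_of_iso big.isoPullback h1
  obtain ⟨U', p', hpe', hps', hU'⟩ := h2
  refine ⟨U', p' ≫ pullback.fst snd q, ?_, ?_, hU'⟩
  · exact (RepWith @Etale).comp_mem _ _ hpe' ((RepWith @Etale).of_isPullback sqW.flip hqe)
  · exact (RepWith @Surjective).comp_mem _ _ hps'
      ((RepWith @Surjective).of_isPullback sqW.flip hqs)

/-- Every point of an algebraic space has a quasi-compact open neighbourhood. -/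
theorem exists_isOpen_isCompact_mem {F : Sp S} (hF : IsAlgSpace F) (x : Points F) :
    ∃ V : Set (Points F), IsOpen V ∧ IsCompact V ∧ x ∈ V := by
  obtain ⟨V₀, q₀, hqe, hqs⟩ := hF.atlas
  obtain ⟨v, rfl⟩ := surjective_ofPt q₀ hqs x
  obtain ⟨_, ⟨O, hO, rfl⟩, hvO, -⟩ :=
    (V₀.left.isBasis_affineOpens).exists_subset_of_mem_open (Set.mem_univ v) isOpen_univ
  exact ⟨Points.ofPt q₀ '' (O : Set V₀.left), isOpenMap_ofPt_of_etale q₀ hqe _ O.isOpen,
    (IsAffineOpen.isCompact hO).image (Points.continuous_ofPt q₀), ⟨v, hvO, rfl⟩⟩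

/-- Quasi-compactness descends along a universally open surjective base change. -/
theorem isQuasiCompactMor_of_univOpen_surjective_base_change {X Y Y' X' : Sp S}
    (hX : IsAlgSpace X) (hY : IsAlgSpace Y) (hY' : IsAlgSpace Y')
    {f : X ⟶ Y} {g : Y' ⟶ Y} {fst : X' ⟶ X} {f' : X' ⟶ Y'} (sq : IsPullback fst f' f g)
    (hg : IsUnivOpenMor g) (hgs : IsSurjectiveMor g) (hf' : IsQuasiCompactMor f') :
    IsQuasiCompactMor f := by
  intro Z XZ hZ hZqc z fstZ sndZ sqZ
  have sq₁ : IsPullback (pullback.fst z g) (pullback.snd z g) z g := IsPullback.of_hasPullback _ _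
  set π := pullback.fst z g
  set τ := pullback.snd z g
  have hZ₁ : IsAlgSpace (pullback z g) := isAlgSpace_of_isPullback hY.diag hZ hY' sq₁
  have hπo : IsOpenMor π := hg hZ z τ π sq₁.flip
  have hπs : IsSurjectiveMor π := isSurjectiveMor_of_isPullback sq₁.flip hgs
  haveI := compactSpace_points_of_isQuasiCompactSp hZqc
  -- a quasi-compact open of `Z₁` mapping onto `Z`
  obtain ⟨V, hVo, hVc, hVsurj⟩ : ∃ V : Set (Points (pullback z g)), IsOpen V ∧ IsCompact V ∧
      ∀ y : Points Z, ∃ v ∈ V, Points.map π v = y := by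
    choose Vx hVxo hVxc hxVx using fun x => exists_isOpen_isCompact_mem hZ₁ x
    obtain ⟨t, ht⟩ := isCompact_univ.elim_finite_subcover (fun x => Points.map π '' Vx x)
      (fun x => hπo _ (hVxo x)) (by
        intro y _
        obtain ⟨x, rfl⟩ := hπs y
        exact Set.mem_iUnion.2 ⟨x, ⟨x, hxVx x, rfl⟩⟩)
    refine ⟨⋃ x ∈ t, Vx x, isOpen_biUnion (fun x _ => hVxo x),
      t.isCompact_biUnion (fun x _ => hVxc x), fun y => ?_⟩
    have hy := ht (Set.mem_univ y)
    simp only [Set.mem_iUnion] at hy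
    obtain ⟨x, hxt, v, hv, rfl⟩ := hy
    exact ⟨v, Set.mem_iUnion₂.2 ⟨x, hxt, hv⟩, rfl⟩
  obtain ⟨V₀, q₀, hqe, hqs⟩ := hZ₁.atlas
  obtain ⟨U', a, hae, hU', hrange⟩ := exists_compact_chart_of_isCompact_isOpen q₀ hqe hqs V hVo hVc
  have sqQ : IsPullback (pullback.fst sndZ (a ≫ π)) (pullback.snd sndZ (a ≫ π)) sndZ (a ≫ π) :=
    IsPullback.of_hasPullback _ _
  set qfst := pullback.fst sndZ (a ≫ π)
  set qsnd := pullback.snd sndZ (a ≫ π)
  have big := sqQ.paste_horiz sqZ
  have hw : (qfst ≫ fstZ) ≫ f = (qsnd ≫ a ≫ τ) ≫ g := by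
    rw [big.w]
    simp only [Category.assoc]
    rw [sq₁.w]
  have hl1 := sq.lift_fst _ _ hw
  have hl2 := sq.lift_snd _ _ hw
  have big' : IsPullback (sq.lift _ _ hw ≫ fst) qsnd f ((a ≫ τ) ≫ g) := by
    rw [hl1]
    have e : (a ≫ τ) ≫ g = (a ≫ π) ≫ z := by
      simp only [Category.assoc]; rw [sq₁.w]
    rw [e]; exact big
  have left := IsPullback.of_right big' hl2 sq
  have hU'qc : IsQuasiCompactSp ((yon S).obj U') := (isQuasiCompactSp_yon_iff U').2 hU'
  have hQ : IsQuasiCompactSp (pullback sndZ (a ≫ π)) :=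
    hf' (IsAlgSpace.yon_obj U') hU'qc (a ≫ τ) _ _ left
  have hsurj : IsSurjectiveMor (a ≫ π) := by
    intro y
    obtain ⟨v, hv, rfl⟩ := hVsurj y
    rw [← hrange] at hv
    obtain ⟨u, rfl⟩ := hv
    refine ⟨Points.ofScheme U' u, ?_⟩
    rw [Points.map_comp, ← Points.ofPt_eq_map_ofScheme]
  have hqfst : IsSurjectiveMor qfst := isSurjectiveMor_of_isPullback sqQ.flip hsurj
  have hXZ : IsAlgSpace XZ := isAlgSpace_of_isPullback hY.diag hX hZ sqZ
  haveI := compactSpace_points_of_isQuasiCompactSp hQ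
  haveI : CompactSpace (Points XZ) :=
    (show Function.Surjective (Points.map qfst) from hqfst).compactSpace (Points.continuous_map _)
  exact isQuasiCompactSp_of_compactSpace_points hXZ

end Groth.Agent.Helper15
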