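import Groth.Agent.Lib.Helper15.AlgSpTop
import Mathlib.AlgebraicGeometry.Morphisms.UniversallyClosed
import Mathlib.AlgebraicGeometry.Morphisms.UniversallyInjective

set_option autoImplicit false
universe u

open CategoryTheory CategoryTheory.Limits AlgebraicGeometry Opposite

namespace Groth.Agent.Helper15

open AlgSp

variable {S : Scheme.{u}}

/-- If every base change of a representable `f` to an algebraic space has `Q`, and `Q` of `h_φ`
implies `P φ.left`, then `f` is representable with `P` universally. -/
theorem repWith_universally_of_univSp {X Y : Sp S} (f : X ⟶ Y) (hrep : Representable f)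
    (P : MorphismProperty Scheme.{u}) [P.RespectsIso] (Q : MorphismProperty (Sp S))
    (hPQ : ∀ {T T' : Over S} (φ : T ⟶ T'), Q ((yon S).map φ) → P φ.left)
    (h : UnivSp Q f) : RepWith P.universally f := by
  refine ⟨hrep, fun T V g fst snd sq => ?_⟩
  change P.universally snd.left
  apply MorphismProperty.universally_mk'
  intro T' g' _
  let T'' : Over S := Over.mk (g' ≫ T.hom)
  let ι : T'' ⟶ T := Over.homMk g'
  have sqW : IsPullback (pullback.fst ι snd) (pullback.snd ι snd) ι snd :=
    IsPullback.of_hasPullback _ _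
  have big := (sqW.map (yon S)).flip.paste_horiz sq
  have hQ : Q ((yon S).map (pullback.fst ι snd)) :=
    h (IsAlgSpace.yon_obj T'') ((yon S).map ι ≫ g) _ _ big
  have hP : P (pullback.fst ι snd).left := hPQ _ hQ
  have sqL := sqW.map (Over.forget S)
  have e := sqL.isoPullback_hom_fst
  have hP' : P (sqL.isoPullback.hom ≫
      pullback.fst ((Over.forget S).map ι) ((Over.forget S).map snd)) := by
    rw [e]; exact hP
  exact (P.cancel_left_of_respectsIso _ _).1 hP'

/-- The map on points of `h_φ` is an open map iff `φ` is. -/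
theorem isOpenMap_of_isOpenMor_yon_map {T T' : Over S} (φ : T ⟶ T')
    (h : IsOpenMor ((yon S).map φ)) : IsOpenMap φ.left := by
  change IsOpenMap (Points.map ((yon S).map φ)) at h
  rw [Points.map_yon_map_eq] at h
  have h2 := ((Points.schemeHomeo T').symm.isOpenMap.comp h).comp (Points.schemeHomeo T).isOpenMap
  convert h2 using 1
  ext t
  simp

theorem isClosedMap_of_isClosedMor_yon_map {T T' : Over S} (φ : T ⟶ T')
    (h : IsClosedMor ((yon S).map φ)) : IsClosedMap φ.left := by
  change IsClosedMap (Points.map ((yon S).map φ)) at h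
  rw [Points.map_yon_map_eq] at h
  have h2 := ((Points.schemeHomeo T').symm.isClosedMap.comp h).comp
    (Points.schemeHomeo T).isClosedMap
  convert h2 using 1
  ext t
  simp

theorem injective_of_points_map_yon_map {T T' : Over S} (φ : T ⟶ T')
    (h : Function.Injective (Points.map ((yon S).map φ))) : Function.Injective φ.left := by
  rw [Points.map_yon_map_eq] at h
  have h2 := ((Points.schemeHomeo T').symm.injective.comp h).comp (Points.schemeHomeo T).injective
  convert h2 using 1
  ext t
  simp

/-- the key identity: for the base change `W' ⟶ W` of `f` along a chart `q`, the image under `f` of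
the point `fst w'` is `q (snd w')`. -/
theorem map_ofPt_fst_eq {X Y : Sp S} {f : X ⟶ Y} {W W' : Over S} {q : (yon S).obj W ⟶ Y}
    {fst : (yon S).obj W' ⟶ X} {snd : W' ⟶ W} (sq : IsPullback fst ((yon S).map snd) f q)
    (w' : W'.left) : Points.map f (Points.ofPt fst w') = Points.ofPt q (snd.left w') := by
  rw [Points.map_ofPt, sq.w, ofPt_comp_yon_map]

/-- A map representable by open maps, to a sheaf with an etale surjective chart, is open on
points. -/
theorem isOpenMor_of_repWith {X Y : Sp S} (f : X ⟶ Y) {P : MorphismProperty Scheme.{u}}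
    (hP : ∀ {A B : Scheme.{u}} (φ : A ⟶ B), P φ → IsOpenMap φ) (hf : RepWith P f)
    {W : Over S} (q : (yon S).obj W ⟶ Y) (hqe : RepWith @Etale q)
    (hqs : RepWith @Surjective q) : IsOpenMor f := by
  have hrep := hf.rep
  have sq := hrep.isPullback q
  have hfs : RepWith @Surjective (hrep.fst q) := (RepWith @Surjective).of_isPullback sq.flip hqs
  have hsurj := surjective_ofPt _ hfs
  intro O hO
  have : Points.map f '' O =
      Points.ofPt q '' ((hrep.snd q).left '' (Points.ofPt (hrep.fst q) ⁻¹' O)) := by
    ext y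
    constructor
    · rintro ⟨x, hx, rfl⟩
      obtain ⟨w', rfl⟩ := hsurj x
      exact ⟨_, ⟨w', hx, rfl⟩, (map_ofPt_fst_eq sq w').symm⟩
    · rintro ⟨_, ⟨w', hw', rfl⟩, rfl⟩
      exact ⟨_, hw', map_ofPt_fst_eq sq w'⟩
  rw [this]
  exact isOpenMap_ofPt_of_etale q hqe _
    (hP _ (hf.property_snd q) _ (hO.preimage (Points.continuous_ofPt _)))

/-- A map representable by closed maps, to a sheaf with an etale surjective chart, is closed on
points. -/
theorem isClosedMor_of_repWith {X Y : Sp S} (f : X ⟶ Y) {P : MorphismProperty Scheme.{u}}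
    (hP : ∀ {A B : Scheme.{u}} (φ : A ⟶ B), P φ → IsClosedMap φ) (hf : RepWith P f)
    {W : Over S} (q : (yon S).obj W ⟶ Y) (hqe : RepWith @Etale q)
    (hqs : RepWith @Surjective q) : IsClosedMor f := by
  have hrep := hf.rep
  have sq := hrep.isPullback q
  have hquot : Topology.IsQuotientMap (Points.ofPt q) :=
    (isOpenMap_ofPt_of_etale q hqe).isQuotientMap (Points.continuous_ofPt q)
      (surjective_ofPt q hqs)
  intro C hC
  rw [← hquot.isClosed_preimage]
  have : Points.ofPt q ⁻¹' (Points.map f '' C) =
      (hrep.snd q).left '' (Points.ofPt (hrep.fst q) ⁻¹' C) := by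
    ext w
    constructor
    · rintro ⟨x, hx, hxw⟩
      rw [Points.ofPt_eq_map_ofScheme q w] at hxw
      obtain ⟨p, hp1, hp2⟩ := exists_point_of_isPullback sq x _ hxw
      obtain ⟨w', rfl⟩ := (Points.schemeEquiv _).surjective p
      change Points.map _ (Points.ofScheme _ w') = _ at hp1
      change Points.map _ (Points.ofScheme _ w') = _ at hp2
      rw [← Points.ofPt_eq_map_ofScheme] at hp1 hp2
      rw [ofPt_yon_map] at hp2
      refine ⟨w', ?_, (Points.schemeEquiv W).injective hp2⟩
      change Points.ofPt _ w' ∈ C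
      rw [hp1]; exact hx
    · rintro ⟨w', hw', rfl⟩
      exact ⟨_, hw', map_ofPt_fst_eq sq w'⟩
  rw [this]
  exact hP _ (hf.property_snd q) _ (hC.preimage (Points.continuous_ofPt _))

/-- Representable universally open maps of algebraic spaces are universally open. -/
theorem isUnivOpenMor_of_repWith {X Y : Sp S} (f : X ⟶ Y)
    (hf : RepWith @UniversallyOpen f) : IsUnivOpenMor f := by
  intro Z Z' hZ g fst snd sq
  obtain ⟨W, q, hqe, hqs⟩ := hZ.atlas
  exact isOpenMor_of_repWith snd (P := @UniversallyOpen)
    (fun φ hφ => by haveI : UniversallyOpen φ := hφ; exact φ.isOpenMap)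
    ((RepWith @UniversallyOpen).of_isPullback sq hf) q hqe hqs

theorem isUnivClosedMor_of_repWith {X Y : Sp S} (f : X ⟶ Y)
    (hf : RepWith @UniversallyClosed f) : IsUnivClosedMor f := by
  intro Z Z' hZ g fst snd sq
  obtain ⟨W, q, hqe, hqs⟩ := hZ.atlas
  exact isClosedMor_of_repWith snd (P := @UniversallyClosed)
    (fun φ hφ => by haveI : UniversallyClosed φ := hφ; exact φ.isClosedMap)
    ((RepWith @UniversallyClosed).of_isPullback sq hf) q hqe hqs

theorem repWith_universallyOpen_iff {X Y : Sp S} (f : X ⟶ Y) (hrep : Representable f) :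
    RepWith @UniversallyOpen f ↔ IsUnivOpenMor f := by
  refine ⟨isUnivOpenMor_of_repWith f, fun h => ?_⟩
  rw [UniversallyOpen.eq]
  exact repWith_universally_of_univSp f hrep _ IsOpenMor
    (fun φ hφ => isOpenMap_of_isOpenMor_yon_map φ hφ) h

theorem repWith_universallyClosed_iff {X Y : Sp S} (f : X ⟶ Y) (hrep : Representable f) :
    RepWith @UniversallyClosed f ↔ IsUnivClosedMor f := by
  refine ⟨isUnivClosedMor_of_repWith f, fun h => ?_⟩
  rw [universallyClosed_eq]
  exact repWith_universally_of_univSp f hrep _ IsClosedMor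
    (fun φ hφ => isClosedMap_of_isClosedMor_yon_map φ hφ) h

/-- Base changing a represented pullback square along a morphism of schemes `g' : T' ⟶ T.left`. -/
theorem exists_over_pullback {X Y : Sp S} {f : X ⟶ Y} {T V : Over S} {g : (yon S).obj T ⟶ Y}
    {fst : (yon S).obj V ⟶ X} {snd : V ⟶ T} (sq : IsPullback fst ((yon S).map snd) f g)
    {T' : Scheme.{u}} (g' : T' ⟶ T.left) :
    ∃ (W : Over S) (p₁ : W ⟶ V) (p₂ : W ⟶ Over.mk (g' ≫ T.hom)),
      IsPullback ((yon S).map p₁ ≫ fst) ((yon S).map p₂) f
        ((yon S).map (Over.homMk g' : Over.mk (g' ≫ T.hom) ⟶ T) ≫ g) ∧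
      IsPullback p₁.left p₂.left snd.left g' := by
  let ι : Over.mk (g' ≫ T.hom) ⟶ T := Over.homMk g'
  have sqW : IsPullback (pullback.fst snd ι) (pullback.snd snd ι) snd ι :=
    IsPullback.of_hasPullback _ _
  exact ⟨_, _, _, (sqW.map (yon S)).paste_horiz sq, sqW.map (Over.forget S)⟩

theorem isQuasiCompactSp_yon_iff (T : Over S) :
    IsQuasiCompactSp ((yon S).obj T) ↔ CompactSpace T.left := by
  constructor
  · intro h
    haveI := compactSpace_points_of_isQuasiCompactSp h
    exact (Points.schemeHomeo T).symm.compactSpace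
  · intro h
    exact ⟨T, 𝟙 _, repWith_id _ T, repWith_id _ T, h⟩

/-- A sheaf with a representable quasi-compact map to a quasi-compact sheaf is quasi-compact. -/
theorem isQuasiCompactSp_of_repWith_quasiCompact {Z' Z : Sp S} (snd : Z' ⟶ Z)
    (hsnd : RepWith @QuasiCompact snd) (hZ : IsQuasiCompactSp Z) : IsQuasiCompactSp Z' := by
  obtain ⟨W, p, hpe, hps, hW⟩ := hZ
  have hrep := hsnd.rep
  have sq := hrep.isPullback p
  haveI : CompactSpace W.left := hW
  haveI : QuasiCompact (hrep.snd p).left := hsnd.property_snd p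
  exact ⟨hrep.pullback p, hrep.fst p, (RepWith @Etale).of_isPullback sq.flip hpe,
    (RepWith @Surjective).of_isPullback sq.flip hps,
    QuasiCompact.compactSpace_of_compactSpace (hrep.snd p).left⟩

theorem isQuasiCompactMor_of_repWith {X Y : Sp S} (f : X ⟶ Y) (hf : RepWith @QuasiCompact f) :
    IsQuasiCompactMor f := by
  intro Z Z' _ hZ g fst snd sq
  exact isQuasiCompactSp_of_repWith_quasiCompact snd
    ((RepWith @QuasiCompact).of_isPullback sq hf) hZ

theorem repWith_quasiCompact_of_isQuasiCompactMor {X Y : Sp S} (f : X ⟶ Y)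
    (hrep : Representable f) (hf : IsQuasiCompactMor f) : RepWith @QuasiCompact f := by
  refine ⟨hrep, fun T V g fst snd sq => ?_⟩
  change QuasiCompact snd.left
  rw [HasAffineProperty.iff_of_openCover (P := @QuasiCompact) T.left.affineCover]
  intro i
  obtain ⟨W, p₁, p₂, sqW, sqL⟩ := exists_over_pullback sq (T.left.affineCover.f i)
  have hT'' : IsQuasiCompactSp
      ((yon S).obj (Over.mk (T.left.affineCover.f i ≫ T.hom))) := by
    rw [isQuasiCompactSp_yon_iff]
    change CompactSpace (T.left.affineCover.X i)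
    infer_instance
  have hW : IsQuasiCompactSp ((yon S).obj W) :=
    hf (IsAlgSpace.yon_obj _) hT'' _ _ _ sqW
  rw [isQuasiCompactSp_yon_iff] at hW
  haveI : CompactSpace W.left := hW
  exact (Scheme.homeoOfIso sqL.isoPullback).compactSpace

theorem repWith_quasiCompact_iff {X Y : Sp S} (f : X ⟶ Y) (hrep : Representable f) :
    RepWith @QuasiCompact f ↔ IsQuasiCompactMor f :=
  ⟨isQuasiCompactMor_of_repWith f, repWith_quasiCompact_of_isQuasiCompactMor f hrep⟩

end Groth.Agent.Helper15
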