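import Groth.Agent.Lib.Helper15.AlgSpProper2
import Mathlib.AlgebraicGeometry.Morphisms.FlatMono

/-!
# Unramified and etale morphisms of algebraic spaces
-/

set_option autoImplicit false
universe u
open CategoryTheory CategoryTheory.Limits AlgebraicGeometry MorphismProperty Opposite
open AlgSp

namespace Groth.Agent.Helper15

variable {S : Scheme.{u}}

theorem etale_inf_mono_le_isOpenImmersion :
    (@Etale ⊓ monomorphisms Scheme.{u} : MorphismProperty Scheme.{u}) ≤ @IsOpenImmersion := by
  rintro A B φ ⟨h1, h2⟩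
  haveI : Etale φ := h1
  haveI : Mono φ := h2
  exact IsOpenImmersion.of_flat_of_mono φ

/-- A representable etale monomorphism is an open immersion. -/
theorem repWith_isOpenImmersion_of_etale_mono {F G : Sp S} (f : F ⟶ G) (hf : RepWith @Etale f)
    [Mono f] : RepWith @IsOpenImmersion f :=
  repWith_mono etale_inf_mono_le_isOpenImmersion
    (repWith_inf hf (repWith_monomorphisms_of_mono f hf.rep))

theorem lft_unramified_le_diagonal_isOpenImmersion :
    (@LocallyOfFiniteType ⊓ @FormallyUnramified : MorphismProperty Scheme.{u}) ≤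
      MorphismProperty.diagonal (@IsOpenImmersion : MorphismProperty Scheme.{u}) := by
  rintro A B φ ⟨h1, h2⟩
  haveI : LocallyOfFiniteType φ := h1
  haveI : FormallyUnramified φ := h2
  exact (inferInstance : IsOpenImmersion (pullback.diagonal φ))

theorem lft_unramified_le_diagonal_etale :
    (@LocallyOfFiniteType ⊓ @FormallyUnramified : MorphismProperty Scheme.{u}) ≤
      MorphismProperty.diagonal (@Etale : MorphismProperty Scheme.{u}) := by
  rintro A B φ ⟨h1, h2⟩
  haveI : LocallyOfFiniteType φ := h1
  haveI : FormallyUnramified φ := h2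
  exact (inferInstance : Etale (pullback.diagonal φ))

theorem etale_le_lft_unramified :
    (@Etale : MorphismProperty Scheme.{u}) ≤
      (@LocallyOfFiniteType ⊓ @FormallyUnramified : MorphismProperty Scheme.{u}) :=
  goodP_lft_unramified.etale_le

set_option backward.isDefEq.respectTransparency false in
/-- S10262 (1): the diagonal of an unramified morphism is an open immersion. -/
theorem repWith_isOpenImmersion_diagonal_of_locP_unramified {X Y : Sp S} (hX : IsAlgSpace X)
    (hY : IsAlgSpace Y) (f : X ⟶ Y)
    (hf : LocP (@LocallyOfFiniteType ⊓ @FormallyUnramified) f) :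
    RepWith @IsOpenImmersion (pullback.diagonal f) := by
  obtain ⟨V, p, hpe, hps⟩ := hY.atlas
  obtain ⟨U, q, h₀, hqe, hqs, comm⟩ := exists_chart_lift hX f p hpe hps
  have hh₀ : (@LocallyOfFiniteType ⊓ @FormallyUnramified : MorphismProperty Scheme.{u}) h₀.left :=
    hf q p h₀ hqe hpe comm
  have hc : RepWith (@LocallyOfFiniteType ⊓ @FormallyUnramified) (q ≫ f) := by
    rw [comm]
    exact (RepWith (@LocallyOfFiniteType ⊓ @FormallyUnramified)).comp_mem _ _
      ((repWith_yon_map_iff _ h₀).2 hh₀) (repWith_mono etale_le_lft_unramified hpe)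
  have sqc : IsPullback (pullback.fst (q ≫ f) (q ≫ f)) (pullback.snd (q ≫ f) (q ≫ f)) (q ≫ f)
      (q ≫ f) := IsPullback.of_hasPullback _ _
  have hW : IsAlgSpace (pullback (q ≫ f) (q ≫ f)) :=
    isAlgSpace_of_isPullback hY.diag (IsAlgSpace.yon_obj U) (IsAlgSpace.yon_obj U) sqc
  have hb : RepWith (@LocallyOfFiniteType ⊓ @FormallyUnramified) (pullback.fst (q ≫ f) (q ≫ f)) :=
    (RepWith _).of_isPullback sqc.flip hc
  have hΔb : RepWith @Etale (pullback.diagonal (pullback.fst (q ≫ f) (q ≫ f))) :=
    (repWith_diagonal_iff_of_representable _ hW (IsAlgSpace.yon_obj U) _ hb.rep).2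
      (repWith_mono lft_unramified_le_diagonal_etale hb)
  have hab : RepWith @Etale (pullback.mapDesc q q f ≫ pullback.fst (q ≫ f) (q ≫ f)) := by
    have : pullback.mapDesc q q f ≫ pullback.fst (q ≫ f) (q ≫ f) = pullback.fst q q := by
      simp [pullback.mapDesc]
    rw [this]
    exact (RepWith @Etale).of_isPullback (IsPullback.of_hasPullback q q).flip hqe
  have ha : RepWith @Etale (pullback.mapDesc q q f) :=
    repWith_of_comp_of_diagonal _ _ hab hΔb
  have ha' : RepWith @IsOpenImmersion (pullback.mapDesc q q f) :=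
    repWith_isOpenImmersion_of_etale_mono _ ha
  have sqD := pullback_map_diagonal_isPullback q q f
  have hee := repWith_pullback_map_of_repWith f q hqe
  have hes := repWith_pullback_map_of_repWith f q hqs
  haveI := isLocallySurjective_of_etale_surjective _ hee hes
  exact repWith_of_isLocallySurjective_base (pullback.diagonal f)
    (diagonal_properties hX f).1 _ _ _ sqD _ ha'

/-- The diagonal of a representable etale morphism from a scheme is an open immersion. -/
theorem repWith_isOpenImmersion_diagonal_of_etale {X : Sp S} (hX : IsAlgSpace X) {U : Over S}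
    (a : (yon S).obj U ⟶ X) (ha : RepWith @Etale a) :
    RepWith @IsOpenImmersion (pullback.diagonal a) :=
  (repWith_diagonal_iff_of_representable _ (IsAlgSpace.yon_obj U) hX a ha.rep).2
    (repWith_mono (etale_le_lft_unramified.trans lft_unramified_le_diagonal_isOpenImmersion) ha)

/-- S10262 (2). -/
theorem locP_unramified_of_diagonal {X Y : Sp S} (hX : IsAlgSpace X) (f : X ⟶ Y)
    (hlft : LocP @LocallyOfFiniteType f)
    (hd : RepWith @IsOpenImmersion (pullback.diagonal f)) :
    LocP (@LocallyOfFiniteType ⊓ @FormallyUnramified) f := by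
  intro U V a b φ ha hb comm
  refine ⟨hlft a b φ ha hb comm, ?_⟩
  have h1 : (RepWith @IsOpenImmersion).diagonal a :=
    repWith_isOpenImmersion_diagonal_of_etale hX a ha
  have h2 : (RepWith @IsOpenImmersion).diagonal (a ≫ f) :=
    (RepWith @IsOpenImmersion).diagonal.comp_mem _ _ h1 hd
  rw [comm] at h2
  have h3 : RepWith @IsOpenImmersion (pullback.diagonal ((yon S).map φ)) :=
    isSeparatedMor_of_comp _ b h2
  have h4 : IsOpenImmersion (pullback.diagonal φ.left) :=
    (repWith_diagonal_yon_map_iff _ φ).1 h3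
  infer_instance

theorem locP_precomp_etale {P : MorphismProperty Scheme.{u}} {X Y : Sp S} (f : X ⟶ Y)
    (hf : LocP P f) {U : Over S} (φ : (yon S).obj U ⟶ X) (hφ : RepWith @Etale φ) :
    LocP P (φ ≫ f) := by
  intro U' V a b ψ ha hb comm
  exact hf (a ≫ φ) b ψ ((RepWith @Etale).comp_mem _ _ ha hφ) hb (by rw [Category.assoc, comm])

/-- S10266. -/
theorem isEtaleMor_of_locP_etale {X Y : Sp S} (hY : IsAlgSpace Y) (f : X ⟶ Y)
    (hf : LocP @Etale f) : IsEtaleMor f := by
  intro U φ hφ
  exact repWith_of_locP goodP_etale hY _ (hY.representable_from_yon _) (locP_precomp_etale f hf φ hφ)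

theorem isEtaleMor_of_lfp_flat_unramified {X Y : Sp S} (hY : IsAlgSpace Y) (f : X ⟶ Y)
    (h1 : LocP @LocallyOfFinitePresentation f) (h2 : LocP @Flat f)
    (h3 : LocP (@LocallyOfFiniteType ⊓ @FormallyUnramified) f) : IsEtaleMor f := by
  refine isEtaleMor_of_locP_etale hY f ?_
  intro U V a b φ ha hb comm
  haveI : LocallyOfFinitePresentation φ.left := h1 a b φ ha hb comm
  haveI : Flat φ.left := h2 a b φ ha hb comm
  haveI : FormallyUnramified φ.left := (h3 a b φ ha hb comm).2
  exact Etale.of_formallyUnramified_of_flat _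

end Groth.Agent.Helper15

namespace Groth.Agent.Helper15

variable {S : Scheme.{u}}

theorem isOpenImmersion_le_etale :
    (@IsOpenImmersion : MorphismProperty Scheme.{u}) ≤ @Etale :=
  fun _ _ f hf => by haveI : IsOpenImmersion f := hf; infer_instance

theorem isOpenImmersion_le_mono :
    (@IsOpenImmersion : MorphismProperty Scheme.{u}) ≤ MorphismProperty.monomorphisms Scheme.{u} :=
  fun _ _ f hf => by
    haveI : IsOpenImmersion f := hf
    exact (inferInstance : Mono f)

/-- A representable surjective open immersion of sheaves is an isomorphism. -/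
theorem isIso_of_repWith_isOpenImmersion_surjective {F G : Sp S} (g : F ⟶ G)
    (h1 : RepWith @IsOpenImmersion g) (h2 : RepWith @Surjective g) : IsIso g := by
  haveI : Mono g := mono_of_repWith isOpenImmersion_le_mono g h1
  haveI := isLocallySurjective_of_etale_surjective g (repWith_mono isOpenImmersion_le_etale h1) h2
  haveI : Epi g := Sheaf.epi_of_isLocallySurjective g
  exact isIso_of_mono_of_epi g

/-- An etale universally injective morphism has an isomorphism as diagonal, i.e. is a
monomorphism. -/
theorem mono_of_openImmersion_diagonal_of_univInjective {X Y : Sp S} (hX : IsAlgSpace X)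
    (f : X ⟶ Y) (hd : RepWith @IsOpenImmersion (pullback.diagonal f))
    (hinj : IsUnivInjectiveMor f) : Mono f := by
  have hs : IsSurjectiveMor (pullback.diagonal f) :=
    (injOnFieldPts_of_isUnivInjectiveMor hX.diag hinj).isSurjectiveMor_diagonal
  have hs' : RepWith @Surjective (pullback.diagonal f) :=
    repWith_surjective_of_isSurjectiveMor _ hd.rep hs
  haveI := isIso_of_repWith_isOpenImmersion_surjective _ hd hs'
  exact (pullback.isIso_diagonal_iff f).1 inferInstance

/-- `IsEtaleMor` implies `LocP @Etale` (target an algebraic space). -/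
theorem locP_etale_of_isEtaleMor {X Y : Sp S} (hY : IsAlgSpace Y) (f : X ⟶ Y)
    (hf : IsEtaleMor f) : LocP @Etale f := by
  intro U V a b φ ha hb comm
  have h1 : RepWith @Etale (a ≫ f) := hf a ha
  rw [comm] at h1
  have hΔb : RepWith @Etale (pullback.diagonal b) :=
    repWith_mono isOpenImmersion_le_etale (repWith_isOpenImmersion_diagonal_of_etale hY b hb)
  exact (repWith_yon_map_iff _ φ).1 (repWith_of_comp_of_diagonal _ b h1 hΔb)

/-- A monomorphism of sheaves from an algebraic space, whose composite with an etale surjective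
chart is representable etale, is representable by open immersions. -/
theorem repWith_isOpenImmersion_of_mono_of_chart {X Y : Sp S} (f : X ⟶ Y) [Mono f] {U : Over S}
    (q : (yon S).obj U ⟶ X) (hqe : RepWith @Etale q) (hqs : RepWith @Surjective q)
    (hc : RepWith @Etale (q ≫ f)) : RepWith @IsOpenImmersion f := by
  have key : ∀ (T : Over S) (t : (yon S).obj T ⟶ Y), ∃ (T₀ : Over S) (j : T₀ ⟶ T)
      (fst : (yon S).obj T₀ ⟶ X), IsOpenImmersion j.left ∧ IsPullback fst ((yon S).map j) f t := by
    intro T t
    have hrep := hc.rep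
    have sqW := hrep.isPullback' t
    set w₁ := hrep.fst' t
    set w₂ := hrep.snd t
    have hw₂ : Etale w₂.left := hc.property_snd t
    let T₀ : T.left.Opens := ⟨Set.range w₂.left, w₂.left.isOpenMap.isOpen_range⟩
    let T₀' : Over S := Over.mk (T₀.ι ≫ T.hom)
    let j : T₀' ⟶ T := Over.homMk T₀.ι rfl
    have hj : IsOpenImmersion j.left := (inferInstance : IsOpenImmersion T₀.ι)
    have hrange : Set.range w₂.left ⊆ Set.range T₀.ι := by
      rw [Scheme.Opens.range_ι]; exact fun x hx => hx
    let w₀l : (hrep.pullback t).left ⟶ T₀'.left := IsOpenImmersion.lift T₀.ι w₂.left hrange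
    have hw₀l : w₀l ≫ T₀.ι = w₂.left := IsOpenImmersion.lift_fac _ _ _
    let w₀ : hrep.pullback t ⟶ T₀' := Over.homMk w₀l (by
      change w₀l ≫ T₀.ι ≫ T.hom = _
      rw [← Category.assoc, hw₀l]; exact Over.w w₂)
    have hw₀ : w₀ ≫ j = w₂ := by
      ext1; exact hw₀l
    have hw₀e : Etale w₀.left := by
      haveI : Etale (w₀l ≫ T₀.ι) := by rw [hw₀l]; exact hw₂
      exact MorphismProperty.of_postcomp (W := @Etale) (W' := @Etale) w₀l T₀.ι inferInstance
        inferInstance
    have hw₀s : Surjective w₀.left := by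
      refine ⟨fun y => ?_⟩
      obtain ⟨x, hx⟩ : (T₀.ι y) ∈ Set.range w₂.left := y.2
      refine ⟨x, ?_⟩
      apply T₀.ι.injective
      rw [← hx, ← hw₀l]
      rfl
    -- the pullback of `f` along `t`
    have sqP : IsPullback (pullback.fst f t) (pullback.snd f t) f t := IsPullback.of_hasPullback _ _
    set p₁ := pullback.fst f t
    set p₂ := pullback.snd f t
    have hgw : ((yon S).map w₁ ≫ q) ≫ f = (yon S).map w₂ ≫ t := by
      rw [Category.assoc]; exact sqW.w
    let g : (yon S).obj (hrep.pullback t) ⟶ pullback f t :=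
      sqP.lift ((yon S).map w₁ ≫ q) ((yon S).map w₂) hgw
    have hg₁ : g ≫ p₁ = (yon S).map w₁ ≫ q := sqP.lift_fst _ _ _
    have hg₂ : g ≫ p₂ = (yon S).map w₂ := sqP.lift_snd _ _ _
    have sqg : IsPullback ((yon S).map w₁) g q p₁ := by
      refine IsPullback.of_bot ?_ hg₁.symm sqP
      rw [hg₂]
      exact sqW
    have hge : RepWith @Etale g := (RepWith @Etale).of_isPullback sqg hqe
    have hgs : RepWith @Surjective g := (RepWith @Surjective).of_isPullback sqg hqs
    haveI hgl := isLocallySurjective_of_etale_surjective g hge hgs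
    haveI hw₀ls := isLocallySurjective_of_etale_surjective ((yon S).map w₀)
      ((repWith_yon_map_iff _ w₀).2 hw₀e) ((repWith_yon_map_iff _ w₀).2 hw₀s)
    -- `P₀ = P ×_{h_T} h_{T₀}`
    have sq₀ : IsPullback (pullback.fst p₂ ((yon S).map j)) (pullback.snd p₂ ((yon S).map j)) p₂
        ((yon S).map j) := IsPullback.of_hasPullback _ _
    set a := pullback.fst p₂ ((yon S).map j)
    set b := pullback.snd p₂ ((yon S).map j)
    haveI : Mono p₂ := by
      change Mono (pullback.snd f t); infer_instance
    haveI : Mono ((yon S).map j) :=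
      mono_of_repWith isOpenImmersion_le_mono _ ((repWith_yon_map_iff _ j).2 hj)
    haveI : Mono a := by
      change Mono (pullback.fst p₂ ((yon S).map j)); infer_instance
    haveI : Mono b := by
      change Mono (pullback.snd p₂ ((yon S).map j)); infer_instance
    have hĝ : g ≫ p₂ = (yon S).map w₀ ≫ (yon S).map j := by
      rw [hg₂, ← Functor.map_comp, hw₀]
    let ĝ := sq₀.lift g ((yon S).map w₀) hĝ
    have hĝa : ĝ ≫ a = g := sq₀.lift_fst _ _ _
    have hĝb : ĝ ≫ b = (yon S).map w₀ := sq₀.lift_snd _ _ _
    haveI : Sheaf.IsLocallySurjective a :=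
      Presheaf.isLocallySurjective_of_isLocallySurjective_fac (J S) (f₁ := ĝ.hom) (f₂ := a.hom)
        (f₃ := g.hom) (by rw [← hĝa]; rfl)
    haveI : Sheaf.IsLocallySurjective b :=
      Presheaf.isLocallySurjective_of_isLocallySurjective_fac (J S) (f₁ := ĝ.hom) (f₂ := b.hom)
        (f₃ := ((yon S).map w₀).hom) (by rw [← hĝb]; rfl)
    haveI : Epi a := Sheaf.epi_of_isLocallySurjective a
    haveI : Epi b := Sheaf.epi_of_isLocallySurjective b
    haveI : IsIso a := isIso_of_mono_of_epi a
    haveI : IsIso b := isIso_of_mono_of_epi b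
    refine ⟨T₀', j, inv b ≫ a ≫ p₁, hj, ?_⟩
    refine IsPullback.of_iso sqP ((asIso a).symm ≪≫ asIso b) (Iso.refl _) (Iso.refl _)
      (Iso.refl _) ?_ ?_ ?_ ?_
    · simp
    · simp only [Iso.trans_hom, Iso.symm_hom, asIso_hom, asIso_inv, Iso.refl_hom,
        Category.comp_id, Category.assoc]
      rw [IsIso.eq_inv_comp, sq₀.w]
    · simp
    · simp
  refine ⟨fun T t => ?_, fun T V t fst snd sq => ?_⟩
  · obtain ⟨T₀, j, fst, -, sq⟩ := key T t
    exact ⟨T₀, j, fst, sq⟩
  · obtain ⟨T₀, j, fst₀, hj, sq₀⟩ := key T t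
    exact property_congr (P := @IsOpenImmersion) sq₀ sq hj

/-- S10261. -/
theorem repWith_isOpenImmersion_of_isEtaleMor_univInjective {X Y : Sp S} (hX : IsAlgSpace X)
    (hY : IsAlgSpace Y) (f : X ⟶ Y) (het : IsEtaleMor f) (hinj : IsUnivInjectiveMor f) :
    RepWith @IsOpenImmersion f := by
  have hloc : LocP @Etale f := locP_etale_of_isEtaleMor hY f het
  have hloc' : LocP (@LocallyOfFiniteType ⊓ @FormallyUnramified) f :=
    fun U V a b φ ha hb comm => etale_le_lft_unramified _ _ _ (hloc a b φ ha hb comm)
  have hd := repWith_isOpenImmersion_diagonal_of_locP_unramified hX hY f hloc'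
  haveI := mono_of_openImmersion_diagonal_of_univInjective hX f hd hinj
  obtain ⟨U, q, hqe, hqs⟩ := hX.atlas
  exact repWith_isOpenImmersion_of_mono_of_chart f q hqe hqs (het q hqe)

end Groth.Agent.Helper15
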