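import Mathlib
import Groth.Agent.Lib.Helper15.AlgSpLim11
import Groth.Agent.Lib.Helper15.AlgSpQc
import Groth.Agent.Lib.Helper15.AlgSpOpen
import Groth.Agent.Lib.Helper15.AlgSpUniv
import Groth.Agent.Lib.Helper15.AlgSpUnram
import Groth.Agent.Lib.Helper15.AlgSpLocP

set_option autoImplicit false

universe u

open CategoryTheory CategoryTheory.Limits AlgebraicGeometry MorphismProperty Opposite
open AlgSp

namespace Groth.Agent.Helper15.AlgSpLim

variable {S : Scheme.{u}}

/-- Quasi-compact opens of a limit come from a finite stage. -/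
theorem exists_qc_open_descent [QuasiSeparatedSpace ↥S] {I : Type u} [SmallCategory I]
    [IsCofiltered I] (D : I ⥤ Sp S) (hD : ∀ i, IsAlgSpace (D.obj i))
    (hDa : ∀ (i j : I) (φ : i ⟶ j), IsAffineMor (D.map φ))
    (hqc : ∀ i, IsQuasiCompactSp (D.obj i)) (hqs : ∀ i, IsQuasiSeparatedSp (D.obj i))
    (c : Cone D) (hc : IsLimit c)
    (U : Sp S) (j : U ⟶ c.pt) (hj : RepWith @IsOpenImmersion j) (hU : IsQuasiCompactSp U) :
    ∃ (i : I) (Ui : Sp S) (ji : Ui ⟶ D.obj i) (q : U ⟶ Ui),
      RepWith @IsOpenImmersion ji ∧ IsQuasiCompactSp Ui ∧ IsPullback j q (c.π.app i) ji := by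
  have hX : IsAlgSpace c.pt := isAlgSpace_limit D hD hDa c hc
  obtain ⟨i⟩ : Nonempty I := IsCofiltered.nonempty
  obtain ⟨Z, g, hZ, hge, hgs⟩ := exists_affine_chart_of_isQuasiCompactSp (hqc i)
  obtain ⟨C⟩ := nonempty_limChart D hDa c hc i hZ g
  have hre := C.etale_r hge
  have hrs := C.surjective_r hgs
  have : Mono j := mono_of_repWith isOpenImmersion_le_mono _ hj
  -- the open set of points
  let O : Set (Points c.pt) := Set.range (Points.map j)
  have hOopen : IsOpen O := (isOpenMor_of_repWith j (fun φ hφ => by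
    have := hφ
    exact φ.isOpenEmbedding.isOpenMap) hj C.r hre hrs).isOpen_range
  let A : C.cL.pt.left.Opens :=
    ⟨Points.ofPt C.r ⁻¹' O, hOopen.preimage (Points.continuous_ofPt _)⟩
  have hA : IsCompact (A : Set C.cL.pt.left) := by
    let Q := pullback (j ≫ c.π.app i) g
    have : CompactSpace Z.left := inferInstance
    have hQ : IsQuasiCompactSp Q := isQuasiCompactSp_of_isPullback
      (IsPullback.of_hasPullback (j ≫ c.π.app i) g) hU ((isQuasiCompactSp_yon_iff Z).2 this) (hqs i)
    let m : Q ⟶ (yon S).obj C.cL.pt := C.sqL.lift (pullback.fst _ _ ≫ j) (pullback.snd _ _)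
      (by rw [Category.assoc]; exact pullback.condition)
    have hm : IsPullback (pullback.fst (j ≫ c.π.app i) g) m j C.r := by
      refine IsPullback.of_bot ?_ (C.sqL.lift_fst _ _ _).symm C.sqL
      rw [C.sqL.lift_snd]
      exact IsPullback.of_hasPullback _ _
    have := compactSpace_points_of_isQuasiCompactSp hQ
    have hAeq : (A : Set C.cL.pt.left) =
        (Points.schemeHomeo C.cL.pt) ⁻¹' (Set.range (Points.map m)) := by
      ext l
      constructor
      · rintro ⟨u, hu⟩
        rw [Points.ofPt_eq_map_ofScheme] at hu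
        obtain ⟨y, -, hy⟩ := exists_point_of_isPullback hm u _ hu
        exact ⟨y, hy⟩
      · rintro ⟨y, hy⟩
        refine ⟨Points.map (pullback.fst _ _) y, ?_⟩
        rw [← Points.map_comp, hm.w, Points.map_comp, hy, Points.ofPt_eq_map_ofScheme]
        rfl
    rw [hAeq, Homeomorph.isCompact_preimage]
    exact isCompact_range (Points.continuous_map m)
  have haff : ∀ {k l : Over i} (f : k ⟶ l), IsAffineHom ((C.T ⋙ Over.forget S).map f) :=
    fun f => C.isAffineHom_map f
  obtain ⟨k, Vk, hVk, hVkA⟩ := exists_preimage_eq (C.T ⋙ Over.forget S)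
    ((Over.forget S).mapCone C.cL) C.isLimit A hA
  let Vk' : (C.T.obj k).left.Opens := Vk
  have hmemA : ∀ l : C.cL.pt.left, l ∈ A ↔ (C.cL.π.app k).left l ∈ Vk' := fun l => by
    rw [← hVkA]; rfl
  let Ok : Set (Points (D.obj k.left)) := Points.ofPt (C.q k) '' (Vk' : Set (C.T.obj k).left)
  have hOk : IsOpen Ok := isOpenMap_ofPt_of_etale (C.q k) (C.etale_q hge k) _ Vk'.isOpen
  have hOkc : IsCompact Ok := IsCompact.image hVk (Points.continuous_ofPt _)
  have hpre : Points.map (c.π.app k.left) ⁻¹' Ok = O := by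
    ext x'
    constructor
    · rintro ⟨v, hv, hvx'⟩
      obtain ⟨l, rfl, rfl⟩ := C.exists_point k x' v hvx'.symm
      exact (hmemA l).2 hv
    · intro hx'
      obtain ⟨l, rfl⟩ := surjective_ofPt C.r hrs x'
      exact ⟨_, (hmemA l).1 hx', C.ofPt_q_π k l⟩
  obtain ⟨Uk, jk, hUk, hjk, hjkr⟩ := exists_open_subspace_of_isOpen (hD k.left) Ok hOk
  have : Mono jk := mono_of_repWith isOpenImmersion_le_mono _ hjk
  have hUkqc : IsQuasiCompactSp Uk := by
    rw [isQuasiCompactSp_iff_compactSpace_points hUk]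
    have hemb := (isEmbedding_points_of_immersion (hD k.left) jk
      (repWith_mono isOpenImmersion_le_isImmersion hjk)).1
    rw [← isCompact_univ_iff, hemb.isCompact_iff, Set.image_univ, hjkr]
    exact hOkc
  obtain ⟨q, hq⟩ := (factors_through_open_iff jk hjk (j ≫ c.π.app k.left)).2 (by
    rintro _ ⟨u, rfl⟩
    rw [hjkr, Points.map_comp]
    have : Points.map j u ∈ O := ⟨u, rfl⟩
    rw [← hpre] at this
    exact this)
  refine ⟨k.left, Uk, jk, q, hjk, hUkqc, ?_⟩
  let P' := pullback (c.π.app k.left) jk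
  have sqP : IsPullback (pullback.fst (c.π.app k.left) jk) (pullback.snd (c.π.app k.left) jk)
      (c.π.app k.left) jk := IsPullback.of_hasPullback _ _
  have hfst : RepWith @IsOpenImmersion (pullback.fst (c.π.app k.left) jk) :=
    (RepWith @IsOpenImmersion).of_isPullback sqP.flip hjk
  have : Mono (pullback.fst (c.π.app k.left) jk) := mono_of_repWith isOpenImmersion_le_mono _ hfst
  let lift : U ⟶ P' := pullback.lift j q hq.symm
  obtain ⟨b, hb⟩ := (factors_through_open_iff j hj (pullback.fst (c.π.app k.left) jk)).2 (by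
    rintro _ ⟨y, rfl⟩
    change _ ∈ O
    rw [← hpre]
    change Points.map _ (Points.map _ y) ∈ Ok
    rw [← Points.map_comp, sqP.w, Points.map_comp, ← hjkr]
    exact ⟨_, rfl⟩)
  have h1 : lift ≫ b = 𝟙 _ := by
    rw [← cancel_mono j, Category.assoc, hb, pullback.lift_fst, Category.id_comp]
  have h2 : b ≫ lift = 𝟙 _ := by
    rw [← cancel_mono (pullback.fst (c.π.app k.left) jk), Category.assoc, pullback.lift_fst, hb,
      Category.id_comp]
  exact IsPullback.of_iso_pullback ⟨hq.symm⟩ ⟨lift, b, h1, h2⟩ (pullback.lift_fst _ _ _)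
    (pullback.lift_snd _ _ _)

end Groth.Agent.Helper15.AlgSpLim
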