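import Groth.Agent.Lib.Helper15.AlgSpAff
import Groth.Agent.Lib.Helper7.FinPres
import Mathlib.AlgebraicGeometry.Noetherian

/-!
# More on `LocP`: descent along target covers, cancellation, Noetherian consequences
-/

set_option autoImplicit false
universe u
open CategoryTheory CategoryTheory.Limits AlgebraicGeometry MorphismProperty Opposite
open AlgSp

namespace Groth.Agent.Helper15

variable {S : Scheme.{u}}

/-- Scheme-level descent along an etale surjective base change of the target. -/
theorem property_of_etale_surjective_base_change (P : MorphismProperty Scheme.{u})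
    [P.IsStableUnderBaseChange] [P.IsLocalAtTarget Scheme.fppfPrecoverage]
    {U W W' U' : Over S} {h : U ⟶ W} {s : W' ⟶ W} {u₁ : U' ⟶ U} {u₂ : U' ⟶ W'}
    (sq : IsPullback u₁ u₂ h s) (hse : Etale s.left) (hss : Surjective s.left)
    (hP : P u₂.left) : P h.left :=
  (repWith_yon_map_iff P h).1
    ((repWith_iff_of_chart ((yon S).map h) (representable_yon_map h) ((yon S).map s)
      ((repWith_yon_map_iff _ s).2 hse) ((repWith_yon_map_iff _ s).2 hss) ((yon S).map u₁) u₂
      (sq.map (yon S)) P).2 hP)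

/-- `LocP P` descends along an etale surjective base change from a scheme. -/
theorem locP_of_target_cover (P : MorphismProperty Scheme.{u})
    [P.IsStableUnderBaseChange] [P.IsLocalAtTarget Scheme.fppfPrecoverage]
    {X Y : Sp S} (f : X ⟶ Y) {V : Over S} (p : (yon S).obj V ⟶ Y) (hpe : RepWith @Etale p)
    (hps : RepWith @Surjective p) {P' : Sp S} (fst : P' ⟶ X) (snd : P' ⟶ (yon S).obj V)
    (sq : IsPullback fst snd f p) (h : LocP P snd) : LocP P f := by
  intro U W a b φ ha hb comm
  have hrep := hpe.rep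
  have sqW := hrep.isPullback b
  -- W' = V ×_Y W
  have hfstb : RepWith @Etale (hrep.fst b) := (RepWith @Etale).of_isPullback sqW.flip hb
  have hse : Etale (hrep.snd b).left := hpe.property_snd b
  have hss : Surjective (hrep.snd b).left := hps.property_snd b
  have sqU : IsPullback (pullback.fst φ (hrep.snd b)) (pullback.snd φ (hrep.snd b)) φ
      (hrep.snd b) := IsPullback.of_hasPullback _ _
  set u₁ := pullback.fst φ (hrep.snd b)
  set u₂ := pullback.snd φ (hrep.snd b)
  have hw : ((yon S).map u₁ ≫ a) ≫ f = ((yon S).map u₂ ≫ hrep.fst b) ≫ p := by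
    rw [Category.assoc, comm, ← Category.assoc, ← Functor.map_comp, sqU.w, Functor.map_comp,
      Category.assoc, Category.assoc, sqW.w]
  have hl1 := sq.lift_fst _ _ hw
  have hl2 := sq.lift_snd _ _ hw
  -- the outer rectangle is a pullback
  have outer : IsPullback ((yon S).map u₂ ≫ hrep.fst b) ((yon S).map u₁) p
      ((yon S).map φ ≫ b) := ((sqU.map (yon S)).flip).paste_horiz sqW
  have outer' : IsPullback (sq.lift _ _ hw ≫ snd) ((yon S).map u₁) p (a ≫ f) := by
    rw [hl2, comm]; exact outer
  have left : IsPullback (sq.lift _ _ hw) ((yon S).map u₁) fst a :=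
    IsPullback.of_right outer' hl1 sq.flip
  have ha' : RepWith @Etale (sq.lift _ _ hw) := (RepWith @Etale).of_isPullback left.flip ha
  have hP : P u₂.left := h (sq.lift _ _ hw) (hrep.fst b) u₂ ha' hfstb hl2
  exact property_of_etale_surjective_base_change P sqU hse hss hP

/-- Cancellation for `LocP`. -/
theorem locP_of_comp {P P' Q : MorphismProperty Scheme.{u}}
    [P.IsStableUnderBaseChange] [P.IsLocalAtTarget Scheme.fppfPrecoverage]
    (hcancel : ∀ {A B C : Scheme.{u}} (f : A ⟶ B) (g : B ⟶ C), P' (f ≫ g) → Q g → P f)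
    {X Y Z : Sp S} (hZ : IsAlgSpace Z) (f : X ⟶ Y) (g : Y ⟶ Z)
    (h : LocP P' (f ≫ g)) (hg : LocP Q g) : LocP P f := by
  intro U V a b φ ha hb comm
  obtain ⟨W, c, hce, hcs⟩ := hZ.atlas
  have crep := hce.rep
  have sqV := crep.isPullback' (b ≫ g)
  set v₁ := crep.fst' (b ≫ g)
  set v₂ := crep.snd (b ≫ g)
  have hse : Etale v₂.left := hce.property_snd (b ≫ g)
  have hss : Surjective v₂.left := hcs.property_snd (b ≫ g)
  have sqU : IsPullback (pullback.fst φ v₂) (pullback.snd φ v₂) φ v₂ :=
    IsPullback.of_hasPullback _ _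
  set u₁ := pullback.fst φ v₂
  set u₂ := pullback.snd φ v₂
  have hu₁ : Etale u₁.left :=
    MorphismProperty.of_isPullback (P := @Etale) (sqU.map (Over.forget S)).flip hse
  have ha' : RepWith @Etale ((yon S).map u₁ ≫ a) :=
    (RepWith @Etale).comp_mem _ _ ((repWith_yon_map_iff _ u₁).2 hu₁) ha
  have hb' : RepWith @Etale ((yon S).map v₂ ≫ b) :=
    (RepWith @Etale).comp_mem _ _ ((repWith_yon_map_iff _ v₂).2 hse) hb
  have c1 : ((yon S).map u₁ ≫ a) ≫ (f ≫ g) = (yon S).map (u₂ ≫ v₁) ≫ c := by
    rw [Category.assoc, ← Category.assoc a, comm, Category.assoc, ← Category.assoc,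
      ← Functor.map_comp, sqU.w, Functor.map_comp, Functor.map_comp, Category.assoc,
      Category.assoc, sqV.w]
  have c2 : ((yon S).map v₂ ≫ b) ≫ g = (yon S).map v₁ ≫ c := by
    rw [Category.assoc, sqV.w]
  have h1 : P' (u₂ ≫ v₁).left := h _ c (u₂ ≫ v₁) ha' hce c1
  have h2 : Q v₁.left := hg _ c v₁ hb' hce c2
  have h3 : P u₂.left := hcancel u₂.left v₁.left (by rw [← Over.comp_left]; exact h1) h2
  exact property_of_etale_surjective_base_change P sqU hse hss h3

theorem locP_mono {P P' : MorphismProperty Scheme.{u}} (hPP' : P ≤ P') {X Y : Sp S} {f : X ⟶ Y}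
    (h : LocP P f) : LocP P' f :=
  fun _ _ a b φ ha hb comm => hPP' _ (h a b φ ha hb comm)

/-- The source of a morphism locally of finite type to a locally Noetherian sheaf is locally
Noetherian. -/
theorem isLocNoethSp_of_locP_lft {X Y : Sp S} (hX : IsAlgSpace X) (f : X ⟶ Y)
    (hf : LocP @LocallyOfFiniteType f) (hY : IsLocNoethSp Y) : IsLocNoethSp X := by
  obtain ⟨V, b, hbe, hbs, hV⟩ := hY
  obtain ⟨U, p, α, hpe, hps, comm⟩ := exists_chart_lift hX f b hbe hbs
  haveI : LocallyOfFiniteType α.left := hf p b α hpe hbe comm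
  haveI : IsLocallyNoetherian V.left := hV
  exact ⟨U, p, hpe, hps, LocallyOfFiniteType.isLocallyNoetherian α.left⟩

/-- If `f` is quasi-separated and `Y` is quasi-separated over `S`, so is `X`. -/
theorem isQuasiSeparatedSp_of_isQuasiSeparatedMor {X Y : Sp S} (f : X ⟶ Y)
    (hf : IsQuasiSeparatedMor f) (hY : IsQuasiSeparatedSp Y) : IsQuasiSeparatedSp X := by
  have sqP : IsPullback (pullback.fst f f) (pullback.snd f f) f f := IsPullback.of_hasPullback _ _
  have h3 : RepWith @QuasiCompact (prod.lift (pullback.fst f f) (pullback.snd f f)) :=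
    (RepWith @QuasiCompact).of_isPullback (isPullback_diag_prod_map sqP) hY
  have := (RepWith @QuasiCompact).comp_mem _ _ hf h3
  rwa [diagonal_comp_prod_lift] at this

theorem lfp_le_lft :
    (@LocallyOfFinitePresentation : MorphismProperty Scheme.{u}) ≤ @LocallyOfFiniteType :=
  fun _ _ f hf => by haveI : LocallyOfFinitePresentation f := hf; infer_instance

/-- Source of a finitely presented morphism to a Noetherian algebraic space is Noetherian. -/
theorem noetherian_of_finitePresentation {X Y : Sp S} (hX : IsAlgSpace X) (hY' : IsAlgSpace Y)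
    (f : X ⟶ Y) (hf : IsFinitePresentationMor f)
    (hY : IsQuasiCompactSp Y ∧ IsQuasiSeparatedSp Y ∧ IsLocNoethSp Y) :
    IsQuasiCompactSp X ∧ IsQuasiSeparatedSp X ∧ IsLocNoethSp X := by
  obtain ⟨hlfp, hqc, hqs⟩ := hf
  obtain ⟨h1, h2, h3⟩ := hY
  refine ⟨hqc hY' h1 (𝟙 Y) (𝟙 X) f IsPullback.of_id_fst,
    isQuasiSeparatedSp_of_isQuasiSeparatedMor f hqs h2,
    isLocNoethSp_of_locP_lft hX f (locP_mono lfp_le_lft hlfp) h3⟩

end Groth.Agent.Helper15
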