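import Mathlib
import Groth.Agent.Lib.Helper15.AlgSpLim12
import Groth.Agent.Lib.Helper15.AlgSpLocP2
import Groth.Agent.Lib.Helper15.AlgSpUnram
import Groth.Agent.Lib.Helper15.AlgSpDescent

set_option autoImplicit false

universe u

open CategoryTheory CategoryTheory.Limits AlgebraicGeometry MorphismProperty Opposite
open AlgSp

namespace Groth.Agent.Helper15.AlgSpLim

variable {S : Scheme.{u}}

attribute [local instance] IsCofiltered.isConnected

/-- Ring-level core: a map to a finite type algebra from a filtered system whose images eventually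
contain generators is eventually surjective. -/
theorem surjective_of_adjoin_le_range {A B C : Type*} [CommRing A] [CommRing B] [CommRing C]
    (ψ : A →+* C) (α : A →+* B) (φ : B →+* C) (hφα : φ.comp α = ψ) (s : Set C)
    (hs : @Algebra.adjoin A C _ _ ψ.toAlgebra s = ⊤) (hsφ : s ⊆ Set.range φ) :
    Function.Surjective φ := by
  letI := ψ.toAlgebra
  let R : Subalgebra A C :=
    { φ.range with
      algebraMap_mem' := fun a => ⟨α a, by
        change (φ.comp α) a = ψ a
        rw [hφα]⟩ }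
  have hle : Algebra.adjoin A s ≤ R := Algebra.adjoin_le (fun x hx => hsφ hx)
  rw [hs] at hle
  intro x
  exact hle (Algebra.mem_top (R := A) (x := x))

/-- A closed subscheme of finite type of a cofiltered limit of affine schemes is closed in a finite
stage. -/
theorem exists_isClosedImmersion_of_isLimit_affine {K : Type u} [SmallCategory K] [IsCofiltered K]
    (T : K ⥤ Scheme.{u}) [hT : ∀ k, IsAffine (T.obj k)] (cL : Cone T) (hcL : IsLimit cL)
    {V Z : Scheme.{u}} [IsAffine Z] (v : V ⟶ cL.pt) [IsClosedImmersion v]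
    (z : ∀ k, T.obj k ⟶ Z) (zL : cL.pt ⟶ Z) (hz : ∀ k, cL.π.app k ≫ z k = zL)
    [LocallyOfFiniteType (v ≫ zL)] :
    ∃ k₁, ∀ (k : K) (_ : k ⟶ k₁), IsClosedImmersion (v ≫ cL.π.app k) := by
  have : IsAffine cL.pt := Scheme.isAffine_of_isLimit cL hcL
  obtain ⟨hV, hvs⟩ := IsClosedImmersion.isAffine_surjective_of_isAffine v
  have hft : RingHom.FiniteType (v ≫ zL).appTop.hom :=
    (HasRingHomProperty.iff_of_isAffine (P := @LocallyOfFiniteType)).1 inferInstance
  let φ : ∀ k, Γ(T.obj k, ⊤) →+* Γ(V, ⊤) := fun k => (v ≫ cL.π.app k).appTop.hom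
  have hmono : ∀ {k k' : K} (f : k ⟶ k'), Set.range (φ k') ⊆ Set.range (φ k) := by
    rintro k k' f _ ⟨b, rfl⟩
    refine ⟨(T.map f).appTop.hom b, ?_⟩
    change ((v ≫ cL.π.app k).appTop.hom.comp (T.map f).appTop.hom) b = _
    rw [← CommRingCat.hom_comp, ← Scheme.Hom.comp_appTop, Category.assoc, cL.w f]
  have hex : ∀ x : Γ(V, ⊤), ∃ k, x ∈ Set.range (φ k) := by
    intro x
    obtain ⟨y, rfl⟩ := hvs x
    obtain ⟨k, b, rfl⟩ := exists_appTop_π_eq_of_isAffine_of_isLimit T cL hcL y
    refine ⟨k, b, ?_⟩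
    change (v ≫ cL.π.app k).appTop.hom b = _
    rw [Scheme.Hom.comp_appTop]
    rfl
  have hfin : ∀ s : Finset Γ(V, ⊤), ∃ k, (s : Set Γ(V, ⊤)) ⊆ Set.range (φ k) := by
    classical
    intro s
    induction s using Finset.induction_on with
    | empty =>
      obtain ⟨k⟩ : Nonempty K := IsCofiltered.nonempty
      exact ⟨k, by simp⟩
    | insert a s _ ih =>
      obtain ⟨k₁, hk₁⟩ := ih
      obtain ⟨k₂, hk₂⟩ := hex a
      refine ⟨IsCofiltered.min k₁ k₂, ?_⟩
      rw [Finset.coe_insert, Set.insert_subset_iff]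
      exact ⟨hmono (IsCofiltered.minToRight k₁ k₂) hk₂,
        hk₁.trans (hmono (IsCofiltered.minToLeft k₁ k₂))⟩
  letI := (v ≫ zL).appTop.hom.toAlgebra
  obtain ⟨s, hs⟩ := (show Algebra.FiniteType Γ(Z, ⊤) Γ(V, ⊤) from hft).out
  obtain ⟨k₁, hk₁⟩ := hfin s
  refine ⟨k₁, fun k f => ?_⟩
  have := hT k
  refine IsClosedImmersion.of_surjective_of_isAffine _ ?_
  refine surjective_of_adjoin_le_range (v ≫ zL).appTop.hom (z k).appTop.hom (φ k) ?_ s hs
    (hk₁.trans (hmono f))
  change (v ≫ cL.π.app k).appTop.hom.comp (z k).appTop.hom = _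
  rw [← CommRingCat.hom_comp, ← Scheme.Hom.comp_appTop, Category.assoc, hz k]

/-- Limit charts exist, with compatible maps to the chart `Z`. -/
theorem exists_limChart_compat {I : Type u} [SmallCategory I] [IsCofiltered I]
    (D : I ⥤ Sp S) (hDa : ∀ (i j : I) (φ : i ⟶ j), IsAffineMor (D.map φ))
    (c : Cone D) (hc : IsLimit c) (i : I) {Z : Over S} (hZ : IsAffine Z.left)
    (g : (yon S).obj Z ⟶ D.obj i) :
    ∃ C : LimChart D c i g, ∀ k, C.cL.π.app k ≫ C.z k = C.zL := by
  let G : Over (D.obj i) ⥤ Sp S := Over.pullback g ⋙ Over.forget _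
  let E : Over i ⥤ Sp S := Over.post D ⋙ G
  let c' : Cone E := G.mapCone ((Over.conePost D i).obj c)
  have hc' : IsLimit c' := isLimitOfPreserves G (Over.isLimitConePost i hc)
  have h : ∀ k : Over i, ∃ (W : Over S), IsAffine W.left ∧
      Nonempty ((yon S).obj W ≅ E.obj k) := by
    intro k
    obtain ⟨W, iW, fst, sq, hWa⟩ := hDa _ _ k.hom hZ g
    exact ⟨W, hWa, ⟨sq.isoPullback⟩⟩
  choose W hW e' using h
  let e : ∀ k, (yon S).obj (W k) ≅ E.obj k := fun k => (e' k).some
  obtain ⟨cL, hcL, hLaff, θ, hθ⟩ : ∃ (cL : Cone (liftDiag E W e))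
      (_ : IsLimit ((Over.forget S).mapCone cL)) (_ : IsAffine cL.pt.left)
      (θ : (yon S).obj cL.pt ≅ pullback (c.π.app i) g),
      ∀ k, θ.hom ≫ c'.π.app k = (yon S).map (cL.π.app k) ≫ (e k).hom :=
    exists_affine_rep_cone_of_isLimit E W hW e c' hc'
  let pk : ∀ k : Over i, cL.pt ⟶ W k := fun k => cL.π.app k
  let ck : ∀ k : Over i, pullback (c.π.app i) g ⟶ E.obj k := fun k => c'.π.app k
  have hθ' : ∀ k, θ.hom ≫ ck k = (yon S).map (pk k) ≫ (e k).hom := hθ
  let fstk : ∀ k : Over i, E.obj k ⟶ D.obj k.left := fun k => pullback.fst (D.map k.hom) g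
  let sndk : ∀ k : Over i, E.obj k ⟶ (yon S).obj Z := fun k => pullback.snd (D.map k.hom) g
  let fstP : pullback (c.π.app i) g ⟶ c.pt := pullback.fst (c.π.app i) g
  let sndP : pullback (c.π.app i) g ⟶ (yon S).obj Z := pullback.snd (c.π.app i) g
  let πk : ∀ k : Over i, c.pt ⟶ D.obj k.left := fun k => c.π.app k.left
  have hsq : ∀ k : Over i, IsPullback (ck k) fstP (fstk k) (πk k) := fun k =>
    isPullback_overPullback_map g (((Over.conePost D i).obj c).π.app k)
  have hsnd : ∀ k : Over i, ck k ≫ sndk k = sndP := fun k => pullback.lift_snd _ _ _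
  refine ⟨{
    T := liftDiag E W e
    isAffine := hW
    q := fun k => (e k).hom ≫ fstk k
    z := fun k => (yon S).preimage ((e k).hom ≫ sndk k)
    sq := fun k => ?_
    cL := cL
    isLimit := hcL
    isAffine_pt := hLaff
    r := θ.hom ≫ fstP
    zL := (yon S).preimage (θ.hom ≫ sndP)
    sqL := ?_
    sqk := fun k => ?_ }, fun k => ?_⟩
  · rw [Functor.map_preimage]
    refine (IsPullback.of_hasPullback (D.map k.hom) g).of_iso (e k).symm (Iso.refl _) (Iso.refl _)
      (Iso.refl _) ?_ ?_ (by simp) (by simp)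
    · simp only [Iso.refl_hom, Category.comp_id, Iso.symm_hom]
      exact (Iso.inv_hom_id_assoc (e k) _).symm
    · simp only [Iso.refl_hom, Category.comp_id, Iso.symm_hom]
      exact (Iso.inv_hom_id_assoc (e k) _).symm
  · rw [Functor.map_preimage]
    refine (IsPullback.of_hasPullback (c.π.app i) g).of_iso θ.symm (Iso.refl _) (Iso.refl _)
      (Iso.refl _) ?_ ?_ (by simp) (by simp)
    · simp only [Iso.refl_hom, Category.comp_id, Iso.symm_hom]
      exact (Iso.inv_hom_id_assoc θ _).symm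
    · simp only [Iso.refl_hom, Category.comp_id, Iso.symm_hom]
      exact (Iso.inv_hom_id_assoc θ _).symm
  · refine (hsq k).of_iso θ.symm (e k).symm (Iso.refl _) (Iso.refl _) ?_ ?_ ?_ ?_
    · change ck k ≫ (e k).inv = θ.inv ≫ (yon S).map (pk k)
      rw [Iso.eq_inv_comp, ← Category.assoc, hθ' k, Category.assoc, Iso.hom_inv_id,
        Category.comp_id]
    · simp only [Iso.refl_hom, Category.comp_id, Iso.symm_hom]
      exact (Iso.inv_hom_id_assoc θ _).symm
    · simp only [Iso.refl_hom, Category.comp_id, Iso.symm_hom]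
      exact (Iso.inv_hom_id_assoc (e k) _).symm
    · simp only [Iso.refl_hom, Category.comp_id, Category.id_comp]
      rfl
  · change pk k ≫ (yon S).preimage ((e k).hom ≫ sndk k) = (yon S).preimage (θ.hom ≫ sndP)
    apply (yon S).map_injective
    rw [Functor.map_comp, Functor.map_preimage, Functor.map_preimage]
    rw [← Category.assoc, ← hθ' k, Category.assoc, hsnd k]

/-- A closed subspace of a limit, locally of finite type over a base, is a closed subspace of a
finite stage. -/
theorem exists_closedImmersion_finite_stage {I : Type u} [SmallCategory I] [IsCofiltered I]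
    (B : Sp S) (hB : IsAlgSpace B) (D : I ⥤ Sp S)
    (t : D ⟶ (Functor.const I).obj B)
    (hDa : ∀ (i j : I) (φ : i ⟶ j), IsAffineMor (D.map φ))
    (c : Cone D) (hc : IsLimit c) (hqc : ∀ i, IsQuasiCompactSp (D.obj i))
    (Y : Sp S) (y : Y ⟶ c.pt) (hy : RepWith @IsClosedImmersion y) (i₁ : I)
    (hYB : LocP @LocallyOfFiniteType (y ≫ c.π.app i₁ ≫ t.app i₁)) :
    ∃ i₀ : I, ∀ (i : I) (_ : i ⟶ i₀), RepWith @IsClosedImmersion (y ≫ c.π.app i) := by
  obtain ⟨Z, g, hZ, hge, hgs⟩ := exists_affine_chart_of_isQuasiCompactSp (hqc i₁)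
  obtain ⟨C, hCz⟩ := exists_limChart_compat D hDa c hc i₁ hZ g
  have hre := C.etale_r hge
  have hrep := hy.rep
  let V : Over S := hrep.pullback C.r
  let v : V ⟶ C.cL.pt := hrep.snd C.r
  let fstV : (yon S).obj V ⟶ Y := hrep.fst C.r
  have sqV : IsPullback fstV ((yon S).map v) y C.r := hrep.isPullback C.r
  have hv : IsClosedImmersion v.left := hy.property_snd C.r
  have hfstV : RepWith @Etale fstV := (RepWith @Etale).of_isPullback sqV.flip hre
  have h1 : LocP @LocallyOfFiniteType (fstV ≫ y ≫ c.π.app i₁ ≫ t.app i₁) :=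
    locP_precomp_etale _ hYB fstV hfstV
  have h2 : fstV ≫ y ≫ c.π.app i₁ ≫ t.app i₁ = (yon S).map (v ≫ C.zL) ≫ (g ≫ t.app i₁) := by
    rw [← Category.assoc fstV, sqV.w, Category.assoc, ← Category.assoc C.r, C.sqL.w,
      Functor.map_comp, Category.assoc, Category.assoc]
  rw [h2] at h1
  have h3 : LocP @LocallyOfFiniteType ((yon S).map (v ≫ C.zL)) :=
    locP_of_comp (P := @LocallyOfFiniteType) (P' := @LocallyOfFiniteType) (Q := ⊤)
      (fun f g h _ => by
        have := h
        exact locallyOfFiniteType_of_comp f g) hB _ _ h1 (fun _ _ _ _ _ _ _ _ => trivial)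
  have h4 : LocallyOfFiniteType (v ≫ C.zL).left := locP_yon_map h3
  have hTaff : ∀ k, IsAffine ((C.T ⋙ Over.forget S).obj k) := C.isAffine
  have hZ' : IsAffine Z.left := hZ
  have h4' : LocallyOfFiniteType (v.left ≫ C.zL.left) := h4
  let vL : V.left ⟶ ((Over.forget S).mapCone C.cL).pt := v.left
  have hv' : IsClosedImmersion vL := hv
  have h4' : LocallyOfFiniteType (vL ≫ C.zL.left) := h4
  obtain ⟨k₁, hk₁⟩ := exists_isClosedImmersion_of_isLimit_affine (C.T ⋙ Over.forget S)
    ((Over.forget S).mapCone C.cL) C.isLimit vL (fun k => (C.z k).left) C.zL.left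
    (fun k => congrArg (fun m => m.left) (hCz k))
  refine ⟨k₁.left, fun i φ => ?_⟩
  let k : Over i₁ := Over.mk (φ ≫ k₁.hom)
  let f : k ⟶ k₁ := Over.homMk φ rfl
  have hci : IsClosedImmersion (v ≫ C.cL.π.app k).left := hk₁ k f
  have hπ : RepWith @IsAffineHom (c.π.app i) :=
    repWith_of_affRep _ ((isAffineMor_iff_affRep _).1 (isAffineMor_cone_π D hDa c hc i))
  have hrep' : Representable (y ≫ c.π.app i) :=
    (Representable (S := S)).comp_mem _ _ hy.rep hπ.rep
  have sq : IsPullback fstV ((yon S).map (v ≫ C.cL.π.app k)) (y ≫ c.π.app i) (C.q k) := by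
    rw [Functor.map_comp]
    exact ((sqV.flip).paste_horiz (C.sqk k)).flip
  exact (repWith_iff_of_chart (y ≫ c.π.app i) hrep' (C.q k) (C.etale_q hge k)
    (C.surjective_q hgs k) fstV (v ≫ C.cL.π.app k) sq @IsClosedImmersion).2 hci

end Groth.Agent.Helper15.AlgSpLim
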