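import Mathlib
import Groth.Agent.Lib.Helper15.AlgSpLim13

set_option autoImplicit false

universe u

open CategoryTheory CategoryTheory.Limits AlgebraicGeometry MorphismProperty Opposite
open AlgSp

namespace Groth.Agent.Helper15.AlgSpLim

variable {S : Scheme.{u}}

attribute [local instance] IsCofiltered.isConnected

/-- If `f ≫ g` is locally of finite presentation and `g` is locally of finite type then `f` is
locally of finite presentation. -/
theorem locallyOfFinitePresentation_of_comp_of_lft {X Y Z : Scheme.{u}} (f : X ⟶ Y) (g : Y ⟶ Z)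
    (h : LocallyOfFinitePresentation (f ≫ g)) (h' : LocallyOfFiniteType g) :
    LocallyOfFinitePresentation f := by
  wlog hZ : IsAffine Z generalizing X Y Z
  · rw [IsZariskiLocalAtTarget.iff_of_iSup_eq_top (P := @LocallyOfFinitePresentation) _
      (g.iSup_preimage_eq_top (iSup_affineOpens_eq_top Z))]
    intro U
    have H := IsZariskiLocalAtTarget.restrict h U.1
    rw [morphismRestrict_comp] at H
    exact this _ _ H inferInstance inferInstance
  wlog hY : IsAffine Y generalizing X Y
  · rw [IsZariskiLocalAtTarget.iff_of_iSup_eq_top (P := @LocallyOfFinitePresentation) _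
      (iSup_affineOpens_eq_top Y)]
    intro U
    have H := HasRingHomProperty.comp_of_isOpenImmersion @LocallyOfFinitePresentation
      (f ⁻¹ᵁ U.1).ι (f ≫ g) h
    rw [← morphismRestrict_ι_assoc] at H
    exact this _ _ H inferInstance inferInstance
  wlog hX : IsAffine X generalizing X
  · rw [IsZariskiLocalAtSource.iff_of_iSup_eq_top (P := @LocallyOfFinitePresentation) _
      (iSup_affineOpens_eq_top X)]
    intro U
    have H := HasRingHomProperty.comp_of_isOpenImmersion @LocallyOfFinitePresentation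
      U.1.ι (f ≫ g) h
    rw [← Category.assoc] at H
    exact this _ H inferInstance
  rw [HasRingHomProperty.iff_of_isAffine (P := @LocallyOfFinitePresentation)] at h ⊢
  rw [HasRingHomProperty.iff_of_isAffine (P := @LocallyOfFiniteType)] at h'
  rw [Scheme.Hom.comp_appTop, CommRingCat.hom_comp] at h
  exact RingHom.FinitePresentation.of_comp_finiteType _ h h'

/-- A cofiltered limit of affine schemes along closed immersions which is locally of finite
presentation over one stage is isomorphic to all small enough stages. -/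
theorem exists_isIso_π_of_isLimit_affine {K : Type u} [SmallCategory K] [IsCofiltered K]
    (T : K ⥤ Scheme.{u}) [hT : ∀ k, IsAffine (T.obj k)]
    (hTc : ∀ {k l : K} (f : k ⟶ l), IsClosedImmersion (T.map f))
    (cL : Cone T) (hcL : IsLimit cL) (k₀ : K) [hfp : LocallyOfFinitePresentation (cL.π.app k₀)] :
    ∃ k₁, ∀ (k : K) (_ : k ⟶ k₁), IsIso (cL.π.app k) := by
  have hLaff : IsAffine cL.pt := Scheme.isAffine_of_isLimit cL hcL
  have hLaff' : ∀ k, IsAffine (((Functor.const K).obj cL.pt).obj k) := fun _ => hLaff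
  have hTs : ∀ {k l : K} (f : k ⟶ l), Function.Surjective (T.map f).appTop := fun f => by
    have := hTc f
    exact (IsClosedImmersion.isAffine_surjective_of_isAffine (T.map f)).2
  have hw : ∀ {k l : K} (f : k ⟶ l) (a : Γ(T.obj l, ⊤)),
      (cL.π.app k).appTop ((T.map f).appTop a) = (cL.π.app l).appTop a := fun f a => by
    rw [← CommRingCat.comp_apply, ← Scheme.Hom.comp_appTop, cL.w f]
  -- surjectivity
  have hsurj : ∀ k, Function.Surjective (cL.π.app k).appTop := by
    intro k s
    obtain ⟨k', b, rfl⟩ := exists_appTop_π_eq_of_isAffine_of_isLimit T cL hcL s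
    obtain ⟨a, ha⟩ := hTs (IsCofiltered.minToLeft k k') ((T.map (IsCofiltered.minToRight k k')).appTop b)
    refine ⟨a, ?_⟩
    rw [← hw (IsCofiltered.minToLeft k k'), ha, hw]
  -- finite generation of the kernel
  let φ₀ : Γ(T.obj k₀, ⊤) →+* Γ(cL.pt, ⊤) := (cL.π.app k₀).appTop.hom
  have hφ₀ : φ₀.FinitePresentation :=
    (HasRingHomProperty.iff_of_isAffine (P := @LocallyOfFinitePresentation)).1 hfp
  have hker : (RingHom.ker φ₀).FG := by
    algebraize [φ₀]
    have h1 : Function.Surjective (Algebra.ofId Γ(T.obj k₀, ⊤) Γ(cL.pt, ⊤)) := hsurj k₀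
    have := Algebra.FinitePresentation.ker_fG_of_surjective
      (Algebra.ofId Γ(T.obj k₀, ⊤) Γ(cL.pt, ⊤)) h1
    exact this
  obtain ⟨s, hs⟩ := hker
  have hfin : ∀ s' : Finset Γ(T.obj k₀, ⊤), (∀ x ∈ s', φ₀ x = 0) →
      ∃ (k₁ : K) (f₁ : k₁ ⟶ k₀), ∀ x ∈ s', (T.map f₁).appTop x = 0 := by
    classical
    intro s'
    induction s' using Finset.induction_on with
    | empty => exact fun _ => ⟨k₀, 𝟙 _, by simp⟩
    | insert a s' _ ih =>
      intro h
      obtain ⟨k₁, f₁, h₁⟩ := ih (fun x hx => h x (Finset.mem_insert_of_mem hx))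
      obtain ⟨k₂, f₂, h₂⟩ := exists_appTop_map_eq_zero_of_isAffine_of_isLimit T cL hcL k₀ a
        (h a (Finset.mem_insert_self a s'))
      obtain ⟨k₃, g₁, g₂, hg⟩ := IsCofiltered.cospan f₁ f₂
      refine ⟨k₃, g₁ ≫ f₁, fun x hx => ?_⟩
      rw [Finset.mem_insert] at hx
      rcases hx with rfl | hx
      · rw [hg, Functor.map_comp, Scheme.Hom.comp_appTop, CommRingCat.comp_apply, h₂, map_zero]
      · rw [Functor.map_comp, Scheme.Hom.comp_appTop, CommRingCat.comp_apply, h₁ x hx, map_zero]
  obtain ⟨k₁, f₁, hk₁⟩ := hfin s (fun x hx => by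
    have : x ∈ RingHom.ker φ₀ := by
      rw [← hs]; exact Ideal.subset_span hx
    exact this)
  have hle : RingHom.ker φ₀ ≤ RingHom.ker (T.map f₁).appTop.hom := by
    rw [← hs, Ideal.span_le]
    intro x hx
    exact hk₁ x hx
  refine ⟨k₁, fun k f => ?_⟩
  have hinj : Function.Injective (cL.π.app k).appTop := by
    rw [injective_iff_map_eq_zero]
    intro a ha
    obtain ⟨a₀, rfl⟩ := hTs (f ≫ f₁) a
    rw [hw] at ha
    have h0 : (T.map f₁).appTop a₀ = 0 := hle ha
    rw [Functor.map_comp, Scheme.Hom.comp_appTop, CommRingCat.comp_apply, h0, map_zero]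
  have hiso : IsIso (cL.π.app k).appTop :=
    (ConcreteCategory.isIso_iff_bijective _).2 ⟨hinj, hsurj k⟩
  have := hT k
  exact (HasAffineProperty.iff_of_isAffine (P := isomorphisms Scheme)).2 ⟨inferInstance, hiso⟩

/-- Limit charts exist, with compatible maps to the chart `Z` and natural charts. -/
theorem exists_limChart_nat {I : Type u} [SmallCategory I] [IsCofiltered I]
    (D : I ⥤ Sp S) (hDa : ∀ (i j : I) (φ : i ⟶ j), IsAffineMor (D.map φ))
    (c : Cone D) (hc : IsLimit c) (i : I) {Z : Over S} (hZ : IsAffine Z.left)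
    (g : (yon S).obj Z ⟶ D.obj i) :
    ∃ C : LimChart D c i g, (∀ k, C.cL.π.app k ≫ C.z k = C.zL) ∧
      (∀ {k l : Over i} (f : k ⟶ l), (yon S).map (C.T.map f) ≫ C.q l = C.q k ≫ D.map f.left) ∧
      (∀ {k l : Over i} (f : k ⟶ l), C.T.map f ≫ C.z l = C.z k) := by
  let G : Over (D.obj i) ⥤ Sp S := Over.pullback g ⋙ Over.forget _
  let E : Over i ⥤ Sp S := Over.post D ⋙ G
  let c' : Cone E := G.mapCone ((Over.conePost D i).obj c)
  have hc' : IsLimit c' := isLimitOfPreserves G (Over.isLimitConePost i hc)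
  have h : ∀ k : Over i, ∃ (W : Over S), IsAffine W.left ∧
      Nonempty ((yon S).obj W ≅ E.obj k) := by
    intro k
    obtain ⟨W, iW, fst, sq, hWa⟩ := hDa _ _ k.hom hZ g
    exact ⟨W, hWa, ⟨sq.isoPullback⟩⟩
  choose W hW e' using h
  let e : ∀ k, (yon S).obj (W k) ≅ E.obj k := fun k => (e' k).some
  obtain ⟨cL, hcL, hLaff, θ, hθ⟩ : ∃ (cL : Cone (liftDiag E W e))
      (_ : IsLimit ((Over.forget S).mapCone cL)) (_ : IsAffine cL.pt.left)
      (θ : (yon S).obj cL.pt ≅ pullback (c.π.app i) g),
      ∀ k, θ.hom ≫ c'.π.app k = (yon S).map (cL.π.app k) ≫ (e k).hom :=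
    exists_affine_rep_cone_of_isLimit E W hW e c' hc'
  let pk : ∀ k : Over i, cL.pt ⟶ W k := fun k => cL.π.app k
  let ck : ∀ k : Over i, pullback (c.π.app i) g ⟶ E.obj k := fun k => c'.π.app k
  have hθ' : ∀ k, θ.hom ≫ ck k = (yon S).map (pk k) ≫ (e k).hom := hθ
  let fstk : ∀ k : Over i, E.obj k ⟶ D.obj k.left := fun k => pullback.fst (D.map k.hom) g
  let sndk : ∀ k : Over i, E.obj k ⟶ (yon S).obj Z := fun k => pullback.snd (D.map k.hom) g
  let fstP : pullback (c.π.app i) g ⟶ c.pt := pullback.fst (c.π.app i) g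
  let sndP : pullback (c.π.app i) g ⟶ (yon S).obj Z := pullback.snd (c.π.app i) g
  let πk : ∀ k : Over i, c.pt ⟶ D.obj k.left := fun k => c.π.app k.left
  have hsq : ∀ k : Over i, IsPullback (ck k) fstP (fstk k) (πk k) := fun k =>
    isPullback_overPullback_map g (((Over.conePost D i).obj c).π.app k)
  have hsnd : ∀ k : Over i, ck k ≫ sndk k = sndP := fun k => pullback.lift_snd _ _ _
  have hE1 : ∀ {k l : Over i} (f : k ⟶ l), E.map f ≫ fstk l = fstk k ≫ D.map f.left :=
    fun f => pullback.lift_fst _ _ _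
  have hE2 : ∀ {k l : Over i} (f : k ⟶ l), E.map f ≫ sndk l = sndk k :=
    fun f => pullback.lift_snd _ _ _
  refine ⟨{
    T := liftDiag E W e
    isAffine := hW
    q := fun k => (e k).hom ≫ fstk k
    z := fun k => (yon S).preimage ((e k).hom ≫ sndk k)
    sq := fun k => ?_
    cL := cL
    isLimit := hcL
    isAffine_pt := hLaff
    r := θ.hom ≫ fstP
    zL := (yon S).preimage (θ.hom ≫ sndP)
    sqL := ?_
    sqk := fun k => ?_ }, fun k => ?_, fun {k l} f => ?_, fun {k l} f => ?_⟩
  · rw [Functor.map_preimage]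
    refine (IsPullback.of_hasPullback (D.map k.hom) g).of_iso (e k).symm (Iso.refl _) (Iso.refl _)
      (Iso.refl _) ?_ ?_ (by simp) (by simp)
    · simp only [Iso.refl_hom, Category.comp_id, Iso.symm_hom]
      exact (Iso.inv_hom_id_assoc (e k) _).symm
    · simp only [Iso.refl_hom, Category.comp_id, Iso.symm_hom]
      exact (Iso.inv_hom_id_assoc (e k) _).symm
  · rw [Functor.map_preimage]
    refine (IsPullback.of_hasPullback (c.π.app i) g).of_iso θ.symm (Iso.refl _) (Iso.refl _)
      (Iso.refl _) ?_ ?_ (by simp) (by simp)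
    · simp only [Iso.refl_hom, Category.comp_id, Iso.symm_hom]
      exact (Iso.inv_hom_id_assoc θ _).symm
    · simp only [Iso.refl_hom, Category.comp_id, Iso.symm_hom]
      exact (Iso.inv_hom_id_assoc θ _).symm
  · refine (hsq k).of_iso θ.symm (e k).symm (Iso.refl _) (Iso.refl _) ?_ ?_ ?_ ?_
    · change ck k ≫ (e k).inv = θ.inv ≫ (yon S).map (pk k)
      rw [Iso.eq_inv_comp, ← Category.assoc, hθ' k, Category.assoc, Iso.hom_inv_id,
        Category.comp_id]
    · simp only [Iso.refl_hom, Category.comp_id, Iso.symm_hom]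
      exact (Iso.inv_hom_id_assoc θ _).symm
    · simp only [Iso.refl_hom, Category.comp_id, Iso.symm_hom]
      exact (Iso.inv_hom_id_assoc (e k) _).symm
    · simp only [Iso.refl_hom, Category.comp_id, Category.id_comp]
      rfl
  · change pk k ≫ (yon S).preimage ((e k).hom ≫ sndk k) = (yon S).preimage (θ.hom ≫ sndP)
    apply (yon S).map_injective
    rw [Functor.map_comp, Functor.map_preimage, Functor.map_preimage]
    rw [← Category.assoc, ← hθ' k, Category.assoc, hsnd k]
  · change (yon S).map ((yon S).preimage ((e k).hom ≫ E.map f ≫ (e l).inv)) ≫ (e l).hom ≫ fstk l =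
      ((e k).hom ≫ fstk k) ≫ D.map f.left
    rw [Functor.map_preimage, Category.assoc, Category.assoc, Iso.inv_hom_id_assoc, hE1 f,
      Category.assoc]
  · change (yon S).preimage ((e k).hom ≫ E.map f ≫ (e l).inv) ≫
      (yon S).preimage ((e l).hom ≫ sndk l) = (yon S).preimage ((e k).hom ≫ sndk k)
    apply (yon S).map_injective
    rw [Functor.map_comp, Functor.map_preimage, Functor.map_preimage, Functor.map_preimage,
      Category.assoc, Category.assoc, Iso.inv_hom_id_assoc, hE2 f]

/-- A limit along closed immersions of spaces of finite type over `B` which is locally of finite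
presentation over `B` is isomorphic to all small enough stages. -/
theorem exists_isIso_π_finite_stage {I : Type u} [SmallCategory I] [IsCofiltered I]
    (B : Sp S) (hB : IsAlgSpace B) (D : I ⥤ Sp S)
    (t : D ⟶ (Functor.const I).obj B)
    (hDc : ∀ (i j : I) (φ : i ⟶ j), RepWith @IsClosedImmersion (D.map φ))
    (c : Cone D) (hc : IsLimit c)
    (hqc : ∀ i, IsQuasiCompactSp (D.obj i)) (hft : ∀ i, LocP @LocallyOfFiniteType (t.app i))
    (i₁ : I) (hX : LocP @LocallyOfFinitePresentation (c.π.app i₁ ≫ t.app i₁)) :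
    ∃ i₀ : I, ∀ (i : I) (_ : i ⟶ i₀), IsIso (c.π.app i) := by
  have hDa : ∀ (i j : I) (φ : i ⟶ j), IsAffineMor (D.map φ) := fun i j φ =>
    isAffineMor_of_isClosedImmersion _ (hDc i j φ)
  obtain ⟨Z, g, hZ, hge, hgs⟩ := exists_affine_chart_of_isQuasiCompactSp (hqc i₁)
  obtain ⟨C, hCz, hCq, hCzn⟩ := exists_limChart_nat D hDa c hc i₁ hZ g
  have hre := C.etale_r hge
  have hrs := C.surjective_r hgs
  have hTc : ∀ {k l : Over i₁} (f : k ⟶ l),
      IsClosedImmersion ((C.T ⋙ Over.forget S).map f) := by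
    intro k l f
    have sq' : IsPullback ((yon S).map (C.T.map f)) (C.q k) (C.q l) (D.map f.left) := by
      refine IsPullback.of_right (t := (C.sq l).flip) ?_ (hCq f)
      rw [← Functor.map_comp, hCzn f, ← Functor.map_comp, Over.w f]
      exact (C.sq k).flip
    exact (hDc _ _ f.left).property (C.q l) (C.q k) (C.T.map f) sq'.flip
  let k₀ : Over i₁ := Over.mk (𝟙 i₁)
  have h1 : LocP @LocallyOfFinitePresentation (C.r ≫ c.π.app i₁ ≫ t.app i₁) :=
    locP_precomp_etale _ hX C.r hre
  have h2 : C.r ≫ c.π.app i₁ ≫ t.app i₁ =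
      (yon S).map (C.cL.π.app k₀) ≫ (C.q k₀ ≫ t.app i₁) := by
    rw [← Category.assoc, ← Category.assoc]
    exact congrArg (· ≫ t.app i₁) (C.sqk k₀).w.symm
  rw [h2] at h1
  have h3 : LocP @LocallyOfFiniteType (C.q k₀ ≫ t.app i₁) :=
    locP_precomp_etale _ (hft i₁) (C.q k₀) (C.etale_q hge k₀)
  have h4 : LocP @LocallyOfFinitePresentation ((yon S).map (C.cL.π.app k₀)) :=
    locP_of_comp (P := @LocallyOfFinitePresentation) (P' := @LocallyOfFinitePresentation)
      (Q := @LocallyOfFiniteType)
      (fun f g h h' => locallyOfFinitePresentation_of_comp_of_lft f g h h') hB _ _ h1 h3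
  have h5 : LocallyOfFinitePresentation (C.cL.π.app k₀).left := locP_yon_map h4
  have hTaff : ∀ k, IsAffine ((C.T ⋙ Over.forget S).obj k) := C.isAffine
  have h5' : LocallyOfFinitePresentation (((Over.forget S).mapCone C.cL).π.app k₀) := h5
  obtain ⟨k₁, hk₁⟩ := exists_isIso_π_of_isLimit_affine (C.T ⋙ Over.forget S) hTc
    ((Over.forget S).mapCone C.cL) C.isLimit k₀
  refine ⟨k₁.left, fun i φ => ?_⟩
  let k : Over i₁ := Over.mk (φ ≫ k₁.hom)
  let f : k ⟶ k₁ := Over.homMk φ rfl
  have hiso : IsIso (C.cL.π.app k).left := hk₁ k f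
  have hπ : RepWith @IsAffineHom (c.π.app i) :=
    repWith_of_affRep _ ((isAffineMor_iff_affRep _).1 (isAffineMor_cone_π D hDa c hc i))
  have sq : IsPullback C.r ((yon S).map (C.cL.π.app k)) (c.π.app i) (C.q k) := (C.sqk k).flip
  have ho : RepWith @IsOpenImmersion (c.π.app i) :=
    (repWith_iff_of_chart (c.π.app i) hπ.rep (C.q k) (C.etale_q hge k) (C.surjective_q hgs k)
      C.r (C.cL.π.app k) sq @IsOpenImmersion).2 inferInstance
  have hs : RepWith @Surjective (c.π.app i) :=
    (repWith_iff_of_chart (c.π.app i) hπ.rep (C.q k) (C.etale_q hge k) (C.surjective_q hgs k)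
      C.r (C.cL.π.app k) sq @Surjective).2 inferInstance
  exact isIso_of_repWith_isOpenImmersion_surjective _ ho hs

end Groth.Agent.Helper15.AlgSpLim
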