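import Groth.Agent.Lib.Helper15.AlgSpLocal

/-!
# `LocP` versus `RepWith` for representable morphisms, for the listed classes
-/

set_option autoImplicit false
universe u
open CategoryTheory CategoryTheory.Limits AlgebraicGeometry MorphismProperty Opposite
open AlgSp

namespace Groth.Agent.Helper15

variable {S : Scheme.{u}}

/-- Bundle of the permanence properties of the classes `P` to which the "locally `P`" formalism
is applied. -/
structure GoodP (P : MorphismProperty Scheme.{u}) : Prop where
  bc : P.IsStableUnderBaseChange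
  comp : P.IsStableUnderComposition
  etale_le : (@Etale : MorphismProperty Scheme.{u}) ≤ P
  loc : P.IsLocalAtTarget Scheme.fppfPrecoverage

theorem goodP_lft : GoodP (@LocallyOfFiniteType : MorphismProperty Scheme.{u}) :=
  ⟨inferInstance, inferInstance, etale_le_lft, inferInstance⟩

theorem goodP_lfp : GoodP (@LocallyOfFinitePresentation : MorphismProperty Scheme.{u}) :=
  ⟨inferInstance, inferInstance, etale_le_lfp, inferInstance⟩

theorem goodP_flat : GoodP (@Flat : MorphismProperty Scheme.{u}) :=
  ⟨inferInstance, inferInstance, etale_le_flat, inferInstance⟩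

theorem goodP_smooth : GoodP (@Smooth : MorphismProperty Scheme.{u}) :=
  ⟨inferInstance, inferInstance, fun _ _ f hf => by haveI : Etale f := hf; infer_instance,
    inferInstance⟩

theorem goodP_etale : GoodP (@Etale : MorphismProperty Scheme.{u}) :=
  ⟨inferInstance, inferInstance, le_rfl, inferInstance⟩

theorem goodP_lqf_lft :
    GoodP (@LocallyQuasiFinite ⊓ @LocallyOfFiniteType : MorphismProperty Scheme.{u}) :=
  ⟨inferInstance, inferInstance, fun _ _ f hf => ⟨etale_le_lqf _ _ f hf, etale_le_lft _ _ f hf⟩,
    inferInstance⟩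

theorem goodP_lft_unramified :
    GoodP (@LocallyOfFiniteType ⊓ @FormallyUnramified : MorphismProperty Scheme.{u}) :=
  ⟨inferInstance, inferInstance, fun _ _ f hf => ⟨etale_le_lft _ _ f hf, by
    haveI : Etale f := hf; exact (inferInstance : FormallyUnramified f)⟩, inferInstance⟩

/-- The classes listed in the statements about `LocP`. -/
theorem goodP_of_listed (P : MorphismProperty Scheme.{u})
    (hP : P = @LocallyOfFiniteType ∨ P = @LocallyOfFinitePresentation ∨ P = @Flat ∨ P = @Smooth ∨
      P = @Etale ∨
      (∀ ⦃A B : Scheme.{u}⦄ (g : A ⟶ B), P g ↔ (LocallyQuasiFinite g ∧ LocallyOfFiniteType g)) ∨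
      (∀ ⦃A B : Scheme.{u}⦄ (g : A ⟶ B), P g ↔ (LocallyOfFiniteType g ∧ FormallyUnramified g))) :
    GoodP P := by
  rcases hP with rfl | rfl | rfl | rfl | rfl | h | h
  · exact goodP_lft
  · exact goodP_lfp
  · exact goodP_flat
  · exact goodP_smooth
  · exact goodP_etale
  · have : P = (@LocallyQuasiFinite ⊓ @LocallyOfFiniteType : MorphismProperty Scheme.{u}) := by
      ext A B g; exact h g
    rw [this]; exact goodP_lqf_lft
  · have : P = (@LocallyOfFiniteType ⊓ @FormallyUnramified : MorphismProperty Scheme.{u}) := by
      ext A B g; exact h g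
    rw [this]; exact goodP_lft_unramified

/-- For a representable morphism to an algebraic space, `LocP P` implies `RepWith P`. -/
theorem repWith_of_locP {P : MorphismProperty Scheme.{u}} (hP : GoodP P) {X Y : Sp S}
    (hY : IsAlgSpace Y) (f : X ⟶ Y) (hf : Representable f) (h : LocP P f) : RepWith P f := by
  haveI := hP.bc
  haveI := hP.loc
  obtain ⟨V₀, q, hqe, hqs⟩ := hY.atlas
  have sq := hf.isPullback q
  have hfst : RepWith @Etale (hf.fst q) := (RepWith @Etale).of_isPullback sq.flip hqe
  have hsnd : P (hf.snd q).left := h (hf.fst q) q (hf.snd q) hfst hqe sq.w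
  exact (repWith_iff_of_chart f hf q hqe hqs (hf.fst q) (hf.snd q) sq P).2 hsnd

theorem locP_iff_repWith {P : MorphismProperty Scheme.{u}} (hP : GoodP P) {X Y : Sp S}
    (hY : IsAlgSpace Y) (f : X ⟶ Y) (hf : Representable f) : LocP P f ↔ RepWith P f := by
  haveI := hP.comp
  exact ⟨repWith_of_locP hP hY f hf, locP_of_repWith hP.etale_le f⟩

end Groth.Agent.Helper15
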