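import Groth.Agent.Lib.Helper16.AlgSp.SrcEtLocal
import Groth.Agent.Lib.Helper16.AlgSp.LfpSp
import Groth.Agent.Lib.Helper16.AlgSp.FlatSp
import Groth.Agent.Lib.Helper16.AlgSp.SmSp
import Groth.Agent.Lib.Helper15.AlgSpLocPRep

/-!
# `LocP P` for the listed classes: base change and composition (via helper16's engine)
-/

set_option autoImplicit false
universe u
open CategoryTheory CategoryTheory.Limits AlgebraicGeometry MorphismProperty Opposite
open AlgSp Groth.Agent.Helper16.AS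

namespace Groth.Agent.Helper15
variable {S : Scheme.{u}}

theorem srcEtLoc_of_listed (P : MorphismProperty Scheme.{u})
    (hP : P = @LocallyOfFiniteType ∨ P = @LocallyOfFinitePresentation ∨ P = @Flat ∨ P = @Smooth ∨
      P = @Etale ∨
      (∀ ⦃A B : Scheme.{u}⦄ (g : A ⟶ B), P g ↔ (LocallyQuasiFinite g ∧ LocallyOfFiniteType g)) ∨
      (∀ ⦃A B : Scheme.{u}⦄ (g : A ⟶ B), P g ↔ (LocallyOfFiniteType g ∧ FormallyUnramified g))) :
    SrcEtLoc P := by
  rcases hP with rfl | rfl | rfl | rfl | rfl | h | h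
  · exact srcEtLoc_lft
  · exact srcEtLoc_lfp
  · exact srcEtLoc_flat
  · exact srcEtLoc_smooth
  · exact srcEtLoc_etale
  · have : P = (@LocallyQuasiFinite ⊓ @LocallyOfFiniteType : MorphismProperty Scheme.{u}) := by
      ext A B g; exact h g
    rw [this]; exact srcEtLoc_lqf_lft
  · have : P = (@LocallyOfFiniteType ⊓ @FormallyUnramified : MorphismProperty Scheme.{u}) := by
      ext A B g; exact h g
    rw [this]; exact srcEtLoc_unramified

theorem locP_listed_of_isPullback (P : MorphismProperty Scheme.{u})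
    (hP : P = @LocallyOfFiniteType ∨ P = @LocallyOfFinitePresentation ∨ P = @Flat ∨ P = @Smooth ∨
      P = @Etale ∨
      (∀ ⦃A B : Scheme.{u}⦄ (g : A ⟶ B), P g ↔ (LocallyQuasiFinite g ∧ LocallyOfFiniteType g)) ∨
      (∀ ⦃A B : Scheme.{u}⦄ (g : A ⟶ B), P g ↔ (LocallyOfFiniteType g ∧ FormallyUnramified g)))
    {X Y X' Y' : Sp S} (hX : IsAlgSpace X) (hY : IsAlgSpace Y) (hY' : IsAlgSpace Y')
    {f : X ⟶ Y} {g : Y' ⟶ Y} {f' : X' ⟶ Y'} {g' : X' ⟶ X} (sq : IsPullback g' f' f g)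
    (hf : LocP P f) : LocP P f' :=
  locP_of_isPullback (goodP_of_listed P hP) (srcEtLoc_of_listed P hP) hX hY hY' sq hf

theorem locP_listed_comp (P : MorphismProperty Scheme.{u})
    (hP : P = @LocallyOfFiniteType ∨ P = @LocallyOfFinitePresentation ∨ P = @Flat ∨ P = @Smooth ∨
      P = @Etale ∨
      (∀ ⦃A B : Scheme.{u}⦄ (g : A ⟶ B), P g ↔ (LocallyQuasiFinite g ∧ LocallyOfFiniteType g)) ∨
      (∀ ⦃A B : Scheme.{u}⦄ (g : A ⟶ B), P g ↔ (LocallyOfFiniteType g ∧ FormallyUnramified g)))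
    {X Y Z : Sp S} (hX : IsAlgSpace X) (hY : IsAlgSpace Y) (hZ : IsAlgSpace Z)
    (f : X ⟶ Y) (g : Y ⟶ Z) (hf : LocP P f) (hg : LocP P g) : LocP P (f ≫ g) :=
  locP_comp (goodP_of_listed P hP) (srcEtLoc_of_listed P hP) hX hY hZ f g hf hg

end Groth.Agent.Helper15
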