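import Mathlib
import Groth.Agent.Lib.Helper15.AlgSpLim14
import Groth.Agent.Lib.Helper15.AlgSpLocPListed
import Groth.Agent.Lib.Helper15.AlgSpDiagMor

set_option autoImplicit false

universe u

open CategoryTheory CategoryTheory.Limits AlgebraicGeometry MorphismProperty Opposite
open AlgSp

namespace Groth.Agent.Helper15.AlgSpLim

variable {S : Scheme.{u}}

attribute [local instance] IsCofiltered.isConnected

/-- A morphism whose kernel pair has equal projections is a monomorphism. -/
theorem mono_of_fst_eq_snd {C : Type*} [Category C] {X Y : C} (f : X ⟶ Y) [HasPullback f f]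
    (h : pullback.fst f f = pullback.snd f f) : Mono f := by
  refine ⟨fun a b hab => ?_⟩
  have h1 : pullback.lift a b hab ≫ pullback.fst f f = a := pullback.lift_fst _ _ _
  have h2 : pullback.lift a b hab ≫ pullback.snd f f = b := pullback.lift_snd _ _ _
  exact h1.symm.trans ((congrArg (pullback.lift a b hab ≫ ·) h).trans h2)

/-- An affine morphism of algebraic spaces is separated. -/
theorem isSeparatedMor_of_isAffineMor {X Y : Sp S} (hX : IsAlgSpace X) (hY : IsAlgSpace Y)
    (f : X ⟶ Y) (hf : IsAffineMor f) : IsSeparatedMor f := by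
  have h2 : RepWith @IsAffineHom f := repWith_of_affRep _ ((isAffineMor_iff_affRep _).1 hf)
  rw [isSeparatedMor_iff_repWith hX hY f h2.rep]
  exact repWith_mono (fun _ _ g hg => by
    have : IsAffineHom g := hg
    infer_instance) h2

/-- The structure maps of a cone over a system over `B` all have the same composite to `B`. -/
theorem cone_comp_eq {I : Type u} [SmallCategory I] [IsCofiltered I] {B : Sp S} (D : I ⥤ Sp S)
    (t : D ⟶ (Functor.const I).obj B) (c : Cone D) (i j : I) :
    c.π.app i ≫ t.app i = c.π.app j ≫ t.app j := by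
  have key : ∀ {a b : I} (φ : a ⟶ b), c.π.app a ≫ t.app a = c.π.app b ≫ t.app b := by
    intro a b φ
    have h1 := t.naturality φ
    simp only [Functor.const_obj_obj, Functor.const_obj_map, Category.comp_id] at h1
    rw [← c.w φ, Category.assoc, h1]
  rw [← key (IsCofiltered.minToLeft i j), key (IsCofiltered.minToRight i j)]

set_option backward.isDefEq.respectTransparency false in
/-- A monomorphism into a limit from a quasi-compact space locally of finite type over the base
is a monomorphism into a finite stage. -/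
theorem exists_mono_finite_stage [QuasiSeparatedSpace ↥S] {I : Type u} [SmallCategory I]
    [IsCofiltered I] (B : Sp S) (hB : IsAlgSpace B) (D : I ⥤ Sp S)
    (hD : ∀ i, IsAlgSpace (D.obj i)) (t : D ⟶ (Functor.const I).obj B)
    (hDa : ∀ (i j : I) (φ : i ⟶ j), IsAffineMor (D.map φ))
    (c : Cone D) (hc : IsLimit c) (hqs : ∀ i, IsQuasiSeparatedSp (D.obj i))
    (Y : Sp S) (hY : IsAlgSpace Y) (hYqc : IsQuasiCompactSp Y) (y : Y ⟶ c.pt) [Mono y] (i₁ : I)
    (hYB : LocP @LocallyOfFiniteType (y ≫ c.π.app i₁ ≫ t.app i₁)) :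
    ∃ i₀ : I, ∀ (i : I) (_ : i ⟶ i₀), Mono (y ≫ c.π.app i) := by
  let DX : I ⥤ Sp S := (Functor.const I).obj Y
  let τ : DX ⟶ D :=
    { app := fun i => y ≫ c.π.app i
      naturality := fun i j φ => by
        change 𝟙 Y ≫ y ≫ c.π.app j = (y ≫ c.π.app i) ≫ D.map φ
        rw [Category.id_comp, Category.assoc, c.w] }
  let cX : Cone DX := constCone I Y
  have hcX : IsLimit cX := isLimitConstCone I Y
  have hg : ∀ i, y ≫ c.π.app i = cX.π.app i ≫ τ.app i := fun i => by
    change y ≫ c.π.app i = 𝟙 Y ≫ y ≫ c.π.app i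
    rw [Category.id_comp]
  let Z : I ⥤ Sp S := pbDiag DX D τ c y
  let cZ : Cone Z := pbCone DX D τ cX c y hg y
  have hcZ : IsLimit cZ := isLimitPbCone hg y hcX hc
  let t' : Z ⟶ (Functor.const I).obj Y :=
    { app := fun i => pbSnd DX D τ c y i
      naturality := fun i j φ => by
        change Z.map φ ≫ pbSnd DX D τ c y j = pbSnd DX D τ c y i ≫ 𝟙 Y
        rw [Category.comp_id]
        exact pbDiag_map_snd DX D τ c y φ }
  -- transitions are closed immersions
  have hZc : ∀ (i j : I) (φ : i ⟶ j), RepWith @IsClosedImmersion (Z.map φ) := by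
    intro i j φ
    have hsep : IsSeparatedMor (D.map φ) :=
      isSeparatedMor_of_isAffineMor (hD i) (hD j) _ (hDa i j φ)
    have h1 : RepWith @IsClosedImmersion
        (pullback.mapDesc (y ≫ c.π.app i) (y ≫ c.π.app i) (D.map φ)) :=
      repWith_mapDesc _ _ _ hsep
    have e1 : (y ≫ c.π.app i) ≫ D.map φ = y ≫ c.π.app j := by rw [Category.assoc, c.w]
    have h2 : Z.map φ = pullback.mapDesc (y ≫ c.π.app i) (y ≫ c.π.app i) (D.map φ) ≫
        (pullback.congrHom e1 e1).hom := by
      apply pullback.hom_ext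
      · simp [Z, pbDiag, DX, τ, pullback.map, pullback.mapDesc, pullback.congrHom]
      · simp [Z, pbDiag, DX, τ, pullback.map, pullback.mapDesc, pullback.congrHom]
    rw [h2]
    exact (RepWith @IsClosedImmersion).comp_mem _ _ h1 ((RepWith @IsClosedImmersion).of_isIso _)
  have hqcZ : ∀ i, IsQuasiCompactSp (Z.obj i) := fun i =>
    isQuasiCompactSp_of_isPullback (pb_isPullback DX D τ c y i) hYqc hYqc (hqs i)
  have hlft : ∀ i, LocP @LocallyOfFiniteType (y ≫ c.π.app i) := by
    intro i
    have h1 : LocP @LocallyOfFiniteType ((y ≫ c.π.app i) ≫ t.app i) := by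
      rw [Category.assoc, cone_comp_eq D t c i i₁]
      exact hYB
    exact locP_of_comp (P := @LocallyOfFiniteType) (P' := @LocallyOfFiniteType) (Q := ⊤)
      (fun f g h _ => by
        have := h
        exact locallyOfFiniteType_of_comp f g) hB _ _ h1 (fun _ _ _ _ _ _ _ _ => trivial)
  have hftZ : ∀ i, LocP @LocallyOfFiniteType (t'.app i) := fun i =>
    locP_listed_of_isPullback @LocallyOfFiniteType (Or.inl rfl) hY (hD i) hY
      (pb_isPullback DX D τ c y i) (hlft i)
  have hXZ : LocP @LocallyOfFinitePresentation (cZ.π.app i₁ ≫ t'.app i₁) := by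
    have h1 : cZ.π.app i₁ ≫ t'.app i₁ = pullback.snd y y := pbCone_π_snd DX D τ cX c y hg y i₁
    rw [h1]
    have hi : IsIso (pullback.snd y y) := Limits.isIso_snd_of_mono y
    exact locP_of_repWith etale_le_lfp _ (repWith_of_isIso @LocallyOfFinitePresentation _)
  obtain ⟨i₀, hi₀⟩ := exists_isIso_π_finite_stage Y hY Z t' hZc cZ hcZ hqcZ hftZ i₁ hXZ
  refine ⟨i₀, fun i φ => ?_⟩
  have hiso := hi₀ i φ
  apply mono_of_fst_eq_snd
  have h1 : cZ.π.app i ≫ pbFst DX D τ c y i = pullback.fst y y := by
    have := pbCone_π_fst DX D τ cX c y hg y i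
    rw [this]
    exact Category.comp_id _
  have h2 : cZ.π.app i ≫ pbSnd DX D τ c y i = pullback.snd y y :=
    pbCone_π_snd DX D τ cX c y hg y i
  have h3 : pullback.fst y y = pullback.snd y y := by
    rw [← cancel_mono y]
    exact pullback.condition
  change pbFst DX D τ c y i = pbSnd DX D τ c y i
  rw [← cancel_epi (cZ.π.app i), h1, h2, h3]

end Groth.Agent.Helper15.AlgSpLim
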