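import Mathlib
import Groth.Agent.Lib.Helper15.AlgSpLim15
import Groth.Agent.Lib.Helper15.AlgSpImm
import Groth.Agent.Lib.Helper15.AlgSpRepSrc

set_option autoImplicit false

universe u

open CategoryTheory CategoryTheory.Limits AlgebraicGeometry MorphismProperty Opposite
open AlgSp

namespace Groth.Agent.Helper15.AlgSpLim

variable {S : Scheme.{u}}

/-- The source of an affine morphism to a quasi-compact sheaf is quasi-compact. -/
theorem isQuasiCompactSp_of_isAffineMor {P W : Sp S} (f : P ⟶ W) (hf : IsAffineMor f)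
    (hW : IsQuasiCompactSp W) : IsQuasiCompactSp P := by
  obtain ⟨A, p, hA, hpe, hps⟩ := exists_affine_chart_of_isQuasiCompactSp hW
  obtain ⟨A', i, fst, sq, hA'⟩ := hf hA p
  have : CompactSpace A'.left := by
    have := hA'
    infer_instance
  exact ⟨A', fst, (RepWith @Etale).of_isPullback sq.flip hpe,
    (RepWith @Surjective).of_isPullback sq.flip hps, this⟩

/-- Affine morphisms are stable under base change. -/
theorem isAffineMor_of_isPullback {X Y X' Y' : Sp S} {f : X ⟶ Y} {g : Y' ⟶ Y} {f' : X' ⟶ Y'}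
    {g' : X' ⟶ X} (sq : IsPullback g' f' f g) (hf : IsAffineMor f) : IsAffineMor f' := by
  rw [isAffineMor_iff_affRep] at hf ⊢
  exact (AffRep (S := S) @IsAffineHom).of_isPullback sq hf

/-- An affine morphism is quasi-compact. -/
theorem isQuasiCompactMor_of_isAffineMor {X Y : Sp S} (f : X ⟶ Y) (hf : IsAffineMor f) :
    IsQuasiCompactMor f := by
  intro Z Z' _ hZqc g fst snd sq
  exact isQuasiCompactSp_of_isAffineMor snd (isAffineMor_of_isPullback sq hf) hZqc

/-- Opens of `|lim X_i|` contain, around each point, the preimage of a quasi-compact open of a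
finite stage. -/
theorem exists_qc_open_nbhd_of_limit {I : Type u} [SmallCategory I] [IsCofiltered I]
    (D : I ⥤ Sp S) (hD : ∀ i, IsAlgSpace (D.obj i))
    (hDa : ∀ (i j : I) (φ : i ⟶ j), IsAffineMor (D.map φ))
    (c : Cone D) (hc : IsLimit c) (O : Set (Points c.pt)) (hO : IsOpen O) (x : Points c.pt)
    (hx : x ∈ O) :
    ∃ (i : I) (Oi : Set (Points (D.obj i))), IsOpen Oi ∧ IsCompact Oi ∧
      Points.map (c.π.app i) x ∈ Oi ∧ Points.map (c.π.app i) ⁻¹' Oi ⊆ O := by
  obtain ⟨i⟩ : Nonempty I := IsCofiltered.nonempty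
  obtain ⟨U₀, p, hpe, hps⟩ := (hD i).atlas
  obtain ⟨u₀, hu₀⟩ := surjective_ofPt p hps (Points.map (c.π.app i) x)
  obtain ⟨_, ⟨V, hV, rfl⟩, hu₀V, -⟩ :=
    U₀.left.isBasis_affineOpens.exists_subset_of_mem_open (Set.mem_univ u₀) isOpen_univ
  let V' : U₀.left.Opens := V
  have hV' : IsAffineOpen V' := hV
  let Z : Over S := Over.mk (V'.ι ≫ U₀.hom)
  let ι : Z ⟶ U₀ := Over.homMk V'.ι rfl
  have hZ : IsAffine Z.left := hV'
  let g : (yon S).obj Z ⟶ D.obj i := (yon S).map ι ≫ p
  have hge : RepWith @Etale g :=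
    (RepWith @Etale).comp_mem _ _ ((repWith_yon_map_iff _ ι).2
      (inferInstanceAs (Etale V'.ι))) hpe
  obtain ⟨C⟩ := nonempty_limChart D hDa c hc i hZ g
  have hpt : Points.map (c.π.app i) x = Points.ofPt g (⟨u₀, hu₀V⟩ : V') := by
    rw [ofPt_comp_yon_map, ← hu₀]
    rfl
  obtain ⟨l, hlx, -⟩ := C.exists_point_L x _ hpt
  have hOL : IsOpen (Points.ofPt C.r ⁻¹' O) := Points.isOpen_iff.1 hO _ C.r
  have haff : ∀ {k l : Over i} (f : k ⟶ l), IsAffineHom ((C.T ⋙ Over.forget S).map f) :=
    fun f => C.isAffineHom_map f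
  obtain ⟨_, ⟨k, Vk, hVk, rfl⟩, hlV, hVle⟩ := TopologicalSpace.Opens.isBasis_iff_nbhd.1
    (isBasis_preimage_isAffineOpen _ _ C.isLimit) (U := ⟨_, hOL⟩) (x := l) (by
      change Points.ofPt C.r l ∈ O
      rw [hlx]; exact hx)
  let Vk' : (C.T.obj k).left.Opens := Vk
  have hVk' : IsAffineOpen Vk' := hVk
  refine ⟨k.left, Points.ofPt (C.q k) '' (Vk' : Set (C.T.obj k).left),
    isOpenMap_ofPt_of_etale (C.q k) (C.etale_q hge k) _ Vk'.isOpen,
    hVk'.isCompact.image (Points.continuous_ofPt _), ?_, ?_⟩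
  · exact ⟨(C.cL.π.app k).left l, hlV, by rw [C.ofPt_q_π, hlx]⟩
  · rintro x' ⟨v, hv, hvx'⟩
    obtain ⟨l', rfl, rfl⟩ := C.exists_point k x' v hvx'.symm
    exact hVle hv

/-- A compact subset of an open of `|lim X_i|` is contained in the preimage of a quasi-compact
open of a finite stage which is contained in the open. -/
theorem exists_qc_open_of_isCompact {I : Type u} [SmallCategory I] [IsCofiltered I]
    (D : I ⥤ Sp S) (hD : ∀ i, IsAlgSpace (D.obj i))
    (hDa : ∀ (i j : I) (φ : i ⟶ j), IsAffineMor (D.map φ))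
    (c : Cone D) (hc : IsLimit c) (E W : Set (Points c.pt)) (hE : IsCompact E) (hW : IsOpen W)
    (hEW : E ⊆ W) :
    ∃ (k : I) (Ok : Set (Points (D.obj k))), IsOpen Ok ∧ IsCompact Ok ∧
      E ⊆ Points.map (c.π.app k) ⁻¹' Ok ∧ Points.map (c.π.app k) ⁻¹' Ok ⊆ W := by
  refine hE.induction_on (p := fun E' => ∃ (k : I) (Ok : Set (Points (D.obj k))), IsOpen Ok ∧
    IsCompact Ok ∧ E' ⊆ Points.map (c.π.app k) ⁻¹' Ok ∧ Points.map (c.π.app k) ⁻¹' Ok ⊆ W)
    ?_ ?_ ?_ ?_
  · obtain ⟨k⟩ : Nonempty I := IsCofiltered.nonempty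
    exact ⟨k, ∅, isOpen_empty, isCompact_empty, Set.empty_subset _, by simp⟩
  · rintro s t hst ⟨k, Ok, h1, h2, h3, h4⟩
    exact ⟨k, Ok, h1, h2, hst.trans h3, h4⟩
  · rintro s t ⟨k₁, O₁, h1, h2, h3, h4⟩ ⟨k₂, O₂, h1', h2', h3', h4'⟩
    let f₁ := IsCofiltered.minToLeft k₁ k₂
    let f₂ := IsCofiltered.minToRight k₁ k₂
    have e₁ : Points.map (c.π.app (IsCofiltered.min k₁ k₂)) ⁻¹' (Points.map (D.map f₁) ⁻¹' O₁) =
        Points.map (c.π.app k₁) ⁻¹' O₁ := by
      rw [← Set.preimage_comp]
      congr 1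
      funext z
      change Points.map _ (Points.map _ z) = _
      rw [← Points.map_comp, c.w]
    have e₂ : Points.map (c.π.app (IsCofiltered.min k₁ k₂)) ⁻¹' (Points.map (D.map f₂) ⁻¹' O₂) =
        Points.map (c.π.app k₂) ⁻¹' O₂ := by
      rw [← Set.preimage_comp]
      congr 1
      funext z
      change Points.map _ (Points.map _ z) = _
      rw [← Points.map_comp, c.w]
    refine ⟨IsCofiltered.min k₁ k₂, Points.map (D.map f₁) ⁻¹' O₁ ∪ Points.map (D.map f₂) ⁻¹' O₂,
      (h1.preimage (Points.continuous_map _)).union (h1'.preimage (Points.continuous_map _)),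
      ?_, ?_, ?_⟩
    · exact (isCompact_preimage_of_isQuasiCompactMor (hD _) _
        (isQuasiCompactMor_of_isAffineMor _ (hDa _ _ f₁)) O₁ h1 h2).union
        (isCompact_preimage_of_isQuasiCompactMor (hD _) _
        (isQuasiCompactMor_of_isAffineMor _ (hDa _ _ f₂)) O₂ h1' h2')
    · rw [Set.preimage_union, e₁, e₂]
      exact Set.union_subset_union h3 h3'
    · rw [Set.preimage_union, e₁, e₂]
      exact Set.union_subset h4 h4'
  · intro x hx
    obtain ⟨i, Oi, h1, h2, h3, h4⟩ := exists_qc_open_nbhd_of_limit D hD hDa c hc W hW x (hEW hx)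
    refine ⟨Points.map (c.π.app i) ⁻¹' Oi, mem_nhdsWithin_of_mem_nhds
      ((h1.preimage (Points.continuous_map _)).mem_nhds h3), i, Oi, h1, h2, subset_rfl, h4⟩

attribute [local instance] IsCofiltered.isConnected in
/-- An immersion into a limit from a quasi-compact space locally of finite type over the base is
an immersion into a finite stage. -/
theorem exists_immersion_finite_stage {I : Type u} [SmallCategory I]
    [IsCofiltered I] (B : Sp S) (hB : IsAlgSpace B) (D : I ⥤ Sp S)
    (hD : ∀ i, IsAlgSpace (D.obj i)) (t : D ⟶ (Functor.const I).obj B)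
    (hDa : ∀ (i j : I) (φ : i ⟶ j), IsAffineMor (D.map φ))
    (c : Cone D) (hc : IsLimit c)
    (Y : Sp S) (hYqc : IsQuasiCompactSp Y) (y : Y ⟶ c.pt)
    (hy : RepWith @IsImmersion y) (i₁ : I)
    (hYB : LocP @LocallyOfFiniteType (y ≫ c.π.app i₁ ≫ t.app i₁)) :
    ∃ i₀ : I, ∀ (i : I) (_ : i ⟶ i₀), RepWith @IsImmersion (y ≫ c.π.app i) := by
  have hX : IsAlgSpace c.pt := isAlgSpace_limit D hD hDa c hc
  obtain ⟨hemb, hlc⟩ := isEmbedding_points_of_immersion hX y hy
  have hEc : IsCompact (Set.range (Points.map y)) := by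
    have := compactSpace_points_of_isQuasiCompactSp hYqc
    exact isCompact_range (Points.continuous_map y)
  obtain ⟨k, Ok, hOk, hOkc, hEOk, hOkW⟩ := exists_qc_open_of_isCompact D hD hDa c hc
    (Set.range (Points.map y)) (coborder (Set.range (Points.map y))) hEc hlc.isOpen_coborder
    subset_coborder
  obtain ⟨Uk, jk, hUk, hjk, hjkr⟩ := exists_open_subspace_of_isOpen (hD k) Ok hOk
  have hUkqc : IsQuasiCompactSp Uk := by
    rw [isQuasiCompactSp_iff_compactSpace_points hUk]
    have hemb := (isEmbedding_points_of_immersion (hD k) jk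
      (repWith_mono isOpenImmersion_le_isImmersion hjk)).1
    rw [← isCompact_univ_iff, hemb.isCompact_iff, Set.image_univ, hjkr]
    exact hOkc
  let G : Over (D.obj k) ⥤ Sp S := Over.pullback jk ⋙ Over.forget _
  let E' : Over k ⥤ Sp S := Over.post D ⋙ G
  let c' : Cone E' := G.mapCone ((Over.conePost D k).obj c)
  have hc' : IsLimit c' := isLimitOfPreserves G (Over.isLimitConePost k hc)
  let fstl : ∀ l : Over k, E'.obj l ⟶ D.obj l.left := fun l => pullback.fst (D.map l.hom) jk
  let sndl : ∀ l : Over k, E'.obj l ⟶ Uk := fun l => pullback.snd (D.map l.hom) jk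
  let fstU : c'.pt ⟶ c.pt := pullback.fst (c.π.app k) jk
  let sndU : c'.pt ⟶ Uk := pullback.snd (c.π.app k) jk
  have sqU : IsPullback fstU sndU (c.π.app k) jk := IsPullback.of_hasPullback _ _
  have sql : ∀ l : Over k, IsPullback (fstl l) (sndl l) (D.map l.hom) jk :=
    fun l => IsPullback.of_hasPullback _ _
  have hmap : ∀ {l l' : Over k} (f : l ⟶ l'),
      IsPullback (E'.map f) (fstl l) (fstl l') (D.map f.left) :=
    fun f => isPullback_overPullback_map jk ((Over.post D).map f)
  have hπ : ∀ l : Over k, IsPullback (c'.π.app l) fstU (fstl l) (c.π.app l.left) :=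
    fun l => isPullback_overPullback_map jk (((Over.conePost D k).obj c).π.app l)
  have hfstU : RepWith @IsOpenImmersion fstU := (RepWith @IsOpenImmersion).of_isPullback sqU.flip hjk
  have hfstl : ∀ l, RepWith @IsOpenImmersion (fstl l) := fun l =>
    (RepWith @IsOpenImmersion).of_isPullback (sql l).flip hjk
  have : Mono fstU := mono_of_repWith isOpenImmersion_le_mono _ hfstU
  have hrangeU : Set.range (Points.map fstU) = Points.map (c.π.app k) ⁻¹' Ok := by
    ext x
    constructor
    · rintro ⟨u, rfl⟩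
      change Points.map _ (Points.map _ u) ∈ Ok
      rw [← Points.map_comp, sqU.w, Points.map_comp, ← hjkr]
      exact ⟨_, rfl⟩
    · intro hx
      change Points.map (c.π.app k) x ∈ Ok at hx
      rw [← hjkr] at hx
      obtain ⟨v, hv⟩ := hx
      obtain ⟨p, hp, -⟩ := exists_point_of_isPullback sqU x v hv.symm
      exact ⟨p, hp⟩
  obtain ⟨y', hy'⟩ := (factors_through_open_iff fstU hfstU y).2 (by rw [hrangeU]; exact hEOk)
  have hUalg : IsAlgSpace c'.pt := isAlgSpace_of_representable fstU hfstU.rep hX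
  have hy'imm : RepWith @IsImmersion y' := by
    apply repWith_of_comp_mono y' fstU
    rw [hy']; exact hy
  have hy'ci : RepWith @IsClosedImmersion y' := by
    rw [repWith_isClosedImmersion_iff_isClosed_range hUalg y' hy'imm]
    have : Set.range (Points.map y') = Points.map fstU ⁻¹' (closure (Set.range (Points.map y))) := by
      have hinj : Function.Injective (Points.map fstU) :=
        (injOnFieldPts_of_mono fstU).injective_points_map
      ext u
      constructor
      · rintro ⟨z, rfl⟩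
        apply subset_closure
        exact ⟨z, by rw [← hy', Points.map_comp]⟩
      · intro hu
        have h1 : Points.map fstU u ∈ coborder (Set.range (Points.map y)) :=
          hOkW (by rw [← hrangeU]; exact ⟨u, rfl⟩)
        have h2 : Points.map fstU u ∈ Set.range (Points.map y) := by
          rw [← coborder_inter_closure (s := Set.range (Points.map y))]
          exact ⟨h1, hu⟩
        obtain ⟨z, hz⟩ := h2
        refine ⟨z, hinj ?_⟩
        rw [← Points.map_comp, hy', hz]
    rw [this]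
    exact isClosed_closure.preimage (Points.continuous_map _)
  -- the system over `B`
  let t' : E' ⟶ (Functor.const (Over k)).obj B :=
    { app := fun l => fstl l ≫ t.app l.left
      naturality := fun l l' f => by
        change E'.map f ≫ fstl l' ≫ t.app l'.left = (fstl l ≫ t.app l.left) ≫ 𝟙 B
        have h1 := t.naturality f.left
        simp only [Functor.const_obj_obj, Functor.const_obj_map, Category.comp_id] at h1
        refine Eq.trans ?_ (Category.comp_id _).symm
        rw [← Category.assoc, (hmap f).w, Category.assoc, h1] }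
  have hE'a : ∀ (l l' : Over k) (f : l ⟶ l'), IsAffineMor (E'.map f) := fun l l' f =>
    isAffineMor_of_isPullback (hmap f).flip (hDa _ _ f.left)
  have hqc' : ∀ l, IsQuasiCompactSp (E'.obj l) := fun l =>
    isQuasiCompactSp_of_isAffineMor (sndl l) (isAffineMor_of_isPullback (sql l) (hDa _ _ l.hom))
      hUkqc
  let l₁ : Over k := Over.mk (𝟙 k)
  have hYB' : LocP @LocallyOfFiniteType (y' ≫ c'.π.app l₁ ≫ t'.app l₁) := by
    have h1 : y' ≫ c'.π.app l₁ ≫ t'.app l₁ = y ≫ c.π.app i₁ ≫ t.app i₁ := by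
      change y' ≫ c'.π.app l₁ ≫ fstl l₁ ≫ t.app k = _
      rw [← Category.assoc (c'.π.app l₁), (hπ l₁).w, Category.assoc, ← Category.assoc y', hy']
      change y ≫ c.π.app k ≫ t.app k = _
      rw [cone_comp_eq D t c k i₁]
    rw [h1]; exact hYB
  obtain ⟨l₀, hl₀⟩ := exists_closedImmersion_finite_stage B hB E' t' hE'a c' hc' hqc' Y y' hy'ci
    l₁ hYB'
  refine ⟨l₀.left, fun i φ => ?_⟩
  let l : Over k := Over.mk (φ ≫ l₀.hom)
  let f : l ⟶ l₀ := Over.homMk φ rfl
  have h1 : RepWith @IsClosedImmersion (y' ≫ c'.π.app l) := hl₀ l f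
  have h2 : y ≫ c.π.app i = (y' ≫ c'.π.app l) ≫ fstl l := by
    rw [Category.assoc, (hπ l).w, ← Category.assoc, hy']
    rfl
  rw [h2]
  exact (RepWith @IsImmersion).comp_mem _ _ (repWith_mono isClosedImmersion_le_isImmersion h1)
    (repWith_mono isOpenImmersion_le_isImmersion (hfstl l))

end Groth.Agent.Helper15.AlgSpLim
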