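import Mathlib
import Groth.Agent.Lib.Helper15.AlgSpLim16

set_option autoImplicit false
set_option linter.unnecessarySimpa false

universe u

open CategoryTheory CategoryTheory.Limits AlgebraicGeometry MorphismProperty Opposite
open AlgSp Topology

namespace Groth.Agent.Helper15.AlgSpLim

attribute [local instance] IsCofiltered.isConnected

/-- A constructible subset of an affine scheme is the image of a morphism from an affine scheme. -/
theorem exists_affine_range_eq_of_isConstructible {Z : Scheme.{u}} [IsAffine Z] {s : Set Z}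
    (hs : IsConstructible s) :
    ∃ (Q : Scheme.{u}) (_ : IsAffine Q) (j : Q ⟶ Z), Set.range j = s := by
  let e := Z.isoSpec
  have hs' : IsConstructible (e.inv ⁻¹' s) :=
    hs.preimage_of_isOpenEmbedding (e.inv.isOpenEmbedding)
  obtain ⟨R, _, φ, hφ⟩ := PrimeSpectrum.exists_range_eq_of_isConstructible hs'
  refine ⟨Spec (CommRingCat.of R), inferInstance, Spec.map (CommRingCat.ofHom φ) ≫ e.inv, ?_⟩
  rw [Scheme.Hom.comp_base, TopCat.coe_comp, Set.range_comp]
  have : Set.range (Spec.map (CommRingCat.ofHom φ)) = e.inv ⁻¹' s := hφ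
  rw [this, Set.image_preimage_eq]
  exact e.inv.homeomorph.surjective


section EmptyLimit

variable {K : Type u} [SmallCategory K] [IsCofiltered K] (T : K ⥤ Scheme.{u})
  {V₀ : Scheme.{u}} (z : T ⟶ (Functor.const K).obj V₀)

/-- If the base change of `j : Q ⟶ V₀` to a cofiltered limit of affine schemes over `V₀` is
empty, then so is the base change to some stage. -/
theorem exists_isEmpty_pullback_of_isLimit [hT : ∀ k, IsAffine (T.obj k)] (cL : Cone T)
    (hcL : IsLimit cL) (zL : cL.pt ⟶ V₀) (hzL : ∀ k, cL.π.app k ≫ z.app k = zL)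
    [IsAffine V₀] {Q : Scheme.{u}} [IsAffine Q] (j : Q ⟶ V₀) (hE : IsEmpty ↥(pullback j zL)) :
    ∃ k, IsEmpty ↥(pullback j (z.app k)) := by
  by_contra hne
  push Not at hne
  let cY : Cone ((Functor.const K).obj V₀) := constCone K V₀
  have hcY : IsLimit cY := isLimitConstCone K V₀
  have hg : ∀ k, zL ≫ cY.π.app k = cL.π.app k ≫ z.app k := fun k => by
    rw [hzL k]; exact Category.comp_id _
  let DQ : K ⥤ Scheme.{u} := pbDiag T ((Functor.const K).obj V₀) z cY j
  let cQ : Cone DQ := pbCone T ((Functor.const K).obj V₀) z cL cY zL hg j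
  have hcQ : IsLimit cQ := isLimitPbCone hg j hcL hcY
  have hcYπ : ∀ k, cY.π.app k = 𝟙 V₀ := fun k => rfl
  have hobj : ∀ k, DQ.obj k = pullback (z.app k) (j ≫ cY.π.app k) := fun k => rfl
  have hDQaff : ∀ k, IsAffine (DQ.obj k) := fun k => by
    rw [hobj]
    have : IsAffine (((Functor.const K).obj V₀).obj k) := ‹IsAffine V₀›
    infer_instance
  have hDQmap : ∀ {k l : K} (f : k ⟶ l), IsAffineHom (DQ.map f) := fun f => inferInstance
  have hDQne : ∀ k, Nonempty ↥(DQ.obj k) := fun k => by
    have h1 := hne k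
    by_contra h2
    rw [not_nonempty_iff, hobj, Scheme.isEmpty_pullback_iff] at h2
    have h3 : ¬ IsEmpty ↥(pullback j (z.app k)) := not_isEmpty_iff.2 h1
    apply h3
    rw [Scheme.isEmpty_pullback_iff]
    rw [hcYπ, Category.comp_id] at h2
    exact h2.symm
  have hne' : Nonempty ↥cQ.pt := Scheme.nonempty_of_isLimit DQ cQ hcQ
  have hpt : cQ.pt = pullback zL j := rfl
  rw [hpt] at hne'
  rw [Scheme.isEmpty_pullback_iff] at hE
  have : IsEmpty ↥(pullback zL j) := by
    rw [Scheme.isEmpty_pullback_iff]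
    exact hE.symm
  exact this.elim hne'.some

/-- Surjectivity of a base change of a finitely presented morphism of affine schemes to a
cofiltered limit of affine schemes descends to a finite stage. -/
theorem exists_surjective_snd_of_isLimit_affine [hT : ∀ k, IsAffine (T.obj k)] (cL : Cone T)
    (hcL : IsLimit cL) (zL : cL.pt ⟶ V₀) (hzL : ∀ k, cL.π.app k ≫ z.app k = zL)
    [IsAffine V₀] {U₀ : Scheme.{u}} [IsAffine U₀] (u₀ : U₀ ⟶ V₀)
    [LocallyOfFinitePresentation u₀] (hs : Surjective (pullback.snd u₀ zL)) :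
    ∃ k₁, ∀ (k : K) (_ : k ⟶ k₁), Surjective (pullback.snd u₀ (z.app k)) := by
  have hE : IsConstructible (Set.range u₀) := by
    rw [← Set.image_univ]
    exact u₀.isConstructible_image IsConstructible.univ
  obtain ⟨Q, hQ, j, hj⟩ := exists_affine_range_eq_of_isConstructible hE.compl
  have key : ∀ {Y : Scheme.{u}} (y : Y ⟶ V₀),
      Surjective (pullback.snd u₀ y) ↔ IsEmpty ↥(pullback j y) := by
    intro Y y
    rw [Scheme.isEmpty_pullback_iff, hj, surjective_iff, ← Set.range_eq_univ,
      Scheme.Pullback.range_snd, Set.preimage_eq_univ_iff, Set.disjoint_compl_left_iff_subset]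
  obtain ⟨k₁, hk₁⟩ := exists_isEmpty_pullback_of_isLimit T z cL hcL zL hzL j ((key zL).1 hs)
  refine ⟨k₁, fun k f => (key _).2 ?_⟩
  have hzf : T.map f ≫ z.app k₁ = z.app k := by
    have := z.naturality f
    simpa using this
  let F : pullback j (z.app k) ⟶ pullback j (z.app k₁) :=
    pullback.map _ _ _ _ (𝟙 Q) (T.map f) (𝟙 V₀) (by simp) (by simp [hzf])
  exact Function.isEmpty F

end EmptyLimit

end Groth.Agent.Helper15.AlgSpLim
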