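import Groth.Agent.Lib.Helper15.AlgSpEtCl
import Groth.Prelude.Def_AlgSpDec

set_option autoImplicit false
universe u
open CategoryTheory CategoryTheory.Limits AlgebraicGeometry MorphismProperty Opposite
open AlgSp Groth.Agent.Helper16.AS

namespace Groth.Agent.Helper15
variable {S : Scheme.{u}}

theorem locP_of_one_chart {P : MorphismProperty Scheme.{u}} (hP : GoodP P) (hsrc : SrcEtLoc P)
    [IsZariskiLocalAtSource P] {X Y : Sp S} (hX : IsAlgSpace X) (hY : IsAlgSpace Y) (f : X ⟶ Y)
    {U V : Over S} (a : (yon S).obj U ⟶ X) (b : (yon S).obj V ⟶ Y) (h : U ⟶ V)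
    (ha : RepWith @Etale a) (has : RepWith @Surjective a) (hb : RepWith @Etale b)
    (comm : a ≫ f = (yon S).map h ≫ b) (hh : P h.left) : LocP P f := by
  haveI := hP.comp
  haveI := hP.bc
  apply locP_of_source_chart hP.etale_le hsrc hX hY f a ha has
  rw [comm]
  exact locP_comp hP hsrc (IsAlgSpace.yon_obj U) (IsAlgSpace.yon_obj V) hY _ b
    (locP_of_repWith hP.etale_le _ ((repWith_yon_map_iff _ h).2 hh))
    (locP_of_repWith hP.etale_le b (repWith_mono hP.etale_le hb))

theorem locP_listed_of_one_chart (P : MorphismProperty Scheme.{u})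
    (hP : P = @LocallyOfFiniteType ∨ P = @LocallyOfFinitePresentation ∨ P = @Flat ∨ P = @Smooth ∨
      P = @Etale ∨
      (∀ ⦃A B : Scheme.{u}⦄ (g : A ⟶ B), P g ↔ (LocallyQuasiFinite g ∧ LocallyOfFiniteType g)) ∨
      (∀ ⦃A B : Scheme.{u}⦄ (g : A ⟶ B), P g ↔ (LocallyOfFiniteType g ∧ FormallyUnramified g)))
    {X Y : Sp S} (hX : IsAlgSpace X) (hY : IsAlgSpace Y) (f : X ⟶ Y)
    {U V : Over S} (a : (yon S).obj U ⟶ X) (b : (yon S).obj V ⟶ Y) (h : U ⟶ V)
    (ha : RepWith @Etale a) (has : RepWith @Surjective a) (hb : RepWith @Etale b)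
    (comm : a ≫ f = (yon S).map h ≫ b) (hh : P h.left) : LocP P f := by
  have hG := goodP_of_listed P hP
  have hsrc := srcEtLoc_of_listed P hP
  rcases hP with rfl | rfl | rfl | rfl | rfl | h' | h'
  · exact locP_of_one_chart hG hsrc hX hY f a b h ha has hb comm hh
  · exact locP_of_one_chart hG hsrc hX hY f a b h ha has hb comm hh
  · exact locP_of_one_chart hG hsrc hX hY f a b h ha has hb comm hh
  · exact locP_of_one_chart hG hsrc hX hY f a b h ha has hb comm hh
  · exact locP_of_one_chart hG hsrc hX hY f a b h ha has hb comm hh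
  · have : P = (@LocallyQuasiFinite ⊓ @LocallyOfFiniteType : MorphismProperty Scheme.{u}) := by
      ext A B g; exact h' g
    subst this
    exact locP_of_one_chart hG hsrc hX hY f a b h ha has hb comm hh
  · have : P = (@LocallyOfFiniteType ⊓ @FormallyUnramified : MorphismProperty Scheme.{u}) := by
      ext A B g; exact h' g
    subst this
    exact locP_of_one_chart hG hsrc hX hY f a b h ha has hb comm hh

theorem locP_iff_forall_hasAtMor_nbhd {P : MorphismProperty Scheme.{u}} (hP : GoodP P)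
    (hsrc : SrcEtLoc P) [IsZariskiLocalAtSource P] {X Y : Sp S} (hX : IsAlgSpace X)
    (hY : IsAlgSpace Y) (f : X ⟶ Y) :
    LocP P f ↔ ∀ x : Points X,
      HasAtMor (fun U _ h u => ∃ W : U.Opens, u ∈ W ∧ P (W.ι ≫ h)) f x := by
  haveI := hP.comp
  haveI := hP.bc
  constructor
  · intro hf x
    obtain ⟨V₀, U₀, q, r, h₀, hqe, hqs, hre, hrs, hh, hP₀⟩ := exists_charts_of_locP hX hY f hf
    have hfst : RepWith @Etale (pullback.fst f q) :=
      (RepWith @Etale).of_isPullback (IsPullback.of_hasPullback f q).flip hqe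
    have hfsts : RepWith @Surjective (pullback.fst f q) :=
      (RepWith @Surjective).of_isPullback (IsPullback.of_hasPullback f q).flip hqs
    have hae : RepWith @Etale (r ≫ pullback.fst f q) := (RepWith @Etale).comp_mem _ _ hre hfst
    have has : RepWith @Surjective (r ≫ pullback.fst f q) :=
      (RepWith @Surjective).comp_mem _ _ hrs hfsts
    obtain ⟨u, hu⟩ := surjective_ofPt _ has x
    refine ⟨U₀, V₀, r ≫ pullback.fst f q, q, h₀, u, hae, hqe, ?_, hu, ⊤, trivial, ?_⟩
    · rw [Category.assoc, pullback.condition, ← Category.assoc, hh]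
    · exact P.comp_mem _ _ (hP.etale_le _ _ _ (inferInstance : Etale (⊤ : U₀.left.Opens).ι)) hP₀
  · intro h
    obtain ⟨U₀, a₀, ha₀e, ha₀s⟩ := hX.atlas
    choose U V a b hh u hae hbe hcomm hux W huW hPW using fun u₀ : U₀.left => h (Points.ofPt a₀ u₀)
    let WO : U₀.left → Over S := fun i => Over.mk ((W i).ι ≫ (U i).hom)
    let ιW : ∀ i, WO i ⟶ U i := fun i => CategoryTheory.Over.homMk (W i).ι rfl
    have hιW : ∀ i, RepWith @Etale ((yon S).map (ιW i)) := fun i =>
      (repWith_yon_map_iff _ (ιW i)).2 (inferInstance : Etale (W i).ι)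
    have hg : ∀ i, RepWith @Etale ((yon S).map (ιW i) ≫ a i) := fun i =>
      (RepWith @Etale).comp_mem _ _ (hιW i) (hae i)
    have hcov : IsEtCover (fun i => (yon S).obj (WO i)) (fun i => (yon S).map (ιW i) ≫ a i) := by
      refine ⟨fun i => isEtaleMor_of_repWith_etale _ (hg i), fun x => ?_⟩
      obtain ⟨u₀, rfl⟩ := surjective_ofPt a₀ ha₀s x
      refine ⟨u₀, Points.ofScheme (WO u₀) ⟨u u₀, huW u₀⟩, ?_⟩
      rw [← Points.ofPt_eq_map_ofScheme, ofPt_comp_yon_map, ← hux u₀]
      rfl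
    refine ((isLocalOnSource_et_locP_of_srcEtLoc hP.etale_le hsrc) _ _ hX
      (fun i => IsAlgSpace.yon_obj _) hcov f hY).2 (fun i => ?_)
    have e : ((yon S).map (ιW i) ≫ a i) ≫ f = (yon S).map (ιW i ≫ hh i) ≫ b i := by
      rw [Category.assoc, hcomm i, Functor.map_comp, Category.assoc]
    rw [e]
    exact locP_comp hP hsrc (IsAlgSpace.yon_obj _) (IsAlgSpace.yon_obj _) hY _ (b i)
      (locP_of_repWith hP.etale_le _ ((repWith_yon_map_iff _ _).2 (hPW i)))
      (locP_of_repWith hP.etale_le (b i) (repWith_mono hP.etale_le (hbe i)))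


theorem locP_listed_iff_forall_hasAtMor_nbhd (P : MorphismProperty Scheme.{u})
    (hP : P = @LocallyOfFiniteType ∨ P = @LocallyOfFinitePresentation ∨ P = @Flat ∨ P = @Smooth ∨
      P = @Etale ∨
      (∀ ⦃A B : Scheme.{u}⦄ (g : A ⟶ B), P g ↔ (LocallyQuasiFinite g ∧ LocallyOfFiniteType g)) ∨
      (∀ ⦃A B : Scheme.{u}⦄ (g : A ⟶ B), P g ↔ (LocallyOfFiniteType g ∧ FormallyUnramified g)))
    {X Y : Sp S} (hX : IsAlgSpace X) (hY : IsAlgSpace Y) (f : X ⟶ Y) :
    LocP P f ↔ ∀ x : Points X,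
      HasAtMor (fun U _ h u => ∃ W : U.Opens, u ∈ W ∧ P (W.ι ≫ h)) f x := by
  have hG := goodP_of_listed P hP
  have hsrc := srcEtLoc_of_listed P hP
  rcases hP with rfl | rfl | rfl | rfl | rfl | h' | h'
  · exact locP_iff_forall_hasAtMor_nbhd hG hsrc hX hY f
  · exact locP_iff_forall_hasAtMor_nbhd hG hsrc hX hY f
  · exact locP_iff_forall_hasAtMor_nbhd hG hsrc hX hY f
  · exact locP_iff_forall_hasAtMor_nbhd hG hsrc hX hY f
  · exact locP_iff_forall_hasAtMor_nbhd hG hsrc hX hY f
  · have : P = (@LocallyQuasiFinite ⊓ @LocallyOfFiniteType : MorphismProperty Scheme.{u}) := by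
      ext A B g; exact h' g
    subst this
    exact locP_iff_forall_hasAtMor_nbhd hG hsrc hX hY f
  · have : P = (@LocallyOfFiniteType ⊓ @FormallyUnramified : MorphismProperty Scheme.{u}) := by
      ext A B g; exact h' g
    subst this
    exact locP_iff_forall_hasAtMor_nbhd hG hsrc hX hY f

end Groth.Agent.Helper15
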