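import Mathlib
import Groth.Agent.Lib.Helper15.AlgSpLim17
import Groth.Agent.Lib.Helper15.AlgSpLocPListed2
import Groth.Agent.Lib.Helper15.AlgSpFibre

set_option autoImplicit false

universe u

open CategoryTheory CategoryTheory.Limits AlgebraicGeometry MorphismProperty Opposite
open AlgSp

namespace Groth.Agent.Helper15.AlgSpLim

variable {S : Scheme.{u}}

/-- A chart of a morphism `f₀ : X₀ ⟶ Y₀` of sheaves by a morphism `u₀ : U₀ ⟶ V₀` of affine
schemes: `V₀ ⟶ Y₀` and `U₀ ⟶ X₀ ×_{Y₀} V₀` are etale and surjective. -/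
structure MorChart {X₀ Y₀ : Sp S} (f₀ : X₀ ⟶ Y₀) where
  V₀ : Over S
  U₀ : Over S
  hV₀ : IsAffine V₀.left
  hU₀ : IsAffine U₀.left
  g : (yon S).obj V₀ ⟶ Y₀
  hge : RepWith @Etale g
  hgs : RepWith @Surjective g
  h₀ : (yon S).obj U₀ ⟶ pullback f₀ g
  hhe : RepWith @Etale h₀
  hhs : RepWith @Surjective h₀
  u₀ : U₀ ⟶ V₀
  hu₀ : (yon S).map u₀ = h₀ ≫ pullback.snd f₀ g

/-- Charts exist for morphisms of quasi-compact algebraic spaces with quasi-separated target. -/
theorem nonempty_morChart [QuasiSeparatedSpace ↥S] {X₀ Y₀ : Sp S} (f₀ : X₀ ⟶ Y₀) (hXqc : IsQuasiCompactSp X₀) (hYqc : IsQuasiCompactSp Y₀)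
    (hYqs : IsQuasiSeparatedSp Y₀) : Nonempty (MorChart f₀) := by
  obtain ⟨V₀, g, hV₀, hge, hgs⟩ := exists_affine_chart_of_isQuasiCompactSp hYqc
  have sq : IsPullback (pullback.fst f₀ g) (pullback.snd f₀ g) f₀ g := IsPullback.of_hasPullback _ _
  have hVqc : IsQuasiCompactSp ((yon S).obj V₀) := by
    have : CompactSpace V₀.left := inferInstance
    exact (isQuasiCompactSp_yon_iff V₀).2 inferInstance
  have hWqc : IsQuasiCompactSp (pullback f₀ g) := isQuasiCompactSp_of_isPullback sq hXqc hVqc hYqs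
  obtain ⟨U₀, h₀, hU₀, hhe, hhs⟩ := exists_affine_chart_of_isQuasiCompactSp hWqc
  exact ⟨{ V₀ := V₀, U₀ := U₀, hV₀ := hV₀, hU₀ := hU₀, g := g, hge := hge, hgs := hgs, h₀ := h₀,
           hhe := hhe, hhs := hhs, u₀ := (yon S).preimage (h₀ ≫ pullback.snd f₀ g),
           hu₀ := Functor.map_preimage _ _ }⟩


namespace MorChart

variable {X₀ Y₀ : Sp S} {f₀ : X₀ ⟶ Y₀} (M : MorChart f₀)

/-- The chart of the source. -/
noncomputable def a₀ : (yon S).obj M.U₀ ⟶ X₀ := M.h₀ ≫ pullback.fst f₀ M.g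

theorem comm : M.a₀ ≫ f₀ = (yon S).map M.u₀ ≫ M.g := by
  rw [a₀, M.hu₀, Category.assoc, Category.assoc, pullback.condition]

/-- Base change of a chart: the induced chart of a base change `f'` of `f₀`. -/
theorem exists_baseChange {X' Y' : Sp S} {pY' : Y' ⟶ Y₀} {pX' : X' ⟶ X₀} {f' : X' ⟶ Y'}
    (hX' : IsPullback pX' f' f₀ pY') {V' : Over S} (g' : (yon S).obj V' ⟶ Y') (z : V' ⟶ M.V₀)
    (sqV : IsPullback g' ((yon S).map z) pY' M.g) :
    ∃ h' : (yon S).obj (pullback M.u₀ z) ⟶ pullback f' g',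
      RepWith @Etale h' ∧ RepWith @Surjective h' ∧
      h' ≫ pullback.snd f' g' = (yon S).map (pullback.snd M.u₀ z) ∧
      RepWith @Etale g' ∧ RepWith @Surjective g' := by
  have sq₀ : IsPullback (pullback.fst f₀ M.g) (pullback.snd f₀ M.g) f₀ M.g :=
    IsPullback.of_hasPullback _ _
  have sq' : IsPullback (pullback.fst f' g') (pullback.snd f' g') f' g' :=
    IsPullback.of_hasPullback _ _
  -- the map `W' ⟶ W₀`
  have hw : (pullback.fst f' g' ≫ pX') ≫ f₀ = (pullback.snd f' g' ≫ (yon S).map z) ≫ M.g := by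
    rw [Category.assoc, hX'.w, ← Category.assoc, sq'.w, Category.assoc, sqV.w, Category.assoc]
  let m : pullback f' g' ⟶ pullback f₀ M.g := sq₀.lift _ _ hw
  have hm1 : m ≫ pullback.fst f₀ M.g = pullback.fst f' g' ≫ pX' := sq₀.lift_fst _ _ _
  have hm2 : m ≫ pullback.snd f₀ M.g = pullback.snd f' g' ≫ (yon S).map z := sq₀.lift_snd _ _ _
  have sqW : IsPullback m (pullback.snd f' g') (pullback.snd f₀ M.g) ((yon S).map z) := by
    refine IsPullback.of_right (h₁₂ := pullback.fst f₀ M.g) (h₂₂ := M.g) (v₁₃ := f₀) ?_ hm2 sq₀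
    rw [hm1, ← sqV.w]
    exact sq'.paste_horiz hX'
  have sqU : IsPullback ((yon S).map (pullback.fst M.u₀ z)) ((yon S).map (pullback.snd M.u₀ z))
      ((yon S).map M.u₀) ((yon S).map z) := (IsPullback.of_hasPullback M.u₀ z).map (yon S)
  have hw' : ((yon S).map (pullback.fst M.u₀ z) ≫ M.h₀) ≫ pullback.snd f₀ M.g =
      (yon S).map (pullback.snd M.u₀ z) ≫ (yon S).map z := by
    rw [Category.assoc, ← M.hu₀, sqU.w]
  let h' : (yon S).obj (pullback M.u₀ z) ⟶ pullback f' g' := sqW.lift _ _ hw'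
  have hh1 : h' ≫ m = (yon S).map (pullback.fst M.u₀ z) ≫ M.h₀ := sqW.lift_fst _ _ _
  have hh2 : h' ≫ pullback.snd f' g' = (yon S).map (pullback.snd M.u₀ z) := sqW.lift_snd _ _ _
  have sqH : IsPullback h' ((yon S).map (pullback.fst M.u₀ z)) m M.h₀ := by
    refine IsPullback.of_right (h₁₂ := pullback.snd f' g') (h₂₂ := pullback.snd f₀ M.g)
      (v₁₃ := (yon S).map z) ?_ hh1 sqW.flip
    rw [hh2, ← M.hu₀]
    exact sqU.flip
  refine ⟨h', (RepWith @Etale).of_isPullback sqH.flip M.hhe,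
    (RepWith @Surjective).of_isPullback sqH.flip M.hhs, hh2,
    (RepWith @Etale).of_isPullback sqV.flip M.hge,
    (RepWith @Surjective).of_isPullback sqV.flip M.hgs⟩


/-- For the listed classes, a base change `f'` has `P` iff the base changed chart has `P`. -/
theorem locP_baseChange_iff (P : MorphismProperty Scheme.{u})
    (hP : P = @LocallyOfFiniteType ∨ P = @LocallyOfFinitePresentation ∨ P = @Flat ∨ P = @Smooth ∨
      P = @Etale ∨
      (∀ ⦃A B : Scheme.{u}⦄ (g : A ⟶ B), P g ↔ (LocallyQuasiFinite g ∧ LocallyOfFiniteType g)) ∨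
      (∀ ⦃A B : Scheme.{u}⦄ (g : A ⟶ B), P g ↔ (LocallyOfFiniteType g ∧ FormallyUnramified g)))
    {X' Y' : Sp S} (hXa : IsAlgSpace X') (hYa : IsAlgSpace Y')
    {pY' : Y' ⟶ Y₀} {pX' : X' ⟶ X₀} {f' : X' ⟶ Y'}
    (hX' : IsPullback pX' f' f₀ pY') {V' : Over S} (g' : (yon S).obj V' ⟶ Y') (z : V' ⟶ M.V₀)
    (sqV : IsPullback g' ((yon S).map z) pY' M.g) :
    LocP P f' ↔ P (pullback.snd M.u₀ z).left := by
  obtain ⟨h', hhe', hhs', hh2, hge', hgs'⟩ := M.exists_baseChange hX' g' z sqV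
  have sq' : IsPullback (pullback.fst f' g') (pullback.snd f' g') f' g' :=
    IsPullback.of_hasPullback _ _
  have hfe : RepWith @Etale (pullback.fst f' g') := (RepWith @Etale).of_isPullback sq'.flip hge'
  have hfs : RepWith @Surjective (pullback.fst f' g') :=
    (RepWith @Surjective).of_isPullback sq'.flip hgs'
  have hae : RepWith @Etale (h' ≫ pullback.fst f' g') := (RepWith @Etale).comp_mem _ _ hhe' hfe
  have has : RepWith @Surjective (h' ≫ pullback.fst f' g') :=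
    (RepWith @Surjective).comp_mem _ _ hhs' hfs
  have comm : (h' ≫ pullback.fst f' g') ≫ f' = (yon S).map (pullback.snd M.u₀ z) ≫ g' := by
    rw [Category.assoc, sq'.w, ← Category.assoc, hh2]
  exact ⟨fun h => h _ _ _ hae hge' comm,
    fun h => locP_listed_of_one_chart P hP hXa hYa f' _ g' _ hae has hge' comm h⟩

/-- A base change `f'` is surjective iff the base changed chart is surjective. -/
theorem isSurjectiveMor_baseChange_iff {X' Y' : Sp S}
    {pY' : Y' ⟶ Y₀} {pX' : X' ⟶ X₀} {f' : X' ⟶ Y'}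
    (hX' : IsPullback pX' f' f₀ pY') {V' : Over S} (g' : (yon S).obj V' ⟶ Y') (z : V' ⟶ M.V₀)
    (sqV : IsPullback g' ((yon S).map z) pY' M.g) :
    IsSurjectiveMor f' ↔ Surjective (pullback.snd M.u₀ z).left := by
  obtain ⟨h', hhe', hhs', hh2, hge', hgs'⟩ := M.exists_baseChange hX' g' z sqV
  have sq' : IsPullback (pullback.fst f' g') (pullback.snd f' g') f' g' :=
    IsPullback.of_hasPullback _ _
  have comm : (h' ≫ pullback.fst f' g') ≫ f' = (yon S).map (pullback.snd M.u₀ z) ≫ g' := by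
    rw [Category.assoc, sq'.w, ← Category.assoc, hh2]
  constructor
  · intro hf
    refine ⟨fun v => ?_⟩
    obtain ⟨x, hx⟩ := hf (Points.ofPt g' v)
    obtain ⟨p, hp1, hp2⟩ := exists_point_of_isPullback sq' x
      (Points.schemeHomeo V' v) (by rw [hx, Points.ofPt_eq_map_ofScheme]; rfl)
    obtain ⟨t, rfl⟩ := surjective_ofPt h' hhs' p
    refine ⟨t, ?_⟩
    rw [Points.map_ofPt, hh2] at hp2
    have h3 := congrArg (Points.toScheme V') hp2
    rw [Points.toScheme_ofPt] at h3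
    exact h3.trans (Points.toScheme_ofScheme V' v)
  · intro hu y
    obtain ⟨v, rfl⟩ := surjective_ofPt g' hgs' y
    obtain ⟨t, rfl⟩ := hu.surj v
    refine ⟨Points.ofPt (h' ≫ pullback.fst f' g') t, ?_⟩
    rw [Points.map_ofPt, comm, ofPt_comp_yon_map]

end MorChart

end Groth.Agent.Helper15.AlgSpLim
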