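import Mathlib
import Groth.Agent.Lib.Helper15.AlgSpLim18

set_option autoImplicit false

universe u

open CategoryTheory CategoryTheory.Limits AlgebraicGeometry MorphismProperty Opposite
open AlgSp

namespace Groth.Agent.Helper15.AlgSpLim

variable {S : Scheme.{u}}

attribute [local instance] IsCofiltered.isConnected

/-- The statement that a property of morphisms of schemes descends through cofiltered limits of
affine schemes, for base changes of a finitely presented morphism of affine schemes. -/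
def DescendsAffine (Q : MorphismProperty Scheme.{u}) : Prop :=
  ∀ {K : Type u} [SmallCategory K] [IsCofiltered K] (T : K ⥤ Scheme.{u}) {V₀ : Scheme.{u}}
    (z : T ⟶ (Functor.const K).obj V₀) (_ : ∀ k, IsAffine (T.obj k)) (cL : Cone T)
    (_ : IsLimit cL) (zL : cL.pt ⟶ V₀) (_ : ∀ k, cL.π.app k ≫ z.app k = zL)
    (_ : IsAffine V₀) {U₀ : Scheme.{u}} (_ : IsAffine U₀) (u₀ : U₀ ⟶ V₀)
    (_ : LocallyOfFinitePresentation u₀), Q (pullback.snd u₀ zL) →
    ∃ k₁, ∀ (k : K) (_ : k ⟶ k₁), Q (pullback.snd u₀ (z.app k))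

theorem descendsAffine_surjective : DescendsAffine (@Surjective : MorphismProperty Scheme.{u}) := by
  intro K _ _ T V₀ z hT cL hcL zL hzL hV₀ U₀ hU₀ u₀ hu₀ hs
  exact exists_surjective_snd_of_isLimit_affine T z cL hcL zL hzL u₀ hs

/-- Transfer between the fibre product in `Over S` and the fibre product of schemes. -/
theorem snd_left_iff (Q : MorphismProperty Scheme.{u}) [Q.RespectsIso] {A B C : Over S}
    (f : A ⟶ C) (g : B ⟶ C) : Q (pullback.snd f g).left ↔ Q (pullback.snd f.left g.left) := by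
  have sq : IsPullback (pullback.fst f g).left (pullback.snd f g).left f.left g.left :=
    (IsPullback.of_hasPullback f g).map (Over.forget S)
  rw [← sq.isoPullback_hom_snd]
  exact Q.cancel_left_of_respectsIso _ _


/-- General chart reduction: a property `Psp` of morphisms of sheaves which, on base changes of
`f₀`, is detected by a property `Q` of the base changed chart, descends through the limit as soon
as `Q` descends through limits of affine schemes. -/
theorem exists_stage_of_chart [QuasiSeparatedSpace ↥S] {I : Type u} [SmallCategory I]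
    [IsCofiltered I] (D : I ⥤ Sp S) (hD : ∀ i, IsAlgSpace (D.obj i))
    (hDa : ∀ (i j : I) (φ : i ⟶ j), IsAffineMor (D.map φ))
    (c : Cone D) (hc : IsLimit c) (i₀ : I) {X₀ Y₀ : Sp S} (hXa : IsAlgSpace X₀)
    (hYa : IsAlgSpace Y₀) (f₀ : X₀ ⟶ Y₀) (b₀ : Y₀ ⟶ D.obj i₀)
    (hf₀ : LocP @LocallyOfFinitePresentation f₀) (M : MorChart f₀)
    (Psp : ∀ {A B : Sp S}, (A ⟶ B) → Prop) (Q : MorphismProperty Scheme.{u}) [Q.RespectsIso]
    (hQ : DescendsAffine Q)
    (hbridge : ∀ {X' Y' : Sp S} (_ : IsAlgSpace X') (_ : IsAlgSpace Y') {pY' : Y' ⟶ Y₀}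
      {pX' : X' ⟶ X₀} {f' : X' ⟶ Y'} (_ : IsPullback pX' f' f₀ pY') {V' : Over S}
      (g' : (yon S).obj V' ⟶ Y') (z : V' ⟶ M.V₀) (_ : IsPullback g' ((yon S).map z) pY' M.g),
      Psp f' ↔ Q (pullback.snd M.u₀ z).left)
    {X Y : Sp S} (f : X ⟶ Y) (pY : Y ⟶ Y₀) (qY : Y ⟶ c.pt)
    (hY : IsPullback pY qY b₀ (c.π.app i₀)) (pX : X ⟶ X₀) (hX : IsPullback pX f f₀ pY)
    (hf : Psp f) :
    ∃ k₁ : Over i₀, ∀ (k : Over i₀) (_ : k ⟶ k₁) (Xi Yi : Sp S) (fi : Xi ⟶ Yi) (pYi : Yi ⟶ Y₀)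
      (qYi : Yi ⟶ D.obj k.left) (_ : IsPullback pYi qYi b₀ (D.map k.hom)) (pXi : Xi ⟶ X₀)
      (_ : IsPullback pXi fi f₀ pYi), Psp fi := by
  obtain ⟨C, hCz, hCq, hCzn⟩ := exists_limChart_nat D hDa c hc i₀ M.hV₀ (M.g ≫ b₀)
  -- the limit is an algebraic space
  have hcpt : IsAlgSpace c.pt := isAlgSpace_limit D hD hDa c hc
  have hYalg : IsAlgSpace Y := isAlgSpace_of_isPullback (hD i₀).diag hYa hcpt hY
  have hXalg : IsAlgSpace X := isAlgSpace_of_isPullback hYa.diag hXa hYalg hX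
  -- the chart of the limit
  have hwL : ((yon S).map C.zL ≫ M.g) ≫ b₀ = C.r ≫ c.π.app i₀ := by
    rw [Category.assoc]; exact C.sqL.w.symm
  let gL : (yon S).obj C.cL.pt ⟶ Y := hY.lift _ _ hwL
  have hgL1 : gL ≫ pY = (yon S).map C.zL ≫ M.g := hY.lift_fst _ _ _
  have hgL2 : gL ≫ qY = C.r := hY.lift_snd _ _ _
  have sqVL : IsPullback gL ((yon S).map C.zL) pY M.g := by
    refine IsPullback.of_right (h₁₂ := qY) (h₂₂ := b₀) (v₁₃ := c.π.app i₀) ?_ hgL1 hY.flip
    rw [hgL2]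
    exact C.sqL
  have h1 : Q (pullback.snd M.u₀.left C.zL.left) :=
    (snd_left_iff Q M.u₀ C.zL).1 ((hbridge hXalg hYalg hX gL C.zL sqVL).1 hf)
  -- the scheme-level system
  let T' : Over i₀ ⥤ Scheme.{u} := C.T ⋙ Over.forget S
  let z' : T' ⟶ (Functor.const (Over i₀)).obj M.V₀.left :=
    { app := fun k => (C.z k).left
      naturality := fun k l φ => by
        have := congrArg (fun m => m.left) (hCzn φ)
        simpa [T'] using this }
  have hT' : ∀ k, IsAffine (T'.obj k) := C.isAffine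
  have hlfp : LocallyOfFinitePresentation M.u₀.left :=
    hf₀ M.a₀ M.g M.u₀ ((RepWith @Etale).comp_mem _ _ M.hhe
      ((RepWith @Etale).of_isPullback (IsPullback.of_hasPullback f₀ M.g).flip M.hge)) M.hge M.comm
  obtain ⟨k₁, hk₁⟩ := hQ T' z' hT' ((Over.forget S).mapCone C.cL) C.isLimit C.zL.left
    (fun k => congrArg (fun m => m.left) (hCz k)) M.hV₀ M.hU₀ M.u₀.left hlfp h1
  refine ⟨k₁, fun k φ Xi Yi fi pYi qYi hYi pXi hXi => ?_⟩
  have hYialg : IsAlgSpace Yi := isAlgSpace_of_isPullback (hD i₀).diag hYa (hD k.left) hYi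
  have hXialg : IsAlgSpace Xi := isAlgSpace_of_isPullback hYa.diag hXa hYialg hXi
  have hwk : ((yon S).map (C.z k) ≫ M.g) ≫ b₀ = C.q k ≫ D.map k.hom := by
    rw [Category.assoc]; exact (C.sq k).w.symm
  let gk : (yon S).obj (C.T.obj k) ⟶ Yi := hYi.lift _ _ hwk
  have hgk1 : gk ≫ pYi = (yon S).map (C.z k) ≫ M.g := hYi.lift_fst _ _ _
  have hgk2 : gk ≫ qYi = C.q k := hYi.lift_snd _ _ _
  have sqVk : IsPullback gk ((yon S).map (C.z k)) pYi M.g := by
    refine IsPullback.of_right (h₁₂ := qYi) (h₂₂ := b₀) (v₁₃ := D.map k.hom) ?_ hgk1 hYi.flip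
    rw [hgk2]
    exact C.sq k
  exact (hbridge hXialg hYialg hXi gk (C.z k) sqVk).2
    ((snd_left_iff Q M.u₀ (C.z k)).2 (hk₁ k φ))

end Groth.Agent.Helper15.AlgSpLim
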