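import Mathlib
import Groth.Agent.Lib.Helper15.AlgSpLim19

set_option autoImplicit false
set_option linter.unusedSectionVars false

universe u

open CategoryTheory CategoryTheory.Limits AlgebraicGeometry MorphismProperty Opposite
open AlgSp

namespace Groth.Agent.Helper15.AlgSpLim

attribute [local instance] IsCofiltered.isConnected

section IsoDescent

variable {K : Type u} [SmallCategory K] [IsCofiltered K] (DX : K ⥤ Scheme.{u}) {B : Scheme.{u}}
  (τ : DX ⟶ (Functor.const K).obj B) (cX : Cone DX) (hcX : IsLimit cX) (g : cX.pt ⟶ B)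
  (hg : ∀ k, g ≫ (constCone K B).π.app k = cX.π.app k ≫ τ.app k)
  [hDX : ∀ k, IsAffine (DX.obj k)] [hB : IsAffine B]
  {P : Scheme.{u}} [hP : IsAffine P] (p : P ⟶ B)

/-- The base changed diagram `k ↦ DX k ×_B P`. -/
noncomputable abbrev bcDiag : K ⥤ Scheme.{u} :=
  pbDiag DX ((Functor.const K).obj B) τ (constCone K B) p

/-- The cone over the base changed diagram with vertex `cX.pt ×_B P`. -/
noncomputable abbrev bcCone : Cone (bcDiag DX τ p) :=
  pbCone DX ((Functor.const K).obj B) τ cX (constCone K B) g hg p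

/-- The base changed cone is a limit cone. -/
noncomputable def isLimitBcCone : IsLimit (bcCone DX τ cX g hg p) :=
  isLimitPbCone hg p hcX (isLimitConstCone K B)

/-- Projection to the diagram. -/
noncomputable abbrev bcFst (k : K) : (bcDiag DX τ p).obj k ⟶ DX.obj k :=
  pbFst DX ((Functor.const K).obj B) τ (constCone K B) p k

/-- Projection to `P`. -/
noncomputable abbrev bcSnd (k : K) : (bcDiag DX τ p).obj k ⟶ P :=
  pbSnd DX ((Functor.const K).obj B) τ (constCone K B) p k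

theorem bc_condition (k : K) : bcFst DX τ p k ≫ τ.app k = bcSnd DX τ p k ≫ p := by
  have := pb_condition DX ((Functor.const K).obj B) τ (constCone K B) p k
  rw [this]
  change _ ≫ p ≫ 𝟙 B = _
  rw [Category.comp_id]

include hDX hB hP in
theorem isAffine_bcDiag_obj (k : K) : IsAffine ((bcDiag DX τ p).obj k) := by
  have : IsAffine (((Functor.const K).obj B).obj k) := hB
  change IsAffine (pullback (τ.app k) (p ≫ (constCone K B).π.app k))
  infer_instance

/-- The structure map of the base changed diagram to `B`. -/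
noncomputable def bcToBase : bcDiag DX τ p ⟶ (Functor.const K).obj B where
  app k := bcSnd DX τ p k ≫ p
  naturality k l f := by
    change (bcDiag DX τ p).map f ≫ bcSnd DX τ p l ≫ p = (bcSnd DX τ p k ≫ p) ≫ 𝟙 B
    rw [Category.comp_id, ← Category.assoc]
    congr 1
    exact pbDiag_map_snd DX ((Functor.const K).obj B) τ (constCone K B) p f


include hDX hB hP in
theorem isAffineHom_bcDiag_map {k l : K} (f : k ⟶ l) : IsAffineHom ((bcDiag DX τ p).map f) := by
  have := isAffine_bcDiag_obj DX τ p k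
  have := isAffine_bcDiag_obj DX τ p l
  infer_instance

/-- The legs of the base changed cone, with plain types. -/
noncomputable def bcπ (k : K) : pullback g p ⟶ (bcDiag DX τ p).obj k :=
  (bcCone DX τ cX g hg p).π.app k

@[reassoc]
theorem bcπ_fst (k : K) :
    bcπ DX τ cX g hg p k ≫ bcFst DX τ p k = pullback.fst g p ≫ cX.π.app k :=
  pbCone_π_fst DX ((Functor.const K).obj B) τ cX (constCone K B) g hg p k

@[reassoc]
theorem bcπ_snd (k : K) :
    bcπ DX τ cX g hg p k ≫ bcSnd DX τ p k = pullback.snd g p :=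
  pbCone_π_snd DX ((Functor.const K).obj B) τ cX (constCone K B) g hg p k

@[reassoc]
theorem bcπ_map {k l : K} (f : k ⟶ l) :
    bcπ DX τ cX g hg p k ≫ (bcDiag DX τ p).map f = bcπ DX τ cX g hg p l :=
  (bcCone DX τ cX g hg p).w f

include hDX hB hP hcX in
/-- Morphisms from the limit to a finitely presented `B`-scheme factor through a stage. -/
theorem exists_lift_stage {Q : Scheme.{u}} (q : Q ⟶ B) [LocallyOfFinitePresentation q]
    (a : pullback g p ⟶ Q) (ha : a ≫ q = pullback.snd g p ≫ p) :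
    ∃ (k : K) (gk : (bcDiag DX τ p).obj k ⟶ Q),
      bcπ DX τ cX g hg p k ≫ gk = a ∧ gk ≫ q = bcSnd DX τ p k ≫ p := by
  have h1 : ∀ k, IsAffine ((bcDiag DX τ p).obj k) := isAffine_bcDiag_obj DX τ p
  have h2 : ∀ {k l : K} (f : k ⟶ l), IsAffineHom ((bcDiag DX τ p).map f) :=
    isAffineHom_bcDiag_map DX τ p
  have h3 : ∀ k, CompactSpace ↥((bcDiag DX τ p).obj k) := fun k => inferInstance
  have h4 : ∀ k, QuasiSeparatedSpace ↥((bcDiag DX τ p).obj k) := fun k => inferInstance
  obtain ⟨k, gk, hk1, hk2⟩ := Scheme.exists_π_app_comp_eq_of_locallyOfFinitePresentation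
    (bcDiag DX τ p) (bcToBase DX τ p) q (bcCone DX τ cX g hg p) (isLimitBcCone DX τ cX hcX g hg p)
    a (by
      ext k : 2
      change (bcCone DX τ cX g hg p).π.app k ≫ bcSnd DX τ p k ≫ p = a ≫ q
      rw [ha, ← Category.assoc]
      congr 1
      exact pbCone_π_snd DX ((Functor.const K).obj B) τ cX (constCone K B) g hg p k)
  exact ⟨k, gk, hk1, hk2⟩

include hDX hB hP hcX in
/-- Morphisms from a stage to a `B`-scheme of finite type which agree on the limit agree on a
further stage. -/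
theorem exists_eq_stage {Q : Scheme.{u}} (q : Q ⟶ B) [LocallyOfFiniteType q] {k : K}
    (a b : (bcDiag DX τ p).obj k ⟶ Q) (ha : a ≫ q = bcSnd DX τ p k ≫ p)
    (hb : b ≫ q = bcSnd DX τ p k ≫ p)
    (hab : bcπ DX τ cX g hg p k ≫ a = bcπ DX τ cX g hg p k ≫ b) :
    ∃ (l : K) (f : l ⟶ k), (bcDiag DX τ p).map f ≫ a = (bcDiag DX τ p).map f ≫ b := by
  have h1 : ∀ k, IsAffine ((bcDiag DX τ p).obj k) := isAffine_bcDiag_obj DX τ p
  have h2 : ∀ {k l : K} (f : k ⟶ l), IsAffineHom ((bcDiag DX τ p).map f) :=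
    isAffineHom_bcDiag_map DX τ p
  have h3 : ∀ k, CompactSpace ↥((bcDiag DX τ p).obj k) := fun k => inferInstance
  exact Scheme.exists_hom_comp_eq_comp_of_locallyOfFiniteType
    (bcDiag DX τ p) (bcToBase DX τ p) q (bcCone DX τ cX g hg p) (isLimitBcCone DX τ cX hcX g hg p)
    a b ha.symm hb.symm hab


variable {Q : Scheme.{u}} [hQ : IsAffine Q] (q : Q ⟶ B)

/-- The map between base changed diagrams induced by a `B`-morphism from a stage to `Q`. -/
noncomputable def bcLift {k : K} (gk : (bcDiag DX τ p).obj k ⟶ Q)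
    (h : gk ≫ q = bcSnd DX τ p k ≫ p) : (bcDiag DX τ p).obj k ⟶ (bcDiag DX τ q).obj k :=
  pullback.lift (bcFst DX τ p k) gk (by
    change _ = gk ≫ q ≫ 𝟙 B
    rw [Category.comp_id, h, bc_condition])

@[reassoc]
theorem bcLift_fst {k : K} (gk : (bcDiag DX τ p).obj k ⟶ Q)
    (h : gk ≫ q = bcSnd DX τ p k ≫ p) :
    bcLift DX τ p q gk h ≫ bcFst DX τ q k = bcFst DX τ p k :=
  pullback.lift_fst _ _ _

@[reassoc]
theorem bcLift_snd {k : K} (gk : (bcDiag DX τ p).obj k ⟶ Q)
    (h : gk ≫ q = bcSnd DX τ p k ≫ p) :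
    bcLift DX τ p q gk h ≫ bcSnd DX τ q k = gk :=
  pullback.lift_snd _ _ _

theorem bc_hom_ext {k : K} {W : Scheme.{u}} {x y : W ⟶ (bcDiag DX τ p).obj k}
    (h1 : x ≫ bcFst DX τ p k = y ≫ bcFst DX τ p k)
    (h2 : x ≫ bcSnd DX τ p k = y ≫ bcSnd DX τ p k) : x = y :=
  pb_hom_ext DX ((Functor.const K).obj B) τ (constCone K B) p h1 h2

@[reassoc]
theorem bcDiag_map_fst {k l : K} (f : k ⟶ l) :
    (bcDiag DX τ p).map f ≫ bcFst DX τ p l = bcFst DX τ p k ≫ DX.map f :=
  pbDiag_map_fst DX ((Functor.const K).obj B) τ (constCone K B) p f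

@[reassoc]
theorem bcDiag_map_snd {k l : K} (f : k ⟶ l) :
    (bcDiag DX τ p).map f ≫ bcSnd DX τ p l = bcSnd DX τ p k :=
  pbDiag_map_snd DX ((Functor.const K).obj B) τ (constCone K B) p f

/-- Naturality of `bcLift`. -/
theorem bcLift_naturality {k l : K} (f : l ⟶ k) (gk : (bcDiag DX τ p).obj k ⟶ Q)
    (h : gk ≫ q = bcSnd DX τ p k ≫ p) :
    (bcDiag DX τ p).map f ≫ bcLift DX τ p q gk h =
      bcLift DX τ p q ((bcDiag DX τ p).map f ≫ gk)
        (by rw [Category.assoc, h, bcDiag_map_snd_assoc]) ≫ (bcDiag DX τ q).map f := by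
  apply bc_hom_ext
  · rw [Category.assoc, bcLift_fst, Category.assoc, bcDiag_map_fst, bcDiag_map_fst,
      bcLift_fst_assoc]
  · rw [Category.assoc, bcLift_snd, Category.assoc, bcDiag_map_snd, bcLift_snd]


include hcX hg in
/-- Descent of isomorphisms: two finitely presented affine `B`-schemes which become isomorphic
over the limit become isomorphic over a finite stage. -/
theorem exists_iso_stage [LocallyOfFinitePresentation p] [LocallyOfFinitePresentation q]
    (θ : pullback g p ≅ pullback g q) (hθ : θ.hom ≫ pullback.fst g q = pullback.fst g p) :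
    ∃ (n : K) (α : (bcDiag DX τ p).obj n ⟶ (bcDiag DX τ q).obj n)
      (β : (bcDiag DX τ q).obj n ⟶ (bcDiag DX τ p).obj n),
      α ≫ β = 𝟙 _ ∧ β ≫ α = 𝟙 _ ∧ α ≫ bcFst DX τ q n = bcFst DX τ p n := by
  have hθ' : θ.inv ≫ pullback.fst g p = pullback.fst g q := by
    rw [← hθ, Iso.inv_hom_id_assoc]
  -- step 1: lift the two maps
  obtain ⟨k, gP₀, hk1, hk2⟩ := exists_lift_stage DX τ cX hcX g hg p q (θ.hom ≫ pullback.snd g q)
    (by rw [Category.assoc, ← pullback.condition, reassoc_of% hθ, pullback.condition])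
  obtain ⟨k', gQ₀, hk1', hk2'⟩ := exists_lift_stage DX τ cX hcX g hg q p
    (θ.inv ≫ pullback.snd g p)
    (by rw [Category.assoc, ← pullback.condition, reassoc_of% hθ', pullback.condition])
  -- step 2: common stage
  let m := IsCofiltered.min k k'
  let gP : (bcDiag DX τ p).obj m ⟶ Q := (bcDiag DX τ p).map (IsCofiltered.minToLeft k k') ≫ gP₀
  let gQ : (bcDiag DX τ q).obj m ⟶ P := (bcDiag DX τ q).map (IsCofiltered.minToRight k k') ≫ gQ₀
  have hgP : gP ≫ q = bcSnd DX τ p m ≫ p := by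
    rw [Category.assoc, hk2, bcDiag_map_snd_assoc]
  have hgQ : gQ ≫ p = bcSnd DX τ q m ≫ q := by
    rw [Category.assoc, hk2', bcDiag_map_snd_assoc]
  have hcP : bcπ DX τ cX g hg p m ≫ gP = θ.hom ≫ pullback.snd g q := by
    rw [← hk1, bcπ_map_assoc]
  have hcQ : bcπ DX τ cX g hg q m ≫ gQ = θ.inv ≫ pullback.snd g p := by
    rw [← hk1', bcπ_map_assoc]
  -- step 3
  let α := bcLift DX τ p q gP hgP
  let β := bcLift DX τ q p gQ hgQ
  have hα : bcπ DX τ cX g hg p m ≫ α = θ.hom ≫ bcπ DX τ cX g hg q m := by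
    apply bc_hom_ext
    · rw [Category.assoc, bcLift_fst, bcπ_fst, Category.assoc, bcπ_fst, reassoc_of% hθ]
    · rw [Category.assoc, bcLift_snd, hcP, Category.assoc, bcπ_snd]
  have hβ : bcπ DX τ cX g hg q m ≫ β = θ.inv ≫ bcπ DX τ cX g hg p m := by
    apply bc_hom_ext
    · rw [Category.assoc, bcLift_fst, bcπ_fst, Category.assoc, bcπ_fst, reassoc_of% hθ']
    · rw [Category.assoc, bcLift_snd, hcQ, Category.assoc, bcπ_snd]
  -- step 4
  obtain ⟨n₁, f₁, hf₁⟩ := exists_eq_stage DX τ cX hcX g hg p p (α ≫ gQ) (bcSnd DX τ p m)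
    (by rw [Category.assoc, hgQ, bcLift_snd_assoc, hgP]) rfl
    (by rw [reassoc_of% hα, hcQ, Iso.hom_inv_id_assoc, bcπ_snd])
  obtain ⟨n₂, f₂, hf₂⟩ := exists_eq_stage DX τ cX hcX g hg q q (β ≫ gP) (bcSnd DX τ q m)
    (by rw [Category.assoc, hgP, bcLift_snd_assoc, hgQ]) rfl
    (by rw [reassoc_of% hβ, hcP, Iso.inv_hom_id_assoc, bcπ_snd])
  -- step 5
  obtain ⟨n, e₁, e₂, he⟩ := IsCofiltered.cospan f₁ f₂
  let f : n ⟶ m := e₁ ≫ f₁
  have hf1 : (bcDiag DX τ p).map f ≫ α ≫ gQ = bcSnd DX τ p n := by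
    rw [Functor.map_comp, Category.assoc, hf₁, bcDiag_map_snd, bcDiag_map_snd]
  have hf2 : (bcDiag DX τ q).map f ≫ β ≫ gP = bcSnd DX τ q n := by
    have : f = e₂ ≫ f₂ := he
    rw [this, Functor.map_comp, Category.assoc, hf₂, bcDiag_map_snd, bcDiag_map_snd]
  -- step 6
  have hn1 := bcLift_naturality DX τ p q f gP hgP
  have hn2 := bcLift_naturality DX τ q p f gQ hgQ
  have hgPn : ((bcDiag DX τ p).map f ≫ gP) ≫ q = bcSnd DX τ p n ≫ p := by
    rw [Category.assoc, hgP, bcDiag_map_snd_assoc]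
  have hgQn : ((bcDiag DX τ q).map f ≫ gQ) ≫ p = bcSnd DX τ q n ≫ q := by
    rw [Category.assoc, hgQ, bcDiag_map_snd_assoc]
  refine ⟨n, bcLift DX τ p q ((bcDiag DX τ p).map f ≫ gP) hgPn,
    bcLift DX τ q p ((bcDiag DX τ q).map f ≫ gQ) hgQn, ?_, ?_, bcLift_fst _ _ _ _ _ _⟩
  · apply bc_hom_ext
    · rw [Category.assoc, bcLift_fst, bcLift_fst, Category.id_comp]
    · rw [Category.assoc, bcLift_snd, Category.id_comp, ← Category.assoc, ← hn1, Category.assoc]
      exact hf1
  · apply bc_hom_ext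
    · rw [Category.assoc, bcLift_fst, bcLift_fst, Category.id_comp]
    · rw [Category.assoc, bcLift_snd, Category.id_comp, ← Category.assoc, ← hn2, Category.assoc]
      exact hf2

end IsoDescent

end Groth.Agent.Helper15.AlgSpLim
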