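import Mathlib
import Groth.Agent.Lib.Helper15.AlgSpLim20

set_option autoImplicit false
set_option linter.unusedSectionVars false

universe u

open CategoryTheory CategoryTheory.Limits AlgebraicGeometry MorphismProperty Opposite TensorProduct
open AlgSp

namespace Groth.Agent.Helper15.AlgSpLim

attribute [local instance] IsCofiltered.isConnected

/-- A model of a morphism `f : X ⟶ Y` over a scheme of finite presentation over `ℤ`:
`f` is a base change of `q' : Q' ⟶ Z'` with `Z'` of finite presentation over the integers. -/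
structure FpModel {X Y : Scheme.{u}} (f : X ⟶ Y) where
  Z' : Scheme.{u}
  Q' : Scheme.{u}
  hZ' : IsAffine Z'
  hQ' : IsAffine Q'
  q' : Q' ⟶ Z'
  ζ : Y ⟶ Z'
  ρ : X ⟶ Q'
  sq : IsPullback ρ f q' ζ
  lfp : LocallyOfFinitePresentation (specULiftZIsTerminal.from Z')

/-- Scheme-theoretic form of a ring-level model. -/
theorem exists_fpModel_of_algEquiv {X Y : Scheme.{u}} [IsAffine X] [IsAffine Y] (f : X ⟶ Y)
    (A' : Type u) [CommRing A'] (B' : Type u) [CommRing B'] [Algebra A' B']
    [Algebra Γ(Y, ⊤) Γ(X, ⊤)] (halg : algebraMap Γ(Y, ⊤) Γ(X, ⊤) = f.appTop.hom)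
    [Algebra A' Γ(Y, ⊤)] (hfp : (algebraMap ℤ A').FinitePresentation)
    (e : Γ(X, ⊤) ≃ₐ[Γ(Y, ⊤)] Γ(Y, ⊤) ⊗[A'] B')
    (W : MorphismProperty Scheme.{u})
    (hW : W (Spec.map (CommRingCat.ofHom (algebraMap A' B')))) :
    ∃ M : FpModel f, W M.q' := by
  -- the pushout square of rings
  have hpo := CommRingCat.isPushout_tensorProduct A' Γ(Y, ⊤) B'
  let eC : CommRingCat.of (Γ(Y, ⊤) ⊗[A'] B') ≅ Γ(X, ⊤) := e.symm.toRingEquiv.toCommRingCatIso
  let β : CommRingCat.of B' ⟶ Γ(X, ⊤) :=
    CommRingCat.ofHom (Algebra.TensorProduct.includeRight (R := A') (A := Γ(Y, ⊤)) (B := B')).toRingHom ≫ eC.hom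
  have hpo' : IsPushout (CommRingCat.ofHom (algebraMap A' Γ(Y, ⊤)))
      (CommRingCat.ofHom (algebraMap A' B')) f.appTop β := by
    refine hpo.of_iso (Iso.refl _) (Iso.refl _) (Iso.refl _) eC (by simp) (by simp) ?_ ?_
    · ext a
      simp only [Iso.refl_hom, Category.id_comp]
      change e.symm (a ⊗ₜ 1) = f.appTop.hom a
      have := e.symm.commutes a
      rw [Algebra.TensorProduct.algebraMap_apply, halg] at this
      exact this
    · simp [β]
  have hpb := isPullback_SpecMap_of_isPushout _ _ _ _ hpo'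
  have sq : IsPullback (X.isoSpec.hom ≫ Spec.map β) f
      (Spec.map (CommRingCat.ofHom (algebraMap A' B')))
      (Y.isoSpec.hom ≫ Spec.map (CommRingCat.ofHom (algebraMap A' Γ(Y, ⊤)))) := by
    refine hpb.flip.of_iso X.isoSpec.symm (Iso.refl _) Y.isoSpec.symm (Iso.refl _) ?_ ?_ ?_ ?_
    · simp
    · simp [Scheme.isoSpec_inv_naturality]
    · simp
    · simp
  -- finite presentation over the integers
  let φ : ULift.{u} ℤ →+* A' := (algebraMap ℤ A').comp (ULift.ringEquiv (R := ℤ)).toRingHom
  have hφ : φ.FinitePresentation :=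
    hfp.comp (RingHom.FinitePresentation.of_bijective (ULift.ringEquiv (R := ℤ)).bijective)
  have hlfp : LocallyOfFinitePresentation (Spec.map (CommRingCat.ofHom φ)) :=
    (HasRingHomProperty.Spec_iff (P := @LocallyOfFinitePresentation)).2 hφ
  have hfrom : specULiftZIsTerminal.from (Spec (CommRingCat.of A')) =
      Spec.map (CommRingCat.ofHom φ) := specULiftZIsTerminal.hom_ext _ _
  exact ⟨{ Z' := Spec (CommRingCat.of A'), Q' := Spec (CommRingCat.of B'),
           hZ' := inferInstance, hQ' := inferInstance,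
           q' := Spec.map (CommRingCat.ofHom (algebraMap A' B')),
           ζ := Y.isoSpec.hom ≫ Spec.map (CommRingCat.ofHom (algebraMap A' Γ(Y, ⊤))),
           ρ := X.isoSpec.hom ≫ Spec.map β, sq := sq, lfp := hfrom ▸ hlfp }, hW⟩


/-- Smooth morphisms of affine schemes have models of finite presentation over the integers. -/
theorem exists_fpModel_smooth {X Y : Scheme.{u}} [IsAffine X] [IsAffine Y] (f : X ⟶ Y)
    [hf : Smooth f] : ∃ M : FpModel f, Smooth M.q' := by
  have hφ : f.appTop.hom.Smooth := (HasRingHomProperty.iff_of_isAffine (P := @Smooth)).1 hf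
  algebraize [f.appTop.hom]
  obtain ⟨A', B', _, _, hfg, hsm, ⟨e⟩⟩ := Algebra.Smooth.exists_subalgebra_fg ℤ Γ(Y, ⊤) Γ(X, ⊤)
  have hft : Algebra.FiniteType ℤ A' := (Subalgebra.fg_iff_finiteType A').1 hfg
  have hfp : (algebraMap ℤ A').FinitePresentation :=
    RingHom.finitePresentation_algebraMap.2 (Algebra.FinitePresentation.of_finiteType.1 hft)
  exact exists_fpModel_of_algEquiv f A' B' rfl hfp e @Smooth
    ((HasRingHomProperty.Spec_iff (P := @Smooth)).2 (RingHom.smooth_algebraMap.2 hsm))

/-- Etale morphisms of affine schemes have models of finite presentation over the integers. -/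
theorem exists_fpModel_etale {X Y : Scheme.{u}} [IsAffine X] [IsAffine Y] (f : X ⟶ Y)
    [hf : Etale f] : ∃ M : FpModel f, Etale M.q' := by
  have hφ : f.appTop.hom.Etale := (HasRingHomProperty.iff_of_isAffine (P := @Etale)).1 hf
  algebraize [f.appTop.hom]
  obtain ⟨A', B', _, _, hfg, hsm, ⟨e⟩⟩ := Algebra.Etale.exists_subalgebra_fg ℤ Γ(Y, ⊤) Γ(X, ⊤)
  have hft : Algebra.FiniteType ℤ A' := (Subalgebra.fg_iff_finiteType A').1 hfg
  have hfp : (algebraMap ℤ A').FinitePresentation :=
    RingHom.finitePresentation_algebraMap.2 (Algebra.FinitePresentation.of_finiteType.1 hft)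
  exact exists_fpModel_of_algEquiv f A' B' rfl hfp e @Etale
    ((HasRingHomProperty.Spec_iff (P := @Etale)).2 (RingHom.etale_algebraMap.2 hsm))


theorem isPullback_of_comp_id {C : Type*} [Category C] {P X Y Z : C} {fst : P ⟶ X} {snd : P ⟶ Y}
    {f : X ⟶ Z} {g : Y ⟶ Z} (h : IsPullback fst snd f (g ≫ 𝟙 Z)) : IsPullback fst snd f g := by
  rwa [Category.comp_id] at h

/-- Pasting: `L ×_Y (U ×_V Y) = U ×_V L`. -/
theorem isPullback_paste_snd {C : Type*} [Category C] [HasPullbacks C] {U V Y L : C} (u : U ⟶ V)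
    (y : Y ⟶ V) (g : L ⟶ Y) :
    IsPullback (pullback.snd g (pullback.snd u y) ≫ pullback.fst u y)
      (pullback.fst g (pullback.snd u y)) u (g ≫ y) :=
  (IsPullback.of_hasPullback g (pullback.snd u y)).flip.paste_horiz (IsPullback.of_hasPullback u y)

/-- A base change along a composite. -/
theorem snd_of_comp (W : MorphismProperty Scheme.{u}) [W.RespectsIso] [W.IsStableUnderBaseChange]
    {U V Y L : Scheme.{u}} (u : U ⟶ V) (y : Y ⟶ V) (g : L ⟶ Y) (h : W (pullback.snd u y)) :
    W (pullback.snd u (g ≫ y)) := by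
  have sq := isPullback_paste_snd u y g
  have h2 : W (pullback.fst g (pullback.snd u y)) := W.pullback_fst _ _ h
  have := (W.cancel_left_of_respectsIso sq.isoPullback.inv _).2 h2
  rwa [sq.isoPullback_inv_snd] at this


/-- A property of morphisms which is stable under base change, satisfied only by morphisms locally
of finite presentation, and such that affine instances have models of finite presentation over
the integers, descends through cofiltered limits of affine schemes. -/
theorem descendsAffine_of_fpModel (W : MorphismProperty Scheme.{u}) [W.RespectsIso]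
    [W.IsStableUnderBaseChange] (hWlfp : W ≤ @LocallyOfFinitePresentation)
    (hmodel : ∀ {X Y : Scheme.{u}} (_ : IsAffine X) (_ : IsAffine Y) (f : X ⟶ Y), W f →
      ∃ M : FpModel f, W M.q') : DescendsAffine W := by
  intro K _ _ T V₀ z hT cL hcL zL hzL hV₀ U₀ hU₀ u₀ hu₀ hW
  have hLaff : IsAffine cL.pt := Scheme.isAffine_of_isLimit cL hcL
  obtain ⟨M, hMq⟩ := hmodel inferInstance inferInstance (pullback.snd u₀ zL) hW
  have := M.hZ'
  have := M.hQ'
  have := M.lfp
  have hq'lfp : LocallyOfFinitePresentation M.q' := hWlfp _ hMq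
  -- Step B: the map to the model factors through a stage
  let t : T ⟶ (Functor.const K).obj (Spec (CommRingCat.of (ULift.{u} ℤ))) :=
    { app := fun k => specULiftZIsTerminal.from _
      naturality := fun _ _ _ => specULiftZIsTerminal.hom_ext _ _ }
  obtain ⟨k₁, ζ₁, hζ₁, -⟩ := Scheme.exists_π_app_comp_eq_of_locallyOfFinitePresentation T t
    (specULiftZIsTerminal.from M.Z') cL hcL M.ζ (by
      ext k : 2
      exact specULiftZIsTerminal.hom_ext _ _)
  -- Step C: the two finitely presented schemes over `T k₁`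
  let DX : Over k₁ ⥤ Scheme.{u} := Over.forget k₁ ⋙ T
  let τ : DX ⟶ (Functor.const (Over k₁)).obj (T.obj k₁) :=
    { app := fun k => T.map k.hom
      naturality := fun k l f => by
        change T.map f.left ≫ T.map l.hom = T.map k.hom ≫ 𝟙 _
        rw [Category.comp_id, ← T.map_comp, Over.w f] }
  let cX : Cone DX := cL.whisker (Over.forget k₁)
  have hcX : IsLimit cX := (Functor.Initial.isLimitWhiskerEquiv (Over.forget k₁) cL).symm hcL
  let g : cX.pt ⟶ T.obj k₁ := cL.π.app k₁
  have hg : ∀ k, g ≫ (constCone (Over k₁) (T.obj k₁)).π.app k = cX.π.app k ≫ τ.app k := by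
    intro k
    change cL.π.app k₁ ≫ 𝟙 _ = cL.π.app k.left ≫ T.map k.hom
    rw [Category.comp_id, cL.w]
  have hDX : ∀ k, IsAffine (DX.obj k) := fun k => hT k.left
  let p : pullback u₀ (z.app k₁) ⟶ T.obj k₁ := pullback.snd u₀ (z.app k₁)
  let q : pullback M.q' ζ₁ ⟶ T.obj k₁ := pullback.snd M.q' ζ₁
  have hV₀' : IsAffine (((Functor.const K).obj V₀).obj k₁) := hV₀
  have hP : IsAffine (pullback u₀ (z.app k₁)) := inferInstance
  have hQ : IsAffine (pullback M.q' ζ₁) := inferInstance
  have hp : LocallyOfFinitePresentation p := inferInstance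
  have hq : LocallyOfFinitePresentation q := inferInstance
  -- the isomorphism over the limit
  have sq1 : IsPullback (pullback.snd g p ≫ pullback.fst u₀ (z.app k₁)) (pullback.fst g p) u₀ zL := by
    have := isPullback_paste_snd u₀ (z.app k₁) g
    rwa [show g ≫ z.app k₁ = zL from hzL k₁] at this
  have sq2 : IsPullback (pullback.snd g q ≫ pullback.fst M.q' ζ₁) (pullback.fst g q) M.q' M.ζ := by
    have := isPullback_paste_snd M.q' ζ₁ g
    rwa [show g ≫ ζ₁ = M.ζ from hζ₁] at this
  let iso1 : pullback g p ≅ pullback u₀ zL := sq1.isoIsPullback _ _ (IsPullback.of_hasPullback u₀ zL)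
  let iso2 : pullback u₀ zL ≅ pullback g q := M.sq.isoIsPullback _ _ sq2
  have h1 : iso1.hom ≫ pullback.snd u₀ zL = pullback.fst g p :=
    IsPullback.isoIsPullback_hom_snd _ _ _ _
  have h2 : iso2.hom ≫ pullback.fst g q = pullback.snd u₀ zL :=
    IsPullback.isoIsPullback_hom_snd _ _ _ _
  obtain ⟨n, α, β, hαβ, hβα, hα⟩ := exists_iso_stage DX τ cX hcX g hg p q (iso1 ≪≫ iso2)
    (by rw [Iso.trans_hom, Category.assoc, h2, h1])
  -- Step D
  have hWq : W q := W.pullback_snd _ _ hMq
  have hWq' : W (bcFst DX τ q n) := by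
    refine W.pullback_fst _ _ ?_
    have : W (q ≫ 𝟙 _) := by rw [Category.comp_id]; exact hWq
    exact this
  have hαiso : IsIso α := ⟨β, hαβ, hβα⟩
  have hWp' : W (bcFst DX τ p n) := by
    rw [← hα]
    exact (W.cancel_left_of_respectsIso α _).2 hWq'
  have hτz : τ.app n ≫ z.app k₁ = z.app n.left := by
    have := z.naturality n.hom
    rw [Functor.const_obj_map] at this
    exact this.trans (Category.comp_id _)
  have sq3 : IsPullback (bcSnd DX τ p n ≫ pullback.fst u₀ (z.app k₁)) (bcFst DX τ p n) u₀
      (z.app n.left) := by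
    have left : IsPullback (bcFst DX τ p n) (bcSnd DX τ p n) (τ.app n) p :=
      isPullback_of_comp_id
        (pb_isPullback DX ((Functor.const (Over k₁)).obj (T.obj k₁)) τ (constCone _ _) p n)
    have := left.flip.paste_horiz (IsPullback.of_hasPullback u₀ (z.app k₁))
    rwa [hτz] at this
  have hWn : W (pullback.snd u₀ (z.app n.left)) := by
    have := (W.cancel_left_of_respectsIso sq3.isoPullback.inv _).2 hWp'
    rwa [sq3.isoPullback_inv_snd] at this
  refine ⟨n.left, fun k f => ?_⟩
  have hzk : z.app k = T.map f ≫ z.app n.left := by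
    have := z.naturality f
    rw [Functor.const_obj_map] at this
    exact (this.trans (Category.comp_id _)).symm
  have key : ∀ (y : T.obj k ⟶ V₀), y = T.map f ≫ z.app n.left → W (pullback.snd u₀ y) := by
    rintro y rfl
    exact snd_of_comp W u₀ (z.app n.left) (T.map f) hWn
  exact key _ hzk


theorem descendsAffine_smooth : DescendsAffine (@Smooth : MorphismProperty Scheme.{u}) :=
  descendsAffine_of_fpModel @Smooth (fun _ _ f hf => by
    have : Smooth f := hf
    exact (inferInstance : LocallyOfFinitePresentation f))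
    (fun hX hY f hf => by
      have : Smooth f := hf
      exact exists_fpModel_smooth f)

theorem descendsAffine_etale : DescendsAffine (@Etale : MorphismProperty Scheme.{u}) :=
  descendsAffine_of_fpModel @Etale (fun _ _ f hf => by
    have : Etale f := hf
    exact (inferInstance : LocallyOfFinitePresentation f))
    (fun hX hY f hf => by
      have : Etale f := hf
      exact exists_fpModel_etale f)

end Groth.Agent.Helper15.AlgSpLim
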