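import Groth.Agent.Lib.Helper15.AlgSpLocP2

/-!
# Diagonal of a morphism locally of finite type; flat morphisms
-/

set_option autoImplicit false
universe u
open CategoryTheory CategoryTheory.Limits AlgebraicGeometry MorphismProperty Opposite
open AlgSp

namespace Groth.Agent.Helper15

variable {S : Scheme.{u}}

instance lfp_containsIdentities :
    ContainsIdentities (@LocallyOfFinitePresentation : MorphismProperty Scheme.{u}) :=
  ⟨fun X => (inferInstance : LocallyOfFinitePresentation (𝟙 X))⟩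

instance lfp_isMultiplicative :
    IsMultiplicative (@LocallyOfFinitePresentation : MorphismProperty Scheme.{u}) where

/-- The diagonal of a morphism of schemes locally of finite type is locally of finite
presentation. -/
theorem lft_le_lfp_diagonal :
    (@LocallyOfFiniteType : MorphismProperty Scheme.{u}) ≤
      MorphismProperty.diagonal (@LocallyOfFinitePresentation : MorphismProperty Scheme.{u}) := by
  intro A B g hg
  haveI : LocallyOfFiniteType g := hg
  apply Groth.Agent.Helper7.locallyOfFinitePresentation_of_comp (pullback.diagonal g)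
    (pullback.fst g g)
  · rw [pullback.diagonal_fst]
    infer_instance
  · infer_instance

/-- Representable case: the diagonal of a representable lft morphism is lfp. -/
theorem repWith_lfp_diagonal_of_repWith_lft {X Y : Sp S} (hX : IsAlgSpace X) (hY : IsAlgSpace Y)
    (f : X ⟶ Y) (hf : RepWith @LocallyOfFiniteType f) :
    RepWith @LocallyOfFinitePresentation (pullback.diagonal f) :=
  (repWith_diagonal_iff_of_representable _ hX hY f hf.rep).2 (repWith_mono lft_le_lfp_diagonal hf)

/-- `X ×_Y U ⟶ X ×_Y X` is a base change of `q : U ⟶ X`. -/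
theorem isPullback_map_right {X Y U : Sp S} (f : X ⟶ Y) (q : U ⟶ X) :
    IsPullback (pullback.map f (q ≫ f) f f (𝟙 X) q (𝟙 Y) (by simp) (by simp))
      (pullback.snd f (q ≫ f)) (pullback.snd f f) q := by
  have big : IsPullback (pullback.fst f (q ≫ f)) (pullback.snd f (q ≫ f)) f (q ≫ f) :=
    IsPullback.of_hasPullback _ _
  have right : IsPullback (pullback.fst f f) (pullback.snd f f) f f :=
    IsPullback.of_hasPullback _ _
  refine IsPullback.of_right (h₁₂ := pullback.fst f f) (h₂₂ := f) (v₁₃ := f) ?_ ?_ right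
  · rw [pullback.lift_fst, Category.comp_id]
    exact big
  · rw [pullback.lift_snd]

/-- `U ×_Y T ⟶ X ×_Y T` is a base change of `q : U ⟶ X`. -/
theorem isPullback_map_left {X Y U T : Sp S} (f : X ⟶ Y) (q : U ⟶ X) (c : T ⟶ Y) :
    IsPullback (pullback.map (q ≫ f) c f c q (𝟙 T) (𝟙 Y) (by simp) (by simp))
      (pullback.fst (q ≫ f) c) (pullback.fst f c) q := by
  have big : IsPullback (pullback.snd (q ≫ f) c) (pullback.fst (q ≫ f) c) c (q ≫ f) :=
    (IsPullback.of_hasPullback _ _).flip
  have right : IsPullback (pullback.snd f c) (pullback.fst f c) c f :=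
    (IsPullback.of_hasPullback _ _).flip
  refine IsPullback.of_right (h₁₂ := pullback.snd f c) (h₂₂ := f) (v₁₃ := c) ?_ ?_ right
  · rw [pullback.lift_snd, Category.comp_id]
    exact big
  · rw [pullback.lift_fst]

set_option backward.isDefEq.respectTransparency false in
/-- The map `U ×_Y U ⟶ X ×_Y X` induced by `q : U ⟶ X` inherits `RepWith P` from `q`. -/
theorem repWith_pullback_map_of_repWith {P : MorphismProperty Scheme.{u}}
    [P.IsStableUnderBaseChange] [P.IsStableUnderComposition]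
    {X Y U : Sp S} (f : X ⟶ Y) (q : U ⟶ X) (hq : RepWith P q) :
    RepWith P (pullback.map (q ≫ f) (q ≫ f) f f q q (𝟙 Y) (by simp) (by simp)) := by
  have h1 := (RepWith P).of_isPullback (isPullback_map_left f q (q ≫ f)).flip hq
  have h2 := (RepWith P).of_isPullback (isPullback_map_right f q).flip hq
  have e : pullback.map (q ≫ f) (q ≫ f) f f q q (𝟙 Y) (by simp) (by simp) =
      pullback.map (q ≫ f) (q ≫ f) f (q ≫ f) q (𝟙 U) (𝟙 Y) (by simp) (by simp) ≫
        pullback.map f (q ≫ f) f f (𝟙 X) q (𝟙 Y) (by simp) (by simp) := by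
    apply pullback.hom_ext <;> simp
  rw [e]
  exact (RepWith P).comp_mem _ _ h1 h2

set_option backward.isDefEq.respectTransparency false in
/-- The diagonal of a morphism of algebraic spaces which is locally of finite type is
representable and locally of finite presentation. -/
theorem repWith_lfp_diagonal_of_locP_lft {X Y : Sp S} (hX : IsAlgSpace X) (hY : IsAlgSpace Y)
    (f : X ⟶ Y) (hf : LocP @LocallyOfFiniteType f) :
    RepWith @LocallyOfFinitePresentation (pullback.diagonal f) := by
  obtain ⟨V, p, hpe, hps⟩ := hY.atlas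
  obtain ⟨U, q, h₀, hqe, hqs, comm⟩ := exists_chart_lift hX f p hpe hps
  have hh₀ : LocallyOfFiniteType h₀.left := hf q p h₀ hqe hpe comm
  -- `c = q ≫ f` is representable and lft
  have hc : RepWith @LocallyOfFiniteType (q ≫ f) := by
    rw [comm]
    exact (RepWith @LocallyOfFiniteType).comp_mem _ _ ((repWith_yon_map_iff _ h₀).2 hh₀)
      (repWith_mono etale_le_lft hpe)
  have sqc : IsPullback (pullback.fst (q ≫ f) (q ≫ f)) (pullback.snd (q ≫ f) (q ≫ f)) (q ≫ f)
      (q ≫ f) := IsPullback.of_hasPullback _ _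
  have hW : IsAlgSpace (pullback (q ≫ f) (q ≫ f)) :=
    isAlgSpace_of_isPullback hY.diag (IsAlgSpace.yon_obj U) (IsAlgSpace.yon_obj U) sqc
  have hb : RepWith @LocallyOfFiniteType (pullback.fst (q ≫ f) (q ≫ f)) :=
    (RepWith @LocallyOfFiniteType).of_isPullback sqc.flip hc
  have hΔb := repWith_lfp_diagonal_of_repWith_lft hW (IsAlgSpace.yon_obj U) _ hb
  have hab : RepWith @LocallyOfFinitePresentation
      (pullback.mapDesc q q f ≫ pullback.fst (q ≫ f) (q ≫ f)) := by
    have : pullback.mapDesc q q f ≫ pullback.fst (q ≫ f) (q ≫ f) = pullback.fst q q := by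
      simp [pullback.mapDesc]
    rw [this]
    exact repWith_mono etale_le_lfp
      ((RepWith @Etale).of_isPullback (IsPullback.of_hasPullback q q).flip hqe)
  have ha : RepWith @LocallyOfFinitePresentation (pullback.mapDesc q q f) :=
    repWith_of_comp_of_diagonal _ _ hab hΔb
  have sqD := pullback_map_diagonal_isPullback q q f
  have hee := repWith_pullback_map_of_repWith f q hqe
  have hes := repWith_pullback_map_of_repWith f q hqs
  haveI := isLocallySurjective_of_etale_surjective _ hee hes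
  exact repWith_of_isLocallySurjective_base (pullback.diagonal f)
    (diagonal_properties hX f).1 _ _ _ sqD _ ha

/-- S9960. -/
theorem diagonal_lfp_of_locP_lft {X Y : Sp S} (hX : IsAlgSpace X) (hY : IsAlgSpace Y)
    (f : X ⟶ Y) (hf : LocP @LocallyOfFiniteType f) :
    LocP @LocallyOfFinitePresentation (pullback.diagonal f) ∧
    (IsQuasiSeparatedMor f → IsFinitePresentationMor (pullback.diagonal f)) := by
  have h := repWith_lfp_diagonal_of_locP_lft hX hY f hf
  have h' : LocP @LocallyOfFinitePresentation (pullback.diagonal f) :=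
    locP_of_repWith etale_le_lfp _ h
  exact ⟨h', fun hqs => ⟨h', isQuasiCompactMor_of_repWith _ hqs, isQuasiSeparatedMor_of_mono _⟩⟩


theorem etale_le_universallyOpen :
    (@Etale : MorphismProperty Scheme.{u}) ≤ @UniversallyOpen :=
  fun _ _ f hf => by haveI : Etale f := hf; infer_instance

/-- S9962: flat and locally of finite presentation implies universally open. -/
theorem isUnivOpenMor_of_flat_lfp {X Y : Sp S} (hX : IsAlgSpace X) (hY : IsAlgSpace Y)
    (f : X ⟶ Y) (hfl : LocP @Flat f) (hfp : LocP @LocallyOfFinitePresentation f) :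
    IsUnivOpenMor f := by
  obtain ⟨V, p, hpe, hps⟩ := hY.atlas
  obtain ⟨U, q, h₀, hqe, hqs, comm⟩ := exists_chart_lift hX f p hpe hps
  haveI : Flat h₀.left := hfl q p h₀ hqe hpe comm
  haveI : LocallyOfFinitePresentation h₀.left := hfp q p h₀ hqe hpe comm
  have h1 : RepWith @UniversallyOpen ((yon S).map h₀) :=
    (repWith_yon_map_iff _ h₀).2 inferInstance
  have h2 : RepWith @UniversallyOpen p := repWith_mono etale_le_universallyOpen hpe
  have h3 : RepWith @UniversallyOpen (q ≫ f) := by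
    rw [comm]; exact (RepWith @UniversallyOpen).comp_mem _ _ h1 h2
  exact isUnivOpenMor_of_comp_surjective q f hqs (isUnivOpenMor_of_repWith _ h3)

/-- A quasi-compact open of an etale surjective chart of a sheaf with quasi-compact space of points
which still surjects onto the points. -/
theorem exists_compact_open_surjective {F : Sp S} {V₀ : Over S}
    (q₀ : (yon S).obj V₀ ⟶ F) (hqe : RepWith @Etale q₀) (hqs : RepWith @Surjective q₀)
    [CompactSpace (Points F)] :
    ∃ V' : V₀.left.Opens, IsCompact (V' : Set V₀.left) ∧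
      ∀ x : Points F, ∃ v ∈ V', Points.ofPt q₀ v = x := by
  have hopen := isOpenMap_ofPt_of_etale q₀ hqe
  have hsurj := surjective_ofPt q₀ hqs
  have hcover : (Set.univ : Set (Points F)) ⊆
      ⋃ O : V₀.left.affineOpens, Points.ofPt q₀ '' (O.1 : Set V₀.left) := by
    intro x _
    obtain ⟨v, rfl⟩ := hsurj x
    obtain ⟨_, ⟨O, hO, rfl⟩, hvO, -⟩ :=
      (V₀.left.isBasis_affineOpens).exists_subset_of_mem_open (Set.mem_univ v) isOpen_univ
    exact Set.mem_iUnion.2 ⟨⟨O, hO⟩, ⟨v, hvO, rfl⟩⟩
  obtain ⟨t, ht⟩ := isCompact_univ.elim_finite_subcover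
    (fun O : V₀.left.affineOpens => Points.ofPt q₀ '' (O.1 : Set V₀.left))
    (fun O => hopen _ O.1.isOpen) hcover
  refine ⟨⨆ O ∈ t, (O : V₀.left.affineOpens).1, ?_, ?_⟩
  · have : ((⨆ O ∈ t, (O : V₀.left.affineOpens).1 : V₀.left.Opens) : Set V₀.left) =
        ⋃ O ∈ t, ((O : V₀.left.affineOpens).1 : Set V₀.left) := by
      simp
    rw [this]
    exact t.isCompact_biUnion (fun O _ => O.2.isCompact)
  · intro x
    have hx := ht (Set.mem_univ x)
    simp only [Set.mem_iUnion] at hx
    obtain ⟨O, hOt, v, hvO, rfl⟩ := hx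
    refine ⟨v, ?_, rfl⟩
    simp only [TopologicalSpace.Opens.mem_iSup]
    exact ⟨O, hOt, hvO⟩

/-- Key case of S9963: base change to an affine scheme mapping to the chart `V` of `Y`. -/
theorem isQuotientMap_of_flat_qc_surjective_aux {X Y : Sp S} (hX : IsAlgSpace X)
    (hY : IsAlgSpace Y) (f : X ⟶ Y) (hfl : LocP @Flat f) (hqc : IsQuasiCompactMor f)
    (hs : IsSurjectiveMor f) {V : Over S} (p : (yon S).obj V ⟶ Y) (hpe : RepWith @Etale p)
    {T : Over S} (hT : IsAffine T.left) (s : T ⟶ V) {XT : Sp S} (π₁ : XT ⟶ X)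
    (π₂ : XT ⟶ (yon S).obj T) (sqT : IsPullback π₁ π₂ f ((yon S).map s ≫ p)) :
    Topology.IsQuotientMap (Points.map π₂) := by
  -- the base change `X_V`
  have sqV : IsPullback (pullback.fst f p) (pullback.snd f p) f p := IsPullback.of_hasPullback _ _
  have hXV : IsAlgSpace (pullback f p) :=
    isAlgSpace_of_isPullback hY.diag hX (IsAlgSpace.yon_obj V) sqV
  obtain ⟨U, q', hq'e, hq's⟩ := hXV.atlas
  obtain ⟨h₀, hh₀⟩ := (yon S).map_surjective (q' ≫ pullback.snd f p)
  have hfst : RepWith @Etale (pullback.fst f p) := (RepWith @Etale).of_isPullback sqV.flip hpe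
  have hflat : Flat h₀.left :=
    hfl (q' ≫ pullback.fst f p) p h₀ ((RepWith @Etale).comp_mem _ _ hq'e hfst) hpe
      (by rw [Category.assoc, sqV.w, ← Category.assoc, hh₀])
  -- the scheme `U_T`
  have sqU : IsPullback (pullback.fst h₀ s) (pullback.snd h₀ s) h₀ s :=
    IsPullback.of_hasPullback _ _
  set u₁ := pullback.fst h₀ s
  set u₂ := pullback.snd h₀ s
  haveI : Flat u₂.left :=
    MorphismProperty.of_isPullback (P := @Flat) (sqU.map (Over.forget S)) hflat
  -- `X_T ⟶ X_V`
  have hm : π₁ ≫ f = (π₂ ≫ (yon S).map s) ≫ p := by rw [sqT.w, Category.assoc]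
  have sqm : IsPullback (sqV.lift π₁ (π₂ ≫ (yon S).map s) hm) π₂ (pullback.snd f p)
      ((yon S).map s) := by
    refine IsPullback.of_right (h₁₂ := pullback.fst f p) (h₂₂ := p) (v₁₃ := f) ?_
      (sqV.lift_snd _ _ _) sqV
    rw [sqV.lift_fst]
    exact sqT
  set m := sqV.lift π₁ (π₂ ≫ (yon S).map s) hm
  -- `h_{U_T} ⟶ X_T`
  have haw : ((yon S).map u₁ ≫ q') ≫ pullback.snd f p = (yon S).map u₂ ≫ (yon S).map s := by
    rw [Category.assoc, ← hh₀, ← Functor.map_comp, ← Functor.map_comp, sqU.w]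
  have sqa : IsPullback (sqm.lift _ _ haw) ((yon S).map u₁) m q' := by
    refine IsPullback.of_right (h₁₂ := π₂) (h₂₂ := pullback.snd f p) (v₁₃ := (yon S).map s) ?_
      (sqm.lift_fst _ _ _) sqm.flip
    rw [sqm.lift_snd, ← hh₀]
    exact (sqU.map (yon S)).flip
  set a := sqm.lift _ _ haw
  have ha2 : a ≫ π₂ = (yon S).map u₂ := sqm.lift_snd _ _ _
  have hae : RepWith @Etale a := (RepWith @Etale).of_isPullback sqa.flip hq'e
  have has : RepWith @Surjective a := (RepWith @Surjective).of_isPullback sqa.flip hq's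
  -- quasi-compactness
  have hXTqc : IsQuasiCompactSp XT :=
    hqc (IsAlgSpace.yon_obj T) ((isQuasiCompactSp_yon_iff T).2 inferInstance) _ π₁ π₂ sqT
  haveI := compactSpace_points_of_isQuasiCompactSp hXTqc
  obtain ⟨Uc, hUc, hsurj⟩ := exists_compact_open_surjective a hae has
  have hπ₂s : Function.Surjective (Points.map π₂) := isSurjectiveMor_of_isPullback sqT hs
  -- the scheme morphism `U_c ⟶ T`
  have hkey : ∀ v : (pullback h₀ s).left, Points.map π₂ (Points.ofPt a v) =
      Points.schemeHomeo T (u₂.left v) := by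
    intro v
    rw [Points.map_ofPt, ha2, ofPt_yon_map]
    rfl
  haveI : Flat (Uc.ι ≫ u₂.left) := inferInstance
  haveI : Surjective (Uc.ι ≫ u₂.left) := ⟨fun x => by
    obtain ⟨ξ, hξ⟩ := hπ₂s (Points.schemeHomeo T x)
    obtain ⟨v, hv, rfl⟩ := hsurj ξ
    refine ⟨⟨v, hv⟩, ?_⟩
    apply (Points.schemeHomeo T).injective
    rw [← hξ, hkey]
    rfl⟩
  have hUcc : CompactSpace ↥(Uc : Scheme) := isCompact_iff_compactSpace.1 hUc
  haveI : QuasiCompact (Uc.ι ≫ u₂.left) :=
    (HasAffineProperty.iff_of_isAffine (P := @QuasiCompact)).2 hUcc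
  have hquot := Flat.isQuotientMap_of_surjective (Uc.ι ≫ u₂.left)
  refine ⟨Topology.isCoinducing_iff.2 fun W => ⟨fun hW => ?_, fun hW => hW.preimage
    (Points.continuous_map π₂)⟩, hπ₂s⟩
  rw [← (Points.schemeHomeo T).isOpen_preimage, ← hquot.isOpen_preimage]
  have : (Uc.ι ≫ u₂.left) ⁻¹' ((Points.schemeHomeo T) ⁻¹' W) =
      Uc.ι ⁻¹' (Points.ofPt a ⁻¹' (Points.map π₂ ⁻¹' W)) := by
    ext v
    simp only [Set.mem_preimage]
    rw [hkey]
    rfl
  rw [this]
  exact (hW.preimage (Points.continuous_ofPt a)).preimage Uc.ι.continuous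


/-- S9963: flat, quasi-compact and surjective implies universally submersive. -/
theorem isUnivSubmersiveMor_of_flat_qc_surjective {X Y : Sp S} (hX : IsAlgSpace X)
    (hY : IsAlgSpace Y) (f : X ⟶ Y) (hfl : LocP @Flat f) (hqc : IsQuasiCompactMor f)
    (hs : IsSurjectiveMor f) : IsUnivSubmersiveMor f := by
  intro Z Z' _ g fst snd sq
  obtain ⟨V, p, hpe, hps⟩ := hY.atlas
  have hsurj : Function.Surjective (Points.map snd) := isSurjectiveMor_of_isPullback sq hs
  refine ⟨Topology.isCoinducing_iff.2 fun W => ⟨fun hW => ?_, fun hW => hW.preimage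
    (Points.continuous_map snd)⟩, hsurj⟩
  rw [isOpen_points_iff_affine]
  intro T hT t
  rw [isOpen_iff_forall_mem_open]
  intro x hx
  have prep := hpe.rep
  have sqT' := prep.isPullback' (t ≫ g)
  set t₁ := prep.fst' (t ≫ g)
  set t₂ := prep.snd (t ≫ g)
  have ht₂e : Etale t₂.left := hpe.property_snd _
  have ht₂s : Surjective t₂.left := hps.property_snd _
  obtain ⟨x', rfl⟩ := ht₂s.surj x
  obtain ⟨_, ⟨O', hO', rfl⟩, hx'O, -⟩ :=
    ((prep.pullback (t ≫ g)).left.isBasis_affineOpens).exists_subset_of_mem_open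
      (Set.mem_univ x') isOpen_univ
  let O'' : (prep.pullback (t ≫ g)).left.Opens := O'
  let T'' : Over S := Over.mk (O''.ι ≫ (prep.pullback (t ≫ g)).hom)
  let j : T'' ⟶ prep.pullback (t ≫ g) := Over.homMk O''.ι rfl
  have hT'' : IsAffine T''.left := (show IsAffineOpen O'' from hO')
  have hrs : ((yon S).map (j ≫ t₂) ≫ t) ≫ g = (yon S).map (j ≫ t₁) ≫ p := by
    rw [Functor.map_comp, Functor.map_comp, Category.assoc, Category.assoc, Category.assoc,
      sqT'.w]
  have sqT'' : IsPullback (pullback.fst f ((yon S).map (j ≫ t₁) ≫ p))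
      (pullback.snd f ((yon S).map (j ≫ t₁) ≫ p)) f ((yon S).map (j ≫ t₁) ≫ p) :=
    IsPullback.of_hasPullback _ _
  have hquot := isQuotientMap_of_flat_qc_surjective_aux hX hY f hfl hqc hs p hpe hT'' (j ≫ t₁)
    _ _ sqT''
  set π₂ := pullback.snd f ((yon S).map (j ≫ t₁) ≫ p)
  have hb : pullback.fst f ((yon S).map (j ≫ t₁) ≫ p) ≫ f =
      (π₂ ≫ (yon S).map (j ≫ t₂) ≫ t) ≫ g := by
    have h1 := sqT''.w
    have h2 : π₂ ≫ ((yon S).map (j ≫ t₁) ≫ p) = (π₂ ≫ (yon S).map (j ≫ t₂) ≫ t) ≫ g := by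
      simp only [Category.assoc]
      exact congrArg (π₂ ≫ ·) (by simpa only [Category.assoc] using hrs.symm)
    exact h1.trans h2
  have hb2 : sq.lift _ _ hb ≫ snd = π₂ ≫ (yon S).map (j ≫ t₂) ≫ t := sq.lift_snd _ _ _
  have hopen : IsOpen ((j ≫ t₂).left ⁻¹' (Points.ofPt t ⁻¹' W)) := by
    rw [← (Points.schemeHomeo T'').symm.isOpen_preimage, ← hquot.isOpen_preimage]
    have : Points.map π₂ ⁻¹' ((Points.schemeHomeo T'').symm ⁻¹'
        ((j ≫ t₂).left ⁻¹' (Points.ofPt t ⁻¹' W))) =
        Points.map (sq.lift _ _ hb) ⁻¹' (Points.map snd ⁻¹' W) := by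
      ext ξ
      obtain ⟨v, hv⟩ := (Points.schemeHomeo T'').surjective (Points.map π₂ ξ)
      simp only [Set.mem_preimage]
      rw [← hv, Homeomorph.symm_apply_apply, ← ofPt_comp_yon_map,
        Points.ofPt_eq_map_ofScheme]
      change Points.map _ (Points.schemeHomeo T'' v) ∈ W ↔ _
      rw [hv, ← Points.map_comp, ← Points.map_comp, hb2]
    rw [this]
    exact (hW.preimage (Points.continuous_map _))
  haveI : Etale (j ≫ t₂).left := by
    rw [Over.comp_left]
    haveI : Etale j.left := (show Etale O''.ι from inferInstance)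
    infer_instance
  refine ⟨(j ≫ t₂).left '' ((j ≫ t₂).left ⁻¹' (Points.ofPt t ⁻¹' W)),
    Set.image_preimage_subset _ _, (j ≫ t₂).left.isOpenMap _ hopen, ?_⟩
  refine ⟨(⟨x', hx'O⟩ : O''), ?_, rfl⟩
  exact hx

theorem isSubmersiveMor_of_isUnivSubmersiveMor {X Y : Sp S} (hY : IsAlgSpace Y) (f : X ⟶ Y)
    (hf : IsUnivSubmersiveMor f) : IsSubmersiveMor f :=
  hf hY (𝟙 Y) (𝟙 X) f (IsPullback.of_id_fst)

end Groth.Agent.Helper15
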