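import Mathlib
import Groth.Agent.Lib.Helper15.AlgSpLim21
import Groth.Agent.Lib.Helper15.AlgSpUnram
import Groth.Agent.Lib.Helper15.AlgSpField
import Groth.Agent.Lib.Helper15.AlgSpLocP3

set_option autoImplicit false
set_option linter.unusedVariables false

universe u

open CategoryTheory CategoryTheory.Limits AlgebraicGeometry MorphismProperty Opposite
open AlgSp

namespace Groth.Agent.Helper15.AlgSpLim

variable {S : Scheme.{u}}

attribute [local instance] IsCofiltered.isConnected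

section Stage

variable [QuasiSeparatedSpace ↥S] {I : Type u} [SmallCategory I] [IsCofiltered I]
  (D : I ⥤ Sp S) (hD : ∀ i, IsAlgSpace (D.obj i))
  (hDa : ∀ (i j : I) (φ : i ⟶ j), IsAffineMor (D.map φ))
  (c : Cone D) (hc : IsLimit c) (i₀ : I)

/-- The conclusion of the descent statements, in the strong form. -/
def StageProp {X₀ Y₀ : Sp S} (f₀ : X₀ ⟶ Y₀) (b₀ : Y₀ ⟶ D.obj i₀)
    (Psp : ∀ {A B : Sp S}, (A ⟶ B) → Prop) : Prop :=
  ∃ k₁ : Over i₀, ∀ (k : Over i₀) (_ : k ⟶ k₁) (Xi Yi : Sp S) (fi : Xi ⟶ Yi) (pYi : Yi ⟶ Y₀)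
    (qYi : Yi ⟶ D.obj k.left) (_ : IsPullback pYi qYi b₀ (D.map k.hom)) (pXi : Xi ⟶ X₀)
    (_ : IsPullback pXi fi f₀ pYi), Psp fi

include hD hDa hc in
theorem stageProp_surjective {X₀ Y₀ : Sp S} (hXa : IsAlgSpace X₀) (hYa : IsAlgSpace Y₀)
    (f₀ : X₀ ⟶ Y₀) (b₀ : Y₀ ⟶ D.obj i₀) (hXqc : IsQuasiCompactSp X₀) (hYqc : IsQuasiCompactSp Y₀)
    (hYqs : IsQuasiSeparatedSp Y₀) (hf₀ : LocP @LocallyOfFinitePresentation f₀)
    {X Y : Sp S} (f : X ⟶ Y) (pY : Y ⟶ Y₀) (qY : Y ⟶ c.pt)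
    (hY : IsPullback pY qY b₀ (c.π.app i₀)) (pX : X ⟶ X₀) (hX : IsPullback pX f f₀ pY)
    (hf : IsSurjectiveMor f) : StageProp D i₀ f₀ b₀ (fun {A B} g => IsSurjectiveMor g) := by
  obtain ⟨M⟩ := nonempty_morChart f₀ hXqc hYqc hYqs
  exact exists_stage_of_chart D hD hDa c hc i₀ hXa hYa f₀ b₀ hf₀ M
    (fun {A B} g => IsSurjectiveMor g) @Surjective descendsAffine_surjective
    (fun _ _ _ _ _ hX' _ g' z sqV => M.isSurjectiveMor_baseChange_iff hX' g' z sqV)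
    f pY qY hY pX hX hf

include hD hDa hc in
theorem stageProp_etale {X₀ Y₀ : Sp S} (hXa : IsAlgSpace X₀) (hYa : IsAlgSpace Y₀)
    (f₀ : X₀ ⟶ Y₀) (b₀ : Y₀ ⟶ D.obj i₀) (hXqc : IsQuasiCompactSp X₀) (hYqc : IsQuasiCompactSp Y₀)
    (hYqs : IsQuasiSeparatedSp Y₀) (hf₀ : LocP @LocallyOfFinitePresentation f₀)
    {X Y : Sp S} (f : X ⟶ Y) (pY : Y ⟶ Y₀) (qY : Y ⟶ c.pt)
    (hY : IsPullback pY qY b₀ (c.π.app i₀)) (pX : X ⟶ X₀) (hX : IsPullback pX f f₀ pY)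
    (hf : IsEtaleMor f) : StageProp D i₀ f₀ b₀ (fun {A B} g => IsEtaleMor g) := by
  obtain ⟨M⟩ := nonempty_morChart f₀ hXqc hYqc hYqs
  exact exists_stage_of_chart D hD hDa c hc i₀ hXa hYa f₀ b₀ hf₀ M
    (fun {A B} g => IsEtaleMor g) @Etale descendsAffine_etale
    (fun hXa hYa _ _ f' hX' _ g' z sqV =>
      ⟨fun h => (M.locP_baseChange_iff @Etale (Or.inr (Or.inr (Or.inr (Or.inr (Or.inl rfl))))) hXa
          hYa hX' g' z sqV).1 (locP_etale_of_isEtaleMor hYa f' h),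
        fun h => isEtaleMor_of_locP_etale hYa f'
          ((M.locP_baseChange_iff @Etale (Or.inr (Or.inr (Or.inr (Or.inr (Or.inl rfl))))) hXa
            hYa hX' g' z sqV).2 h)⟩)
    f pY qY hY pX hX hf


omit [QuasiSeparatedSpace ↥S] [IsCofiltered I] in
/-- The pullback data for the diagonal. -/
theorem diag_data {X₀ Y₀ B₀ X Y B : Sp S} {f₀ : X₀ ⟶ Y₀} {b₀ : Y₀ ⟶ B₀} {f : X ⟶ Y} {pY : Y ⟶ Y₀}
    {qY : Y ⟶ B} {π : B ⟶ B₀} (hY : IsPullback pY qY b₀ π) {pX : X ⟶ X₀}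
    (hX : IsPullback pX f f₀ pY) :
    IsPullback (pullback.map f f f₀ f₀ pX pX pY hX.w.symm hX.w.symm)
      ((pullback.fst f f ≫ f) ≫ qY) ((pullback.fst f₀ f₀ ≫ f₀) ≫ b₀) π ∧
    IsPullback pX (pullback.diagonal f) (pullback.diagonal f₀)
      (pullback.map f f f₀ f₀ pX pX pY hX.w.symm hX.w.symm) :=
  ⟨(isPullback_map_of_isPullback hX).paste_vert hY, isPullback_diagonal_of_isPullback hX⟩

include hD in
omit [QuasiSeparatedSpace ↥S] [IsCofiltered I] in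
/-- Descent for a property detected on the diagonal. -/
theorem stageProp_of_diagonal {X₀ Y₀ : Sp S} (hXa : IsAlgSpace X₀) (hYa : IsAlgSpace Y₀)
    (f₀ : X₀ ⟶ Y₀) (b₀ : Y₀ ⟶ D.obj i₀)
    (Psp Psp' : ∀ {A B : Sp S}, (A ⟶ B) → Prop)
    (h : StageProp D i₀ (pullback.diagonal f₀) ((pullback.fst f₀ f₀ ≫ f₀) ≫ b₀) Psp')
    (himp : ∀ {A B : Sp S} (g : A ⟶ B), IsAlgSpace A → IsAlgSpace B →
      Psp' (pullback.diagonal g) → Psp g) : StageProp D i₀ f₀ b₀ Psp := by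
  obtain ⟨k₁, hk₁⟩ := h
  refine ⟨k₁, fun k φ Xi Yi fi pYi qYi hYi pXi hXi => ?_⟩
  have hYialg : IsAlgSpace Yi := isAlgSpace_of_isPullback (hD i₀).diag hYa (hD k.left) hYi
  have hXialg : IsAlgSpace Xi := isAlgSpace_of_isPullback hYa.diag hXa hYialg hXi
  obtain ⟨h1, h2⟩ := diag_data hYi hXi
  exact himp fi hXialg hYialg (hk₁ k φ Xi (pullback fi fi) (pullback.diagonal fi) _ _ h1 pXi h2)


include hD hDa hc in
theorem stageProp_univInjective {X₀ Y₀ : Sp S} (hXa : IsAlgSpace X₀) (hYa : IsAlgSpace Y₀)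
    (f₀ : X₀ ⟶ Y₀) (b₀ : Y₀ ⟶ D.obj i₀) (hXqc : IsQuasiCompactSp X₀) (hXqs : IsQuasiSeparatedSp X₀)
    (hYqs : IsQuasiSeparatedSp Y₀) (hf₀ : LocP @LocallyOfFiniteType f₀)
    {X Y : Sp S} (f : X ⟶ Y) (pY : Y ⟶ Y₀) (qY : Y ⟶ c.pt)
    (hY : IsPullback pY qY b₀ (c.π.app i₀)) (pX : X ⟶ X₀) (hX : IsPullback pX f f₀ pY)
    (hf : IsUnivInjectiveMor f) :
    StageProp D i₀ f₀ b₀ (fun {A B} g => IsUnivInjectiveMor g) := by
  have sq₀ : IsPullback (pullback.fst f₀ f₀) (pullback.snd f₀ f₀) f₀ f₀ :=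
    IsPullback.of_hasPullback _ _
  have hPa : IsAlgSpace (pullback f₀ f₀) := isAlgSpace_of_isPullback hYa.diag hXa hXa sq₀
  have hPqc : IsQuasiCompactSp (pullback f₀ f₀) := isQuasiCompactSp_of_isPullback sq₀ hXqc hXqc hYqs
  have hPqs : IsQuasiSeparatedSp (pullback f₀ f₀) := isQuasiSeparatedSp_of_isPullback sq₀ hXqs hXqs
  have hΔ : LocP @LocallyOfFinitePresentation (pullback.diagonal f₀) :=
    (diagonal_lfp_of_locP_lft hXa hYa f₀ hf₀).1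
  have hcpt : IsAlgSpace c.pt := isAlgSpace_limit D hD hDa c hc
  have hYalg : IsAlgSpace Y := isAlgSpace_of_isPullback (hD i₀).diag hYa hcpt hY
  have hXalg : IsAlgSpace X := isAlgSpace_of_isPullback hYa.diag hXa hYalg hX
  have hsurj : IsSurjectiveMor (pullback.diagonal f) :=
    (injOnFieldPts_of_isUnivInjectiveMor hXalg.diag hf).isSurjectiveMor_diagonal
  obtain ⟨h1, h2⟩ := diag_data hY hX
  have hst := stageProp_surjective D hD hDa c hc i₀ hXa hPa (pullback.diagonal f₀)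
    ((pullback.fst f₀ f₀ ≫ f₀) ≫ b₀) hXqc hPqc hPqs hΔ (pullback.diagonal f) _ _ h1 pX h2 hsurj
  exact stageProp_of_diagonal D hD i₀ hXa hYa f₀ b₀ (fun {A B} g => IsUnivInjectiveMor g)
    (fun {A B} g => IsSurjectiveMor g) hst
    (fun g hA hB h => (injOnFieldPts_of_isSurjectiveMor_diagonal hA.diag h).isUnivInjectiveMor)


omit [QuasiSeparatedSpace ↥S] in
/-- Conjunction of two stage properties. -/
theorem StageProp.and {X₀ Y₀ : Sp S} {f₀ : X₀ ⟶ Y₀} {b₀ : Y₀ ⟶ D.obj i₀}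
    {P₁ P₂ : ∀ {A B : Sp S}, (A ⟶ B) → Prop} (h₁ : StageProp D i₀ f₀ b₀ P₁)
    (h₂ : StageProp D i₀ f₀ b₀ P₂) : StageProp D i₀ f₀ b₀ (fun {A B} g => P₁ g ∧ P₂ g) := by
  obtain ⟨k₁, hk₁⟩ := h₁
  obtain ⟨k₂, hk₂⟩ := h₂
  refine ⟨IsCofiltered.min k₁ k₂, fun k φ Xi Yi fi pYi qYi hYi pXi hXi => ⟨?_, ?_⟩⟩
  · exact hk₁ k (φ ≫ IsCofiltered.minToLeft k₁ k₂) Xi Yi fi pYi qYi hYi pXi hXi
  · exact hk₂ k (φ ≫ IsCofiltered.minToRight k₁ k₂) Xi Yi fi pYi qYi hYi pXi hXi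

include hD hDa hc in
theorem stageProp_isIso {X₀ Y₀ : Sp S} (hXa : IsAlgSpace X₀) (hYa : IsAlgSpace Y₀)
    (f₀ : X₀ ⟶ Y₀) (b₀ : Y₀ ⟶ D.obj i₀) (hXqc : IsQuasiCompactSp X₀) (hXqs : IsQuasiSeparatedSp X₀)
    (hYqc : IsQuasiCompactSp Y₀) (hYqs : IsQuasiSeparatedSp Y₀)
    (hf₀ : LocP @LocallyOfFinitePresentation f₀)
    {X Y : Sp S} (f : X ⟶ Y) (pY : Y ⟶ Y₀) (qY : Y ⟶ c.pt)
    (hY : IsPullback pY qY b₀ (c.π.app i₀)) (pX : X ⟶ X₀) (hX : IsPullback pX f f₀ pY)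
    [IsIso f] : StageProp D i₀ f₀ b₀ (fun {A B} g => IsIso g) := by
  have het : IsEtaleMor f := isEtaleMor_of_repWith_etale f (repWith_of_isIso @Etale f)
  have hsurj : IsSurjectiveMor f := fun y => ⟨Points.map (inv f) y, by
    rw [← Points.map_comp, IsIso.inv_hom_id, Points.map_id]⟩
  have hinj : IsUnivInjectiveMor f := by
    refine InjOnFieldPts.isUnivInjectiveMor (fun K _ str a b hab => ?_)
    exact (cancel_mono f).1 hab
  have h1 := stageProp_etale D hD hDa c hc i₀ hXa hYa f₀ b₀ hXqc hYqc hYqs hf₀ f pY qY hY pX hX het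
  have h2 := stageProp_surjective D hD hDa c hc i₀ hXa hYa f₀ b₀ hXqc hYqc hYqs hf₀ f pY qY hY pX
    hX hsurj
  have h3 := stageProp_univInjective D hD hDa c hc i₀ hXa hYa f₀ b₀ hXqc hXqs hYqs
    (locP_mono lfp_le_lft hf₀) f pY qY hY pX hX hinj
  obtain ⟨k₁, hk₁⟩ := (h1.and D i₀ h2).and D i₀ h3
  refine ⟨k₁, fun k φ Xi Yi fi pYi qYi hYi pXi hXi => ?_⟩
  have hYialg : IsAlgSpace Yi := isAlgSpace_of_isPullback (hD i₀).diag hYa (hD k.left) hYi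
  have hXialg : IsAlgSpace Xi := isAlgSpace_of_isPullback hYa.diag hXa hYialg hXi
  obtain ⟨⟨he, hs⟩, hi⟩ := hk₁ k φ Xi Yi fi pYi qYi hYi pXi hXi
  have hop := repWith_isOpenImmersion_of_isEtaleMor_univInjective hXialg hYialg fi he hi
  exact isIso_of_repWith_isOpenImmersion_surjective fi hop
    (repWith_surjective_of_isSurjectiveMor fi hop.rep hs)

include hD hDa hc in
theorem stageProp_mono {X₀ Y₀ : Sp S} (hXa : IsAlgSpace X₀) (hYa : IsAlgSpace Y₀)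
    (f₀ : X₀ ⟶ Y₀) (b₀ : Y₀ ⟶ D.obj i₀) (hXqc : IsQuasiCompactSp X₀) (hXqs : IsQuasiSeparatedSp X₀)
    (hYqs : IsQuasiSeparatedSp Y₀) (hf₀ : LocP @LocallyOfFiniteType f₀)
    {X Y : Sp S} (f : X ⟶ Y) (pY : Y ⟶ Y₀) (qY : Y ⟶ c.pt)
    (hY : IsPullback pY qY b₀ (c.π.app i₀)) (pX : X ⟶ X₀) (hX : IsPullback pX f f₀ pY)
    [Mono f] : StageProp D i₀ f₀ b₀ (fun {A B} g => Mono g) := by
  have sq₀ : IsPullback (pullback.fst f₀ f₀) (pullback.snd f₀ f₀) f₀ f₀ :=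
    IsPullback.of_hasPullback _ _
  have hPa : IsAlgSpace (pullback f₀ f₀) := isAlgSpace_of_isPullback hYa.diag hXa hXa sq₀
  have hPqc : IsQuasiCompactSp (pullback f₀ f₀) := isQuasiCompactSp_of_isPullback sq₀ hXqc hXqc hYqs
  have hPqs : IsQuasiSeparatedSp (pullback f₀ f₀) := isQuasiSeparatedSp_of_isPullback sq₀ hXqs hXqs
  have hΔ : LocP @LocallyOfFinitePresentation (pullback.diagonal f₀) :=
    (diagonal_lfp_of_locP_lft hXa hYa f₀ hf₀).1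
  obtain ⟨h1, h2⟩ := diag_data hY hX
  have : IsIso (pullback.diagonal f) := inferInstance
  have hst := stageProp_isIso D hD hDa c hc i₀ hXa hPa (pullback.diagonal f₀)
    ((pullback.fst f₀ f₀ ≫ f₀) ≫ b₀) hXqc hXqs hPqc hPqs hΔ (pullback.diagonal f) _ _ h1 pX h2
  exact stageProp_of_diagonal D hD i₀ hXa hYa f₀ b₀ (fun {A B} g => Mono g)
    (fun {A B} g => IsIso g) hst
    (fun g hA hB h => (pullback.isIso_diagonal_iff g).1 h)

end Stage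

end Groth.Agent.Helper15.AlgSpLim
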