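import Mathlib
import Groth.Agent.Lib.Helper15.AlgSpLim22
import Groth.Agent.Lib.Helper15.AlgSpEtAffTarget

set_option autoImplicit false

universe u

open CategoryTheory CategoryTheory.Limits AlgebraicGeometry MorphismProperty Opposite
open AlgSp

namespace Groth.Agent.Helper15.AlgSpLim

section Ring

variable {A B : Type u} [CommRing A] [CommRing B] (φ : A →+* B) (t : Finset A)

/-- The relation `∑ X_a * a - 1`. -/
noncomputable def relPoly : MvPolynomial t A :=
  ∑ i : t, MvPolynomial.X i * MvPolynomial.C (i : A) - 1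

/-- The algebra `A[X_a : a ∈ t]/(∑ X_a a - 1)`: the universal `A`-algebra in which `t` generates
the unit ideal. -/
abbrev CoverAlg : Type u := MvPolynomial t A ⧸ Ideal.span {relPoly t}

instance : Algebra.FinitePresentation A (CoverAlg t) :=
  Algebra.FinitePresentation.quotient ⟨{relPoly t}, by simp⟩

theorem span_coverAlg : Ideal.span (algebraMap A (CoverAlg t) '' (t : Set A)) = ⊤ := by
  rw [Ideal.eq_top_iff_one]
  have h0 : Ideal.Quotient.mk (Ideal.span {relPoly t}) (relPoly t) = 0 :=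
    Ideal.Quotient.eq_zero_iff_mem.2 (Ideal.subset_span rfl)
  have h1 : (1 : CoverAlg t) = ∑ i : t, Ideal.Quotient.mk (Ideal.span {relPoly t})
      (MvPolynomial.X i) * algebraMap A (CoverAlg t) (i : A) := by
    have h2 : Ideal.Quotient.mk (Ideal.span {relPoly t})
        (∑ i : t, MvPolynomial.X i * MvPolynomial.C (i : A)) = 1 := by
      have : relPoly t = ∑ i : t, MvPolynomial.X i * MvPolynomial.C (i : A) - 1 := rfl
      rw [this, map_sub, map_one, sub_eq_zero] at h0
      exact h0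
    rw [← h2, map_sum]
    refine Finset.sum_congr rfl (fun i _ => ?_)
    rw [map_mul]
    rfl
  rw [h1]
  refine Ideal.sum_mem _ (fun i _ => Ideal.mul_mem_left _ _ (Ideal.subset_span ?_))
  exact ⟨i, i.2, rfl⟩

/-- The map out of the cover algebra. -/
noncomputable def coverAlgLift (c : t → B) (h : ∑ i : t, c i * φ (i : A) = 1) : CoverAlg t →+* B :=
  Ideal.Quotient.lift _ (MvPolynomial.eval₂Hom φ c) (by
    intro a ha
    obtain ⟨b, rfl⟩ := Ideal.mem_span_singleton'.1 ha
    rw [map_mul]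
    have : MvPolynomial.eval₂Hom φ c (relPoly t) = 0 := by
      rw [relPoly, map_sub, map_one, map_sum, sub_eq_zero, ← h]
      refine Finset.sum_congr rfl (fun i _ => ?_)
      rw [map_mul, MvPolynomial.eval₂Hom_X', MvPolynomial.eval₂Hom_C]
    rw [this, mul_zero])

theorem coverAlgLift_comp (c : t → B) (h : ∑ i : t, c i * φ (i : A) = 1) :
    (coverAlgLift φ t c h).comp (algebraMap A (CoverAlg t)) = φ := by
  ext a
  have : algebraMap A (CoverAlg t) a =
      Ideal.Quotient.mk (Ideal.span {relPoly t}) (MvPolynomial.C a) := rfl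
  rw [RingHom.comp_apply, this, coverAlgLift, Ideal.Quotient.lift_mk, MvPolynomial.eval₂Hom_C]

end Ring

/-- Surjective etale morphisms of affine schemes have surjective etale models of finite
presentation over the integers. -/
theorem exists_fpModel_etale_surjective {X Y : Scheme.{u}} [IsAffine X] [IsAffine Y] (f : X ⟶ Y)
    [Etale f] [Surjective f] : ∃ M : FpModel f, Etale M.q' ∧ Surjective M.q' := by
  obtain ⟨M, hM⟩ := exists_fpModel_etale f
  have hZ' := M.hZ'
  have hQ' := M.hQ'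
  let O : M.Z'.Opens := ⟨Set.range M.q', M.q'.isOpenMap.isOpen_range⟩
  have hζO : ∀ y : Y, M.ζ y ∈ O := by
    intro y
    obtain ⟨x, rfl⟩ := f.surjective y
    refine ⟨M.ρ x, ?_⟩
    rw [← Scheme.Hom.comp_apply, ← Scheme.Hom.comp_apply, M.sq.w]
  let s : Set Γ(M.Z', ⊤) := {a | M.Z'.basicOpen a ≤ O}
  have hspan : Ideal.span (M.ζ.appTop.hom '' s) = ⊤ := by
    rw [← (isAffineOpen_top Y).self_le_iSup_basicOpen_iff]
    intro y _
    obtain ⟨_, ⟨_, ⟨a, rfl⟩, rfl⟩, hya, haO⟩ := (isBasis_basicOpen M.Z').exists_subset_of_mem_open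
      (hζO y) O.2
    rw [TopologicalSpace.Opens.mem_iSup]
    refine ⟨⟨M.ζ.appTop.hom a, a, haO, rfl⟩, ?_⟩
    change y ∈ Y.basicOpen (M.ζ.appTop.hom a)
    rw [← Scheme.preimage_basicOpen_top]
    exact hya
  have h1 : (1 : Γ(Y, ⊤)) ∈ Ideal.span (M.ζ.appTop.hom '' s) := by rw [hspan]; trivial
  obtain ⟨t, hts, c, hc⟩ := (Submodule.mem_span_image_iff_exists_fun _).1 h1
  have hc' : ∑ i : t, c i * M.ζ.appTop.hom (i : Γ(M.Z', ⊤)) = 1 := hc
  let A'' : CommRingCat.{u} := CommRingCat.of (CoverAlg t)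
  let α : Γ(M.Z', ⊤) ⟶ A'' := CommRingCat.ofHom (algebraMap _ _)
  let ψ : A'' ⟶ Γ(Y, ⊤) := CommRingCat.ofHom (coverAlgLift M.ζ.appTop.hom t c hc')
  have hαψ : α ≫ ψ = M.ζ.appTop := by
    ext a
    exact congrFun (congrArg DFunLike.coe (coverAlgLift_comp M.ζ.appTop.hom t c hc')) a
  let u : Spec A'' ⟶ M.Z' := Spec.map α ≫ M.Z'.isoSpec.inv
  let ζ'' : Y ⟶ Spec A'' := Y.isoSpec.hom ≫ Spec.map ψ
  have hζu : ζ'' ≫ u = M.ζ := by
    change (Y.isoSpec.hom ≫ Spec.map ψ) ≫ Spec.map α ≫ M.Z'.isoSpec.inv = M.ζ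
    rw [Category.assoc, ← Spec.map_comp_assoc, hαψ, Scheme.isoSpec_hom_naturality_assoc,
      Iso.hom_inv_id, Category.comp_id]
  have huO : ∀ z : Spec A'', u z ∈ O := by
    intro z
    have hz : ∃ a ∈ t, algebraMap Γ(M.Z', ⊤) (CoverAlg t) a ∉ z.asIdeal := by
      by_contra hcon
      push Not at hcon
      have : Ideal.span (algebraMap Γ(M.Z', ⊤) (CoverAlg t) '' (t : Set Γ(M.Z', ⊤))) ≤
          z.asIdeal := by
        rw [Ideal.span_le]
        rintro _ ⟨a, ha, rfl⟩
        exact hcon a ha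
      rw [span_coverAlg, top_le_iff] at this
      exact z.isPrime.ne_top this
    obtain ⟨a, hat, haz⟩ := hz
    have h1 : Spec.map α z ∈ PrimeSpectrum.basicOpen a := haz
    have h2 : u z ∈ M.Z'.basicOpen a := by
      rw [← Scheme.map_PrimeSpectrum_basicOpen_of_affine]
      change M.Z'.isoSpec.hom ((Spec.map α ≫ M.Z'.isoSpec.inv) z) ∈
        (PrimeSpectrum.basicOpen a : TopologicalSpace.Opens (Spec Γ(M.Z', ⊤)))
      rw [← Scheme.Hom.comp_apply, Category.assoc, Iso.inv_hom_id, Category.comp_id]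
      exact h1
    exact hts hat h2
  have sqQ : IsPullback (pullback.fst M.q' u) (pullback.snd M.q' u) M.q' u :=
    IsPullback.of_hasPullback _ _
  let ρ'' : X ⟶ pullback M.q' u := pullback.lift M.ρ (f ≫ ζ'')
    (by rw [Category.assoc, hζu, M.sq.w])
  have hρ1 : ρ'' ≫ pullback.fst M.q' u = M.ρ := pullback.lift_fst _ _ _
  have hρ2 : ρ'' ≫ pullback.snd M.q' u = f ≫ ζ'' := pullback.lift_snd _ _ _
  have sq'' : IsPullback ρ'' f (pullback.snd M.q' u) ζ'' := by
    refine IsPullback.of_right ?_ hρ2 sqQ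
    rw [hρ1, hζu]
    exact M.sq
  have hα : α.hom.FinitePresentation :=
    RingHom.finitePresentation_algebraMap.2 (inferInstance : Algebra.FinitePresentation
      Γ(M.Z', ⊤) (CoverAlg t))
  have hαl : LocallyOfFinitePresentation (Spec.map α) :=
    (HasRingHomProperty.Spec_iff (P := @LocallyOfFinitePresentation)).2 hα
  have hul : LocallyOfFinitePresentation u := inferInstance
  have hlfp : LocallyOfFinitePresentation (specULiftZIsTerminal.from (Spec A'')) := by
    have := M.lfp
    have h : specULiftZIsTerminal.from (Spec A'') = u ≫ specULiftZIsTerminal.from M.Z' :=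
      specULiftZIsTerminal.hom_ext _ _
    rw [h]
    infer_instance
  refine ⟨{ Z' := Spec A'', Q' := pullback M.q' u, hZ' := inferInstance, hQ' := inferInstance,
            q' := pullback.snd M.q' u, ζ := ζ'', ρ := ρ'', sq := sq'', lfp := hlfp }, ?_, ?_⟩
  · change Etale (pullback.snd M.q' u)
    infer_instance
  · change Surjective (pullback.snd M.q' u)
    refine ⟨fun z => ?_⟩
    obtain ⟨x, hx⟩ := huO z
    obtain ⟨w, -, hw⟩ := Scheme.Pullback.exists_preimage_pullback x z hx
    exact ⟨w, hw⟩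

variable {S : Scheme.{u}}

/-- A model of a morphism of affine `S`-schemes, of finite presentation over `S`. -/
structure SModel {Ξ L : Over S} (ρ : L ⟶ Ξ) where
  Y' : Over S
  Y'' : Over S
  hY' : IsAffine Y'.left
  hY'' : IsAffine Y''.left
  lfp' : LocallyOfFinitePresentation Y'.hom
  lfp'' : LocallyOfFinitePresentation Y''.hom
  q : Y'' ⟶ Y'
  etale_q : Etale q.left
  surj_q : Surjective q.left
  ζ : Ξ ⟶ Y'
  ϱ : L ⟶ Y''
  sq : IsPullback ϱ ρ q ζ

/-- Surjective etale morphisms of affine `S`-schemes whose target maps into an affine scheme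
locally of finite presentation over `S` have models of finite presentation over `S`. -/
theorem nonempty_sModel {Ξ L : Over S} [IsAffine Ξ.left] [IsAffine L.left] (ρ : L ⟶ Ξ)
    [Etale ρ.left] [Surjective ρ.left] (S' : Scheme.{u}) [IsAffine S'] (j : S' ⟶ S)
    [LocallyOfFinitePresentation j] (s : Ξ.left ⟶ S') (hs : s ≫ j = Ξ.hom) :
    Nonempty (SModel ρ) := by
  obtain ⟨M, hMe, hMs⟩ := exists_fpModel_etale_surjective ρ.left
  have hZ' := M.hZ'
  have hQ' := M.hQ'
  have hlfp := M.lfp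
  let tZ := specULiftZIsTerminal.from M.Z'
  let tS := specULiftZIsTerminal.from S'
  let Y' : Over S := Over.mk (pullback.snd tZ tS ≫ j)
  let Y'' : Over S := Over.mk (pullback.snd M.q' (pullback.fst tZ tS) ≫ Y'.hom)
  let q : Y'' ⟶ Y' := Over.homMk (pullback.snd M.q' (pullback.fst tZ tS)) rfl
  let ζl : Ξ.left ⟶ pullback tZ tS := pullback.lift M.ζ s (specULiftZIsTerminal.hom_ext _ _)
  have hζ1 : ζl ≫ pullback.fst tZ tS = M.ζ := pullback.lift_fst _ _ _
  have hζ2 : ζl ≫ pullback.snd tZ tS = s := pullback.lift_snd _ _ _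
  let ζ : Ξ ⟶ Y' := Over.homMk ζl (by
    change ζl ≫ pullback.snd tZ tS ≫ j = Ξ.hom
    rw [reassoc_of% hζ2, hs])
  let ϱl : L.left ⟶ pullback M.q' (pullback.fst tZ tS) := pullback.lift M.ρ (ρ.left ≫ ζl)
    (by rw [Category.assoc, hζ1, M.sq.w])
  have hϱ1 : ϱl ≫ pullback.fst _ _ = M.ρ := pullback.lift_fst _ _ _
  have hϱ2 : ϱl ≫ pullback.snd _ _ = ρ.left ≫ ζl := pullback.lift_snd _ _ _
  let ϱ : L ⟶ Y'' := Over.homMk ϱl (by
    change ϱl ≫ pullback.snd M.q' (pullback.fst tZ tS) ≫ pullback.snd tZ tS ≫ j = L.hom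
    rw [reassoc_of% hϱ2, reassoc_of% hζ2, hs, CategoryTheory.Over.w])
  have sql : IsPullback ϱl ρ.left (pullback.snd M.q' (pullback.fst tZ tS)) ζl := by
    refine IsPullback.of_right ?_ hϱ2 (IsPullback.of_hasPullback M.q' (pullback.fst tZ tS))
    rw [hϱ1, hζ1]
    exact M.sq
  have sq : IsPullback ϱ ρ q ζ := IsPullback.of_map_of_faithful (Over.forget S) sql
  refine ⟨{ Y' := Y', Y'' := Y'', hY' := ?_, hY'' := ?_, lfp' := ?_, lfp'' := ?_, q := q,
            etale_q := ?_, surj_q := ?_, ζ := ζ, ϱ := ϱ, sq := sq }⟩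
  · change IsAffine (pullback tZ tS)
    infer_instance
  · change IsAffine (pullback M.q' (pullback.fst tZ tS))
    infer_instance
  · change LocallyOfFinitePresentation (pullback.snd tZ tS ≫ j)
    infer_instance
  · change LocallyOfFinitePresentation
      (pullback.snd M.q' (pullback.fst tZ tS) ≫ pullback.snd tZ tS ≫ j)
    infer_instance
  · change Etale (pullback.snd M.q' (pullback.fst tZ tS))
    infer_instance
  · change Surjective (pullback.snd M.q' (pullback.fst tZ tS))
    infer_instance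

end Groth.Agent.Helper15.AlgSpLim
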