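import Mathlib
import Groth.Agent.Lib.Helper15.AlgSpLim23
import Groth.Agent.Lib.Helper15.AffDesc7

set_option autoImplicit false
set_option linter.style.haveILetI false

universe u

open CategoryTheory CategoryTheory.Limits AlgebraicGeometry MorphismProperty Opposite
open AlgSp

namespace Groth.Agent.Helper15.AlgSpLim

variable {S : Scheme.{u}}

attribute [local instance] IsCofiltered.isConnected

namespace LimChart

variable {I : Type u} [SmallCategory I] [IsCofiltered I] {D : I ⥤ Sp S} {c : Cone D} {i : I}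
  {Z : Over S} {g : (yon S).obj Z ⟶ D.obj i} (C : LimChart D c i g)

/-- The structure maps of the chart diagram. -/
def toBase : (C.T ⋙ Over.forget S) ⟶ (Functor.const (Over i)).obj S where
  app k := (C.T.obj k).hom
  naturality k l f := by
    change (C.T.map f).left ≫ (C.T.obj l).hom = (C.T.obj k).hom ≫ 𝟙 S
    rw [Category.comp_id, CategoryTheory.Over.w]

/-- Morphisms from the limit of the chart diagram to a scheme locally of finite presentation
over `S` factor through a stage. -/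
theorem exists_lift_stage (Y : Over S) [LocallyOfFinitePresentation Y.hom] (a : C.cL.pt ⟶ Y) :
    ∃ (k : Over i) (γ : C.T.obj k ⟶ Y), C.cL.π.app k ≫ γ = a := by
  have h1 : ∀ k, IsAffine ((C.T ⋙ Over.forget S).obj k) := C.isAffine
  have h2 : ∀ {k l : Over i} (f : k ⟶ l), IsAffineHom ((C.T ⋙ Over.forget S).map f) :=
    fun f => C.isAffineHom_map f
  have h3 : ∀ k, CompactSpace ↥((C.T ⋙ Over.forget S).obj k) := fun k => inferInstance
  have h4 : ∀ k, QuasiSeparatedSpace ↥((C.T ⋙ Over.forget S).obj k) := fun k => inferInstance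
  obtain ⟨k, g', hk1, hk2⟩ := Scheme.exists_π_app_comp_eq_of_locallyOfFinitePresentation
    (C.T ⋙ Over.forget S) C.toBase Y.hom ((Over.forget S).mapCone C.cL) C.isLimit a.left (by
      ext k : 2
      change (C.cL.π.app k).left ≫ (C.T.obj k).hom = a.left ≫ Y.hom
      rw [CategoryTheory.Over.w, CategoryTheory.Over.w]
      rfl)
  refine ⟨k, Over.homMk g' hk2, ?_⟩
  ext
  exact hk1

/-- Morphisms from a stage of the chart diagram to a scheme locally of finite type over `S`
which agree on the limit agree on a further stage. -/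
theorem exists_eq_stage (Y : Over S) [LocallyOfFiniteType Y.hom] {k : Over i}
    (a b : C.T.obj k ⟶ Y) (hab : C.cL.π.app k ≫ a = C.cL.π.app k ≫ b) :
    ∃ (l : Over i) (f : l ⟶ k), C.T.map f ≫ a = C.T.map f ≫ b := by
  have h1 : ∀ k, IsAffine ((C.T ⋙ Over.forget S).obj k) := C.isAffine
  have h2 : ∀ {k l : Over i} (f : k ⟶ l), IsAffineHom ((C.T ⋙ Over.forget S).map f) :=
    fun f => C.isAffineHom_map f
  have h3 : ∀ k, CompactSpace ↥((C.T ⋙ Over.forget S).obj k) := fun k => inferInstance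
  obtain ⟨l, f, hf⟩ := Scheme.exists_hom_comp_eq_comp_of_locallyOfFiniteType
    (C.T ⋙ Over.forget S) C.toBase Y.hom ((Over.forget S).mapCone C.cL) C.isLimit
    a.left b.left (CategoryTheory.Over.w a).symm (CategoryTheory.Over.w b).symm
    (congrArg (fun m => m.left) hab)
  refine ⟨l, f, ?_⟩
  ext
  exact hf

end LimChart

section Desc

variable [QuasiSeparatedSpace ↥S] {I : Type u} [SmallCategory I] [IsCofiltered I]
  (D : I ⥤ Sp S) (hD : ∀ i, IsAlgSpace (D.obj i))
  (hDa : ∀ (i j : I) (φ : i ⟶ j), IsAffineMor (D.map φ))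
  (c : Cone D) (hc : IsLimit c)

include hDa hc in
/-- A morphism from a stage of the chart to a scheme locally of finite type over `S` whose
restriction to the limit descends to the limit space descends to the stage space, after
shrinking the stage. -/
theorem exists_desc_stage {i₀ : I} (hqs : IsQuasiSeparatedSp (D.obj i₀)) {U₀ : Over S}
    (hU₀ : IsAffine U₀.left)
    (g : (yon S).obj U₀ ⟶ D.obj i₀) (hge : RepWith @Etale g) (hgs : RepWith @Surjective g)
    (C : LimChart D c i₀ g)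
    (hCq : ∀ {k l : Over i₀} (f : k ⟶ l),
      (yon S).map (C.T.map f) ≫ C.q l = C.q k ≫ D.map f.left)
    (hCzn : ∀ {k l : Over i₀} (f : k ⟶ l), C.T.map f ≫ C.z l = C.z k)
    (Y : Over S) [LocallyOfFiniteType Y.hom] {k₁ : Over i₀} (β : C.T.obj k₁ ⟶ Y)
    (ξL : c.pt ⟶ (yon S).obj Y) (hξL : C.r ≫ ξL = (yon S).map (C.cL.π.app k₁ ≫ β)) :
    ∃ (k₂ : Over i₀) (φ : k₂ ⟶ k₁) (ξ : D.obj k₂.left ⟶ (yon S).obj Y),
      C.q k₂ ≫ ξ = (yon S).map (C.T.map φ ≫ β) ∧ c.π.app k₂.left ≫ ξ = ξL := by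
  have sqR₀ : IsPullback (pullback.fst g g) (pullback.snd g g) g g := IsPullback.of_hasPullback _ _
  have hUa := IsAlgSpace.yon_obj U₀
  have hUqc : IsQuasiCompactSp ((yon S).obj U₀) := (isQuasiCompactSp_yon_iff U₀).2 inferInstance
  have hR₀qc : IsQuasiCompactSp (pullback g g) :=
    isQuasiCompactSp_of_isPullback sqR₀ hUqc hUqc hqs
  obtain ⟨W₀, w, hW₀, hwe, hws⟩ := exists_affine_chart_of_isQuasiCompactSp hR₀qc
  haveI : Sheaf.IsLocallySurjective w := isLocallySurjective_of_etale_surjective w hwe hws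
  haveI : Epi w := Sheaf.epi_of_isLocallySurjective _
  obtain ⟨a₀, ha₀⟩ := (yon S).map_surjective (w ≫ pullback.fst g g)
  obtain ⟨b₀, hb₀⟩ := (yon S).map_surjective (w ≫ pullback.snd g g)
  have hab₀ : (yon S).map a₀ ≫ g = (yon S).map b₀ ≫ g := by
    rw [ha₀, hb₀, Category.assoc, Category.assoc, pullback.condition]
  obtain ⟨gW, hgW⟩ : ∃ gW : (yon S).obj W₀ ⟶ D.obj i₀, gW = (yon S).map a₀ ≫ g := ⟨_, rfl⟩
  have hgW' : gW = (yon S).map b₀ ≫ g := hgW.trans hab₀
  obtain ⟨CW, hCWz, hCWq, hCWzn⟩ := exists_limChart_nat D hDa c hc i₀ hW₀ gW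
  have hsqWa : ∀ k, CW.q k ≫ D.map k.hom = (yon S).map (CW.z k ≫ a₀) ≫ g := fun k => by
    rw [Functor.map_comp, Category.assoc]
    exact (CW.sq k).w.trans (congrArg (fun m => (yon S).map (CW.z k) ≫ m) hgW)
  have hsqWb : ∀ k, CW.q k ≫ D.map k.hom = (yon S).map (CW.z k ≫ b₀) ≫ g := fun k => by
    rw [Functor.map_comp, Category.assoc]
    exact (CW.sq k).w.trans (congrArg (fun m => (yon S).map (CW.z k) ≫ m) hgW')
  have hak : ∀ k : Over i₀, ∃ a : CW.T.obj k ⟶ C.T.obj k,
      (yon S).map a ≫ C.q k = CW.q k ∧ a ≫ C.z k = CW.z k ≫ a₀ := by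
    intro k
    obtain ⟨a, ha⟩ := (yon S).map_surjective ((C.sq k).lift (CW.q k)
      ((yon S).map (CW.z k ≫ a₀)) (hsqWa k))
    refine ⟨a, by rw [ha, IsPullback.lift_fst], ?_⟩
    apply (yon S).map_injective
    rw [Functor.map_comp, ha, IsPullback.lift_snd]
  have hbk : ∀ k : Over i₀, ∃ b : CW.T.obj k ⟶ C.T.obj k,
      (yon S).map b ≫ C.q k = CW.q k ∧ b ≫ C.z k = CW.z k ≫ b₀ := by
    intro k
    obtain ⟨b, hb⟩ := (yon S).map_surjective ((C.sq k).lift (CW.q k)
      ((yon S).map (CW.z k ≫ b₀)) (hsqWb k))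
    refine ⟨b, by rw [hb, IsPullback.lift_fst], ?_⟩
    apply (yon S).map_injective
    rw [Functor.map_comp, hb, IsPullback.lift_snd]
  choose ak hak1 hak2 using hak
  choose bk hbk1 hbk2 using hbk
  have hak_nat : ∀ {k l : Over i₀} (f : k ⟶ l), CW.T.map f ≫ ak l = ak k ≫ C.T.map f := by
    intro k l f
    apply (yon S).map_injective
    apply (C.sq l).hom_ext
    · rw [Functor.map_comp, Functor.map_comp, Category.assoc, Category.assoc, hak1, hCWq f,
        hCq f, ← Category.assoc, hak1]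
    · rw [← Functor.map_comp, ← Functor.map_comp, Category.assoc, Category.assoc, hak2, hCzn f,
        hak2, ← Category.assoc, hCWzn f]
  have hbk_nat : ∀ {k l : Over i₀} (f : k ⟶ l), CW.T.map f ≫ bk l = bk k ≫ C.T.map f := by
    intro k l f
    apply (yon S).map_injective
    apply (C.sq l).hom_ext
    · rw [Functor.map_comp, Functor.map_comp, Category.assoc, Category.assoc, hbk1, hCWq f,
        hCq f, ← Category.assoc, hbk1]
    · rw [← Functor.map_comp, ← Functor.map_comp, Category.assoc, Category.assoc, hbk2, hCzn f,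
        hbk2, ← Category.assoc, hCWzn f]
  have hlim : CW.cL.π.app k₁ ≫ (ak k₁ ≫ β) = CW.cL.π.app k₁ ≫ (bk k₁ ≫ β) := by
    apply (yon S).map_injective
    let aL := (C.sqk k₁).lift ((yon S).map (CW.cL.π.app k₁ ≫ ak k₁)) CW.r (by
      rw [Functor.map_comp, Category.assoc, hak1, (CW.sqk k₁).w])
    have haL1 : aL ≫ (yon S).map (C.cL.π.app k₁) = (yon S).map (CW.cL.π.app k₁ ≫ ak k₁) :=
      IsPullback.lift_fst _ _ _ _
    have haL2 : aL ≫ C.r = CW.r := IsPullback.lift_snd _ _ _ _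
    let bL := (C.sqk k₁).lift ((yon S).map (CW.cL.π.app k₁ ≫ bk k₁)) CW.r (by
      rw [Functor.map_comp, Category.assoc, hbk1, (CW.sqk k₁).w])
    have hbL1 : bL ≫ (yon S).map (C.cL.π.app k₁) = (yon S).map (CW.cL.π.app k₁ ≫ bk k₁) :=
      IsPullback.lift_fst _ _ _ _
    have hbL2 : bL ≫ C.r = CW.r := IsPullback.lift_snd _ _ _ _
    have e1 : (yon S).map (CW.cL.π.app k₁ ≫ ak k₁ ≫ β) = CW.r ≫ ξL := by
      rw [← Category.assoc, Functor.map_comp, ← haL1, Category.assoc, ← Functor.map_comp, ← hξL,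
        ← Category.assoc, haL2]
    have e2 : (yon S).map (CW.cL.π.app k₁ ≫ bk k₁ ≫ β) = CW.r ≫ ξL := by
      rw [← Category.assoc, Functor.map_comp, ← hbL1, Category.assoc, ← Functor.map_comp, ← hξL,
        ← Category.assoc, hbL2]
    rw [e1, e2]
  obtain ⟨k₂, φ, hφ⟩ := CW.exists_eq_stage Y (ak k₁ ≫ β) (bk k₁ ≫ β) hlim
  have hφ' : ak k₂ ≫ C.T.map φ ≫ β = bk k₂ ≫ C.T.map φ ≫ β := by
    rw [← Category.assoc, ← hak_nat, ← Category.assoc (bk k₂), ← hbk_nat, Category.assoc,
      Category.assoc]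
    exact hφ
  haveI : Sheaf.IsLocallySurjective (C.q k₂) :=
    isLocallySurjective_of_etale_surjective _ (C.etale_q hge k₂) (C.surjective_q hgs k₂)
  haveI : Epi (C.q k₂) := Sheaf.epi_of_isLocallySurjective _
  obtain ⟨ξ, hξ⟩ := AffDesc.exists_desc_of_epi (C.q k₂) ((yon S).map (C.T.map φ ≫ β)) (by
    intro X x y hxy
    obtain ⟨x', rfl⟩ := (yon S).map_surjective x
    obtain ⟨y', rfl⟩ := (yon S).map_surjective y
    let v : (yon S).obj X ⟶ pullback g g := pullback.lift ((yon S).map (x' ≫ C.z k₂))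
      ((yon S).map (y' ≫ C.z k₂)) (by
        rw [Functor.map_comp, Functor.map_comp, Category.assoc, Category.assoc, ← (C.sq k₂).w,
          ← Category.assoc, hxy, Category.assoc])
    obtain ⟨R, hR, hlift⟩ := exists_local_lift_of_epi w v
    apply yon_hom_ext_of_cover _ _ R hR
    intro X' κ hκ
    obtain ⟨τ, hτ⟩ := hlift κ hκ
    obtain ⟨t, rfl⟩ := (yon S).map_surjective τ
    have ht1 : t ≫ a₀ = κ ≫ x' ≫ C.z k₂ := by
      apply (yon S).map_injective
      rw [Functor.map_comp, ha₀, ← Category.assoc, hτ, Category.assoc, pullback.lift_fst,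
        ← Functor.map_comp]
    have ht2 : t ≫ b₀ = κ ≫ y' ≫ C.z k₂ := by
      apply (yon S).map_injective
      rw [Functor.map_comp, hb₀, ← Category.assoc, hτ, Category.assoc, pullback.lift_snd,
        ← Functor.map_comp]
    obtain ⟨s, hs⟩ := (yon S).map_surjective ((CW.sq k₂).lift
      ((yon S).map (κ ≫ x') ≫ C.q k₂) ((yon S).map t) (by
        rw [Category.assoc, (C.sq k₂).w, ← Category.assoc, ← Functor.map_comp, Category.assoc,
          ← ht1, Functor.map_comp, Category.assoc]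
        exact congrArg (fun m => (yon S).map t ≫ m) hgW.symm))
    have hs1 : (yon S).map s ≫ CW.q k₂ = (yon S).map (κ ≫ x') ≫ C.q k₂ := by
      rw [hs, IsPullback.lift_fst]
    have hs2 : s ≫ CW.z k₂ = t := by
      apply (yon S).map_injective
      rw [Functor.map_comp, hs, IsPullback.lift_snd]
    have hsa : s ≫ ak k₂ = κ ≫ x' := by
      apply (yon S).map_injective
      apply (C.sq k₂).hom_ext
      · rw [Functor.map_comp, Category.assoc, hak1, hs1]
      · rw [← Functor.map_comp, ← Functor.map_comp, Category.assoc, hak2, ← Category.assoc, hs2,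
          ht1, Category.assoc]
    have hsb : s ≫ bk k₂ = κ ≫ y' := by
      apply (yon S).map_injective
      apply (C.sq k₂).hom_ext
      · rw [Functor.map_comp, Category.assoc, hbk1, hs1, Functor.map_comp, Functor.map_comp,
          Category.assoc, Category.assoc, hxy]
      · rw [← Functor.map_comp, ← Functor.map_comp, Category.assoc, hbk2, ← Category.assoc, hs2,
          ht2, Category.assoc]
    rw [← Functor.map_comp, ← Functor.map_comp, ← Functor.map_comp, ← Functor.map_comp]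
    congr 1
    rw [← Category.assoc, ← hsa, ← Category.assoc κ, ← hsb, Category.assoc, Category.assoc, hφ'])
  refine ⟨k₂, φ, ξ, hξ, ?_⟩
  haveI : Sheaf.IsLocallySurjective C.r :=
    isLocallySurjective_of_etale_surjective _ (C.etale_r hge) (C.surjective_r hgs)
  haveI : Epi C.r := Sheaf.epi_of_isLocallySurjective _
  rw [← cancel_epi C.r, hξL, ← Category.assoc, ← (C.sqk k₂).w, Category.assoc, hξ,
    ← Functor.map_comp, ← Category.assoc, C.cL.w φ]

omit [QuasiSeparatedSpace ↥S] in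
/-- An affine scheme over `S` is quasi-separated over `S`. -/
theorem isQuasiSeparatedSp_yon_of_isAffine (T : Over S) [IsAffine T.left] :
    IsQuasiSeparatedSp ((yon S).obj T) := by
  unfold IsQuasiSeparatedSp
  rw [repWith_diag_yon_iff]
  haveI : IsSeparated (T.hom ≫ terminal.from S) := by
    rw [terminal.comp_from]; infer_instance
  haveI : IsSeparated T.hom := IsSeparated.of_comp T.hom (terminal.from S)
  exact (inferInstance : QuasiCompact (pullback.diagonal T.hom))

omit [QuasiSeparatedSpace ↥S] [IsCofiltered I] in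
/-- The transition squares of a natural chart are cartesian. -/
theorem LimChart.isPullback_map {i₀ : I} {U₀ : Over S} {g : (yon S).obj U₀ ⟶ D.obj i₀}
    (C : LimChart D c i₀ g)
    (hCq : ∀ {k l : Over i₀} (f : k ⟶ l),
      (yon S).map (C.T.map f) ≫ C.q l = C.q k ≫ D.map f.left)
    (hCzn : ∀ {k l : Over i₀} (f : k ⟶ l), C.T.map f ≫ C.z l = C.z k)
    {k l : Over i₀} (f : k ⟶ l) :
    IsPullback (C.q k) ((yon S).map (C.T.map f)) (D.map f.left) (C.q l) := by
  refine IsPullback.of_bot ?_ (hCq f).symm (C.sq l)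
  have h1 : D.map f.left ≫ D.map l.hom = D.map k.hom := by
    rw [← Functor.map_comp, CategoryTheory.Over.w]
  have h2 : (yon S).map (C.T.map f) ≫ (yon S).map (C.z l) = (yon S).map (C.z k) := by
    rw [← Functor.map_comp, hCzn f]
  rw [h1, h2]
  exact C.sq k

include hD hDa hc in
/-- A square over a stage of the chart which becomes cartesian on the limit is cartesian over a
further stage. -/
theorem exists_isPullback_stage (hqc : ∀ i, IsQuasiCompactSp (D.obj i))
    (hqs : ∀ i, IsQuasiSeparatedSp (D.obj i))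
    {i₀ : I} {U₀ : Over S} (g : (yon S).obj U₀ ⟶ D.obj i₀) (hge : RepWith @Etale g)
    (C : LimChart D c i₀ g)
    (hCq : ∀ {k l : Over i₀} (f : k ⟶ l),
      (yon S).map (C.T.map f) ≫ C.q l = C.q k ≫ D.map f.left)
    (hCzn : ∀ {k l : Over i₀} (f : k ⟶ l), C.T.map f ≫ C.z l = C.z k)
    {Y' Y'' : Over S} [IsAffine Y'.left] [IsAffine Y''.left] (qY : Y'' ⟶ Y')
    (hqe : Etale qY.left)
    (k : Over i₀) (ξ : D.obj k.left ⟶ (yon S).obj Y') (γ : C.T.obj k ⟶ Y'')
    (hξ : C.q k ≫ ξ = (yon S).map (γ ≫ qY))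
    (hlim : IsPullback ((yon S).map (C.cL.π.app k ≫ γ)) C.r ((yon S).map qY)
      (c.π.app k.left ≫ ξ)) :
    ∃ (k' : Over i₀) (ψ : k' ⟶ k), IsPullback (C.q k') ((yon S).map (C.T.map ψ ≫ γ))
      (D.map ψ.left ≫ ξ) ((yon S).map qY) := by
  have hTk := C.isAffine k
  -- the fibre product `V = X_k ×_{Y'} Y''`
  obtain ⟨V, fstV, sndV, sqV⟩ : ∃ (V : Sp S) (fstV : V ⟶ D.obj k.left)
      (sndV : V ⟶ (yon S).obj Y''), IsPullback fstV sndV ξ ((yon S).map qY) :=
    ⟨_, _, _, IsPullback.of_hasPullback _ _⟩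
  let θ : (yon S).obj (C.T.obj k) ⟶ V := sqV.lift (C.q k) ((yon S).map γ)
    (by rw [hξ, Functor.map_comp])
  have hθ1 : θ ≫ fstV = C.q k := sqV.lift_fst _ _ _
  have hθ2 : θ ≫ sndV = (yon S).map γ := sqV.lift_snd _ _ _
  have hqYe : RepWith @Etale ((yon S).map qY) := (repWith_yon_map_iff _ qY).2 hqe
  have hfstVe : RepWith @Etale fstV := (RepWith @Etale).of_isPullback sqV.flip hqYe
  have hVa : IsAlgSpace V := isAlgSpace_of_isPullback (IsAlgSpace.yon_obj Y').diag (hD k.left)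
    (IsAlgSpace.yon_obj Y'') sqV
  have hVqc : IsQuasiCompactSp V := isQuasiCompactSp_of_isPullback sqV (hqc k.left)
    ((isQuasiCompactSp_yon_iff Y'').2 inferInstance) (isQuasiSeparatedSp_yon_of_isAffine Y')
  have hVqs : IsQuasiSeparatedSp V := isQuasiSeparatedSp_of_isPullback sqV (hqs k.left)
    (isQuasiSeparatedSp_yon_of_isAffine Y'')
  have hθlfp : LocP @LocallyOfFinitePresentation θ := by
    refine locP_of_comp (P := @LocallyOfFinitePresentation) (P' := @LocallyOfFinitePresentation)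
      (Q := @LocallyOfFiniteType)
      (fun f g h h' => locallyOfFinitePresentation_of_comp_of_lft f g h h') (hD k.left) θ fstV
      ?_ ?_
    · rw [hθ1]
      exact locP_of_repWith etale_le_lfp _ (repWith_mono etale_le_lfp (C.etale_q hge k))
    · exact locP_of_repWith etale_le_lft _ (repWith_mono etale_le_lft hfstVe)
  -- the limit data
  let pY : (yon S).obj C.cL.pt ⟶ V := (yon S).map (C.cL.π.app k) ≫ θ
  have hY : IsPullback pY C.r fstV (c.π.app k.left) := by
    refine IsPullback.of_right (h₁₂ := sndV) (h₂₂ := ξ) (v₁₃ := (yon S).map qY) ?_ ?_ sqV.flip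
    · have : pY ≫ sndV = (yon S).map (C.cL.π.app k ≫ γ) := by
        rw [Category.assoc, hθ2, Functor.map_comp]
      rw [this]
      exact hlim
    · rw [Category.assoc, hθ1]
      exact (C.sqk k).w
  have hX : IsPullback ((yon S).map (C.cL.π.app k)) (𝟙 ((yon S).obj C.cL.pt)) θ pY := by
    refine (IsPullback.of_right (h₁₂ := C.r) (h₂₂ := fstV) (v₁₃ := c.π.app k.left) ?_ ?_
      hY.flip).flip
    · have h1 : 𝟙 ((yon S).obj C.cL.pt) ≫ C.r = C.r := Category.id_comp _
      rw [h1, hθ1]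
      exact (C.sqk k).flip
    · exact Category.id_comp _
  obtain ⟨κ₁, hκ₁⟩ := stageProp_isIso D hD hDa c hc k.left (IsAlgSpace.yon_obj _) hVa θ fstV
    ((isQuasiCompactSp_yon_iff _).2 inferInstance) (isQuasiSeparatedSp_yon_of_isAffine _)
    hVqc hVqs hθlfp (𝟙 _) pY C.r hY ((yon S).map (C.cL.π.app k)) hX
  -- the stage
  let k' : Over i₀ := Over.mk (κ₁.hom ≫ k.hom)
  let ψ : k' ⟶ k := Over.homMk κ₁.hom rfl
  refine ⟨k', ψ, ?_⟩
  obtain ⟨V', fstV', sndV', sqV'⟩ : ∃ (V' : Sp S) (fstV' : V' ⟶ D.obj k'.left)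
      (sndV' : V' ⟶ (yon S).obj Y''), IsPullback fstV' sndV' (D.map ψ.left ≫ ξ) ((yon S).map qY) :=
    ⟨_, _, _, IsPullback.of_hasPullback _ _⟩
  have hcomm : C.q k' ≫ D.map ψ.left ≫ ξ = (yon S).map (C.T.map ψ ≫ γ) ≫ (yon S).map qY := by
    rw [← Category.assoc, ← hCq ψ, Category.assoc, hξ, ← Functor.map_comp, ← Functor.map_comp,
      Category.assoc]
  let θ' : (yon S).obj (C.T.obj k') ⟶ V' := sqV'.lift (C.q k') ((yon S).map (C.T.map ψ ≫ γ)) hcomm
  have hθ'1 : θ' ≫ fstV' = C.q k' := sqV'.lift_fst _ _ _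
  have hθ'2 : θ' ≫ sndV' = (yon S).map (C.T.map ψ ≫ γ) := sqV'.lift_snd _ _ _
  let pYi : V' ⟶ V := sqV.lift (fstV' ≫ D.map ψ.left) sndV' (by rw [Category.assoc, sqV'.w])
  have hpYi1 : pYi ≫ fstV = fstV' ≫ D.map ψ.left := sqV.lift_fst _ _ _
  have hpYi2 : pYi ≫ sndV = sndV' := sqV.lift_snd _ _ _
  have hYi : IsPullback pYi fstV' fstV (D.map ψ.left) := by
    refine IsPullback.of_right (h₁₂ := sndV) (h₂₂ := ξ) (v₁₃ := (yon S).map qY) ?_ hpYi1 sqV.flip
    rw [hpYi2]
    exact sqV'.flip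
  have hXi : IsPullback ((yon S).map (C.T.map ψ)) θ' θ pYi := by
    refine (IsPullback.of_right (h₁₂ := fstV') (h₂₂ := fstV) (v₁₃ := D.map ψ.left) ?_ ?_
      hYi.flip).flip
    · rw [hθ'1, hθ1]
      exact C.isPullback_map D c hCq hCzn ψ
    · apply sqV.hom_ext
      · rw [Category.assoc, hpYi1, ← Category.assoc, hθ'1, Category.assoc, hθ1, hCq ψ]
      · rw [Category.assoc, hpYi2, hθ'2, Category.assoc, hθ2, Functor.map_comp]
  have hiso : IsIso θ' := hκ₁ κ₁ (𝟙 _) _ _ θ' pYi fstV' hYi ((yon S).map (C.T.map ψ)) hXi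
  exact IsPullback.of_iso_pullback ⟨hcomm⟩ (asIso θ' ≪≫ sqV'.isoPullback)
    (by simp [hθ'1]) (by simp [hθ'2])

include hD hDa hc in
/-- If the limit is an affine scheme whose structure map factors through an affine scheme
locally of finite presentation over `S` (for instance an affine open of `S`), some stage is
an affine scheme. -/
theorem exists_affine_stage_of_local (hqc : ∀ i, IsQuasiCompactSp (D.obj i))
    (hqs : ∀ i, IsQuasiSeparatedSp (D.obj i))
    (Ξ : Over S) [IsAffine Ξ.left] (e : (yon S).obj Ξ ≅ c.pt)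
    (S' : Scheme.{u}) [IsAffine S'] (j : S' ⟶ S) [LocallyOfFinitePresentation j]
    (s : Ξ.left ⟶ S') (hs : s ≫ j = Ξ.hom) :
    ∃ (i : I) (T' : Over S), IsAffine T'.left ∧ Nonempty ((yon S).obj T' ≅ D.obj i) := by
  obtain ⟨i₀⟩ : Nonempty I := IsCofiltered.nonempty
  obtain ⟨U₀, g, hU₀, hge, hgs⟩ := exists_affine_chart_of_isQuasiCompactSp (hqc i₀)
  obtain ⟨C, hCz, hCq, hCzn⟩ := exists_limChart_nat D hDa c hc i₀ hU₀ g
  have hL := C.isAffine_pt
  obtain ⟨ρ, hρ⟩ := (yon S).map_surjective (C.r ≫ e.inv)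
  have hρe : Etale ρ.left := (repWith_yon_map_iff _ ρ).1 (by
    rw [hρ]
    exact (RepWith @Etale).comp_mem _ _ (C.etale_r hge) (repWith_of_isIso @Etale e.inv))
  have hρs : Surjective ρ.left := (repWith_yon_map_iff _ ρ).1 (by
    rw [hρ]
    exact (RepWith @Surjective).comp_mem _ _ (C.surjective_r hgs)
      (repWith_of_isIso @Surjective e.inv))
  obtain ⟨M⟩ := nonempty_sModel ρ S' j s hs
  have hY' := M.hY'
  have hY'' := M.hY''
  have hlfp' := M.lfp'
  have hlfp'' := M.lfp''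
  obtain ⟨k₁, γ, hγ⟩ := C.exists_lift_stage M.Y'' M.ϱ
  haveI : LocallyOfFiniteType M.Y'.hom := inferInstance
  obtain ⟨k₂, φ, ξ, hξ, hξL⟩ := exists_desc_stage D hDa c hc (hqs i₀) hU₀ g hge hgs C hCq hCzn
    M.Y' (γ ≫ M.q) (e.inv ≫ (yon S).map M.ζ) (by
      rw [← Category.assoc, ← hρ, ← Functor.map_comp, ← Category.assoc, hγ, M.sq.w])
  have hlim : IsPullback ((yon S).map (C.cL.π.app k₂ ≫ C.T.map φ ≫ γ)) C.r ((yon S).map M.q)
      (c.π.app k₂.left ≫ ξ) := by
    rw [hξL, ← Category.assoc, C.cL.w φ, hγ]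
    have h := M.sq.map (yon S)
    rw [hρ] at h
    exact IsPullback.of_iso h (Iso.refl _) (Iso.refl _) e (Iso.refl _) (by simp) (by simp)
      (by simp) (by simp)
  obtain ⟨k', ψ, sq⟩ := exists_isPullback_stage D hD hDa c hc hqc hqs g hge C hCq hCzn M.q
    M.etale_q k₂ ξ (C.T.map φ ≫ γ) (by rw [hξ, Category.assoc]) hlim
  have hTk' := C.isAffine k'
  have hqe := M.etale_q
  obtain ⟨W, jW, eW, w, hW, -, -, -⟩ := AffDesc.exists_affine_rep_of_affine_cover
    (D.map ψ.left ≫ ξ) M.q inferInstance inferInstance M.surj_q (C.T.map ψ ≫ C.T.map φ ≫ γ)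
    (C.q k') sq
  exact ⟨k'.left, W, hW, ⟨eW⟩⟩

end Desc

end Groth.Agent.Helper15.AlgSpLim
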