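import Mathlib
import Groth.Agent.Lib.Helper15.AlgSpLim24

set_option autoImplicit false
set_option linter.style.haveILetI false

universe u

open CategoryTheory CategoryTheory.Limits AlgebraicGeometry MorphismProperty Opposite
open AlgSp

namespace Groth.Agent.Helper15.AlgSpLim

variable {S : Scheme.{u}}

attribute [local instance] IsCofiltered.isConnected

section Open

variable [QuasiSeparatedSpace ↥S] {I : Type u} [SmallCategory I] [IsCofiltered I]
  (D : I ⥤ Sp S) (hD : ∀ i, IsAlgSpace (D.obj i))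
  (hDa : ∀ (i j : I) (φ : i ⟶ j), IsAffineMor (D.map φ))
  (c : Cone D) (hc : IsLimit c)

omit [QuasiSeparatedSpace ↥S] in
/-- A subsheaf of a quasi-separated sheaf is quasi-separated. -/
theorem isQuasiSeparatedSp_of_mono {X Y : Sp S} (f : X ⟶ Y) [Mono f]
    (hY : IsQuasiSeparatedSp Y) : IsQuasiSeparatedSp X :=
  isQuasiSeparatedSp_of_isQuasiSeparatedMor f (repWith_of_isIso @QuasiCompact _) hY

include hD hDa hc in
/-- An affine open of the limit whose structure map factors through an affine scheme locally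
of finite presentation over `S` is the pullback of an affine open of some stage. -/
theorem exists_affine_open_stage (hqc : ∀ i, IsQuasiCompactSp (D.obj i))
    (hqs : ∀ i, IsQuasiSeparatedSp (D.obj i))
    (W : Over S) [IsAffine W.left] (jW : (yon S).obj W ⟶ c.pt)
    (hjW : RepWith @IsOpenImmersion jW)
    (S' : Scheme.{u}) [IsAffine S'] (j : S' ⟶ S) [LocallyOfFinitePresentation j]
    (s : W.left ⟶ S') (hs : s ≫ j = W.hom) :
    ∃ (n : I) (Ta : Over S) (o : (yon S).obj Ta ⟶ D.obj n)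
      (q : (yon S).obj W ⟶ (yon S).obj Ta),
      IsAffine Ta.left ∧ RepWith @IsOpenImmersion o ∧ IsPullback jW q (c.π.app n) o := by
  obtain ⟨i, Ui, ji, q₀, hji, hUi, sq₀⟩ := exists_qc_open_descent D hD hDa hqc hqs c hc _ jW hjW
    ((isQuasiCompactSp_yon_iff W).2 inferInstance)
  haveI : Mono ji := mono_of_repWith isOpenImmersion_le_mono _ hji
  have hUia : IsAlgSpace Ui := isAlgSpace_of_representable ji hji.rep (hD i)
  have hUiqs : IsQuasiSeparatedSp Ui := isQuasiSeparatedSp_of_mono ji (hqs i)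
  let G : Over (D.obj i) ⥤ Sp S := Over.pullback ji ⋙ Over.forget _
  let E : Over i ⥤ Sp S := Over.post D ⋙ G
  let c' : Cone E := G.mapCone ((Over.conePost D i).obj c)
  have hc' : IsLimit c' := isLimitOfPreserves G (Over.isLimitConePost i hc)
  let fstk : ∀ k : Over i, E.obj k ⟶ D.obj k.left := fun k => pullback.fst (D.map k.hom) ji
  let sndk : ∀ k : Over i, E.obj k ⟶ Ui := fun k => pullback.snd (D.map k.hom) ji
  have sqk : ∀ k, IsPullback (fstk k) (sndk k) (D.map k.hom) ji :=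
    fun k => IsPullback.of_hasPullback _ _
  let fstP : c'.pt ⟶ c.pt := pullback.fst (c.π.app i) ji
  let sndP : c'.pt ⟶ Ui := pullback.snd (c.π.app i) ji
  have sqP : IsPullback fstP sndP (c.π.app i) ji := IsPullback.of_hasPullback _ _
  have hsq : ∀ k : Over i, IsPullback (c'.π.app k) fstP (fstk k) (c.π.app k.left) := fun k =>
    isPullback_overPullback_map ji (((Over.conePost D i).obj c).π.app k)
  have hE1 : ∀ {k l : Over i} (f : k ⟶ l), E.map f ≫ fstk l = fstk k ≫ D.map f.left :=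
    fun f => pullback.lift_fst _ _ _
  have hE2 : ∀ {k l : Over i} (f : k ⟶ l), E.map f ≫ sndk l = sndk k :=
    fun f => pullback.lift_snd _ _ _
  have hEmap : ∀ {k l : Over i} (f : k ⟶ l),
      IsPullback (fstk k) (E.map f) (D.map f.left) (fstk l) := fun {k l} f =>
    (isPullback_overPullback_map ji ((Over.post D).map f)).flip
  have hEalg : ∀ k, IsAlgSpace (E.obj k) := fun k =>
    isAlgSpace_of_isPullback (hD i).diag (hD k.left) hUia (sqk k)
  have hEaff : ∀ (k l : Over i) (f : k ⟶ l), IsAffineMor (E.map f) := fun k l f =>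
    isAffineMor_of_isPullback (hEmap f) (hDa _ _ f.left)
  have hEqc : ∀ k, IsQuasiCompactSp (E.obj k) := fun k =>
    isQuasiCompactSp_of_isAffineMor (sndk k) (isAffineMor_of_isPullback (sqk k) (hDa _ _ k.hom))
      hUi
  have hEqs : ∀ k, IsQuasiSeparatedSp (E.obj k) := fun k =>
    isQuasiSeparatedSp_of_isPullback (sqk k) (hqs k.left) hUiqs
  -- the limit of the subsystem
  let e' : (yon S).obj W ≅ c'.pt := sq₀.isoPullback
  have he'1 : e'.hom ≫ fstP = jW := sq₀.isoPullback_hom_fst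
  obtain ⟨k, Ta, hTa, ⟨eTa⟩⟩ := exists_affine_stage_of_local E hEalg hEaff c' hc' hEqc hEqs W e'
    S' j s hs
  refine ⟨k.left, Ta, eTa.hom ≫ fstk k, e'.hom ≫ c'.π.app k ≫ eTa.inv, hTa, ?_, ?_⟩
  · exact (RepWith @IsOpenImmersion).comp_mem _ _ (repWith_of_isIso @IsOpenImmersion eTa.hom)
      ((RepWith @IsOpenImmersion).of_isPullback (sqk k).flip hji)
  · refine ((hsq k).of_iso e'.symm eTa.symm (Iso.refl _) (Iso.refl _) ?_ ?_ ?_ ?_).flip
    · simp
    · simp [← he'1]
    · simp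
    · simp

omit [QuasiSeparatedSpace ↥S] in
include hDa hc in
/-- Finitely many open subsheaves of a stage whose pullbacks cover the limit cover a further
stage. -/
theorem exists_cover_stage {m : I} (hqcm : IsQuasiCompactSp (D.obj m)) {A : Type u}
    (O : A → Sp S) (o : ∀ a, O a ⟶ D.obj m) (ho : ∀ a, RepWith @IsOpenImmersion (o a))
    (hcov : ∀ x : Points c.pt, ∃ (a : A) (y : Points (O a)),
      Points.map (o a) y = Points.map (c.π.app m) x) :
    ∃ k : Over m, ∀ x : Points (D.obj k.left), ∃ (a : A) (y : Points (O a)),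
      Points.map (o a) y = Points.map (D.map k.hom) x := by
  obtain ⟨U₀, g, hU₀, hge, hgs⟩ := exists_affine_chart_of_isQuasiCompactSp hqcm
  obtain ⟨C, hCz, hCq, hCzn⟩ := exists_limChart_nat D hDa c hc m hU₀ g
  let Vs : Set U₀.left := {u | ∃ (a : A) (y : Points (O a)), Points.map (o a) y = Points.ofPt g u}
  have hVs : IsOpen Vs := by
    have : Vs = ⋃ a, Points.ofPt g ⁻¹' (Set.range (Points.map (o a))) := by
      ext u
      simp only [Vs, Set.mem_iUnion, Set.mem_preimage, Set.mem_range, Set.mem_ofPred_eq]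
    rw [this]
    refine isOpen_iUnion (fun a => ?_)
    refine IsOpen.preimage (Points.continuous_ofPt _) ?_
    exact (isOpenMor_of_repWith (o a) (fun φ hφ => by
      have := hφ
      exact φ.isOpenEmbedding.isOpenMap) (ho a) g hge hgs).isOpen_range
  let V : U₀.left.Opens := ⟨Vs, hVs⟩
  have hL : ∀ l : C.cL.pt.left, C.zL.left l ∈ V := by
    intro l
    obtain ⟨a, y, hy⟩ := hcov (Points.ofPt C.r l)
    exact ⟨a, y, by rw [hy, C.ofPt_g_zL]⟩
  let k₀ : Over m := Over.mk (𝟙 m)
  have haff : ∀ {k l : Over m} (f : k ⟶ l), IsAffineHom ((C.T ⋙ Over.forget S).map f) :=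
    fun f => C.isAffineHom_map f
  have hTk₀ := C.isAffine k₀
  have hcomp : IsCompact ((⊤ : ((C.T ⋙ Over.forget S).obj k₀).Opens) :
      Set ((C.T ⋙ Over.forget S).obj k₀)) := by
    have : CompactSpace ↥((C.T ⋙ Over.forget S).obj k₀) := by
      change CompactSpace ↥(C.T.obj k₀).left
      infer_instance
    exact isCompact_univ
  obtain ⟨k, f, hk⟩ := exists_map_preimage_le_map_preimage (C.T ⋙ Over.forget S)
    ((Over.forget S).mapCone C.cL) C.isLimit (i := k₀) (U := ⊤)
    (V := (C.z k₀).left ⁻¹ᵁ V) hcomp (by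
      intro l _
      change (C.z k₀).left ((C.cL.π.app k₀).left l) ∈ V
      have := hL l
      rw [← hCz k₀] at this
      exact this)
  refine ⟨k, fun x => ?_⟩
  obtain ⟨t, rfl⟩ := surjective_ofPt (C.q k) (C.surjective_q hgs k) x
  have ht : (C.z k).left t ∈ V := by
    have h1 : t ∈ (C.T ⋙ Over.forget S).map f ⁻¹ᵁ (⊤ : ((C.T ⋙ Over.forget S).obj k₀).Opens) :=
      trivial
    have h2 := hk h1
    change (C.z k₀).left ((C.T.map f).left t) ∈ V at h2
    rw [← hCzn f]
    exact h2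
  obtain ⟨a, y, hy⟩ := ht
  refine ⟨a, y, ?_⟩
  rw [hy, Points.map_ofPt, (C.sq k).w, ofPt_comp_yon_map]

include hD hDa hc in
/-- If the limit is a scheme, some stage is a scheme. -/
theorem exists_rep_stage (hqc : ∀ i, IsQuasiCompactSp (D.obj i))
    (hqs : ∀ i, IsQuasiSeparatedSp (D.obj i)) (T : Over S) (e : (yon S).obj T ≅ c.pt) :
    ∃ (m : I) (V : Over S), Nonempty ((yon S).obj V ≅ D.obj m) := by
  classical
  obtain ⟨i₀⟩ : Nonempty I := IsCofiltered.nonempty
  have hcqc : IsQuasiCompactSp c.pt := isQuasiCompactSp_of_isAffineMor (c.π.app i₀)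
    (isAffineMor_cone_π D hDa c hc i₀) (hqc i₀)
  have hTqc : IsQuasiCompactSp ((yon S).obj T) := isQuasiCompactSp_of_iso e hcqc
  haveI : CompactSpace T.left := (isQuasiCompactSp_yon_iff T).1 hTqc
  -- local data
  have hloc : ∀ x : T.left, ∃ (W : T.left.Opens) (S' : S.Opens), IsAffineOpen W ∧
      IsAffineOpen S' ∧ x ∈ W ∧ W ≤ T.hom ⁻¹ᵁ S' := by
    intro x
    obtain ⟨S', hS', hxS'⟩ : ∃ S' : S.Opens, IsAffineOpen S' ∧ T.hom x ∈ S' := by
      obtain ⟨_, ⟨S', hS', rfl⟩, hx, -⟩ := S.isBasis_affineOpens.exists_subset_of_mem_open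
        (Set.mem_univ (T.hom x)) isOpen_univ
      exact ⟨S', hS', hx⟩
    obtain ⟨W, hW, hxW, hWle⟩ := exists_isAffineOpen_mem_and_subset (x := x)
      (U := T.hom ⁻¹ᵁ S') hxS'
    exact ⟨W, S', hW, hS', hxW, hWle⟩
  choose W S' hW hS' hxW hWle using hloc
  obtain ⟨σ, hσ⟩ := CompactSpace.elim_nhds_subcover (fun x => (W x : Set T.left))
    (fun x => (W x).2.mem_nhds (hxW x))
  let Wo : T.left → Over S := fun x => Over.mk ((W x).ι ≫ T.hom)
  let ιo : ∀ x, Wo x ⟶ T := fun x => Over.homMk (W x).ι rfl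
  let jW : ∀ x, (yon S).obj (Wo x) ⟶ c.pt := fun x => (yon S).map (ιo x) ≫ e.hom
  have hB1 : ∀ x : T.left, ∃ (n : I) (Ta : Over S) (o : (yon S).obj Ta ⟶ D.obj n)
      (q : (yon S).obj (Wo x) ⟶ (yon S).obj Ta),
      IsAffine Ta.left ∧ RepWith @IsOpenImmersion o ∧ IsPullback (jW x) q (c.π.app n) o := by
    intro x
    haveI : IsAffine (Wo x).left := hW x
    haveI : IsAffine (S' x : Scheme) := hS' x
    have hrange : Set.range ((W x).ι ≫ T.hom) ⊆ Set.range (S' x).ι := by
      rintro _ ⟨w, rfl⟩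
      rw [Scheme.Opens.range_ι]
      exact hWle x w.2
    have hj : RepWith @IsOpenImmersion (jW x) :=
      (RepWith @IsOpenImmersion).comp_mem _ _
        ((repWith_yon_map_iff _ (ιo x)).2 (inferInstanceAs (IsOpenImmersion (W x).ι)))
        (repWith_of_isIso @IsOpenImmersion e.hom)
    exact exists_affine_open_stage D hD hDa c hc hqc hqs (Wo x) (jW x) hj (S' x) (S' x).ι
      (IsOpenImmersion.lift (S' x).ι ((W x).ι ≫ T.hom) hrange)
      (IsOpenImmersion.lift_fac _ _ _)
  choose n Ta o q hTa ho hsq using hB1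
  -- common index
  obtain ⟨m, hm⟩ := IsCofiltered.inf_objs_exists (σ.image n)
  have φ : ∀ x : σ, m ⟶ n x := fun x => (hm (Finset.mem_image_of_mem n x.2)).some
  have hpb : ∀ x : σ, ∃ (Tb : Over S) (ob : (yon S).obj Tb ⟶ D.obj m), IsAffine Tb.left ∧
      RepWith @IsOpenImmersion ob ∧ ∀ z : Points c.pt, z ∈ Set.range (Points.map (jW x)) →
        ∃ y : Points ((yon S).obj Tb), Points.map ob y = Points.map (c.π.app m) z := by
    intro x
    obtain ⟨Tb, ib, ob, sqb, hTb⟩ := hDa _ _ (φ x) (hTa x) (o x)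
    refine ⟨Tb, ob, hTb, (RepWith @IsOpenImmersion).of_isPullback sqb.flip (ho x), ?_⟩
    rintro _ ⟨y₀, rfl⟩
    have h1 : Points.map (D.map (φ x)) (Points.map (c.π.app m) (Points.map (jW x) y₀)) =
        Points.map (o x) (Points.map (q x) y₀) := by
      rw [← Points.map_comp, ← Points.map_comp, ← Points.map_comp, c.w, (hsq x).w]
    obtain ⟨p, hp, -⟩ := exists_point_of_isPullback sqb _ _ h1
    exact ⟨p, hp⟩
  choose Tb ob hTb hob hobcov using hpb
  have hcov : ∀ z : Points c.pt, ∃ (a : σ) (y : Points ((yon S).obj (Tb a))),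
      Points.map (ob a) y = Points.map (c.π.app m) z := by
    intro z
    obtain ⟨t, ht⟩ := (Points.schemeHomeo T).surjective (Points.map e.inv z)
    have htσ : t ∈ ⋃ x ∈ σ, (W x : Set T.left) := by rw [hσ]; trivial
    obtain ⟨x, hxσ, htx⟩ := Set.mem_iUnion₂.1 htσ
    obtain ⟨y, hy⟩ := hobcov ⟨x, hxσ⟩ z (by
      refine ⟨Points.schemeHomeo (Wo x) ⟨t, htx⟩, ?_⟩
      change Points.map ((yon S).map (ιo x) ≫ e.hom) _ = z
      rw [Points.map_comp, Points.map_yon_map_apply]
      change Points.map e.hom (Points.schemeHomeo T t) = z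
      rw [ht, ← Points.map_comp, Iso.inv_hom_id, Points.map_id])
    exact ⟨⟨x, hxσ⟩, y, hy⟩
  obtain ⟨k, hk⟩ := exists_cover_stage D hDa c hc (hqc m) (fun a : σ => (yon S).obj (Tb a)) ob hob
    hcov
  have hpc : ∀ a : σ, ∃ (Tc : Over S) (oc : (yon S).obj Tc ⟶ D.obj k.left),
      RepWith @IsOpenImmersion oc ∧ ∀ z : Points (D.obj k.left),
        (∃ y : Points ((yon S).obj (Tb a)), Points.map (ob a) y = Points.map (D.map k.hom) z) →
        z ∈ Set.range (Points.map oc) := by
    intro a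
    obtain ⟨Tc, ic, oc, sqc, hTc⟩ := hDa _ _ k.hom (hTb a) (ob a)
    refine ⟨Tc, oc, (RepWith @IsOpenImmersion).of_isPullback sqc.flip (hob a), ?_⟩
    rintro z ⟨y, hy⟩
    obtain ⟨p, hp, -⟩ := exists_point_of_isPullback sqc z y hy.symm
    exact ⟨p, hp⟩
  choose Tc oc hoc hoccov using hpc
  obtain ⟨V, eV, -, -, -, -⟩ := exists_rep_of_openCover hoc (fun z => by
    obtain ⟨a, y, hy⟩ := hk z
    exact ⟨a, hoccov a z ⟨y, hy⟩⟩)
  exact ⟨k.left, V, ⟨eV⟩⟩

end Open

end Groth.Agent.Helper15.AlgSpLim
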