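import Mathlib
import Groth.Agent.Lib.Helper15.AlgSpLim25

set_option autoImplicit false
set_option linter.style.haveILetI false

universe u

open CategoryTheory CategoryTheory.Limits AlgebraicGeometry MorphismProperty Opposite
open AlgSp

namespace Groth.Agent.Helper15.AlgSpLim

variable {S : Scheme.{u}}

attribute [local instance] IsCofiltered.isConnected

section RepCone

variable {K : Type u} [SmallCategory K] (E : K ⥤ Sp S)
  (W : K → Over S) (e : ∀ k, (yon S).obj (W k) ≅ E.obj k) (c : Cone E)
  (Ξ : Over S) (eΞ : (yon S).obj Ξ ≅ c.pt)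

/-- The cone of schemes over the lifted diagram defined by a cone of sheaves with representable
vertex. -/
noncomputable def repCone : Cone (liftDiag E W e) where
  pt := Ξ
  π :=
    { app := fun k => (yon S).preimage (eΞ.hom ≫ c.π.app k ≫ (e k).inv)
      naturality := fun k l f => by
        apply (yon S).map_injective
        simp [liftDiag] }

/-- The cone of schemes is a limit cone if the cone of sheaves is. -/
noncomputable def isLimitRepCone (hc : IsLimit c) : IsLimit (repCone E W e c Ξ eΞ) := by
  apply isLimitOfReflects (yon S)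
  have h : IsLimit ((Cone.postcompose (liftDiagIso E W e).inv).obj c) :=
    (IsLimit.postcomposeInvEquiv (liftDiagIso E W e) c).symm hc
  refine IsLimit.ofIsoLimit h (Cone.ext eΞ.symm (fun k => ?_))
  simp [repCone, liftDiagIso]

end RepCone

section Final

variable [QuasiSeparatedSpace ↥S] {I : Type u} [SmallCategory I] [IsCofiltered I]
  (D : I ⥤ Sp S) (hD : ∀ i, IsAlgSpace (D.obj i))
  (hDa : ∀ (i j : I) (φ : i ⟶ j), IsAffineMor (D.map φ))
  (c : Cone D) (hc : IsLimit c)

include hD hDa hc in
/-- If the limit is an affine scheme, some stage is an affine scheme. -/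
theorem exists_affine_stage (hqc : ∀ i, IsQuasiCompactSp (D.obj i))
    (hqs : ∀ i, IsQuasiSeparatedSp (D.obj i)) (Ξ : Over S) (hΞ : IsAffine Ξ.left)
    (e : (yon S).obj Ξ ≅ c.pt) :
    ∃ (i : I) (T' : Over S), IsAffine T'.left ∧ Nonempty ((yon S).obj T' ≅ D.obj i) := by
  obtain ⟨m, V, ⟨eV⟩⟩ := exists_rep_stage D hD hDa c hc hqc hqs Ξ e
  have hRW : ∀ {i j : I} (φ : i ⟶ j), RepWith @IsAffineHom (D.map φ) := fun φ =>
    repWith_of_affRep _ ((isAffineMor_iff_affRep _).1 (hDa _ _ φ))
  have hrep : ∀ k : Over m, ∃ (Wk : Over S), Nonempty ((yon S).obj Wk ≅ D.obj k.left) := by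
    intro k
    have sq := (hRW k.hom).rep.isPullback eV.hom
    haveI : IsIso ((hRW k.hom).rep.fst eV.hom) := sq.isIso_fst_of_isIso
    exact ⟨_, ⟨asIso ((hRW k.hom).rep.fst eV.hom)⟩⟩
  choose W hW using hrep
  let E : Over m ⥤ Sp S := Over.forget m ⋙ D
  let eW : ∀ k, (yon S).obj (W k) ≅ E.obj k := fun k => (hW k).some
  let cE : Cone E := c.whisker (Over.forget m)
  have hcE : IsLimit cE := (Functor.Initial.isLimitWhiskerEquiv (Over.forget m) c).symm hc
  let cL := repCone E W eW cE Ξ e
  have hcL : IsLimit cL := isLimitRepCone E W eW cE Ξ e hcE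
  have hlim : IsLimit ((Over.forget S).mapCone cL) := isLimitOfPreserves _ hcL
  have h1 : ∀ {k l : Over m} (f : k ⟶ l),
      IsAffineHom ((liftDiag E W eW ⋙ Over.forget S).map f) := by
    intro k l f
    have h : RepWith @IsAffineHom ((yon S).map ((liftDiag E W eW).map f)) := by
      have : (yon S).map ((liftDiag E W eW).map f) =
          (eW k).hom ≫ D.map f.left ≫ (eW l).inv := by
        simp [liftDiag, E]
      rw [this]
      exact (RepWith @IsAffineHom).comp_mem _ _ (repWith_of_isIso @IsAffineHom _)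
        ((RepWith @IsAffineHom).comp_mem _ _ (hRW f.left) (repWith_of_isIso @IsAffineHom _))
    exact (repWith_yon_map_iff _ _).1 h
  have h2 : ∀ k : Over m, CompactSpace ↥((liftDiag E W eW ⋙ Over.forget S).obj k) := fun k =>
    (isQuasiCompactSp_yon_iff (W k)).1 (isQuasiCompactSp_of_iso (eW k) (hqc k.left))
  have h3 : ∀ k : Over m, QuasiSeparatedSpace ↥((liftDiag E W eW ⋙ Over.forget S).obj k) := by
    intro k
    have hq : IsQuasiSeparatedSp ((yon S).obj (W k)) :=
      isQuasiSeparatedSp_of_mono (eW k).hom (hqs k.left)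
    unfold IsQuasiSeparatedSp at hq
    rw [repWith_diag_yon_iff] at hq
    let f : (W k).left ⟶ S := (W k).hom
    haveI : QuasiSeparated f := ⟨hq⟩
    have hres : QuasiSeparatedSpace ↥(W k).left := quasiSeparatedSpace_of_quasiSeparated f
    exact hres
  haveI : IsAffine ((Over.forget S).mapCone cL).pt := hΞ
  obtain ⟨k, hk⟩ := Scheme.exists_isAffine_of_isLimit (liftDiag E W eW ⋙ Over.forget S)
    ((Over.forget S).mapCone cL) hlim
  exact ⟨k.left, W k, hk, ⟨eW k⟩⟩

end Final

end Groth.Agent.Helper15.AlgSpLim
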