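import Mathlib
import Groth.Agent.Lib.Helper15.AlgSpLim26

set_option autoImplicit false
set_option linter.style.haveILetI false

universe u

open CategoryTheory CategoryTheory.Limits AlgebraicGeometry MorphismProperty Opposite
open AlgSp

namespace Groth.Agent.Helper15.AlgSpLim

variable {S : Scheme.{u}}

attribute [local instance] IsCofiltered.isConnected

/-- A morphism from a sheaf representable by an affine scheme to an affine scheme is affine. -/
theorem isAffineMor_of_affine_source_target {F : Sp S} {T V : Over S} (hT : IsAffine T.left)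
    (hV : IsAffine V.left) (e : (yon S).obj T ≅ F) (snd : F ⟶ (yon S).obj V) :
    IsAffineMor snd := by
  obtain ⟨ψ, hψ⟩ := (yon S).map_surjective (e.hom ≫ snd)
  have h1 : RepWith @IsAffineHom ((yon S).map ψ) :=
    (repWith_yon_map_iff _ ψ).2 (isAffineHom_of_isAffine ψ.left)
  have h2 : RepWith @IsAffineHom snd := by
    have : snd = e.inv ≫ (yon S).map ψ := by rw [hψ, Iso.inv_hom_id_assoc]
    rw [this]
    exact (RepWith @IsAffineHom).comp_mem _ _ (repWith_of_isIso @IsAffineHom _) h1
  exact (isAffineMor_iff_affRep _).2 (affRep_of_repWith h2)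

/-- The source of an affine morphism to a quasi-separated algebraic space is quasi-separated. -/
theorem isQuasiSeparatedSp_of_isAffineMor {X Y : Sp S} (hX : IsAlgSpace X) (hY : IsAlgSpace Y)
    (f : X ⟶ Y) (hf : IsAffineMor f) (hYqs : IsQuasiSeparatedSp Y) : IsQuasiSeparatedSp X :=
  isQuasiSeparatedSp_of_isQuasiSeparatedMor f
    (repWith_mono isClosedImmersion_le_quasiCompact (isSeparatedMor_of_isAffineMor hX hY f hf)) hYqs

/-- A sheaf with an affine morphism to a sheaf representable by an affine scheme is representable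
by an affine scheme. -/
theorem exists_affine_rep_of_isAffineMor {F G : Sp S} (f : F ⟶ G) (hf : IsAffineMor f)
    {T : Over S} (hT : IsAffine T.left) (e : (yon S).obj T ≅ G) :
    ∃ (W : Over S), IsAffine W.left ∧ Nonempty ((yon S).obj W ≅ F) := by
  obtain ⟨W, i, fst, sq, hW⟩ := hf hT e.hom
  haveI : IsIso fst := sq.isIso_fst_of_isIso
  exact ⟨W, hW, ⟨asIso fst⟩⟩

section Over

variable [QuasiSeparatedSpace ↥S] {I : Type u} [SmallCategory I] [IsCofiltered I]

/-- If the limit of a system of quasi-compact quasi-separated algebraic spaces over `Y` with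
affine transition maps is affine over `Y`, then so are all small enough stages. -/
theorem exists_isAffineMor_stage (Y : Sp S) (hY : IsAlgSpace Y) (D : I ⥤ Sp S)
    (hD : ∀ i, IsAlgSpace (D.obj i)) (t : D ⟶ (Functor.const I).obj Y)
    (hDa : ∀ (i j : I) (φ : i ⟶ j), IsAffineMor (D.map φ))
    (c : Cone D) (hc : IsLimit c) (g : c.pt ⟶ Y) (hg : ∀ i, c.π.app i ≫ t.app i = g)
    (hqc : ∀ i, IsQuasiCompactSp (D.obj i)) (hqs : ∀ i, IsQuasiSeparatedSp (D.obj i))
    (hYqc : IsQuasiCompactSp Y) (hYqs : IsQuasiSeparatedSp Y) (hX : IsAffineMor g) :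
    ∃ i₀ : I, ∀ (i : I) (_ : i ⟶ i₀), IsAffineMor (t.app i) := by
  obtain ⟨V, p, hV, hpe, hps⟩ := exists_affine_chart_of_isQuasiCompactSp hYqc
  let DY : I ⥤ Sp S := (Functor.const I).obj Y
  let cY : Cone DY := constCone I Y
  have hcY : IsLimit cY := isLimitConstCone I Y
  have hg' : ∀ i, g ≫ cY.π.app i = c.π.app i ≫ t.app i := fun i => by
    change g ≫ 𝟙 Y = _
    rw [Category.comp_id, hg i]
  let DV : I ⥤ Sp S := pbDiag D DY t cY p
  let cV : Cone DV := pbCone D DY t c cY g hg' p
  have hcV : IsLimit cV := isLimitPbCone hg' p hc hcY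
  let fstk : ∀ i, DV.obj i ⟶ D.obj i := fun i => pbFst D DY t cY p i
  let sndk : ∀ i, DV.obj i ⟶ (yon S).obj V := fun i => pbSnd D DY t cY p i
  have sqk : ∀ i, IsPullback (fstk i) (sndk i) (t.app i) p := fun i => by
    have h := pb_isPullback D DY t cY p i
    have h2 : p ≫ cY.π.app i = p := Category.comp_id p
    exact (congrArg (IsPullback (fstk i) (sndk i) (t.app i)) h2).mp h
  have hVa := IsAlgSpace.yon_obj V
  have hVqc : IsQuasiCompactSp ((yon S).obj V) := (isQuasiCompactSp_yon_iff V).2 inferInstance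
  have hVqs : IsQuasiSeparatedSp ((yon S).obj V) := isQuasiSeparatedSp_yon_of_isAffine V
  have hDValg : ∀ i, IsAlgSpace (DV.obj i) := fun i =>
    isAlgSpace_of_isPullback hY.diag (hD i) hVa (sqk i)
  have hDVqc : ∀ i, IsQuasiCompactSp (DV.obj i) := fun i =>
    isQuasiCompactSp_of_isPullback (sqk i) (hqc i) hVqc hYqs
  have hDVqs : ∀ i, IsQuasiSeparatedSp (DV.obj i) := fun i =>
    isQuasiSeparatedSp_of_isPullback (sqk i) (hqs i) hVqs
  have hDVmap : ∀ {i j : I} (φ : i ⟶ j), IsPullback (DV.map φ) (fstk i) (fstk j) (D.map φ) := by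
    intro i j φ
    refine IsPullback.of_right (h₁₂ := sndk j) (h₂₂ := t.app j) (v₁₃ := p) ?_
      (pbDiag_map_fst D DY t cY p φ) (sqk j).flip
    have h1 : DV.map φ ≫ sndk j = sndk i := pbDiag_map_snd D DY t cY p φ
    have h2 : D.map φ ≫ t.app j = t.app i := by
      have := t.naturality φ
      simp only [Functor.const_obj_obj, Functor.const_obj_map, Category.comp_id] at this
      exact this
    rw [h1, h2]
    exact (sqk i).flip
  have hDVa : ∀ (i j : I) (φ : i ⟶ j), IsAffineMor (DV.map φ) := fun i j φ =>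
    isAffineMor_of_isPullback (hDVmap φ).flip (hDa i j φ)
  obtain ⟨W, iW, fstW, sqW, hW⟩ := hX hV p
  let eW : (yon S).obj W ≅ cV.pt := sqW.isoPullback
  obtain ⟨i₁, T', hT', ⟨eT⟩⟩ := exists_affine_stage DV hDValg hDVa cV hcV hDVqc hDVqs W hW eW
  refine ⟨i₁, fun i φ => ?_⟩
  obtain ⟨W', hW', ⟨eW'⟩⟩ := exists_affine_rep_of_isAffineMor (DV.map φ) (hDVa i i₁ φ) hT' eT
  exact AffDesc.isAffineMor_of_chart (t.app i) p (repWith_mono etale_le_flat hpe)
    (repWith_mono etale_le_lfp hpe) hps (fstk i) (sndk i) (sqk i)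
    (isAffineMor_of_affine_source_target hW' hV eW' (sndk i))

end Over

end Groth.Agent.Helper15.AlgSpLim
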