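import Mathlib
import Groth.Agent.Lib.Helper15.AlgSpLim27

set_option autoImplicit false
set_option linter.style.haveILetI false
set_option linter.unusedVariables false

universe u

open CategoryTheory CategoryTheory.Limits AlgebraicGeometry MorphismProperty Opposite
open AlgSp

namespace Groth.Agent.Helper15.AlgSpLim

variable {S : Scheme.{u}}

attribute [local instance] IsCofiltered.isConnected

/-- The base change of a chart of the target of `f₀`, computed over the base. -/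
theorem isPullback_chart_baseChange {X₀ Y₀ B₀ X' Y' B' : Sp S} {f₀ : X₀ ⟶ Y₀} {b₀ : Y₀ ⟶ B₀}
    {V₀ V' : Sp S} (g : V₀ ⟶ Y₀) {pY' : Y' ⟶ Y₀} {pX' : X' ⟶ X₀} {f' : X' ⟶ Y'}
    (hX' : IsPullback pX' f' f₀ pY') (g' : V' ⟶ Y') (z : V' ⟶ V₀)
    (sqV : IsPullback g' z pY' g) (q' : V' ⟶ B') (π' : B' ⟶ B₀)
    (sqB : IsPullback q' z π' (g ≫ b₀)) {P : Sp S} (fstP : P ⟶ X') (sndP : P ⟶ V')
    (sqP : IsPullback fstP sndP f' g') :
    ∃ m : P ⟶ pullback f₀ g, m ≫ pullback.fst f₀ g = fstP ≫ pX' ∧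
      m ≫ pullback.snd f₀ g = sndP ≫ z ∧
      IsPullback (sndP ≫ q') m π' (pullback.snd f₀ g ≫ g ≫ b₀) := by
  have sq₀ : IsPullback (pullback.fst f₀ g) (pullback.snd f₀ g) f₀ g :=
    IsPullback.of_hasPullback _ _
  have hw : (fstP ≫ pX') ≫ f₀ = (sndP ≫ z) ≫ g := by
    rw [Category.assoc, hX'.w, ← Category.assoc, sqP.w, Category.assoc, sqV.w, Category.assoc]
  let m : P ⟶ pullback f₀ g := sq₀.lift _ _ hw
  have hm1 : m ≫ pullback.fst f₀ g = fstP ≫ pX' := sq₀.lift_fst _ _ _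
  have hm2 : m ≫ pullback.snd f₀ g = sndP ≫ z := sq₀.lift_snd _ _ _
  have sqW : IsPullback m sndP (pullback.snd f₀ g) z := by
    refine IsPullback.of_right (h₁₂ := pullback.fst f₀ g) (h₂₂ := g) (v₁₃ := f₀) ?_ hm2 sq₀
    rw [hm1, ← sqV.w]
    exact sqP.paste_horiz hX'
  exact ⟨m, hm1, hm2, sqW.flip.paste_horiz sqB⟩

section BcSys

variable {I : Type u} [SmallCategory I] (D : I ⥤ Sp S) {i : I} {W₀ : Sp S} (w : W₀ ⟶ D.obj i)

/-- The system `k ↦ D k ×_{D i} W₀` for `k` over `i`. -/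
noncomputable def bcSys : Over i ⥤ Sp S := Over.post D ⋙ Over.pullback w ⋙ Over.forget _

/-- The cone over `bcSys` with vertex `c.pt ×_{D i} W₀`. -/
noncomputable def bcSysCone (c : Cone D) : Cone (bcSys D w) :=
  (Over.pullback w ⋙ Over.forget _).mapCone ((Over.conePost D i).obj c)

/-- The cone `bcSysCone` is a limit cone. -/
noncomputable def isLimitBcSysCone [IsCofiltered I] {c : Cone D} (hc : IsLimit c) :
    IsLimit (bcSysCone D w c) :=
  isLimitOfPreserves (Over.pullback w ⋙ Over.forget _) (Over.isLimitConePost i hc)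

/-- First projection. -/
noncomputable def bcSysFst (k : Over i) : (bcSys D w).obj k ⟶ D.obj k.left :=
  pullback.fst (D.map k.hom) w

/-- Second projection. -/
noncomputable def bcSysSnd (k : Over i) : (bcSys D w).obj k ⟶ W₀ :=
  pullback.snd (D.map k.hom) w

theorem bcSys_isPullback (k : Over i) :
    IsPullback (bcSysFst D w k) (bcSysSnd D w k) (D.map k.hom) w :=
  IsPullback.of_hasPullback _ _

theorem bcSysCone_isPullback (c : Cone D) :
    IsPullback (pullback.fst (c.π.app i) w : (bcSysCone D w c).pt ⟶ c.pt)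
      (pullback.snd (c.π.app i) w) (c.π.app i) w :=
  IsPullback.of_hasPullback _ _

theorem bcSys_map_isPullback {k l : Over i} (f : k ⟶ l) :
    IsPullback (bcSysFst D w k) ((bcSys D w).map f) (D.map f.left) (bcSysFst D w l) :=
  (isPullback_overPullback_map w ((Over.post D).map f)).flip

theorem bcSys_map_snd {k l : Over i} (f : k ⟶ l) :
    (bcSys D w).map f ≫ bcSysSnd D w l = bcSysSnd D w k :=
  pullback.lift_snd _ _ _

variable (hD : ∀ i, IsAlgSpace (D.obj i))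
  (hDa : ∀ (i j : I) (φ : i ⟶ j), IsAffineMor (D.map φ))
  (hW₀a : IsAlgSpace W₀)

include hD hW₀a in
theorem bcSys_isAlgSpace (k : Over i) : IsAlgSpace ((bcSys D w).obj k) :=
  isAlgSpace_of_isPullback (hD i).diag (hD k.left) hW₀a (bcSys_isPullback D w k)

include hDa in
theorem bcSys_isAffineMor_map (k l : Over i) (f : k ⟶ l) : IsAffineMor ((bcSys D w).map f) :=
  isAffineMor_of_isPullback (bcSys_map_isPullback D w f) (hDa _ _ f.left)

include hDa in
theorem bcSys_isAffineMor_snd (k : Over i) : IsAffineMor (bcSysSnd D w k) :=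
  isAffineMor_of_isPullback (bcSys_isPullback D w k) (hDa _ _ k.hom)

include hDa in
theorem bcSys_isQuasiCompactSp (hW₀qc : IsQuasiCompactSp W₀) (k : Over i) :
    IsQuasiCompactSp ((bcSys D w).obj k) :=
  isQuasiCompactSp_of_isAffineMor (bcSysSnd D w k) (bcSys_isAffineMor_snd D w hDa k) hW₀qc

include hD hDa hW₀a in
theorem bcSys_isQuasiSeparatedSp (hW₀qs : IsQuasiSeparatedSp W₀) (k : Over i) :
    IsQuasiSeparatedSp ((bcSys D w).obj k) :=
  isQuasiSeparatedSp_of_isAffineMor (bcSys_isAlgSpace D w hD hW₀a k) hW₀a (bcSysSnd D w k)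
    (bcSys_isAffineMor_snd D w hDa k) hW₀qs

end BcSys

section StageAffine

variable [QuasiSeparatedSpace ↥S] {I : Type u} [SmallCategory I] [IsCofiltered I]
  (D : I ⥤ Sp S) (hD : ∀ i, IsAlgSpace (D.obj i))
  (hDa : ∀ (i j : I) (φ : i ⟶ j), IsAffineMor (D.map φ))
  (c : Cone D) (hc : IsLimit c) (i₀ : I)

include hD hDa hc in
/-- Affineness of a base change to the limit descends to a finite stage. -/
theorem stageProp_isAffineMor {X₀ Y₀ : Sp S} (hXa : IsAlgSpace X₀) (hYa : IsAlgSpace Y₀)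
    (f₀ : X₀ ⟶ Y₀) (b₀ : Y₀ ⟶ D.obj i₀) (hXqc : IsQuasiCompactSp X₀)
    (hXqs : IsQuasiSeparatedSp X₀) (hYqc : IsQuasiCompactSp Y₀) (hYqs : IsQuasiSeparatedSp Y₀)
    {X Y : Sp S} (f : X ⟶ Y) (pY : Y ⟶ Y₀) (qY : Y ⟶ c.pt)
    (hY : IsPullback pY qY b₀ (c.π.app i₀)) (pX : X ⟶ X₀) (hX : IsPullback pX f f₀ pY)
    (hf : IsAffineMor f) : StageProp D i₀ f₀ b₀ (fun {A B} g => IsAffineMor g) := by
  obtain ⟨V₀, g, hV₀, hge, hgs⟩ := exists_affine_chart_of_isQuasiCompactSp hYqc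
  obtain ⟨C, hCz, hCq, hCzn⟩ := exists_limChart_nat D hDa c hc i₀ hV₀ (g ≫ b₀)
  have sq₀ : IsPullback (pullback.fst f₀ g) (pullback.snd f₀ g) f₀ g :=
    IsPullback.of_hasPullback _ _
  have hVa := IsAlgSpace.yon_obj V₀
  have hVqc : IsQuasiCompactSp ((yon S).obj V₀) := (isQuasiCompactSp_yon_iff V₀).2 inferInstance
  have hVqs : IsQuasiSeparatedSp ((yon S).obj V₀) := isQuasiSeparatedSp_yon_of_isAffine V₀
  have hW₀a : IsAlgSpace (pullback f₀ g) := isAlgSpace_of_isPullback hYa.diag hXa hVa sq₀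
  have hW₀qc : IsQuasiCompactSp (pullback f₀ g) := isQuasiCompactSp_of_isPullback sq₀ hXqc hVqc hYqs
  have hW₀qs : IsQuasiSeparatedSp (pullback f₀ g) := isQuasiSeparatedSp_of_isPullback sq₀ hXqs hVqs
  obtain ⟨w, hw⟩ : ∃ w : pullback f₀ g ⟶ D.obj i₀, w = pullback.snd f₀ g ≫ g ≫ b₀ := ⟨_, rfl⟩
  -- the chart of the limit
  have hwL : ((yon S).map C.zL ≫ g) ≫ b₀ = C.r ≫ c.π.app i₀ := by
    rw [Category.assoc]; exact C.sqL.w.symm
  let gL : (yon S).obj C.cL.pt ⟶ Y := hY.lift _ _ hwL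
  have hgL1 : gL ≫ pY = (yon S).map C.zL ≫ g := hY.lift_fst _ _ _
  have hgL2 : gL ≫ qY = C.r := hY.lift_snd _ _ _
  have sqVL : IsPullback gL ((yon S).map C.zL) pY g := by
    refine IsPullback.of_right (h₁₂ := qY) (h₂₂ := b₀) (v₁₃ := c.π.app i₀) ?_ hgL1 hY.flip
    rw [hgL2]
    exact C.sqL
  obtain ⟨Wa, iW, fstW, sqWa, hWa⟩ := hf C.isAffine_pt gL
  obtain ⟨mL, -, -, sqL⟩ := isPullback_chart_baseChange (b₀ := b₀) g hX gL ((yon S).map C.zL) sqVL
    C.r (c.π.app i₀) C.sqL fstW ((yon S).map iW) sqWa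
  rw [← hw] at sqL
  let eW : (yon S).obj Wa ≅ (bcSysCone D w c).pt := sqL.isoPullback
  obtain ⟨k₁, T', hT', ⟨eT⟩⟩ := exists_affine_stage (bcSys D w) (bcSys_isAlgSpace D w hD hW₀a)
    (bcSys_isAffineMor_map D w hDa) (bcSysCone D w c) (isLimitBcSysCone D w hc)
    (bcSys_isQuasiCompactSp D w hDa hW₀qc) (bcSys_isQuasiSeparatedSp D w hD hDa hW₀a hW₀qs) Wa hWa eW
  refine ⟨k₁, fun k φ Xi Yi fi pYi qYi hYi pXi hXi => ?_⟩
  obtain ⟨Tk, hTk, ⟨eTk⟩⟩ := exists_affine_rep_of_isAffineMor ((bcSys D w).map φ)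
    (bcSys_isAffineMor_map D w hDa k k₁ φ) hT' eT
  have hwk : ((yon S).map (C.z k) ≫ g) ≫ b₀ = C.q k ≫ D.map k.hom := by
    rw [Category.assoc]; exact (C.sq k).w.symm
  let gk : (yon S).obj (C.T.obj k) ⟶ Yi := hYi.lift _ _ hwk
  have hgk1 : gk ≫ pYi = (yon S).map (C.z k) ≫ g := hYi.lift_fst _ _ _
  have hgk2 : gk ≫ qYi = C.q k := hYi.lift_snd _ _ _
  have sqVk : IsPullback gk ((yon S).map (C.z k)) pYi g := by
    refine IsPullback.of_right (h₁₂ := qYi) (h₂₂ := b₀) (v₁₃ := D.map k.hom) ?_ hgk1 hYi.flip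
    rw [hgk2]
    exact C.sq k
  have hgke : RepWith @Etale gk := (RepWith @Etale).of_isPullback sqVk.flip hge
  have hgks : RepWith @Surjective gk := (RepWith @Surjective).of_isPullback sqVk.flip hgs
  obtain ⟨mk, -, -, sqk⟩ := isPullback_chart_baseChange (b₀ := b₀) g hXi gk ((yon S).map (C.z k))
    sqVk (C.q k) (D.map k.hom) (C.sq k) (pullback.fst fi gk) (pullback.snd fi gk)
    (IsPullback.of_hasPullback fi gk)
  rw [← hw] at sqk
  let ePk : pullback fi gk ≅ (bcSys D w).obj k := sqk.isoPullback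
  have hTkaff := C.isAffine k
  exact AffDesc.isAffineMor_of_chart fi gk (repWith_mono etale_le_flat hgke)
    (repWith_mono etale_le_lfp hgke) hgks (pullback.fst fi gk) (pullback.snd fi gk)
    (IsPullback.of_hasPullback fi gk)
    (isAffineMor_of_affine_source_target hTk hTkaff (eTk ≪≫ ePk.symm) _)

end StageAffine

end Groth.Agent.Helper15.AlgSpLim
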