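import Mathlib

set_option autoImplicit false
set_option linter.unusedSectionVars false
set_option linter.unusedVariables false

universe u

open CategoryTheory Polynomial

namespace Groth.Agent.Helper15.RingSys

/-- A cofiltered system of ring maps `ζ k : R k → A k` together with its "colimit" `Rinf → Ainf`,
in the elementwise form in which colimits of rings are used. -/
structure Sys (K : Type u) [Category.{u} K] where
  A : K → Type u
  R : K → Type u
  Ainf : Type u
  Rinf : Type u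
  [cA : ∀ k, CommRing (A k)]
  [cR : ∀ k, CommRing (R k)]
  [cAinf : CommRing Ainf]
  [cRinf : CommRing Rinf]
  trA : ∀ {k l : K}, (k ⟶ l) → A l →+* A k
  trR : ∀ {k l : K}, (k ⟶ l) → R l →+* R k
  πA : ∀ k, A k →+* Ainf
  πR : ∀ k, R k →+* Rinf
  ζ : ∀ k, R k →+* A k
  ζinf : Rinf →+* Ainf
  trA_comp : ∀ {k l m : K} (f : k ⟶ l) (g : l ⟶ m) (y : A m), trA (f ≫ g) y = trA f (trA g y)
  πA_tr : ∀ {k l : K} (f : k ⟶ l) (y : A l), πA k (trA f y) = πA l y
  πR_tr : ∀ {k l : K} (f : k ⟶ l) (y : R l), πR k (trR f y) = πR l y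
  nat : ∀ {k l : K} (f : k ⟶ l) (r : R l), ζ k (trR f r) = trA f (ζ l r)
  natInf : ∀ k (r : R k), ζinf (πR k r) = πA k (ζ k r)
  surjR : ∀ x : Rinf, ∃ k y, πR k y = x
  injA : ∀ k (y : A k), πA k y = 0 → ∃ (l : K) (f : l ⟶ k), trA f y = 0

attribute [instance] Sys.cA Sys.cR Sys.cAinf Sys.cRinf

/-- Finitely many eventually valid conditions are simultaneously eventually valid. -/
theorem exists_common {K : Type u} [Category.{u} K] [IsCofiltered K] {k : K} {α : Type*}
    (G : α → ∀ l : K, (l ⟶ k) → Prop)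
    (hstab : ∀ a (l : K) (f : l ⟶ k) (l' : K) (h : l' ⟶ l), G a l f → G a l' (h ≫ f))
    (s : Finset α) (hs : ∀ a ∈ s, ∃ (l : K) (f : l ⟶ k), G a l f) :
    ∃ (l : K) (f : l ⟶ k), ∀ a ∈ s, G a l f := by
  classical
  induction s using Finset.induction_on with
  | empty => exact ⟨k, 𝟙 k, by simp⟩
  | insert a s _ ih =>
    obtain ⟨l₁, f₁, h₁⟩ := ih (fun b hb => hs b (Finset.mem_insert_of_mem hb))
    obtain ⟨l₂, f₂, h₂⟩ := hs a (Finset.mem_insert_self a s)
    obtain ⟨l, g₁, g₂, hg⟩ := IsCofiltered.cospan f₁ f₂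
    refine ⟨l, g₁ ≫ f₁, fun b hb => ?_⟩
    rcases Finset.mem_insert.1 hb with rfl | hb
    · rw [hg]
      exact hstab _ _ _ _ _ h₂
    · exact hstab _ _ _ _ _ (h₁ b hb)

variable {K : Type u} [Category.{u} K] [IsCofiltered K] (Y : Sys K)

namespace Sys

theorem mem_range_stab {k l l' : K} (f : l ⟶ k) (h : l' ⟶ l) (a : Y.A k)
    (ha : Y.trA f a ∈ Set.range (Y.ζ l)) : Y.trA (h ≫ f) a ∈ Set.range (Y.ζ l') := by
  obtain ⟨r, hr⟩ := ha
  exact ⟨Y.trR h r, by rw [Y.nat, hr, Y.trA_comp]⟩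

/-- An element whose image in the colimit comes from `Rinf` comes from `R l` at a later stage. -/
theorem exists_mem_range {k : K} (a : Y.A k) (h : Y.πA k a ∈ Set.range Y.ζinf) :
    ∃ (l : K) (f : l ⟶ k), Y.trA f a ∈ Set.range (Y.ζ l) := by
  obtain ⟨x, hx⟩ := h
  obtain ⟨k', r, rfl⟩ := Y.surjR x
  let m := IsCofiltered.min k k'
  let g₁ : m ⟶ k := IsCofiltered.minToLeft k k'
  let g₂ : m ⟶ k' := IsCofiltered.minToRight k k'
  have he : Y.πA m (Y.trA g₁ a - Y.ζ m (Y.trR g₂ r)) = 0 := by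
    rw [map_sub, Y.πA_tr, ← Y.natInf, Y.πR_tr, hx, sub_self]
  obtain ⟨l, f, hf⟩ := Y.injA m _ he
  refine ⟨l, f ≫ g₁, Y.trR f (Y.trR g₂ r), ?_⟩
  rw [map_sub, sub_eq_zero] at hf
  rw [Y.nat, ← hf, Y.trA_comp]

theorem exists_mem_range_finset {k : K} (s : Finset (Y.A k))
    (h : ∀ a ∈ s, Y.πA k a ∈ Set.range Y.ζinf) :
    ∃ (l : K) (f : l ⟶ k), ∀ a ∈ s, Y.trA f a ∈ Set.range (Y.ζ l) :=
  exists_common (fun a l f => Y.trA f a ∈ Set.range (Y.ζ l))
    (fun a l f l' h ha => Y.mem_range_stab f h a ha) s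
    (fun a ha => Y.exists_mem_range a (h a ha))

/-- Closed immersions descend: the ring-level statement. -/
theorem exists_surjective (hinf : Function.Surjective Y.ζinf) (k₀ : K) (s : Finset (Y.A k₀))
    (hs : Subring.closure (Set.range (Y.ζ k₀) ∪ ↑s) = ⊤)
    (hgen : ∀ {k l : K} (f : k ⟶ l), (∀ y, Y.trA f y ∈ Set.range (Y.ζ k)) →
      Function.Surjective (Y.ζ k)) :
    ∃ (k₁ : K) (_ : k₁ ⟶ k₀), ∀ (k : K) (_ : k ⟶ k₁), Function.Surjective (Y.ζ k) := by
  obtain ⟨k₁, g, hg⟩ := Y.exists_mem_range_finset s (fun a _ => hinf _)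
  refine ⟨k₁, g, fun k φ => hgen (φ ≫ g) ?_⟩
  have hle : Subring.closure (Set.range (Y.ζ k₀) ∪ ↑s) ≤ (Y.ζ k).range.comap (Y.trA (φ ≫ g)) := by
    rw [Subring.closure_le]
    rintro x (⟨r, rfl⟩ | hx)
    · exact ⟨Y.trR (φ ≫ g) r, Y.nat _ _⟩
    · exact Y.mem_range_stab g φ x (hg x hx)
  rw [hs] at hle
  intro y
  exact hle (Subring.mem_top y)

/-- Integrality is transported along a commutative square. -/
theorem isIntegralElem_of_square {R A R' A' : Type*} [CommRing R] [CommRing A] [CommRing R']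
    [CommRing A'] (φ : R →+* A) (φ' : R' →+* A') (tR : R →+* R') (tA : A →+* A')
    (h : ∀ r, φ' (tR r) = tA (φ r)) {x : A} (hx : φ.IsIntegralElem x) :
    φ'.IsIntegralElem (tA x) := by
  obtain ⟨p, hp, hpx⟩ := hx
  refine ⟨p.map tR, hp.map tR, ?_⟩
  rw [eval₂_map]
  have hc : φ'.comp tR = tA.comp φ := RingHom.ext h
  rw [hc, ← hom_eval₂, hpx, map_zero]

theorem isIntegralElem_stab {k l l' : K} (f : l ⟶ k) (h : l' ⟶ l) (a : Y.A k)
    (ha : (Y.ζ l).IsIntegralElem (Y.trA f a)) : (Y.ζ l').IsIntegralElem (Y.trA (h ≫ f) a) := by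
  rw [Y.trA_comp]
  exact isIntegralElem_of_square (Y.ζ l) (Y.ζ l') (Y.trR h) (Y.trA h) (Y.nat h) ha

theorem range_πR_mono {k l : K} (f : k ⟶ l) : Set.range (Y.πR l) ⊆ Set.range (Y.πR k) := by
  rintro _ ⟨y, rfl⟩
  exact ⟨Y.trR f y, Y.πR_tr f y⟩

theorem exists_stage_finset (s : Finset Y.Rinf) : ∃ k, ∀ x ∈ s, x ∈ Set.range (Y.πR k) := by
  classical
  induction s using Finset.induction_on with
  | empty =>
    obtain ⟨k⟩ : Nonempty K := IsCofiltered.nonempty
    exact ⟨k, by simp⟩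
  | insert a s _ ih =>
    obtain ⟨k₁, h₁⟩ := ih
    obtain ⟨k₂, y, hy⟩ := Y.surjR a
    refine ⟨IsCofiltered.min k₁ k₂, fun b hb => ?_⟩
    rcases Finset.mem_insert.1 hb with rfl | hb
    · exact Y.range_πR_mono (IsCofiltered.minToRight k₁ k₂) ⟨y, hy⟩
    · exact Y.range_πR_mono (IsCofiltered.minToLeft k₁ k₂) (h₁ b hb)

/-- An element whose image in the colimit is integral over `Rinf` is integral over `R l` at a later
stage. -/
theorem exists_isIntegralElem {k : K} (a : Y.A k) (h : Y.ζinf.IsIntegralElem (Y.πA k a)) :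
    ∃ (l : K) (f : l ⟶ k), (Y.ζ l).IsIntegralElem (Y.trA f a) := by
  obtain ⟨p, hp, hpa⟩ := h
  obtain ⟨k', hk'⟩ := Y.exists_stage_finset p.coeffs
  have hlift : p ∈ Polynomial.lifts (Y.πR k') := by
    rw [Polynomial.lifts_iff_coeff_lifts]
    intro n
    by_cases hn : p.coeff n = 0
    · rw [hn]; exact ⟨0, map_zero _⟩
    · exact hk' _ (Polynomial.coeff_mem_coeffs hn)
  obtain ⟨q, hq, -, hqm⟩ := Polynomial.lifts_and_natDegree_eq_and_monic hlift hp
  let m := IsCofiltered.min k k'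
  let g₁ : m ⟶ k := IsCofiltered.minToLeft k k'
  let g₂ : m ⟶ k' := IsCofiltered.minToRight k k'
  have hcomp : (Y.πR m).comp (Y.trR g₂) = Y.πR k' := RingHom.ext (Y.πR_tr g₂)
  have hcomp2 : (Y.πA m).comp (Y.ζ m) = Y.ζinf.comp (Y.πR m) :=
    RingHom.ext (fun r => (Y.natInf m r).symm)
  have he : Y.πA m (eval₂ (Y.ζ m) (Y.trA g₁ a) (q.map (Y.trR g₂))) = 0 := by
    rw [hom_eval₂, hcomp2, Y.πA_tr, ← eval₂_map, Polynomial.map_map, hcomp, hq, hpa]
  obtain ⟨l, f, hf⟩ := Y.injA m _ he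
  refine ⟨l, f ≫ g₁, ?_⟩
  rw [Y.trA_comp]
  refine ⟨(q.map (Y.trR g₂)).map (Y.trR f), (hqm.map _).map _, ?_⟩
  have hc : (Y.ζ l).comp (Y.trR f) = (Y.trA f).comp (Y.ζ m) := RingHom.ext (Y.nat f)
  rw [eval₂_map, hc, ← hom_eval₂, hf]

theorem exists_isIntegralElem_finset {k : K} (s : Finset (Y.A k))
    (h : ∀ a ∈ s, Y.ζinf.IsIntegralElem (Y.πA k a)) :
    ∃ (l : K) (f : l ⟶ k), ∀ a ∈ s, (Y.ζ l).IsIntegralElem (Y.trA f a) :=
  exists_common (fun a l f => (Y.ζ l).IsIntegralElem (Y.trA f a))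
    (fun a l f l' h ha => Y.isIntegralElem_stab f h a ha) s
    (fun a ha => Y.exists_isIntegralElem a (h a ha))

/-- Finite morphisms descend: the ring-level statement. -/
theorem exists_finite (hinf : Y.ζinf.IsIntegral) (k₀ : K) (s : Finset (Y.A k₀))
    (hs : Subring.closure (Set.range (Y.ζ k₀) ∪ ↑s) = ⊤)
    (hgen : ∀ {k l : K} (f : k ⟶ l), (∀ y, (Y.ζ k).IsIntegralElem (Y.trA f y)) →
      (Y.ζ k).IsIntegral)
    (hft : ∀ k, (Y.ζ k).FiniteType) :
    ∃ (k₁ : K) (_ : k₁ ⟶ k₀), ∀ (k : K) (_ : k ⟶ k₁), (Y.ζ k).Finite := by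
  obtain ⟨k₁, g, hg⟩ := Y.exists_isIntegralElem_finset s (fun a _ => hinf _)
  refine ⟨k₁, g, fun k φ => RingHom.IsIntegral.to_finite (hgen (φ ≫ g) ?_) (hft k)⟩
  intro y
  have hy : y ∈ Subring.closure (Set.range (Y.ζ k₀) ∪ ↑s) := by rw [hs]; exact Subring.mem_top y
  induction hy using Subring.closure_induction with
  | mem x hx =>
    rcases hx with ⟨r, rfl⟩ | hx
    · rw [← Y.nat]
      exact (Y.ζ k).isIntegralElem_map
    · exact Y.isIntegralElem_stab g φ x (hg x hx)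
  | zero => rw [map_zero]; exact (Y.ζ k).isIntegralElem_zero
  | one => rw [map_one]; exact (Y.ζ k).isIntegralElem_one
  | add x y _ _ hx hy => rw [map_add]; exact RingHom.IsIntegralElem.add _ hx hy
  | neg x _ hx => rw [map_neg]; exact RingHom.IsIntegralElem.neg _ hx
  | mul x y _ _ hx hy => rw [map_mul]; exact RingHom.IsIntegralElem.mul _ hx hy

end Sys

section Gen

theorem exists_finset_closure_eq_top {R A : Type*} [CommRing R] [CommRing A] (φ : R →+* A)
    (h : φ.FiniteType) : ∃ s : Finset A, Subring.closure (Set.range φ ∪ ↑s) = ⊤ := by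
  let _ := φ.toAlgebra
  obtain ⟨s, hs⟩ := (show Algebra.FiniteType R A from h).out
  refine ⟨s, ?_⟩
  have h1 := Algebra.adjoin_eq_ring_closure (R := R) (s := (s : Set A))
  rw [hs] at h1
  rw [RingHom.algebraMap_toAlgebra] at h1
  rw [← h1]
  exact Algebra.top_toSubring

theorem surjective_of_closure {R A B : Type*} [CommRing R] [CommRing A] [CommRing B]
    (ζ : R →+* B) (t : A →+* B) (hcl : Subring.closure (Set.range t ∪ Set.range ζ) = ⊤)
    (h : ∀ y, t y ∈ Set.range ζ) : Function.Surjective ζ := by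
  have hle : Subring.closure (Set.range t ∪ Set.range ζ) ≤ ζ.range := by
    rw [Subring.closure_le]
    rintro x (⟨y, rfl⟩ | hx)
    · exact h y
    · exact hx
  rw [hcl] at hle
  intro y
  exact hle (Subring.mem_top y)

theorem isIntegral_of_closure {R A B : Type*} [CommRing R] [CommRing A] [CommRing B]
    (ζ : R →+* B) (t : A →+* B) (hcl : Subring.closure (Set.range t ∪ Set.range ζ) = ⊤)
    (h : ∀ y, ζ.IsIntegralElem (t y)) : ζ.IsIntegral := by
  intro y
  have hy : y ∈ Subring.closure (Set.range t ∪ Set.range ζ) := by rw [hcl]; exact Subring.mem_top y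
  induction hy using Subring.closure_induction with
  | mem x hx =>
    rcases hx with ⟨r, rfl⟩ | ⟨r, rfl⟩
    · exact h r
    · exact ζ.isIntegralElem_map
  | zero => exact ζ.isIntegralElem_zero
  | one => exact ζ.isIntegralElem_one
  | add x y _ _ hx hy => exact RingHom.IsIntegralElem.add _ hx hy
  | neg x _ hx => exact RingHom.IsIntegralElem.neg _ hx
  | mul x y _ _ hx hy => exact RingHom.IsIntegralElem.mul _ hx hy

theorem isIntegral_comp_of_isIntegralElem {R A B : Type*} [CommRing R] [CommRing A] [CommRing B]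
    (φ : R →+* A) (t : A →+* B) (ht : t.IsIntegral)
    (h : ∀ y, (t.comp φ).IsIntegralElem (t y)) : (t.comp φ).IsIntegral := by
  let ι : t.range →+* B := t.range.subtype
  let t' : A →+* t.range := t.rangeRestrict
  have hι : ι.comp t' = t := rfl
  have hιint : ι.IsIntegral := RingHom.IsIntegral.tower_top t' ι (by rw [hι]; exact ht)
  have h' : (t'.comp φ).IsIntegral := by
    rintro ⟨_, y, rfl⟩
    obtain ⟨p, hp, hpy⟩ := h y
    refine ⟨p, hp, ?_⟩
    apply Subtype.ext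
    have : ι (Polynomial.eval₂ (t'.comp φ) (t' y) p) = 0 := by
      rw [Polynomial.hom_eval₂, ← RingHom.comp_assoc, hι]
      exact hpy
    exact this
  have := RingHom.IsIntegral.trans (t'.comp φ) ι h' hιint
  rwa [← RingHom.comp_assoc, hι] at this

open CategoryTheory.Limits in
theorem closure_eq_top_of_isPushout {R A B P : CommRingCat.{u}} {f : R ⟶ A} {g : R ⟶ B}
    {inl : A ⟶ P} {inr : B ⟶ P} (h : IsPushout f g inl inr) :
    Subring.closure (Set.range inl.hom ∪ Set.range inr.hom) = ⊤ := by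
  set C : Subring P := Subring.closure (Set.range inl.hom ∪ Set.range inr.hom) with hC
  let ι : CommRingCat.of C ⟶ P := CommRingCat.ofHom C.subtype
  let inl' : A ⟶ CommRingCat.of C := CommRingCat.ofHom
    (inl.hom.codRestrict C (fun x => Subring.subset_closure (Or.inl ⟨x, rfl⟩)))
  let inr' : B ⟶ CommRingCat.of C := CommRingCat.ofHom
    (inr.hom.codRestrict C (fun x => Subring.subset_closure (Or.inr ⟨x, rfl⟩)))
  have h1 : inl' ≫ ι = inl := by ext x; rfl
  have h2 : inr' ≫ ι = inr := by ext x; rfl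
  have hw : f ≫ inl' = g ≫ inr' := by
    ext x
    have := congrArg (fun m => m.hom x) h.w
    exact this
  have hd : h.desc inl' inr' hw ≫ ι = 𝟙 P := by
    apply h.hom_ext
    · rw [← Category.assoc, h.inl_desc, h1, Category.comp_id]
    · rw [← Category.assoc, h.inr_desc, h2, Category.comp_id]
  rw [eq_top_iff]
  intro y _
  have := congrArg (fun m => m.hom y) hd
  change ((h.desc inl' inr' hw).hom y : P) = y at this
  rw [← this]
  exact ((h.desc inl' inr' hw).hom y).2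

end Gen

end Groth.Agent.Helper15.RingSys
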