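import Mathlib
import Groth.Agent.Lib.Helper15.RingSys
import Groth.Agent.Lib.Helper15.AlgSpLim28

set_option autoImplicit false
set_option linter.unusedSectionVars false
set_option linter.unusedVariables false

universe u

open CategoryTheory CategoryTheory.Limits AlgebraicGeometry MorphismProperty Opposite

namespace Groth.Agent.Helper15.AlgSpLim

section SchemeSys

variable {K : Type u} [SmallCategory K] [IsCofiltered K] (P T : K ⥤ Scheme.{u}) (ζ : P ⟶ T)
  (cP : Cone P) (hcP : IsLimit cP) (cT : Cone T) (hcT : IsLimit cT) (ζL : cP.pt ⟶ cT.pt)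
  (hζL : ∀ k, ζL ≫ cT.π.app k = cP.π.app k ≫ ζ.app k)
  [hP : ∀ k, IsAffine (P.obj k)] [hT : ∀ k, IsAffine (T.obj k)]

/-- The system of rings of global sections of a morphism of cofiltered systems of affine
schemes. -/
noncomputable def sysOf : RingSys.Sys K where
  A k := Γ(P.obj k, ⊤)
  R k := Γ(T.obj k, ⊤)
  Ainf := Γ(cP.pt, ⊤)
  Rinf := Γ(cT.pt, ⊤)
  trA f := (P.map f).appTop.hom
  trR f := (T.map f).appTop.hom
  πA k := (cP.π.app k).appTop.hom
  πR k := (cT.π.app k).appTop.hom
  ζ k := (ζ.app k).appTop.hom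
  ζinf := ζL.appTop.hom
  trA_comp f g y := by
    rw [P.map_comp, Scheme.Hom.comp_appTop, CommRingCat.hom_comp, RingHom.comp_apply]
  πA_tr f y := by
    rw [← RingHom.comp_apply, ← CommRingCat.hom_comp, ← Scheme.Hom.comp_appTop, cP.w]
  πR_tr f y := by
    rw [← RingHom.comp_apply, ← CommRingCat.hom_comp, ← Scheme.Hom.comp_appTop, cT.w]
  nat f r := by
    rw [← RingHom.comp_apply, ← CommRingCat.hom_comp, ← Scheme.Hom.comp_appTop,
      ← RingHom.comp_apply, ← CommRingCat.hom_comp, ← Scheme.Hom.comp_appTop, ζ.naturality]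
  natInf k r := by
    rw [← RingHom.comp_apply, ← CommRingCat.hom_comp, ← Scheme.Hom.comp_appTop,
      ← RingHom.comp_apply, ← CommRingCat.hom_comp, ← Scheme.Hom.comp_appTop, hζL]
  surjR x := exists_appTop_π_eq_of_isAffine_of_isLimit T cT hcT x
  injA k y hy := exists_appTop_map_eq_zero_of_isAffine_of_isLimit P cP hcP k y hy

include hcP hcT hζL in
/-- Closed immersions descend through limits of affine schemes. -/
theorem exists_isClosedImmersion_stage (k₀ : K) (hft : LocallyOfFiniteType (ζ.app k₀))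
    (hgen : ∀ {k l : K} (f : k ⟶ l),
      (∀ y, (P.map f).appTop.hom y ∈ Set.range (ζ.app k).appTop.hom) →
        Function.Surjective (ζ.app k).appTop.hom)
    (hL : IsClosedImmersion ζL) :
    ∃ (k₁ : K) (_ : k₁ ⟶ k₀), ∀ (k : K) (_ : k ⟶ k₁), IsClosedImmersion (ζ.app k) := by
  have hPaff : IsAffine cP.pt := Scheme.isAffine_of_isLimit cP hcP
  have hTaff : IsAffine cT.pt := Scheme.isAffine_of_isLimit cT hcT
  let Y := sysOf P T ζ cP hcP cT hcT ζL hζL
  have hsurj : Function.Surjective Y.ζinf :=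
    (IsClosedImmersion.isAffine_surjective_of_isAffine ζL).2
  have hft' : RingHom.FiniteType (ζ.app k₀).appTop.hom :=
    (HasRingHomProperty.iff_of_isAffine (P := @LocallyOfFiniteType)).1 hft
  obtain ⟨s, hs⟩ := RingSys.exists_finset_closure_eq_top _ hft'
  obtain ⟨k₁, g, hk₁⟩ := Y.exists_surjective hsurj k₀ s hs (fun f h => hgen f h)
  exact ⟨k₁, g, fun k φ => IsClosedImmersion.of_surjective_of_isAffine _ (hk₁ k φ)⟩

include hcP hcT hζL in
/-- Finite morphisms descend through limits of affine schemes. -/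
theorem exists_isFinite_stage (k₀ : K) (hft : ∀ k, LocallyOfFiniteType (ζ.app k))
    (hgen : ∀ {k l : K} (f : k ⟶ l),
      (∀ y, (ζ.app k).appTop.hom.IsIntegralElem ((P.map f).appTop.hom y)) →
        (ζ.app k).appTop.hom.IsIntegral)
    (hL : IsIntegralHom ζL) :
    ∃ (k₁ : K) (_ : k₁ ⟶ k₀), ∀ (k : K) (_ : k ⟶ k₁), IsFinite (ζ.app k) := by
  have hPaff : IsAffine cP.pt := Scheme.isAffine_of_isLimit cP hcP
  have hTaff : IsAffine cT.pt := Scheme.isAffine_of_isLimit cT hcT
  let Y := sysOf P T ζ cP hcP cT hcT ζL hζL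
  have hint : Y.ζinf.IsIntegral :=
    ((HasAffineProperty.iff_of_isAffine (P := @IsIntegralHom)).1 hL).2
  have hft' : ∀ k, RingHom.FiniteType (ζ.app k).appTop.hom := fun k =>
    (HasRingHomProperty.iff_of_isAffine (P := @LocallyOfFiniteType)).1 (hft k)
  obtain ⟨s, hs⟩ := RingSys.exists_finset_closure_eq_top _ (hft' k₀)
  obtain ⟨k₁, g, hk₁⟩ := Y.exists_finite hint k₀ s hs (fun f h => hgen f h) hft'
  exact ⟨k₁, g, fun k φ =>
    (HasAffineProperty.iff_of_isAffine (P := @IsFinite)).2 ⟨inferInstance, hk₁ k φ⟩⟩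

omit [IsCofiltered K] in
/-- Pattern B: the naturality squares are pullbacks. -/
theorem closure_eq_top_of_isPullback {k l : K} (f : k ⟶ l)
    (sq : IsPullback (P.map f) (ζ.app k) (ζ.app l) (T.map f)) :
    Subring.closure (Set.range (P.map f).appTop.hom ∪ Set.range (ζ.app k).appTop.hom) = ⊤ :=
  RingSys.closure_eq_top_of_isPushout (isPushout_appTop_of_isPullback sq)

end SchemeSys

attribute [local instance] IsCofiltered.isConnected

/-- The statement that a property of morphisms of schemes descends through cofiltered limits of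
affine schemes, for base changes of a morphism of finite type of affine schemes: `Q` over the
limit gives `Q'` over a stage. -/
def DescendsAffineFT (Q Q' : MorphismProperty Scheme.{u}) : Prop :=
  ∀ {K : Type u} [SmallCategory K] [IsCofiltered K] (T : K ⥤ Scheme.{u}) {V₀ : Scheme.{u}}
    (z : T ⟶ (Functor.const K).obj V₀) (_ : ∀ k, IsAffine (T.obj k)) (cL : Cone T)
    (_ : IsLimit cL) (zL : cL.pt ⟶ V₀) (_ : ∀ k, cL.π.app k ≫ z.app k = zL)
    (_ : IsAffine V₀) {U₀ : Scheme.{u}} (_ : IsAffine U₀) (u₀ : U₀ ⟶ V₀)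
    (_ : LocallyOfFiniteType u₀), Q (pullback.snd u₀ zL) →
    ∃ k₁, ∀ (k : K) (_ : k ⟶ k₁), Q' (pullback.snd u₀ (z.app k))

section BC

variable {K : Type u} [SmallCategory K] [IsCofiltered K] (T : K ⥤ Scheme.{u}) {V₀ : Scheme.{u}}
  (z : T ⟶ (Functor.const K).obj V₀) {U₀ : Scheme.{u}} (u₀ : U₀ ⟶ V₀)

/-- The projection of the base changed diagram, as a natural transformation. -/
noncomputable def bcFstNat : bcDiag T z u₀ ⟶ T where
  app k := bcFst T z u₀ k
  naturality k l f := pbDiag_map_fst T ((Functor.const K).obj V₀) z (constCone K V₀) u₀ f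

theorem bc_isPullback (k : K) : IsPullback (bcFst T z u₀ k) (bcSnd T z u₀ k) (z.app k) u₀ :=
  isPullback_of_comp_id (pb_isPullback T ((Functor.const K).obj V₀) z (constCone K V₀) u₀ k)

theorem bcDiag_map_isPullback {k l : K} (f : k ⟶ l) :
    IsPullback ((bcDiag T z u₀).map f) (bcFst T z u₀ k) (bcFst T z u₀ l) (T.map f) := by
  refine IsPullback.of_right (h₁₂ := bcSnd T z u₀ l) (h₂₂ := z.app l) (v₁₃ := u₀) ?_
    (pbDiag_map_fst T ((Functor.const K).obj V₀) z (constCone K V₀) u₀ f)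
    (bc_isPullback T z u₀ l).flip
  have h1 : (bcDiag T z u₀).map f ≫ bcSnd T z u₀ l = bcSnd T z u₀ k :=
    pbDiag_map_snd T ((Functor.const K).obj V₀) z (constCone K V₀) u₀ f
  have h2 : T.map f ≫ z.app l = z.app k := by
    have := z.naturality f
    simp only [Functor.const_obj_obj, Functor.const_obj_map, Category.comp_id] at this
    exact this
  rw [h1, h2]
  exact (bc_isPullback T z u₀ k).flip

theorem snd_iff_bcFst (Q : MorphismProperty Scheme.{u}) [Q.RespectsIso] (k : K) :
    Q (pullback.snd u₀ (z.app k)) ↔ Q (bcFst T z u₀ k) := by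
  have sq := (bc_isPullback T z u₀ k).flip
  rw [← sq.isoPullback_hom_snd]
  exact (Q.cancel_left_of_respectsIso _ _).symm

end BC

theorem descendsAffineFT_isClosedImmersion :
    DescendsAffineFT (@IsClosedImmersion : MorphismProperty Scheme.{u}) @IsClosedImmersion := by
  intro K _ _ T V₀ z hT cL hcL zL hzL hV₀ U₀ hU₀ u₀ hu₀ hQ
  have hg : ∀ k, zL ≫ (constCone K V₀).π.app k = cL.π.app k ≫ z.app k := fun k => by
    change zL ≫ 𝟙 V₀ = _
    rw [Category.comp_id, hzL k]
  have hPaff : ∀ k, IsAffine ((bcDiag T z u₀).obj k) := isAffine_bcDiag_obj T z u₀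
  have hL : IsClosedImmersion (pullback.fst zL u₀) := by
    have : IsClosedImmersion (pullback.snd u₀ zL) := hQ
    rw [← pullbackSymmetry_hom_comp_snd]
    infer_instance
  obtain ⟨k₀⟩ : Nonempty K := IsCofiltered.nonempty
  have hft : ∀ k, LocallyOfFiniteType (bcFst T z u₀ k) := fun k => by
    have : LocallyOfFiniteType (pullback.snd u₀ (z.app k)) := inferInstance
    exact (snd_iff_bcFst T z u₀ @LocallyOfFiniteType k).1 this
  obtain ⟨k₁, -, hk₁⟩ := exists_isClosedImmersion_stage (bcDiag T z u₀) T (bcFstNat T z u₀)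
    (bcCone T z cL zL hg u₀) (isLimitBcCone T z cL hcL zL hg u₀) cL hcL (pullback.fst zL u₀)
    (fun k => (bcπ_fst T z cL zL hg u₀ k).symm) k₀ (hft k₀)
    (fun {k l} f h => RingSys.surjective_of_closure _ _
      (closure_eq_top_of_isPullback (bcDiag T z u₀) T (bcFstNat T z u₀) f
        (bcDiag_map_isPullback T z u₀ f)) h) hL
  exact ⟨k₁, fun k φ => (snd_iff_bcFst T z u₀ @IsClosedImmersion k).2 (hk₁ k φ)⟩

theorem descendsAffineFT_isFinite :
    DescendsAffineFT (@IsIntegralHom : MorphismProperty Scheme.{u}) @IsFinite := by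
  intro K _ _ T V₀ z hT cL hcL zL hzL hV₀ U₀ hU₀ u₀ hu₀ hQ
  have hg : ∀ k, zL ≫ (constCone K V₀).π.app k = cL.π.app k ≫ z.app k := fun k => by
    change zL ≫ 𝟙 V₀ = _
    rw [Category.comp_id, hzL k]
  have hPaff : ∀ k, IsAffine ((bcDiag T z u₀).obj k) := isAffine_bcDiag_obj T z u₀
  have hL : IsIntegralHom (pullback.fst zL u₀) := by
    have : IsIntegralHom (pullback.snd u₀ zL) := hQ
    rw [← pullbackSymmetry_hom_comp_snd]
    infer_instance
  obtain ⟨k₀⟩ : Nonempty K := IsCofiltered.nonempty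
  have hft : ∀ k, LocallyOfFiniteType (bcFst T z u₀ k) := fun k => by
    have : LocallyOfFiniteType (pullback.snd u₀ (z.app k)) := inferInstance
    exact (snd_iff_bcFst T z u₀ @LocallyOfFiniteType k).1 this
  obtain ⟨k₁, -, hk₁⟩ := exists_isFinite_stage (bcDiag T z u₀) T (bcFstNat T z u₀)
    (bcCone T z cL zL hg u₀) (isLimitBcCone T z cL hcL zL hg u₀) cL hcL (pullback.fst zL u₀)
    (fun k => (bcπ_fst T z cL zL hg u₀ k).symm) k₀ hft
    (fun {k l} f h => RingSys.isIntegral_of_closure _ _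
      (closure_eq_top_of_isPullback (bcDiag T z u₀) T (bcFstNat T z u₀) f
        (bcDiag_map_isPullback T z u₀ f)) h) hL
  exact ⟨k₁, fun k φ => (snd_iff_bcFst T z u₀ @IsFinite k).2 (hk₁ k φ)⟩

end Groth.Agent.Helper15.AlgSpLim
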