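import Mathlib
import Groth.Agent.Lib.Helper15.AlgSpLim29
import Groth.Agent.Lib.Helper15.AffDesc6

set_option autoImplicit false
set_option linter.unusedSectionVars false
set_option linter.unusedVariables false
set_option linter.style.haveILetI false

universe u

open CategoryTheory CategoryTheory.Limits AlgebraicGeometry MorphismProperty Opposite
open AlgSp

namespace Groth.Agent.Helper15.AlgSpLim

variable {S : Scheme.{u}}

attribute [local instance] IsCofiltered.isConnected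

/-- Closed immersions of affine schemes descend along faithfully flat maps. -/
theorem descAff_isClosedImmersion :
    AffDesc.DescAff (@IsClosedImmersion : MorphismProperty Scheme.{u}) := by
  refine AffDesc.descAff_of_codescendsAlong _ (fun f => Function.Surjective f) ?_
    RingHom.FaithfullyFlat.codescendsAlong_surjective
  intro X Y _ _ f
  exact ⟨fun h => (IsClosedImmersion.isAffine_surjective_of_isAffine f).2,
    fun h => IsClosedImmersion.of_surjective_of_isAffine f h⟩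

/-- A chart of an affine morphism `f₀ : X₀ ⟶ Y₀` of sheaves by a morphism `u₀ : U₀ ⟶ V₀` of affine
schemes: `V₀ ⟶ Y₀` is etale and surjective and `U₀ = X₀ ×_{Y₀} V₀`. -/
structure AffChart {X₀ Y₀ : Sp S} (f₀ : X₀ ⟶ Y₀) where
  V₀ : Over S
  U₀ : Over S
  hV₀ : IsAffine V₀.left
  hU₀ : IsAffine U₀.left
  g : (yon S).obj V₀ ⟶ Y₀
  hge : RepWith @Etale g
  hgs : RepWith @Surjective g
  a₀ : (yon S).obj U₀ ⟶ X₀
  u₀ : U₀ ⟶ V₀
  sq : IsPullback a₀ ((yon S).map u₀) f₀ g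

theorem nonempty_affChart {X₀ Y₀ : Sp S} (f₀ : X₀ ⟶ Y₀) (hf₀ : IsAffineMor f₀)
    (hYqc : IsQuasiCompactSp Y₀) : Nonempty (AffChart f₀) := by
  obtain ⟨V₀, g, hV₀, hge, hgs⟩ := exists_affine_chart_of_isQuasiCompactSp hYqc
  obtain ⟨U₀, u₀, a₀, sq, hU₀⟩ := hf₀ hV₀ g
  exact ⟨⟨V₀, U₀, hV₀, hU₀, g, hge, hgs, a₀, u₀, sq⟩⟩

/-- Base change of an affine chart. -/
theorem AffChart.exists_baseChange {X₀ Y₀ : Sp S} {f₀ : X₀ ⟶ Y₀} (M : AffChart f₀)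
    {X' Y' : Sp S} {pY' : Y' ⟶ Y₀} {pX' : X' ⟶ X₀} {f' : X' ⟶ Y'}
    (hX' : IsPullback pX' f' f₀ pY') {V' : Over S} (g' : (yon S).obj V' ⟶ Y') (z : V' ⟶ M.V₀)
    (sqV : IsPullback g' ((yon S).map z) pY' M.g) :
    ∃ a' : (yon S).obj (pullback M.u₀ z) ⟶ X',
      IsPullback a' ((yon S).map (pullback.snd M.u₀ z)) f' g' := by
  have sqU : IsPullback ((yon S).map (pullback.fst M.u₀ z)) ((yon S).map (pullback.snd M.u₀ z))
      ((yon S).map M.u₀) ((yon S).map z) := (IsPullback.of_hasPullback M.u₀ z).map (yon S)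
  have outer := sqU.paste_horiz M.sq
  rw [← sqV.w] at outer
  have hw : ((yon S).map (pullback.fst M.u₀ z) ≫ M.a₀) ≫ f₀ =
      ((yon S).map (pullback.snd M.u₀ z) ≫ g') ≫ pY' := by
    rw [Category.assoc _ g' pY']
    exact outer.w
  refine ⟨hX'.lift _ _ hw, IsPullback.of_right ?_ (hX'.lift_snd _ _ _) hX'⟩
  rw [hX'.lift_fst]
  exact outer

/-- If `f'` is representable with `Q` over affine schemes and its base change along a map from an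
affine scheme is represented by `s`, then `Q s`. -/
theorem of_affRep_of_isPullback {Q : MorphismProperty Scheme.{u}} [Q.RespectsIso] {X' Y' : Sp S}
    {f' : X' ⟶ Y'} (h : AffRep Q f') {P' V' : Over S} (hV' : IsAffine V'.left)
    {a' : (yon S).obj P' ⟶ X'} {s : P' ⟶ V'} {g' : (yon S).obj V' ⟶ Y'}
    (sq : IsPullback a' ((yon S).map s) f' g') : Q s.left := by
  obtain ⟨W, i, fst, sqW, hW⟩ := h hV' g'
  let e : (yon S).obj P' ≅ (yon S).obj W := sq.isoIsPullback _ _ sqW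
  have he : e.hom ≫ (yon S).map i = (yon S).map s := IsPullback.isoIsPullback_hom_snd _ _ _ _
  let e' : P' ≅ W := (yon S).preimageIso e
  have he' : e'.hom ≫ i = s := (yon S).map_injective (by
    rw [Functor.map_comp]
    simp only [e', Functor.preimageIso_hom, Functor.map_preimage]
    exact he)
  haveI : IsIso e'.hom.left := inferInstanceAs (IsIso ((Over.forget S).map e'.hom))
  rw [← he', Over.comp_left]
  exact (Q.cancel_left_of_respectsIso _ _).2 hW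

/-- Conversely, `Q'` on a chart gives representability with `Q'` over affine schemes. -/
theorem affRep_of_isPullback_chart {Q' : MorphismProperty Scheme.{u}}
    [Q'.IsStableUnderBaseChange] (hQa : Q' ≤ @IsAffineHom) (hQd : AffDesc.DescAff Q')
    {X' Y' : Sp S} (f' : X' ⟶ Y') {P' V' : Over S} {a' : (yon S).obj P' ⟶ X'} {s : P' ⟶ V'}
    {g' : (yon S).obj V' ⟶ Y'} (hge : RepWith @Etale g') (hgs : RepWith @Surjective g')
    (sq : IsPullback a' ((yon S).map s) f' g') (hs : Q' s.left) : AffRep Q' f' :=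
  AffDesc.affRep_of_chart hQa hQd f' g' (repWith_mono etale_le_flat hge)
    (repWith_mono etale_le_lfp hge) hgs a' ((yon S).map s) sq
    (affRep_of_repWith ((repWith_yon_map_iff Q' s).2 hs))

/-- Chart reduction for affine morphisms of finite type. -/
theorem exists_stage_of_affChart [QuasiSeparatedSpace ↥S] {I : Type u} [SmallCategory I]
    [IsCofiltered I] (D : I ⥤ Sp S) (hD : ∀ i, IsAlgSpace (D.obj i))
    (hDa : ∀ (i j : I) (φ : i ⟶ j), IsAffineMor (D.map φ))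
    (c : Cone D) (hc : IsLimit c) (i₀ : I) {X₀ Y₀ : Sp S} (hXa : IsAlgSpace X₀)
    (hYa : IsAlgSpace Y₀) (f₀ : X₀ ⟶ Y₀) (b₀ : Y₀ ⟶ D.obj i₀)
    (hf₀ : LocP @LocallyOfFiniteType f₀) (M : AffChart f₀)
    (Q Q' : MorphismProperty Scheme.{u}) [Q.RespectsIso] [Q'.RespectsIso]
    [Q'.IsStableUnderBaseChange]
    (hQ : DescendsAffineFT Q Q') (hQa : Q' ≤ @IsAffineHom) (hQd : AffDesc.DescAff Q')
    {X Y : Sp S} (f : X ⟶ Y) (pY : Y ⟶ Y₀) (qY : Y ⟶ c.pt)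
    (hY : IsPullback pY qY b₀ (c.π.app i₀)) (pX : X ⟶ X₀) (hX : IsPullback pX f f₀ pY)
    (hf : AffRep Q f) : StageProp D i₀ f₀ b₀ (fun {A B} g => AffRep Q' g) := by
  obtain ⟨C, hCz, hCq, hCzn⟩ := exists_limChart_nat D hDa c hc i₀ M.hV₀ (M.g ≫ b₀)
  -- the chart of the limit
  have hwL : ((yon S).map C.zL ≫ M.g) ≫ b₀ = C.r ≫ c.π.app i₀ := by
    rw [Category.assoc]; exact C.sqL.w.symm
  let gL : (yon S).obj C.cL.pt ⟶ Y := hY.lift _ _ hwL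
  have hgL1 : gL ≫ pY = (yon S).map C.zL ≫ M.g := hY.lift_fst _ _ _
  have hgL2 : gL ≫ qY = C.r := hY.lift_snd _ _ _
  have sqVL : IsPullback gL ((yon S).map C.zL) pY M.g := by
    refine IsPullback.of_right (h₁₂ := qY) (h₂₂ := b₀) (v₁₃ := c.π.app i₀) ?_ hgL1 hY.flip
    rw [hgL2]
    exact C.sqL
  obtain ⟨aL, sqaL⟩ := M.exists_baseChange hX gL C.zL sqVL
  have h1 : Q (pullback.snd M.u₀.left C.zL.left) :=
    (snd_left_iff Q M.u₀ C.zL).1 (of_affRep_of_isPullback hf C.isAffine_pt sqaL)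
  -- the scheme-level system
  let T' : Over i₀ ⥤ Scheme.{u} := C.T ⋙ Over.forget S
  let z' : T' ⟶ (Functor.const (Over i₀)).obj M.V₀.left :=
    { app := fun k => (C.z k).left
      naturality := fun k l φ => by
        have := congrArg (fun m => m.left) (hCzn φ)
        simpa [T'] using this }
  have hT' : ∀ k, IsAffine (T'.obj k) := C.isAffine
  have hlft : LocallyOfFiniteType M.u₀.left :=
    hf₀ M.a₀ M.g M.u₀ ((RepWith @Etale).of_isPullback M.sq.flip M.hge) M.hge M.sq.w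
  obtain ⟨k₁, hk₁⟩ := hQ T' z' hT' ((Over.forget S).mapCone C.cL) C.isLimit C.zL.left
    (fun k => congrArg (fun m => m.left) (hCz k)) M.hV₀ M.hU₀ M.u₀.left hlft h1
  refine ⟨k₁, fun k φ Xi Yi fi pYi qYi hYi pXi hXi => ?_⟩
  have hwk : ((yon S).map (C.z k) ≫ M.g) ≫ b₀ = C.q k ≫ D.map k.hom := by
    rw [Category.assoc]; exact (C.sq k).w.symm
  let gk : (yon S).obj (C.T.obj k) ⟶ Yi := hYi.lift _ _ hwk
  have hgk1 : gk ≫ pYi = (yon S).map (C.z k) ≫ M.g := hYi.lift_fst _ _ _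
  have hgk2 : gk ≫ qYi = C.q k := hYi.lift_snd _ _ _
  have sqVk : IsPullback gk ((yon S).map (C.z k)) pYi M.g := by
    refine IsPullback.of_right (h₁₂ := qYi) (h₂₂ := b₀) (v₁₃ := D.map k.hom) ?_ hgk1 hYi.flip
    rw [hgk2]
    exact C.sq k
  obtain ⟨ak, sqak⟩ := M.exists_baseChange hXi gk (C.z k) sqVk
  exact affRep_of_isPullback_chart hQa hQd fi
    ((RepWith @Etale).of_isPullback sqVk.flip M.hge)
    ((RepWith @Surjective).of_isPullback sqVk.flip M.hgs) sqak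
    ((snd_left_iff Q' M.u₀ (C.z k)).2 (hk₁ k φ))

/-- Pullback data over a later stage. -/
theorem exists_rebase_data {C : Type*} [Category C] {X₀ Y₀ B₀ X₁ Y₁ B₁ X Y B : C}
    {f₀ : X₀ ⟶ Y₀} {b₀ : Y₀ ⟶ B₀} {f₁ : X₁ ⟶ Y₁} {b₁ : Y₁ ⟶ B₁} {pY₁ : Y₁ ⟶ Y₀}
    {pX₁ : X₁ ⟶ X₀} {β : B₁ ⟶ B₀} (hY₁ : IsPullback pY₁ b₁ b₀ β)
    (hX₁ : IsPullback pX₁ f₁ f₀ pY₁) {f : X ⟶ Y} {pY : Y ⟶ Y₀} {qY : Y ⟶ B} {π₀ : B ⟶ B₀}
    (π₁ : B ⟶ B₁) (hπ : π₁ ≫ β = π₀) (hY : IsPullback pY qY b₀ π₀) {pX : X ⟶ X₀}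
    (hX : IsPullback pX f f₀ pY) :
    ∃ (pY' : Y ⟶ Y₁) (pX' : X ⟶ X₁), IsPullback pY' qY b₁ π₁ ∧ IsPullback pX' f f₁ pY' := by
  have hw : pY ≫ b₀ = (qY ≫ π₁) ≫ β := by rw [Category.assoc, hπ]; exact hY.w
  let pY' : Y ⟶ Y₁ := hY₁.lift pY (qY ≫ π₁) hw
  have h1 : pY' ≫ pY₁ = pY := hY₁.lift_fst _ _ _
  have h2 : pY' ≫ b₁ = qY ≫ π₁ := hY₁.lift_snd _ _ _
  have hYn : IsPullback pY' qY b₁ π₁ := by
    refine IsPullback.of_right ?_ h2 hY₁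
    rw [h1, hπ]
    exact hY
  have hw' : pX ≫ f₀ = (f ≫ pY') ≫ pY₁ := by rw [Category.assoc, h1]; exact hX.w
  let pX' : X ⟶ X₁ := hX₁.lift pX (f ≫ pY') hw'
  have h3 : pX' ≫ pX₁ = pX := hX₁.lift_fst _ _ _
  have h4 : pX' ≫ f₁ = f ≫ pY' := hX₁.lift_snd _ _ _
  refine ⟨pY', pX', hYn, IsPullback.of_right ?_ h4 hX₁⟩
  rw [h3, h1]
  exact hX

section Rebase

variable [QuasiSeparatedSpace ↥S] {I : Type u} [SmallCategory I] [IsCofiltered I]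
  (D : I ⥤ Sp S) (i₀ : I)

omit [QuasiSeparatedSpace ↥S] [IsCofiltered I] in
/-- The stage property may be checked after passing to a later stage. -/
theorem StageProp.of_rebase {X₀ Y₀ : Sp S} (f₀ : X₀ ⟶ Y₀) (b₀ : Y₀ ⟶ D.obj i₀) (k₁ : Over i₀)
    (Psp : ∀ {A B : Sp S}, (A ⟶ B) → Prop)
    {X₁ Y₁ : Sp S} {f₁ : X₁ ⟶ Y₁} {b₁ : Y₁ ⟶ D.obj k₁.left} {pY₁ : Y₁ ⟶ Y₀} {pX₁ : X₁ ⟶ X₀}
    (hY₁ : IsPullback pY₁ b₁ b₀ (D.map k₁.hom)) (hX₁ : IsPullback pX₁ f₁ f₀ pY₁)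
    (h : StageProp D k₁.left f₁ b₁ Psp) : StageProp D i₀ f₀ b₀ Psp := by
  obtain ⟨k₂, hk₂⟩ := h
  refine ⟨Over.mk (k₂.hom ≫ k₁.hom), fun k ψ Xi Yi fi pYi qYi hYi pXi hXi => ?_⟩
  have hψ : ψ.left ≫ k₂.hom ≫ k₁.hom = k.hom := Over.w ψ
  let k' : Over k₁.left := Over.mk (ψ.left ≫ k₂.hom)
  let ψ' : k' ⟶ k₂ := Over.homMk ψ.left rfl
  have hπ : D.map k'.hom ≫ D.map k₁.hom = D.map k.hom := by
    rw [← D.map_comp]
    congr 1
    change (ψ.left ≫ k₂.hom) ≫ k₁.hom = k.hom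
    rw [Category.assoc, hψ]
  obtain ⟨pY', pX', hYn, hXn⟩ := exists_rebase_data hY₁ hX₁ (D.map k'.hom) hπ hYi hXi
  exact hk₂ k' ψ' Xi Yi fi pY' qYi hYn pX' hXn

end Rebase

section Main

variable [QuasiSeparatedSpace ↥S] {I : Type u} [SmallCategory I] [IsCofiltered I]
  (D : I ⥤ Sp S) (hD : ∀ i, IsAlgSpace (D.obj i))
  (hDa : ∀ (i j : I) (φ : i ⟶ j), IsAffineMor (D.map φ))
  (c : Cone D) (hc : IsLimit c) (i₀ : I)

include hD hDa hc in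
/-- Descent through the limit for properties of affine morphisms of finite type. -/
theorem stageProp_affRep {X₀ Y₀ : Sp S} (hXa : IsAlgSpace X₀) (hYa : IsAlgSpace Y₀)
    (f₀ : X₀ ⟶ Y₀) (b₀ : Y₀ ⟶ D.obj i₀) (hXqc : IsQuasiCompactSp X₀)
    (hXqs : IsQuasiSeparatedSp X₀) (hYqc : IsQuasiCompactSp Y₀) (hYqs : IsQuasiSeparatedSp Y₀)
    (hf₀ : LocP @LocallyOfFiniteType f₀)
    (Q Q' : MorphismProperty Scheme.{u}) [Q.RespectsIso] [Q'.RespectsIso]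
    [Q'.IsStableUnderBaseChange] (hQaff : Q ≤ @IsAffineHom)
    (hQ : DescendsAffineFT Q Q') (hQa : Q' ≤ @IsAffineHom) (hQd : AffDesc.DescAff Q')
    {X Y : Sp S} (f : X ⟶ Y) (pY : Y ⟶ Y₀) (qY : Y ⟶ c.pt)
    (hY : IsPullback pY qY b₀ (c.π.app i₀)) (pX : X ⟶ X₀) (hX : IsPullback pX f f₀ pY)
    (hf : AffRep Q f) : StageProp D i₀ f₀ b₀ (fun {A B} g => AffRep Q' g) := by
  have hfaff : IsAffineMor f := (isAffineMor_iff_affRep f).2 (hf.mono hQaff)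
  obtain ⟨k₁, hk₁⟩ := stageProp_isAffineMor D hD hDa c hc i₀ hXa hYa f₀ b₀ hXqc hXqs hYqc hYqs
    f pY qY hY pX hX hfaff
  -- the data over the stage `k₁`
  have sqY₁ : IsPullback (pullback.fst b₀ (D.map k₁.hom)) (pullback.snd b₀ (D.map k₁.hom)) b₀
      (D.map k₁.hom) := IsPullback.of_hasPullback _ _
  obtain ⟨Y₁, pY₁, b₁, hY₁⟩ : ∃ (Y₁ : Sp S) (pY₁ : Y₁ ⟶ Y₀) (b₁ : Y₁ ⟶ D.obj k₁.left),
      IsPullback pY₁ b₁ b₀ (D.map k₁.hom) := ⟨_, _, _, sqY₁⟩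
  obtain ⟨X₁, pX₁, f₁, hX₁⟩ : ∃ (X₁ : Sp S) (pX₁ : X₁ ⟶ X₀) (f₁ : X₁ ⟶ Y₁),
      IsPullback pX₁ f₁ f₀ pY₁ := ⟨_, _, _, IsPullback.of_hasPullback f₀ pY₁⟩
  have hY₁a : IsAlgSpace Y₁ := isAlgSpace_of_isPullback (hD i₀).diag hYa (hD k₁.left) hY₁
  have hX₁a : IsAlgSpace X₁ := isAlgSpace_of_isPullback hYa.diag hXa hY₁a hX₁
  have hpY₁ : IsAffineMor pY₁ := isAffineMor_of_isPullback hY₁.flip (hDa _ _ k₁.hom)
  have hY₁qc : IsQuasiCompactSp Y₁ := isQuasiCompactSp_of_isAffineMor pY₁ hpY₁ hYqc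
  have hf₁aff : IsAffineMor f₁ := hk₁ k₁ (𝟙 k₁) X₁ Y₁ f₁ pY₁ b₁ hY₁ pX₁ hX₁
  have hf₁ : LocP @LocallyOfFiniteType f₁ :=
    locP_listed_of_isPullback @LocallyOfFiniteType (Or.inl rfl) hXa hYa hY₁a hX₁ hf₀
  obtain ⟨pY', pX', hYn, hXn⟩ := exists_rebase_data hY₁ hX₁ (c.π.app k₁.left) (c.w k₁.hom) hY hX
  obtain ⟨M⟩ := nonempty_affChart f₁ hf₁aff hY₁qc
  exact StageProp.of_rebase D i₀ f₀ b₀ k₁ _ hY₁ hX₁
    (exists_stage_of_affChart D hD hDa c hc k₁.left hX₁a hY₁a f₁ b₁ hf₁ M Q Q' hQ hQa hQd f pY'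
      qY hYn pX' hXn hf)

end Main

end Groth.Agent.Helper15.AlgSpLim
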