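import Mathlib

/-!
# Finite chains of closed subsets with prescribed successive differences
-/

set_option autoImplicit false

namespace Groth.Agent.Helper15.AffStr

open Topology

/-- A finite chain of closed subsets starting at `A` whose successive differences satisfy `G`. -/
inductive ChainFrom {T : Type*} [TopologicalSpace T] (G : Set T → Prop) (A : Set T) :
    Set T → Prop
  | refl : ChainFrom G A A
  | step {B C : Set T} : ChainFrom G A B → IsClosed C → B ⊆ C → G (C \ B) → ChainFrom G A C

variable {T : Type*} [TopologicalSpace T]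

theorem ChainFrom.trans {G : Set T → Prop} {A B C : Set T} (h1 : ChainFrom G A B)
    (h2 : ChainFrom G B C) : ChainFrom G A C := by
  induction h2 with
  | refl => exact h1
  | step _ hC hBC hG ih => exact .step ih hC hBC hG

theorem ChainFrom.mono {G G' : Set T → Prop} (hGG' : ∀ P, G P → G' P) {A B : Set T}
    (h : ChainFrom G A B) : ChainFrom G' A B := by
  induction h with
  | refl => exact .refl
  | step _ hC hBC hG ih => exact .step ih hC hBC (hGG' _ hG)

/-- Push a chain forward along an embedding onto a locally closed piece `F' \ F`. -/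
theorem ChainFrom.map {R : Type*} [TopologicalSpace R] (ρ : R → T) (hρ : IsEmbedding ρ)
    {F F' : Set T} (hF : IsClosed F) (hF' : IsClosed F') (hr : Set.range ρ = F' \ F)
    {GR : Set R → Prop} {G : Set T → Prop} (hG : ∀ P, GR P → G (ρ '' P)) {C : Set R}
    (h : ChainFrom GR ∅ C) : ChainFrom G F (F ∪ ρ '' C) := by
  have hdisj : ∀ P : Set R, Disjoint (ρ '' P) F := by
    intro P
    rw [Set.disjoint_left]
    rintro _ ⟨r, -, rfl⟩ hrF
    have : ρ r ∈ F' \ F := hr ▸ Set.mem_range_self r
    exact this.2 hrF
  induction h with
  | refl => simpa using (ChainFrom.refl : ChainFrom G F F)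
  | @step B C _ hC hBC hGR ih =>
    refine .step ih ?_ (Set.union_subset_union_right _ (Set.image_mono hBC)) ?_
    · obtain ⟨K, hK, rfl⟩ := hρ.isInducing.isClosed_iff.1 hC
      have : F ∪ ρ '' (ρ ⁻¹' K) = F ∪ (K ∩ F') := by
        rw [Set.image_preimage_eq_inter_range, hr]
        ext t
        simp only [Set.mem_union, Set.mem_inter_iff, Set.mem_diff]
        tauto
      rw [this]
      exact hF.union (hK.inter hF')
    · have : (F ∪ ρ '' C) \ (F ∪ ρ '' B) = ρ '' (C \ B) := by
        rw [Set.image_diff hρ.injective]
        ext t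
        simp only [Set.mem_diff, Set.mem_union, not_or]
        constructor
        · rintro ⟨h1 | h1, h2, h3⟩
          · exact absurd h1 h2
          · exact ⟨h1, h3⟩
        · rintro ⟨h1, h2⟩
          exact ⟨Or.inr h1, fun hF => (Set.disjoint_left.1 (hdisj C)) h1 hF, h2⟩
      rw [this]
      exact hG _ hGR

theorem ChainFrom.map_univ {R : Type*} [TopologicalSpace R] (ρ : R → T) (hρ : IsEmbedding ρ)
    {F F' : Set T} (hF : IsClosed F) (hF' : IsClosed F') (hFF' : F ⊆ F')
    (hr : Set.range ρ = F' \ F)
    {GR : Set R → Prop} {G : Set T → Prop} (hG : ∀ P, GR P → G (ρ '' P))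
    (h : ChainFrom GR ∅ Set.univ) : ChainFrom G F F' := by
  have := ChainFrom.map ρ hρ hF hF' hr hG h
  rwa [Set.image_univ, hr, Set.union_diff_cancel hFF'] at this

/-- A chain from `∅` gives a stratification function with closed sublevel sets. -/
theorem ChainFrom.exists_strat {G : Set T → Prop} (hG0 : G ∅) {A : Set T}
    (h : ChainFrom G ∅ A) :
    ∃ (n : ℕ) (s : T → Fin (n + 1)), (∀ i, IsClosed {x | x ∈ A ∧ s x ≤ i}) ∧
      ∀ i, G {x | x ∈ A ∧ s x = i} := by
  classical
  induction h with
  | refl =>
    refine ⟨0, fun _ => 0, fun i => ?_, fun i => ?_⟩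
    · simp
    · simpa using hG0
  | @step B C _ hC hBC hGd ih =>
    obtain ⟨n, s, hs1, hs2⟩ := ih
    let s' : T → Fin (n + 1 + 1) := fun x => if x ∈ B then Fin.castSucc (s x) else Fin.last (n + 1)
    have hs'B : ∀ x, x ∈ B → s' x = Fin.castSucc (s x) := fun x hx => if_pos hx
    have hs'nB : ∀ x, x ∉ B → s' x = Fin.last (n + 1) := fun x hx => if_neg hx
    refine ⟨n + 1, s', fun i => ?_, fun i => ?_⟩
    · induction i using Fin.lastCases with
      | last =>
        have : {x | x ∈ C ∧ s' x ≤ Fin.last (n + 1)} = C := by
          ext x; simp [Fin.le_last]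
        rw [this]; exact hC
      | cast j =>
        have : {x | x ∈ C ∧ s' x ≤ Fin.castSucc j} = {x | x ∈ B ∧ s x ≤ j} := by
          ext x
          simp only [Set.mem_setOf_eq]
          constructor
          · rintro ⟨hxC, hx⟩
            by_cases hxB : x ∈ B
            · rw [hs'B x hxB] at hx
              exact ⟨hxB, by simpa using hx⟩
            · rw [hs'nB x hxB] at hx
              exact absurd (lt_of_le_of_lt hx (Fin.castSucc_lt_last j)) (lt_irrefl _)
          · rintro ⟨hxB, hx⟩
            refine ⟨hBC hxB, ?_⟩
            rw [hs'B x hxB]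
            simpa using hx
        rw [this]; exact hs1 j
    · induction i using Fin.lastCases with
      | last =>
        have : {x | x ∈ C ∧ s' x = Fin.last (n + 1)} = C \ B := by
          ext x
          simp only [Set.mem_setOf_eq, Set.mem_diff]
          constructor
          · rintro ⟨hxC, hx⟩
            refine ⟨hxC, fun hxB => ?_⟩
            rw [hs'B x hxB] at hx
            exact (Fin.castSucc_lt_last _).ne hx
          · rintro ⟨hxC, hxB⟩
            exact ⟨hxC, hs'nB x hxB⟩
        rw [this]; exact hGd
      | cast j =>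
        have : {x | x ∈ C ∧ s' x = Fin.castSucc j} = {x | x ∈ B ∧ s x = j} := by
          ext x
          simp only [Set.mem_setOf_eq]
          constructor
          · rintro ⟨hxC, hx⟩
            by_cases hxB : x ∈ B
            · rw [hs'B x hxB] at hx
              exact ⟨hxB, Fin.castSucc_injective _ hx⟩
            · rw [hs'nB x hxB] at hx
              exact absurd hx.symm (Fin.castSucc_lt_last j).ne
          · rintro ⟨hxB, hx⟩
            refine ⟨hBC hxB, ?_⟩
            rw [hs'B x hxB, hx]
        rw [this]; exact hs2 j

end Groth.Agent.Helper15.AffStr
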