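import Groth.Agent.Lib.Helper15.AffStr1

/-!
# Affine stratifications: refining affine pieces relative to finitely many quasi-compact opens
-/

set_option autoImplicit false
universe u
open CategoryTheory CategoryTheory.Limits AlgebraicGeometry

namespace Groth.Agent.Helper15.AffStr

theorem exists_closedImmersion_range_eq {X : Scheme.{u}} (Z : Set X) (hc : IsClosed Z) :
    ∃ (T : Scheme.{u}) (i : T ⟶ X), IsClosedImmersion i ∧ Set.range i = Z := by
  let I := Scheme.IdealSheafData.vanishingIdeal ⟨Z, hc⟩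
  have hr : Set.range I.subschemeι = Z := by
    rw [Scheme.IdealSheafData.range_subschemeι, Scheme.IdealSheafData.coe_support_vanishingIdeal]
    rfl
  exact ⟨I.subscheme, I.subschemeι, inferInstance, hr⟩

/-- `P` is the image of an affine immersion from an affine scheme. -/
def Good (X : Scheme.{u}) (P : Set X) : Prop :=
  ∃ (Z : Scheme.{u}) (ι : Z ⟶ X), IsImmersion ι ∧ IsAffine Z ∧ IsAffineHom ι ∧ Set.range ι = P

/-- `P` is the image of an immersion from an affine scheme, and each open in `𝒲` pulls back to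
either `⊥` or `⊤`. -/
def GoodW (L : Scheme.{u}) (𝒲 : List L.Opens) (P : Set L) : Prop :=
  ∃ (Q : Scheme.{u}) (π : Q ⟶ L), IsImmersion π ∧ IsAffine Q ∧ Set.range π = P ∧
    ∀ W ∈ 𝒲, π ⁻¹ᵁ W = ⊥ ∨ π ⁻¹ᵁ W = ⊤

theorem good_empty (X : Scheme.{u}) : Good X ∅ := by
  refine ⟨⊥_ Scheme, initial.to X, inferInstance, inferInstance, ?_, ?_⟩
  · apply isAffineHom_of_forall_exists_isAffineOpen
    intro x
    obtain ⟨_, ⟨U, hU, rfl⟩, hxU, -⟩ :=
      X.isBasis_affineOpens.exists_subset_of_mem_open (Set.mem_univ x) isOpen_univ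
    refine ⟨U, hxU, hU, ?_⟩
    have : (initial.to X) ⁻¹ᵁ U = ⊥ := Subsingleton.elim _ _
    rw [this]
    exact isAffineOpen_bot _
  · ext x
    simp only [Set.mem_range, Set.mem_empty_iff_false, iff_false]
    rintro ⟨y, -⟩
    exact (inferInstance : IsEmpty ↥(⊥_ Scheme)).false y

/-- supremum of a list of opens -/
def lsup {L : Scheme.{u}} (Ds : List L.Opens) : L.Opens := Ds.foldr (· ⊔ ·) ⊥

@[simp] theorem lsup_nil {L : Scheme.{u}} : lsup ([] : List L.Opens) = ⊥ := rfl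
@[simp] theorem lsup_cons {L : Scheme.{u}} (D : L.Opens) (Ds : List L.Opens) :
    lsup (D :: Ds) = D ⊔ lsup Ds := rfl

theorem preimage_lsup {R L : Scheme.{u}} (ρ : R ⟶ L) (Ds : List L.Opens) :
    ρ ⁻¹ᵁ (lsup Ds) = lsup (Ds.map (ρ ⁻¹ᵁ ·)) := by
  induction Ds with
  | nil => simp
  | cons D Ds ih =>
    rw [lsup_cons, List.map_cons, lsup_cons, ← ih]
    rfl

theorem mem_lsup {L : Scheme.{u}} (Ds : List L.Opens) (x : L) :
    x ∈ lsup Ds ↔ ∃ D ∈ Ds, x ∈ D := by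
  induction Ds with
  | nil => simp
  | cons D Ds ih =>
    rw [lsup_cons]
    constructor
    · rintro (h | h)
      · exact ⟨D, List.mem_cons_self, h⟩
      · obtain ⟨D', hD', hx⟩ := ih.1 h
        exact ⟨D', List.mem_cons_of_mem _ hD', hx⟩
    · rintro ⟨D', hD', hx⟩
      rcases List.mem_cons.1 hD' with rfl | h
      · exact Or.inl hx
      · exact Or.inr (ih.2 ⟨D', h, hx⟩)

/-- transport of `GoodW` along an immersion -/
theorem GoodW.map {R L : Scheme.{u}} (ρ : R ⟶ L) [IsImmersion ρ] (𝒲R : List R.Opens)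
    (𝒲 : List L.Opens)
    (h𝒲 : ∀ W ∈ 𝒲, ρ ⁻¹ᵁ W = ⊤ ∨ ∃ W' ∈ 𝒲R, ρ ⁻¹ᵁ W = W') {P : Set R}
    (h : GoodW R 𝒲R P) : GoodW L 𝒲 (ρ '' P) := by
  obtain ⟨Q, π, hπ, hQ, hr, hW⟩ := h
  refine ⟨Q, π ≫ ρ, inferInstance, hQ, ?_, ?_⟩
  · rw [← hr]
    ext x
    simp only [Set.mem_range, Set.mem_image, Scheme.Hom.comp_apply]
    constructor
    · rintro ⟨q, rfl⟩
      exact ⟨π q, ⟨q, rfl⟩, rfl⟩
    · rintro ⟨_, ⟨q, rfl⟩, rfl⟩
      exact ⟨q, rfl⟩
  · intro W hWm
    rw [Scheme.Hom.comp_preimage]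
    rcases h𝒲 W hWm with h1 | ⟨W', hW', h1⟩
    · right
      rw [h1]
      rfl
    · rw [h1]
      exact hW W' hW'

end Groth.Agent.Helper15.AffStr
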