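import Groth.Agent.Lib.Helper15.AffStr2

/-!
# Affine stratifications: the core refinement lemma
-/

set_option autoImplicit false
universe u
open CategoryTheory CategoryTheory.Limits AlgebraicGeometry

namespace Groth.Agent.Helper15.AffStr

theorem exists_list_affineOpens {L : Scheme.{u}} (W : L.Opens) (hW : IsCompact (W : Set L)) :
    ∃ Ds : List L.Opens, (∀ D ∈ Ds, IsAffineOpen D) ∧ W = lsup Ds := by
  classical
  obtain ⟨Us, hsub, hfin, hsup⟩ := L.isBasis_affineOpens.exists_finite_of_isCompact hW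
  refine ⟨hfin.toFinset.toList, fun D hD => ?_, ?_⟩
  · rw [Finset.mem_toList, Set.Finite.mem_toFinset] at hD
    exact hsub hD
  · ext x
    rw [SetLike.mem_coe, SetLike.mem_coe, mem_lsup, hsup]
    simp only [TopologicalSpace.Opens.mem_sSup, Finset.mem_toList, Set.Finite.mem_toFinset]

theorem isCompact_preimage_of_isAffine {R L : Scheme.{u}} [IsAffine R] [IsAffine L] (ρ : R ⟶ L)
    (W : L.Opens) (hW : IsCompact (W : Set L)) : IsCompact ((ρ ⁻¹ᵁ W : R.Opens) : Set R) :=
  ρ.isCompact_preimage hW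

theorem forall_mem_map_isCompact {R L : Scheme.{u}} [IsAffine R] [IsAffine L] (ρ : R ⟶ L)
    (𝒲 : List L.Opens) (h : ∀ W ∈ 𝒲, IsCompact (W : Set L)) :
    ∀ W ∈ 𝒲.map (ρ ⁻¹ᵁ ·), IsCompact (W : Set R) := by
  intro W hW
  obtain ⟨W', hW', rfl⟩ := List.mem_map.1 hW
  exact isCompact_preimage_of_isAffine ρ W' (h W' hW')

/-- Inner induction: one more quasi-compact open, written as a finite union of affine opens. -/
theorem chain_goodW_inner (n : ℕ)
    (IH : ∀ (L : Scheme.{u}) [IsAffine L] (𝒲 : List L.Opens), 𝒲.length = n →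
      (∀ W ∈ 𝒲, IsCompact (W : Set L)) → ChainFrom (GoodW L 𝒲) ∅ Set.univ) :
    ∀ (m : ℕ) (L : Scheme.{u}) [IsAffine L] (Ds : List L.Opens), Ds.length = m →
      (∀ D ∈ Ds, IsAffineOpen D) → ∀ (𝒲' : List L.Opens), 𝒲'.length = n →
      (∀ W ∈ 𝒲', IsCompact (W : Set L)) →
      ChainFrom (GoodW L (lsup Ds :: 𝒲')) ∅ Set.univ := by
  intro m
  induction m with
  | zero =>
    intro L _ Ds hDs _ 𝒲' h𝒲' hc
    obtain rfl : Ds = [] := List.length_eq_zero_iff.1 hDs
    refine (IH L 𝒲' h𝒲' hc).mono ?_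
    rintro P ⟨Q, π, h1, h2, h3, h4⟩
    refine ⟨Q, π, h1, h2, h3, ?_⟩
    intro W hW
    rcases List.mem_cons.1 hW with rfl | hW
    · left; rfl
    · exact h4 W hW
  | succ m ih =>
    intro L _ Ds hDs hDaff 𝒲' h𝒲' hc
    obtain ⟨D, Ds', rfl⟩ : ∃ D Ds', Ds = D :: Ds' := by
      cases Ds with
      | nil => simp at hDs
      | cons D Ds' => exact ⟨D, Ds', rfl⟩
    have hDs' : Ds'.length = m := by simpa using hDs
    have hD : IsAffineOpen D := hDaff D List.mem_cons_self
    -- the closed complement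
    obtain ⟨R₁, ρ₁, hρ₁, hr₁⟩ := exists_closedImmersion_range_eq ((D : Set L)ᶜ)
      D.isOpen.isClosed_compl
    haveI := hρ₁
    haveI : IsAffine R₁ := isAffine_of_isAffineHom ρ₁
    have hDbot : ρ₁ ⁻¹ᵁ D = ⊥ := by
      ext x
      simp only [TopologicalSpace.Opens.coe_bot, Set.mem_empty_iff_false, iff_false]
      intro hx
      have : ρ₁ x ∈ (D : Set L)ᶜ := hr₁ ▸ Set.mem_range_self x
      exact this hx
    have chain1 : ChainFrom (GoodW L (lsup (D :: Ds') :: 𝒲')) ∅ ((D : Set L)ᶜ) := by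
      have hR := ih R₁ (Ds'.map (ρ₁ ⁻¹ᵁ ·)) (by simpa using hDs')
        (fun D' hD' => by
          obtain ⟨D'', hD'', rfl⟩ := List.mem_map.1 hD'
          exact (hDaff D'' (List.mem_cons_of_mem _ hD'')).preimage ρ₁)
        (𝒲'.map (ρ₁ ⁻¹ᵁ ·)) (by simpa using h𝒲') (forall_mem_map_isCompact ρ₁ 𝒲' hc)
      refine ChainFrom.map_univ ρ₁ ρ₁.isEmbedding isClosed_empty D.isOpen.isClosed_compl
        (Set.empty_subset _) (by rw [hr₁, Set.diff_empty]) ?_ hR
      intro P hP
      refine GoodW.map ρ₁ _ _ ?_ hP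
      intro W hW
      rcases List.mem_cons.1 hW with rfl | hW
      · right
        refine ⟨_, List.mem_cons_self, ?_⟩
        rw [lsup_cons, ← preimage_lsup]
        change ρ₁ ⁻¹ᵁ D ⊔ ρ₁ ⁻¹ᵁ lsup Ds' = _
        rw [hDbot, bot_sup_eq]
      · right
        exact ⟨_, List.mem_cons_of_mem _ (List.mem_map.2 ⟨W, hW, rfl⟩), rfl⟩
    -- the open piece
    haveI : IsAffine (D : Scheme.{u}) := hD
    have chain2 : ChainFrom (GoodW L (lsup (D :: Ds') :: 𝒲')) ((D : Set L)ᶜ) Set.univ := by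
      have hR := IH D (𝒲'.map (D.ι ⁻¹ᵁ ·)) (by simpa using h𝒲')
        (forall_mem_map_isCompact D.ι 𝒲' hc)
      refine ChainFrom.map_univ D.ι D.ι.isEmbedding D.isOpen.isClosed_compl isClosed_univ
        (Set.subset_univ _) ?_ ?_ hR
      · rw [Scheme.Opens.range_ι]
        ext x
        simp
      · intro P hP
        refine GoodW.map D.ι _ _ ?_ hP
        intro W hW
        rcases List.mem_cons.1 hW with rfl | hW
        · left
          rw [lsup_cons]
          apply top_le_iff.1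
          intro x _
          exact Or.inl x.2
        · right
          exact ⟨_, List.mem_map.2 ⟨W, hW, rfl⟩, rfl⟩
    exact chain1.trans chain2

/-- An affine scheme with finitely many quasi-compact opens has a finite chain of closed subsets
whose successive differences are affine and on which each of the given opens restricts to `⊥` or
`⊤`. -/
theorem chain_goodW : ∀ (n : ℕ) (L : Scheme.{u}) [IsAffine L] (𝒲 : List L.Opens),
    𝒲.length = n → (∀ W ∈ 𝒲, IsCompact (W : Set L)) →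
    ChainFrom (GoodW L 𝒲) ∅ Set.univ := by
  intro n
  induction n with
  | zero =>
    intro L _ 𝒲 h𝒲 _
    obtain rfl : 𝒲 = [] := List.length_eq_zero_iff.1 h𝒲
    refine .step .refl isClosed_univ (Set.empty_subset _) ?_
    refine ⟨L, 𝟙 L, inferInstance, inferInstance, ?_, ?_⟩
    · simp
    · intro W hW
      simp at hW
  | succ n ih =>
    intro L _ 𝒲 h𝒲 hc
    obtain ⟨W, 𝒲', rfl⟩ : ∃ W 𝒲', 𝒲 = W :: 𝒲' := by
      cases 𝒲 with
      | nil => simp at h𝒲
      | cons W 𝒲' => exact ⟨W, 𝒲', rfl⟩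
    have h𝒲' : 𝒲'.length = n := by simpa using h𝒲
    obtain ⟨Ds, hDs, rfl⟩ := exists_list_affineOpens W (hc W List.mem_cons_self)
    exact chain_goodW_inner n ih Ds.length L Ds rfl hDs 𝒲' h𝒲'
      (fun W hW => hc W (List.mem_cons_of_mem _ hW))

end Groth.Agent.Helper15.AffStr
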