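import Groth.Agent.Lib.Helper15.AlgSpLocPListed2
import Groth.Agent.Lib.Helper15.AlgSpOpen

set_option autoImplicit false
universe u
open CategoryTheory CategoryTheory.Limits AlgebraicGeometry MorphismProperty Opposite
open AlgSp Groth.Agent.Helper16.AS

namespace Groth.Agent.Helper15
variable {S : Scheme.{u}}

theorem hasAtMor_nbhd_iff_exists_open_subspace (P : MorphismProperty Scheme.{u})
    (hP : P = @LocallyOfFiniteType ∨ P = @LocallyOfFinitePresentation ∨ P = @Flat ∨ P = @Smooth ∨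
      P = @Etale ∨
      (∀ ⦃A B : Scheme.{u}⦄ (g : A ⟶ B), P g ↔ (LocallyQuasiFinite g ∧ LocallyOfFiniteType g)) ∨
      (∀ ⦃A B : Scheme.{u}⦄ (g : A ⟶ B), P g ↔ (LocallyOfFiniteType g ∧ FormallyUnramified g)))
    {X Y : Sp S} (hX : IsAlgSpace X) (hY : IsAlgSpace Y) (f : X ⟶ Y) (x : Points X) :
    HasAtMor (fun U _ h u => ∃ W : U.Opens, u ∈ W ∧ P (W.ι ≫ h)) f x ↔
      ∃ (X' : Sp S) (j : X' ⟶ X), IsAlgSpace X' ∧ RepWith @IsOpenImmersion j ∧
        x ∈ Set.range (Points.map j) ∧ LocP P (j ≫ f) := by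
  constructor
  · rintro ⟨U, V, a, b, h, u, hae, hbe, comm, hux, W, huW, hPW⟩
    let U' : Over S := Over.mk (W.ι ≫ U.hom)
    let j₀ : U' ⟶ U := Over.homMk W.ι rfl
    have hj₀ : Etale j₀.left := (inferInstance : Etale W.ι)
    have ha' : RepWith @Etale ((yon S).map j₀ ≫ a) :=
      (RepWith @Etale).comp_mem _ _ ((repWith_yon_map_iff _ j₀).2 hj₀) hae
    obtain ⟨h1, h2, h3, h4, h5⟩ := openSubspace_of_etale hX _ ha'
    refine ⟨_, Sheaf.imageι ((yon S).map j₀ ≫ a), h1, h2, ?_, ?_⟩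
    · rw [h5]
      refine ⟨(⟨u, huW⟩ : W), ?_⟩
      rw [ofPt_comp_yon_map]
      exact hux
    · refine locP_listed_of_one_chart P hP h1 hY _ (Sheaf.toImage ((yon S).map j₀ ≫ a)) b
        (j₀ ≫ h) h3 h4 hbe ?_ hPW
      rw [← Category.assoc, Sheaf.toImage_ι, Category.assoc, comm, Functor.map_comp,
        Category.assoc]
  · rintro ⟨X', j, hX', hj, ⟨x', rfl⟩, hloc⟩
    obtain ⟨U, V, a, b, h, u, hae, hbe, comm, hux, hQ⟩ :=
      (locP_listed_iff_forall_hasAtMor_nbhd P hP hX' hY (j ≫ f)).1 hloc x'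
    refine ⟨U, V, a ≫ j, b, h, u, ?_, hbe, by rw [Category.assoc, comm], ?_, hQ⟩
    · exact (RepWith @Etale).comp_mem _ _ hae (repWith_mono isOpenImmersion_le_etale hj)
    · rw [← Points.map_ofPt, hux]

end Groth.Agent.Helper15
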