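import Groth.Prelude.Def_AlgSp4
import Groth.Agent.Lib.Helper15.CatLemmas

set_option autoImplicit false
universe u

open CategoryTheory CategoryTheory.Limits AlgebraicGeometry Opposite

namespace Groth.Agent.Helper15

open AlgSp

variable {S : Scheme.{u}}

/-- Sections of a sheaf over `T` are maps from `h_T`. -/
noncomputable abbrev yonEquiv {T : Over S} {F : Sp S} : ((yon S).obj T ⟶ F) ≃ F.obj.obj (op T) :=
  (J S).uliftYonedaEquiv

/-- Two maps of sheaves agree if they agree on all maps from representables. -/
theorem hom_ext_yon {F G : Sp S} {f g : F ⟶ G}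
    (h : ∀ (T : Over S) (a : (yon S).obj T ⟶ F), a ≫ f = a ≫ g) : f = g := by
  apply Sheaf.hom_ext
  ext ⟨T⟩ x
  obtain ⟨a, rfl⟩ := (yonEquiv (T := T) (F := F)).surjective x
  have := congrArg yonEquiv (h T a)
  simpa [GrothendieckTopology.uliftYonedaEquiv_comp] using this

/-- A map of sheaves is a monomorphism if it is injective on maps from representables. -/
theorem mono_of_yon {F G : Sp S} (f : F ⟶ G)
    (h : ∀ (T : Over S) (a b : (yon S).obj T ⟶ F), a ≫ f = b ≫ f → a = b) : Mono f := by
  refine ⟨fun {Z} u v huv => ?_⟩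
  apply hom_ext_yon
  intro T a
  apply h
  rw [Category.assoc, Category.assoc, huv]

/-- A jointly surjective family of flat, locally finitely presented morphisms over `S` generates a
covering sieve for the fppf topology on `Over S`. -/
theorem ofArrows_mem_J {T : Over S} {ι : Type*} (V : ι → Over S) (g : ∀ i, V i ⟶ T)
    (hflat : ∀ i, Flat (g i).left) (hlfp : ∀ i, LocallyOfFinitePresentation (g i).left)
    (hsurj : ∀ x : T.left, ∃ i y, (g i).left y = x) :
    Sieve.ofArrows V g ∈ (J S) T := by
  rw [GrothendieckTopology.mem_over_iff, Sieve.overEquiv_ofArrows]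
  let 𝒰 : T.left.Cover (Scheme.precoverage (@Flat ⊓ @LocallyOfFinitePresentation)) :=
    Scheme.Cover.mkOfCovers ι (fun i => (V i).left) (fun i => (g i).left) hsurj
      (fun i => ⟨hflat i, hlfp i⟩)
  exact Precoverage.generate_mem_toGrothendieck 𝒰.mem₀

/-- A flat, locally finitely presented, surjective morphism over `S` generates a covering sieve. -/
theorem singleton_mem_J {T V : Over S} (g : V ⟶ T) (hflat : Flat g.left)
    (hlfp : LocallyOfFinitePresentation g.left) (hsurj : Surjective g.left) :
    Sieve.ofArrows (fun _ : PUnit.{1} => V) (fun _ => g) ∈ (J S) T :=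
  ofArrows_mem_J _ _ (fun _ => hflat) (fun _ => hlfp)
    (fun x => ⟨PUnit.unit, hsurj.surj x⟩)

/-- A map of sheaves which is representable, flat, locally of finite presentation and surjective is
locally surjective. -/
theorem isLocallySurjective_of_repWith {F G : Sp S} (a : F ⟶ G)
    (h₁ : RepWith @Flat a) (h₂ : RepWith @LocallyOfFinitePresentation a)
    (h₃ : RepWith @Surjective a) : Sheaf.IsLocallySurjective a := by
  constructor
  intro T s
  obtain ⟨g, rfl⟩ := (yonEquiv (T := T) (F := G)).surjective s
  have hrep := h₁.rep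
  have hcov := singleton_mem_J (hrep.snd g) (h₁.property_snd g)
    (h₂.property g _ _ (hrep.isPullback g)) (h₃.property g _ _ (hrep.isPullback g))
  refine (J S).superset_covering ?_ hcov
  rw [Sieve.ofArrows, Sieve.generate_le_iff]
  rintro _ _ ⟨i⟩
  refine ⟨yonEquiv (hrep.fst g), ?_⟩
  have h1 := GrothendieckTopology.uliftYonedaEquiv_comp (J S) (hrep.fst g) a
  have h2 := GrothendieckTopology.uliftYonedaEquiv_naturality (J S) g (hrep.snd g)
  rw [← hrep.w g] at h2
  exact h1.symm.trans h2.symm

instance fppfPrecoverage_hasIsos : Precoverage.HasIsos Scheme.fppfPrecoverage.{u} := by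
  unfold Scheme.fppfPrecoverage
  have : (@Flat ⊓ @LocallyOfFinitePresentation :
      MorphismProperty Scheme.{u}).ContainsIdentities :=
    ⟨fun X => ⟨inferInstance, inferInstance⟩⟩
  infer_instance

/-- A covering sieve for the fppf topology on `Over S` contains an fppf covering family of the
underlying scheme. -/
theorem exists_fppf_presieve_of_mem_J {T : Over S} (R : Sieve T) (hR : R ∈ (J S) T) :
    ∃ R₀ ∈ Scheme.fppfPrecoverage T.left, ∀ ⦃T' : Scheme.{u}⦄ (i : T' ⟶ T.left), R₀ i →
      R (Over.homMk i : Over.mk (i ≫ T.hom) ⟶ T) := by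
  rw [GrothendieckTopology.mem_over_iff] at hR
  obtain ⟨R₀, hR₀, hle⟩ := Precoverage.mem_toGrothendieck_iff_of_isStableUnderComposition.1 hR
  exact ⟨R₀, hR₀, fun T' i hi => (Sieve.overEquiv_iff _ _).1 (hle _ i hi)⟩

/-- Descent of `RepWith P` along a locally surjective map of sheaves, for `P` fppf local on the
target (Stacks 03KL-like). -/
theorem repWith_of_isLocallySurjective_base {F G H : Sp S} (a : F ⟶ G)
    (ha : Representable a) (b : H ⟶ G) [Sheaf.IsLocallySurjective b] {Q : Sp S} (b' : Q ⟶ F)
    (a' : Q ⟶ H) (sq : IsPullback b' a' a b) (P : MorphismProperty Scheme.{u})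
    [P.IsStableUnderBaseChange] [P.IsLocalAtTarget Scheme.fppfPrecoverage]
    (h : RepWith P a') : RepWith P a := by
  refine ⟨ha, fun T V g fst snd hsq => ?_⟩
  have hs := Presheaf.imageSieve_mem (J S) b.hom (yonEquiv g)
  obtain ⟨R₀, hR₀, hle⟩ := exists_fppf_presieve_of_mem_J _ hs
  change P snd.left
  refine MorphismProperty.IsLocalAtTarget.of_forall_pullbackSnd (P := P) hR₀ ?_
  intro T' i _ hi
  let T'' : Over S := Over.mk (i ≫ T.hom)
  let ι : T'' ⟶ T := Over.homMk i
  obtain ⟨t, ht⟩ : ∃ t : H.obj.obj (op T''), b.hom.app _ t = G.obj.map ι.op (yonEquiv g) :=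
    hle i hi
  let τ : (yon S).obj T'' ⟶ H := yonEquiv.symm t
  have hτb : τ ≫ b = (yon S).map ι ≫ g := by
    apply yonEquiv.injective
    rw [GrothendieckTopology.uliftYonedaEquiv_comp, Equiv.apply_symm_apply]
    rw [← GrothendieckTopology.uliftYonedaEquiv_naturality]
    exact ht
  have sqW : IsPullback (pullback.fst snd ι) (pullback.snd snd ι) snd ι :=
    IsPullback.of_hasPullback _ _
  have sqW' := sqW.map (yon S)
  have big := sqW'.paste_horiz hsq
  have hw : ((yon S).map (pullback.fst snd ι) ≫ fst) ≫ a =
      ((yon S).map (pullback.snd snd ι) ≫ τ) ≫ b := by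
    simp only [Category.assoc]
    rw [hτb]
    simpa only [Category.assoc] using big.w
  have hl1 : sq.lift _ _ hw ≫ b' = (yon S).map (pullback.fst snd ι) ≫ fst := sq.lift_fst _ _ hw
  have hl2 : sq.lift _ _ hw ≫ a' = (yon S).map (pullback.snd snd ι) ≫ τ := sq.lift_snd _ _ hw
  have big' : IsPullback (sq.lift _ _ hw ≫ b') ((yon S).map (pullback.snd snd ι)) a (τ ≫ b) := by
    rw [hl1, hτb]; exact big
  have left := IsPullback.of_right big' hl2 sq
  have hP : P (pullback.snd snd ι).left := h.property τ _ _ left
  have sqL := sqW.map (Over.forget S)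
  have e := sqL.isoPullback_hom_snd
  have : P.RespectsIso := MorphismProperty.IsStableUnderBaseChange.respectsIso
  have hP' : P (sqL.isoPullback.hom ≫
      pullback.snd ((Over.forget S).map snd) ((Over.forget S).map ι)) := by
    rw [e]; exact hP
  exact (P.cancel_left_of_respectsIso _ _).1 hP'

/-- Monotonicity of `RepWith`. -/
theorem repWith_mono {P P' : MorphismProperty Scheme.{u}} (h : P ≤ P') {F G : Sp S} {f : F ⟶ G}
    (hf : RepWith P f) : RepWith P' f :=
  MorphismProperty.relative_monotone (fun _ _ g hg => h _ hg) _ hf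

theorem etale_le_flat : (@Etale : MorphismProperty Scheme.{u}) ≤ @Flat :=
  fun _ _ f hf => by haveI : Etale f := hf; infer_instance

theorem etale_le_lfp : (@Etale : MorphismProperty Scheme.{u}) ≤ @LocallyOfFinitePresentation :=
  fun _ _ f hf => by haveI : Etale f := hf; infer_instance

/-- A representable etale surjective map is locally surjective (an epimorphism of sheaves). -/
theorem isLocallySurjective_of_etale_surjective {F G : Sp S} (a : F ⟶ G)
    (h₁ : RepWith @Etale a) (h₃ : RepWith @Surjective a) : Sheaf.IsLocallySurjective a :=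
  isLocallySurjective_of_repWith a (repWith_mono etale_le_flat h₁) (repWith_mono etale_le_lfp h₁) h₃

/-- `RepWith P` can be checked on one etale surjective chart of the target. -/
theorem repWith_iff_of_chart {X Y : Sp S} (f : Y ⟶ X)
    (hf : Representable f) {U V : Over S} (q : (yon S).obj U ⟶ X)
    (hqe : RepWith @Etale q) (hqs : RepWith @Surjective q)
    (fst : (yon S).obj V ⟶ Y) (g : V ⟶ U) (sq : IsPullback fst ((yon S).map g) f q)
    (P : MorphismProperty Scheme.{u}) [P.IsStableUnderBaseChange]
    [P.IsLocalAtTarget Scheme.fppfPrecoverage] :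
    RepWith P f ↔ P g.left := by
  constructor
  · intro h
    exact h.property q fst g sq
  · intro h
    haveI := isLocallySurjective_of_etale_surjective q hqe hqs
    exact repWith_of_isLocallySurjective_base f hf q fst ((yon S).map g) sq P
      ((repWith_yon_map_iff P g).2 h)

/-- A map of sheaves representable by monomorphisms of schemes is a monomorphism. -/
theorem mono_of_repWith {P : MorphismProperty Scheme.{u}}
    (hP : P ≤ MorphismProperty.monomorphisms Scheme.{u}) {F G : Sp S} (f : F ⟶ G)
    (hf : RepWith P f) : Mono f := by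
  apply mono_of_yon
  intro T a b hab
  have hrep := hf.rep
  have hmono : Mono (hrep.snd (a ≫ f)) := by
    have : Mono (hrep.snd (a ≫ f)).left := hP _ (hf.property_snd (a ≫ f))
    exact Over.mono_of_mono_left _
  have ea : a ≫ f = (yon S).map (𝟙 T) ≫ (a ≫ f) := by simp
  have eb : b ≫ f = (yon S).map (𝟙 T) ≫ (a ≫ f) := by simp [hab]
  have ha := hrep.lift_fst a (𝟙 T) ea
  have hb := hrep.lift_fst b (𝟙 T) eb
  have ha' := hrep.lift_snd a (𝟙 T) ea
  have hb' := hrep.lift_snd b (𝟙 T) eb
  have : hrep.lift a (𝟙 T) ea = hrep.lift b (𝟙 T) eb := by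
    rw [← cancel_mono (hrep.snd (a ≫ f)), ha', hb']
  rw [← ha, ← hb, this]

theorem isImmersion_le_mono :
    (@IsImmersion : MorphismProperty Scheme.{u}) ≤ MorphismProperty.monomorphisms Scheme.{u} :=
  fun _ _ f hf => by
    haveI : IsImmersion f := hf
    exact (inferInstance : Mono f)

/-- If `g ≫ i = f` with `i` a monomorphism and `f` representable with `P`, then so is `g`. -/
theorem repWith_of_comp_mono {P : MorphismProperty Scheme.{u}} {F₁ F₂ F : Sp S} (g : F₁ ⟶ F₂)
    (i : F₂ ⟶ F) [Mono i] (h : RepWith P (g ≫ i)) : RepWith P g := by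
  refine ⟨fun T t => ?_, fun T V t fst snd sq => ?_⟩
  · obtain ⟨b, snd, fst, sq⟩ := h.rep (t ≫ i)
    exact ⟨b, snd, fst, isPullback_of_comp_mono i sq⟩
  · exact h.property (t ≫ i) fst snd (isPullback_comp_mono i sq)

end Groth.Agent.Helper15
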