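import Groth.Agent.Lib.Helper15.AlgSpCD
import Groth.Agent.Lib.Helper15.SchReduced

/-!
# Descent of invariant closed subschemes of a chart; reduced induced closed subspaces
-/

set_option autoImplicit false
set_option linter.style.haveILetI false
universe u
open CategoryTheory CategoryTheory.Limits AlgebraicGeometry MorphismProperty Opposite
open AlgSp

namespace Groth.Agent.Helper15

variable {S : Scheme.{u}}


/-- Sections of the target of an epimorphism of sheaves lift locally. -/
theorem exists_local_lift_of_epi {H' G : Sp S} (b : H' ⟶ G) [Epi b] {T : Over S}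
    (g : (yon S).obj T ⟶ G) :
    ∃ R ∈ (J S) T, ∀ ⦃T' : Over S⦄ (k : T' ⟶ T), R k →
      ∃ τ : (yon S).obj T' ⟶ H', τ ≫ b = (yon S).map k ≫ g := by
  haveI : Sheaf.IsLocallySurjective b := (Sheaf.isLocallySurjective_iff_epi b).2 inferInstance
  refine ⟨_, Presheaf.imageSieve_mem (J S) b.hom (yonEquiv g), fun T' k hk => ?_⟩
  obtain ⟨t, ht⟩ := hk
  refine ⟨yonEquiv.symm t, ?_⟩
  apply yonEquiv.injective
  rw [GrothendieckTopology.uliftYonedaEquiv_comp, Equiv.apply_symm_apply]
  rw [← GrothendieckTopology.uliftYonedaEquiv_naturality]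
  exact ht

/-- The image sheaf of an invariant subscheme of a chart pulls back to that subscheme. -/
theorem isPullback_image_of_invariant {X : Sp S} {U Z' : Over S} (p : (yon S).obj U ⟶ X)
    (i' : Z' ⟶ U) [Mono i']
    (hinv : ∀ (T : Over S) (a b : T ⟶ U), (yon S).map a ≫ p = (yon S).map b ≫ p →
      (∃ a' : T ⟶ Z', a' ≫ i' = a) → ∃ b' : T ⟶ Z', b' ≫ i' = b) :
    IsPullback (Sheaf.toImage ((yon S).map i' ≫ p)) ((yon S).map i')
      (Sheaf.imageι ((yon S).map i' ≫ p)) p := by
  set φ := (yon S).map i' ≫ p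
  refine isPullback_of_mono_of_yon_lift _ p i' _ (Sheaf.toImage_ι φ) ?_
  intro T' c z hz
  obtain ⟨R, hR, hlift⟩ := exists_local_lift_of_epi (Sheaf.toImage φ) z
  haveI : Mono ((yon S).map i') := inferInstance
  obtain ⟨x, hx⟩ := factors_of_locally_factors ((yon S).map i') ((yon S).map c) R hR (by
    intro T₁ k hk
    obtain ⟨τ, hτ⟩ := hlift k hk
    obtain ⟨b₀, rfl⟩ := (yon S).map_surjective τ
    obtain ⟨b', hb'⟩ := hinv T₁ (b₀ ≫ i') (k ≫ c) (by
      rw [Functor.map_comp, Functor.map_comp, Category.assoc, Category.assoc, ← hz,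
        ← Category.assoc ((yon S).map k), ← hτ, Category.assoc, Sheaf.toImage_ι]) ⟨b₀, rfl⟩
    exact ⟨(yon S).map b', by rw [← Functor.map_comp, hb', Functor.map_comp]⟩)
  obtain ⟨c', rfl⟩ := (yon S).map_surjective x
  exact ⟨c', (yon S).map_injective (by rw [Functor.map_comp]; exact hx)⟩

/-- An invariant closed subscheme of an fppf chart descends to a closed subspace. -/
theorem repWith_isClosedImmersion_imageι_of_invariant {X : Sp S} {U Z' : Over S}
    (p : (yon S).obj U ⟶ X) (hp₁ : RepWith @Flat p)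
    (hp₂ : RepWith @LocallyOfFinitePresentation p) (hp₃ : RepWith @Surjective p)
    (i' : Z' ⟶ U) (hi' : IsClosedImmersion i'.left)
    (hinv : ∀ (T : Over S) (a b : T ⟶ U), (yon S).map a ≫ p = (yon S).map b ≫ p →
      (∃ a' : T ⟶ Z', a' ≫ i' = a) → ∃ b' : T ⟶ Z', b' ≫ i' = b) :
    RepWith @IsClosedImmersion (Sheaf.imageι ((yon S).map i' ≫ p)) := by
  haveI : Mono i' := by
    haveI : Mono i'.left := by haveI := hi'; infer_instance
    exact Over.mono_of_mono_left i'
  exact repWith_isClosedImmersion_of_chart _ p hp₁ hp₂ hp₃ _ _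
    (isPullback_image_of_invariant p i' hinv) ((repWith_yon_map_iff _ i').2 hi')

/-- Existence of the reduced induced closed subspace structure on a closed subset of the points of an
algebraic space. -/
theorem exists_isRedInduced {X : Sp S} (hX : IsAlgSpace X) (T : Set (Points X))
    (hT : IsClosed T) : ∃ (Z : Sp S) (i : Z ⟶ X), IsAlgSpace Z ∧ IsRedInduced T i := by
  obtain ⟨U, p, hpe, hps⟩ := hX.atlas
  let T' : TopologicalSpace.Closeds U.left :=
    ⟨Points.ofPt p ⁻¹' T, hT.preimage (Points.continuous_ofPt p)⟩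
  let I := Scheme.IdealSheafData.vanishingIdeal T'
  let Z' : Over S := Over.mk (I.subschemeι ≫ U.hom)
  let i' : Z' ⟶ U := Over.homMk I.subschemeι rfl
  have hi' : IsClosedImmersion i'.left := (inferInstance : IsClosedImmersion I.subschemeι)
  haveI hZ'red : IsReduced Z'.left := isReduced_vanishingIdeal_subscheme T'
  have hrange : Set.range i'.left = Points.ofPt p ⁻¹' T := by
    change Set.range I.subschemeι = _
    rw [Scheme.IdealSheafData.range_subschemeι, Scheme.IdealSheafData.coe_support_vanishingIdeal]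
    rfl
  haveI : Mono i' := by
    haveI : Mono i'.left := by haveI := hi'; infer_instance
    exact Over.mono_of_mono_left i'
  have hi'rep : RepWith @IsClosedImmersion ((yon S).map i') := (repWith_yon_map_iff _ i').2 hi'
  -- invariance
  have hinv : ∀ (T₁ : Over S) (a b : T₁ ⟶ U), (yon S).map a ≫ p = (yon S).map b ≫ p →
      (∃ a' : T₁ ⟶ Z', a' ≫ i' = a) → ∃ b' : T₁ ⟶ Z', b' ≫ i' = b := by
    rintro T₁ _ b hab ⟨a', rfl⟩
    have hrep := hpe.rep
    have sqR := hrep.isPullback' p
    set t := hrep.fst' p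
    set s := hrep.snd p
    have hs : Etale s.left := hpe.property_snd p
    have sqQ : IsPullback (pullback.fst i' s) (pullback.snd i' s) i' s := IsPullback.of_hasPullback _ _
    set q₁ := pullback.fst i' s
    set q₂ := pullback.snd i' s
    have hq₁ : Etale q₁.left :=
      MorphismProperty.of_isPullback (P := @Etale) (sqQ.map (Over.forget S)).flip hs
    haveI : IsReduced (pullback i' s).left := by
      haveI := hq₁
      exact isReduced_of_etale q₁.left
    obtain ⟨g', hg'⟩ := exists_factor_of_isReduced ((yon S).map i') hi'rep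
      ((yon S).map (q₂ ≫ t)) (by
        intro v
        have h1 : Points.ofPt p ((q₂ ≫ t).left v) ∈ T := by
          have e1 : Points.ofPt p ((q₂ ≫ t).left v) = Points.ofPt p ((q₂ ≫ s).left v) := by
            rw [← ofPt_comp_yon_map, ← ofPt_comp_yon_map, Functor.map_comp, Functor.map_comp,
              Category.assoc, Category.assoc, sqR.w]
          rw [e1, ← sqQ.w]
          have : (q₁ ≫ i').left v ∈ Set.range i'.left := ⟨q₁.left v, rfl⟩
          rw [hrange] at this
          exact this
        have h2 : (q₂ ≫ t).left v ∈ Set.range i'.left := by rw [hrange]; exact h1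
        obtain ⟨z, hz⟩ := h2
        refine ⟨Points.ofScheme _ z, ?_⟩
        rw [← Points.ofPt_eq_map_ofScheme, ofPt_yon_map, ofPt_yon_map, hz])
    obtain ⟨g₀, rfl⟩ := (yon S).map_surjective g'
    have hg₀ : g₀ ≫ i' = q₂ ≫ t := (yon S).map_injective (by rw [Functor.map_comp]; exact hg')
    obtain ⟨r, hr⟩ := (yon S).map_surjective (sqR.lift ((yon S).map b) ((yon S).map (a' ≫ i')) hab.symm)
    have hr1 : r ≫ t = b := (yon S).map_injective (by
      rw [Functor.map_comp, hr]; exact sqR.lift_fst _ _ _)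
    have hr2 : r ≫ s = a' ≫ i' := (yon S).map_injective (by
      rw [Functor.map_comp, hr]; exact sqR.lift_snd _ _ _)
    refine ⟨sqQ.lift a' r hr2.symm ≫ g₀, ?_⟩
    rw [Category.assoc, hg₀, ← Category.assoc, sqQ.lift_snd, hr1]
  set φ := (yon S).map i' ≫ p
  have sqD := isPullback_image_of_invariant p i' hinv
  have hcl : RepWith @IsClosedImmersion (Sheaf.imageι φ) :=
    repWith_isClosedImmersion_imageι_of_invariant p (repWith_mono etale_le_flat hpe)
      (repWith_mono etale_le_lfp hpe) hps i' hi' hinv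
  have hZ : IsAlgSpace (Sheaf.image φ) := isAlgSpace_of_representable _ hcl.rep hX
  have hqe : RepWith @Etale (Sheaf.toImage φ) := (RepWith @Etale).of_isPullback sqD.flip hpe
  have hqs : RepWith @Surjective (Sheaf.toImage φ) :=
    (RepWith @Surjective).of_isPullback sqD.flip hps
  refine ⟨Sheaf.image φ, Sheaf.imageι φ, hZ, hcl, ?_, ⟨Z', Sheaf.toImage φ, hqe, hqs, hZ'red⟩⟩
  ext x
  constructor
  · rintro ⟨z, rfl⟩
    obtain ⟨z', rfl⟩ := surjective_ofPt _ hqs z
    rw [Points.map_ofPt, Sheaf.toImage_ι, ofPt_comp_yon_map]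
    have : i'.left z' ∈ Set.range i'.left := ⟨z', rfl⟩
    rw [hrange] at this
    exact this
  · intro hx
    obtain ⟨u, rfl⟩ := surjective_ofPt p hps x
    have : u ∈ Set.range i'.left := by rw [hrange]; exact hx
    obtain ⟨z', rfl⟩ := this
    refine ⟨Points.ofPt (Sheaf.toImage φ) z', ?_⟩
    rw [Points.map_ofPt, Sheaf.toImage_ι, ofPt_comp_yon_map]

end Groth.Agent.Helper15
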