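import Groth.Agent.Lib.Helper15.AlgSpCD2
import Mathlib.AlgebraicGeometry.Morphisms.Immersion

/-!
# Effective descent of immersions and open immersions along fppf charts
-/

set_option autoImplicit false
set_option linter.style.haveILetI false
universe u
open CategoryTheory CategoryTheory.Limits AlgebraicGeometry MorphismProperty Opposite
open AlgSp

namespace Groth.Agent.Helper15

variable {S : Scheme.{u}}

/-- The subscheme representing the pullback of a subsheaf to a cover is invariant. -/
theorem exists_lift_pullback_of_isPullback {G : Sp S} {T T' W : Over S}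
    (m : G ⟶ (yon S).obj T) (c : T' ⟶ T) (i : W ⟶ T') (fst : (yon S).obj W ⟶ G)
    (sq : IsPullback fst ((yon S).map i) m ((yon S).map c)) :
    ∃ l : pullback (i ≫ c) c ⟶ W, l ≫ i = pullback.snd (i ≫ c) c := by
  have sqP : IsPullback (pullback.fst (i ≫ c) c) (pullback.snd (i ≫ c) c) (i ≫ c) c :=
    IsPullback.of_hasPullback _ _
  have hw : ((yon S).map (pullback.fst (i ≫ c) c) ≫ fst) ≫ m =
      (yon S).map (pullback.snd (i ≫ c) c) ≫ (yon S).map c := by
    rw [Category.assoc, sq.w, ← Functor.map_comp, ← Functor.map_comp, ← Functor.map_comp, sqP.w]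
  obtain ⟨l, hl⟩ := (yon S).map_surjective (sq.lift _ _ hw)
  refine ⟨l, (yon S).map_injective ?_⟩
  rw [Functor.map_comp, hl]
  exact sq.lift_snd _ _ hw

/-- The subscheme representing the pullback of a subsheaf to a cover is saturated. -/
theorem range_eq_preimage_image_of_isPullback {G : Sp S} {T T' W : Over S}
    (m : G ⟶ (yon S).obj T) (c : T' ⟶ T) (i : W ⟶ T') (fst : (yon S).obj W ⟶ G)
    (sq : IsPullback fst ((yon S).map i) m ((yon S).map c)) :
    Set.range i.left = c.left ⁻¹' (c.left '' Set.range i.left) := by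
  ext t'
  constructor
  · rintro ⟨w, rfl⟩
    exact ⟨i.left w, ⟨w, rfl⟩, rfl⟩
  · rintro ⟨_, ⟨w, rfl⟩, h⟩
    obtain ⟨l, hl⟩ := exists_lift_pullback_of_isPullback m c i fst sq
    have sqL := (IsPullback.of_hasPullback (i ≫ c) c).map (Over.forget S)
    obtain ⟨z, hz1, hz2⟩ := Scheme.exists_preimage_of_isPullback sqL w t' h
    refine ⟨l.left z, ?_⟩
    have := congrArg (fun k => k.left) hl
    change l.left ≫ i.left = _ at this
    rw [← Scheme.Hom.comp_apply, this]
    exact hz2


/-- A composite of a closed and an open representable immersion is an immersion. -/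
theorem repWith_isImmersion_comp {F G H : Sp S} (a : F ⟶ G) (b : G ⟶ H)
    (ha : RepWith @IsClosedImmersion a) (hb : RepWith @IsOpenImmersion b) :
    RepWith @IsImmersion (a ≫ b) := by
  have ha' : RepWith @IsImmersion a :=
    repWith_mono (fun _ _ g hg => by haveI : IsClosedImmersion g := hg; exact inferInstance) ha
  have hb' : RepWith @IsImmersion b :=
    repWith_mono (fun _ _ g hg => by haveI : IsOpenImmersion g := hg; exact inferInstance) hb
  exact (RepWith @IsImmersion).comp_mem _ _ ha' hb'

/-- **Effective descent of immersions** along a single fppf cover of a scheme. -/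
theorem repWith_isImmersion_of_cover {G : Sp S} {T T' W : Over S} (m : G ⟶ (yon S).obj T)
    [Mono m] (c : T' ⟶ T) (hflat : Flat c.left) (hlfp : LocallyOfFinitePresentation c.left)
    (hsurj : Surjective c.left) (i : W ⟶ T') (hi : IsImmersion i.left)
    (fst : (yon S).obj W ⟶ G) (sq : IsPullback fst ((yon S).map i) m ((yon S).map c)) :
    RepWith @IsImmersion m := by
  haveI := hflat
  haveI := hlfp
  haveI := hsurj
  haveI := hi
  have hsat := range_eq_preimage_image_of_isPullback m c i fst sq
  set A : Set T.left := c.left '' Set.range i.left with hA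
  have hcopen : IsOpenMap c.left := c.left.isOpenMap
  have hpre : c.left ⁻¹' (coborder A) = coborder (Set.range i.left) := by
    rw [← coborder_preimage hcopen c.left.continuous, ← hsat]
  have hUopen : IsOpen (coborder A) := by
    have h1 : coborder A = c.left '' (c.left ⁻¹' coborder A) :=
      (Set.image_preimage_eq _ c.left.surjective).symm
    rw [h1, hpre]
    exact hcopen _ i.left.isLocallyClosed_range.isOpen_coborder
  let U : T.left.Opens := ⟨coborder A, hUopen⟩
  let U' : T'.left.Opens := i.left.coborderRange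
  have hU'U : U' ≤ c.left ⁻¹ᵁ U := fun x hx => by
    change x ∈ c.left ⁻¹' (coborder A)
    rw [hpre]
    exact hx
  let US : Over S := Over.mk (U.ι ≫ T.hom)
  let ιU : US ⟶ T := Over.homMk U.ι rfl
  let US' : Over S := Over.mk (U'.ι ≫ T'.hom)
  let ιU' : US' ⟶ T' := Over.homMk U'.ι rfl
  let c' : US' ⟶ US := Over.homMk (c.left.resLE U U' hU'U) (by
    change c.left.resLE U U' hU'U ≫ U.ι ≫ T.hom = U'.ι ≫ T'.hom
    rw [← Category.assoc, Scheme.Hom.resLE_comp_ι, Category.assoc, Over.w c])
  have hc'ι : c' ≫ ιU = ιU' ≫ c := by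
    ext1
    exact Scheme.Hom.resLE_comp_ι _ _
  let i' : W ⟶ US' := Over.homMk i.left.liftCoborder (by
    change i.left.liftCoborder ≫ U'.ι ≫ T'.hom = W.hom
    rw [← Category.assoc, i.left.liftCoborder_ι, Over.w i])
  have hi'ι : i' ≫ ιU' = i := by
    ext1
    exact i.left.liftCoborder_ι
  have hi'cl : IsClosedImmersion i'.left := (inferInstance : IsClosedImmersion i.left.liftCoborder)
  have hιU : IsOpenImmersion ιU.left := (inferInstance : IsOpenImmersion U.ι)
  have hιU' : IsOpenImmersion ιU'.left := (inferInstance : IsOpenImmersion U'.ι)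
  have hιUrep : RepWith @IsOpenImmersion ((yon S).map ιU) := (repWith_yon_map_iff _ ιU).2 hιU
  haveI : Mono ((yon S).map ιU) := mono_of_repWith isOpenImmersion_le_mono _ hιUrep
  haveI : Mono ((yon S).map ιU') :=
    mono_of_repWith isOpenImmersion_le_mono _ ((repWith_yon_map_iff _ ιU').2 hιU')
  -- `fst` is an epimorphism
  have hc_flat : RepWith @Flat ((yon S).map c) := (repWith_yon_map_iff _ c).2 hflat
  have hc_lfp : RepWith @LocallyOfFinitePresentation ((yon S).map c) :=
    (repWith_yon_map_iff _ c).2 hlfp
  have hc_surj : RepWith @Surjective ((yon S).map c) := (repWith_yon_map_iff _ c).2 hsurj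
  haveI := isLocallySurjective_of_repWith fst ((RepWith @Flat).of_isPullback sq.flip hc_flat)
    ((RepWith @LocallyOfFinitePresentation).of_isPullback sq.flip hc_lfp)
    ((RepWith @Surjective).of_isPullback sq.flip hc_surj)
  haveI : Epi fst := Sheaf.epi_of_isLocallySurjective _
  -- `m` factors through the open `U`
  obtain ⟨m', hm'⟩ := exists_lift_of_epi_of_mono fst ((yon S).map ιU) m ((yon S).map (i' ≫ c')) (by
    rw [← Functor.map_comp, Category.assoc, hc'ι, ← Category.assoc, hi'ι, Functor.map_comp, sq.w])
  haveI : Mono m' := by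
    haveI : Mono (m' ≫ (yon S).map ιU) := by rw [hm']; infer_instance
    exact mono_of_mono m' ((yon S).map ιU)
  have hfst : fst ≫ m' = (yon S).map i' ≫ (yon S).map c' := by
    rw [← cancel_mono ((yon S).map ιU), Category.assoc, hm', sq.w, Category.assoc,
      ← Functor.map_comp, ← Functor.map_comp, hc'ι, ← Functor.map_comp, ← Category.assoc, hi'ι]
  haveI : Mono i' := by
    haveI : Mono i'.left := by haveI := hi'cl; infer_instance
    exact Over.mono_of_mono_left i'
  have sq' : IsPullback fst ((yon S).map i') m' ((yon S).map c') := by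
    refine isPullback_of_mono_of_yon_lift m' _ i' fst hfst ?_
    intro T₁ d z hz
    have hw : z ≫ m = (yon S).map (d ≫ ιU') ≫ (yon S).map c := by
      rw [← hm', ← Category.assoc, hz, Category.assoc, ← Functor.map_comp, ← Functor.map_comp,
        ← Functor.map_comp, hc'ι, Category.assoc]
    obtain ⟨d', hd'⟩ := (yon S).map_surjective (sq.lift z _ hw)
    have hd'i : d' ≫ i = d ≫ ιU' := (yon S).map_injective (by
      rw [Functor.map_comp, hd']; exact sq.lift_snd _ _ _)
    refine ⟨d', ?_⟩
    haveI : Mono ιU' := by
      haveI : Mono ιU'.left := by haveI := hιU'; infer_instance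
      exact Over.mono_of_mono_left ιU'
    rw [← cancel_mono ιU', Category.assoc, hi'ι, hd'i]
  -- `c'` is an fppf cover
  have hc'flat : Flat c'.left := (inferInstance : Flat (c.left.resLE U U' hU'U))
  have hc'lfp : LocallyOfFinitePresentation c'.left :=
    (inferInstance : LocallyOfFinitePresentation (c.left.resLE U U' hU'U))
  have hc'surj : Surjective c'.left := by
    refine ⟨fun u => ?_⟩
    obtain ⟨t', ht'⟩ := c.left.surjective (U.ι u)
    have ht'U : t' ∈ U' := by
      change t' ∈ coborder (Set.range i.left)
      rw [← hpre]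
      change c.left t' ∈ coborder A
      rw [ht']
      exact u.2
    refine ⟨⟨t', ht'U⟩, ?_⟩
    apply U.ι.injective
    change (c.left.resLE U U' hU'U ≫ U.ι) ⟨t', ht'U⟩ = _
    rw [Scheme.Hom.resLE_comp_ι]
    exact ht'
  have hm'cl : RepWith @IsClosedImmersion m' :=
    repWith_isClosedImmersion_of_chart m' ((yon S).map c') ((repWith_yon_map_iff _ c').2 hc'flat)
      ((repWith_yon_map_iff _ c').2 hc'lfp) ((repWith_yon_map_iff _ c').2 hc'surj) fst
      ((yon S).map i') sq' ((repWith_yon_map_iff _ i').2 hi'cl)
  rw [← hm']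
  exact repWith_isImmersion_comp m' _ hm'cl hιUrep


/-- `RepWith P f` can be checked on the pullbacks of `f` to schemes. -/
theorem repWith_of_forall_pullback_snd {P : MorphismProperty Scheme.{u}} [P.RespectsIso]
    {F H : Sp S} (f : F ⟶ H)
    (h : ∀ (T : Over S) (g : (yon S).obj T ⟶ H), RepWith P (pullback.snd f g)) :
    RepWith P f := by
  haveI : (P.inverseImage (Over.forget S)).RespectsIso := RespectsIso.inverseImage P _
  apply MorphismProperty.relative.of_exists
  intro T g
  have hrep := (h T g).rep
  have sq1 := hrep.isPullback (𝟙 _)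
  have pb : IsPullback (pullback.fst f g) (pullback.snd f g) f g := IsPullback.of_hasPullback f g
  have big := sq1.paste_horiz pb
  rw [Category.id_comp] at big
  exact ⟨hrep.pullback (𝟙 _), hrep.fst (𝟙 _) ≫ pullback.fst f g, hrep.snd (𝟙 _), big,
    (h T g).property_snd (𝟙 _)⟩

/-- **Effective descent of immersions** along an fppf chart. -/
theorem repWith_isImmersion_of_chart {F H : Sp S} (f : F ⟶ H) [Mono f] {V : Over S}
    (p : (yon S).obj V ⟶ H) (hp₁ : RepWith @Flat p)
    (hp₂ : RepWith @LocallyOfFinitePresentation p) (hp₃ : RepWith @Surjective p) {F' : Sp S}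
    (fst : F' ⟶ F) (snd : F' ⟶ (yon S).obj V) (sq : IsPullback fst snd f p)
    (h : RepWith @IsImmersion snd) : RepWith @IsImmersion f := by
  apply repWith_of_forall_pullback_snd
  intro T g
  have pb : IsPullback (pullback.fst f g) (pullback.snd f g) f g := IsPullback.of_hasPullback f g
  haveI : Mono (pullback.snd f g) := inferInstance
  have hrep := hp₁.rep
  have sqT : IsPullback (hrep.fst g) ((yon S).map (hrep.snd g)) p g := hrep.isPullback g
  set c := hrep.snd g
  set v := hrep.fst g
  have hrepS := h.rep
  have sqW : IsPullback (hrepS.fst v) ((yon S).map (hrepS.snd v)) snd v := hrepS.isPullback v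
  have hi : IsImmersion (hrepS.snd v).left := h.property_snd v
  set i := hrepS.snd v
  have big : IsPullback (hrepS.fst v ≫ fst) ((yon S).map i) f (v ≫ p) := sqW.paste_horiz sq
  have hw : (hrepS.fst v ≫ fst) ≫ f = ((yon S).map i ≫ (yon S).map c) ≫ g := by
    rw [Category.assoc _ _ g, ← sqT.w]
    exact big.w
  have sqW' : IsPullback (pb.lift _ _ hw) ((yon S).map i) (pullback.snd f g) ((yon S).map c) := by
    refine IsPullback.of_right ?_ (pb.lift_snd _ _ _) pb
    rw [pb.lift_fst, ← sqT.w]
    exact big
  exact repWith_isImmersion_of_cover (pullback.snd f g) c (hp₁.property_snd g)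
    (hp₂.property_snd g) (hp₃.property_snd g) i hi _ sqW'


/-- **Effective descent of open immersions** along an fppf chart. -/
theorem repWith_isOpenImmersion_of_chart {F H : Sp S} (f : F ⟶ H) [Mono f] {V : Over S}
    (p : (yon S).obj V ⟶ H) (hp₁ : RepWith @Flat p)
    (hp₂ : RepWith @LocallyOfFinitePresentation p) (hp₃ : RepWith @Surjective p) {F' : Sp S}
    (fst : F' ⟶ F) (snd : F' ⟶ (yon S).obj V) (sq : IsPullback fst snd f p)
    (h : RepWith @IsOpenImmersion snd) : RepWith @IsOpenImmersion f := by
  have h1 : RepWith @IsImmersion f := repWith_isImmersion_of_chart f p hp₁ hp₂ hp₃ fst snd sq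
    (repWith_mono (fun _ _ g hg => by haveI : IsOpenImmersion g := hg; exact inferInstance) h)
  haveI := isLocallySurjective_of_repWith p hp₁ hp₂ hp₃
  exact repWith_of_isLocallySurjective_base f h1.rep p fst snd sq _ h

end Groth.Agent.Helper15
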