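import Groth.Agent.Lib.Helper15.AlgSpCD3

/-!
# Scheme theoretic images of representable quasi-compact morphisms, computed on a chart
-/

set_option autoImplicit false
set_option linter.style.haveILetI false
universe u
open CategoryTheory CategoryTheory.Limits AlgebraicGeometry MorphismProperty Opposite
open AlgSp

namespace Groth.Agent.Helper15

variable {S : Scheme.{u}}

theorem isPullback_id_of_comp_mono {C : Type*} [Category C] {A B D : C} (j : A ⟶ B) (c : B ⟶ D)
    [Mono c] : IsPullback (𝟙 A) j (j ≫ c) c :=
  IsPullback.of_isLimit' ⟨by simp⟩ (PullbackCone.IsLimit.mk _ (fun s => s.fst)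
    (fun s => by simp) (fun s => by rw [← cancel_mono c]; simpa using s.condition)
    (fun s m h1 _ => by simpa using h1))

/-- The kernel of the chart pullback of a representable quasi-compact morphism is invariant under
the equivalence relation of a flat chart. -/
theorem ker_le_ker_of_chart {Y X : Sp S} (f : Y ⟶ X) {U YU : Over S} (p : (yon S).obj U ⟶ X)
    (hp : RepWith @Flat p) (fU : YU ⟶ U) (hfU : QuasiCompact fU.left)
    (fstU : (yon S).obj YU ⟶ Y) (sqU : IsPullback fstU ((yon S).map fU) f p)
    {T₁ : Over S} (a b : T₁ ⟶ U) (hab : (yon S).map a ≫ p = (yon S).map b ≫ p)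
    (ha : fU.left.ker ≤ a.left.ker) : fU.left.ker ≤ b.left.ker := by
  haveI := hfU
  have hrep := hp.rep
  have sqR := hrep.isPullback' p
  set t := hrep.fst' p
  set s := hrep.snd p
  haveI hs : Flat s.left := hp.property_snd p
  haveI ht : Flat t.left := hp.property p _ _ sqR.flip
  -- the two pullbacks of `fU` to `R`
  have sqQs : IsPullback (pullback.fst fU s) (pullback.snd fU s) fU s := IsPullback.of_hasPullback _ _
  have sqQt : IsPullback (pullback.fst fU t) (pullback.snd fU t) fU t := IsPullback.of_hasPullback _ _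
  have bigs := (sqQs.map (yon S)).paste_horiz sqU
  have bigt := (sqQt.map (yon S)).paste_horiz sqU
  rw [sqR.w] at bigt
  let ε := bigs.isoIsPullback _ _ bigt
  have hε : ε.hom ≫ (yon S).map (pullback.snd fU t) = (yon S).map (pullback.snd fU s) :=
    IsPullback.isoIsPullback_hom_snd _ _ bigs bigt
  let e := (yon S).preimageIso ε
  have he : e.hom ≫ pullback.snd fU t = pullback.snd fU s := (yon S).map_injective (by
    rw [Functor.map_comp]
    simpa [e] using hε)
  have he' : e.hom.left ≫ (pullback.snd fU t).left = (pullback.snd fU s).left :=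
    congrArg (fun k => k.left) he
  haveI : IsIso e.hom.left := (inferInstance : IsIso ((Over.forget S).map e.hom))
  have hks : (pullback.snd fU s).left.ker = fU.left.ker.comap s.left :=
    ker_of_isPullback_of_flat (sqQs.map (Over.forget S))
  have hkt : (pullback.snd fU t).left.ker = fU.left.ker.comap t.left :=
    ker_of_isPullback_of_flat (sqQt.map (Over.forget S))
  have hcomap : fU.left.ker.comap s.left = fU.left.ker.comap t.left := by
    rw [← hks, ← hkt, ← he', Scheme.Hom.ker_comp_of_isIso]
  -- the point of `R`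
  obtain ⟨r, hr⟩ := (yon S).map_surjective (sqR.lift ((yon S).map a) ((yon S).map b) hab)
  have hr1 : r ≫ t = a := (yon S).map_injective (by
    rw [Functor.map_comp, hr]; exact sqR.lift_fst _ _ _)
  have hr2 : r ≫ s = b := (yon S).map_injective (by
    rw [Functor.map_comp, hr]; exact sqR.lift_snd _ _ _)
  have hr1' : r.left ≫ t.left = a.left := congrArg (fun k => k.left) hr1
  have hr2' : r.left ≫ s.left = b.left := congrArg (fun k => k.left) hr2
  rw [← hr1', Scheme.Hom.ker_comp, Scheme.IdealSheafData.le_map_iff_comap_le, ← hcomap] at ha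
  rw [← hr2', Scheme.Hom.ker_comp, Scheme.IdealSheafData.le_map_iff_comap_le]
  exact ha


theorem ker_imageι {X Y : Scheme.{u}} (f : X ⟶ Y) : f.imageι.ker = f.ker :=
  Scheme.IdealSheafData.ker_subschemeι _

/-- The scheme theoretic image of a morphism of schemes over `S`, as a scheme over `S`. -/
noncomputable def imageOver {YU U : Over S} (fU : YU ⟶ U) : Over S :=
  Over.mk (fU.left.imageι ≫ U.hom)

/-- The inclusion of the scheme theoretic image. -/
noncomputable def imageOverι {YU U : Over S} (fU : YU ⟶ U) : imageOver fU ⟶ U :=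
  Over.homMk fU.left.imageι rfl

/-- The map to the scheme theoretic image. -/
noncomputable def toImageOver {YU U : Over S} (fU : YU ⟶ U) : YU ⟶ imageOver fU :=
  Over.homMk fU.left.toImage (by
    change fU.left.toImage ≫ fU.left.imageι ≫ U.hom = YU.hom
    rw [← Category.assoc, fU.left.toImage_imageι, Over.w fU])

@[reassoc]
theorem toImageOver_ι {YU U : Over S} (fU : YU ⟶ U) : toImageOver fU ≫ imageOverι fU = fU := by
  ext1
  exact fU.left.toImage_imageι

theorem imageOverι_left {YU U : Over S} (fU : YU ⟶ U) :
    (imageOverι fU).left = fU.left.imageι := rfl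

theorem toImageOver_left {YU U : Over S} (fU : YU ⟶ U) :
    (toImageOver fU).left = fU.left.toImage := rfl

instance {YU U : Over S} (fU : YU ⟶ U) : Mono (imageOverι fU) := by
  haveI : Mono (imageOverι fU).left := (inferInstance : Mono fU.left.imageι)
  exact Over.mono_of_mono_left _

/-- The scheme theoretic image of the chart pullback of a representable quasi-compact morphism is
invariant under the equivalence relation of the chart. -/
theorem imageOverι_invariant {Y X : Sp S} (f : Y ⟶ X) {U YU : Over S}
    (p : (yon S).obj U ⟶ X) (hp₁ : RepWith @Flat p)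
    (fU : YU ⟶ U) (hfU : QuasiCompact fU.left)
    (fstU : (yon S).obj YU ⟶ Y) (sqU : IsPullback fstU ((yon S).map fU) f p)
    (T₁ : Over S) (a b : T₁ ⟶ U) (hab : (yon S).map a ≫ p = (yon S).map b ≫ p)
    (ha : ∃ a' : T₁ ⟶ imageOver fU, a' ≫ imageOverι fU = a) :
    ∃ b' : T₁ ⟶ imageOver fU, b' ≫ imageOverι fU = b := by
  obtain ⟨a', rfl⟩ := ha
  have h1 : fU.left.ker ≤ (a' ≫ imageOverι fU).left.ker := by
    exact (ker_imageι fU.left).ge.trans (Scheme.Hom.le_ker_comp a'.left fU.left.imageι)
  have h2 : fU.left.imageι.ker ≤ b.left.ker := by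
    exact (ker_imageι fU.left).le.trans
      (ker_le_ker_of_chart f p hp₁ fU hfU fstU sqU (a' ≫ imageOverι fU) b hab h1)
  let l := IsClosedImmersion.lift fU.left.imageι b.left h2
  have hl : l ≫ fU.left.imageι = b.left := IsClosedImmersion.lift_fac _ _ _
  have hl' : l ≫ (imageOver fU).hom = T₁.hom := by
    change l ≫ fU.left.imageι ≫ U.hom = T₁.hom
    rw [← Category.assoc, hl, Over.w b]
  exact ⟨Over.homMk l hl', Over.OverMorphism.ext hl⟩

/-- Chart-wise construction of the scheme theoretic image of a representable quasi-compact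
morphism to a sheaf with a flat, locally finitely presented, surjective chart `p : h_U ⟶ X`:
the scheme theoretic image of the pullback `fU : YU ⟶ U` descends to a closed subspace of `X`,
through which `f` factors. -/
theorem exists_closed_of_chart_image {Y X : Sp S} (f : Y ⟶ X) {U YU : Over S}
    (p : (yon S).obj U ⟶ X) (hp₁ : RepWith @Flat p)
    (hp₂ : RepWith @LocallyOfFinitePresentation p) (hp₃ : RepWith @Surjective p)
    (fU : YU ⟶ U) (hfU : QuasiCompact fU.left)
    (fstU : (yon S).obj YU ⟶ Y) (sqU : IsPullback fstU ((yon S).map fU) f p) :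
    ∃ (Zbar : Sp S) (c : Zbar ⟶ X) (q : (yon S).obj (imageOver fU) ⟶ Zbar) (j : Y ⟶ Zbar),
      IsSchImage f c ∧ IsPullback q ((yon S).map (imageOverι fU)) c p ∧ j ≫ c = f ∧
      IsPullback fstU ((yon S).map (toImageOver fU)) j q := by
  have hcU : IsClosedImmersion (imageOverι fU).left :=
    (inferInstance : IsClosedImmersion fU.left.imageι)
  have hinv := imageOverι_invariant f p hp₁ fU hfU fstU sqU
  have sqD := isPullback_image_of_invariant p (imageOverι fU) hinv
  have hcl : RepWith @IsClosedImmersion (Sheaf.imageι ((yon S).map (imageOverι fU) ≫ p)) :=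
    repWith_isClosedImmersion_imageι_of_invariant p hp₁ hp₂ hp₃ (imageOverι fU) hcU hinv
  -- `fstU` is an epimorphism
  haveI := isLocallySurjective_of_repWith fstU ((RepWith @Flat).of_isPullback sqU.flip hp₁)
    ((RepWith @LocallyOfFinitePresentation).of_isPullback sqU.flip hp₂)
    ((RepWith @Surjective).of_isPullback sqU.flip hp₃)
  haveI : Epi fstU := Sheaf.epi_of_isLocallySurjective _
  have hcomm : ((yon S).map (toImageOver fU) ≫ Sheaf.toImage ((yon S).map (imageOverι fU) ≫ p)) ≫
      Sheaf.imageι ((yon S).map (imageOverι fU) ≫ p) = fstU ≫ f := by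
    rw [Category.assoc, Sheaf.toImage_ι, ← Category.assoc, ← Functor.map_comp, toImageOver_ι,
      sqU.w]
  obtain ⟨j, hj⟩ := exists_lift_of_epi_of_mono fstU
    (Sheaf.imageι ((yon S).map (imageOverι fU) ≫ p)) f _ hcomm
  refine ⟨_, _, Sheaf.toImage ((yon S).map (imageOverι fU) ≫ p), j, ⟨hcl, ⟨j, hj⟩, ?_⟩, sqD, hj, ?_⟩
  · intro Z' i' _ hi' hfac
    obtain ⟨f'', hf''⟩ := hfac
    haveI : Mono i' := mono_of_repWith isClosedImmersion_le_mono _ hi'
    have hrep' := hi'.rep
    have sq' := hrep'.isPullback p
    haveI hι' : IsClosedImmersion (hrep'.snd p).left := hi'.property_snd p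
    obtain ⟨l, hl⟩ := (yon S).map_surjective (sq'.lift (fstU ≫ f'') ((yon S).map fU) (by
      rw [Category.assoc, hf'', sqU.w]))
    have hl2 : l ≫ hrep'.snd p = fU := (yon S).map_injective (by
      rw [Functor.map_comp, hl]; exact sq'.lift_snd _ _ _)
    have hl2' : l.left ≫ (hrep'.snd p).left = fU.left := congrArg (fun k => k.left) hl2
    have hle : (hrep'.snd p).left.ker ≤ fU.left.imageι.ker := by
      rw [ker_imageι, ← hl2']
      exact Scheme.Hom.le_ker_comp _ _
    let lam := IsClosedImmersion.lift (hrep'.snd p).left fU.left.imageι hle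
    have hlam : lam ≫ (hrep'.snd p).left = fU.left.imageι := IsClosedImmersion.lift_fac _ _ _
    have hlam' : lam ≫ (hrep'.pullback p).hom = (imageOver fU).hom := by
      change lam ≫ (hrep'.pullback p).hom = fU.left.imageι ≫ U.hom
      rw [← hlam, Category.assoc, Over.w (hrep'.snd p)]
    let lamO : imageOver fU ⟶ hrep'.pullback p := Over.homMk lam hlam'
    have hlamO : lamO ≫ hrep'.snd p = imageOverι fU := Over.OverMorphism.ext hlam
    exact exists_lift_of_epi_of_mono (Sheaf.toImage ((yon S).map (imageOverι fU) ≫ p)) i' _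
      ((yon S).map lamO ≫ hrep'.fst p) (by
        rw [Category.assoc, sq'.w, ← Category.assoc, ← Functor.map_comp, hlamO, Sheaf.toImage_ι])
  have e : fstU ≫ j =
      (yon S).map (toImageOver fU) ≫ Sheaf.toImage ((yon S).map (imageOverι fU) ≫ p) := by
    rw [← cancel_mono (Sheaf.imageι ((yon S).map (imageOverι fU) ≫ p)), Category.assoc, hj, hcomm]
  refine IsPullback.of_bot ?_ e sqD
  rw [hj, ← Functor.map_comp, toImageOver_ι]
  exact sqU


/-- A quasi-compact immersion of algebraic spaces is an open immersion into its scheme theoretic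
image. -/
theorem exists_open_closed_factorization {Z X : Sp S} (hX : IsAlgSpace X) (i : Z ⟶ X)
    (hi : RepWith @IsImmersion i) (hq : IsQuasiCompactMor i) :
    ∃ (Zbar : Sp S) (j : Z ⟶ Zbar) (c : Zbar ⟶ X), IsAlgSpace Zbar ∧ j ≫ c = i ∧
      RepWith @IsOpenImmersion j ∧ RepWith @IsClosedImmersion c ∧ IsSchImage i c := by
  obtain ⟨U, p, hpe, hps⟩ := hX.atlas
  have hp₁ := repWith_mono etale_le_flat hpe
  have hp₂ := repWith_mono etale_le_lfp hpe
  have hrep := hi.rep
  have sqU := hrep.isPullback p
  have hqc : QuasiCompact (hrep.snd p).left :=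
    (repWith_quasiCompact_of_isQuasiCompactMor i hi.rep hq).property_snd p
  haveI himm : IsImmersion (hrep.snd p).left := hi.property_snd p
  haveI := hqc
  obtain ⟨Zbar, c, q, j, hsch, sqD, hj, sqJ⟩ :=
    exists_closed_of_chart_image i p hp₁ hp₂ hps (hrep.snd p) hqc (hrep.fst p) sqU
  have hcl := hsch.1
  haveI : Mono c := mono_of_repWith isClosedImmersion_le_mono _ hcl
  have hZbar : IsAlgSpace Zbar := isAlgSpace_of_representable c hcl.rep hX
  have hjpb : IsPullback (𝟙 Z) j i c := by
    have := isPullback_id_of_comp_mono j c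
    rwa [hj] at this
  have hjimm : RepWith @IsImmersion j := (RepWith @IsImmersion).of_isPullback hjpb hi
  haveI := isLocallySurjective_of_repWith q ((RepWith @Flat).of_isPullback sqD.flip hp₁)
    ((RepWith @LocallyOfFinitePresentation).of_isPullback sqD.flip hp₂)
    ((RepWith @Surjective).of_isPullback sqD.flip hps)
  have hopen : IsOpenImmersion (toImageOver (hrep.snd p)).left :=
    (inferInstance : IsOpenImmersion (hrep.snd p).left.toImage)
  exact ⟨Zbar, j, c, hZbar, hj, repWith_of_isLocallySurjective_base j hjimm.rep q _ _ sqJ _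
    ((repWith_yon_map_iff _ _).2 hopen), hcl, hsch⟩

end Groth.Agent.Helper15
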