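import Groth.Agent.Lib.Helper15.AlgSpCD4

set_option autoImplicit false
set_option linter.style.haveILetI false
universe u
open CategoryTheory CategoryTheory.Limits AlgebraicGeometry MorphismProperty Opposite
open AlgSp

namespace Groth.Agent.Helper15

variable {S : Scheme.{u}}

/-- The scheme theoretic image of a morphism from a reduced sheaf is the reduced induced closed
subspace on the closure of the image. -/
theorem isRedInduced_of_isSchImage_of_isReducedSp {X Y Z : Sp S} (hY : IsAlgSpace Y)
    (f : X ⟶ Y) (i : Z ⟶ Y) (hX : IsReducedSp X) (hZ : IsSchImage f i) :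
    IsRedInduced (closure (Set.range (Points.map f))) i := by
  obtain ⟨hicl, ⟨f', hf'⟩, hmin⟩ := hZ
  obtain ⟨Z₀, i₀, hZ₀, hi₀cl, hi₀range, hZ₀red⟩ :=
    exists_isRedInduced hY (closure (Set.range (Points.map f))) isClosed_closure
  haveI : Mono i := mono_of_repWith isClosedImmersion_le_mono i hicl
  haveI : Mono i₀ := mono_of_repWith isClosedImmersion_le_mono i₀ hi₀cl
  obtain ⟨k, hk⟩ := hmin i₀ hZ₀ hi₀cl ((factors_iff_of_isReducedSp i₀ hi₀cl hX f).2 (by
    rw [hi₀range]; exact subset_closure))
  have hclosed : IsClosed (Set.range (Points.map i)) :=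
    (repWith_isClosedImmersion_iff_isClosed_range hY i
      (repWith_mono (fun _ _ g hg => by haveI : IsClosedImmersion g := hg; exact inferInstance)
        hicl)).1 hicl
  have hsub : Set.range (Points.map f) ⊆ Set.range (Points.map i) := by
    rintro _ ⟨x, rfl⟩
    exact ⟨Points.map f' x, by rw [← Points.map_comp, hf']⟩
  obtain ⟨k', hk'⟩ := (factors_iff_of_isReducedSp i hicl hZ₀red i₀).2 (by
    rw [hi₀range]; exact closure_minimal hsub hclosed)
  have hkk' : k ≫ k' = 𝟙 _ := by
    rw [← cancel_mono i, Category.assoc, hk', hk, Category.id_comp]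
  have hk'k : k' ≫ k = 𝟙 _ := by
    rw [← cancel_mono i₀, Category.assoc, hk, hk', Category.id_comp]
  refine ⟨hicl, ?_, ?_⟩
  · rw [← hi₀range]
    apply Set.Subset.antisymm
    · rintro _ ⟨z, rfl⟩
      exact ⟨Points.map k z, by rw [← Points.map_comp, hk]⟩
    · rintro _ ⟨z, rfl⟩
      exact ⟨Points.map k' z, by rw [← Points.map_comp, hk']⟩
  · obtain ⟨V, p, hpe, hps, hV⟩ := hZ₀red
    haveI : IsIso k' := ⟨k, hk'k, hkk'⟩
    exact ⟨V, p ≫ k', MorphismProperty.RespectsIso.postcomp _ k' _ hpe,
      MorphismProperty.RespectsIso.postcomp _ k' _ hps, hV⟩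

end Groth.Agent.Helper15
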