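import Groth.Agent.Lib.Helper15.AlgSpCD6

set_option autoImplicit false
set_option linter.style.haveILetI false
universe u
open CategoryTheory CategoryTheory.Limits AlgebraicGeometry MorphismProperty Opposite
open AlgSp

namespace Groth.Agent.Helper15

/-- The inclusion of a schematically dense open subscheme has trivial kernel. -/
theorem ker_ι_eq_bot_of_isSchematicallyDense {V : Scheme.{u}} (W : V.Opens)
    (hd : CInt.IsSchematicallyDense W) : W.ι.ker = ⊥ := by
  rw [eq_bot_iff]
  intro V'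
  refine (W.ι.ideal_ker_le V').trans ?_
  rw [Scheme.IdealSheafData.ideal_bot, Pi.bot_apply, le_bot_iff,
    ← RingHom.injective_iff_ker_eq_bot]
  let O : V.Opens := V'.1
  have h1 : W.ι ''ᵁ W.ι ⁻¹ᵁ O ≤ O := by
    rintro _ ⟨x, hx, rfl⟩
    exact hx
  have hle : (O ⊓ W) ≤ W.ι ''ᵁ W.ι ⁻¹ᵁ O := by
    rintro x ⟨hx1, hx2⟩
    exact ⟨⟨x, hx2⟩, hx1, rfl⟩
  have hinj := hd O
  have hcomp : V.presheaf.map (homOfLE h1).op ≫ V.presheaf.map (homOfLE hle).op =
      V.presheaf.map (homOfLE (inf_le_left : O ⊓ W ≤ O)).op := by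
    rw [← V.presheaf.map_comp]
    rfl
  rw [← hcomp] at hinj
  have hinj' : Function.Injective ((V.presheaf.map (homOfLE hle).op).hom ∘
      (V.presheaf.map (homOfLE h1).op).hom) := hinj
  exact Function.Injective.of_comp hinj'


variable {S : Scheme.{u}}

/-- The scheme theoretic closure of a scheme theoretically dense open subspace is everything. -/
theorem isSchImage_id_of_isSchDense {U X : Sp S} (j : U ⟶ X) (hj : IsSchDense j) :
    IsSchImage j (𝟙 X) := by
  refine ⟨(RepWith @IsClosedImmersion).id_mem X, ⟨j, Category.comp_id j⟩, ?_⟩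
  intro Z' i' _ hi' hfac
  obtain ⟨f'', hf''⟩ := hfac
  obtain ⟨-, V, φ, W, fst, hφe, hφs, sq, hd⟩ := hj
  haveI : Mono i' := mono_of_repWith isClosedImmersion_le_mono _ hi'
  have hrep' := hi'.rep
  have sq' := hrep'.isPullback φ
  haveI hι' : IsClosedImmersion (hrep'.snd φ).left := hi'.property_snd φ
  let ιW : Over.mk (W.ι ≫ V.hom) ⟶ V := Over.homMk W.ι rfl
  obtain ⟨l, hl⟩ := (yon S).map_surjective (sq'.lift (fst ≫ f'') ((yon S).map ιW) (by
    rw [Category.assoc, hf'', sq.w]))
  have hl2 : l ≫ hrep'.snd φ = ιW := (yon S).map_injective (by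
    rw [Functor.map_comp, hl]; exact sq'.lift_snd _ _ _)
  have hl2' : l.left ≫ (hrep'.snd φ).left = W.ι := congrArg (fun k => k.left) hl2
  have hker : (hrep'.snd φ).left.ker = ⊥ := by
    rw [eq_bot_iff, ← ker_ι_eq_bot_of_isSchematicallyDense W hd, ← hl2']
    exact Scheme.Hom.le_ker_comp _ _
  haveI : IsIso (hrep'.snd φ).left := IsClosedImmersion.isIso_iff_ker_eq_bot.2 hker
  haveI : IsIso ((Over.forget S).map (hrep'.snd φ)) := ‹_›
  haveI : IsIso (hrep'.snd φ) := isIso_of_reflects_iso _ (Over.forget S)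
  haveI := isLocallySurjective_of_etale_surjective φ hφe hφs
  haveI : Epi φ := Sheaf.epi_of_isLocallySurjective _
  exact exists_lift_of_epi_of_mono φ i' (𝟙 X) ((yon S).map (inv (hrep'.snd φ)) ≫ hrep'.fst φ) (by
    rw [Category.assoc, sq'.w, ← Category.assoc, ← Functor.map_comp, IsIso.inv_hom_id,
      CategoryTheory.Functor.map_id, Category.id_comp, Category.comp_id])

end Groth.Agent.Helper15
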