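import Groth.Agent.Lib.Helper15.AlgSpDecent2
import Groth.Agent.Lib.Helper15.AlgSpTop

set_option autoImplicit false
universe u
open CategoryTheory CategoryTheory.Limits AlgebraicGeometry Topology TopologicalSpace
open AlgSp

namespace Groth.Agent.Helper15

theorem isIntegral_residueFieldMap_of_unramified {X Y : Scheme.{u}} (f : X ⟶ Y)
    [FormallyUnramified f] [LocallyOfFiniteType f] (x : X) :
    (f.residueFieldMap x).hom.IsIntegral := by
  letI : Algebra (Y.residueField (f.base x)) (X.residueField x) :=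
    (f.residueFieldMap x).hom.toAlgebra
  have h1 : Algebra.IsSeparable (Y.residueField (f.base x)) (X.residueField x) := inferInstance
  have h : Algebra.IsIntegral (Y.residueField (f.base x)) (X.residueField x) := inferInstance
  exact algebraMap_isIntegral_iff.2 h

theorem isClosed_range_of_isIntegralHom_comp {Z V S : Scheme.{u}} (y : Z ⟶ V) (g : V ⟶ S)
    [IsSeparated g] [IsIntegralHom (y ≫ g)] : IsClosed (Set.range y) := by
  haveI : UniversallyClosed (y ≫ g) := inferInstance
  haveI : UniversallyClosed y := UniversallyClosed.of_comp_of_isSeparated y g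
  exact y.isClosedMap.isClosed_range

end Groth.Agent.Helper15

namespace Groth.Agent.Helper15
variable {S : Scheme.{u}}

theorem isClosed_point_of_isDecent_of_integral {X : Sp S} (hXa : IsAlgSpace X)
    (hX : AlgSp.IsDecent X) (s : ↥S) (hs : IsClosed ({s} : Set ↥S)) (k : Type u) [Field k]
    (φ : S.residueField s ⟶ CommRingCat.of k) (hφ : φ.hom.IsIntegral)
    (p : (AlgSp.yon S).obj (Over.mk (Spec.map φ ≫ S.fromSpecResidueField s)) ⟶ X)
    (t : ↥(Spec (CommRingCat.of k))) :
    IsClosed ({AlgSp.Points.ofPt p t} : Set (AlgSp.Points X)) := by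
  rw [← closure_eq_iff_isClosed]
  refine Set.Subset.antisymm (fun x' hx' => ?_) subset_closure
  have hx : Points.ofPt p t ⤳ x' := specializes_iff_mem_closure.2 hx'
  obtain ⟨U, a, hae, has⟩ := hXa.atlas
  obtain ⟨u', rfl⟩ := surjective_ofPt a has x'
  obtain ⟨_, ⟨U₀, hU₀, rfl⟩, hvU₀, -⟩ :=
    (U.left.isBasis_affineOpens).exists_subset_of_mem_open (Set.mem_univ u') isOpen_univ
  let U₀' : U.left.Opens := U₀
  let V : Over S := Over.mk (U₀'.ι ≫ U.hom)
  let j₀ : V ⟶ U := Over.homMk U₀'.ι rfl
  haveI : IsAffine V.left := hU₀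
  have hj₀ : Etale j₀.left := (inferInstance : Etale U₀'.ι)
  have ha₀ : RepWith @Etale ((yon S).map j₀ ≫ a) :=
    (RepWith @Etale).comp_mem _ _ ((repWith_yon_map_iff _ j₀).2 hj₀) hae
  let v' : V.left := ⟨u', hvU₀⟩
  have hv' : Points.ofPt ((yon S).map j₀ ≫ a) v' = Points.ofPt a u' := by
    rw [ofPt_comp_yon_map]; rfl
  rw [← hv'] at hx ⊢
  obtain ⟨w, hwv, hwx⟩ := exists_specializes_lift_of_isDecent hX _ ha₀ v' _ hx
  have sq := ha₀.rep.isPullback' p
  haveI h1 : Etale (ha₀.rep.snd p).left := ha₀.property_snd p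
  obtain ⟨z, hz1, hz2⟩ := exists_of_ofPt_eq sq w t hwx
  let W : Over S := ha₀.rep.pullback p
  let fst : W ⟶ V := ha₀.rep.fst' p
  let snd : W ⟶ _ := ha₀.rep.snd p
  let ω := W.left.fromSpecResidueField z
  have hcomp : (ω ≫ fst.left) ≫ V.hom =
      Spec.map (snd.left.residueFieldMap z) ≫
        (Spec (CommRingCat.of k)).fromSpecResidueField (snd.left z) ≫
        Spec.map φ ≫ S.fromSpecResidueField s := by
    rw [Category.assoc, Over.w fst, ← Over.w snd,
      ← Scheme.Hom.SpecMap_residueFieldMap_fromSpecResidueField_assoc]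
    rfl
  haveI i1 : IsIntegralHom (Spec.map (snd.left.residueFieldMap z)) :=
    IsIntegralHom.SpecMap_iff.2 (isIntegral_residueFieldMap_of_unramified snd.left z)
  haveI i2 : IsClosedImmersion
      ((Spec (CommRingCat.of k)).fromSpecResidueField (snd.left z)) :=
    isClosed_singleton_iff_isClosedImmersion.1 (by
      have : ({snd.left z} : Set (Spec (CommRingCat.of k))) = Set.univ :=
        Set.eq_univ_of_forall (fun q => Subsingleton.elim _ _)
      rw [this]; exact isClosed_univ)
  haveI i3 : IsIntegralHom (Spec.map φ) := IsIntegralHom.SpecMap_iff.2 hφ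
  haveI i4 : IsClosedImmersion (S.fromSpecResidueField s) :=
    isClosed_singleton_iff_isClosedImmersion.1 hs
  haveI i5 : IsIntegralHom ((ω ≫ fst.left) ≫ V.hom) := by
    rw [hcomp]; infer_instance
  have hcl := isClosed_range_of_isIntegralHom_comp (ω ≫ fst.left) V.hom
  have hrange : Set.range (ω ≫ fst.left) = {w} := by
    rw [Scheme.Hom.comp_base, TopCat.coe_comp, Set.range_comp, Scheme.range_fromSpecResidueField,
      Set.image_singleton]
    exact congrArg _ hz1
  rw [hrange] at hcl
  have : v' = w := hwv.mem_closed hcl rfl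
  rw [this, hwx]
  exact Set.mem_singleton _

end Groth.Agent.Helper15
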