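import Groth.Agent.Lib.Helper15.SchemeClosedImm
import Groth.Agent.Lib.Helper15.AlgSpCD
import Groth.Agent.Lib.Helper15.AlgSpDecent2
import Groth.Agent.Lib.Helper15.AlgSpTop

set_option autoImplicit false
universe u
open CategoryTheory CategoryTheory.Limits AlgebraicGeometry Topology TopologicalSpace
open AlgSp

namespace Groth.Agent.Helper15
variable {S : Scheme.{u}}

/-- A quasi-compact monomorphism from the spectrum of a field to a decent space with closed image
point is a closed immersion. -/
theorem repWith_isClosedImmersion_of_fieldPt_of_isClosed {X : Sp S} (hXa : IsAlgSpace X)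
    (hX : IsDecent X) (q : FieldPt X) (hmono : Mono q.toHom) (hqc : RepWith @QuasiCompact q.toHom)
    (hx : IsClosed ({Points.mk q} : Set (Points X))) :
    RepWith @IsClosedImmersion q.toHom := by
  obtain ⟨U, a, hae, has⟩ := hXa.atlas
  have sq := hae.rep.isPullback' q.toHom
  haveI h1 : Etale (hae.rep.snd q.toHom).left := hae.property_snd q.toHom
  haveI h2 : QuasiCompact (hae.rep.fst' q.toHom).left := hqc.property a _ _ sq.flip
  haveI h3 : Mono ((yon S).map (hae.rep.fst' q.toHom)) := sq.mono_fst_of_mono ..
  haveI h4 : Mono (hae.rep.fst' q.toHom) := (yon S).mono_of_mono_map h3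
  haveI h5 : Mono (hae.rep.fst' q.toHom).left := inferInstance
  have hcl : ∀ z, IsClosed ({(hae.rep.fst' q.toHom).left z} : Set U.left) := by
    intro z
    have hz : Points.ofPt a ((hae.rep.fst' q.toHom).left z) = Points.mk q := by
      rw [← ofPt_comp_yon_map, sq.w, ofPt_comp_yon_map, Points.ofPt_toHom]
    rw [← closure_eq_iff_isClosed]
    refine Set.Subset.antisymm (fun u' hu' => ?_) subset_closure
    have hs : (hae.rep.fst' q.toHom).left z ⤳ u' := specializes_iff_mem_closure.2 hu'
    have hs' := hs.map (Points.continuous_ofPt a)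
    rw [hz] at hs'
    have hu'x : Points.ofPt a u' = Points.mk q := hs'.mem_closed hx rfl
    exact eq_of_specializes_of_ofPt_eq_of_isDecent hX a hae u' _ (hu'x.trans hz.symm) hs
  have hci : IsClosedImmersion (hae.rep.fst' q.toHom).left :=
    isClosedImmersion_of_mono_of_etale_over_field _ (hae.rep.snd q.toHom).left hcl
  exact repWith_isClosedImmersion_of_chart q.toHom a (repWith_mono etale_le_flat hae)
    (repWith_mono etale_le_lfp hae) has _ _ sq.flip
    ((repWith_yon_map_iff _ (hae.rep.fst' q.toHom)).2 hci)

/-- S10359 -/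
theorem exists_closedImmersion_fieldPt_of_isClosed {X : Sp S} (hXa : IsAlgSpace X)
    (hX : IsDecent X) (x : Points X) (hx : IsClosed ({x} : Set (Points X))) :
    ∃ p : FieldPt X, Points.mk p = x ∧ RepWith @IsClosedImmersion p.toHom := by
  obtain ⟨q, hq, hmono, hqc⟩ := hX x
  subst hq
  exact ⟨q, rfl, repWith_isClosedImmersion_of_fieldPt_of_isClosed hXa hX q hmono hqc hx⟩

end Groth.Agent.Helper15
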