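import Groth.Agent.Lib.Helper15.AlgSpClosedPt
import Groth.Agent.Lib.Helper15.AlgSpClosedPt2

set_option autoImplicit false
universe u
open CategoryTheory CategoryTheory.Limits AlgebraicGeometry Topology TopologicalSpace
open AlgSp

namespace Groth.Agent.Helper15
variable {S : Scheme.{u}}

/-- A morphism over `S` between spectra of fields, the source being integral over a closed point
`s`: description of the underlying field maps. -/
theorem exists_ringHom_of_over_hom_fields (s : ↥S) (k K : Type u) [Field k] [Field K]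
    (φ : S.residueField s ⟶ CommRingCat.of k) (str : Spec (CommRingCat.of K) ⟶ S)
    (l : Spec (CommRingCat.of k) ⟶ Spec (CommRingCat.of K))
    (hl : l ≫ str = Spec.map φ ≫ S.fromSpecResidueField s) :
    ∃ (s' : ↥S) (e : s' = s) (ρ : S.residueField s' ⟶ CommRingCat.of K)
      (ψ : CommRingCat.of K ⟶ CommRingCat.of k),
      l = Spec.map ψ ∧ ρ ≫ ψ = (S.residueFieldCongr e).hom ≫ φ := by
  obtain ⟨ψ, rfl⟩ := Spec.map_surjective l
  let E := Scheme.SpecToEquivOfField K S
  let s' := (E str).1
  let ρ : S.residueField s' ⟶ CommRingCat.of K := (E str).2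
  have hstr : str = Spec.map ρ ≫ S.fromSpecResidueField s' := (E.left_inv str).symm
  let E' := Scheme.SpecToEquivOfField k S
  have h1 : E'.symm ⟨s', ρ ≫ ψ⟩ = E'.symm ⟨s, φ⟩ := by
    change Spec.map (ρ ≫ ψ) ≫ S.fromSpecResidueField s' = Spec.map φ ≫ S.fromSpecResidueField s
    rw [Spec.map_comp, Category.assoc, ← hstr, hl]
  have h2 := E'.symm.injective h1
  rw [Scheme.SpecToEquivOfField_eq_iff] at h2
  obtain ⟨e, he⟩ := h2
  exact ⟨s', e, ρ, ψ, rfl, he⟩


/-- A morphism from the spectrum of a field, integral over a closed point of `S`, to a decent space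
factors through a closed immersion from the spectrum of a field. -/
theorem exists_factor_through_closedImmersion {X : Sp S} (hXa : IsAlgSpace X)
    (hX : AlgSp.IsDecent X) (s : ↥S) (hs : IsClosed ({s} : Set ↥S)) (k : Type u) [Field k]
    (φ : S.residueField s ⟶ CommRingCat.of k) (hφ : φ.hom.IsIntegral)
    (p : (AlgSp.yon S).obj (Over.mk (Spec.map φ ≫ S.fromSpecResidueField s)) ⟶ X) :
    ∃ (q : FieldPt X) (l : Over.mk (Spec.map φ ≫ S.fromSpecResidueField s) ⟶ q.pt),
      RepWith @IsClosedImmersion q.toHom ∧ (yon S).map l ≫ q.toHom = p := by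
  let t : ↥(Spec (CommRingCat.of k)) := IsLocalRing.closedPoint k
  have hx := isClosed_point_of_isDecent_of_integral hXa hX s hs k φ hφ p t
  obtain ⟨q, hq, hqci⟩ := exists_closedImmersion_fieldPt_of_isClosed hXa hX _ hx
  have sq := hqci.rep.isPullback' p
  haveI h1 : IsClosedImmersion (hqci.rep.snd p).left := hqci.property_snd p
  obtain ⟨z, -, hz⟩ := exists_of_ofPt_eq sq (IsLocalRing.closedPoint q.K) t
    (by rw [Points.ofPt_toHom, hq])
  have : Surjective (hqci.rep.snd p).left :=
    ⟨fun y => ⟨z, @Subsingleton.elim ↥(Spec (CommRingCat.of k)) inferInstance _ _⟩⟩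
  have : IsReduced (Over.mk (Spec.map φ ≫ S.fromSpecResidueField s)).left :=
    (inferInstance : IsReduced (Spec (CommRingCat.of k)))
  have : IsIso (hqci.rep.snd p).left := isIso_of_isClosedImmersion_of_surjective _
  have : IsIso (hqci.rep.snd p) := by
    have : IsIso ((Over.forget S).map (hqci.rep.snd p)) := ‹IsIso (hqci.rep.snd p).left›
    exact isIso_of_reflects_iso _ (Over.forget S)
  refine ⟨q, inv (hqci.rep.snd p) ≫ hqci.rep.fst' p, hqci, ?_⟩
  rw [Functor.map_comp, Category.assoc, sq.w, ← Category.assoc, ← Functor.map_comp,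
    IsIso.inv_hom_id, CategoryTheory.Functor.map_id, Category.id_comp]


/-- S10358 -/
theorem repWith_isFinite_of_finite_over_closedPoint {X : Sp S} (hXa : IsAlgSpace X)
    (hX : AlgSp.IsDecent X) (s : ↥S) (hs : IsClosed ({s} : Set ↥S)) (k : Type u) [Field k]
    (φ : S.residueField s ⟶ CommRingCat.of k) (hφ : φ.hom.Finite)
    (p : (AlgSp.yon S).obj (Over.mk (Spec.map φ ≫ S.fromSpecResidueField s)) ⟶ X) :
    AlgSp.RepWith @IsFinite p ∧
      (Function.Bijective φ.hom → AlgSp.RepWith @IsClosedImmersion p) := by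
  obtain ⟨q, l, hq, hl⟩ :=
    exists_factor_through_closedImmersion hXa hX s hs k φ hφ.to_isIntegral p
  obtain ⟨s', e, ρ, ψ, hlψ, hρψ⟩ :=
    exists_ringHom_of_over_hom_fields s k q.K φ q.str l.left (Over.w l)
  subst e
  rw [Scheme.residueFieldCongr_refl, Iso.refl_hom, Category.id_comp] at hρψ
  constructor
  · have hfin : ψ.hom.Finite := by
      have : (ψ.hom.comp ρ.hom).Finite := by
        have h := congrArg (fun f => f.hom) hρψ
        simp only [CommRingCat.hom_comp] at h
        rw [h]; exact hφ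
      exact RingHom.Finite.of_comp_finite this
    rw [← hl]
    refine (RepWith @IsFinite).comp_mem _ _ ((repWith_yon_map_iff _ l).2 ?_)
      (repWith_mono isClosedImmersion_le_isFinite hq)
    rw [hlψ]; exact (IsFinite.SpecMap_iff ψ).2 hfin
  · intro hbij
    rw [← hl]
    refine (RepWith @IsClosedImmersion).comp_mem _ _ ((repWith_yon_map_iff _ l).2 ?_) hq
    rw [hlψ]
    refine IsClosedImmersion.spec_of_surjective ψ (fun c => ?_)
    obtain ⟨b, rfl⟩ := hbij.2 c
    refine ⟨ρ.hom b, ?_⟩
    have h := congrArg (fun f => f.hom b) hρψ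
    exact h

end Groth.Agent.Helper15
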