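import Groth.Agent.Lib.Helper15.AlgSpDimEt
import Groth.Agent.Lib.Helper16.AlgSp.LocPEngine

set_option autoImplicit false
set_option linter.style.haveILetI false
universe u
open CategoryTheory CategoryTheory.Limits AlgebraicGeometry MorphismProperty Opposite
open AlgSp

namespace Groth.Agent.Helper15
variable {S : Scheme.{u}}

/-- Every point of a scheme has a generization whose local ring has dimension zero. -/
theorem exists_specializes_ringKrullDim_stalk_eq_zero (U : Scheme.{u}) (u : U) :
    ∃ η : U, η ⤳ u ∧ ringKrullDim ↥(U.presheaf.stalk η) = 0 := by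
  have hirr : IsIrreducible (irreducibleComponent u) := isIrreducible_irreducibleComponent
  have hcl : IsClosed (irreducibleComponent u) := isClosed_irreducibleComponent
  have hgen := hirr.isGenericPoint_genericPoint hcl
  refine ⟨hirr.genericPoint, hgen.specializes mem_irreducibleComponent, ?_⟩
  rw [ringKrullDim_stalk_eq_coheight]
  norm_cast
  rw [Order.coheight_eq_zero]
  intro η' hη'
  have hη'' : η' ⤳ hirr.genericPoint := hη'
  have hsub : irreducibleComponent u ⊆ closure {η'} := by
    rw [← hgen.def]
    exact specializes_iff_closure_subset.1 hη''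
  have heq : closure {η'} = irreducibleComponent u :=
    eq_irreducibleComponent isIrreducible_singleton.closure.isPreirreducible hsub
  have hgen' : IsGenericPoint η' (irreducibleComponent u) := heq
  have : η' = hirr.genericPoint := hgen'.eq hgen
  rw [this]

/-- S10190 -/
theorem dense_codimZero_points {X : Sp S} (hX : IsAlgSpace X) :
    Dense {x : Points X |
      HasAt (fun U u => ringKrullDim ↥(U.presheaf.stalk u) = 0) X x} := by
  rw [dense_iff_inter_open]
  rintro W hW ⟨x, hx⟩
  obtain ⟨U, p, hpe, hps⟩ := hX.atlas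
  obtain ⟨u, rfl⟩ := surjective_ofPt p hps x
  obtain ⟨η, hη, hdim⟩ := exists_specializes_ringKrullDim_stalk_eq_zero U.left u
  have h1 : Points.ofPt p η ⤳ Points.ofPt p u := hη.map (Points.continuous_ofPt p)
  exact ⟨Points.ofPt p η, h1.mem_open hW hx, U, p, η, hpe, rfl, hdim⟩

/-- S10302 -/
theorem codimZero_map_of_flat {X Y : Sp S} (hY : IsAlgSpace Y) (f : X ⟶ Y)
    (hf : LocP @Flat f) (x : Points X)
    (hx : HasAt (fun U u => ringKrullDim ↥(U.presheaf.stalk u) = 0) X x) :
    HasAt (fun U u => ringKrullDim ↥(U.presheaf.stalk u) = 0) Y (Points.map f x) := by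
  obtain ⟨U, a, u, ha, hu, hd⟩ := hx
  obtain ⟨V, q, hqe, hqs⟩ := hY.atlas
  have hrep : Representable (a ≫ f) := hY.representable_from_yon _
  have sq := hrep.isPullback' q
  haveI h2 : Etale (hrep.fst' q).left := hqe.property (a ≫ f) _ _ sq.flip
  haveI h2s : Surjective (hrep.fst' q).left := hqs.property (a ≫ f) _ _ sq.flip
  have hcomm : ((yon S).map (hrep.fst' q) ≫ a) ≫ f = (yon S).map (hrep.snd q) ≫ q := by
    rw [Category.assoc]; exact sq.w
  haveI hfl : Flat (hrep.snd q).left := hf ((yon S).map (hrep.fst' q) ≫ a) q (hrep.snd q)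
    ((RepWith @Etale).comp_mem _ _ ((repWith_yon_map_iff _ _).2 h2) ha) hqe hcomm
  obtain ⟨w, hw⟩ := (hrep.fst' q).left.surjective u
  refine ⟨V, q, (hrep.snd q).left w, hqe, ?_, ?_⟩
  · rw [← ofPt_comp_yon_map, ← sq.w, ← hu, Points.map_ofPt, ofPt_comp_yon_map, hw]
  · have e1 := ringKrullDim_stalk_eq_of_etale (hrep.fst' q).left w
    have e2 := ringKrullDim_stalk_le_of_flat (hrep.snd q).left w
    rw [hw] at e1
    rw [e1, hd] at e2
    exact le_antisymm e2 ringKrullDim_nonneg_of_nontrivial

end Groth.Agent.Helper15
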