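import Groth.Agent.Lib.Helper15.AlgSpCoprod

set_option autoImplicit false
universe u
open CategoryTheory CategoryTheory.Limits AlgebraicGeometry MorphismProperty Opposite
open AlgSp

namespace Groth.Agent.Helper15

variable {S : Scheme.{u}}

/-- A family of maps of sheaves through which every section locally factors is jointly
surjective on points. -/
theorem points_cover_of_local {F : Sp S} {ι : Type*} (Fi : ι → Sp S) (f : ∀ i, Fi i ⟶ F)
    (h : ∀ (K : Type u) [Field K] (str : Spec (CommRingCat.of K) ⟶ S)
      (ξ : (yon S).obj (Over.mk str) ⟶ F), ∃ R ∈ (J S) (Over.mk str),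
      ∀ ⦃T' : Over S⦄ (k : T' ⟶ Over.mk str), R k →
        ∃ (i : ι) (x : (yon S).obj T' ⟶ Fi i), x ≫ f i = (yon S).map k ≫ ξ)
    (x : Points F) : ∃ i, x ∈ Set.range (Points.map (f i)) := by
  obtain ⟨K, _, str, ξ, rfl⟩ := exists_ofField x
  obtain ⟨R, hR, hRk⟩ := h K str ξ
  obtain ⟨R₀, hR₀, hle⟩ := exists_fppf_presieve_of_mem_J R hR
  obtain ⟨T', i', t', hi', -⟩ := exists_mem_of_mem_fppfPrecoverage hR₀
    (show ↥(Over.mk str).left from (default : Spec (CommRingCat.of K)))
  obtain ⟨i, τ, hτ⟩ := hRk _ (hle i' hi')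
  refine ⟨i, Points.ofPt τ t', ?_⟩
  rw [Points.map_ofPt, hτ, ofPt_eq_ofField, ← Category.assoc, ← Functor.map_comp]
  exact ofField_comp _ ξ

/-- The summands of a coproduct of sheaves are jointly surjective on points. -/
theorem cofan_points_cover {ι : Type*} {F : ι → Sp S} (c : Cofan F) (hc : IsColimit c)
    (x : Points c.pt) : ∃ i, x ∈ Set.range (Points.map (c.inj i)) :=
  points_cover_of_local F (fun i => c.inj i) (fun _ _ _ ξ => cofan_exists_local c hc ξ) x

/-- A representable map from a scheme which has `P` on an open cover of the source has `P`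
(`P` Zariski local at the source). -/
theorem repWith_of_source_openCover {P : MorphismProperty Scheme.{u}} [IsZariskiLocalAtSource P]
    {F : Sp S} {V : Over S} (p : (yon S).obj V ⟶ F) (hp : Representable p) {ι : Type u}
    (U : ι → Over S) (j : ∀ i, U i ⟶ V) (hj : ∀ i, IsOpenImmersion (j i).left)
    (hcov : ∀ v : V.left, ∃ i u, (j i).left u = v)
    (h : ∀ i, RepWith P ((yon S).map (j i) ≫ p)) : RepWith P p := by
  refine ⟨hp, fun T P₀ b fst snd sq => ?_⟩
  obtain ⟨fst', rfl⟩ := (yon S).map_surjective fst
  have hji : ∀ i, RepWith @IsOpenImmersion ((yon S).map (j i)) :=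
    fun i => (repWith_yon_map_iff _ _).2 (hj i)
  have hsi : ∀ i, IsOpenImmersion ((hji i).rep.snd ((yon S).map fst')).left :=
    fun i => (hji i).property_snd _
  have hcovP : ∀ x : P₀.left, ∃ i w, ((hji i).rep.snd ((yon S).map fst')).left w = x := by
    intro x
    obtain ⟨i, u, hu⟩ := hcov (fst'.left x)
    obtain ⟨pt, -, hp2⟩ := exists_point_of_isPullback
      ((hji i).rep.isPullback ((yon S).map fst')) (Points.ofScheme _ u) (Points.ofScheme _ x) (by
        rw [← Points.ofPt_eq_map_ofScheme, ← Points.ofPt_eq_map_ofScheme, ofPt_yon_map,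
          ofPt_yon_map, hu])
    obtain ⟨w, rfl⟩ := (Points.schemeEquiv _).surjective pt
    change Points.map _ (Points.ofScheme _ w) = _ at hp2
    rw [← Points.ofPt_eq_map_ofScheme, ofPt_yon_map] at hp2
    exact ⟨i, w, (Points.schemeEquiv P₀).injective hp2⟩
  let 𝒰 : P₀.left.OpenCover := Scheme.Cover.mkOfCovers ι
    (fun i => ((hji i).rep.pullback ((yon S).map fst')).left)
    (fun i => ((hji i).rep.snd ((yon S).map fst')).left) hcovP hsi
  change P snd.left
  rw [IsZariskiLocalAtSource.iff_of_openCover (P := P) 𝒰]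
  intro i
  have big := ((hji i).rep.isPullback ((yon S).map fst')).paste_vert sq
  rw [← Functor.map_comp] at big
  exact (h i).property b _ _ big

section Core

variable {F : Sp S} {ι : Type u} (Fi : ι → Sp S) (f : ∀ i, Fi i ⟶ F)
  (halg : ∀ i, IsAlgSpace (Fi i)) (hopen : ∀ i, RepWith @IsOpenImmersion (f i))
  (hcov : ∀ x : Points F, ∃ i, x ∈ Set.range (Points.map (f i)))

include halg hopen hcov in
/-- Maps from schemes into a sheaf covered by open algebraic subspaces are representable. -/
theorem representable_from_yon_of_openCover {T : Over S} (a : (yon S).obj T ⟶ F) :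
    Representable a := by
  intro T' b
  have hι : ∀ i, IsOpenImmersion ((hopen i).rep.snd b).left := fun i => (hopen i).property_snd b
  have hcovT : ∀ t : T'.left, ∃ i tk, ((hopen i).rep.snd b).left tk = t := by
    intro t
    obtain ⟨i, yi, hyi⟩ := hcov (Points.ofPt b t)
    rw [Points.ofPt_eq_map_ofScheme b t] at hyi
    obtain ⟨pt, -, hp2⟩ := exists_point_of_isPullback ((hopen i).rep.isPullback b) yi _ hyi
    obtain ⟨w, rfl⟩ := (Points.schemeEquiv _).surjective pt
    change Points.map _ (Points.ofScheme _ w) = _ at hp2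
    rw [← Points.ofPt_eq_map_ofScheme, ofPt_yon_map] at hp2
    exact ⟨i, w, (Points.schemeEquiv T').injective hp2⟩
  -- the representing objects over each member of the cover
  have hR : ∀ i, Representable ((hopen i).rep.fst a) := fun i => (halg i).representable_from_yon _
  have sqW : ∀ i, IsPullback
      ((yon S).map ((hR i).fst' ((hopen i).rep.fst b) ≫ (hopen i).rep.snd a))
      ((yon S).map ((hR i).snd ((hopen i).rep.fst b))) a
      ((yon S).map ((hopen i).rep.snd b) ≫ b) := by
    intro i
    have h1 := (hR i).isPullback' ((hopen i).rep.fst b)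
    have h2 := ((hopen i).rep.isPullback a).flip
    have h3 := h1.paste_horiz h2
    rw [Functor.map_comp, ← (hopen i).rep.w b]
    exact h3
  obtain ⟨V, fst, snd, sq, -⟩ := exists_rep_pullback_of_cover (Q := ⊤) a b
    (fun i => (hopen i).rep.pullback b) (fun i => (hopen i).rep.snd b) hι hcovT
    (fun i => (hR i).pullback ((hopen i).rep.fst b))
    (fun i => (hR i).snd ((hopen i).rep.fst b)) _ sqW (fun _ => trivial)
  exact ⟨V, snd, fst, sq⟩

include halg hopen hcov in
/-- A sheaf covered by open subsheaves which are algebraic spaces is an algebraic space. -/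
theorem isAlgSpace_of_openCover_points : IsAlgSpace F := by
  have hrepF : ∀ ⦃T : Over S⦄ (a : (yon S).obj T ⟶ F), Representable a :=
    fun T a => representable_from_yon_of_openCover Fi f halg hopen hcov a
  have hdiag : Representable (Limits.diag F) :=
    Functor.relativelyRepresentable.diag_of_map_from_obj hrepF
  refine ⟨hdiag, ?_⟩
  choose U q hqe hqs using fun i => (halg i).atlas
  let Y : ι → Sp S := fun i => (yon S).obj (U i)
  let c : Cofan Y := Cofan.mk (∐ Y) (Sigma.ι Y)
  have hc : IsColimit c := coproductIsCoproduct Y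
  have hm : ∀ k, Mono (c.inj k) := cofan_inj_mono c hc
  have ha : ∀ i, RepWith @IsOpenImmersion (c.inj i) :=
    fun i => repWith_mono inf_le_left (repWith_cofan_inj c hc hm i)
  obtain ⟨V, e, j, hj, hje, hjcov⟩ := exists_rep_of_openCover ha (cofan_points_cover c hc)
  let p : (yon S).obj V ⟶ F := e.hom ≫ Cofan.IsColimit.desc hc (fun i => q i ≫ f i)
  have hp : ∀ i, (yon S).map (j i) ≫ p = q i ≫ f i := fun i => by
    change (yon S).map (j i) ≫ e.hom ≫ _ = _
    rw [← Category.assoc, hje i, Cofan.IsColimit.fac]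
  have hqf : ∀ i, RepWith @Etale (q i ≫ f i) := fun i =>
    (RepWith @Etale).comp_mem _ _ (hqe i) (repWith_mono isOpenImmersion_le_etale (hopen i))
  refine ⟨V, p, repWith_of_source_openCover p (hrepF p) U j hj hjcov (fun i => by
    rw [hp i]; exact hqf i), ?_⟩
  refine repWith_surjective_of_isSurjectiveMor p (hrepF p) ?_
  intro x
  obtain ⟨i, y, rfl⟩ := hcov x
  obtain ⟨u, rfl⟩ := isSurjectiveMor_of_repWith_surjective (q i) (hqs i) y
  refine ⟨Points.map ((yon S).map (j i)) u, ?_⟩
  rw [← Points.map_comp, hp i, Points.map_comp]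

end Core

end Groth.Agent.Helper15
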