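import Groth.Agent.Lib.Helper15.AlgSpCoprod2

set_option autoImplicit false
universe u
open CategoryTheory CategoryTheory.Limits AlgebraicGeometry MorphismProperty Opposite
open AlgSp

namespace Groth.Agent.Helper15

variable {S : Scheme.{u}}

/-- Atlases of the members of an open cover glue to an atlas, covered by the given charts. -/
theorem exists_glued_atlas {F : Sp S} {ι : Type u} (Fi : ι → Sp S) (f : ∀ i, Fi i ⟶ F)
    (hrepF : ∀ ⦃T : Over S⦄ (a : (yon S).obj T ⟶ F), Representable a)
    (hopen : ∀ i, RepWith @IsOpenImmersion (f i))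
    (hcov : ∀ x : Points F, ∃ i, x ∈ Set.range (Points.map (f i)))
    (U : ι → Over S) (q : ∀ i, (yon S).obj (U i) ⟶ Fi i) (hqe : ∀ i, RepWith @Etale (q i))
    (hqs : ∀ i, RepWith @Surjective (q i)) :
    ∃ (V : Over S) (p : (yon S).obj V ⟶ F) (j : ∀ i, U i ⟶ V), RepWith @Etale p ∧
      RepWith @Surjective p ∧ (∀ i, IsOpenImmersion (j i).left) ∧
      (∀ v : V.left, ∃ i u, (j i).left u = v) ∧ ∀ i, (yon S).map (j i) ≫ p = q i ≫ f i := by
  let Y : ι → Sp S := fun i => (yon S).obj (U i)
  let c : Cofan Y := Cofan.mk (∐ Y) (Sigma.ι Y)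
  have hc : IsColimit c := coproductIsCoproduct Y
  have hm : ∀ k, Mono (c.inj k) := cofan_inj_mono c hc
  have ha : ∀ i, RepWith @IsOpenImmersion (c.inj i) :=
    fun i => repWith_mono inf_le_left (repWith_cofan_inj c hc hm i)
  obtain ⟨V, e, j, hj, hje, hjcov⟩ := exists_rep_of_openCover ha (cofan_points_cover c hc)
  let p : (yon S).obj V ⟶ F := e.hom ≫ Cofan.IsColimit.desc hc (fun i => q i ≫ f i)
  have hp : ∀ i, (yon S).map (j i) ≫ p = q i ≫ f i := fun i => by
    change (yon S).map (j i) ≫ e.hom ≫ _ = _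
    rw [← Category.assoc, hje i, Cofan.IsColimit.fac]
  have hqf : ∀ i, RepWith @Etale (q i ≫ f i) := fun i =>
    (RepWith @Etale).comp_mem _ _ (hqe i) (repWith_mono isOpenImmersion_le_etale (hopen i))
  refine ⟨V, p, j, repWith_of_source_openCover p (hrepF p) U j hj hjcov (fun i => by
    rw [hp i]; exact hqf i), ?_, hj, hjcov, hp⟩
  refine repWith_surjective_of_isSurjectiveMor p (hrepF p) ?_
  intro x
  obtain ⟨i, y, rfl⟩ := hcov x
  obtain ⟨u, rfl⟩ := isSurjectiveMor_of_repWith_surjective (q i) (hqs i) y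
  refine ⟨Points.map ((yon S).map (j i)) u, ?_⟩
  rw [← Points.map_comp, hp i, Points.map_comp]

/-- A finite coproduct of quasi-compact sheaves which is an algebraic space is quasi-compact. -/
theorem isQuasiCompactSp_cofan_pt {ι : Type u} [Finite ι] (F : ι → Sp S) (c : Cofan F)
    (hc : IsColimit c) (hX : IsAlgSpace c.pt) (hqc : ∀ i, IsQuasiCompactSp (F i)) :
    IsQuasiCompactSp c.pt := by
  have hm := fun k => cofan_inj_mono c hc k
  choose U q hqe hqs hU using hqc
  obtain ⟨V, p, j, hpe, hps, hj, hjcov, -⟩ := exists_glued_atlas F (fun i => c.inj i)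
    (fun T a => hX.representable_from_yon a)
    (fun i => repWith_mono inf_le_left (repWith_cofan_inj c hc hm i))
    (cofan_points_cover c hc) U q hqe hqs
  refine ⟨V, p, hpe, hps, ?_⟩
  have huniv : (Set.univ : Set V.left) = ⋃ i, Set.range (j i).left := by
    ext v
    simp only [Set.mem_univ, Set.mem_iUnion, Set.mem_range, true_iff]
    exact hjcov v
  refine ⟨?_⟩
  rw [huniv]
  exact isCompact_iUnion fun i => by
    haveI := hU i
    exact isCompact_range (j i).left.continuous

end Groth.Agent.Helper15
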