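import Groth.Agent.Lib.Helper15.AlgSpDecent2
import Groth.Agent.Lib.Helper16.AlgSp.LocPEngine

set_option autoImplicit false
universe u
open CategoryTheory CategoryTheory.Limits AlgebraicGeometry MorphismProperty Opposite
open AlgSp

namespace Groth.Agent.Helper15
variable {S : Scheme.{u}}

section
attribute [local instance] specializationPreorder

/-- S10341: no nontrivial specializations in the fibre over a point with finite fibres on affine
etale charts. -/
theorem eq_of_specializes_of_ofPt_eq_of_finite_fibres {X : Sp S} (x : Points X)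
    (hx : ∀ (V : Over S) (b : (yon S).obj V ⟶ X), IsAffine V.left → RepWith @Etale b →
      (Points.ofPt b ⁻¹' {x}).Finite)
    {U : Over S} (a : (yon S).obj U ⟶ X) (ha : RepWith @Etale a) (u u' : U.left)
    (hu : Points.ofPt a u = x) (hu' : Points.ofPt a u' = x) (hs : u' ⤳ u) : u = u' := by
  obtain ⟨_, ⟨U₀, hU₀, rfl⟩, huU₀, -⟩ :=
    (U.left.isBasis_affineOpens).exists_subset_of_mem_open (Set.mem_univ u) isOpen_univ
  let U₀' : U.left.Opens := U₀
  let V : Over S := Over.mk (U₀'.ι ≫ U.hom)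
  let j₀ : V ⟶ U := Over.homMk U₀'.ι rfl
  have hV : IsAffine V.left := hU₀
  have hj₀ : Etale j₀.left := (inferInstance : Etale U₀'.ι)
  have ha₀ : RepWith @Etale ((yon S).map j₀ ≫ a) :=
    (RepWith @Etale).comp_mem _ _ ((repWith_yon_map_iff _ j₀).2 hj₀) ha
  have hfin₀ := hx V ((yon S).map j₀ ≫ a) hV ha₀
  let G : Set U.left := {y | Points.ofPt a y = x ∧ y ⤳ u}
  have hG : G.Finite := by
    refine (hfin₀.image U₀'.ι).subset ?_
    rintro y ⟨hy1, hy2⟩
    have hyU : y ∈ U₀' := hy2.mem_open U₀'.2 huU₀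
    refine ⟨⟨y, hyU⟩, ?_, rfl⟩
    change Points.ofPt ((yon S).map j₀ ≫ a) ⟨y, hyU⟩ = _
    rw [ofPt_comp_yon_map]
    exact hy1
  by_contra hne
  have hu'G : u' ∈ G := ⟨hu', hs⟩
  obtain ⟨b, hb1, hb2⟩ := hG.exists_le_maximal hu'G
  have hbu' : b ⤳ u' := hb1
  have hbG : b ∈ G := hb2.prop
  have hbu : b ≠ u := by
    rintro rfl
    exact hne (hbu'.antisymm hs).eq
  have sq := ha.rep.isPullback' a
  haveI h1 : Etale (ha.rep.snd a).left := ha.property_snd a
  haveI h2 : Etale (ha.rep.fst' a).left := ha.property a _ _ sq.flip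
  obtain ⟨r, hr1, hr2⟩ := exists_of_ofPt_eq sq u b (hu.trans hbG.1.symm)
  have hgen : GeneralizingMap (ha.rep.fst' a).left := Flat.generalizingMap _
  obtain ⟨r', hr'r, hr'b⟩ := hgen (show b ⤳ (ha.rep.fst' a).left r by rw [hr1]; exact hbG.2)
  have hy₀b : (ha.rep.snd a).left r' ⤳ b := by
    rw [← hr2]; exact hr'r.map (ha.rep.snd a).left.continuous
  have hy₀x : Points.ofPt a ((ha.rep.snd a).left r') = x := by
    rw [← ofPt_comp_yon_map, ← sq.w, ofPt_comp_yon_map, hr'b]
    exact hbG.1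
  have hy₀G : (ha.rep.snd a).left r' ∈ G := ⟨hy₀x, hy₀b.trans hbG.2⟩
  have hby₀ : b ⤳ (ha.rep.snd a).left r' := hb2.le_of_ge hy₀G hy₀b
  have hy₀ : (ha.rep.snd a).left r' = b := (hy₀b.antisymm hby₀).eq
  haveI : LocallyQuasiFinite (ha.rep.snd a).left := locallyQuasiFinite_of_etale _
  have hrr' : r' = r := eq_of_specializes_of_map_eq (ha.rep.snd a).left hr'r (by rw [hy₀, hr2])
  exact hbu (by rw [← hr'b, hrr', hr1])

/-- S10343: generizations to a point with finite fibres on affine etale charts lift along etale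
charts. -/
theorem exists_specializes_lift_of_finite_fibres {X : Sp S} (x : Points X)
    (hx : ∀ (V : Over S) (b : (yon S).obj V ⟶ X), IsAffine V.left → RepWith @Etale b →
      (Points.ofPt b ⁻¹' {x}).Finite) {U : Over S}
    (a : (yon S).obj U ⟶ X) (ha : RepWith @Etale a) (v : U.left)
    (hxv : x ⤳ Points.ofPt a v) : ∃ w : U.left, w ⤳ v ∧ Points.ofPt a w = x := by
  obtain ⟨_, ⟨U₀, hU₀, rfl⟩, hvU₀, -⟩ :=
    (U.left.isBasis_affineOpens).exists_subset_of_mem_open (Set.mem_univ v) isOpen_univ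
  let U₀' : U.left.Opens := U₀
  let V : Over S := Over.mk (U₀'.ι ≫ U.hom)
  let j₀ : V ⟶ U := Over.homMk U₀'.ι rfl
  have hV : IsAffine V.left := hU₀
  have hj₀ : Etale j₀.left := (inferInstance : Etale U₀'.ι)
  have ha₀ : RepWith @Etale ((yon S).map j₀ ≫ a) :=
    (RepWith @Etale).comp_mem _ _ ((repWith_yon_map_iff _ j₀).2 hj₀) ha
  have hfin₀ := hx V ((yon S).map j₀ ≫ a) hV ha₀
  by_contra hno
  push_neg at hno
  have key : ∀ w ∈ (Points.ofPt ((yon S).map j₀ ≫ a) ⁻¹' {x}),
      ∃ O : U.left.Opens, v ∈ O ∧ U₀'.ι w ∉ O := by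
    intro w hw
    have h1 : ¬ (U₀'.ι w ⤳ v) := fun h => hno _ h (by
      have := ofPt_comp_yon_map j₀ a w
      exact this.symm.trans hw)
    rw [specializes_iff_forall_open] at h1
    push_neg at h1
    obtain ⟨O, hO, hvO, hwO⟩ := h1
    exact ⟨⟨O, hO⟩, hvO, hwO⟩
  choose! O hO1 hO2 using key
  let O' : Set U.left := (U₀' : Set U.left) ∩
    ⋂ w ∈ (Points.ofPt ((yon S).map j₀ ≫ a) ⁻¹' {x}), (O w : Set U.left)
  have hO'open : IsOpen O' := U₀'.2.inter (hfin₀.isOpen_biInter (fun w _ => (O w).2))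
  have hvO' : v ∈ O' := ⟨hvU₀, Set.mem_iInter₂.2 (fun w hw => hO1 w hw)⟩
  have himg : IsOpen (Points.ofPt a '' O') := isOpenMap_ofPt_of_etale a ha _ hO'open
  obtain ⟨w, hwO', rfl⟩ : x ∈ Points.ofPt a '' O' := hxv.mem_open himg ⟨v, hvO', rfl⟩
  have hw₀ : (⟨w, hwO'.1⟩ : U₀') ∈ (Points.ofPt ((yon S).map j₀ ≫ a) ⁻¹' {Points.ofPt a w}) := by
    change Points.ofPt ((yon S).map j₀ ≫ a) ⟨w, hwO'.1⟩ = _
    rw [ofPt_comp_yon_map]; rfl
  exact hO2 _ hw₀ (Set.mem_iInter₂.1 hwO'.2 _ hw₀)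

theorem exists_specializes_lift_of_qc_fieldPt {X : Sp S} (p : FieldPt X)
    (hq : RepWith @QuasiCompact p.toHom) {U : Over S}
    (a : (yon S).obj U ⟶ X) (ha : RepWith @Etale a) (v : U.left)
    (hxv : Points.mk p ⤳ Points.ofPt a v) : ∃ w : U.left, w ⤳ v ∧ Points.ofPt a w = Points.mk p :=
  exists_specializes_lift_of_finite_fibres _
    (fun V b hV hb => by
      haveI := hV
      exact finite_fibre_of_repWith_quasiCompact_fieldPt p hq b hb) a ha v hxv

/-- S10344: generizations lift along flat morphisms of algebraic spaces, towards points with a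
quasi-compact field point representative. -/
theorem exists_specializes_lift_of_locP_flat {X Y : Sp S} (hX : IsAlgSpace X) (hY : IsAlgSpace Y)
    (f : Y ⟶ X) (hf : LocP @Flat f) (p : FieldPt X) (hq : RepWith @QuasiCompact p.toHom)
    (y : Points Y) (h : Points.mk p ⤳ Points.map f y) :
    ∃ y' : Points Y, y' ⤳ y ∧ Points.map f y' = Points.mk p := by
  obtain ⟨V₀, U₀, q, r, h₀, hqe, hqs, hre, hrs, hh, hP₀⟩ :=
    Groth.Agent.Helper16.AS.exists_charts_of_locP hY hX f hf
  have sq := IsPullback.of_hasPullback f q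
  have hfe : RepWith @Etale (pullback.fst f q) := (RepWith @Etale).of_isPullback sq.flip hqe
  have hfs : RepWith @Surjective (pullback.fst f q) :=
    (RepWith @Surjective).of_isPullback sq.flip hqs
  have hae : RepWith @Etale (r ≫ pullback.fst f q) := (RepWith @Etale).comp_mem _ _ hre hfe
  have has : RepWith @Surjective (r ≫ pullback.fst f q) :=
    (RepWith @Surjective).comp_mem _ _ hrs hfs
  have comm : (r ≫ pullback.fst f q) ≫ f = (yon S).map h₀ ≫ q := by
    rw [Category.assoc, pullback.condition, ← Category.assoc, hh]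
  obtain ⟨v, rfl⟩ := surjective_ofPt _ has y
  have hu : Points.map f (Points.ofPt (r ≫ pullback.fst f q) v) = Points.ofPt q (h₀.left v) := by
    rw [Points.map_ofPt, comm, ofPt_comp_yon_map]
  rw [hu] at h
  obtain ⟨u', hu'1, hu'2⟩ := exists_specializes_lift_of_qc_fieldPt p hq q hqe _ h
  haveI : Flat h₀.left := hP₀
  have hgen : GeneralizingMap h₀.left := Flat.generalizingMap _
  obtain ⟨v', hv'1, hv'2⟩ := hgen hu'1
  refine ⟨Points.ofPt (r ≫ pullback.fst f q) v', hv'1.map (Points.continuous_ofPt _), ?_⟩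
  rw [Points.map_ofPt, comm, ofPt_comp_yon_map, hv'2, hu'2]

end

end Groth.Agent.Helper15
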