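import Groth.Agent.Lib.Helper15.AlgSpDescent

/-!
# Diagonals of sheaves and charts
-/

set_option autoImplicit false
universe u
open CategoryTheory CategoryTheory.Limits AlgebraicGeometry MorphismProperty
open AlgSp

namespace Groth.Agent.Helper15

variable {S : Scheme.{u}}

/-- `f × g` is representable with `P` if `f` and `g` are. -/
theorem repWith_prod_map {P : MorphismProperty Scheme.{u}} [P.IsStableUnderComposition]
    {A B X Y : Sp S} (f : A ⟶ X) (g : B ⟶ Y) (hf : RepWith P f) (hg : RepWith P g) :
    RepWith P (prod.map f g) := by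
  have h1 : RepWith P (prod.map f (𝟙 B)) :=
    (RepWith P).of_isPullback (isPullback_prod_map_id f B).flip hf
  have h2 : RepWith P (prod.map (𝟙 X) g) :=
    (RepWith P).of_isPullback (isPullback_prod_id_map g X).flip hg
  have : prod.map f g = prod.map f (𝟙 B) ≫ prod.map (𝟙 X) g := by simp
  rw [this]
  exact (RepWith P).comp_mem _ _ h1 h2

/-- The pair of two maps of representables, as a map of schemes. -/
theorem prod_lift_yon_map {T U V : Over S} (f : T ⟶ U) (g : T ⟶ V) :
    prod.lift ((yon S).map f) ((yon S).map g) =
      (yon S).map (prod.lift f g) ≫ prodComparison (yon S) U V := by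
  ext
  · rw [prod.lift_fst, Category.assoc, prodComparison_fst, ← Functor.map_comp, prod.lift_fst]
  · rw [prod.lift_snd, Category.assoc, prodComparison_snd, ← Functor.map_comp, prod.lift_snd]

theorem repWith_prod_lift_yon_map_iff (P : MorphismProperty Scheme.{u}) [P.IsStableUnderBaseChange]
    {T U V : Over S} (f : T ⟶ U) (g : T ⟶ V) :
    RepWith P (prod.lift ((yon S).map f) ((yon S).map g)) ↔ P (prod.lift f g).left := by
  rw [prod_lift_yon_map, (RepWith P).cancel_right_of_respectsIso, repWith_yon_map_iff]

/-- The diagonal of a sheaf with an etale surjective chart `U` has `P` iff `U ×_X U ⟶ U ×_S U`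
has `P`, for `P` fppf local on the target. -/
theorem repWith_diag_of_chart {X : Sp S} (hX : Representable (Limits.diag X)) {U R : Over S}
    (p : (yon S).obj U ⟶ X) (hpe : RepWith @Etale p) (hps : RepWith @Surjective p)
    (s t : R ⟶ U) (sq : IsPullback ((yon S).map t) ((yon S).map s) p p)
    (P : MorphismProperty Scheme.{u}) [P.IsStableUnderBaseChange]
    [P.IsLocalAtTarget Scheme.fppfPrecoverage] (h : P (prod.lift t s).left) :
    RepWith P (Limits.diag X) := by
  haveI : Sheaf.IsLocallySurjective (prod.map p p) :=
    isLocallySurjective_of_etale_surjective _ (repWith_prod_map p p hpe hpe)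
      (repWith_prod_map p p hps hps)
  exact repWith_of_isLocallySurjective_base (Limits.diag X) hX (prod.map p p)
    ((yon S).map t ≫ p) (prod.lift ((yon S).map t) ((yon S).map s))
    (isPullback_diag_prod_map sq) P ((repWith_prod_lift_yon_map_iff P t s).2 h)

/-- If the diagonal of `X` has `P`, then `U ×_X V ⟶ U ×_S V` has `P`. -/
theorem prod_lift_of_repWith_diag {X : Sp S} {P : MorphismProperty Scheme.{u}}
    [P.IsStableUnderBaseChange]
    (hX : RepWith P (Limits.diag X)) {U V W : Over S} {a : (yon S).obj U ⟶ X}
    {b : (yon S).obj V ⟶ X} {fst : W ⟶ U} {snd : W ⟶ V}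
    (sq : IsPullback ((yon S).map fst) ((yon S).map snd) a b) : P (prod.lift fst snd).left := by
  have h1 : RepWith P (prod.lift ((yon S).map fst) ((yon S).map snd)) :=
    (RepWith P).of_isPullback (isPullback_diag_prod_map sq) hX
  exact (repWith_prod_lift_yon_map_iff P fst snd).1 h1

/-- `RepWith` of an infimum. -/
theorem repWith_inf {P Q : MorphismProperty Scheme.{u}} {F G : Sp S} {f : F ⟶ G}
    (hP : RepWith P f) (hQ : RepWith Q f) : RepWith (P ⊓ Q) f :=
  ⟨hP.rep, fun _ _ g fst snd sq => ⟨hP.property g fst snd sq, hQ.property g fst snd sq⟩⟩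

/-- A representable monomorphism of sheaves is representable by monomorphisms of schemes. -/
theorem repWith_monomorphisms_of_mono {F G : Sp S} (f : F ⟶ G) (hrep : Representable f) [Mono f] :
    RepWith (monomorphisms Scheme.{u}) f := by
  refine ⟨hrep, fun T V g fst snd sq => ?_⟩
  haveI : Mono ((yon S).map snd) := by
    constructor
    intro Z a b hab
    apply sq.hom_ext
    · rw [← cancel_mono f, Category.assoc, Category.assoc, sq.w, ← Category.assoc, hab,
        Category.assoc]
    · exact hab
  haveI : Mono snd := (yon S).mono_of_mono_map inferInstance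
  exact (inferInstance : Mono snd.left)

/-- The diagonal of a sheaf is a monomorphism. -/
instance mono_diag (X : Sp S) : Mono (Limits.diag X) :=
  mono_of_mono_fac (prod.lift_fst (𝟙 X) (𝟙 X))

/-- The diagonal of an algebraic space is locally of finite type. -/
theorem repWith_lft_diag {X : Sp S} (hX : IsAlgSpace X) :
    RepWith @LocallyOfFiniteType (Limits.diag X) := by
  obtain ⟨U, p, hpe, hps⟩ := hX.atlas
  have hrep := hpe.rep
  have sq := hrep.isPullback' p
  refine repWith_diag_of_chart hX.diag p hpe hps (hrep.snd p) (hrep.fst' p) sq _ ?_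
  have het : Etale (hrep.snd p).left := hpe.property_snd p
  have e : (prod.lift (hrep.fst' p) (hrep.snd p)).left ≫ (prod.snd : U ⨯ U ⟶ U).left =
      (hrep.snd p).left := by
    rw [← Over.comp_left, prod.lift_snd]
  haveI : LocallyOfFiniteType ((prod.lift (hrep.fst' p) (hrep.snd p)).left ≫
      (prod.snd : U ⨯ U ⟶ U).left) := by
    rw [e]; infer_instance
  exact locallyOfFiniteType_of_comp _ (prod.snd : U ⨯ U ⟶ U).left

/-- The base change of the diagonal of `F` along `(a, b) : h_T ⟶ F × F` is the base change of
`h_T ×_F h_T ⟶ T ×_S T` along the diagonal of `T`. -/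
theorem isPullback_diag_of_isPullback {F : Sp S} {T W : Over S} {a b : (yon S).obj T ⟶ F}
    {fst snd : W ⟶ T} (sq : IsPullback ((yon S).map fst) ((yon S).map snd) a b) :
    IsPullback ((yon S).map (pullback.fst (prod.lift fst snd) (Limits.diag T)) ≫
        (yon S).map fst ≫ a)
      ((yon S).map (pullback.snd (prod.lift fst snd) (Limits.diag T))) (Limits.diag F)
      (prod.lift a b) := by
  have sq1 := (IsPullback.of_hasPullback (prod.lift fst snd) (Limits.diag T)).map (yon S)
  have sq1' := isPullback_comp_mono (prodComparison (yon S) T T) sq1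
  rw [← prod_lift_yon_map, ← prod_lift_yon_map] at sq1'
  have sq2 := isPullback_diag_prod_map sq
  have := sq1'.paste_horiz sq2
  rw [prod.lift_map] at this
  simpa using this

/-- Criterion for the diagonal to be representable with `P` in terms of the fibre products
`h_T ×_F h_T`. -/
theorem repWith_diag_of_forall {F : Sp S} (P : MorphismProperty Scheme.{u})
    [P.IsStableUnderBaseChange]
    (h : ∀ ⦃T : Over S⦄ (a b : (yon S).obj T ⟶ F),
      ∃ (W : Over S) (fst snd : W ⟶ T), IsPullback ((yon S).map fst) ((yon S).map snd) a b ∧
        P (prod.lift fst snd).left) :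
    RepWith P (Limits.diag F) := by
  haveI : P.RespectsIso := MorphismProperty.IsStableUnderBaseChange.respectsIso
  refine MorphismProperty.relative.of_exists (fun T c => ?_)
  obtain ⟨W, fst, snd, sq, hP⟩ := h (c ≫ prod.fst) (c ≫ prod.snd)
  have hc : c = prod.lift (c ≫ prod.fst) (c ≫ prod.snd) := by
    ext
    · rw [prod.lift_fst]
    · rw [prod.lift_snd]
  have sqD := isPullback_diag_of_isPullback sq
  rw [← hc] at sqD
  refine ⟨_, _, pullback.snd (prod.lift fst snd) (Limits.diag T), sqD, ?_⟩
  · have sqL := (IsPullback.of_hasPullback (prod.lift fst snd) (Limits.diag T)).map (Over.forget S)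
    exact P.of_isPullback sqL hP

/-- The second projection of a product in `Over S` is a base change of the first structure map. -/
theorem prod_snd_left_of (P : MorphismProperty Scheme.{u}) [P.IsStableUnderBaseChange]
    (U T : Over S) (h : P U.hom) : P (prod.snd : U ⨯ T ⟶ T).left := by
  haveI : P.RespectsIso := MorphismProperty.IsStableUnderBaseChange.respectsIso
  rw [← Over.prodLeftIsoPullback_hom_snd, P.cancel_left_of_respectsIso]
  exact P.pullback_snd _ _ h

/-- The first projection of a product in `Over S` is a base change of the second structure map. -/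
theorem prod_fst_left_of (P : MorphismProperty Scheme.{u}) [P.IsStableUnderBaseChange]
    (U T : Over S) (h : P T.hom) : P (prod.fst : U ⨯ T ⟶ U).left := by
  haveI : P.RespectsIso := MorphismProperty.IsStableUnderBaseChange.respectsIso
  rw [← Over.prodLeftIsoPullback_hom_fst, P.cancel_left_of_respectsIso]
  exact P.pullback_fst _ _ h

/-- For a sheaf with representable diagonal, `U ×_X V ⟶ U ×_S V` is a monomorphism. -/
theorem mono_prod_lift_left {X : Sp S} (hX : Representable (Limits.diag X)) {U V W : Over S}
    {a : (yon S).obj U ⟶ X} {b : (yon S).obj V ⟶ X} {fst : W ⟶ U} {snd : W ⟶ V}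
    (sq : IsPullback ((yon S).map fst) ((yon S).map snd) a b) : Mono (prod.lift fst snd).left :=
  prod_lift_of_repWith_diag (repWith_monomorphisms_of_mono (Limits.diag X) hX) sq

/-- If `U ⟶ S` has `P` and `P` holds for monomorphisms, is stable under composition and base
change, then the projection `U ×_X V ⟶ V` has `P`. -/
theorem snd_left_of_hom {X : Sp S} (hX : Representable (Limits.diag X))
    (P : MorphismProperty Scheme.{u}) [P.IsStableUnderBaseChange] [P.IsStableUnderComposition]
    (hP : monomorphisms Scheme.{u} ≤ P) {U V W : Over S}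
    {a : (yon S).obj U ⟶ X} {b : (yon S).obj V ⟶ X} {fst : W ⟶ U} {snd : W ⟶ V}
    (sq : IsPullback ((yon S).map fst) ((yon S).map snd) a b) (hU : P U.hom) : P snd.left := by
  have e : snd.left = (prod.lift fst snd).left ≫ (prod.snd : U ⨯ V ⟶ V).left := by
    rw [← Over.comp_left, prod.lift_snd]
  rw [e]
  exact P.comp_mem _ _ (hP _ (mono_prod_lift_left hX sq)) (prod_snd_left_of P U V hU)

end Groth.Agent.Helper15
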