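import Groth.Agent.Lib.Helper15.AlgSpLocPListed
import Groth.Agent.Lib.Helper15.AlgSpUnram

set_option autoImplicit false
universe u
open CategoryTheory CategoryTheory.Limits AlgebraicGeometry MorphismProperty Opposite
open AlgSp Groth.Agent.Helper16.AS

namespace Groth.Agent.Helper15
variable {S : Scheme.{u}}

theorem isEtaleMor_of_repWith_etale {F G : Sp S} (f : F ⟶ G) (hf : RepWith @Etale f) :
    IsEtaleMor f := fun _ φ hφ => (RepWith @Etale).comp_mem _ _ hφ hf

theorem isEtCover_single {X : Sp S} {U : Over S} (φ : (yon S).obj U ⟶ X) (hφ : RepWith @Etale φ)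
    (hφs : RepWith @Surjective φ) :
    IsEtCover (fun _ : PUnit.{u + 1} => (yon S).obj U) (fun _ => φ) :=
  ⟨fun _ => isEtaleMor_of_repWith_etale φ hφ, fun x => ⟨PUnit.unit,
    isSurjectiveMor_of_repWith_surjective φ hφs x⟩⟩

/-- S9950-like: `LocP P` can be checked after precomposition with one etale surjective chart. -/
theorem locP_of_source_chart {P : MorphismProperty Scheme.{u}}
    [IsZariskiLocalAtSource P] [P.IsStableUnderComposition]
    (hle : (@Etale : MorphismProperty Scheme.{u}) ≤ P) (hsrc : SrcEtLoc P)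
    {X Y : Sp S} (hX : IsAlgSpace X) (hY : IsAlgSpace Y) (f : X ⟶ Y) {U : Over S}
    (φ : (yon S).obj U ⟶ X) (hφ : RepWith @Etale φ) (hφs : RepWith @Surjective φ)
    (h : LocP P (φ ≫ f)) : LocP P f :=
  ((isLocalOnSource_et_locP_of_srcEtLoc hle hsrc) (fun _ : PUnit.{u + 1} => (yon S).obj U)
    (fun _ => φ) hX (fun _ => IsAlgSpace.yon_obj U) (isEtCover_single φ hφ hφs) f hY).2 (fun _ => h)

/-- S10208. -/
theorem isEtaleMor_of_chart_square {X Y : Sp S} (hX : IsAlgSpace X) (hY : IsAlgSpace Y) (f : X ⟶ Y)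
    {U V : Over S} (a : (yon S).obj U ⟶ X) (ha : RepWith @Etale a) (has : RepWith @Surjective a)
    (b : (yon S).obj V ⟶ Y) (hb : RepWith @Etale b) (h : U ⟶ V) (hh : Etale h.left)
    (w : a ≫ f = (yon S).map h ≫ b) : IsEtaleMor f := by
  apply isEtaleMor_of_locP_etale hY
  refine locP_of_source_chart goodP_etale.etale_le srcEtLoc_etale hX hY f a ha has ?_
  rw [w]
  exact locP_of_repWith le_rfl _ ((RepWith @Etale).comp_mem _ _ ((repWith_yon_map_iff _ h).2 hh) hb)

/-- S10209. -/
theorem isEtaleMor_of_isPullback {X Y Z P : Sp S} (hX : IsAlgSpace X) (hY : IsAlgSpace Y)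
    (hZ : IsAlgSpace Z) (f : X ⟶ Y) (g : Z ⟶ Y) (fst : P ⟶ Z) (snd : P ⟶ X)
    (h : IsPullback fst snd g f) (hf : IsEtaleMor f) : IsEtaleMor fst := by
  apply isEtaleMor_of_locP_etale hZ
  exact locP_of_isPullback goodP_etale srcEtLoc_etale hX hY hZ h.flip
    (locP_etale_of_isEtaleMor hY f hf)

/-- S10212. -/
theorem repWith_etale_of_comp_surjective_etale {X : Sp S} (hX : IsAlgSpace X) {U U' : Over S}
    (χ : U ⟶ U') (hχ : Etale χ.left) (hχs : Surjective χ.left) (φ' : (yon S).obj U' ⟶ X)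
    (h : RepWith @Etale ((yon S).map χ ≫ φ')) : RepWith @Etale φ' := by
  refine repWith_of_locP goodP_etale hX φ' (hX.representable_from_yon _) ?_
  exact locP_of_source_chart goodP_etale.etale_le srcEtLoc_etale (IsAlgSpace.yon_obj U') hX φ'
    ((yon S).map χ) ((repWith_yon_map_iff _ χ).2 hχ) ((repWith_yon_map_iff _ χ).2 hχs)
    (locP_of_repWith le_rfl _ h)

end Groth.Agent.Helper15
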