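import Groth.Agent.Lib.Helper15.AlgSpRedStalk
import Groth.Prelude.Def_AlgSpOX

set_option autoImplicit false
set_option linter.style.haveILetI false
universe u
open CategoryTheory CategoryTheory.Limits AlgebraicGeometry MorphismProperty Opposite
open AlgSp

namespace Groth.Agent.Helper15
variable {S : Scheme.{u}} {X : Sp S}

/-- Every scheme étale over a reduced algebraic space is reduced. -/
theorem isReduced_of_isReducedSp (hX : IsAlgSpace X) (hred : IsReducedSp X) (E : EtOver X) :
    IsReduced E.obj.left.left := by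
  have h := (isReducedSp_iff_forall_hasAt hX).1 hred
  refine @isReduced_of_isReduced_stalk E.obj.left.left (fun e => ?_)
  exact hasAt_forall_chart etInv_isReduced_stalk _ (h (Points.ofPt E.obj.hom e)) E.obj.left
    E.obj.hom e E.property rfl

theorem gsectEt_ext (f g : ↥(gsectEt (OEt X)))
    (h : ∀ E : EtOver X, (limit.π (OEt X).obj (op E)) f = (limit.π (OEt X).obj (op E)) g) :
    f = g := by
  apply Concrete.limit_ext (OEt X).obj f g
  rintro ⟨E⟩
  exact h E

theorem gsectEt_isReduced (hX : IsAlgSpace X) (hred : IsReducedSp X) :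
    _root_.IsReduced ↥(gsectEt (OEt X)) := by
  refine ⟨fun f hf => ?_⟩
  apply gsectEt_ext
  intro E
  haveI := isReduced_of_isReducedSp hX hred E
  have h1 : IsNilpotent ((limit.π (OEt X).obj (op E)) f) := hf.map (limit.π (OEt X).obj (op E)).hom
  have h2 : IsNilpotent (((limit.π (OEt X).obj (op E)) f).down : Γ(E.obj.left.left, ⊤)) :=
    h1.map (ULift.ringEquiv.{u, u + 1} (R := Γ(E.obj.left.left, ⊤)))
  have h3 : (((limit.π (OEt X).obj (op E)) f).down : Γ(E.obj.left.left, ⊤)) = 0 :=
    (inferInstance : _root_.IsReduced Γ(E.obj.left.left, ⊤)).eq_zero _ h2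
  rw [map_zero]
  exact ULift.ext _ _ h3

theorem gsectEt_eq_zero_of_basicOpen (hX : IsAlgSpace X) (hred : IsReducedSp X)
    (f : ↥(gsectEt (OEt X)))
    (h : ∀ E : EtOver X,
      E.obj.left.left.basicOpen ((limit.π (OEt X).obj (op E)) f).down = ⊥) : f = 0 := by
  apply gsectEt_ext
  intro E
  haveI := isReduced_of_isReducedSp hX hred E
  have h3 : (((limit.π (OEt X).obj (op E)) f).down : Γ(E.obj.left.left, ⊤)) = 0 :=
    (@basicOpen_eq_bot_iff E.obj.left.left _ ⊤ _).1 (h E)
  rw [map_zero]
  exact ULift.ext _ _ h3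

end Groth.Agent.Helper15
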