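import Groth.Agent.Lib.Helper15.AlgSpEtOverOpen
import Groth.Prelude.Def_ModSite

set_option autoImplicit false
set_option linter.style.haveILetI false
universe u
open CategoryTheory CategoryTheory.Limits AlgebraicGeometry MorphismProperty Opposite
open AlgSp

namespace Groth.Agent.Helper15
variable {S : Scheme.{u}} {X : Sp S}

theorem isUnit_of_basicOpen_eq_top {Y : Scheme.{u}} (r : Γ(Y, ⊤)) (h : Y.basicOpen r = ⊤) :
    IsUnit r :=
  Y.toRingedSpace.isUnit_of_isUnit_germ ⊤ r (fun x _ => (Y.mem_basicOpen_top r x).1 (by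
    rw [h]; trivial))

theorem isUnit_appTop_of_range_subset {Y Z : Scheme.{u}} (h : Y ⟶ Z) (f0 : Γ(Z, ⊤))
    (hr : Set.range h ⊆ (Z.basicOpen f0 : Set Z)) : IsUnit (h.appTop f0) := by
  apply isUnit_of_basicOpen_eq_top
  rw [← Scheme.preimage_basicOpen_top]
  ext y
  simp only [TopologicalSpace.Opens.coe_top, Set.mem_univ, iff_true]
  exact hr ⟨y, rfl⟩

theorem mem_basicOpen_or_mem_basicOpen_one_sub {Z : Scheme.{u}} (f0 : Γ(Z, ⊤)) (x : Z) :
    x ∈ Z.basicOpen f0 ∨ x ∈ Z.basicOpen (1 - f0) := by
  rw [Z.mem_basicOpen_top, Z.mem_basicOpen_top]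
  apply IsLocalRing.isUnit_or_isUnit_of_add_one
  rw [← map_add, add_sub_cancel, map_one]

theorem isEmpty_of_subsingleton_top {Y : Scheme.{u}} (h : (0 : Γ(Y, ⊤)) = 1) : IsEmpty Y := by
  refine ⟨fun y => ?_⟩
  have h1 := congrArg (Y.presheaf.germ ⊤ y trivial).hom h
  rw [map_zero, map_one] at h1
  exact zero_ne_one h1

theorem isUnit_ulift_up {R : Type u} [CommRing R] {a : R} (h : IsUnit a) :
    IsUnit (ULift.up.{u + 1} a) :=
  h.map (ULift.ringEquiv.{u, u + 1} (R := R)).symm

theorem oEt_isLocallyRinged (X : Sp S) : ModSite.IsLocallyRinged (etTop X) (OEt X) := by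
  constructor
  · intro U f
    let f0 : Γ(U.obj.left.left, ⊤) := f.down
    let O : Bool → U.obj.left.left.Opens := fun b =>
      cond b (U.obj.left.left.basicOpen f0) (U.obj.left.left.basicOpen (1 - f0))
    refine ⟨Sieve.ofArrows (fun b => etOverOpen U (O b)) (fun b => etOverOpenι U (O b)),
      ofArrows_mem_etTop _ _ (fun x => ?_), ?_⟩
    · rcases mem_basicOpen_or_mem_basicOpen_one_sub f0 x with hx | hx
      · refine ⟨true, ?_⟩
        rw [range_etOverOpenι]; exact hx
      · refine ⟨false, ?_⟩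
        rw [range_etOverOpenι]; exact hx
    · rintro V g ⟨V', k, _, ⟨b⟩, rfl⟩
      have hrange : Set.range (k ≫ etOverOpenι U (O b)).hom.left.left ⊆
          ((O b : U.obj.left.left.Opens) : Set ↥U.obj.left.left) := by
        rintro _ ⟨v, rfl⟩
        rw [← range_etOverOpenι U (O b)]
        exact ⟨k.hom.left.left v, rfl⟩
      cases b with
      | true =>
        left
        exact isUnit_ulift_up (isUnit_appTop_of_range_subset _ f0 hrange)
      | false =>
        right
        exact isUnit_ulift_up (isUnit_appTop_of_range_subset _ (1 - f0) hrange)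
  · intro U h
    have h0 : (0 : Γ(U.obj.left.left, ⊤)) = 1 := congrArg ULift.down h
    haveI := isEmpty_of_subsingleton_top h0
    have hmem := ofArrows_mem_etTop (X := X) (E := U) (ι := PEmpty.{1}) (fun i => i.elim)
      (fun i => i.elim) (fun x => (IsEmpty.false x).elim)
    refine (etTop X).superset_covering ?_ hmem
    rw [Sieve.generate_le_iff, Presieve.ofArrows_le_iff]
    intro i
    exact i.elim

end Groth.Agent.Helper15
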