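import Groth.Agent.Lib.Helper15.AlgSpEtOverPb

set_option autoImplicit false
set_option linter.style.haveILetI false
universe u
open CategoryTheory CategoryTheory.Limits AlgebraicGeometry MorphismProperty Opposite
open AlgSp

namespace Groth.Agent.Helper15
variable {S : Scheme.{u}} {X : Sp S}

/-- The open subscheme `O ⊆ U` as a scheme over `S`. -/
noncomputable abbrev etOverOpenOver (U : EtOver X) (O : U.obj.left.left.Opens) : Over S :=
  Over.mk (O.ι ≫ U.obj.left.hom)

noncomputable abbrev etOverOpenιOver (U : EtOver X) (O : U.obj.left.left.Opens) :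
    etOverOpenOver U O ⟶ U.obj.left := Over.homMk O.ι rfl

/-- An open subscheme of an object of the small étale site, as an object of the site. -/
noncomputable def etOverOpen (U : EtOver X) (O : U.obj.left.left.Opens) : EtOver X :=
  EtOver.mk ((yon S).map (etOverOpenιOver U O) ≫ U.obj.hom)
    ((RepWith @Etale).comp_mem _ _
      ((repWith_yon_map_iff _ _).2 (inferInstance : Etale O.ι)) U.property)

noncomputable def etOverOpenι (U : EtOver X) (O : U.obj.left.left.Opens) : etOverOpen U O ⟶ U :=
  EtOver.homMk (etOverOpenιOver U O) rfl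

theorem etOverOpenι_left (U : EtOver X) (O : U.obj.left.left.Opens) :
    (etOverOpenι U O).hom.left.left = O.ι := rfl

theorem range_etOverOpenι (U : EtOver X) (O : U.obj.left.left.Opens) :
    Set.range (etOverOpenι U O).hom.left.left = (O : Set ↥U.obj.left.left) := by
  rw [etOverOpenι_left]
  exact Scheme.Opens.range_ι O

theorem range_ofPt_etOverOpen (U : EtOver X) (O : U.obj.left.left.Opens) :
    Set.range (Points.ofPt (etOverOpen U O).obj.hom) =
      Points.ofPt U.obj.hom '' (O : Set ↥U.obj.left.left) := by
  ext x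
  constructor
  · rintro ⟨t, rfl⟩
    refine ⟨O.ι t, t.2, ?_⟩
    change _ = Points.ofPt ((yon S).map (etOverOpenιOver U O) ≫ U.obj.hom) t
    rw [ofPt_comp_yon_map]
    rfl
  · rintro ⟨t, ht, rfl⟩
    refine ⟨⟨t, ht⟩, ?_⟩
    change Points.ofPt ((yon S).map (etOverOpenιOver U O) ≫ U.obj.hom) _ = _
    rw [ofPt_comp_yon_map]
    rfl

end Groth.Agent.Helper15
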