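import Groth.Agent.Lib.Helper15.AlgSpEtStalkElt2
import Mathlib.AlgebraicGeometry.PullbackCarrier

set_option autoImplicit false
set_option linter.style.haveILetI false
universe u
open CategoryTheory CategoryTheory.Limits AlgebraicGeometry MorphismProperty Opposite
open AlgSp

namespace Groth.Agent.Helper15
variable {S : Scheme.{u}} {X : Sp S}

section FibreProduct
variable {U V V' : EtOver X} (φ : V ⟶ U) (ψ : V' ⟶ U)

theorem etOverPb_isPullback_left :
    IsPullback (pullback.fst φ.hom.left ψ.hom.left).left (pullback.snd φ.hom.left ψ.hom.left).left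
      φ.hom.left.left ψ.hom.left.left :=
  (IsPullback.of_hasPullback φ.hom.left ψ.hom.left).map (Over.forget S)

theorem etOverPb_fst_etale : Etale (pullback.fst φ.hom.left ψ.hom.left).left :=
  (inferInstance : IsStableUnderBaseChange @Etale).of_isPullback
    (etOverPb_isPullback_left φ ψ).flip (EtOver.etale_left ψ)

/-- The fibre product `V ×_U V'` in the small étale site. -/
noncomputable def etOverPb : EtOver X :=
  EtOver.mk ((yon S).map (pullback.fst φ.hom.left ψ.hom.left) ≫ V.obj.hom)
    ((RepWith @Etale).comp_mem _ _ ((repWith_yon_map_iff _ _).2 (etOverPb_fst_etale φ ψ))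
      V.property)

noncomputable def etOverPbFst : etOverPb φ ψ ⟶ V :=
  EtOver.homMk (pullback.fst φ.hom.left ψ.hom.left) rfl

noncomputable def etOverPbSnd : etOverPb φ ψ ⟶ V' :=
  EtOver.homMk (pullback.snd φ.hom.left ψ.hom.left) (by
    change _ = (yon S).map (pullback.fst φ.hom.left ψ.hom.left) ≫ V.obj.hom
    rw [← EtOver.w φ, ← EtOver.w ψ, ← Category.assoc, ← Category.assoc, ← Functor.map_comp,
      ← Functor.map_comp, pullback.condition]
    rfl)

theorem etOverPb_condition : etOverPbFst φ ψ ≫ φ = etOverPbSnd φ ψ ≫ ψ := by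
  apply EtOver.hom_ext
  exact pullback.condition

theorem etOverPb_exists_point (v : ↥V.obj.left.left) (v' : ↥V'.obj.left.left)
    (h : φ.hom.left.left v = ψ.hom.left.left v') :
    ∃ q : ↥(etOverPb φ ψ).obj.left.left,
      (etOverPbFst φ ψ).hom.left.left q = v ∧ (etOverPbSnd φ ψ).hom.left.left q = v' :=
  Scheme.exists_preimage_of_isPullback (etOverPb_isPullback_left φ ψ) v v' h

end FibreProduct

/-- Separatedness of abelian sheaves for jointly surjective families. -/
theorem abEt_eq_zero_of_cover (F : AbEt X) {E : EtOver X} {ι : Type*} (Y : ι → EtOver X)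
    (g : ∀ i, Y i ⟶ E) (hcov : ∀ x : ↥E.obj.left.left, ∃ i, x ∈ Set.range (g i).hom.left.left)
    (s : ↥(F.obj.obj (op E))) (h : ∀ i, (F.obj.map (g i).op).hom s = 0) : s = 0 := by
  have h1 : Presheaf.IsSheaf (etTop X) (F.obj ⋙ forget AddCommGrpCat.{u + 1}) :=
    GrothendieckTopology.HasSheafCompose.isSheaf F.obj F.property
  have h2 := (isSheaf_iff_isSheaf_of_type _ _).1 h1
  have hmem := ofArrows_mem_etTop Y g hcov
  refine (h2 _ hmem).isSeparatedFor.ext ?_
  rintro Z f ⟨Z', k, _, ⟨i⟩, rfl⟩
  change (F.obj.map (k ≫ g i).op).hom s = (F.obj.map (k ≫ g i).op).hom 0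
  rw [op_comp, Functor.map_comp]
  change (F.obj.map k.op).hom ((F.obj.map (g i).op).hom s) = _
  rw [h i, map_zero, map_zero]

end Groth.Agent.Helper15
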