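import Groth.Agent.Lib.Helper15.AlgSpEtPoint

set_option autoImplicit false
set_option linter.style.haveILetI false
universe u
open CategoryTheory CategoryTheory.Limits AlgebraicGeometry MorphismProperty Opposite
open AlgSp

namespace Groth.Agent.Helper15
variable {S : Scheme.{u}}

/-- The field-valued point defined by a morphism `Spec K ⟶ T` and `g : h_T ⟶ F`. -/
noncomputable def fieldPtOfSpec {F : Sp S} (K : Type u) [Field K] {T : Over S}
    (j : Spec (CommRingCat.of K) ⟶ T.left) (g : (yon S).obj T ⟶ F) : FieldPt F where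
  K := K
  str := j ≫ T.hom
  val := g.hom.app (op (Over.mk (j ≫ T.hom))) ⟨Over.homMk j rfl⟩

theorem fieldPtOfSpec_toHom {F : Sp S} (K : Type u) [Field K] {T : Over S}
    (j : Spec (CommRingCat.of K) ⟶ T.left) (g : (yon S).obj T ⟶ F) :
    (fieldPtOfSpec K j g).toHom =
      (yon S).map (Over.homMk j rfl : (fieldPtOfSpec K j g).pt ⟶ T) ≫ g := by
  apply (J S).uliftYonedaEquiv.injective
  rw [FieldPt.uliftYonedaEquiv_toHom, GrothendieckTopology.uliftYonedaEquiv_comp,
    GrothendieckTopology.uliftYonedaEquiv_uliftYoneda_map]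
  rfl

/-- Every point of a scheme mapping to a sheaf is the image of a lift of a geometric point. -/
theorem exists_geometric_point_over {F : Sp S} {T : Over S} (g : (yon S).obj T ⟶ F)
    (t : ↥T.left) :
    ∃ (p : FieldPt F) (_ : p.IsGeometric) (l : p.pt ⟶ T),
      (yon S).map l ≫ g = p.toHom ∧ l.left (IsLocalRing.closedPoint p.K) = t := by
  let K := AlgebraicClosure (T.left.residueField t)
  let j : Spec (CommRingCat.of K) ⟶ T.left :=
    Spec.map (CommRingCat.ofHom (algebraMap (T.left.residueField t) K)) ≫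
      T.left.fromSpecResidueField t
  refine ⟨fieldPtOfSpec K j g, (inferInstance : IsAlgClosed K), Over.homMk j rfl,
    (fieldPtOfSpec_toHom K j g).symm, ?_⟩
  change j (IsLocalRing.closedPoint K) = t
  rw [Scheme.Hom.comp_apply, Scheme.fromSpecResidueField_apply]


/-- The family of points of the small étale site given by the geometric points. -/
def etPointFamily {X : Sp S} (hX : IsAlgSpace X) :
    ObjectProperty (GrothendieckTopology.Point.{u + 1} (etTop X)) :=
  fun Φ => ∃ (p : FieldPt X) (hp : p.IsGeometric), Φ = etPoint hX p hp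

set_option backward.isDefEq.respectTransparency false in
open GrothendieckTopology.Point.ofIsCofiltered in
/-- If an element `fiberMk a ≫ g` of the fibre agrees with the identity neighbourhood, the point of
the neighbourhood is in the range of `g`. -/
theorem mem_range_of_fiberMk_eq {X : Sp S} (hX : IsAlgSpace X) (p : FieldPt X)
    (hp : p.IsGeometric) (N : EtNbhd p) {Y : EtOver X} (g : Y ⟶ N.1) (V : EtNbhd p)
    (a : (EtNbhd.toEtOver p).obj V ⟶ Y)
    (h : fiberMk.{u + 1} (p := EtNbhd.toEtOver p) (U := V) (a ≫ g) =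
      fiberMk.{u + 1} (p := EtNbhd.toEtOver p) (U := N) (𝟙 N.1)) :
    N.2.1.left (IsLocalRing.closedPoint p.K) ∈ Set.range g.hom.left.left := by
  haveI := isCofiltered_etNbhd hX p hp
  let W0 := IsCofiltered.min V N
  let r0 : W0 ⟶ V := IsCofiltered.minToLeft V N
  let s0 : W0 ⟶ N := IsCofiltered.minToRight V N
  have h1 : fiberMk.{u + 1} (p := EtNbhd.toEtOver p) ((EtNbhd.toEtOver p).map r0 ≫ (a ≫ g)) =
      fiberMk.{u + 1} (p := EtNbhd.toEtOver p) ((EtNbhd.toEtOver p).map s0) := by
    rw [fiberMk_map_comp, fiberMk_map, h]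
    rfl
  obtain ⟨W, t, ht⟩ := exists_of_fiberMk_eq_fiberMk h1
  have hw : W.2.1 ≫ (t ≫ s0).1.hom.left = N.2.1 := congrArg Subtype.val (t ≫ s0).2
  have ht' : (t ≫ s0).1 = ((EtNbhd.toEtOver p).map t ≫ (EtNbhd.toEtOver p).map r0 ≫ a) ≫ g := by
    have : (t ≫ s0).1 = (EtNbhd.toEtOver p).map t ≫ (EtNbhd.toEtOver p).map s0 := rfl
    rw [this, ← ht, Category.assoc, Category.assoc]
  refine ⟨((EtNbhd.toEtOver p).map t ≫ (EtNbhd.toEtOver p).map r0 ≫ a).hom.left.left
    (W.2.1.left (IsLocalRing.closedPoint p.K)), ?_⟩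
  rw [← hw, ht']
  rfl

theorem etPointFamily_isConservative {X : Sp S} (hX : IsAlgSpace X) :
    (etPointFamily hX).IsConservativeFamilyOfPoints := by
  refine ObjectProperty.IsConservativeFamilyOfPoints.mk' (fun E T hT => ?_)
  have key : ∀ x : ↥E.obj.left.left, ∃ (Y : EtOver X) (g : Y ⟶ E), T g ∧
      x ∈ Set.range g.hom.left.left := by
    intro x
    obtain ⟨p, hp, l, hl1, hl2⟩ := exists_geometric_point_over E.obj.hom x
    haveI := isCofiltered_etNbhd hX p hp
    let N : EtNbhd p := ⟨E, ⟨l, hl1⟩⟩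
    obtain ⟨Y, g, hg, y, hy⟩ := hT ⟨etPoint hX p hp, ⟨p, hp, rfl⟩⟩
      (GrothendieckTopology.Point.ofIsCofiltered.fiberMk.{u + 1} (p := EtNbhd.toEtOver p)
        (U := N) (𝟙 E))
    obtain ⟨V, a, rfl⟩ := GrothendieckTopology.Point.ofIsCofiltered.fiberMk_jointly_surjective y
    have h2 := mem_range_of_fiberMk_eq hX p hp N g V a (by
      rw [← GrothendieckTopology.Point.ofIsCofiltered.fiber_map_fiberMk]; exact hy)
    exact ⟨Y, g, hg, hl2 ▸ h2⟩
  choose Y g hg hx using key
  refine (etTop X).superset_covering ?_ (ofArrows_mem_etTop Y g (fun x => ⟨x, hx x⟩))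
  rw [Sieve.generate_le_iff, Presieve.ofArrows_le_iff]
  exact hg

end Groth.Agent.Helper15
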