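import Groth.Agent.Lib.Helper15.AlgSpEtPoint2

set_option autoImplicit false
set_option linter.style.haveILetI false
universe v' u' u
open CategoryTheory CategoryTheory.Limits AlgebraicGeometry MorphismProperty Opposite
open AlgSp

namespace Groth.Agent.Helper15
variable {S : Scheme.{u}}

section
variable {C : Type*} [Category C] {D : Type*} [Category D] {F F' : C ⥤ D} (e : F ≅ F')
include e

theorem mono_map_iff_of_natIso {X Y : C} (f : X ⟶ Y) : Mono (F.map f) ↔ Mono (F'.map f) := by
  constructor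
  · intro h
    rw [← NatIso.naturality_1 e f]
    infer_instance
  · intro h
    rw [← NatIso.naturality_1 e.symm f]
    infer_instance

theorem epi_map_iff_of_natIso {X Y : C} (f : X ⟶ Y) : Epi (F.map f) ↔ Epi (F'.map f) := by
  constructor
  · intro h
    rw [← NatIso.naturality_1 e f]
    infer_instance
  · intro h
    rw [← NatIso.naturality_1 e.symm f]
    infer_instance

end

section
variable {X : Sp S} (hX : IsAlgSpace X)
variable (A : Type u') [Category.{v'} A] [HasColimitsOfSize.{u + 1, u + 1} A]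
  {FC : A → A → Type*} {CC : A → Type (u + 1)}
  [∀ (X Y : A), FunLike (FC X Y) (CC X) (CC Y)]
  [ConcreteCategory.{u + 1} A FC]
  [h1 : (forget A).ReflectsIsomorphisms]
  [h2 : PreservesFilteredColimitsOfSize.{u + 1, u + 1} (forget A)]
  [h3 : (etTop X).HasSheafCompose (forget A)]

include hX h1 h2 h3 in
theorem isIso_iff_stalk {F G : EtSh X A} (a : F ⟶ G)
    [∀ p : FieldPt X, HasColimitsOfShape (EtNbhd p)ᵒᵖ A] :
    IsIso a ↔ ∀ p : FieldPt X, p.IsGeometric → IsIso ((stalkEtFunctor A p).map a) := by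
  refine (((etPointFamily_isConservative hX).jointlyReflectIsomorphisms A).isIso_iff a).trans ?_
  constructor
  · intro h p hp
    exact (NatIso.isIso_map_iff (etPointSheafFiberIso hX p hp) a).1
      (h ⟨etPoint hX p hp, ⟨p, hp, rfl⟩⟩)
  · rintro h ⟨Φ, p, hp, rfl⟩
    exact (NatIso.isIso_map_iff (etPointSheafFiberIso hX p hp) a).2 (h p hp)

include hX h1 h2 h3 in
theorem mono_iff_stalk [AB5OfSize.{u + 1, u + 1} A] [HasFiniteLimits A] {F G : EtSh X A}
    (a : F ⟶ G) [∀ p : FieldPt X, HasColimitsOfShape (EtNbhd p)ᵒᵖ A] :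
    Mono a ↔ ∀ p : FieldPt X, p.IsGeometric → Mono ((stalkEtFunctor A p).map a) := by
  refine (((etPointFamily_isConservative hX).jointlyReflectMonomorphisms A).mono_iff a).trans ?_
  constructor
  · intro h p hp
    exact (mono_map_iff_of_natIso (etPointSheafFiberIso hX p hp) a).1
      (h ⟨etPoint hX p hp, ⟨p, hp, rfl⟩⟩)
  · rintro h ⟨Φ, p, hp, rfl⟩
    exact (mono_map_iff_of_natIso (etPointSheafFiberIso hX p hp) a).2 (h p hp)

include hX h1 h2 h3 in
theorem epi_iff_stalk [HasWeakSheafify (etTop X) A] [HasProducts.{u + 1} A] {F G : EtSh X A}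
    (a : F ⟶ G) [∀ p : FieldPt X, HasColimitsOfShape (EtNbhd p)ᵒᵖ A] :
    Epi a ↔ ∀ p : FieldPt X, p.IsGeometric → Epi ((stalkEtFunctor A p).map a) := by
  refine (((etPointFamily_isConservative hX).jointlyReflectEpimorphisms A).epi_iff a).trans ?_
  constructor
  · intro h p hp
    exact (epi_map_iff_of_natIso (etPointSheafFiberIso hX p hp) a).1
      (h ⟨etPoint hX p hp, ⟨p, hp, rfl⟩⟩)
  · rintro h ⟨Φ, p, hp, rfl⟩
    exact (epi_map_iff_of_natIso (etPointSheafFiberIso hX p hp) a).2 (h p hp)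

end

end Groth.Agent.Helper15
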