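import Groth.Agent.Lib.Helper15.AlgSpEtPoint3
import Groth.Prelude.Def_AlgSpOX
import Mathlib.Algebra.Homology.ShortComplex.Ab

set_option autoImplicit false
set_option linter.style.haveILetI false
universe u
open CategoryTheory CategoryTheory.Limits AlgebraicGeometry MorphismProperty Opposite
open AlgSp

namespace Groth.Agent.Helper15
variable {S : Scheme.{u}} {X : Sp S}

theorem stalkEtFunctor_ab_preservesFiniteLimits (hX : IsAlgSpace X) (p : FieldPt X)
    (hp : p.IsGeometric) : PreservesFiniteLimits (stalkEtFunctor AddCommGrpCat.{u + 1} p) :=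
  preservesFiniteLimits_of_natIso (etPointSheafFiberIso (A := AddCommGrpCat.{u + 1}) hX p hp)

theorem stalkEtFunctor_ab_preservesFiniteColimits (hX : IsAlgSpace X) (p : FieldPt X)
    (hp : p.IsGeometric) : PreservesFiniteColimits (stalkEtFunctor AddCommGrpCat.{u + 1} p) :=
  preservesFiniteColimits_of_natIso (etPointSheafFiberIso (A := AddCommGrpCat.{u + 1}) hX p hp)

theorem stalkEtFunctor_ab_preservesZeroMorphisms (hX : IsAlgSpace X) (p : FieldPt X)
    (hp : p.IsGeometric) : (stalkEtFunctor AddCommGrpCat.{u + 1} p).PreservesZeroMorphisms :=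
  Functor.preservesZeroMorphisms_of_iso (etPointSheafFiberIso (A := AddCommGrpCat.{u + 1}) hX p hp)

theorem isZero_iff_stalk (hX : IsAlgSpace X) (H : AbEt X) :
    IsZero H ↔ ∀ p : FieldPt X, p.IsGeometric →
      IsZero ((stalkEtFunctor AddCommGrpCat.{u + 1} p).obj H) := by
  constructor
  · intro h p hp
    haveI := stalkEtFunctor_ab_preservesZeroMorphisms hX p hp
    exact (stalkEtFunctor AddCommGrpCat.{u + 1} p).map_isZero h
  · intro h
    have h1 : IsIso (0 : H ⟶ H) := by
      rw [isIso_iff_stalk hX AddCommGrpCat.{u + 1} (0 : H ⟶ H)]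
      intro p hp
      exact ⟨⟨0, (h p hp).eq_of_src _ _, (h p hp).eq_of_src _ _⟩⟩
    rw [IsZero.iff_id_eq_zero]
    exact (IsIso.hom_inv_id (0 : H ⟶ H)).symm.trans zero_comp

theorem exact_iff_stalk (hX : IsAlgSpace X) (C : ShortComplex (AbEt X)) :
    C.Exact ↔ ∀ (p : FieldPt X) (hp : p.IsGeometric),
      haveI := stalkEtFunctor_ab_preservesZeroMorphisms hX p hp
      (C.map (stalkEtFunctor AddCommGrpCat.{u + 1} p)).Exact := by
  rw [C.exact_iff_isZero_homology, isZero_iff_stalk hX]
  refine forall_congr' fun p => forall_congr' fun hp => ?_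
  haveI := stalkEtFunctor_ab_preservesZeroMorphisms hX p hp
  haveI := stalkEtFunctor_ab_preservesFiniteLimits hX p hp
  haveI := stalkEtFunctor_ab_preservesFiniteColimits hX p hp
  rw [(C.map (stalkEtFunctor AddCommGrpCat.{u + 1} p)).exact_iff_isZero_homology]
  exact (C.mapHomologyIso (stalkEtFunctor AddCommGrpCat.{u + 1} p)).isZero_iff.symm

/-- Elementwise form. -/
theorem exact_iff_stalk' (hX : IsAlgSpace X) (C : ShortComplex (AbEt X)) :
    C.Exact ↔ ∀ p : FieldPt X, p.IsGeometric →
      ∀ y : ↥((stalkEtFunctor AddCommGrpCat.{u + 1} p).obj C.X₂),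
        ((stalkEtFunctor AddCommGrpCat.{u + 1} p).map C.g) y = 0 →
          ∃ x : ↥((stalkEtFunctor AddCommGrpCat.{u + 1} p).obj C.X₁),
            ((stalkEtFunctor AddCommGrpCat.{u + 1} p).map C.f) x = y := by
  rw [exact_iff_stalk hX]
  refine forall_congr' fun p => forall_congr' fun hp => ?_
  haveI := stalkEtFunctor_ab_preservesZeroMorphisms hX p hp
  exact (C.map (stalkEtFunctor AddCommGrpCat.{u + 1} p)).ab_exact_iff

end Groth.Agent.Helper15
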