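import Groth.Agent.Lib.Helper15.AlgSpEtPoint
import Mathlib.AlgebraicGeometry.Sites.AffineEtale

set_option autoImplicit false
set_option linter.style.haveILetI false
universe u
open CategoryTheory CategoryTheory.Limits AlgebraicGeometry MorphismProperty Opposite
open AlgSp

namespace Groth.Agent.Helper15
variable {S : Scheme.{u}}

set_option backward.isDefEq.respectTransparency false in
/-- The category of étale neighbourhoods of a geometric point of an algebraic space is initially
small (in the universe of the base): affine étale schemes over a fixed atlas are weakly initial. -/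
theorem initiallySmall_etNbhd_u {X : Sp S} (hX : IsAlgSpace X) (p : FieldPt X)
    (hp : p.IsGeometric) : InitiallySmall.{u} (EtNbhd p) := by
  haveI := isCofiltered_etNbhd hX p hp
  obtain ⟨W, a, hae, has⟩ := hX.atlas
  obtain ⟨w, hw⟩ := surjective_ofPt a has (Points.mk p)
  obtain ⟨l, hl1, -⟩ := exists_lift_geometric_point_of_repWith_etale a hae p hp w hw
  let NW : EtNbhd p := ⟨EtOver.mk a hae, ⟨l, hl1⟩⟩
  refine initiallySmall_of_essentiallySmall_weakly_initial_objectProperty
    (Functor.Elements.precomp (Scheme.AffineEtale.Spec W.left ⋙ EtOver.ofChart a hae)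
      (FieldPt.liftsTo p)).essImage ?_
  intro N
  let Z : EtNbhd p := IsCofiltered.min N NW
  let r : Z ⟶ N := IsCofiltered.minToLeft N NW
  let g : Z ⟶ NW := IsCofiltered.minToRight N NW
  let z : p.pt ⟶ Z.1.obj.left := Z.2.1
  have hz : (yon S).map z ≫ Z.1.obj.hom = p.toHom := Z.2.2
  let gl : Z.1.obj.left ⟶ W := g.1.hom.left
  have hgl : (yon S).map gl ≫ a = Z.1.obj.hom := EtOver.w g.1
  haveI : Etale gl.left := EtOver.etale_left g.1
  obtain ⟨R, j, hj, hjr, -⟩ := Scheme.exists_affine_mem_range_and_range_subset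
    (x := z.left (IsLocalRing.closedPoint p.K)) (U := ⊤) (by simp)
  have hrange : Set.range z.left ⊆ Set.range j := by
    rintro _ ⟨s, rfl⟩
    have : s = IsLocalRing.closedPoint p.K :=
      @Subsingleton.elim ↥(Spec (CommRingCat.of p.K)) inferInstance _ _
    rw [this]; exact hjr
  let z' : Spec (CommRingCat.of p.K) ⟶ Spec R := IsOpenImmersion.lift j z.left hrange
  have hz' : z' ≫ j = z.left := IsOpenImmersion.lift_fac j z.left hrange
  let V : W.left.AffineEtale := Scheme.AffineEtale.mk (j ≫ gl.left)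
  let E' : EtOver X := (Scheme.AffineEtale.Spec W.left ⋙ EtOver.ofChart a hae).obj V
  have hE'hom : E'.obj.left.hom = (j ≫ gl.left) ≫ W.hom := rfl
  have hvw : z' ≫ E'.obj.left.hom = p.pt.hom := by
    rw [hE'hom, ← Category.assoc, ← Category.assoc, hz', Category.assoc, Over.w gl]
    exact Over.w z
  let v : p.pt ⟶ E'.obj.left := Over.homMk z' hvw
  let jO : E'.obj.left ⟶ Z.1.obj.left := Over.homMk j (by
    rw [hE'hom, Category.assoc, Over.w gl])
  have hvj : v ≫ jO = z := Over.OverMorphism.ext hz'
  have hjO : jO ≫ gl = EtOver.homOfEtale ((Scheme.AffineEtale.Spec W.left).obj V) :=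
    Over.OverMorphism.ext rfl
  have hE'obj : E'.obj.hom =
      (yon S).map (EtOver.homOfEtale ((Scheme.AffineEtale.Spec W.left).obj V)) ≫ a := rfl
  have hjw : (yon S).map jO ≫ Z.1.obj.hom = E'.obj.hom := by
    rw [hE'obj, ← hjO, Functor.map_comp, Category.assoc, hgl]
  have hv : (yon S).map v ≫ E'.obj.hom = p.toHom := by
    rw [← hjw, ← Category.assoc, ← Functor.map_comp, hvj]
    exact hz
  let m : E' ⟶ Z.1 := EtOver.homMk jO hjw
  let N' : EtNbhd p := ⟨E', ⟨v, hv⟩⟩
  have hm : (FieldPt.liftsTo p).map m N'.2 = Z.2 := Subtype.ext hvj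
  let mN : N' ⟶ Z := ⟨m, hm⟩
  refine ⟨N', ⟨Functor.elementsMk _ V ⟨v, hv⟩, ⟨Iso.refl _⟩⟩, ⟨mN ≫ r⟩⟩


/-- The point of the small étale site (in the universe of the base) defined by a geometric point,
with fibre functor `liftsTo p`. -/
noncomputable def etPointU {X : Sp S} (hX : IsAlgSpace X) (p : FieldPt X) (hp : p.IsGeometric) :
    GrothendieckTopology.Point.{u} (etTop X) where
  fiber := FieldPt.liftsTo p
  isCofiltered := isCofiltered_etNbhd hX p hp
  initiallySmall := initiallySmall_etNbhd_u hX p hp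
  jointly_surjective {E} R hR x := by
    obtain ⟨Y, g, hg, V, q, a, fac⟩ :=
      etNbhd_lift_of_mem_etTop hX p hp R hR (U := ⟨E, x⟩) (𝟙 E)
    refine ⟨Y, g, hg, (FieldPt.liftsTo p).map a V.2, ?_⟩
    have h1 : (FieldPt.liftsTo p).map g ((FieldPt.liftsTo p).map a V.2) =
        (FieldPt.liftsTo p).map (a ≫ g) V.2 := by
      rw [Functor.map_comp]; rfl
    have fac' : a ≫ g = (EtNbhd.toEtOver p).map q := fac.trans (Category.comp_id _)
    rw [h1, fac']
    exact q.2

theorem etPointU_fiber {X : Sp S} (hX : IsAlgSpace X) (p : FieldPt X) (hp : p.IsGeometric) :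
    (etPointU hX p hp).fiber = FieldPt.liftsTo p := rfl

end Groth.Agent.Helper15
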