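import Groth.Agent.Lib.Helper15.AlgSpEtOverPb

set_option autoImplicit false
set_option linter.style.haveILetI false
universe u
open CategoryTheory CategoryTheory.Limits AlgebraicGeometry MorphismProperty Opposite
open AlgSp

namespace Groth.Agent.Helper15
variable {S : Scheme.{u}} {X Y : Sp S}

theorem postcomp_comp_forget (f : X ⟶ Y) (hf : IsEtaleMor f) :
    EtOver.postcomp f hf ⋙ EtOver.forget Y = EtOver.forget X := rfl

instance etOver_forget_reflectsIsomorphisms (Y : Sp S) : (EtOver.forget Y).ReflectsIsomorphisms := by
  unfold EtOver.forget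
  infer_instance

instance postcomp_preservesPullbacks (f : X ⟶ Y) (hf : IsEtaleMor f) :
    PreservesLimitsOfShape WalkingCospan (EtOver.postcomp f hf) := by
  haveI : ReflectsLimitsOfShape WalkingCospan (EtOver.forget Y) :=
    reflectsLimitsOfShape_of_reflectsIsomorphisms
  haveI : PreservesLimitsOfShape WalkingCospan (EtOver.postcomp f hf ⋙ EtOver.forget Y) := by
    rw [postcomp_comp_forget]; infer_instance
  exact preservesLimitsOfShape_of_reflects_of_preserves (EtOver.postcomp f hf) (EtOver.forget Y)

theorem etPre_le_comap_postcomp (f : X ⟶ Y) (hf : IsEtaleMor f) :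
    etPre X ≤ (etPre Y).comap (EtOver.postcomp f hf) := by
  have h : (etPre Y).comap (EtOver.postcomp f hf) = etPre X := by
    unfold etPre
    rw [← Precoverage.comap_comp]
    rfl
  rw [h]

theorem postcomp_isContinuous (f : X ⟶ Y) (hf : IsEtaleMor f) :
    (EtOver.postcomp f hf).IsContinuous (etTop X) (etTop Y) := by
  unfold etTop
  exact Functor.isContinuous_toGrothendieck_of_pullbacksPreservedBy (EtOver.postcomp f hf)
    (etPre X) (etPre Y) (etPre_le_comap_postcomp f hf)


set_option backward.isDefEq.respectTransparency false in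
/-- Key step of cocontinuity: covering sieves of `Y_et` pull back to covering sieves of `X_et`. -/
theorem postcomp_cover_lift_aux (f : X ⟶ Y) (hf : IsEtaleMor f) {E' : EtOver Y} (T : Sieve E')
    (hT : T ∈ etTop Y E') :
    ∀ (U : EtOver X) (h : (EtOver.postcomp f hf).obj U ⟶ E'),
      (T.pullback h).functorPullback (EtOver.postcomp f hf) ∈ etTop X U := by
  change (etPre Y).Saturate E' T at hT
  induction hT with
  | of E' R hR =>
    intro U h
    obtain ⟨ι, Z, g, rfl⟩ := R.exists_eq_ofArrows
    rw [ofArrows_mem_etPre_iff] at hR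
    -- the fibre products, as objects of the small étale site of `X`
    let Q : ι → EtOver X := fun i =>
      EtOver.mk ((yon S).map (pullback.fst h.hom.left (g i).hom.left) ≫ U.obj.hom)
        ((RepWith @Etale).comp_mem _ _
          ((repWith_yon_map_iff _ _).2 (etOverPb_fst_etale h (g i))) U.property)
    let π : ∀ i, Q i ⟶ U := fun i => EtOver.homMk (pullback.fst h.hom.left (g i).hom.left) rfl
    have hcov : ∀ x : ↥U.obj.left.left, ∃ i, x ∈ Set.range (π i).hom.left.left := by
      intro x
      obtain ⟨i, z, hz⟩ := hR (h.hom.left.left x)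
      obtain ⟨q, hq1, -⟩ := etOverPb_exists_point h (g i) x z hz.symm
      exact ⟨i, q, hq1⟩
    refine (etTop X).superset_covering ?_ (ofArrows_mem_etTop Q π hcov)
    rw [Sieve.generate_le_iff, Presieve.ofArrows_le_iff]
    intro i
    change (Sieve.generate (Presieve.ofArrows Z g)).arrows ((EtOver.postcomp f hf).map (π i) ≫ h)
    have hw : (yon S).map (pullback.snd h.hom.left (g i).hom.left) ≫ (Z i).obj.hom =
        ((EtOver.postcomp f hf).obj (Q i)).obj.hom := by
      change _ = ((yon S).map (pullback.fst h.hom.left (g i).hom.left) ≫ U.obj.hom) ≫ f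
      have h1 : (yon S).map h.hom.left ≫ E'.obj.hom = U.obj.hom ≫ f := EtOver.w h
      rw [← EtOver.w (g i), ← Category.assoc, ← Functor.map_comp, ← pullback.condition,
        Functor.map_comp, Category.assoc, h1, Category.assoc]
    let m : (EtOver.postcomp f hf).obj (Q i) ⟶ Z i :=
      EtOver.homMk (pullback.snd h.hom.left (g i).hom.left) hw
    refine ⟨Z i, m, g i, Presieve.ofArrows.mk i, ?_⟩
    apply EtOver.hom_ext
    exact pullback.condition.symm
  | top E' =>
    intro U h
    exact (etTop X).top_mem' _
  | pullback E' T _ E'' k ih =>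
    intro U h
    have : (T.pullback k).pullback h = T.pullback (h ≫ k) := (Sieve.pullback_comp T).symm
    rw [this]
    exact ih U (h ≫ k)
  | transitive E' T R _ _ ih₁ ih₂ =>
    intro U h
    refine (etTop X).transitive (ih₁ U h) _ ?_
    intro U' k hk
    have hk' : T ((EtOver.postcomp f hf).map k ≫ h) := hk
    have := ih₂ hk' U' (𝟙 _)
    refine (etTop X).superset_covering ?_ this
    intro U'' m hm
    change R ((EtOver.postcomp f hf).map (m ≫ k) ≫ h)
    have hm' : R (((EtOver.postcomp f hf).map m ≫ 𝟙 _) ≫ (EtOver.postcomp f hf).map k ≫ h) := hm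
    rw [Category.comp_id, ← Category.assoc, ← Functor.map_comp] at hm'
    exact hm'

theorem postcomp_isCocontinuous (f : X ⟶ Y) (hf : IsEtaleMor f) :
    (EtOver.postcomp f hf).IsCocontinuous (etTop X) (etTop Y) where
  cover_lift {U} T hT := by
    have := postcomp_cover_lift_aux f hf T hT U (𝟙 _)
    rwa [Sieve.pullback_id] at this

end Groth.Agent.Helper15
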