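import Groth.Agent.Lib.Helper15.AlgSpEtPoint2
import Groth.Prelude.Def_AlgSpOX

set_option autoImplicit false
set_option linter.style.haveILetI false
universe w v' u' u
open CategoryTheory CategoryTheory.Limits AlgebraicGeometry MorphismProperty Opposite
open AlgSp

namespace Groth.Agent.Helper15
variable {S : Scheme.{u}} {X : Sp S}

theorem preservesColimitsOfShape_etNbhd_forget_ab (p : FieldPt X) [IsFiltered (EtNbhd p)ᵒᵖ] :
    PreservesColimitsOfShape (EtNbhd p)ᵒᵖ (forget AddCommGrpCat.{u + 1}) :=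
  haveI : PreservesFilteredColimitsOfSize.{u, u + 1} (forget AddCommGrpCat.{u + 1}) :=
    preservesFilteredColimitsOfSize_shrink.{u + 1, u + 1, u, u + 1} _
  PreservesFilteredColimitsOfSize.preserves_filtered_colimits _

theorem preservesColimitsOfShape_etNbhd_forget_commRing (p : FieldPt X)
    [IsFiltered (EtNbhd p)ᵒᵖ] :
    PreservesColimitsOfShape (EtNbhd p)ᵒᵖ (forget CommRingCat.{u + 1}) :=
  haveI : PreservesFilteredColimitsOfSize.{u, u + 1} (forget CommRingCat.{u + 1}) :=
    preservesFilteredColimitsOfSize_shrink.{u + 1, u + 1, u, u + 1} _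
  PreservesFilteredColimitsOfSize.preserves_filtered_colimits _

section
variable {A : Type u'} [Category.{v'} A] {FC : A → A → Type*} {CC : A → Type w}
  [∀ (X Y : A), FunLike (FC X Y) (CC X) (CC Y)] [ConcreteCategory.{w} A FC]

/-- Every element of the stalk of a presheaf comes from a section over an étale neighbourhood. -/
theorem stalkEtPsh_jointly_surjective (p : FieldPt X) [HasColimitsOfShape (EtNbhd p)ᵒᵖ A]
    [PreservesColimitsOfShape (EtNbhd p)ᵒᵖ (forget A)] (P : (EtOver X)ᵒᵖ ⥤ A)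
    (s : ToType (stalkEtPsh p P)) :
    ∃ (N : EtNbhd p) (σ : ToType (P.obj (op N.1))),
      (colimit.ι ((EtNbhd.toEtOver p).op ⋙ P) (op N)) σ = s := by
  obtain ⟨⟨N⟩, σ, h⟩ := Types.jointly_surjective_of_isColimit
    (isColimitOfPreserves (forget A) (colimit.isColimit ((EtNbhd.toEtOver p).op ⋙ P))) s
  exact ⟨N, σ, h⟩

/-- Two sections over an étale neighbourhood agree in the stalk iff they agree on a smaller
neighbourhood. -/
theorem stalkEtPsh_ι_eq_iff (p : FieldPt X) [IsCofiltered (EtNbhd p)]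
    [HasColimitsOfShape (EtNbhd p)ᵒᵖ A]
    [PreservesColimitsOfShape (EtNbhd p)ᵒᵖ (forget A)] (P : (EtOver X)ᵒᵖ ⥤ A)
    (N : EtNbhd p) (σ τ : ToType (P.obj (op N.1))) :
    (colimit.ι ((EtNbhd.toEtOver p).op ⋙ P) (op N)) σ =
        (colimit.ι ((EtNbhd.toEtOver p).op ⋙ P) (op N)) τ ↔
      ∃ (N' : EtNbhd p) (f : N' ⟶ N), P.map f.1.op σ = P.map f.1.op τ := by
  refine (Types.FilteredColimit.isColimit_eq_iff'
    (isColimitOfPreserves (forget A) (colimit.isColimit ((EtNbhd.toEtOver p).op ⋙ P)))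
    (i := op N) σ τ).trans ?_
  constructor
  · rintro ⟨⟨N'⟩, f, h⟩
    exact ⟨N', f.unop, h⟩
  · rintro ⟨N', f, h⟩
    exact ⟨op N', f.op, h⟩

end

end Groth.Agent.Helper15
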