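import Groth.Agent.Lib.Helper15.AlgSpEtStalkElt
import Mathlib.Algebra.Category.Grp.Zero

set_option autoImplicit false
set_option linter.style.haveILetI false
universe u
open CategoryTheory CategoryTheory.Limits AlgebraicGeometry MorphismProperty Opposite
open AlgSp

namespace Groth.Agent.Helper15
variable {S : Scheme.{u}} {X : Sp S}

/-- The point of `|X|` under a lift of a field-valued point to an object of the étale site. -/
theorem ofPt_liftsTo (p : FieldPt X) {U : EtOver X} (l : (FieldPt.liftsTo p).obj U) :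
    Points.ofPt U.obj.hom (l.1.left (IsLocalRing.closedPoint p.K)) = Points.mk p := by
  rw [← ofPt_comp_yon_map, l.2, Points.ofPt_toHom]

/-- Lifting a geometric point along a morphism of the étale site whose image contains it. -/
theorem exists_liftsTo_of_mem_range (p : FieldPt X) (hp : p.IsGeometric) {U V : EtOver X}
    (φ : V ⟶ U) (l : (FieldPt.liftsTo p).obj U)
    (h : l.1.left (IsLocalRing.closedPoint p.K) ∈ Set.range φ.hom.left.left) :
    ∃ v : (FieldPt.liftsTo p).obj V, (FieldPt.liftsTo p).map φ v = l := by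
  haveI : IsAlgClosed p.K := hp
  obtain ⟨y, hy⟩ := h
  haveI : Etale φ.hom.left.left := EtOver.etale_left φ
  obtain ⟨k, hk1, -⟩ := Scheme.exists_fac_of_etale_of_isSepClosed φ.hom.left.left
    l.1.left y (by
      rw [hy]; congr 1
      exact @Subsingleton.elim ↥(Spec (CommRingCat.of p.K)) inferInstance _ _)
  have hw' : k ≫ V.obj.left.hom = p.pt.hom := by
    rw [← Over.w φ.hom.left, ← Category.assoc, hk1]
    exact Over.w l.1
  let k' : p.pt ⟶ V.obj.left := Over.homMk k hw'
  have hk' : k' ≫ φ.hom.left = l.1 := by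
    apply Over.OverMorphism.ext
    exact hk1
  refine ⟨⟨k', ?_⟩, ?_⟩
  · rw [← EtOver.w φ, ← Category.assoc, ← Functor.map_comp, hk']
    exact l.2
  · apply Subtype.ext
    exact hk'

/-- The lift of a point in a neighbourhood maps into the range of the morphism. -/
theorem liftsTo_mem_range (p : FieldPt X) {N N' : EtNbhd p} (f : N' ⟶ N) :
    N.2.1.left (IsLocalRing.closedPoint p.K) ∈ Set.range f.1.hom.left.left := by
  refine ⟨N'.2.1.left (IsLocalRing.closedPoint p.K), ?_⟩
  have h : N'.2.1 ≫ f.1.hom.left = N.2.1 := congrArg Subtype.val f.2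
  rw [← h]
  rfl

section Ab

variable (hX : IsAlgSpace X) (p : FieldPt X) (hp : p.IsGeometric) (F : AbEt X)

include hX hp in
theorem stalkEtι_ab_eq_zero_iff (N : EtNbhd p) (σ : ↥(F.obj.obj (op N.1))) :
    (stalkEtι p F N).hom σ = 0 ↔
      ∃ (N' : EtNbhd p) (f : N' ⟶ N), (F.obj.map f.1.op).hom σ = 0 := by
  haveI := isCofiltered_etNbhd hX p hp
  haveI := preservesColimitsOfShape_etNbhd_forget_ab p
  have h0 : (stalkEtι p F N).hom 0 = 0 := map_zero _
  rw [← h0]
  refine (stalkEtPsh_ι_eq_iff p F.obj N σ 0).trans ?_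
  refine exists_congr fun N' => exists_congr fun f => ?_
  have h1 : (F.obj.map f.1.op).hom 0 = 0 := map_zero _
  constructor
  · intro h; exact h.trans h1
  · intro h; exact h.trans h1.symm

include hX hp in
theorem stalkEt_ab_jointly_surjective (s : ↥(stalkEt p F)) :
    ∃ (N : EtNbhd p) (σ : ↥(F.obj.obj (op N.1))), (stalkEtι p F N).hom σ = s := by
  haveI := isCofiltered_etNbhd hX p hp
  haveI := preservesColimitsOfShape_etNbhd_forget_ab p
  exact stalkEtPsh_jointly_surjective p F.obj s

include hX hp in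
/-- The image in the stalk vanishes iff the section vanishes on some object of the site whose image
contains the point. -/
theorem stalkEtι_ab_eq_zero_iff' {U : EtOver X} (l : (FieldPt.liftsTo p).obj U)
    (σ : ↥(F.obj.obj (op U))) :
    (stalkEtι p F ⟨U, l⟩).hom σ = 0 ↔
      ∃ (V : EtOver X) (φ : V ⟶ U), (F.obj.map φ.op).hom σ = 0 ∧
        l.1.left (IsLocalRing.closedPoint p.K) ∈ Set.range φ.hom.left.left := by
  rw [stalkEtι_ab_eq_zero_iff hX p hp F ⟨U, l⟩ σ]
  constructor
  · rintro ⟨N', f, h⟩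
    exact ⟨N'.1, f.1, h, liftsTo_mem_range p f⟩
  · rintro ⟨V, φ, h, hr⟩
    obtain ⟨v, hv⟩ := exists_liftsTo_of_mem_range p hp φ l hr
    exact ⟨⟨V, v⟩, ⟨φ, hv⟩, h⟩

end Ab

end Groth.Agent.Helper15
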