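import Groth.Agent.Lib.Helper15.AlgSpEtOverOpen

set_option autoImplicit false
set_option linter.style.haveILetI false
universe u
open CategoryTheory CategoryTheory.Limits AlgebraicGeometry MorphismProperty Opposite
open AlgSp

namespace Groth.Agent.Helper15
variable {S : Scheme.{u}} {X : Sp S}

/-- Gluing for a sheaf of sets with at most one section everywhere: sections exist as soon as they
exist on a jointly surjective family. -/
theorem nonempty_of_cover_of_subsingleton (F : EtSh X (Type (u + 1)))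
    (hF : ∀ E : EtOver X, Subsingleton (F.obj.obj (op E))) {E : EtOver X} {ι : Type*}
    (Y : ι → EtOver X) (g : ∀ i, Y i ⟶ E)
    (hcov : ∀ x : ↥E.obj.left.left, ∃ i, x ∈ Set.range (g i).hom.left.left)
    (h : ∀ i, Nonempty (F.obj.obj (op (Y i)))) : Nonempty (F.obj.obj (op E)) := by
  have h2 := (isSheaf_iff_isSheaf_of_type _ _).1 F.property
  have hmem := ofArrows_mem_etTop Y g hcov
  have hne : ∀ ⦃Z : EtOver X⦄ (k : Z ⟶ E), (Sieve.ofArrows Y g).arrows k →
      Nonempty (F.obj.obj (op Z)) := by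
    rintro Z k ⟨Z', m, _, ⟨i⟩, rfl⟩
    obtain ⟨s⟩ := h i
    exact ⟨F.obj.map m.op s⟩
  let x : Presieve.FamilyOfElements F.obj (Sieve.ofArrows Y g).arrows :=
    fun Z k hk => (hne k hk).some
  have hx : x.Compatible := by
    intro Z₁ Z₂ Z₃ g₁ g₂ f₁ f₂ h₁ h₂ _
    exact @Subsingleton.elim _ (hF Z₃) _ _
  exact ⟨(h2 _ hmem).amalgamate x hx⟩

/-- The fibre product over `X` of two objects of the small étale site has a point over any pair of
points with the same image in `|X|`. -/
theorem prodObj_exists_point (E E' : EtOver X) (e : ↥E.obj.left.left) (e' : ↥E'.obj.left.left)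
    (h : Points.ofPt E.obj.hom e = Points.ofPt E'.obj.hom e') :
    ∃ q : ↥(EtOver.prodObj E E').obj.left.left,
      (EtOver.prodFst E E').hom.left.left q = e ∧ (EtOver.prodSnd E E').hom.left.left q = e' := by
  have sq := E'.property.1.isPullback' E.obj.hom
  obtain ⟨v, hv1, hv2⟩ := exists_of_ofPt_eq sq e' e h.symm
  exact ⟨v, hv2, hv1⟩

theorem exists_unique_open_of_subsingleton (hX : IsAlgSpace X) (F : EtSh X (Type (u + 1)))
    (hF : ∀ E : EtOver X, Subsingleton (F.obj.obj (op E))) :
    ∃! W : Set (Points X), IsOpen W ∧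
      ∀ E : EtOver X, Nonempty (F.obj.obj (op E)) ↔ Set.range (Points.ofPt E.obj.hom) ⊆ W := by
  let W : Set (Points X) := {x | ∃ E : EtOver X, Nonempty (F.obj.obj (op E)) ∧
    x ∈ Set.range (Points.ofPt E.obj.hom)}
  have hWopen : IsOpen W := by
    rw [isOpen_iff_forall_mem_open]
    rintro x ⟨E, hE, hx⟩
    exact ⟨Set.range (Points.ofPt E.obj.hom), fun y hy => ⟨E, hE, hy⟩,
      (isOpenMap_ofPt_of_etale E.obj.hom E.property).isOpen_range, hx⟩
  have hWprop : ∀ E : EtOver X, Nonempty (F.obj.obj (op E)) ↔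
      Set.range (Points.ofPt E.obj.hom) ⊆ W := by
    intro E
    constructor
    · intro hE x hx
      exact ⟨E, hE, hx⟩
    · intro hsub
      have key : ∀ e : ↥E.obj.left.left, ∃ E' : EtOver X, Nonempty (F.obj.obj (op E')) ∧
          ∃ e' : ↥E'.obj.left.left, Points.ofPt E'.obj.hom e' = Points.ofPt E.obj.hom e := by
        intro e
        obtain ⟨E', hE', e', he'⟩ := hsub ⟨e, rfl⟩
        exact ⟨E', hE', e', he'⟩
      choose E' hE' e' he' using key
      refine nonempty_of_cover_of_subsingleton F hF (fun e => EtOver.prodObj E (E' e))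
        (fun e => EtOver.prodFst E (E' e)) (fun e => ?_) (fun e => ?_)
      · obtain ⟨q, hq, -⟩ := prodObj_exists_point E (E' e) e (e' e) (he' e).symm
        exact ⟨e, q, hq⟩
      · obtain ⟨s⟩ := hE' e
        exact ⟨F.obj.map (EtOver.prodSnd E (E' e)).op s⟩
  refine ⟨W, ⟨hWopen, hWprop⟩, ?_⟩
  rintro W' ⟨hW'open, hW'prop⟩
  apply Set.Subset.antisymm
  · intro x hx
    obtain ⟨A, a, hae, has⟩ := hX.atlas
    obtain ⟨t, rfl⟩ := surjective_ofPt a has x
    let EA : EtOver X := EtOver.mk a hae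
    let O : EA.obj.left.left.Opens :=
      ⟨Points.ofPt a ⁻¹' W', hW'open.preimage (Points.continuous_ofPt a)⟩
    have hr : Set.range (Points.ofPt (etOverOpen EA O).obj.hom) ⊆ W' := by
      rw [range_ofPt_etOverOpen]
      rintro _ ⟨t', ht', rfl⟩
      exact ht'
    have hne := (hW'prop (etOverOpen EA O)).2 hr
    refine ⟨etOverOpen EA O, hne, ?_⟩
    rw [range_ofPt_etOverOpen]
    exact ⟨t, hx, rfl⟩
  · rintro x ⟨E, hE, hx⟩
    exact (hW'prop E).1 hE hx

end Groth.Agent.Helper15
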