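import Groth.Agent.Lib.Helper15.AlgSpFieldCover
import Groth.Agent.Lib.Helper15.AlgSpNoeth

set_option autoImplicit false
universe u
open CategoryTheory CategoryTheory.Limits AlgebraicGeometry Topology TopologicalSpace
open AlgSp

namespace Groth.Agent.Helper15
variable {S : Scheme.{u}}

/-- S10368 -/
theorem reduced_locNoeth_one_point_iff_exists_lfp_flat_surjective_field {Z : Sp S}
    (hZ : IsAlgSpace Z) :
    (AlgSp.EtaleLocally (fun U => IsReduced U) Z ∧ AlgSp.IsLocNoethSp Z ∧
        Nonempty (AlgSp.Points Z) ∧ Subsingleton (AlgSp.Points Z)) ↔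
      ∃ (k : Type u) (_ : Field k) (str : Spec (CommRingCat.of k) ⟶ S)
        (p : (AlgSp.yon S).obj (Over.mk str) ⟶ Z),
        AlgSp.LocP @LocallyOfFinitePresentation p ∧ AlgSp.LocP @Flat p ∧
          AlgSp.IsSurjectiveMor p := by
  constructor
  · rintro ⟨hr, hN, hne, hsub⟩
    obtain ⟨k, _, str, p, hpf, hps⟩ :=
      (reduced_one_point_iff_exists_flat_surjective_field hZ).1 ⟨hr, hne, hsub⟩
    obtain ⟨k', _, str', q, hq1, hq2, hq3⟩ := exists_lft_flat_surjective_field hZ k str p hpf hps
    exact ⟨k', inferInstance, str', q, locP_lfp_of_locP_lft_locNoeth q hN hq1, hq2, hq3⟩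
  · rintro ⟨k, _, str, p, hlfp, hpf, hps⟩
    obtain ⟨hr, hne, hsub⟩ :=
      (reduced_one_point_iff_exists_flat_surjective_field hZ).2 ⟨k, inferInstance, str, p, hpf, hps⟩
    refine ⟨hr, ?_, hne, hsub⟩
    obtain ⟨U, a, hae, has⟩ := hZ.atlas
    refine ⟨U, a, hae, has, ?_⟩
    have sq := hae.rep.isPullback' p
    haveI h1 : Etale (hae.rep.snd p).left := hae.property_snd p
    have hcomm := sq.w.symm
    haveI h2 : Flat (hae.rep.fst' p).left :=
      hpf ((yon S).map (hae.rep.snd p)) a (hae.rep.fst' p)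
        ((repWith_yon_map_iff _ _).2 h1) hae hcomm
    haveI h3 : LocallyOfFinitePresentation (hae.rep.fst' p).left :=
      hlfp ((yon S).map (hae.rep.snd p)) a (hae.rep.fst' p)
        ((repWith_yon_map_iff _ _).2 h1) hae hcomm
    haveI h4 : Surjective (hae.rep.fst' p).left := by
      refine ⟨fun v => ?_⟩
      obtain ⟨y, hy⟩ := hps (Points.ofPt a v)
      obtain ⟨t, rfl⟩ := (Points.schemeEquiv (Over.mk str)).surjective y
      have hy' : Points.ofPt a v = Points.ofPt p t := by
        rw [Points.ofPt_eq_map_ofScheme p t]; exact hy.symm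
      obtain ⟨w, hw, -⟩ := exists_of_ofPt_eq sq v t hy'
      exact ⟨w, hw⟩
    haveI : IsLocallyNoetherian (Over.mk str).left :=
      (inferInstance : IsLocallyNoetherian (Spec (CommRingCat.of k)))
    haveI : IsLocallyNoetherian (hae.rep.pullback p).left :=
      LocallyOfFiniteType.isLocallyNoetherian (hae.rep.snd p).left
    exact isLocallyNoetherian_of_flat_open_surjective (hae.rep.fst' p).left

end Groth.Agent.Helper15
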