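import Groth.Agent.Lib.Helper15.AlgSpFieldCover2

set_option autoImplicit false
universe u
open CategoryTheory CategoryTheory.Limits AlgebraicGeometry Topology TopologicalSpace
open AlgSp

namespace Groth.Agent.Helper15
variable {S : Scheme.{u}}

theorem isRegularLocalRing_of_isField (R : Type*) [CommRing R] (h : IsField R) :
    IsRegularLocalRing R := by
  letI := h.toField
  infer_instance

/-- S10372 -/
theorem regular_of_reduced_locNoeth_one_point {Z : Sp S} (hZ : IsAlgSpace Z)
    (hr : AlgSp.EtaleLocally (fun U => IsReduced U) Z) (hN : AlgSp.IsLocNoethSp Z)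
    [Nonempty (AlgSp.Points Z)] [Subsingleton (AlgSp.Points Z)] :
    AlgSp.EtaleLocally (fun U => IsLocallyNoetherian U ∧
      ∀ u : ↥U, IsRegularLocalRing ↥(U.presheaf.stalk u)) Z := by
  obtain ⟨k, _, str, p, hpf, hps⟩ :=
    (reduced_one_point_iff_exists_flat_surjective_field hZ).1 ⟨hr, inferInstance, inferInstance⟩
  obtain ⟨U, a, hae, has, hU⟩ := hN
  exact ⟨U, a, hae, has, hU, fun u => isRegularLocalRing_of_isField _
    (isField_stalk_of_flat_surjective_field k str p hpf hps a hae u)⟩

end Groth.Agent.Helper15
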