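import Mathlib

set_option autoImplicit false

universe u

open CategoryTheory CategoryTheory.Limits AlgebraicGeometry TopologicalSpace

namespace Groth.Agent.Helper15.FinCoprodSch

open scoped Function

/-- If the restrictions of `f` to two disjoint opens are finite, so is the restriction to their
union. -/
theorem isFinite_sup_ι_comp {V Z : Scheme.{u}} (f : V ⟶ Z) (U₁ U₂ : V.Opens) (hd : Disjoint U₁ U₂)
    (h₁ : IsFinite (U₁.ι ≫ f)) (h₂ : IsFinite (U₂.ι ≫ f)) : IsFinite ((U₁ ⊔ U₂).ι ≫ f) := by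
  let W : V.Opens := U₁ ⊔ U₂
  let i₁ : (U₁ : Scheme.{u}) ⟶ W := V.homOfLE le_sup_left
  let i₂ : (U₂ : Scheme.{u}) ⟶ W := V.homOfLE le_sup_right
  let X : WalkingPair → Scheme.{u} := fun j => WalkingPair.casesOn j (U₁ : Scheme.{u}) (U₂ : Scheme.{u})
  let g : ∀ j, X j ⟶ (W : Scheme.{u}) := fun j => match j with
    | .left => i₁
    | .right => i₂
  haveI : ∀ j, IsOpenImmersion (g j) := by
    rintro (_ | _) <;> infer_instance
  have hr1 : (i₁.opensRange : Set (W : Scheme.{u})) = W.ι ⁻¹' (U₁ : Set V) := by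
    ext x
    simp only [Scheme.Hom.coe_opensRange, Set.mem_range, Set.mem_preimage, SetLike.mem_coe]
    constructor
    · rintro ⟨y, rfl⟩
      rw [← Scheme.Hom.comp_apply, Scheme.homOfLE_ι]
      exact y.2
    · intro hx
      refine ⟨⟨W.ι x, hx⟩, ?_⟩
      apply W.ι.isOpenEmbedding.injective
      rw [← Scheme.Hom.comp_apply, Scheme.homOfLE_ι]
      rfl
  have hr2 : (i₂.opensRange : Set (W : Scheme.{u})) = W.ι ⁻¹' (U₂ : Set V) := by
    ext x
    simp only [Scheme.Hom.coe_opensRange, Set.mem_range, Set.mem_preimage, SetLike.mem_coe]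
    constructor
    · rintro ⟨y, rfl⟩
      rw [← Scheme.Hom.comp_apply, Scheme.homOfLE_ι]
      exact y.2
    · intro hx
      refine ⟨⟨W.ι x, hx⟩, ?_⟩
      apply W.ι.isOpenEmbedding.injective
      rw [← Scheme.Hom.comp_apply, Scheme.homOfLE_ι]
      rfl
  have hcov : ⨆ j, (g j).opensRange = ⊤ := by
    rw [eq_top_iff]
    intro x _
    have hx : W.ι x ∈ U₁ ⊔ U₂ := x.2
    rcases hx with hx | hx
    · refine Opens.mem_iSup.2 ⟨.left, ?_⟩
      change x ∈ (i₁.opensRange : Set (W : Scheme.{u}))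
      rw [hr1]; exact hx
    · refine Opens.mem_iSup.2 ⟨.right, ?_⟩
      change x ∈ (i₂.opensRange : Set (W : Scheme.{u}))
      rw [hr2]; exact hx
  have hdisj' : Disjoint i₁.opensRange i₂.opensRange := by
    rw [← Opens.coe_disjoint, hr1, hr2]
    exact Disjoint.preimage _ ((Opens.coe_disjoint).2 hd)
  have hdisj : Pairwise (Disjoint on (g · |>.opensRange)) := by
    rintro (_ | _) (_ | _) hjk
    · exact absurd rfl hjk
    · exact hdisj'
    · exact hdisj'.symm
    · exact absurd rfl hjk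
  obtain ⟨hcolim⟩ := nonempty_isColimit_cofanMk_of g hcov hdisj
  let c : BinaryCofan (U₁ : Scheme.{u}) (U₂ : Scheme.{u}) := Cofan.mk (W : Scheme.{u}) g
  have hc : IsColimit c := hcolim
  let e : (U₁ : Scheme.{u}) ⨿ (U₂ : Scheme.{u}) ≅ (W : Scheme.{u}) :=
    (coprodIsCoprod _ _).coconePointUniqueUpToIso hc
  have he1 : coprod.inl ≫ e.hom = i₁ :=
    (coprodIsCoprod _ _).comp_coconePointUniqueUpToIso_hom hc ⟨WalkingPair.left⟩
  have he2 : coprod.inr ≫ e.hom = i₂ :=
    (coprodIsCoprod _ _).comp_coconePointUniqueUpToIso_hom hc ⟨WalkingPair.right⟩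
  have key : e.hom ≫ W.ι ≫ f = coprod.desc (U₁.ι ≫ f) (U₂.ι ≫ f) := by
    apply coprod.hom_ext
    · rw [← Category.assoc, he1, coprod.inl_desc, ← Category.assoc, Scheme.homOfLE_ι]
    · rw [← Category.assoc, he2, coprod.inr_desc, ← Category.assoc, Scheme.homOfLE_ι]
  haveI := h₁
  haveI := h₂
  have h3 : IsFinite (e.hom ≫ W.ι ≫ f) := by rw [key]; infer_instance
  exact (MorphismProperty.cancel_left_of_respectsIso @IsFinite e.hom _).1 h3

/-- If the restrictions of `f` to finitely many pairwise disjoint opens are finite, so is the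
restriction to their union. -/
theorem isFinite_biSup_ι_comp {V Z : Scheme.{u}} (f : V ⟶ Z) {ι : Type*} (U : ι → V.Opens)
    (hdisj : Pairwise (Disjoint on U)) (hU : ∀ i, IsFinite ((U i).ι ≫ f)) (s : Finset ι) :
    IsFinite ((⨆ i ∈ s, U i).ι ≫ f) := by
  classical
  induction s using Finset.induction_on with
  | empty =>
    have : IsEmpty ((⨆ i ∈ (∅ : Finset ι), U i : V.Opens) : Scheme.{u}) := by
      simp only [Finset.notMem_empty, iSup_false, iSup_bot]
      exact ⟨fun x => x.2⟩
    infer_instance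
  | insert a s ha ih =>
    rw [Finset.iSup_insert]
    refine isFinite_sup_ι_comp f _ _ ?_ (hU a) ih
    rw [disjoint_iSup₂_iff]
    intro i hi
    exact hdisj (fun h => ha (h ▸ hi))

/-- A morphism which is finite on the members of a finite cover by pairwise disjoint opens is
finite. -/
theorem isFinite_of_disjoint_cover {V Z : Scheme.{u}} (f : V ⟶ Z) {ι : Type*} [Finite ι]
    (U : ι → V.Opens) (hdisj : Pairwise (Disjoint on U)) (hcov : ⨆ i, U i = ⊤)
    (hU : ∀ i, IsFinite ((U i).ι ≫ f)) : IsFinite f := by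
  classical
  haveI := Fintype.ofFinite ι
  have h := isFinite_biSup_ι_comp f U hdisj hU Finset.univ
  have htop : (⨆ i ∈ (Finset.univ : Finset ι), U i) = ⊤ := by
    simpa using hcov
  rw [htop] at h
  have : f = (Scheme.topIso V).inv ≫ (⊤ : V.Opens).ι ≫ f := by
    rw [← Category.assoc, Scheme.toIso_inv_ι, Category.id_comp]
  rw [this]
  exact (MorphismProperty.cancel_left_of_respectsIso @IsFinite _ _).2 h

end Groth.Agent.Helper15.FinCoprodSch
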