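import Groth.Agent.Lib.Helper15.AlgSpCoprod3
import Groth.Agent.Lib.Helper15.FinCoprodSch

set_option autoImplicit false
universe u
open CategoryTheory CategoryTheory.Limits AlgebraicGeometry MorphismProperty Opposite
open AlgSp

namespace Groth.Agent.Helper15

variable {S : Scheme.{u}}

open scoped Function

/-- A finite coproduct of sheaves finite over `Y` is finite over `Y`. -/
theorem isFiniteMor_cofan_desc {ι : Type u} [Finite ι] (X : ι → Sp S) {Y : Sp S}
    (g : ∀ i, X i ⟶ Y) (hg : ∀ i, IsFiniteMor (g i)) (c : Cofan X) (hc : IsColimit c)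
    (d : c.pt ⟶ Y) (hd : ∀ i, c.inj i ≫ d = g i) : IsFiniteMor d := by
  intro Z hZ b
  choose W ιW fstW sqW hWaff hWfin using fun i => hg i hZ b
  have pb := IsPullback.of_hasPullback d b
  let a : ∀ i, (yon S).obj (W i) ⟶ pullback d b := fun i =>
    pb.lift (fstW i ≫ c.inj i) ((yon S).map (ιW i)) (by rw [Category.assoc, hd, (sqW i).w])
  have ha1 : ∀ i, a i ≫ pullback.fst d b = fstW i ≫ c.inj i := fun i => pb.lift_fst _ _ _
  have ha2 : ∀ i, a i ≫ pullback.snd d b = (yon S).map (ιW i) := fun i => pb.lift_snd _ _ _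
  have hL : ∀ i, IsPullback (a i) (fstW i) (pullback.fst d b) (c.inj i) := fun i => by
    refine IsPullback.of_right ?_ (ha1 i) pb.flip
    rw [ha2 i, hd i]
    exact (sqW i).flip
  have hm := fun k => cofan_inj_mono c hc k
  have ha : ∀ i, RepWith @IsOpenImmersion (a i) := fun i =>
    (RepWith @IsOpenImmersion).of_isPullback (hL i).flip
      (repWith_mono inf_le_left (repWith_cofan_inj c hc hm i))
  have hcov : ∀ x : Points (pullback d b), ∃ i, x ∈ Set.range (Points.map (a i)) := by
    intro x
    obtain ⟨i, y, hy⟩ := cofan_points_cover c hc (Points.map (pullback.fst d b) x)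
    obtain ⟨p, hp1, -⟩ := exists_point_of_isPullback (hL i) x y hy.symm
    exact ⟨i, p, hp1⟩
  obtain ⟨V, e, j, hj, hje, hjcov⟩ := exists_rep_of_openCover ha hcov
  let snd : V ⟶ Z := (yon S).preimage (e.hom ≫ pullback.snd d b)
  have hsnd : (yon S).map snd = e.hom ≫ pullback.snd d b := Functor.map_preimage _ _
  have hjs : ∀ i, j i ≫ snd = ιW i := fun i => (yon S).map_injective (by
    rw [Functor.map_comp, hsnd, ← Category.assoc, hje, ha2])
  have sqV : IsPullback (e.hom ≫ pullback.fst d b) ((yon S).map snd) d b := by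
    refine IsPullback.of_iso pb e.symm (Iso.refl _) (Iso.refl _) (Iso.refl _) ?_ ?_ ?_ ?_
    · simp
    · simp [hsnd]
    · simp
    · simp
  -- disjointness of the pieces
  have hdisj : ∀ i k, i ≠ k → ∀ (wi : (W i).left) (wk : (W k).left),
      (j i).left wi ≠ (j k).left wk := by
    intro i k hik wi wk heq
    obtain ⟨p, -, -⟩ := Scheme.Pullback.exists_preimage_pullback (f := (j i).left)
      (g := (j k).left) wi wk heq
    let T : Over S := Over.mk (pullback.fst (j i).left (j k).left ≫ (W i).hom)
    let l₁ : T ⟶ W i := Over.homMk (pullback.fst (j i).left (j k).left) rfl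
    let l₂ : T ⟶ W k := Over.homMk (pullback.snd (j i).left (j k).left) (by
      change pullback.snd (j i).left (j k).left ≫ (W k).hom =
        pullback.fst (j i).left (j k).left ≫ (W i).hom
      rw [← CategoryTheory.Over.w (j i), ← CategoryTheory.Over.w (j k), ← Category.assoc,
        ← Category.assoc, pullback.condition])
    have hl : l₁ ≫ j i = l₂ ≫ j k := by
      apply Over.OverMorphism.ext
      exact pullback.condition
    have hxy : ((yon S).map l₁ ≫ fstW i) ≫ c.inj i = ((yon S).map l₂ ≫ fstW k) ≫ c.inj k := by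
      rw [Category.assoc, Category.assoc, ← ha1, ← ha1, ← hje, ← hje]
      simp only [← Category.assoc, ← Functor.map_comp]
      rw [hl]
    haveI : IsEmpty T.left := cofan_disjoint c hc hik _ _ hxy
    exact isEmptyElim (α := T.left) p
  haveI : ∀ i, IsOpenImmersion (j i).left := hj
  have hfin : IsFinite snd.left := by
    refine FinCoprodSch.isFinite_of_disjoint_cover snd.left (fun i => (j i).left.opensRange)
      ?_ ?_ ?_
    · intro i k hik
      change Disjoint (j i).left.opensRange (j k).left.opensRange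
      rw [← TopologicalSpace.Opens.coe_disjoint, Set.disjoint_iff_forall_ne]
      rintro _ ⟨wi, rfl⟩ _ ⟨wk, rfl⟩
      exact hdisj i k hik wi wk
    · rw [eq_top_iff]
      intro v _
      obtain ⟨i, w, hw⟩ := hjcov v
      exact TopologicalSpace.Opens.mem_iSup.2 ⟨i, w, hw⟩
    · intro i
      have h1 : (j i).left.opensRange.ι ≫ snd.left =
          (j i).left.isoOpensRange.inv ≫ (ιW i).left := by
        rw [← hjs i, Over.comp_left, ← Category.assoc, Scheme.Hom.isoOpensRange_inv_comp]
      rw [h1]
      exact (MorphismProperty.cancel_left_of_respectsIso @IsFinite _ _).2 (hWfin i)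
  haveI := hfin
  haveI : IsAffine Z.left := hZ
  exact ⟨V, snd, e.hom ≫ pullback.fst d b, sqV, isAffine_of_isAffineHom snd.left, hfin⟩

/-- The same for index types in a smaller universe. -/
theorem isFiniteMor_cofan_desc' {ι : Type} [Finite ι] (X : ι → Sp S) {Y : Sp S}
    (g : ∀ i, X i ⟶ Y) (hg : ∀ i, IsFiniteMor (g i)) (c : Cofan X) (hc : IsColimit c)
    (d : c.pt ⟶ Y) (hd : ∀ i, c.inj i ≫ d = g i) : IsFiniteMor d := by
  let X' : ULift.{u} ι → Sp S := fun i => X i.down
  let c' : Cofan X' := Cofan.mk c.pt (fun i => c.inj i.down)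
  have hc' : IsColimit c' := mkCofanColimit c'
    (fun s => Cofan.IsColimit.desc hc (fun i => s.inj ⟨i⟩))
    (fun s i => by
      change c.inj i.down ≫ _ = _
      rw [Cofan.IsColimit.fac])
    (fun s m hm => by
      refine Cofan.IsColimit.hom_ext hc _ _ (fun i => ?_)
      rw [Cofan.IsColimit.fac]
      exact hm ⟨i⟩)
  exact isFiniteMor_cofan_desc X' (fun i => g i.down) (fun i => hg i.down) c' hc' d
    (fun i => hd i.down)

end Groth.Agent.Helper15
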