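import Groth.Agent.Lib.Helper15.AlgSpGlue
import Groth.Agent.Lib.Helper15.AlgSpNoeth

set_option autoImplicit false
universe u
open CategoryTheory CategoryTheory.Limits AlgebraicGeometry MorphismProperty TopologicalSpace
open AlgSp

namespace Groth.Agent.Helper15
variable {S : Scheme.{u}}

theorem lfp_of_lft_of_isLocallyNoetherian {X Y : Scheme.{u}} (f : X ⟶ Y) [LocallyOfFiniteType f]
    [IsLocallyNoetherian Y] : LocallyOfFinitePresentation f := by
  constructor
  intro U hU V hV e
  haveI : IsNoetherianRing Γ(Y, U) := IsLocallyNoetherian.component_noetherian ⟨U, hU⟩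
  exact RingHom.FinitePresentation.of_finiteType.1 (f.finiteType_appLE hU hV e)

/-- S10294. -/
theorem isFinLocFreeMor_iff {X Y : Sp S} (hY : IsAlgSpace Y) (f : X ⟶ Y) :
    (IsFinLocFreeMor f ↔
      (IsFiniteMor f ∧ LocP @Flat f ∧ LocP @LocallyOfFinitePresentation f)) ∧
    (IsLocNoethSp Y → (IsFinLocFreeMor f ↔ (IsFiniteMor f ∧ LocP @Flat f))) := by
  have key : IsFinLocFreeMor f ↔
      (IsFiniteMor f ∧ LocP @Flat f ∧ LocP @LocallyOfFinitePresentation f) := by
    constructor
    · intro h
      have h1 : RepWith @IsFinite f := ⟨h.rep, fun _ _ g fst snd sq => (h.property g fst snd sq).1⟩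
      have h2 : RepWith @Flat f := ⟨h.rep, fun _ _ g fst snd sq => (h.property g fst snd sq).2.1⟩
      have h3 : RepWith @LocallyOfFinitePresentation f :=
        ⟨h.rep, fun _ _ g fst snd sq => (h.property g fst snd sq).2.2⟩
      exact ⟨(isFiniteMor_iff_affRep f).2 (affRep_of_repWith h1), locP_of_repWith etale_le_flat f h2,
        locP_of_repWith etale_le_lfp f h3⟩
    · rintro ⟨h1, h2, h3⟩
      have h1' : RepWith @IsFinite f := repWith_of_affRep f ((isFiniteMor_iff_affRep f).1 h1)
      have h2' := repWith_of_locP goodP_flat hY f h1'.rep h2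
      have h3' := repWith_of_locP goodP_lfp hY f h1'.rep h3
      exact ⟨h1'.rep, fun _ _ g fst snd sq =>
        ⟨h1'.property g fst snd sq, h2'.property g fst snd sq, h3'.property g fst snd sq⟩⟩
  refine ⟨key, fun hN => ?_⟩
  rw [key]
  constructor
  · rintro ⟨h1, h2, -⟩
    exact ⟨h1, h2⟩
  · rintro ⟨h1, h2⟩
    refine ⟨h1, h2, ?_⟩
    have h1' : RepWith @IsFinite f := repWith_of_affRep f ((isFiniteMor_iff_affRep f).1 h1)
    refine locP_of_repWith etale_le_lfp f ?_
    obtain ⟨V, q, hqe, hqs⟩ := hY.atlas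
    haveI : IsLocallyNoetherian V.left := isLocallyNoetherian_of_etale_of_isLocNoethSp hN q hqe
    haveI : Sheaf.IsLocallySurjective q := isLocallySurjective_of_etale_surjective q hqe hqs
    have sq := h1'.rep.isPullback q
    refine repWith_of_isLocallySurjective_base f h1'.rep q _ _ sq @LocallyOfFinitePresentation ?_
    rw [repWith_yon_map_iff]
    haveI : IsFinite (h1'.rep.snd q).left := h1'.property_snd q
    exact lfp_of_lft_of_isLocallyNoetherian _

end Groth.Agent.Helper15
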