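import Groth.Agent.Lib.Helper15.AlgSpUnram
import Mathlib.AlgebraicGeometry.Morphisms.Finite

/-!
# Finite and integral morphisms of algebraic spaces
-/

set_option autoImplicit false
universe u
open CategoryTheory CategoryTheory.Limits AlgebraicGeometry MorphismProperty Opposite
open AlgSp

namespace Groth.Agent.Helper15
variable {S : Scheme.{u}}

theorem isClosedImmersion_le_isFinite :
    (@IsClosedImmersion : MorphismProperty Scheme.{u}) ≤ @IsFinite :=
  fun _ _ f hf => by haveI : IsClosedImmersion f := hf; infer_instance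

theorem isFinite_le_isIntegralHom :
    (@IsFinite : MorphismProperty Scheme.{u}) ≤ @IsIntegralHom :=
  fun _ _ f hf => by haveI : IsFinite f := hf; infer_instance

theorem isFinite_le_isAffineHom :
    (@IsFinite : MorphismProperty Scheme.{u}) ≤ @IsAffineHom :=
  fun _ _ f hf => by haveI : IsFinite f := hf; infer_instance

theorem isIntegralHom_le_isAffineHom :
    (@IsIntegralHom : MorphismProperty Scheme.{u}) ≤ @IsAffineHom :=
  fun _ _ f hf => by haveI : IsIntegralHom f := hf; infer_instance

instance affRep_isStableUnderComposition_isFinite :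
    (AffRep (S := S) @IsFinite).IsStableUnderComposition where
  comp_mem _ _ hf hg := AffRep.comp isFinite_le_isAffineHom hf hg

instance affRep_isStableUnderComposition_isIntegralHom :
    (AffRep (S := S) @IsIntegralHom).IsStableUnderComposition where
  comp_mem _ _ hf hg := AffRep.comp isIntegralHom_le_isAffineHom hf hg

/-- S10272. -/
theorem finite_integral_of_comp_separated {X Y Z : Sp S} (f : X ⟶ Y) (g : Y ⟶ Z)
    (hg : IsSeparatedMor g) :
    (IsFiniteMor (f ≫ g) → IsFiniteMor f) ∧ (IsIntegralMor (f ≫ g) → IsIntegralMor f) := by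
  constructor
  · intro h
    rw [isFiniteMor_iff_affRep] at h ⊢
    exact of_comp_of_diagonal f g h ((affRep_of_repWith hg).mono isClosedImmersion_le_isFinite)
  · intro h
    rw [isIntegralMor_iff_affRep] at h ⊢
    exact of_comp_of_diagonal f g h ((affRep_of_repWith hg).mono
      (isClosedImmersion_le_isFinite.trans isFinite_le_isIntegralHom))

end Groth.Agent.Helper15

namespace Groth.Agent.Helper15
variable {S : Scheme.{u}}

/-- Step A: a representing square over an etale chart has `P` when `f` is `LocP P`. -/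
theorem property_of_locP_of_etale_chart {P : MorphismProperty Scheme.{u}} {X Y : Sp S} (f : X ⟶ Y)
    (hloc : LocP P f) {V U : Over S} (b : (yon S).obj V ⟶ Y) (hb : RepWith @Etale b)
    (fst : (yon S).obj U ⟶ X) (i : U ⟶ V) (sq : IsPullback fst ((yon S).map i) f b) :
    P i.left :=
  hloc fst b i ((RepWith @Etale).of_isPullback sq.flip hb) hb sq.w

theorem affRep_inf_of_locP {P Q : MorphismProperty Scheme.{u}} [P.IsStableUnderBaseChange]
    [P.IsLocalAtTarget Scheme.fppfPrecoverage] [IsZariskiLocalAtTarget P]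
    {X Y : Sp S} (hY : IsAlgSpace Y) (f : X ⟶ Y)
    (hf : AffRep Q f) (hloc : LocP P f) : AffRep (Q ⊓ P) f := by
  intro Z hZ g
  obtain ⟨W, i, fst, sq, hQ⟩ := hf hZ g
  refine ⟨W, i, fst, sq, hQ, ?_⟩
  obtain ⟨V, b, hbe, hbs⟩ := hY.atlas
  have hrep := hbe.rep
  have sqZ' := hrep.isPullback' g
  set z₁ := hrep.fst' g
  set z₂ := hrep.snd g
  have hse : Etale z₂.left := hbe.property_snd g
  have hss : Surjective z₂.left := hbs.property_snd g
  have sqU : IsPullback (pullback.fst i z₂) (pullback.snd i z₂) i z₂ := IsPullback.of_hasPullback _ _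
  refine property_of_etale_surjective_base_change P sqU hse hss ?_
  have sq' : IsPullback ((yon S).map (pullback.fst i z₂) ≫ fst) ((yon S).map (pullback.snd i z₂)) f
      ((yon S).map z₂ ≫ g) := (sqU.map (yon S)).paste_horiz sq
  let 𝒱 := (V.left.affineCover.pullback₁ z₁.left).bind (fun j => Scheme.affineCover _)
  refine property_of_cover Scheme.zariskiPrecoverage sq' 𝒱.mem₀ ?_
  rintro T' ι ⟨⟨j, k⟩⟩ V' fst' snd' sqV'
  -- the affine piece `V_j` of the atlas
  let Vj : Over S := Over.mk (V.left.affineCover.f j ≫ V.hom)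
  let ιj : Vj ⟶ V := Over.homMk (V.left.affineCover.f j) rfl
  have hVj : IsAffine Vj.left := by
    change IsAffine (V.left.affineCover.X j); infer_instance
  have hιj : Etale ιj.left := by
    change Etale (V.left.affineCover.f j); infer_instance
  have hbj : RepWith @Etale ((yon S).map ιj ≫ b) :=
    (RepWith @Etale).comp_mem _ _ ((repWith_yon_map_iff _ ιj).2 hιj) hbe
  obtain ⟨Uj, ij, fstj, sqj, -⟩ := hf hVj ((yon S).map ιj ≫ b)
  have hPj : P ij.left := property_of_locP_of_etale_chart f hloc _ hbj fstj ij sqj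
  -- the map from the piece of the cover to `V_j`
  let T'' : Over S := Over.mk (𝒱.f ⟨j, k⟩ ≫ (hrep.pullback g).hom)
  let τl : T''.left ⟶ Vj.left :=
    (Scheme.affineCover _).f k ≫ pullback.snd z₁.left (V.left.affineCover.f j)
  have hτl : τl ≫ V.left.affineCover.f j = 𝒱.f ⟨j, k⟩ ≫ z₁.left := by
    change ((Scheme.affineCover _).f k ≫ pullback.snd z₁.left (V.left.affineCover.f j)) ≫ _ =
      ((Scheme.affineCover _).f k ≫ pullback.fst z₁.left (V.left.affineCover.f j)) ≫ _
    simp only [Category.assoc]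
    congr 1
    exact pullback.condition.symm
  let τ : T'' ⟶ Vj := Over.homMk τl (by
    change τl ≫ V.left.affineCover.f j ≫ V.hom = 𝒱.f ⟨j, k⟩ ≫ (hrep.pullback g).hom
    rw [← Category.assoc, hτl, Category.assoc, Over.w z₁])
  have hτ : τ ≫ ιj = (Over.homMk (𝒱.f ⟨j, k⟩) : T'' ⟶ hrep.pullback g) ≫ z₁ := by
    ext1; exact hτl
  have e : (yon S).map (Over.homMk (𝒱.f ⟨j, k⟩) : T'' ⟶ hrep.pullback g) ≫ (yon S).map z₂ ≫ g =
      (yon S).map τ ≫ (yon S).map ιj ≫ b := by
    rw [← sqZ'.w, ← Category.assoc, ← Category.assoc, ← Functor.map_comp, ← Functor.map_comp, hτ]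
  rw [e] at sqV'
  have hw : fst' ≫ f = ((yon S).map snd' ≫ (yon S).map τ) ≫ (yon S).map ιj ≫ b := by
    rw [sqV'.w, Category.assoc]
  have left : IsPullback (sqj.lift fst' ((yon S).map snd' ≫ (yon S).map τ) hw) ((yon S).map snd')
      ((yon S).map ij) ((yon S).map τ) := by
    refine IsPullback.of_right ?_ (sqj.lift_snd _ _ _) sqj
    rw [sqj.lift_fst]
    exact sqV'
  exact ((repWith_yon_map_iff P ij).2 hPj).property _ _ _ left

end Groth.Agent.Helper15

namespace Groth.Agent.Helper15
variable {S : Scheme.{u}}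

/-- S10269. -/
theorem finite_integral {X Y : Sp S} (hY : IsAlgSpace Y) (f : X ⟶ Y) :
    (IsFiniteMor f → IsIntegralMor f) ∧
    (IsIntegralMor f → LocP @LocallyOfFiniteType f → IsFiniteMor f) := by
  constructor
  · intro h
    rw [isFiniteMor_iff_affRep] at h
    rw [isIntegralMor_iff_affRep]
    exact h.mono isFinite_le_isIntegralHom
  · intro h hl
    rw [isIntegralMor_iff_affRep] at h
    rw [isFiniteMor_iff_affRep]
    refine (affRep_inf_of_locP hY f h hl).mono ?_
    rintro A B φ ⟨h1, h2⟩
    exact (IsFinite.iff_isIntegralHom_and_locallyOfFiniteType φ).2 ⟨h1, h2⟩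

end Groth.Agent.Helper15
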