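import Groth.Agent.Lib.Helper15.AlgSpProper2
import Mathlib.AlgebraicGeometry.Morphisms.UniversallyClosed

/-!
# Universally closed morphisms are quasi-compact
-/

set_option autoImplicit false
universe u
open CategoryTheory CategoryTheory.Limits AlgebraicGeometry MorphismProperty TopologicalSpace
open AlgSp

namespace Groth.Agent.Helper15
variable {S : Scheme.{u}}

theorem subsingleton_points_yon_field {K : Type u} [Field K] (str : Spec (CommRingCat.of K) ⟶ S) :
    Subsingleton (Points ((yon S).obj (Over.mk str))) := by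
  haveI : Subsingleton ↥(Over.mk str).left :=
    (inferInstance : Subsingleton (Spec (CommRingCat.of K)))
  exact (Points.schemeEquiv (Over.mk str)).symm.injective.subsingleton

open PrimeSpectrum MvPolynomial in
/-- An algebraic space universally closed over a field is quasi-compact. -/
theorem compactSpace_points_of_univClosed_field {Q : Sp S} (hQ : IsAlgSpace Q) {K : Type u}
    [Field K] (str : Spec (CommRingCat.of K) ⟶ S) (h : Q ⟶ (yon S).obj (Over.mk str))
    (hh : IsUnivClosedMor h) : CompactSpace (Points Q) := by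
  classical
  obtain ⟨U, q, hqe, hqs⟩ := hQ.atlas
  let 𝒰 : U.left.OpenCover := U.left.affineCover
  let O (i : 𝒰.I₀) : Set (Points Q) := Points.ofPt q '' (Set.range (𝒰.f i))
  have hO_open : ∀ i, IsOpen (O i) := fun i =>
    isOpenMap_ofPt_of_etale q hqe _ (𝒰.f i).isOpenEmbedding.isOpen_range
  have hO_compact : ∀ i, IsCompact (O i) := fun i =>
    (isCompact_range (𝒰.f i).continuous).image (Points.continuous_ofPt q)
  have hO_cover : ∀ x, ∃ i, x ∈ O i := by
    intro x
    obtain ⟨v, rfl⟩ := surjective_ofPt q hqs x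
    exact ⟨𝒰.idx v, v, 𝒰.covers v, rfl⟩
  let T : Over S :=
    Over.mk (Spec.map (CommRingCat.ofHom (MvPolynomial.C : K →+* MvPolynomial 𝒰.I₀ K)) ≫ str)
  let τ : T ⟶ Over.mk str := Over.homMk (Spec.map (CommRingCat.ofHom MvPolynomial.C)) rfl
  have sqR : IsPullback (pullback.fst h ((yon S).map τ)) (pullback.snd h ((yon S).map τ)) h
      ((yon S).map τ) := IsPullback.of_hasPullback _ _
  set pr₁ := pullback.fst h ((yon S).map τ)
  set pr₂ := pullback.snd h ((yon S).map τ)
  have hclosed : IsClosedMap (Points.map pr₂) := hh (IsAlgSpace.yon_obj T) _ _ _ sqR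
  let θ : Points (pullback h ((yon S).map τ)) → ↥T.left :=
    (Points.schemeHomeo T).symm ∘ Points.map pr₂
  have hθc : Continuous θ := (Points.schemeHomeo T).symm.continuous.comp (Points.continuous_map pr₂)
  have hθclosed : IsClosedMap θ := (Points.schemeHomeo T).symm.isClosedMap.comp hclosed
  let Ti (i : 𝒰.I₀) : Set ↥T.left :=
    (basicOpen (MvPolynomial.X i : MvPolynomial 𝒰.I₀ K)).1
  have hTi : ∀ i, IsOpen (Ti i) := fun i => (basicOpen _).2
  let Zs : Set (Points (pullback h ((yon S).map τ))) :=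
    (⋃ i, θ ⁻¹' (Ti i) ∩ Points.map pr₁ ⁻¹' (O i))ᶜ
  have hZs : IsClosed Zs := by
    rw [isClosed_compl_iff]
    exact isOpen_iUnion fun i => ((hTi i).preimage hθc).inter
      ((hO_open i).preimage (Points.continuous_map pr₁))
  have hC : IsClosed (θ '' Zs) := hθclosed _ hZs
  let ψ : MvPolynomial 𝒰.I₀ K →ₐ[K] K := MvPolynomial.aeval (fun _ ↦ 1)
  let t : ↥T.left := Spec.map (CommRingCat.ofHom ψ.toRingHom) default
  have ht (i : 𝒰.I₀) : t ∈ Ti i := show ψ (.X i) ≠ 0 by simp [ψ]
  have htZc : t ∈ (θ '' Zs)ᶜ := by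
    rintro ⟨z, hz, hzt⟩
    apply hz
    obtain ⟨i, hi⟩ := hO_cover (Points.map pr₁ z)
    exact Set.mem_iUnion.2 ⟨i, by simpa [hzt] using ht i, hi⟩
  let Zc : Opens (PrimeSpectrum (MvPolynomial 𝒰.I₀ K)) := ⟨(θ '' Zs)ᶜ, hC.isOpen_compl⟩
  have htZc' : (show PrimeSpectrum (MvPolynomial 𝒰.I₀ K) from t) ∈ Zc := htZc
  obtain ⟨U', ⟨g, rfl⟩, htU', hU'le⟩ :=
    Opens.isBasis_iff_nbhd.mp (isBasis_basic_opens (R := MvPolynomial 𝒰.I₀ K)) htZc'
  let σ : Finset 𝒰.I₀ := MvPolynomial.vars g
  let φ : MvPolynomial 𝒰.I₀ K →+* MvPolynomial 𝒰.I₀ K :=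
    (MvPolynomial.aeval fun i : 𝒰.I₀ ↦ if i ∈ σ then MvPolynomial.X i else 0).toRingHom
  let t' : ↥T.left := Spec.map (CommRingCat.ofHom φ) t
  have ht'g : t' ∈ PrimeSpectrum.basicOpen g :=
    show φ g ∉ t.asIdeal from (show φ g = g from aeval_ite_mem_eq_self g subset_rfl).symm ▸ htU'
  have hnot : t' ∉ θ '' Zs := hU'le ht'g
  suffices hcov : ⋃ i ∈ σ, O i = Set.univ from
    ⟨hcov ▸ Finset.isCompact_biUnion _ fun i _ ↦ hO_compact i⟩
  rw [Set.iUnion₂_eq_univ_iff]
  by_contra hcon
  push_neg at hcon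
  obtain ⟨x, hx⟩ := hcon
  haveI := subsingleton_points_yon_field str
  obtain ⟨z, hz1, hz2⟩ := exists_point_of_isPullback sqR x (Points.schemeHomeo T t')
    (Subsingleton.elim _ _)
  have hθz : θ z = t' := by
    change (Points.schemeHomeo T).symm (Points.map pr₂ z) = t'
    rw [hz2, Homeomorph.symm_apply_apply]
  apply hnot
  refine ⟨z, ?_, hθz⟩
  intro hzmem
  obtain ⟨i, hi1, hi2⟩ := Set.mem_iUnion.1 hzmem
  have hi1' : t' ∈ Ti i := by rw [← hθz]; exact hi1
  have hi2' : x ∈ O i := by rw [← hz1]; exact hi2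
  have hiσ : i ∉ σ := fun hiσ => hx i hiσ hi2'
  have : t ∈ (basicOpen (MvPolynomial.X i : MvPolynomial 𝒰.I₀ K)).comap
      ⟨_, continuous_comap φ⟩ := hi1'
  rw [comap_basicOpen, show φ (.X i) = 0 by simp [φ, hiσ], basicOpen_zero] at this
  exact this

end Groth.Agent.Helper15

namespace Groth.Agent.Helper15
variable {S : Scheme.{u}}

theorem map_eq_ofField {F : Sp S} {K : Type u} [Field K] {str : Spec (CommRingCat.of K) ⟶ S}
    (η : (yon S).obj (Over.mk str) ⟶ F) (w : Points ((yon S).obj (Over.mk str))) :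
    Points.map η w = ofField η := by
  obtain ⟨L, _, str', ζ, rfl⟩ := exists_ofField w
  obtain ⟨a, rfl⟩ := (yon S).map_surjective ζ
  rw [map_ofField, ofField_comp]

/-- An algebraic space universally closed over a quasi-compact scheme is quasi-compact. -/
theorem compactSpace_points_of_univClosed {P : Sp S} (hP : IsAlgSpace P) {Z : Over S}
    [CompactSpace ↥Z.left] (f' : P ⟶ (yon S).obj Z) (hf : IsUnivClosedMor f') :
    CompactSpace (Points P) := by
  have hprop : IsProperMap (Points.map f') := by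
    rw [isProperMap_iff_isClosedMap_and_compact_fibers]
    refine ⟨Points.continuous_map f',
      isClosedMor_of_isUnivClosedMor (IsAlgSpace.yon_obj Z) f' hf, fun y => ?_⟩
    obtain ⟨K, _, str, η, rfl⟩ := exists_ofField y
    have sq : IsPullback (pullback.fst f' η) (pullback.snd f' η) f' η :=
      IsPullback.of_hasPullback _ _
    have hQ : IsAlgSpace (pullback f' η) :=
      isAlgSpace_of_isPullback (IsAlgSpace.yon_obj Z).diag hP (IsAlgSpace.yon_obj _) sq
    haveI := compactSpace_points_of_univClosed_field hQ str (pullback.snd f' η)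
      (UnivSp.of_isPullback sq hf)
    have : Points.map f' ⁻¹' {ofField η} = Set.range (Points.map (pullback.fst f' η)) := by
      ext p
      constructor
      · intro hp
        have hp' : Points.map f' p = ofField η := hp
        obtain ⟨w⟩ : Nonempty (Points ((yon S).obj (Over.mk str))) :=
          ⟨ofField (𝟙 _)⟩
        obtain ⟨p', hp1, -⟩ := exists_point_of_isPullback sq p w
          (by rw [hp', map_eq_ofField])
        exact ⟨p', hp1⟩
      · rintro ⟨p', rfl⟩
        change Points.map f' (Points.map (pullback.fst f' η) p') = ofField η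
        rw [← Points.map_comp, sq.w, Points.map_comp, map_eq_ofField]
    rw [this]
    exact isCompact_range (Points.continuous_map _)
  haveI : CompactSpace (Points ((yon S).obj Z)) := (Points.schemeHomeo Z).compactSpace
  have := hprop.isCompact_preimage (isCompact_univ)
  rw [Set.preimage_univ] at this
  exact isCompact_univ_iff.1 this

/-- S9925. -/
theorem isQuasiCompactMor_of_isUnivClosedMor {X Y : Sp S} (hX : IsAlgSpace X) (hY : IsAlgSpace Y)
    (f : X ⟶ Y) (hf : IsUnivClosedMor f) : IsQuasiCompactMor f := by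
  refine isQuasiCompactMor_of_forall_affine f (fun Z hZ g => ?_)
  have sq : IsPullback (pullback.fst f g) (pullback.snd f g) f g := IsPullback.of_hasPullback _ _
  have hP : IsAlgSpace (pullback f g) := isAlgSpace_of_isPullback hY.diag hX (IsAlgSpace.yon_obj _) sq
  haveI : CompactSpace ↥Z.left := inferInstance
  haveI := compactSpace_points_of_univClosed hP (pullback.snd f g) (UnivSp.of_isPullback sq hf)
  exact isQuasiCompactSp_of_compactSpace_points hP

end Groth.Agent.Helper15

namespace Groth.Agent.Helper15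
variable {S : Scheme.{u}}

/-- Composition of quasi-compact morphisms (through an algebraic space). -/
theorem isQuasiCompactMor_comp {X Y W : Sp S} (hY : IsAlgSpace Y)
    (hW : Representable (Limits.diag W)) (f : X ⟶ Y) (g : Y ⟶ W) (hf : IsQuasiCompactMor f)
    (hg : IsQuasiCompactMor g) : IsQuasiCompactMor (f ≫ g) := by
  intro Z Z' hZ hZqc t fstZ sndZ sqZ
  have sqY : IsPullback (pullback.fst g t) (pullback.snd g t) g t := IsPullback.of_hasPullback _ _
  have hYZ : IsAlgSpace (pullback g t) := isAlgSpace_of_isPullback hW hY hZ sqY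
  have hYZqc : IsQuasiCompactSp (pullback g t) := hg hZ hZqc t _ _ sqY
  have hw : (fstZ ≫ f) ≫ g = sndZ ≫ t := by rw [Category.assoc, sqZ.w]
  have sqL : IsPullback fstZ (sqY.lift _ _ hw) f (pullback.fst g t) := by
    refine IsPullback.of_bot ?_ (sqY.lift_fst _ _ hw).symm sqY
    rw [sqY.lift_snd]
    exact sqZ
  exact hf hYZ hYZqc _ _ _ sqL

set_option backward.isDefEq.respectTransparency false in
/-- `f × f : X ×_B X ⟶ Y ×_B Y` is universally closed if `f` is. -/
theorem isUnivClosedMor_pullback_map {X Y B : Sp S} (hX : IsAlgSpace X) (hY : IsAlgSpace Y)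
    (hB : IsAlgSpace B) (f : X ⟶ Y) (q : Y ⟶ B) (hf : IsUnivClosedMor f) :
    IsUnivClosedMor (pullback.map (f ≫ q) (f ≫ q) q q f f (𝟙 B) (by simp) (by simp)) := by
  have h1 : IsUnivClosedMor (pullback.map (f ≫ q) (f ≫ q) q (f ≫ q) f (𝟙 X) (𝟙 B) (by simp)
      (by simp)) := UnivSp.of_isPullback (isPullback_map_left q f (f ≫ q)).flip hf
  have h2 : IsUnivClosedMor (pullback.map q (f ≫ q) q q (𝟙 Y) f (𝟙 B) (by simp) (by simp)) :=
    UnivSp.of_isPullback (isPullback_map_right q f).flip hf
  have e : pullback.map (f ≫ q) (f ≫ q) q q f f (𝟙 B) (by simp) (by simp) =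
      pullback.map (f ≫ q) (f ≫ q) q (f ≫ q) f (𝟙 X) (𝟙 B) (by simp) (by simp) ≫
        pullback.map q (f ≫ q) q q (𝟙 Y) f (𝟙 B) (by simp) (by simp) := by
    apply pullback.hom_ext <;> simp
  rw [e]
  have sqM : IsPullback (pullback.fst q (f ≫ q)) (pullback.snd q (f ≫ q)) q (f ≫ q) :=
    IsPullback.of_hasPullback _ _
  have sqT : IsPullback (pullback.fst q q) (pullback.snd q q) q q := IsPullback.of_hasPullback _ _
  exact isUnivClosedMor_comp (isAlgSpace_of_isPullback hB.diag hY hX sqM)
    (isAlgSpace_of_isPullback hB.diag hY hY sqT).diag _ _ h1 h2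

set_option backward.isDefEq.respectTransparency false in
theorem diagonal_comp_pullback_map {X Y B : Sp S} (f : X ⟶ Y) (q : Y ⟶ B) :
    pullback.diagonal (f ≫ q) ≫ pullback.map (f ≫ q) (f ≫ q) q q f f (𝟙 B) (by simp) (by simp) =
      f ≫ pullback.diagonal q := by
  apply pullback.hom_ext <;> simp

/-- S9926. -/
theorem separation_of_surjective_univClosed {X Y B : Sp S} (hX : IsAlgSpace X) (hY : IsAlgSpace Y)
    (hB : IsAlgSpace B) (f : X ⟶ Y) (q : Y ⟶ B) (hs : IsSurjectiveMor f)
    (hc : IsUnivClosedMor f) :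
    (IsQuasiSeparatedMor (f ≫ q) → IsQuasiSeparatedMor q) ∧
    (IsSeparatedMor (f ≫ q) → IsSeparatedMor q) := by
  have hF := isUnivClosedMor_pullback_map hX hY hB f q hc
  have sqXX : IsPullback (pullback.fst (f ≫ q) (f ≫ q)) (pullback.snd (f ≫ q) (f ≫ q)) (f ≫ q)
      (f ≫ q) := IsPullback.of_hasPullback _ _
  have hXX : IsAlgSpace (pullback (f ≫ q) (f ≫ q)) := isAlgSpace_of_isPullback hB.diag hX hX sqXX
  have sqYY : IsPullback (pullback.fst q q) (pullback.snd q q) q q := IsPullback.of_hasPullback _ _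
  have hYY : IsAlgSpace (pullback q q) := isAlgSpace_of_isPullback hB.diag hY hY sqYY
  constructor
  · intro hp
    -- `Δ_p ≫ F` is quasi-compact
    have h1 : IsQuasiCompactMor (pullback.diagonal (f ≫ q)) := isQuasiCompactMor_of_repWith _ hp
    have h2 := isQuasiCompactMor_of_isUnivClosedMor hXX hYY _ hF
    have h3 := isQuasiCompactMor_comp hXX hYY.diag _ _ h1 h2
    rw [diagonal_comp_pullback_map] at h3
    refine repWith_quasiCompact_of_isQuasiCompactMor _ (diagonal_properties hY q).1 ?_
    intro Z Z' hZ hZqc g fst snd sq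
    have sqX' : IsPullback (pullback.fst f fst) (pullback.snd f fst) f fst :=
      IsPullback.of_hasPullback _ _
    have big : IsPullback (pullback.fst f fst) (pullback.snd f fst ≫ snd)
        (f ≫ pullback.diagonal q) g := sqX'.paste_vert sq
    have hX'qc : IsQuasiCompactSp (pullback f fst) := h3 hZ hZqc g _ _ big
    have hZ' : IsAlgSpace Z' := isAlgSpace_of_isPullback hYY.diag hY hZ sq
    haveI := compactSpace_points_of_isQuasiCompactSp hX'qc
    haveI : CompactSpace (Points Z') :=
      (isSurjectiveMor_of_isPullback sqX' hs).compactSpace (Points.continuous_map _)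
    exact isQuasiCompactSp_of_compactSpace_points hZ'
  · intro hp
    rw [(isSeparatedMor_iff_diagonal hY q).1]
    have h1 : IsUnivClosedMor (pullback.diagonal (f ≫ q)) :=
      isUnivClosedMor_of_repWith _ (repWith_mono isClosedImmersion_le_universallyClosed' hp)
    have h3 := isUnivClosedMor_comp hXX hYY.diag _ _ h1 hF
    rw [diagonal_comp_pullback_map] at h3
    exact isUnivClosedMor_of_surjective_over f _ _ rfl h3 hs

end Groth.Agent.Helper15
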