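import Groth.Agent.Lib.Helper15.AlgSpFinite
import Groth.Agent.Lib.Helper15.AlgSpUnivClosed

/-!
# Integral = affine + universally closed; finite = affine + proper
-/

set_option autoImplicit false
universe u
open CategoryTheory CategoryTheory.Limits AlgebraicGeometry MorphismProperty TopologicalSpace
open AlgSp

namespace Groth.Agent.Helper15
variable {S : Scheme.{u}}

theorem isClosed_of_openCover {W : Scheme.{u}} (𝒰 : W.OpenCover) (A : Set W)
    (h : ∀ i, IsClosed ((𝒰.f i) ⁻¹' A)) : IsClosed A := by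
  rw [← isOpen_compl_iff]
  have : Aᶜ = ⋃ i, (𝒰.f i) '' ((𝒰.f i) ⁻¹' Aᶜ) := by
    ext w
    constructor
    · intro hw
      obtain ⟨y, hy⟩ := 𝒰.covers w
      refine Set.mem_iUnion.2 ⟨𝒰.idx w, y, ?_, hy⟩
      change (𝒰.f (𝒰.idx w)) y ∈ Aᶜ
      rw [hy]; exact hw
    · rintro ⟨_, ⟨i, rfl⟩, y, hy, rfl⟩
      exact hy
  rw [this]
  exact isOpen_iUnion fun i => (𝒰.f i).isOpenEmbedding.isOpenMap _
    ((h i).isOpen_compl)

/-- For a represented pullback square over a chart `q`, the preimage under `q` of the image of `C`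
is the image of the preimage of `C`. -/
theorem preimage_image_of_isPullback {X Y : Sp S} {f : X ⟶ Y} {W W' : Over S}
    {q : (yon S).obj W ⟶ Y} {fst : (yon S).obj W' ⟶ X} {snd : W' ⟶ W}
    (sq : IsPullback fst ((yon S).map snd) f q) (C : Set (Points X)) :
    Points.ofPt q ⁻¹' (Points.map f '' C) = snd.left '' (Points.ofPt fst ⁻¹' C) := by
  ext w
  constructor
  · rintro ⟨x, hx, hxw⟩
    rw [Points.ofPt_eq_map_ofScheme q w] at hxw
    obtain ⟨p, hp1, hp2⟩ := exists_point_of_isPullback sq x _ hxw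
    obtain ⟨w', rfl⟩ := (Points.schemeEquiv _).surjective p
    change Points.map _ (Points.ofScheme _ w') = _ at hp1
    change Points.map _ (Points.ofScheme _ w') = _ at hp2
    rw [← Points.ofPt_eq_map_ofScheme] at hp1 hp2
    rw [ofPt_yon_map] at hp2
    refine ⟨w', ?_, (Points.schemeEquiv W).injective hp2⟩
    change Points.ofPt _ w' ∈ C
    rw [hp1]; exact hx
  · rintro ⟨w', hw', rfl⟩
    exact ⟨_, hw', map_ofPt_fst_eq sq w'⟩

/-- A morphism to an algebraic space which is affine-locally representable by closed maps is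
closed on points. -/
theorem isClosedMor_of_affRep {Q : MorphismProperty Scheme.{u}}
    (hQ : ∀ {A B : Scheme.{u}} (φ : A ⟶ B), Q φ → IsClosedMap φ) {X Y : Sp S}
    (hY : IsAlgSpace Y) (f : X ⟶ Y) (hf : AffRep Q f) : IsClosedMor f := by
  obtain ⟨W, q, hqe, hqs⟩ := hY.atlas
  have hquot : Topology.IsQuotientMap (Points.ofPt q) :=
    (isOpenMap_ofPt_of_etale q hqe).isQuotientMap (Points.continuous_ofPt q)
      (surjective_ofPt q hqs)
  intro C hC
  rw [← hquot.isClosed_preimage]
  apply isClosed_of_openCover W.left.affineCover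
  intro i
  let Wi : Over S := Over.mk (W.left.affineCover.f i ≫ W.hom)
  let ιi : Wi ⟶ W := Over.homMk (W.left.affineCover.f i) rfl
  have hWi : IsAffine Wi.left := by
    change IsAffine (W.left.affineCover.X i); infer_instance
  obtain ⟨V, v, fst, sq, hv⟩ := hf hWi ((yon S).map ιi ≫ q)
  have key := preimage_image_of_isPullback sq C
  have e : (W.left.affineCover.f i) ⁻¹' (Points.ofPt q ⁻¹' (Points.map f '' C)) =
      Points.ofPt ((yon S).map ιi ≫ q) ⁻¹' (Points.map f '' C) := by
    ext w
    simp only [Set.mem_preimage]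
    rw [ofPt_comp_yon_map]
    rfl
  rw [e, key]
  exact hQ _ hv _ (hC.preimage (Points.continuous_ofPt _))

theorem isUnivClosedMor_of_affRep {Q : MorphismProperty Scheme.{u}}
    (hQ : ∀ {A B : Scheme.{u}} (φ : A ⟶ B), Q φ → IsClosedMap φ) {X Y : Sp S}
    (f : X ⟶ Y) (hf : AffRep Q f) : IsUnivClosedMor f := by
  intro Z Z' hZ g fst snd sq
  exact isClosedMor_of_affRep hQ hZ snd ((AffRep Q).of_isPullback sq hf)

theorem isClosedMap_of_isIntegralHom {A B : Scheme.{u}} (φ : A ⟶ B) (h : IsIntegralHom φ) :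
    IsClosedMap φ := by
  haveI := h
  exact φ.isClosedMap

/-- S10270. -/
theorem isIntegralMor_iff_affine_univClosed {X Y : Sp S} (f : X ⟶ Y) :
    IsIntegralMor f ↔ (IsAffineMor f ∧ IsUnivClosedMor f) := by
  rw [isIntegralMor_iff_affRep, isAffineMor_iff_affRep]
  constructor
  · intro h
    exact ⟨h.mono isIntegralHom_le_isAffineHom,
      isUnivClosedMor_of_affRep (fun φ hφ => isClosedMap_of_isIntegralHom φ hφ) f h⟩
  · rintro ⟨h1, h2⟩ Z hZ g
    obtain ⟨W, i, fst, sq, hi⟩ := h1 hZ g
    refine ⟨W, i, fst, sq, ?_⟩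
    rw [IsIntegralHom.iff_universallyClosed_and_isAffineHom]
    refine ⟨?_, hi⟩
    have h3 : IsUnivClosedMor ((yon S).map i) := UnivSp.of_isPullback sq h2
    exact (repWith_yon_map_iff _ i).1
      ((repWith_universallyClosed_iff _ (representable_yon_map i)).2 h3)

end Groth.Agent.Helper15

namespace Groth.Agent.Helper15
variable {S : Scheme.{u}}

/-- An affine morphism from an algebraic space is separated. -/
theorem isSeparatedMor_of_affRep_isAffineHom {X Y : Sp S} (hX : IsAlgSpace X) (f : X ⟶ Y)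
    (hf : AffRep @IsAffineHom f) : IsSeparatedMor f := by
  refine repWith_diagonal_of_forall_affine hX f @IsClosedImmersion (fun Z hZ g => ?_)
  obtain ⟨W, i, fst, sq, hi⟩ := hf hZ g
  haveI : IsAffineHom i.left := hi
  have h1 : (RepWith @IsClosedImmersion).diagonal ((yon S).map i) :=
    (isSeparatedMor_yon_map_iff i).2 inferInstance
  rw [← sq.isoPullback_hom_snd] at h1
  exact ((RepWith @IsClosedImmersion).diagonal.cancel_left_of_respectsIso _ _).1 h1

/-- `LocP P` for an affine-locally representable morphism. -/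
theorem locP_of_affRep {P Q : MorphismProperty Scheme.{u}} (hQP : Q ≤ P)
    [P.IsStableUnderComposition] (hetale : (@Etale : MorphismProperty Scheme.{u}) ≤ P)
    [IsZariskiLocalAtTarget P] {X Y : Sp S} (hX : IsAlgSpace X) (f : X ⟶ Y)
    (hf : AffRep Q f) : LocP P f := by
  intro U V a b φ ha hb comm
  haveI : P.RespectsIso := inferInstance
  refine (IsZariskiLocalAtTarget.iff_of_openCover (P := P) (f := φ.left) V.left.affineCover).2 ?_
  intro j
  let Vj : Over S := Over.mk (V.left.affineCover.f j ≫ V.hom)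
  let ιj : Vj ⟶ V := Over.homMk (V.left.affineCover.f j) rfl
  have hVj : IsAffine Vj.left := by
    change IsAffine (V.left.affineCover.X j); infer_instance
  have hιj : Etale ιj.left := by
    change Etale (V.left.affineCover.f j); infer_instance
  have sqU : IsPullback (pullback.fst φ ιj) (pullback.snd φ ιj) φ ιj := IsPullback.of_hasPullback _ _
  set u₁ := pullback.fst φ ιj
  set u₂ := pullback.snd φ ιj
  have sqL := sqU.map (Over.forget S)
  have hu₁ : Etale u₁.left := MorphismProperty.of_isPullback (P := @Etale) sqL.flip hιj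
  obtain ⟨Wj, wj, fstj, sqj, hwj⟩ := hf hVj ((yon S).map ιj ≫ b)
  have hbj : RepWith @Etale ((yon S).map ιj ≫ b) :=
    (RepWith @Etale).comp_mem _ _ ((repWith_yon_map_iff _ ιj).2 hιj) hb
  have hfstj : RepWith @Etale fstj := (RepWith @Etale).of_isPullback sqj.flip hbj
  have hw : ((yon S).map u₁ ≫ a) ≫ f = (yon S).map u₂ ≫ (yon S).map ιj ≫ b := by
    rw [Category.assoc, comm, ← Category.assoc, ← Functor.map_comp, sqU.w, Functor.map_comp,
      Category.assoc]
  obtain ⟨c₀, hc₀⟩ := (yon S).map_surjective (sqj.lift _ _ hw)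
  have hc1 : (yon S).map c₀ ≫ fstj = (yon S).map u₁ ≫ a := by rw [hc₀, sqj.lift_fst]
  have hc2 : c₀ ≫ wj = u₂ := by
    apply (yon S).map_injective
    rw [Functor.map_comp, hc₀, sqj.lift_snd]
  have hcomp : RepWith @Etale ((yon S).map c₀ ≫ fstj) := by
    rw [hc1]
    exact (RepWith @Etale).comp_mem _ _ ((repWith_yon_map_iff _ u₁).2 hu₁) ha
  have hΔ : RepWith @Etale (pullback.diagonal fstj) :=
    repWith_mono isOpenImmersion_le_etale (repWith_isOpenImmersion_diagonal_of_etale hX fstj hfstj)
  have hc₀e : Etale c₀.left :=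
    (repWith_yon_map_iff _ c₀).1 (repWith_of_comp_of_diagonal _ fstj hcomp hΔ)
  have hPu₂ : P u₂.left := by
    rw [← hc2, Over.comp_left]
    exact P.comp_mem _ _ (hetale _ _ _ hc₀e) (hQP _ hwj)
  have e := sqL.isoPullback_hom_snd
  have : P (sqL.isoPullback.hom ≫ pullback.snd ((Over.forget S).map φ) ((Over.forget S).map ιj)) := by
    rw [e]; exact hPu₂
  exact (P.cancel_left_of_respectsIso _ _).1 this

theorem isFinite_le_lft :
    (@IsFinite : MorphismProperty Scheme.{u}) ≤ @LocallyOfFiniteType :=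
  fun _ _ f hf => by haveI : IsFinite f := hf; infer_instance

/-- S10271. -/
theorem isFiniteMor_iff_affine_proper {X Y : Sp S} (hX : IsAlgSpace X) (hY : IsAlgSpace Y)
    (f : X ⟶ Y) : IsFiniteMor f ↔ (IsAffineMor f ∧ IsProperMor f) := by
  constructor
  · intro h
    have hint : IsIntegralMor f := (finite_integral hY f).1 h
    obtain ⟨haff, huc⟩ := (isIntegralMor_iff_affine_univClosed f).1 hint
    refine ⟨haff, ?_, ⟨?_, ?_⟩, huc⟩
    · exact isSeparatedMor_of_affRep_isAffineHom hX f ((isAffineMor_iff_affRep f).1 haff)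
    · exact locP_of_affRep isFinite_le_lft etale_le_lft hX f ((isFiniteMor_iff_affRep f).1 h)
    · exact isQuasiCompactMor_of_isUnivClosedMor hX hY f huc
  · rintro ⟨haff, -, ⟨hlft, -⟩, huc⟩
    exact (finite_integral hY f).2 ((isIntegralMor_iff_affine_univClosed f).2 ⟨haff, huc⟩) hlft

end Groth.Agent.Helper15
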