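import Groth.Agent.Lib.Helper15.AlgSpTop
import Groth.Prelude.Def_AlgSpDec
import Groth.Prelude.Def_AlgSpOX3
import Groth.Agent.Lib.Helper15.AlgSpUnram
import Mathlib.AlgebraicGeometry.Sites.EtalePoint

set_option autoImplicit false
set_option linter.style.haveILetI false
universe u
open CategoryTheory CategoryTheory.Limits AlgebraicGeometry MorphismProperty Opposite
open AlgSp

namespace Groth.Agent.Helper15
variable {S : Scheme.{u}}

/-- Lifting a geometric point along a representable étale map from a scheme. -/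
theorem exists_lift_geometric_point_of_repWith_etale {X : Sp S} {W : Over S}
    (b : (yon S).obj W ⟶ X) (hb : RepWith @Etale b) (p : FieldPt X) (hp : p.IsGeometric)
    (w : W.left) (hw : Points.ofPt b w = Points.mk p) :
    ∃ l : p.pt ⟶ W, (yon S).map l ≫ b = p.toHom ∧ l.left (IsLocalRing.closedPoint p.K) = w := by
  haveI : IsAlgClosed p.K := hp
  have sq := hb.rep.isPullback' p.toHom
  haveI h1 : Etale (hb.rep.snd p.toHom).left := hb.property_snd p.toHom
  let s : ↥(Spec (CommRingCat.of p.K)) := IsLocalRing.closedPoint p.K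
  obtain ⟨q, hq1, hq2⟩ := exists_of_ofPt_eq sq w s (by rw [hw, Points.ofPt_toHom])
  obtain ⟨l, hl1, hl2⟩ := Scheme.exists_fac_of_etale_of_isSepClosed (hb.rep.snd p.toHom).left
    (𝟙 (Spec (CommRingCat.of p.K))) q
    (@Subsingleton.elim ↥(Spec (CommRingCat.of p.K)) inferInstance _ _)
  have hw' : l ≫ (hb.rep.pullback p.toHom).hom = p.pt.hom := by
    rw [← Over.w (hb.rep.snd p.toHom), ← Category.assoc, hl1, Category.id_comp]
  let l' : p.pt ⟶ hb.rep.pullback p.toHom := Over.homMk l hw'
  have hl' : l' ≫ hb.rep.snd p.toHom = 𝟙 _ := by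
    apply Over.OverMorphism.ext
    exact hl1
  refine ⟨l' ≫ hb.rep.fst' p.toHom, ?_, ?_⟩
  · rw [Functor.map_comp, Category.assoc, sq.w, ← Category.assoc, ← Functor.map_comp, hl',
      CategoryTheory.Functor.map_id, Category.id_comp]
  · rw [Over.comp_left, Scheme.Hom.comp_apply]
    have : l (IsLocalRing.closedPoint p.K) = q := by
      rw [← hl2]; congr 1; exact @Subsingleton.elim ↥(Spec (CommRingCat.of p.K)) inferInstance _ _
    change (hb.rep.fst' p.toHom).left (l _) = w
    rw [this, hq1]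

/-- S10216 -/
theorem exists_lift_geometric_point_of_isEtaleMor {U X : Sp S} (hU : IsAlgSpace U) (φ : U ⟶ X)
    (hφ : IsEtaleMor φ) (p : FieldPt X) (hp : p.IsGeometric) (u : Points U)
    (hu : Points.map φ u = Points.mk p) :
    ∃ ubar : (yon S).obj p.pt ⟶ U,
      ubar ≫ φ = p.toHom ∧ Points.ofPt ubar (IsLocalRing.closedPoint p.K) = u := by
  obtain ⟨W, a, hae, has⟩ := hU.atlas
  obtain ⟨w, rfl⟩ := surjective_ofPt a has u
  obtain ⟨l, hl1, hl2⟩ := exists_lift_geometric_point_of_repWith_etale (a ≫ φ) (hφ a hae) p hp w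
    (by rw [← Points.map_ofPt]; exact hu)
  refine ⟨(yon S).map l ≫ a, by rw [Category.assoc]; exact hl1, ?_⟩
  rw [ofPt_comp_yon_map, hl2]

/-- S10218 -/
theorem exists_lift_etNbhd_of_mem_etPre {X : Sp S} (p : FieldPt X) (hp : p.IsGeometric)
    (N : EtNbhd p) {ι : Type u} (Ui : ι → EtOver X) (g : ∀ i, Ui i ⟶ N.1)
    (hcov : Presieve.ofArrows Ui g ∈ etPre X N.1) :
    ∃ (i : ι) (ui : (FieldPt.liftsTo p).obj (Ui i)), (FieldPt.liftsTo p).map (g i) ui = N.2 := by
  haveI : IsAlgClosed p.K := hp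
  rw [ofArrows_mem_etPre_iff] at hcov
  obtain ⟨i, y, hy⟩ := hcov (N.2.1.left (IsLocalRing.closedPoint p.K))
  haveI : Etale (g i).hom.left.left := EtOver.etale_left (g i)
  obtain ⟨l, hl1, -⟩ := Scheme.exists_fac_of_etale_of_isSepClosed (g i).hom.left.left
    N.2.1.left y (by
      rw [hy]; congr 1
      exact @Subsingleton.elim ↥(Spec (CommRingCat.of p.K)) inferInstance _ _)
  have hw' : l ≫ (Ui i).obj.left.hom = p.pt.hom := by
    rw [← Over.w (g i).hom.left, ← Category.assoc, hl1]
    exact Over.w N.2.1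
  let l' : p.pt ⟶ (Ui i).obj.left := Over.homMk l hw'
  have hl' : l' ≫ (g i).hom.left = N.2.1 := by
    apply Over.OverMorphism.ext
    exact hl1
  refine ⟨i, ⟨l', ?_⟩, ?_⟩
  · rw [← EtOver.w (g i), ← Category.assoc, ← Functor.map_comp, hl']
    exact N.2.2
  · apply Subtype.ext
    exact hl'

/-- S10217 -/
theorem isCofiltered_etNbhd {X : Sp S} (hX : IsAlgSpace X) (p : FieldPt X)
    (hp : p.IsGeometric) : IsCofiltered (EtNbhd p) := by
  haveI : Nonempty (EtNbhd p) := by
    obtain ⟨W, a, hae, has⟩ := hX.atlas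
    obtain ⟨w, hw⟩ := surjective_ofPt a has (Points.mk p)
    obtain ⟨l, hl1, -⟩ := exists_lift_geometric_point_of_repWith_etale a hae p hp w hw
    exact ⟨⟨EtOver.mk a hae, ⟨l, hl1⟩⟩⟩
  haveI : IsCofilteredOrEmpty (EtNbhd p) := by
    constructor
    · rintro ⟨E₁, u₁⟩ ⟨E₂, u₂⟩
      have sq := E₁.property.rep.isPullback' E₂.obj.hom
      have hsnd : Etale (E₁.property.rep.snd E₂.obj.hom).left := E₁.property.property_snd _
      have hQ : RepWith @Etale ((yon S).map (E₁.property.rep.snd E₂.obj.hom) ≫ E₂.obj.hom) :=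
        (RepWith @Etale).comp_mem _ _ ((repWith_yon_map_iff _ _).2 hsnd) E₂.property
      obtain ⟨uQ, huQ⟩ := (yon S).map_surjective
        (sq.lift ((yon S).map u₁.1) ((yon S).map u₂.1) (by rw [u₁.2, u₂.2]))
      have h1 : uQ ≫ E₁.property.rep.fst' E₂.obj.hom = u₁.1 :=
        (yon S).map_injective (by rw [Functor.map_comp, huQ, sq.lift_fst])
      have h2 : uQ ≫ E₁.property.rep.snd E₂.obj.hom = u₂.1 :=
        (yon S).map_injective (by rw [Functor.map_comp, huQ, sq.lift_snd])
      refine ⟨⟨EtOver.mk _ hQ, ⟨uQ, ?_⟩⟩, ⟨EtOver.homMk (E₁.property.rep.fst' E₂.obj.hom) sq.w, ?_⟩,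
        ⟨EtOver.homMk (E₁.property.rep.snd E₂.obj.hom) rfl, ?_⟩, trivial⟩
      · change (yon S).map uQ ≫ (yon S).map _ ≫ E₂.obj.hom = p.toHom
        rw [← Category.assoc, ← Functor.map_comp, h2]
        exact u₂.2
      · exact Subtype.ext h1
      · exact Subtype.ext h2
    · rintro ⟨E₁, u₁⟩ ⟨E₂, u₂⟩ ⟨f, hf⟩ ⟨g, hg⟩
      have hf' : u₁.1 ≫ f.hom.left = u₂.1 := congrArg Subtype.val hf
      have hg' : u₁.1 ≫ g.hom.left = u₂.1 := congrArg Subtype.val hg
      have hdiag := repWith_isOpenImmersion_diagonal_of_etale hX E₂.obj.hom E₂.property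
      let k : (yon S).obj E₁.obj.left ⟶ pullback E₂.obj.hom E₂.obj.hom :=
        pullback.lift ((yon S).map f.hom.left) ((yon S).map g.hom.left)
          (by rw [EtOver.w f, EtOver.w g])
      have sq := hdiag.rep.isPullback' k
      have hsnd : IsOpenImmersion (hdiag.rep.snd k).left := hdiag.property_snd k
      have hsnde : Etale (hdiag.rep.snd k).left := isOpenImmersion_le_etale _ hsnd
      have hEq : RepWith @Etale ((yon S).map (hdiag.rep.snd k) ≫ E₁.obj.hom) :=
        (RepWith @Etale).comp_mem _ _ ((repWith_yon_map_iff _ _).2 hsnde) E₁.property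
      have e1 : hdiag.rep.snd k ≫ f.hom.left = hdiag.rep.fst' k := by
        apply (yon S).map_injective
        have : (yon S).map f.hom.left = k ≫ pullback.fst _ _ := (pullback.lift_fst _ _ _).symm
        rw [Functor.map_comp, this, ← Category.assoc, ← sq.w, Category.assoc,
          pullback.diagonal_fst, Category.comp_id]
      have e2 : hdiag.rep.snd k ≫ g.hom.left = hdiag.rep.fst' k := by
        apply (yon S).map_injective
        have : (yon S).map g.hom.left = k ≫ pullback.snd _ _ := (pullback.lift_snd _ _ _).symm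
        rw [Functor.map_comp, this, ← Category.assoc, ← sq.w, Category.assoc,
          pullback.diagonal_snd, Category.comp_id]
      have hcond : (yon S).map u₂.1 ≫ pullback.diagonal E₂.obj.hom = (yon S).map u₁.1 ≫ k := by
        apply pullback.hom_ext
        · rw [Category.assoc, pullback.diagonal_fst, Category.comp_id, Category.assoc,
            pullback.lift_fst, ← Functor.map_comp, hf']
        · rw [Category.assoc, pullback.diagonal_snd, Category.comp_id, Category.assoc,
            pullback.lift_snd, ← Functor.map_comp, hg']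
      obtain ⟨uE, huE⟩ := (yon S).map_surjective
        (sq.lift ((yon S).map u₂.1) ((yon S).map u₁.1) hcond)
      have h1 : uE ≫ hdiag.rep.snd k = u₁.1 :=
        (yon S).map_injective (by rw [Functor.map_comp, huE, sq.lift_snd])
      refine ⟨⟨EtOver.mk _ hEq, ⟨uE, ?_⟩⟩, ⟨EtOver.homMk (hdiag.rep.snd k) rfl, ?_⟩, ?_⟩
      · change (yon S).map uE ≫ (yon S).map _ ≫ E₁.obj.hom = p.toHom
        rw [← Category.assoc, ← Functor.map_comp, h1]
        exact u₁.2
      · exact Subtype.ext h1
      · apply Subtype.ext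
        apply EtOver.hom_ext
        change hdiag.rep.snd k ≫ f.hom.left = hdiag.rep.snd k ≫ g.hom.left
        rw [e1, e2]
  exact ⟨⟩

end Groth.Agent.Helper15
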