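import Groth.Agent.Lib.Helper15.AlgSpNoeth
import Mathlib.AlgebraicGeometry.AlgClosed.Basic
import Mathlib.FieldTheory.IsAlgClosed.AlgebraicClosure

set_option autoImplicit false
universe u
open CategoryTheory CategoryTheory.Limits AlgebraicGeometry MorphismProperty Opposite
open AlgSp

namespace Groth.Agent.Helper15

variable {S : Scheme.{u}}

/-- A nonempty scheme locally of finite type over an algebraically closed field has a rational
point. -/
theorem exists_section_of_lft_algClosed {X : Scheme.{u}} {k : Type u} [Field k] [IsAlgClosed k]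
    (f : X ⟶ Spec (CommRingCat.of k)) [LocallyOfFiniteType f] [Nonempty X] :
    ∃ s : Spec (CommRingCat.of k) ⟶ X, s ≫ f = 𝟙 _ := by
  haveI : JacobsonSpace X := LocallyOfFiniteType.jacobsonSpace f
  obtain ⟨x, -, hx⟩ := nonempty_inter_closedPoints (X := X) (Z := Set.univ) Set.univ_nonempty
    isOpen_univ.isLocallyClosed
  exact ⟨pointOfClosedPoint f x hx, pointOfClosedPoint_comp f x hx⟩

/-- Over-category version: a surjective lft morphism to the spectrum of an algebraically closed
field has a section. -/
theorem exists_over_section_of_lft_algClosed {k : Type u} [Field k] [IsAlgClosed k]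
    {str : Spec (CommRingCat.of k) ⟶ S} {W : Over S} (w : W ⟶ Over.mk str)
    (hw : LocallyOfFiniteType w.left) (hs : Surjective w.left) :
    ∃ σ : Over.mk str ⟶ W, σ ≫ w = 𝟙 _ := by
  haveI := hw
  haveI : Nonempty W.left := by
    obtain ⟨x, -⟩ := hs.surj (show ↥(Spec (CommRingCat.of k)) from IsLocalRing.closedPoint k)
    exact ⟨x⟩
  obtain ⟨s, hs⟩ := exists_section_of_lft_algClosed (k := k) w.left
  refine ⟨Over.homMk s ?_, Over.OverMorphism.ext hs⟩
  have := Over.w w
  dsimp at this ⊢
  rw [← this, ← Category.assoc, hs, Category.id_comp]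

end Groth.Agent.Helper15

namespace Groth.Agent.Helper15
variable {S : Scheme.{u}}

/-- S9954. -/
theorem isSurjectiveMor_iff_geometric_points {X Y : Sp S} (hX : IsAlgSpace X) (hY : IsAlgSpace Y)
    (f : X ⟶ Y) (hf : LocP @LocallyOfFiniteType f) :
    IsSurjectiveMor f ↔
      ∀ (k : Type u) [Field k] [IsAlgClosed k] (str : Spec (CommRingCat.of k) ⟶ S)
        (y : (yon S).obj (Over.mk str) ⟶ Y),
        ∃ x : (yon S).obj (Over.mk str) ⟶ X, x ≫ f = y := by
  constructor
  · intro hs k _ _ str y
    obtain ⟨V, p, hpe, hps⟩ := hY.atlas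
    have sqV : IsPullback (pullback.fst f p) (pullback.snd f p) f p :=
      IsPullback.of_hasPullback _ _
    have hXV : IsAlgSpace (pullback f p) :=
      isAlgSpace_of_isPullback hY.diag hX (IsAlgSpace.yon_obj V) sqV
    obtain ⟨U, q', hq'e, hq's⟩ := hXV.atlas
    obtain ⟨h₀, hh₀⟩ := (yon S).map_surjective (q' ≫ pullback.snd f p)
    have hfst : RepWith @Etale (pullback.fst f p) := (RepWith @Etale).of_isPullback sqV.flip hpe
    have hlft : LocallyOfFiniteType h₀.left :=
      hf (q' ≫ pullback.fst f p) p h₀ ((RepWith @Etale).comp_mem _ _ hq'e hfst) hpe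
        (by rw [Category.assoc, sqV.w, ← Category.assoc, hh₀])
    have hsurj : Surjective h₀.left := by
      have h1 : IsSurjectiveMor ((yon S).map h₀) := by
        rw [hh₀]
        intro z
        obtain ⟨z', hz'⟩ := isSurjectiveMor_of_isPullback sqV hs z
        obtain ⟨z'', hz''⟩ := isSurjectiveMor_of_repWith_surjective q' hq's z'
        exact ⟨z'', by rw [Points.map_comp, hz'', hz']⟩
      exact (repWith_yon_map_iff _ h₀).1
        (repWith_surjective_of_isSurjectiveMor _ (representable_yon_map h₀) h1)
    -- lift `y` to `V`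
    have prep := hpe.rep
    have sqW := prep.isPullback' y
    obtain ⟨σ, hσ⟩ := exists_over_section_of_lft_algClosed (prep.snd y)
      (etale_le_lft _ _ _ (hpe.property_snd y)) (hps.property_snd y)
    have hv : (yon S).map (σ ≫ prep.fst' y) ≫ p = y := by
      rw [Functor.map_comp, Category.assoc, sqW.w, ← Category.assoc, ← Functor.map_comp, hσ,
        CategoryTheory.Functor.map_id, Category.id_comp]
    -- lift to `U`
    have sqU : IsPullback (pullback.fst h₀ (σ ≫ prep.fst' y)) (pullback.snd h₀ (σ ≫ prep.fst' y))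
        h₀ (σ ≫ prep.fst' y) := IsPullback.of_hasPullback _ _
    have sqUL := sqU.map (Over.forget S)
    obtain ⟨τ, hτ⟩ := exists_over_section_of_lft_algClosed (pullback.snd h₀ (σ ≫ prep.fst' y))
      (MorphismProperty.of_isPullback (P := @LocallyOfFiniteType) sqUL hlft)
      (MorphismProperty.of_isPullback (P := @Surjective) sqUL hsurj)
    refine ⟨(yon S).map (τ ≫ pullback.fst h₀ (σ ≫ prep.fst' y)) ≫ q' ≫ pullback.fst f p, ?_⟩
    rw [Category.assoc, Category.assoc, sqV.w, ← Category.assoc q', ← hh₀, ← Category.assoc,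
      ← Functor.map_comp, Category.assoc, sqU.w, ← Category.assoc, hτ, Category.id_comp, hv]
  · intro h y
    obtain ⟨K, _, str, η, rfl⟩ := exists_ofField y
    let k := AlgebraicClosure K
    let ι : Spec (CommRingCat.of k) ⟶ Spec (CommRingCat.of K) :=
      Spec.map (CommRingCat.ofHom (algebraMap K k))
    let ι' : Over.mk (ι ≫ str) ⟶ Over.mk str := Over.homMk ι rfl
    obtain ⟨x', hx'⟩ := h k (ι ≫ str) ((yon S).map ι' ≫ η)
    refine ⟨ofField x', ?_⟩
    rw [map_ofField, hx', ofField_comp]

end Groth.Agent.Helper15
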