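import Groth.Agent.Lib.Helper15.AlgSpProper

/-!
# Universally closed / proper morphisms: composition and cancellation
-/

set_option autoImplicit false
universe u
open CategoryTheory CategoryTheory.Limits AlgebraicGeometry MorphismProperty Opposite
open AlgSp

namespace Groth.Agent.Helper15

variable {S : Scheme.{u}}

theorem UnivSp.of_isPullback {Q : MorphismProperty (Sp S)} {X Y Y' P : Sp S} {f : X ⟶ Y}
    {g : Y' ⟶ Y} {fst : P ⟶ X} {snd : P ⟶ Y'} (sq : IsPullback fst snd f g) (h : UnivSp Q f) :
    UnivSp Q snd := by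
  intro Z Z' hZ t fstZ sndZ sqZ
  exact h hZ (t ≫ g) (fstZ ≫ fst) sndZ (sqZ.paste_horiz sq)

/-- Composition of universally closed morphisms (through an algebraic space). -/
theorem isUnivClosedMor_comp {X Y W : Sp S} (hY : IsAlgSpace Y) (hW : Representable (Limits.diag W))
    (f : X ⟶ Y) (g : Y ⟶ W) (hf : IsUnivClosedMor f) (hg : IsUnivClosedMor g) :
    IsUnivClosedMor (f ≫ g) := by
  intro Z Z' hZ t fstZ sndZ sqZ
  have sqY : IsPullback (pullback.fst g t) (pullback.snd g t) g t := IsPullback.of_hasPullback _ _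
  have hYZ : IsAlgSpace (pullback g t) := isAlgSpace_of_isPullback hW hY hZ sqY
  have hw : (fstZ ≫ f) ≫ g = sndZ ≫ t := by rw [Category.assoc, sqZ.w]
  have sqL : IsPullback fstZ (sqY.lift _ _ hw) f (pullback.fst g t) := by
    refine IsPullback.of_bot ?_ (sqY.lift_fst _ _ hw).symm sqY
    rw [sqY.lift_snd]
    exact sqZ
  have h1 : IsClosedMor (sqY.lift _ _ hw) := hf hYZ _ _ _ sqL
  have h2 : IsClosedMor (pullback.snd g t) := hg hZ t _ _ sqY
  have e : sndZ = sqY.lift _ _ hw ≫ pullback.snd g t := (sqY.lift_snd _ _ hw).symm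
  intro C hC
  rw [e]
  have : Points.map (sqY.lift _ _ hw ≫ pullback.snd g t) '' C =
      Points.map (pullback.snd g t) '' (Points.map (sqY.lift _ _ hw) '' C) := by
    rw [Set.image_image]
    apply Set.image_congr
    intro x _
    exact Points.map_comp _ _ _
  rw [this]
  exact h2 _ (h1 _ hC)

theorem isClosedMor_of_isUnivClosedMor {X Y : Sp S} (hY : IsAlgSpace Y) (f : X ⟶ Y)
    (hf : IsUnivClosedMor f) : IsClosedMor f :=
  hf hY (𝟙 Y) (𝟙 X) f (IsPullback.of_horiz_isIso ⟨by simp⟩)

/-- The graph of `f : X ⟶ Y` over `B` as a section of the first projection. -/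
theorem repWith_graph {P : MorphismProperty Scheme.{u}} {X Y B : Sp S} (f : X ⟶ Y) (p : X ⟶ B)
    (q : Y ⟶ B) (comm : f ≫ q = p) (hq : RepWith P (pullback.diagonal q)) :
    RepWith P (pullback.lift (𝟙 X) f (by rw [Category.id_comp, comm]) : X ⟶ pullback p q) := by
  have sq : IsPullback (pullback.fst p q) (pullback.snd p q) p q := IsPullback.of_hasPullback _ _
  have hd : RepWith P (pullback.diagonal (pullback.fst p q)) :=
    (RepWith P).diagonal.of_isPullback sq.flip hq
  exact repWith_section (pullback.fst p q) _ (pullback.lift_fst _ _ _) hd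

/-- S10278, universally closed part. -/
theorem isUnivClosedMor_of_comp_separated {X Y B : Sp S} (hX : IsAlgSpace X) (hY : IsAlgSpace Y)
    (hB : Representable (Limits.diag B)) (f : X ⟶ Y) (p : X ⟶ B) (q : Y ⟶ B) (comm : f ≫ q = p)
    (hq : IsSeparatedMor q) (hp : IsUnivClosedMor p) : IsUnivClosedMor f := by
  have sq : IsPullback (pullback.fst p q) (pullback.snd p q) p q := IsPullback.of_hasPullback _ _
  have hP : IsAlgSpace (pullback p q) := isAlgSpace_of_isPullback hB hX hY sq
  have hΓ := repWith_graph f p q comm hq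
  have h1 : IsUnivClosedMor (pullback.lift (𝟙 X) f (by rw [Category.id_comp, comm]) :
      X ⟶ pullback p q) :=
    isUnivClosedMor_of_repWith _ (repWith_mono isClosedImmersion_le_universallyClosed' hΓ)
  have h2 : IsUnivClosedMor (pullback.snd p q) := UnivSp.of_isPullback sq hp
  have := isUnivClosedMor_comp hP hY.diag _ _ h1 h2
  rwa [pullback.lift_snd] at this

end Groth.Agent.Helper15

namespace Groth.Agent.Helper15

variable {S : Scheme.{u}}

set_option backward.isDefEq.respectTransparency false in
instance mono_mapDesc' {C : Type*} [Category C] [HasPullbacks C] {X Y Z T : C} (f : X ⟶ Z)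
    (g : Y ⟶ Z) (h : Z ⟶ T) : Mono (pullback.mapDesc f g h) := by
  constructor
  intro W a b hab
  apply pullback.hom_ext
  · have := congrArg (· ≫ pullback.fst _ _) hab
    simpa using this
  · have := congrArg (· ≫ pullback.snd _ _) hab
    simpa using this

set_option backward.isDefEq.respectTransparency false in
/-- If `f ≫ q` is separated then so is `f`. -/
theorem isSeparatedMor_of_comp {P : MorphismProperty Scheme.{u}} {X Y B : Sp S} (f : X ⟶ Y)
    (q : Y ⟶ B) (h : RepWith P (pullback.diagonal (f ≫ q))) : RepWith P (pullback.diagonal f) := by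
  have e : pullback.diagonal f ≫ pullback.mapDesc f f q = pullback.diagonal (f ≫ q) := by
    apply pullback.hom_ext <;> simp
  rw [← e] at h
  exact repWith_of_comp_mono _ _ h

/-- S10278, proper part. -/
theorem isProperMor_of_comp_separated {X Y B : Sp S} (hX : IsAlgSpace X) (hY : IsAlgSpace Y)
    (hB : IsAlgSpace B) (f : X ⟶ Y) (p : X ⟶ B) (q : Y ⟶ B) (comm : f ≫ q = p)
    (hq : IsSeparatedMor q) (hp : IsProperMor p) : IsProperMor f := by
  obtain ⟨hp1, ⟨hp2, hp3⟩, hp4⟩ := hp
  refine ⟨?_, ⟨?_, ?_⟩, isUnivClosedMor_of_comp_separated hX hY hB.diag f p q comm hq hp4⟩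
  · subst comm
    exact isSeparatedMor_of_comp f q hp1
  · subst comm
    exact locP_of_comp (P := @LocallyOfFiniteType) (P' := @LocallyOfFiniteType)
      (Q := ⊤) (fun f g hfg _ => by
        haveI : LocallyOfFiniteType (f ≫ g) := hfg
        exact locallyOfFiniteType_of_comp f g) hB f q hp2
      (fun _ _ _ _ _ _ _ _ => trivial)
  · subst comm
    exact isQuasiCompactMor_of_comp f q hp3
      (repWith_mono isClosedImmersion_le_quasiCompact hq)

end Groth.Agent.Helper15
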