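import Groth.Agent.Lib.Helper15.AlgSpBasic
import Groth.Prelude.Def_AlgSpGpd

/-!
# Calculus of `T`-valued points of a groupoid in sheaves
-/

set_option autoImplicit false
universe u
open CategoryTheory CategoryTheory.Limits AlgebraicGeometry Opposite
open AlgSp

namespace Groth.Agent.Helper15

variable {S : Scheme.{u}} {B : Sp S} (G : GroupoidSp B)

/-- Composition of `T`-valued arrows of a groupoid. -/
noncomputable def gcomp {T : Sp S} (α β : T ⟶ G.R) (h : α ≫ G.s = β ≫ G.t) : T ⟶ G.R :=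
  pullback.lift α β h ≫ G.c

theorem gcomp_congr {T : Sp S} {α α' β β' : T ⟶ G.R} (h : α ≫ G.s = β ≫ G.t) (hα : α = α')
    (hβ : β = β') : gcomp G α β h = gcomp G α' β' (by rw [← hα, ← hβ, h]) := by
  subst hα; subst hβ; rfl

@[simp]
theorem gcomp_s {T : Sp S} (α β : T ⟶ G.R) (h : α ≫ G.s = β ≫ G.t) :
    gcomp G α β h ≫ G.s = β ≫ G.s := G.comp_s α β h

@[simp]
theorem gcomp_t {T : Sp S} (α β : T ⟶ G.R) (h : α ≫ G.s = β ≫ G.t) :
    gcomp G α β h ≫ G.t = α ≫ G.t := G.comp_t α β h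

theorem gcomp_assoc {T : Sp S} (α β γ : T ⟶ G.R) (h₁ : α ≫ G.s = β ≫ G.t)
    (h₂ : β ≫ G.s = γ ≫ G.t) :
    gcomp G (gcomp G α β h₁) γ ((gcomp_s G α β h₁).trans h₂) =
      gcomp G α (gcomp G β γ h₂) (h₁.trans (gcomp_t G β γ h₂).symm) :=
  G.assoc α β γ h₁ h₂

theorem precomp_gcomp {T T' : Sp S} (k : T' ⟶ T) (α β : T ⟶ G.R) (h : α ≫ G.s = β ≫ G.t) :
    k ≫ gcomp G α β h = gcomp G (k ≫ α) (k ≫ β)
      (by rw [Category.assoc, Category.assoc, h]) := by
  unfold gcomp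
  rw [← Category.assoc]
  congr 1
  apply pullback.hom_ext
  · rw [Category.assoc, pullback.lift_fst, pullback.lift_fst]
  · rw [Category.assoc, pullback.lift_snd, pullback.lift_snd]

theorem c_eq_gcomp :
    G.c = gcomp G (pullback.fst G.s G.t) (pullback.snd G.s G.t) pullback.condition := by
  unfold gcomp
  have : pullback.lift (pullback.fst G.s G.t) (pullback.snd G.s G.t) pullback.condition = 𝟙 _ := by
    apply pullback.hom_ext
    · rw [pullback.lift_fst, Category.id_comp]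
    · rw [pullback.lift_snd, Category.id_comp]
  rw [this, Category.id_comp]

theorem comp_c_eq {T : Sp S} (x : T ⟶ pullback G.s G.t) :
    x ≫ G.c = gcomp G (x ≫ pullback.fst G.s G.t) (x ≫ pullback.snd G.s G.t)
      (by rw [Category.assoc, Category.assoc, pullback.condition]) := by
  unfold gcomp
  congr 1
  apply pullback.hom_ext
  · rw [pullback.lift_fst]
  · rw [pullback.lift_snd]

/-- right unit -/
theorem gcomp_e {T : Sp S} (α β : T ⟶ G.R) (hβ : β = (α ≫ G.s) ≫ G.e) :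
    gcomp G α β (by rw [hβ, Category.assoc, G.e_t, Category.comp_id]) = α := by
  subst hβ
  have := G.comp_e α
  simp only [Category.assoc] at this ⊢
  exact this

/-- left unit -/
theorem e_gcomp {T : Sp S} (α β : T ⟶ G.R) (hα : α = (β ≫ G.t) ≫ G.e) :
    gcomp G α β (by rw [hα, Category.assoc, G.e_s, Category.comp_id]) = β := by
  subst hα
  have := G.e_comp β
  simp only [Category.assoc] at this ⊢
  exact this

/-- right inverse -/
theorem gcomp_i {T : Sp S} (α : T ⟶ G.R) :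
    gcomp G α (α ≫ G.i) (by rw [Category.assoc, G.i_t]) = (α ≫ G.t) ≫ G.e := by
  have := G.comp_i α
  simp only [Category.assoc] at this ⊢
  exact this

/-- left inverse -/
theorem i_gcomp {T : Sp S} (α : T ⟶ G.R) :
    gcomp G (α ≫ G.i) α (by rw [Category.assoc, G.i_s]) = (α ≫ G.s) ≫ G.e := by
  have := G.i_comp α
  simp only [Category.assoc] at this ⊢
  exact this

/-- `(α ∘ β) ∘ β⁻¹ = α` -/
theorem gcomp_gcomp_i {T : Sp S} (α β : T ⟶ G.R) (h : α ≫ G.s = β ≫ G.t) :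
    gcomp G (gcomp G α β h) (β ≫ G.i) (by rw [gcomp_s, Category.assoc, G.i_t]) = α := by
  rw [gcomp_assoc G α β (β ≫ G.i) h (by rw [Category.assoc, G.i_t])]
  rw [gcomp_congr G _ rfl (gcomp_i G β)]
  exact gcomp_e G α _ (by rw [h])

/-- `(α ∘ β⁻¹) ∘ β = α` -/
theorem gcomp_i_gcomp {T : Sp S} (α β : T ⟶ G.R) (h : α ≫ G.s = β ≫ G.s) :
    gcomp G (gcomp G α (β ≫ G.i) (by rw [Category.assoc, G.i_t, h])) β
      (by rw [gcomp_s, Category.assoc, G.i_s]) = α := by
  rw [gcomp_assoc G α (β ≫ G.i) β (by rw [Category.assoc, G.i_t, h])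
    (by rw [Category.assoc, G.i_s])]
  rw [gcomp_congr G _ rfl (i_gcomp G β)]
  exact gcomp_e G α _ (by rw [h])

/-- `α⁻¹ ∘ (α ∘ β) = β` -/
theorem i_gcomp_gcomp {T : Sp S} (α β : T ⟶ G.R) (h : α ≫ G.s = β ≫ G.t) :
    gcomp G (α ≫ G.i) (gcomp G α β h) (by rw [gcomp_t, Category.assoc, G.i_s]) = β := by
  rw [← gcomp_assoc G (α ≫ G.i) α β (by rw [Category.assoc, G.i_s]) h]
  rw [gcomp_congr G _ (i_gcomp G α) rfl]
  exact e_gcomp G _ β (by rw [h])

/-- `α ∘ (α⁻¹ ∘ β) = β` -/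
theorem gcomp_i_gcomp' {T : Sp S} (α β : T ⟶ G.R) (h : α ≫ G.t = β ≫ G.t) :
    gcomp G α (gcomp G (α ≫ G.i) β (by rw [Category.assoc, G.i_s, h]))
      (by rw [gcomp_t, Category.assoc, G.i_t]) = β := by
  rw [← gcomp_assoc G α (α ≫ G.i) β (by rw [Category.assoc, G.i_t])
    (by rw [Category.assoc, G.i_s, h])]
  rw [gcomp_congr G _ (gcomp_i G α) rfl]
  exact e_gcomp G _ β (by rw [h])

end Groth.Agent.Helper15
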