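import Groth.Agent.Lib.Helper15.AlgSpFieldCover
import Groth.Agent.Lib.Helper15.AlgSpLocP3
import Groth.Agent.Lib.Helper15.AlgSpLocPListed
import Groth.Agent.Lib.Helper15.AlgSpProper2
import Groth.Agent.Lib.Helper15.SchemeClosedImm
import Groth.Agent.Lib.Helper15.GpdSp

/-!
# Morphisms to the spectrum of a field; multiplication of group spaces / groupoids over a field
-/

set_option autoImplicit false
universe u
open CategoryTheory CategoryTheory.Limits AlgebraicGeometry MorphismProperty Opposite MonoidalCategory
  CartesianMonoidalCategory MonObj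
open AlgSp

namespace Groth.Agent.Helper15

variable {S : Scheme.{u}}

/-- Every morphism to the spectrum of a field is flat (étale locally on source and target). -/
theorem locP_flat_to_field {k : Type u} [Field k] (σ : Spec (CommRingCat.of k) ⟶ S)
    {X : Sp S} (p : X ⟶ (yon S).obj (Over.mk σ)) : LocP @Flat p := by
  intro U V a b h ha hb comm
  obtain ⟨b', rfl⟩ := (yon S).map_surjective b
  haveI : Etale b'.left := (repWith_yon_map_iff _ b').1 hb
  exact flat_of_forall_isField_stalk h.left
    (fun v => isField_stalk_of_etale_over_field (k := k) b'.left v)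

/-- Every morphism from an algebraic space to the spectrum of a field is universally open. -/
theorem isUnivOpenMor_to_field {k : Type u} [Field k] (σ : Spec (CommRingCat.of k) ⟶ S)
    {X : Sp S} (hX : IsAlgSpace X) (p : X ⟶ (yon S).obj (Over.mk σ)) : IsUnivOpenMor p := by
  obtain ⟨U, q, hqe, hqs⟩ := hX.atlas
  obtain ⟨h₀, hh₀⟩ := (yon S).map_surjective (q ≫ p)
  haveI : UniversallyOpen h₀.left :=
    (inferInstance : UniversallyOpen (Y := Spec (CommRingCat.of k)) h₀.left)
  have h3 : RepWith @UniversallyOpen (q ≫ p) := by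
    rw [← hh₀]; exact (repWith_yon_map_iff _ h₀).2 inferInstance
  exact isUnivOpenMor_of_comp_surjective q p hqs (isUnivOpenMor_of_repWith _ h3)

/-- The multiplication of a group object is a base change of the structure morphism. -/
theorem isPullback_fst_mul_left {B : Sp S} (G : Over B) [GrpObj G] :
    IsPullback (fst G G).left (μ[G]).left G.hom G.hom := by
  let sh : G ⊗ G ⟶ G ⊗ G := lift (fst G G) (fst G G * snd G G)
  let g : G ⊗ G ⟶ G ⊗ G := lift (fst G G) ((fst G G)⁻¹ * snd G G)
  have h1 : sh ≫ g = 𝟙 _ := by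
    apply CartesianMonoidalCategory.hom_ext
    · simp [sh, g]
    · simp [sh, g, MonObj.comp_mul, GrpObj.comp_inv]
  have h2 : g ≫ sh = 𝟙 _ := by
    apply CartesianMonoidalCategory.hom_ext
    · simp [sh, g]
    · simp [sh, g, MonObj.comp_mul, GrpObj.comp_inv]
  have hμ : μ[G] = fst G G * snd G G := by
    rw [Hom.mul_def]
    simp
  let e : G ⊗ G ≅ G ⊗ G := ⟨sh, g, h1, h2⟩
  let eL : (G ⊗ G).left ≅ pullback G.hom G.hom := (Over.forget B).mapIso e
  have base : IsPullback (pullback.fst G.hom G.hom) (pullback.snd G.hom G.hom) G.hom G.hom :=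
    IsPullback.of_hasPullback _ _
  refine IsPullback.of_iso base eL.symm (Iso.refl _) (Iso.refl _) (Iso.refl _) ?_ ?_ ?_ ?_
  · rw [Iso.symm_hom, Iso.refl_hom, Category.comp_id, Iso.eq_inv_comp]
    change sh.left ≫ (fst G G).left = _
    rw [← Over.comp_left]
    congr 1
    simp [sh]
  · rw [Iso.symm_hom, Iso.refl_hom, Category.comp_id, Iso.eq_inv_comp]
    change sh.left ≫ (snd G G).left = _
    rw [← Over.comp_left]
    congr 1
    simp [sh, hμ]
  · simp
  · simp

end Groth.Agent.Helper15
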