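import Groth.Agent.Lib.Helper15.AlgSpRepSrc
import Groth.Prelude.Def_AlgSpSub

set_option autoImplicit false
universe u
open CategoryTheory CategoryTheory.Limits AlgebraicGeometry MorphismProperty Opposite
open AlgSp

namespace Groth.Agent.Helper15

variable {S : Scheme.{u}}

/-- A map of sheaves which is bijective on maps from representables is an isomorphism. -/
theorem isIso_of_yon_bijective {F G : Sp S} (φ : F ⟶ G)
    (hinj : ∀ (T : Over S) (a b : (yon S).obj T ⟶ F), a ≫ φ = b ≫ φ → a = b)
    (hsurj : ∀ (T : Over S) (x : (yon S).obj T ⟶ G), ∃ a : (yon S).obj T ⟶ F, a ≫ φ = x) :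
    IsIso φ := by
  haveI : Mono φ := mono_of_yon φ hinj
  haveI : Sheaf.IsLocallySurjective φ := by
    apply Presheaf.isLocallySurjective_of_surjective
    rintro ⟨T⟩ s
    obtain ⟨x, rfl⟩ := (yonEquiv (T := T) (F := G)).surjective s
    obtain ⟨a, rfl⟩ := hsurj T x
    exact ⟨yonEquiv a, (GrothendieckTopology.uliftYonedaEquiv_comp (J S) a φ).symm⟩
  haveI : Epi φ := Sheaf.epi_of_isLocallySurjective φ
  exact isIso_of_mono_of_epi φ

/-- A commutative square of sheaves over a monomorphism `i`, with top-right map `h_snd` for a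
monomorphism `snd` of schemes, is a pullback as soon as every `c : T' ⟶ T` with `h_c ≫ g`
factoring through `i` factors through `snd`. -/
theorem isPullback_of_mono_of_yon_lift {Z Y : Sp S} {T W : Over S} (i : Z ⟶ Y) [Mono i]
    (g : (yon S).obj T ⟶ Y) (snd : W ⟶ T) [Mono snd] (fst : (yon S).obj W ⟶ Z)
    (comm : fst ≫ i = (yon S).map snd ≫ g)
    (H : ∀ (T' : Over S) (c : T' ⟶ T) (z : (yon S).obj T' ⟶ Z),
      z ≫ i = (yon S).map c ≫ g → ∃ c' : T' ⟶ W, c' ≫ snd = c) :
    IsPullback fst ((yon S).map snd) i g := by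
  let φ : (yon S).obj W ⟶ pullback i g := pullback.lift fst ((yon S).map snd) comm
  have hφ1 : φ ≫ pullback.fst i g = fst := pullback.lift_fst _ _ _
  have hφ2 : φ ≫ pullback.snd i g = (yon S).map snd := pullback.lift_snd _ _ _
  haveI : IsIso φ := by
    apply isIso_of_yon_bijective
    · intro T' a b hab
      obtain ⟨a, rfl⟩ := (yon S).map_surjective a
      obtain ⟨b, rfl⟩ := (yon S).map_surjective b
      have h1 : (yon S).map a ≫ (yon S).map snd = (yon S).map b ≫ (yon S).map snd := by
        rw [← hφ2, ← Category.assoc, hab, Category.assoc]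
      rw [← Functor.map_comp, ← Functor.map_comp] at h1
      have h2 := (yon S).map_injective h1
      rw [cancel_mono] at h2
      rw [h2]
    · intro T' x
      obtain ⟨c, hc⟩ := (yon S).map_surjective (x ≫ pullback.snd i g)
      obtain ⟨c', hc'⟩ := H T' c (x ≫ pullback.fst i g) (by
        rw [Category.assoc, pullback.condition, ← Category.assoc, hc])
      refine ⟨(yon S).map c', ?_⟩
      apply pullback.hom_ext
      · rw [← cancel_mono i]
        calc ((yon S).map c' ≫ φ ≫ pullback.fst i g) ≫ i
            = (yon S).map c' ≫ (φ ≫ pullback.fst i g) ≫ i := by simp only [Category.assoc]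
          _ = (yon S).map c' ≫ (yon S).map snd ≫ g := by rw [hφ1, comm]
          _ = (yon S).map (c' ≫ snd) ≫ g := by rw [Functor.map_comp, Category.assoc]
          _ = (x ≫ pullback.snd i g) ≫ g := by rw [hc', hc]
          _ = (x ≫ pullback.fst i g) ≫ i := by
            rw [Category.assoc, Category.assoc, pullback.condition]
      · rw [Category.assoc, hφ2, ← Functor.map_comp, hc', hc]
  exact IsPullback.of_iso_pullback ⟨comm⟩ (asIso φ) hφ1 hφ2

/-- The intersection of a family of subsheaves is a subsheaf. -/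
theorem isSheaf_iInf_subfunctor {F : Sp S} {ι : Sort*} (G : ι → Subfunctor F.obj)
    (h : ∀ k, Presieve.IsSheaf (J S) (G k).toFunctor) :
    Presieve.IsSheaf (J S) (⨅ k, G k).toFunctor := by
  have hF : Presieve.IsSheaf (J S) F.obj := (isSheaf_iff_isSheaf_of_type _ _).1 F.property
  rw [Subfunctor.isSheaf_iff _ hF]
  intro U s hs
  rw [Subfunctor.iInf_obj]
  simp only [Set.mem_iInter]
  intro k
  refine (Subfunctor.isSheaf_iff _ hF).1 (h k) U s ((J S).superset_covering ?_ hs)
  intro V f hf
  have hf' : F.obj.map f.op s ∈ (⨅ k, G k).obj (op V) := hf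
  rw [Subfunctor.iInf_obj] at hf'
  exact Set.mem_iInter.1 hf' k

/-- The image of a monomorphism of sheaves is a subsheaf. -/
theorem isSheaf_range_of_mono {F G : Sp S} (p : F ⟶ G) [Mono p] :
    Presieve.IsSheaf (J S) (Subfunctor.range p.hom).toFunctor := by
  have hF : Presieve.IsSheaf (J S) F.obj := (isSheaf_iff_isSheaf_of_type _ _).1 F.property
  haveI : Mono p.hom := (Sheaf.Hom.mono_iff_presheaf_mono _ _ p).1 inferInstance
  exact Presieve.isSheaf_iso (J S) (asIso (Subfunctor.toRange p.hom)) hF

section Inter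

variable {Y : Sp S} {ι : Sort*} (Z' : ι → Sp S) (i' : ∀ k, Z' k ⟶ Y) [∀ k, Mono (i' k)]

/-- The intersection of a family of subsheaves (given by monomorphisms). -/
noncomputable def interSub : Sp S :=
  ⟨(⨅ k, Subfunctor.range (i' k).hom).toFunctor,
    (isSheaf_iff_isSheaf_of_type _ _).2
      (isSheaf_iInf_subfunctor _ fun k => isSheaf_range_of_mono (i' k))⟩

/-- The inclusion of the intersection. -/
noncomputable def interSubι : interSub Z' i' ⟶ Y :=
  ⟨(⨅ k, Subfunctor.range (i' k).hom).ι⟩

instance : Mono (interSubι Z' i') := by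
  haveI : Mono (interSubι Z' i').hom := by
    change Mono (⨅ k, Subfunctor.range (i' k).hom).ι
    infer_instance
  exact Sheaf.Hom.mono_of_presheaf_mono _ _ _

/-- The intersection is contained in each member. -/
theorem exists_interSub_to (k : ι) : ∃ j : interSub Z' i' ⟶ Z' k, j ≫ i' k = interSubι Z' i' := by
  haveI : Mono (i' k).hom := (Sheaf.Hom.mono_iff_presheaf_mono _ _ (i' k)).1 inferInstance
  refine ⟨⟨Subfunctor.homOfLe (iInf_le _ k) ≫ inv (Subfunctor.toRange (i' k).hom)⟩, ?_⟩
  apply Sheaf.hom_ext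
  change (Subfunctor.homOfLe (iInf_le _ k) ≫ inv (Subfunctor.toRange (i' k).hom)) ≫ (i' k).hom =
    (⨅ k, Subfunctor.range (i' k).hom).ι
  have h1 : inv (Subfunctor.toRange (i' k).hom) ≫ (i' k).hom =
      (Subfunctor.range (i' k).hom).ι := by
    rw [IsIso.inv_comp_eq, Subfunctor.toRange_ι]
  rw [Category.assoc, h1, Subfunctor.homOfLe_ι]

/-- A map factors through the intersection iff it factors through every member. -/
theorem factors_interSub_iff {F : Sp S} (f : F ⟶ Y) :
    (∃ f' : F ⟶ interSub Z' i', f' ≫ interSubι Z' i' = f) ↔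
      ∀ k, ∃ f'' : F ⟶ Z' k, f'' ≫ i' k = f := by
  constructor
  · rintro ⟨f', rfl⟩ k
    obtain ⟨j, hj⟩ := exists_interSub_to Z' i' k
    exact ⟨f' ≫ j, by rw [Category.assoc, hj]⟩
  · intro h
    have hle : Subfunctor.range f.hom ≤ ⨅ k, Subfunctor.range (i' k).hom := by
      refine le_iInf fun k => ?_
      obtain ⟨f'', rfl⟩ := h k
      exact Subfunctor.range_comp_le f''.hom (i' k).hom
    refine ⟨⟨Subfunctor.lift f.hom hle⟩, ?_⟩
    apply Sheaf.hom_ext
    exact Subfunctor.lift_ι f.hom hle

/-- The intersection of a family of closed subspaces is a closed subspace. -/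
theorem repWith_isClosedImmersion_interSubι (h : ∀ k, RepWith @IsClosedImmersion (i' k)) :
    RepWith @IsClosedImmersion (interSubι Z' i') := by
  haveI : MorphismProperty.RespectsIso (@IsClosedImmersion : MorphismProperty Scheme.{u}) :=
    inferInstance
  haveI : (MorphismProperty.inverseImage (@IsClosedImmersion : MorphismProperty Scheme.{u})
      (Over.forget S)).RespectsIso := RespectsIso.inverseImage _ _
  apply MorphismProperty.relative.of_exists
  intro T g
  have hcl : ∀ k, IsClosedImmersion ((h k).rep.snd g).left := fun k => (h k).property_snd g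
  let I₀ : T.left.IdealSheafData := ⨆ k, ((h k).rep.snd g).left.ker
  let W : Over S := Over.mk (I₀.subschemeι ≫ T.hom)
  let snd : W ⟶ T := Over.homMk I₀.subschemeι rfl
  haveI : Mono snd := by
    haveI : Mono snd.left := (inferInstance : Mono I₀.subschemeι)
    exact Over.mono_of_mono_left snd
  have hfac : ∀ k, ∃ f'' : (yon S).obj W ⟶ Z' k, f'' ≫ i' k = (yon S).map snd ≫ g := by
    intro k
    haveI := hcl k
    have hle : ((h k).rep.snd g).left.ker ≤ I₀.subschemeι.ker := by
      rw [Scheme.IdealSheafData.ker_subschemeι]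
      exact le_iSup (fun k => ((h k).rep.snd g).left.ker) k
    let l := IsClosedImmersion.lift ((h k).rep.snd g).left I₀.subschemeι hle
    have hl : l ≫ ((h k).rep.snd g).left = I₀.subschemeι := IsClosedImmersion.lift_fac _ _ _
    let l' : W ⟶ (h k).rep.pullback g := Over.homMk l (by
      change l ≫ ((h k).rep.pullback g).hom = I₀.subschemeι ≫ T.hom
      rw [← hl, Category.assoc, CategoryTheory.Over.w])
    have hl' : l' ≫ (h k).rep.snd g = snd := by
      apply Over.OverMorphism.ext
      exact hl
    refine ⟨(yon S).map l' ≫ (h k).rep.fst g, ?_⟩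
    rw [Category.assoc, (h k).rep.w g, ← Category.assoc, ← Functor.map_comp, hl']
  obtain ⟨fst, hfst⟩ := (factors_interSub_iff Z' i' _).2 hfac
  refine ⟨W, fst, snd, isPullback_of_mono_of_yon_lift _ g snd fst hfst ?_,
    (inferInstance : IsClosedImmersion I₀.subschemeι)⟩
  intro T' c z hz
  have hz' := (factors_interSub_iff Z' i' ((yon S).map c ≫ g)).1 ⟨z, hz⟩
  have hle : I₀.subschemeι.ker ≤ c.left.ker := by
    rw [Scheme.IdealSheafData.ker_subschemeι]
    refine iSup_le fun k => ?_
    obtain ⟨f'', hf''⟩ := hz' k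
    have hd : (h k).rep.lift f'' c hf'' ≫ (h k).rep.snd g = c := (h k).rep.lift_snd _ _ _
    have hd' : ((h k).rep.lift f'' c hf'').left ≫ ((h k).rep.snd g).left = c.left := by
      rw [← Over.comp_left, hd]
    rw [← hd']
    exact Scheme.Hom.le_ker_comp _ _
  let c' := IsClosedImmersion.lift I₀.subschemeι c.left hle
  have hc' : c' ≫ I₀.subschemeι = c.left := IsClosedImmersion.lift_fac _ _ _
  refine ⟨Over.homMk c' ?_, ?_⟩
  · change c' ≫ I₀.subschemeι ≫ T.hom = T'.hom
    rw [← Category.assoc, hc', CategoryTheory.Over.w]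
  · apply Over.OverMorphism.ext
    exact hc'

end Inter

end Groth.Agent.Helper15
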