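import Groth.Agent.Lib.Helper15.SchemeLC
import Groth.Agent.Lib.Helper15.AlgSpTop
import Groth.Agent.Lib.Helper15.AlgSpUniv
import Groth.Agent.Lib.Helper15.AlgSpUnram

set_option autoImplicit false
set_option linter.style.haveILetI false
universe u
open CategoryTheory CategoryTheory.Limits AlgebraicGeometry MorphismProperty Opposite Topology
open AlgSp

namespace Groth.Agent.Helper15
variable {S : Scheme.{u}}

/-- S10189 -/
theorem isLocallyConstructible_preimage_of_chart {X : Sp S} (E : Set (Points X)) {U : Over S}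
    (p : (yon S).obj U ⟶ X) (hp : RepWith @Etale p) (hs : RepWith @Surjective p)
    (hE : IsLocallyConstructible (Points.ofPt p ⁻¹' E))
    {V : Over S} (a : (yon S).obj V ⟶ X) (ha : RepWith @Etale a) :
    IsLocallyConstructible (Points.ofPt a ⁻¹' E) := by
  have sq := hp.rep.isPullback' a
  haveI h1 : Etale (hp.rep.snd a).left := hp.property_snd a
  haveI h1s : Surjective (hp.rep.snd a).left := hs.property_snd a
  have h2 := isLocallyConstructible_preimage (hp.rep.fst' a).left hE
  refine isLocallyConstructible_of_preimage_etale_surjective (hp.rep.snd a).left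
    (hp.rep.snd a).left.surjective ?_
  convert h2 using 1
  ext w
  simp only [Set.mem_preimage]
  rw [← ofPt_comp_yon_map, ← ofPt_comp_yon_map, sq.w]

/-- S9981 -/
theorem etaleLocallyConstructible_preimage {X Y : Sp S} (hY : IsAlgSpace Y) (f : X ⟶ Y)
    (E : Set (Points Y))
    (hE : ∀ (U : Over S) (φ : (yon S).obj U ⟶ Y), RepWith @Etale φ →
        IsLocallyConstructible (Points.ofPt φ ⁻¹' E))
    (U : Over S) (φ : (yon S).obj U ⟶ X) (_hφ : RepWith @Etale φ) :
    IsLocallyConstructible (Points.ofPt φ ⁻¹' (Points.map f ⁻¹' E)) := by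
  obtain ⟨V, q, hqe, hqs⟩ := hY.atlas
  have hrep : Representable (φ ≫ f) := hY.representable_from_yon _
  have sq := hrep.isPullback' q
  haveI h2 : Etale (hrep.fst' q).left := hqe.property (φ ≫ f) _ _ sq.flip
  haveI h2s : Surjective (hrep.fst' q).left := hqs.property (φ ≫ f) _ _ sq.flip
  have h3 := isLocallyConstructible_preimage (hrep.snd q).left (hE V q hqe)
  refine isLocallyConstructible_of_preimage_etale_surjective (hrep.fst' q).left
    (hrep.fst' q).left.surjective ?_
  convert h3 using 1
  ext w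
  simp only [Set.mem_preimage]
  rw [Points.map_ofPt, ← ofPt_comp_yon_map, ← ofPt_comp_yon_map, sq.w]

/-- S9982: Chevalley's theorem for algebraic spaces. -/
theorem chevalley_etaleLocallyConstructible_image {X Y : Sp S} (f : X ⟶ Y)
    (hq : IsQuasiCompactMor f) (hfp : LocP @LocallyOfFinitePresentation f)
    (E : Set (Points X))
    (hE : ∀ (U : Over S) (φ : (yon S).obj U ⟶ X), RepWith @Etale φ →
        IsLocallyConstructible (Points.ofPt φ ⁻¹' E))
    (V : Over S) (φ : (yon S).obj V ⟶ Y) (hφ : RepWith @Etale φ) :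
    IsLocallyConstructible (Points.ofPt φ ⁻¹' (Points.map f '' E)) := by
  have hcov : TopologicalSpace.IsOpenCover (fun i : V.left.affineOpens => (i : V.left.Opens)) :=
    AlgebraicGeometry.iSup_affineOpens_eq_top V.left
  refine IsLocallyConstructible.of_isOpenCover hcov (fun V₀ => ?_)
  let V₀' : Over S := Over.mk ((V₀ : V.left.Opens).ι ≫ V.hom)
  let j : V₀' ⟶ V := Over.homMk (V₀ : V.left.Opens).ι rfl
  haveI hV₀aff : IsAffine V₀'.left := V₀.2
  have hj : Etale j.left := (inferInstance : Etale (V₀ : V.left.Opens).ι)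
  have hφ₀ : RepWith @Etale ((yon S).map j ≫ φ) :=
    (RepWith @Etale).comp_mem _ _ ((repWith_yon_map_iff _ j).2 hj) hφ
  have sq := IsPullback.of_hasPullback f ((yon S).map j ≫ φ)
  have hqc : IsQuasiCompactSp (pullback f ((yon S).map j ≫ φ)) :=
    hq (IsAlgSpace.yon_obj V₀') ((isQuasiCompactSp_yon_iff V₀').2 inferInstance) _ _ _ sq
  obtain ⟨W, r, hWaff, hre, hrs⟩ := exists_affine_chart_of_isQuasiCompactSp hqc
  haveI := hWaff
  obtain ⟨h₀, hh₀⟩ := (yon S).map_surjective (r ≫ pullback.snd f ((yon S).map j ≫ φ))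
  have hfste : RepWith @Etale (pullback.fst f ((yon S).map j ≫ φ)) :=
    (RepWith @Etale).of_isPullback sq.flip hφ₀
  have hae : RepWith @Etale (r ≫ pullback.fst f ((yon S).map j ≫ φ)) :=
    (RepWith @Etale).comp_mem _ _ hre hfste
  have comm : (r ≫ pullback.fst f ((yon S).map j ≫ φ)) ≫ f =
      (yon S).map h₀ ≫ ((yon S).map j ≫ φ) := by
    rw [Category.assoc, pullback.condition, ← Category.assoc, hh₀]
  haveI hlfp : LocallyOfFinitePresentation h₀.left := hfp _ _ h₀ hae hφ₀ comm
  haveI : QuasiCompact h₀.left := inferInstance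
  have hlc := hE W _ hae
  have h2 := h₀.left.isLocallyConstructible_image hlc
  have h3 : (h₀.left '' (Points.ofPt (r ≫ pullback.fst f ((yon S).map j ≫ φ)) ⁻¹' E) :
      Set ↥V₀'.left) =
      ((Subtype.val : ↥(V₀ : V.left.Opens) → V.left) ⁻¹'
        (Points.ofPt φ ⁻¹' (Points.map f '' E))) := by
    ext v
    constructor
    · rintro ⟨w, hw, rfl⟩
      refine ⟨_, hw, ?_⟩
      rw [Points.map_ofPt, comm, ofPt_comp_yon_map, ofPt_comp_yon_map]
      rfl
    · rintro ⟨e, he, hev⟩
      have hev' : Points.map f e =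
          Points.map ((yon S).map j ≫ φ) (Points.ofScheme V₀' v) := by
        rw [hev, ← Points.ofPt_eq_map_ofScheme, ofPt_comp_yon_map]
        rfl
      obtain ⟨z, hz1, hz2⟩ := exists_point_of_isPullback sq e _ hev'
      obtain ⟨w, rfl⟩ := surjective_ofPt r hrs z
      refine ⟨w, ?_, ?_⟩
      · change Points.ofPt (r ≫ pullback.fst f ((yon S).map j ≫ φ)) w ∈ E
        rw [← Points.map_ofPt, hz1]
        exact he
      · rw [Points.map_ofPt, ← hh₀, ofPt_yon_map] at hz2
        exact (Points.schemeEquiv V₀').injective hz2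
  exact (congrArg IsLocallyConstructible h3).mp h2

end Groth.Agent.Helper15
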