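import Groth.Agent.Lib.Helper15.AlgSpGlue
import Groth.Agent.Lib.Helper15.AlgSpUnram
import Groth.Agent.Lib.Helper15.AlgSpCD6

set_option autoImplicit false
universe u
open CategoryTheory CategoryTheory.Limits AlgebraicGeometry Opposite MorphismProperty
open AlgSp

namespace Groth.Agent.Helper15
variable {S : Scheme.{u}}

theorem exists_largest_open_subscheme {X : Sp S} (hX : IsAlgSpace X) :
    ∃ (X' : Sp S) (j : X' ⟶ X), IsAlgSpace X' ∧ RepWith @IsOpenImmersion j ∧
      X'.obj.IsRepresentable ∧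
      ∀ (X'' : Sp S) (j'' : X'' ⟶ X), RepWith @IsOpenImmersion j'' → X''.obj.IsRepresentable →
        ∃ k : X'' ⟶ X', k ≫ j = j'' := by
  let W : Set (Points X) := {x | ∃ (V : Over S) (a : (yon S).obj V ⟶ X),
    RepWith @IsOpenImmersion a ∧ x ∈ Set.range (Points.ofPt a)}
  have hW : IsOpen W := by
    rw [isOpen_iff_forall_mem_open]
    rintro x ⟨V, a, ha, hx⟩
    refine ⟨Set.range (Points.ofPt a), ?_,
      (isOpenMap_ofPt_of_etale a (repWith_mono isOpenImmersion_le_etale ha)).isOpen_range, hx⟩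
    intro y hy
    exact ⟨V, a, ha, hy⟩
  obtain ⟨X', j, hX', hj, hrange⟩ := exists_open_subspace_of_isOpen hX W hW
  haveI : Mono j := mono_of_repWith_isOpenImmersion j hj
  refine ⟨X', j, hX', hj, ?_, ?_⟩
  · obtain ⟨U, p, hpe, hps⟩ := hX'.atlas
    have h1 : ∀ u : U.left, ∃ (V : Over S) (a : (yon S).obj V ⟶ X),
        RepWith @IsOpenImmersion a ∧ Points.map j (Points.ofPt p u) ∈ Set.range (Points.ofPt a) :=
      fun u => by
        have : Points.map j (Points.ofPt p u) ∈ W := by rw [← hrange]; exact ⟨_, rfl⟩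
        exact this
    choose V a ha hu using h1
    have h2 : ∀ u, ∃ b : (yon S).obj (V u) ⟶ X', b ≫ j = a u := fun u =>
      (factors_through_open_iff j hj (a u)).2 (by
        rintro _ ⟨y, rfl⟩
        rw [hrange]
        obtain ⟨v, rfl⟩ := (Points.schemeEquiv (V u)).surjective y
        exact ⟨V u, a u, ha u, ⟨v, Points.ofPt_eq_map_ofScheme (a u) v⟩⟩)
    choose b hb using h2
    have hbo : ∀ u, RepWith @IsOpenImmersion (b u) := fun u =>
      repWith_of_comp_mono (b u) j (by rw [hb]; exact ha u)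
    have hinj : Function.Injective (Points.map j) := (injOnFieldPts_of_mono j).injective_points_map
    obtain ⟨V₀, e, -, -, -, -⟩ := exists_rep_of_openCover hbo (fun x => by
      obtain ⟨u, rfl⟩ := surjective_ofPt p hps x
      obtain ⟨v, hv⟩ := hu u
      refine ⟨u, Points.ofPt (𝟙 _) v, ?_⟩
      apply hinj
      rw [← hv, ← Points.map_comp, hb u, ← Points.ofPt_eq_map_ofScheme])
    exact ⟨⟨V₀, ⟨representableByOfIso e⟩⟩⟩
  · intro X'' j'' hj'' hrep
    apply (factors_through_open_iff j hj j'').2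
    rintro _ ⟨y, rfl⟩
    rw [hrange]
    obtain ⟨V, ⟨r⟩⟩ := hrep.has_representation
    let e := isoOfRepresentableBy r
    have he : RepWith @IsOpenImmersion (e.hom ≫ j'') :=
      (RepWith @IsOpenImmersion).comp_mem _ _ (repWith_of_isIso _ e.hom) hj''
    obtain ⟨v, hv⟩ := (Points.schemeEquiv V).surjective (Points.map e.inv y)
    refine ⟨V, e.hom ≫ j'', he, v, ?_⟩
    rw [Points.ofPt_eq_map_ofScheme]
    change Points.map (e.hom ≫ j'') (Points.schemeEquiv V v) = _
    rw [hv, ← Points.map_comp, Iso.inv_hom_id_assoc]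

end Groth.Agent.Helper15
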