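import Mathlib
import Groth.Agent.Lib.Helper15.AlgSpLim30

set_option autoImplicit false
set_option linter.unusedSectionVars false
set_option linter.unusedVariables false
set_option linter.style.haveILetI false

universe u

open CategoryTheory CategoryTheory.Limits AlgebraicGeometry MorphismProperty Opposite
open AlgSp

namespace Groth.Agent.Helper15.AlgSpLim

variable {S : Scheme.{u}}

attribute [local instance] IsCofiltered.isConnected

section Main

variable [QuasiSeparatedSpace ↥S] {I : Type u} [SmallCategory I] [IsCofiltered I]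
  (D : I ⥤ Sp S) (hD : ∀ i, IsAlgSpace (D.obj i))
  (hDa : ∀ (i j : I) (φ : i ⟶ j), IsAffineMor (D.map φ))
  (c : Cone D) (hc : IsLimit c) (i₀ : I)

include hD hDa hc in
/-- Closed immersions descend through the limit. -/
theorem stageProp_isClosedImmersion {X₀ Y₀ : Sp S} (hXa : IsAlgSpace X₀) (hYa : IsAlgSpace Y₀)
    (f₀ : X₀ ⟶ Y₀) (b₀ : Y₀ ⟶ D.obj i₀) (hXqc : IsQuasiCompactSp X₀)
    (hXqs : IsQuasiSeparatedSp X₀) (hYqc : IsQuasiCompactSp Y₀) (hYqs : IsQuasiSeparatedSp Y₀)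
    (hf₀ : LocP @LocallyOfFiniteType f₀)
    {X Y : Sp S} (f : X ⟶ Y) (pY : Y ⟶ Y₀) (qY : Y ⟶ c.pt)
    (hY : IsPullback pY qY b₀ (c.π.app i₀)) (pX : X ⟶ X₀) (hX : IsPullback pX f f₀ pY)
    (hf : RepWith @IsClosedImmersion f) :
    StageProp D i₀ f₀ b₀ (fun {A B} g => RepWith @IsClosedImmersion g) := by
  obtain ⟨k₁, hk₁⟩ := stageProp_affRep D hD hDa c hc i₀ hXa hYa f₀ b₀ hXqc hXqs hYqc hYqs hf₀
    @IsClosedImmersion @IsClosedImmersion isClosedImmersion_le_isAffineHom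
    descendsAffineFT_isClosedImmersion isClosedImmersion_le_isAffineHom
    descAff_isClosedImmersion f pY qY hY pX hX (affRep_of_repWith hf)
  exact ⟨k₁, fun k φ Xi Yi fi pYi qYi hYi pXi hXi =>
    repWith_of_affRep fi (hk₁ k φ Xi Yi fi pYi qYi hYi pXi hXi)⟩

include hD hDa hc in
/-- Separatedness descends through the limit. -/
theorem stageProp_isSeparatedMor {X₀ Y₀ : Sp S} (hXa : IsAlgSpace X₀) (hYa : IsAlgSpace Y₀)
    (f₀ : X₀ ⟶ Y₀) (b₀ : Y₀ ⟶ D.obj i₀) (hXqc : IsQuasiCompactSp X₀)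
    (hXqs : IsQuasiSeparatedSp X₀) (hYqs : IsQuasiSeparatedSp Y₀)
    {X Y : Sp S} (f : X ⟶ Y) (pY : Y ⟶ Y₀) (qY : Y ⟶ c.pt)
    (hY : IsPullback pY qY b₀ (c.π.app i₀)) (pX : X ⟶ X₀) (hX : IsPullback pX f f₀ pY)
    (hf : IsSeparatedMor f) : StageProp D i₀ f₀ b₀ (fun {A B} g => IsSeparatedMor g) := by
  have sq₀ : IsPullback (pullback.fst f₀ f₀) (pullback.snd f₀ f₀) f₀ f₀ :=
    IsPullback.of_hasPullback _ _
  have hPa : IsAlgSpace (pullback f₀ f₀) := isAlgSpace_of_isPullback hYa.diag hXa hXa sq₀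
  have hPqc : IsQuasiCompactSp (pullback f₀ f₀) := isQuasiCompactSp_of_isPullback sq₀ hXqc hXqc hYqs
  have hPqs : IsQuasiSeparatedSp (pullback f₀ f₀) := isQuasiSeparatedSp_of_isPullback sq₀ hXqs hXqs
  have hΔ : LocP @LocallyOfFiniteType (pullback.diagonal f₀) :=
    locP_of_repWith etale_le_lft _ (diagonal_properties hXa f₀).2.1
  obtain ⟨h1, h2⟩ := diag_data hY hX
  have hst := stageProp_isClosedImmersion D hD hDa c hc i₀ hXa hPa (pullback.diagonal f₀)
    ((pullback.fst f₀ f₀ ≫ f₀) ≫ b₀) hXqc hXqs hPqc hPqs hΔ (pullback.diagonal f) _ _ h1 pX h2 hf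
  exact stageProp_of_diagonal D hD i₀ hXa hYa f₀ b₀ (fun {A B} g => IsSeparatedMor g)
    (fun {A B} g => RepWith @IsClosedImmersion g) hst (fun g hA hB h => h)

end Main

end Groth.Agent.Helper15.AlgSpLim
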