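import Mathlib
import Groth.Agent.Lib.Helper15.AlgSpLim31

set_option autoImplicit false
set_option linter.unusedSectionVars false
set_option linter.unusedVariables false
set_option linter.style.haveILetI false

universe u

open CategoryTheory CategoryTheory.Limits AlgebraicGeometry MorphismProperty Opposite
open AlgSp

namespace Groth.Agent.Helper15.AlgSpLim

variable {S : Scheme.{u}}

attribute [local instance] IsCofiltered.isConnected

section RingGen

/-- If `P` is generated by the images of `A` and `R`, `d : P → B` is surjective and the image of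
`A` in `B` lies in the image of `R`, then `R → B` is surjective. -/
theorem surjective_comp_of_closure {A R P B : Type*} [CommRing A] [CommRing R] [CommRing P]
    [CommRing B] (inl : A →+* P) (inr : R →+* P) (d : P →+* B)
    (hcl : Subring.closure (Set.range inl ∪ Set.range inr) = ⊤) (hd : Function.Surjective d)
    (h : ∀ y, d (inl y) ∈ Set.range (d.comp inr)) : Function.Surjective (d.comp inr) := by
  have hle : Subring.closure (Set.range inl ∪ Set.range inr) ≤ (d.comp inr).range.comap d := by
    rw [Subring.closure_le]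
    rintro x (⟨y, rfl⟩ | ⟨r, rfl⟩)
    · exact h y
    · exact ⟨r, rfl⟩
  rw [hcl] at hle
  intro b
  obtain ⟨x, rfl⟩ := hd b
  exact hle (Subring.mem_top x)

/-- The integral analogue. -/
theorem isIntegral_comp_of_closure {A R P B : Type*} [CommRing A] [CommRing R] [CommRing P]
    [CommRing B] (inl : A →+* P) (inr : R →+* P) (d : P →+* B)
    (hcl : Subring.closure (Set.range inl ∪ Set.range inr) = ⊤) (hd : d.IsIntegral)
    (h : ∀ y, (d.comp inr).IsIntegralElem (d (inl y))) : (d.comp inr).IsIntegral := by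
  refine RingSys.isIntegral_comp_of_isIntegralElem inr d hd (fun x => ?_)
  have hx : x ∈ Subring.closure (Set.range inl ∪ Set.range inr) := by
    rw [hcl]; exact Subring.mem_top x
  induction hx using Subring.closure_induction with
  | mem x hx =>
    rcases hx with ⟨y, rfl⟩ | ⟨r, rfl⟩
    · exact h y
    · exact (d.comp inr).isIntegralElem_map
  | zero => rw [map_zero]; exact (d.comp inr).isIntegralElem_zero
  | one => rw [map_one]; exact (d.comp inr).isIntegralElem_one
  | add x y _ _ hx hy => rw [map_add]; exact RingHom.IsIntegralElem.add _ hx hy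
  | neg x _ hx => rw [map_neg]; exact RingHom.IsIntegralElem.neg _ hx
  | mul x y _ _ hx hy => rw [map_mul]; exact RingHom.IsIntegralElem.mul _ hx hy

end RingGen

/-- The statement that a property descends through a morphism of cofiltered systems of affine
schemes: `Qinf` for the limit gives `Qst` at a stage, provided the maps to the base changes of later
stages have `Qgen`. -/
def DescendsSys (Qinf Qst Qgen : MorphismProperty Scheme.{u}) : Prop :=
  ∀ {K : Type u} [SmallCategory K] [IsCofiltered K] (P T : K ⥤ Scheme.{u}) (ζ : P ⟶ T)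
    (cP : Cone P) (_ : IsLimit cP) (cT : Cone T) (_ : IsLimit cT) (ζL : cP.pt ⟶ cT.pt)
    (_ : ∀ k, ζL ≫ cT.π.app k = cP.π.app k ≫ ζ.app k)
    (_ : ∀ k, IsAffine (P.obj k)) (_ : ∀ k, IsAffine (T.obj k)) (k₀ : K),
    (∀ k, LocallyOfFiniteType (ζ.app k)) →
    (∀ {k l : K} (f : k ⟶ l), ∃ (Z : Scheme.{u}) (p₁ : Z ⟶ P.obj l) (p₂ : Z ⟶ T.obj k)
      (_ : IsPullback p₁ p₂ (ζ.app l) (T.map f)) (d : P.obj k ⟶ Z),
      d ≫ p₁ = P.map f ∧ d ≫ p₂ = ζ.app k ∧ Qgen d) →
    Qinf ζL → ∃ (k₁ : K) (_ : k₁ ⟶ k₀), ∀ (k : K) (_ : k ⟶ k₁), Qst (ζ.app k)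

theorem descendsSys_isClosedImmersion :
    DescendsSys (@IsClosedImmersion : MorphismProperty Scheme.{u}) @IsClosedImmersion
      @IsClosedImmersion := by
  intro K _ _ P T ζ cP hcP cT hcT ζL hζL hP hT k₀ hft hgen hL
  refine exists_isClosedImmersion_stage P T ζ cP hcP cT hcT ζL hζL k₀ (hft k₀) ?_ hL
  intro k l f h
  obtain ⟨Z, p₁, p₂, sq, d, hd₁, hd₂, hd⟩ := hgen f
  have hZ : IsAffine Z := IsAffine.of_isPullback sq
  have hcl := RingSys.closure_eq_top_of_isPushout (isPushout_appTop_of_isPullback sq)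
  have hds : Function.Surjective d.appTop.hom :=
    (IsClosedImmersion.isAffine_surjective_of_isAffine d).2
  have e1 : (P.map f).appTop.hom = d.appTop.hom.comp p₁.appTop.hom := by
    rw [← CommRingCat.hom_comp, ← Scheme.Hom.comp_appTop, hd₁]
  have e2 : (ζ.app k).appTop.hom = d.appTop.hom.comp p₂.appTop.hom := by
    rw [← CommRingCat.hom_comp, ← Scheme.Hom.comp_appTop, hd₂]
  rw [e2]
  refine surjective_comp_of_closure _ _ _ hcl hds (fun y => ?_)
  have := h y
  rw [e1, e2] at this
  exact this

theorem descendsSys_isFinite :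
    DescendsSys (@IsIntegralHom : MorphismProperty Scheme.{u}) @IsFinite @IsIntegralHom := by
  intro K _ _ P T ζ cP hcP cT hcT ζL hζL hP hT k₀ hft hgen hL
  refine exists_isFinite_stage P T ζ cP hcP cT hcT ζL hζL k₀ hft ?_ hL
  intro k l f h
  obtain ⟨Z, p₁, p₂, sq, d, hd₁, hd₂, hd⟩ := hgen f
  have hZ : IsAffine Z := IsAffine.of_isPullback sq
  have hcl := RingSys.closure_eq_top_of_isPushout (isPushout_appTop_of_isPullback sq)
  have hds : d.appTop.hom.IsIntegral :=
    ((HasAffineProperty.iff_of_isAffine (P := @IsIntegralHom)).1 hd).2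
  have e1 : (P.map f).appTop.hom = d.appTop.hom.comp p₁.appTop.hom := by
    rw [← CommRingCat.hom_comp, ← Scheme.Hom.comp_appTop, hd₁]
  have e2 : (ζ.app k).appTop.hom = d.appTop.hom.comp p₂.appTop.hom := by
    rw [← CommRingCat.hom_comp, ← Scheme.Hom.comp_appTop, hd₂]
  rw [e2]
  refine isIntegral_comp_of_closure _ _ _ hcl hds (fun y => ?_)
  have := h y
  rw [e1, e2] at this
  exact this

section Ov

variable {K : Type u} [SmallCategory K] [IsCofiltered K] (Y : Sp S) (D : K ⥤ Sp S)
  (t : D ⟶ (Functor.const K).obj Y) {V : Over S} (p : (yon S).obj V ⟶ Y)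

/-- The base change of a system over `Y` to a chart of `Y`. -/
noncomputable abbrev ovDiag : K ⥤ Sp S :=
  pbDiag D ((Functor.const K).obj Y) t (constCone K Y) p

noncomputable abbrev ovFst (k : K) : (ovDiag Y D t p).obj k ⟶ D.obj k :=
  pbFst D ((Functor.const K).obj Y) t (constCone K Y) p k

noncomputable abbrev ovSnd (k : K) : (ovDiag Y D t p).obj k ⟶ (yon S).obj V :=
  pbSnd D ((Functor.const K).obj Y) t (constCone K Y) p k

theorem ov_isPullback (k : K) : IsPullback (ovFst Y D t p k) (ovSnd Y D t p k) (t.app k) p := by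
  have h := pb_isPullback D ((Functor.const K).obj Y) t (constCone K Y) p k
  have h2 : p ≫ (constCone K Y).π.app k = p := Category.comp_id p
  exact (congrArg (IsPullback (ovFst Y D t p k) (ovSnd Y D t p k) (t.app k)) h2).mp h

theorem ovDiag_map_fst {k l : K} (f : k ⟶ l) :
    (ovDiag Y D t p).map f ≫ ovFst Y D t p l = ovFst Y D t p k ≫ D.map f :=
  pbDiag_map_fst D ((Functor.const K).obj Y) t (constCone K Y) p f

theorem ovDiag_map_snd {k l : K} (f : k ⟶ l) :
    (ovDiag Y D t p).map f ≫ ovSnd Y D t p l = ovSnd Y D t p k :=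
  pbDiag_map_snd D ((Functor.const K).obj Y) t (constCone K Y) p f

theorem ovDiag_map_isPullback {k l : K} (f : k ⟶ l) :
    IsPullback ((ovDiag Y D t p).map f) (ovFst Y D t p k) (ovFst Y D t p l) (D.map f) := by
  refine IsPullback.of_right (h₁₂ := ovSnd Y D t p l) (h₂₂ := t.app l) (v₁₃ := p) ?_
    (ovDiag_map_fst Y D t p f) (ov_isPullback Y D t p l).flip
  have h2 : D.map f ≫ t.app l = t.app k := by
    have := t.naturality f
    simp only [Functor.const_obj_obj, Functor.const_obj_map, Category.comp_id] at this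
    exact this
  rw [ovDiag_map_snd, h2]
  exact (ov_isPullback Y D t p k).flip

theorem ov_isAlgSpace (hY : IsAlgSpace Y) (hD : ∀ k, IsAlgSpace (D.obj k)) (k : K) :
    IsAlgSpace ((ovDiag Y D t p).obj k) :=
  isAlgSpace_of_isPullback hY.diag (hD k) (IsAlgSpace.yon_obj V) (ov_isPullback Y D t p k)

theorem ov_isQuasiCompactSp [QuasiSeparatedSpace ↥S] (hV : IsAffine V.left)
    (hYqs : IsQuasiSeparatedSp Y)
    (hqc : ∀ k, IsQuasiCompactSp (D.obj k)) (k : K) :
    IsQuasiCompactSp ((ovDiag Y D t p).obj k) :=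
  isQuasiCompactSp_of_isPullback (ov_isPullback Y D t p k) (hqc k)
    ((isQuasiCompactSp_yon_iff V).2 inferInstance) hYqs

theorem ov_isQuasiSeparatedSp [QuasiSeparatedSpace ↥S] (hV : IsAffine V.left)
    (hqs : ∀ k, IsQuasiSeparatedSp (D.obj k)) (k : K) :
    IsQuasiSeparatedSp ((ovDiag Y D t p).obj k) :=
  isQuasiSeparatedSp_of_isPullback (ov_isPullback Y D t p k) (hqs k)
    (isQuasiSeparatedSp_yon_of_isAffine V)

theorem ov_isAffineMor_map (hDa : ∀ (i j : K) (φ : i ⟶ j), IsAffineMor (D.map φ)) (k l : K)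
    (f : k ⟶ l) : IsAffineMor ((ovDiag Y D t p).map f) :=
  isAffineMor_of_isPullback (ovDiag_map_isPullback Y D t p f).flip (hDa k l f)

variable (c : Cone D) (g : c.pt ⟶ Y) (hg : ∀ k, c.π.app k ≫ t.app k = g)

include hg in
theorem ov_hg (k : K) : g ≫ (constCone K Y).π.app k = c.π.app k ≫ t.app k := by
  change g ≫ 𝟙 Y = _
  rw [Category.comp_id, hg k]

/-- The cone over the base changed system. -/
noncomputable abbrev ovCone : Cone (ovDiag Y D t p) :=
  pbCone D ((Functor.const K).obj Y) t c (constCone K Y) g (ov_hg Y D t c g hg) p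

noncomputable def isLimitOvCone (hc : IsLimit c) : IsLimit (ovCone Y D t p c g hg) :=
  isLimitPbCone (ov_hg Y D t c g hg) p hc (isLimitConstCone K Y)

theorem ovCone_π_fst (k : K) :
    (ovCone Y D t p c g hg).π.app k ≫ ovFst Y D t p k = pullback.fst g p ≫ c.π.app k :=
  pbCone_π_fst D ((Functor.const K).obj Y) t c (constCone K Y) g (ov_hg Y D t c g hg) p k

theorem ovCone_π_snd (k : K) :
    (ovCone Y D t p c g hg).π.app k ≫ ovSnd Y D t p k = pullback.snd g p :=
  pbCone_π_snd D ((Functor.const K).obj Y) t c (constCone K Y) g (ov_hg Y D t c g hg) p k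

end Ov

end Groth.Agent.Helper15.AlgSpLim
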