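import Mathlib
import Groth.Agent.Lib.Helper15.AlgSpLim32

set_option autoImplicit false
set_option linter.unusedSectionVars false
set_option linter.unusedVariables false
set_option linter.style.haveILetI false

universe u

open CategoryTheory CategoryTheory.Limits AlgebraicGeometry MorphismProperty Opposite
open AlgSp

namespace Groth.Agent.Helper15.AlgSpLim

variable {S : Scheme.{u}}

attribute [local instance] IsCofiltered.isConnected

theorem isPullback_precomp_iso {C : Type*} [Category C] {P P' X Y Z : C} {fst : P ⟶ X}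
    {snd : P ⟶ Y} {f : X ⟶ Z} {g : Y ⟶ Z} (h : IsPullback fst snd f g) (e : P' ≅ P) :
    IsPullback (e.hom ≫ fst) (e.hom ≫ snd) f g :=
  IsPullback.of_iso h e.symm (Iso.refl _) (Iso.refl _) (Iso.refl _) (by simp) (by simp)
    (by simp) (by simp)

/-- The comparison map of a morphism of chart squares is a base change of the comparison map of
the charted morphisms. -/
theorem exists_isPullback_gen {C : Type*} [Category C] {Pk Pl Ek El Fk Fl Tk Tl Z G : C}
    {ak : Pk ⟶ Ek} {sk : Pk ⟶ Tk} {ζk : Ek ⟶ Fk} {qk : Tk ⟶ Fk}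
    {al : Pl ⟶ El} {sl : Pl ⟶ Tl} {ζl : El ⟶ Fl} {ql : Tl ⟶ Fl}
    (sqk : IsPullback ak sk ζk qk) (sql : IsPullback al sl ζl ql)
    {z₁ : Z ⟶ Pl} {z₂ : Z ⟶ Tk} {τ : Tk ⟶ Tl} (sqZ : IsPullback z₁ z₂ sl τ)
    {g₁ : G ⟶ El} {g₂ : G ⟶ Fk} {Φ : Fk ⟶ Fl} (sqG : IsPullback g₁ g₂ ζl Φ)
    (hq : τ ≫ ql = qk ≫ Φ) {π : Pk ⟶ Pl} {ε : Ek ⟶ El}
    (d : Pk ⟶ Z) (hd₁ : d ≫ z₁ = π) (hd₂ : d ≫ z₂ = sk)
    (γ : Ek ⟶ G) (hγ₁ : γ ≫ g₁ = ε) (hγ₂ : γ ≫ g₂ = ζk) (hπ : π ≫ al = ak ≫ ε) :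
    ∃ ν : Z ⟶ G, IsPullback ak d γ ν := by
  have hw : (z₁ ≫ al) ≫ ζl = (z₂ ≫ qk) ≫ Φ := by
    rw [Category.assoc, sql.w, ← Category.assoc, sqZ.w, Category.assoc, hq, Category.assoc]
  let ν : Z ⟶ G := sqG.lift (z₁ ≫ al) (z₂ ≫ qk) hw
  have hν₁ : ν ≫ g₁ = z₁ ≫ al := sqG.lift_fst _ _ _
  have hν₂ : ν ≫ g₂ = z₂ ≫ qk := sqG.lift_snd _ _ _
  -- the right square
  have big : IsPullback z₂ (z₁ ≫ al) (τ ≫ ql) ζl := sqZ.flip.paste_vert sql.flip
  have right : IsPullback z₂ ν qk g₂ := by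
    refine IsPullback.of_bot ?_ hν₂.symm sqG.flip
    rw [hν₁, ← hq]
    exact big
  have comm : d ≫ ν = ak ≫ γ := by
    apply sqG.hom_ext
    · rw [Category.assoc, hν₁, ← Category.assoc, hd₁, hπ, Category.assoc, hγ₁]
    · rw [Category.assoc, hν₂, ← Category.assoc, hd₂, ← sqk.w, Category.assoc, hγ₂]
  have left : IsPullback d ak ν γ := by
    refine IsPullback.of_right ?_ comm right
    rw [hd₂, hγ₂]
    exact sqk.flip
  exact ⟨ν, left.flip⟩

section GT

variable {I : Type u} [SmallCategory I] [IsCofiltered I]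
  (E F : I ⥤ Sp S) (ζ : E ⟶ F) (cE : Cone E) {cF : Cone F} (ζL : cE.pt ⟶ cF.pt)
  (hζL : ∀ i, ζL ≫ cF.π.app i = cE.π.app i ≫ ζ.app i) (i₀ : I)
  {V : Over S} (p : (yon S).obj V ⟶ F.obj i₀) (C : LimChart F cF i₀ p)
  (hCq : ∀ {k l : Over i₀} (f : k ⟶ l),
    (yon S).map (C.T.map f) ≫ C.q l = C.q k ≫ F.map f.left)
  (hCzn : ∀ {k l : Over i₀} (f : k ⟶ l), C.T.map f ≫ C.z l = C.z k)
  (hCz : ∀ k, C.cL.π.app k ≫ C.z k = C.zL)

/-- The source system restricted to the indices over `i₀`. -/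
noncomputable abbrev gtE : Over i₀ ⥤ Sp S := Over.forget i₀ ⋙ E

/-- The structure maps to `F i₀`. -/
noncomputable def gtT : gtE E i₀ ⟶ (Functor.const (Over i₀)).obj (F.obj i₀) where
  app k := ζ.app k.left ≫ F.map k.hom
  naturality k l f := by
    change E.map f.left ≫ ζ.app l.left ≫ F.map l.hom = (ζ.app k.left ≫ F.map k.hom) ≫ 𝟙 _
    rw [Category.comp_id, ← Category.assoc, ζ.naturality, Category.assoc, ← F.map_comp, Over.w f]

/-- The system `k ↦ E_k ×_{F_k} V_k`, in the form `E_k ×_{F i₀} V`. -/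
noncomputable abbrev gtW : Over i₀ ⥤ Sp S := ovDiag (F.obj i₀) (gtE E i₀) (gtT E F ζ i₀) p

noncomputable abbrev gtFst (k : Over i₀) : (gtW E F ζ i₀ p).obj k ⟶ E.obj k.left :=
  ovFst (F.obj i₀) (gtE E i₀) (gtT E F ζ i₀) p k

noncomputable abbrev gtSnd (k : Over i₀) : (gtW E F ζ i₀ p).obj k ⟶ (yon S).obj V :=
  ovSnd (F.obj i₀) (gtE E i₀) (gtT E F ζ i₀) p k

theorem gt_w (k : Over i₀) :
    (gtFst E F ζ i₀ p k ≫ ζ.app k.left) ≫ F.map k.hom = gtSnd E F ζ i₀ p k ≫ p := by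
  rw [Category.assoc]
  exact (ov_isPullback (F.obj i₀) (gtE E i₀) (gtT E F ζ i₀) p k).w

/-- The map `E_k ×_{F_k} V_k ⟶ V_k`. -/
noncomputable def gtω (k : Over i₀) : (gtW E F ζ i₀ p).obj k ⟶ (yon S).obj (C.T.obj k) :=
  (C.sq k).lift (gtFst E F ζ i₀ p k ≫ ζ.app k.left) (gtSnd E F ζ i₀ p k) (gt_w E F ζ i₀ p k)

theorem gtω_q (k : Over i₀) :
    gtω E F ζ i₀ p C k ≫ C.q k = gtFst E F ζ i₀ p k ≫ ζ.app k.left :=
  (C.sq k).lift_fst _ _ _

theorem gtω_z (k : Over i₀) :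
    gtω E F ζ i₀ p C k ≫ (yon S).map (C.z k) = gtSnd E F ζ i₀ p k :=
  (C.sq k).lift_snd _ _ _

theorem gt_isPullback (k : Over i₀) :
    IsPullback (gtFst E F ζ i₀ p k) (gtω E F ζ i₀ p C k) (ζ.app k.left) (C.q k) := by
  have h : IsPullback (gtω E F ζ i₀ p C k) (gtFst E F ζ i₀ p k) (C.q k) (ζ.app k.left) := by
    refine IsPullback.of_right (h₁₂ := (yon S).map (C.z k)) (h₂₂ := F.map k.hom) (v₁₃ := p) ?_
      (gtω_q E F ζ i₀ p C k) (C.sq k).flip
    rw [gtω_z]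
    exact (ov_isPullback (F.obj i₀) (gtE E i₀) (gtT E F ζ i₀) p k).flip
  exact h.flip

theorem gtW_map_fst {k l : Over i₀} (f : k ⟶ l) :
    (gtW E F ζ i₀ p).map f ≫ gtFst E F ζ i₀ p l = gtFst E F ζ i₀ p k ≫ E.map f.left :=
  ovDiag_map_fst (F.obj i₀) (gtE E i₀) (gtT E F ζ i₀) p f

theorem gtW_map_snd {k l : Over i₀} (f : k ⟶ l) :
    (gtW E F ζ i₀ p).map f ≫ gtSnd E F ζ i₀ p l = gtSnd E F ζ i₀ p k :=
  ovDiag_map_snd (F.obj i₀) (gtE E i₀) (gtT E F ζ i₀) p f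

include hCq hCzn in
theorem gtω_naturality {k l : Over i₀} (f : k ⟶ l) :
    (gtW E F ζ i₀ p).map f ≫ gtω E F ζ i₀ p C l =
      gtω E F ζ i₀ p C k ≫ (yon S).map (C.T.map f) := by
  apply (C.sq l).hom_ext
  · rw [Category.assoc, gtω_q, ← Category.assoc, gtW_map_fst, Category.assoc, Category.assoc,
      hCq f, ← Category.assoc (gtω E F ζ i₀ p C k), gtω_q, Category.assoc]
    congr 1
    exact ζ.naturality f.left
  · rw [Category.assoc, gtω_z, gtW_map_snd, Category.assoc, ← Functor.map_comp, hCzn f, gtω_z]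

end GT

section Main

variable [QuasiSeparatedSpace ↥S] {I : Type u} [SmallCategory I] [IsCofiltered I]

/-- **General descent through a morphism of systems.** Let `ζ : E ⟶ F` be a morphism of cofiltered
systems of quasi-compact quasi-separated algebraic spaces with affine transition maps, with each
`ζ_i` locally of finite type. If the limit morphism is `Qinf` and the comparison maps
`E_i ⟶ E_j ×_{F_j} F_i` are `Qgen`, then `ζ_i` is `Qst` for all small `i`. -/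
theorem exists_affRep_stage (E F : I ⥤ Sp S) (ζ : E ⟶ F)
    (hE : ∀ i, IsAlgSpace (E.obj i)) (hF : ∀ i, IsAlgSpace (F.obj i))
    (hEa : ∀ (i j : I) (φ : i ⟶ j), IsAffineMor (E.map φ))
    (hFa : ∀ (i j : I) (φ : i ⟶ j), IsAffineMor (F.map φ))
    (cE : Cone E) (hcE : IsLimit cE) (cF : Cone F) (hcF : IsLimit cF) (ζL : cE.pt ⟶ cF.pt)
    (hζL : ∀ i, ζL ≫ cF.π.app i = cE.π.app i ≫ ζ.app i)
    (hEqc : ∀ i, IsQuasiCompactSp (E.obj i)) (hEqs : ∀ i, IsQuasiSeparatedSp (E.obj i))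
    (hFqc : ∀ i, IsQuasiCompactSp (F.obj i)) (hFqs : ∀ i, IsQuasiSeparatedSp (F.obj i))
    (hft : ∀ i, LocP @LocallyOfFiniteType (ζ.app i))
    (Qinf Qst Qgen : MorphismProperty Scheme.{u}) [Qgen.RespectsIso] [Qst.RespectsIso]
    [Qst.IsStableUnderBaseChange]
    (hQinf : Qinf ≤ @IsAffineHom) (hQst : Qst ≤ @IsAffineHom) (hQd : AffDesc.DescAff Qst)
    (hsys : DescendsSys Qinf Qst Qgen)
    (hgen : ∀ {i j : I} (φ : i ⟶ j) {G : Sp S} (g₁ : G ⟶ E.obj j) (g₂ : G ⟶ F.obj i)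
      (_ : IsPullback g₁ g₂ (ζ.app j) (F.map φ)) (γ : E.obj i ⟶ G), γ ≫ g₁ = E.map φ →
      γ ≫ g₂ = ζ.app i → AffRep Qgen γ)
    (hL : AffRep Qinf ζL) :
    ∃ i₀ : I, ∀ (i : I) (_ : i ⟶ i₀), AffRep Qst (ζ.app i) := by
  obtain ⟨i₀⟩ : Nonempty I := IsCofiltered.nonempty
  obtain ⟨V, p, hV, hpe, hps⟩ := exists_affine_chart_of_isQuasiCompactSp (hFqc i₀)
  obtain ⟨C, hCz, hCq, hCzn⟩ := exists_limChart_nat F hFa cF hcF i₀ hV p
  -- limit data
  obtain ⟨gL, hgLdef⟩ : ∃ gL : cE.pt ⟶ F.obj i₀, gL = ζL ≫ cF.π.app i₀ := ⟨_, rfl⟩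
  have hgL : ∀ k : Over i₀,
      (cE.whisker (Over.forget i₀)).π.app k ≫ (gtT E F ζ i₀).app k = gL := by
    intro k
    change cE.π.app k.left ≫ ζ.app k.left ≫ F.map k.hom = gL
    rw [hgLdef, ← Category.assoc, ← hζL, Category.assoc, cF.w]
  have hcE' : IsLimit (cE.whisker (Over.forget i₀)) :=
    (Functor.Initial.isLimitWhiskerEquiv (Over.forget i₀) cE).symm hcE
  -- the system `W`
  have hWalg := ov_isAlgSpace (F.obj i₀) (gtE E i₀) (gtT E F ζ i₀) p (hF i₀) (fun k => hE k.left)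
  have hWqc := ov_isQuasiCompactSp (F.obj i₀) (gtE E i₀) (gtT E F ζ i₀) p hV (hFqs i₀)
    (fun k => hEqc k.left)
  have hWqs := ov_isQuasiSeparatedSp (F.obj i₀) (gtE E i₀) (gtT E F ζ i₀) p hV
    (fun k => hEqs k.left)
  have hWa := ov_isAffineMor_map (F.obj i₀) (gtE E i₀) (gtT E F ζ i₀) p
    (fun i j φ => hEa _ _ φ.left)
  -- representability of the limit
  obtain ⟨Ξ, iΞ, fstΞ, sqΞ, hΞQ⟩ := hL C.isAffine_pt C.r
  have hΞaff : IsAffine Ξ.left := by
    haveI := C.isAffine_pt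
    haveI : IsAffineHom iΞ.left := hQinf _ hΞQ
    exact isAffine_of_isAffineHom iΞ.left
  have sqΞ' : IsPullback fstΞ ((yon S).map iΞ ≫ (yon S).map C.zL) gL p := by
    rw [hgLdef]
    exact (sqΞ.flip.paste_horiz C.sqL.flip).flip
  let cW : Cone (gtW E F ζ i₀ p) := ovCone (F.obj i₀) (gtE E i₀)
      (gtT E F ζ i₀) p (cE.whisker (Over.forget i₀)) gL hgL
  have hcW : IsLimit cW :=
    isLimitOvCone (F.obj i₀) (gtE E i₀) (gtT E F ζ i₀) p (cE.whisker (Over.forget i₀)) gL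
      hgL hcE'
  have hcWfst : ∀ k, cW.π.app k ≫ gtFst E F ζ i₀ p k = pullback.fst gL p ≫ cE.π.app k.left :=
    fun k => ovCone_π_fst (F.obj i₀) (gtE E i₀) (gtT E F ζ i₀) p (cE.whisker (Over.forget i₀)) gL
      hgL k
  have hcWsnd : ∀ k, cW.π.app k ≫ gtSnd E F ζ i₀ p k = pullback.snd gL p :=
    fun k => ovCone_π_snd (F.obj i₀) (gtE E i₀) (gtT E F ζ i₀) p (cE.whisker (Over.forget i₀)) gL
      hgL k
  let eΞ : (yon S).obj Ξ ≅ cW.pt := sqΞ'.isoPullback
  have heΞ1 : eΞ.hom ≫ pullback.fst gL p = fstΞ := sqΞ'.isoPullback_hom_fst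
  have heΞ2 : eΞ.hom ≫ pullback.snd gL p = (yon S).map iΞ ≫ (yon S).map C.zL :=
    sqΞ'.isoPullback_hom_snd
  obtain ⟨k₁, T', hT', ⟨eT⟩⟩ := exists_affine_stage (gtW E F ζ i₀ p) hWalg hWa cW hcW hWqc hWqs
    Ξ hΞaff eΞ
  -- representing schemes over `Over k₁`
  have hrep : ∀ k : Over k₁, ∃ Wk : Over S, IsAffine Wk.left ∧
      Nonempty ((yon S).obj Wk ≅ (gtW E F ζ i₀ p).obj k.left) := fun k =>
    exists_affine_rep_of_isAffineMor ((gtW E F ζ i₀ p).map k.hom) (hWa _ _ k.hom) hT' eT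
  choose Wsch hWsch eW' using hrep
  let EW : Over k₁ ⥤ Sp S := Over.forget k₁ ⋙ gtW E F ζ i₀ p
  let eW : ∀ k : Over k₁, (yon S).obj (Wsch k) ≅ (gtW E F ζ i₀ p).obj k.left := fun k =>
    (eW' k).some
  let P : Over k₁ ⥤ Over S := liftDiag EW Wsch eW
  have hPmap : ∀ {k l : Over k₁} (f : k ⟶ l), (yon S).map (P.map f) =
      (eW k).hom ≫ (gtW E F ζ i₀ p).map f.left ≫ (eW l).inv := fun f =>
    Functor.map_preimage _ _
  -- the charts of the stages
  let a : ∀ k : Over k₁, (yon S).obj (Wsch k) ⟶ E.obj k.left.left := fun k =>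
    (eW k).hom ≫ gtFst E F ζ i₀ p k.left
  let s : ∀ k : Over k₁, Wsch k ⟶ C.T.obj k.left := fun k =>
    (yon S).preimage ((eW k).hom ≫ gtω E F ζ i₀ p C k.left)
  have hs : ∀ k, (yon S).map (s k) = (eW k).hom ≫ gtω E F ζ i₀ p C k.left := fun k =>
    Functor.map_preimage _ _
  have sqa : ∀ k : Over k₁,
      IsPullback (a k) ((yon S).map (s k)) (ζ.app k.left.left) (C.q k.left) := fun k => by
    rw [hs]
    exact isPullback_precomp_iso (gt_isPullback E F ζ i₀ p C k.left) (eW k)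
  have hae : ∀ k, RepWith @Etale (a k) := fun k =>
    (RepWith @Etale).of_isPullback (sqa k).flip (C.etale_q hpe k.left)
  have ha_nat : ∀ {k l : Over k₁} (f : k ⟶ l),
      (yon S).map (P.map f) ≫ a l = a k ≫ E.map f.left.left := by
    intro k l f
    rw [hPmap]
    change ((eW k).hom ≫ (gtW E F ζ i₀ p).map f.left ≫ (eW l).inv) ≫
      (eW l).hom ≫ gtFst E F ζ i₀ p l.left = ((eW k).hom ≫ gtFst E F ζ i₀ p k.left) ≫ _
    rw [Category.assoc, Category.assoc, Iso.inv_hom_id_assoc, gtW_map_fst, Category.assoc]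
  have hs_nat : ∀ {k l : Over k₁} (f : k ⟶ l), P.map f ≫ s l = s k ≫ C.T.map f.left := by
    intro k l f
    apply (yon S).map_injective
    have h1 : (yon S).map (P.map f ≫ s l) =
        ((eW k).hom ≫ (gtW E F ζ i₀ p).map f.left ≫ (eW l).inv) ≫
          ((eW l).hom ≫ gtω E F ζ i₀ p C l.left) :=
      ((yon S).map_comp _ _).trans (congrArg₂ (· ≫ ·) (hPmap f) (hs l))
    have h2 : (yon S).map (s k ≫ C.T.map f.left) =
        ((eW k).hom ≫ gtω E F ζ i₀ p C k.left) ≫ (yon S).map (C.T.map f.left) :=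
      ((yon S).map_comp _ _).trans (congrArg (· ≫ (yon S).map (C.T.map f.left)) (hs k))
    refine h1.trans (Eq.trans ?_ h2.symm)
    rw [Category.assoc, Category.assoc, Iso.inv_hom_id_assoc,
      gtω_naturality E F ζ i₀ p C hCq hCzn f.left, Category.assoc]
  let Tsys : Over k₁ ⥤ Over S := Over.forget k₁ ⋙ C.T
  let ζs : P ⟶ Tsys := { app := s, naturality := fun k l f => hs_nat f }
  -- cones
  let cEW : Cone EW := cW.whisker (Over.forget k₁)
  have hcEW : IsLimit cEW := (Functor.Initial.isLimitWhiskerEquiv (Over.forget k₁) cW).symm hcW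
  let cP : Cone P := repCone EW Wsch eW cEW Ξ eΞ
  have hcP : IsLimit cP := isLimitRepCone EW Wsch eW cEW Ξ eΞ hcEW
  have hcPπ : ∀ k : Over k₁, (yon S).map (cP.π.app k) =
      eΞ.hom ≫ cW.π.app k.left ≫ (eW k).inv := fun k => Functor.map_preimage _ _
  let cT : Cone Tsys := C.cL.whisker (Over.forget k₁)
  have hcompat : ∀ k : Over k₁, iΞ ≫ C.cL.π.app k.left = cP.π.app k ≫ s k := by
    intro k
    apply (yon S).map_injective
    have h1 : (yon S).map (cP.π.app k ≫ s k) = (eΞ.hom ≫ cW.π.app k.left ≫ (eW k).inv) ≫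
        ((eW k).hom ≫ gtω E F ζ i₀ p C k.left) :=
      ((yon S).map_comp _ _).trans (congrArg₂ (· ≫ ·) (hcPπ k) (hs k))
    refine Eq.trans ?_ h1.symm
    rw [Functor.map_comp, Category.assoc, Category.assoc, Iso.inv_hom_id_assoc]
    apply (C.sq k.left).hom_ext
    · have e1 : ((yon S).map iΞ ≫ (yon S).map (C.cL.π.app k.left)) ≫ C.q k.left =
          fstΞ ≫ ζL ≫ cF.π.app k.left.left := by
        rw [Category.assoc, (C.sqk k.left).w, ← Category.assoc, ← sqΞ.w, Category.assoc]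
      have e2 : (eΞ.hom ≫ cW.π.app k.left ≫ gtω E F ζ i₀ p C k.left) ≫ C.q k.left =
          fstΞ ≫ ζL ≫ cF.π.app k.left.left := by
        rw [Category.assoc, Category.assoc, gtω_q, ← Category.assoc (cW.π.app k.left), hcWfst]
        erw [Category.assoc]
        rw [← Category.assoc eΞ.hom, heΞ1, hζL]
      exact e1.trans e2.symm
    · rw [Category.assoc, ← Functor.map_comp, hCz, Category.assoc, Category.assoc, gtω_z,
        hcWsnd, heΞ2]
  -- scheme level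
  let P' : Over k₁ ⥤ Scheme.{u} := P ⋙ Over.forget S
  let T' : Over k₁ ⥤ Scheme.{u} := Tsys ⋙ Over.forget S
  let ζ' : P' ⟶ T' := Functor.whiskerRight ζs (Over.forget S)
  have hP' : ∀ k, IsAffine (P'.obj k) := fun k => hWsch k
  have hT'' : ∀ k, IsAffine (T'.obj k) := fun k => C.isAffine k.left
  have hcP' : IsLimit ((Over.forget S).mapCone cP) := isLimitOfPreserves _ hcP
  have hcT' : IsLimit ((Over.forget S).mapCone cT) :=
    (Functor.Initial.isLimitWhiskerEquiv (Over.forget k₁) ((Over.forget S).mapCone C.cL)).symm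
      C.isLimit
  have hcompat' : ∀ k, iΞ.left ≫ ((Over.forget S).mapCone cT).π.app k =
      ((Over.forget S).mapCone cP).π.app k ≫ ζ'.app k := fun k =>
    congrArg (fun m => m.left) (hcompat k)
  have hft' : ∀ k, LocallyOfFiniteType (ζ'.app k) := fun k =>
    hft k.left.left (a k) (C.q k.left) (s k) (hae k) (C.etale_q hpe k.left) (sqa k).w
  have hgen' : ∀ {k l : Over k₁} (f : k ⟶ l), ∃ (Z : Scheme.{u}) (p₁ : Z ⟶ P'.obj l)
      (p₂ : Z ⟶ T'.obj k) (_ : IsPullback p₁ p₂ (ζ'.app l) (T'.map f)) (d : P'.obj k ⟶ Z),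
      d ≫ p₁ = P'.map f ∧ d ≫ p₂ = ζ'.app k ∧ Qgen d := by
    intro k l f
    have sqo : IsPullback (pullback.fst (s l) (C.T.map f.left))
        (pullback.snd (s l) (C.T.map f.left)) (s l) (C.T.map f.left) :=
      IsPullback.of_hasPullback _ _
    let d : Wsch k ⟶ pullback (s l) (C.T.map f.left) := pullback.lift (P.map f) (s k) (hs_nat f)
    have hd₁ : d ≫ pullback.fst (s l) (C.T.map f.left) = P.map f := pullback.lift_fst _ _ _
    have hd₂ : d ≫ pullback.snd (s l) (C.T.map f.left) = s k := pullback.lift_snd _ _ _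
    have sqG : IsPullback (pullback.fst (ζ.app l.left.left) (F.map f.left.left))
        (pullback.snd (ζ.app l.left.left) (F.map f.left.left)) (ζ.app l.left.left)
        (F.map f.left.left) := IsPullback.of_hasPullback _ _
    let γ : E.obj k.left.left ⟶ pullback (ζ.app l.left.left) (F.map f.left.left) :=
      pullback.lift (E.map f.left.left) (ζ.app k.left.left) (ζ.naturality f.left.left)
    have hγ : AffRep Qgen γ := hgen f.left.left _ _ sqG γ (pullback.lift_fst _ _ _)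
      (pullback.lift_snd _ _ _)
    obtain ⟨ν, sqν⟩ := exists_isPullback_gen (sqa k) (sqa l) (sqo.map (yon S)) sqG (hCq f.left)
      ((yon S).map d) (((yon S).map_comp _ _).symm.trans (congrArg ((yon S).map) hd₁))
      (((yon S).map_comp _ _).symm.trans (congrArg ((yon S).map) hd₂)) γ
      (pullback.lift_fst _ _ _) (pullback.lift_snd _ _ _) (ha_nat f)
    have hZaff : IsAffine (pullback (s l) (C.T.map f.left)).left := by
      haveI : IsAffine ((Over.forget S).obj (Wsch l)) := hWsch l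
      haveI : IsAffine ((Over.forget S).obj (C.T.obj k.left)) := C.isAffine k.left
      haveI : IsAffine ((Over.forget S).obj (C.T.obj l.left)) := C.isAffine l.left
      exact IsAffine.of_isPullback (sqo.map (Over.forget S))
    exact ⟨_, _, _, sqo.map (Over.forget S), d.left, congrArg (fun m => m.left) hd₁,
      congrArg (fun m => m.left) hd₂, of_affRep_of_isPullback hγ hZaff sqν⟩
  obtain ⟨k₂, -, hk₂⟩ := hsys P' T' ζ' _ hcP' _ hcT' iΞ.left hcompat' hP' hT'' (Over.mk (𝟙 k₁))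
    hft' hgen' hΞQ
  refine ⟨k₂.left.left, fun i φ => ?_⟩
  let kk : Over i₀ := Over.mk (φ ≫ k₂.left.hom)
  let m : kk ⟶ k₂.left := Over.homMk φ rfl
  let k : Over k₁ := Over.mk (m ≫ k₂.hom)
  let mk : k ⟶ k₂ := Over.homMk m rfl
  exact affRep_of_isPullback_chart hQst hQd (ζ.app i) (C.etale_q hpe k.left)
    (C.surjective_q hps k.left) (sqa k) (hk₂ k mk)

end Main

end Groth.Agent.Helper15.AlgSpLim
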