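import Mathlib
import Groth.Agent.Lib.Helper15.AlgSpLim33

set_option autoImplicit false
set_option linter.unusedSectionVars false
set_option linter.unusedVariables false
set_option linter.style.haveILetI false

universe u

open CategoryTheory CategoryTheory.Limits AlgebraicGeometry MorphismProperty Opposite
open AlgSp

namespace Groth.Agent.Helper15.AlgSpLim

variable {S : Scheme.{u}}

attribute [local instance] IsCofiltered.isConnected

theorem isAffineMor_of_isIso {X Y : Sp S} (f : X ⟶ Y) [IsIso f] : IsAffineMor f :=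
  (isAffineMor_iff_affRep _).2 (affRep_of_repWith (repWith_of_isIso @IsAffineHom f))

section OverBase

variable [QuasiSeparatedSpace ↥S] {I : Type u} [SmallCategory I] [IsCofiltered I]

/-- Descent for systems over a fixed base: if the limit map `X ⟶ Y` is `Qinf` and the transition
maps are `Qgen`, then `X_i ⟶ Y` is `Qst` for all small `i`. -/
theorem exists_affRep_stage_over (Y : Sp S) (hY : IsAlgSpace Y) (D : I ⥤ Sp S)
    (hD : ∀ i, IsAlgSpace (D.obj i)) (t : D ⟶ (Functor.const I).obj Y)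
    (c : Cone D) (hc : IsLimit c) (g : c.pt ⟶ Y) (hg : ∀ i, c.π.app i ≫ t.app i = g)
    (hqc : ∀ i, IsQuasiCompactSp (D.obj i)) (hqs : ∀ i, IsQuasiSeparatedSp (D.obj i))
    (hYqc : IsQuasiCompactSp Y) (hYqs : IsQuasiSeparatedSp Y)
    (hft : ∀ i, LocP @LocallyOfFiniteType (t.app i))
    (Qinf Qst Qgen : MorphismProperty Scheme.{u}) [Qgen.RespectsIso] [Qst.RespectsIso]
    [Qst.IsStableUnderBaseChange] [Qgen.IsStableUnderBaseChange] [Qgen.IsMultiplicative]
    (hQinf : Qinf ≤ @IsAffineHom) (hQst : Qst ≤ @IsAffineHom) (hQgen : Qgen ≤ @IsAffineHom)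
    (hQd : AffDesc.DescAff Qst) (hsys : DescendsSys Qinf Qst Qgen)
    (hDg : ∀ (i j : I) (φ : i ⟶ j), AffRep Qgen (D.map φ))
    (hL : AffRep Qinf g) :
    ∃ i₀ : I, ∀ (i : I) (_ : i ⟶ i₀), AffRep Qst (t.app i) := by
  have hDa : ∀ (i j : I) (φ : i ⟶ j), IsAffineMor (D.map φ) := fun i j φ =>
    (isAffineMor_iff_affRep _).2 ((hDg i j φ).mono hQgen)
  have hFa : ∀ (i j : I) (φ : i ⟶ j), IsAffineMor (((Functor.const I).obj Y).map φ) :=
    fun i j φ => by
      change IsAffineMor (𝟙 Y)
      exact isAffineMor_of_isIso _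
  refine exists_affRep_stage D ((Functor.const I).obj Y) t hD (fun _ => hY) hDa hFa c hc
    (constCone I Y) (isLimitConstCone I Y) g (fun i => ?_) hqc hqs (fun _ => hYqc) (fun _ => hYqs)
    hft Qinf Qst Qgen hQinf hQst hQd hsys ?_ hL
  · change g ≫ 𝟙 Y = _
    rw [Category.comp_id, hg i]
  · intro i j φ G g₁ g₂ sqG γ hγ₁ hγ₂
    haveI : IsIso (((Functor.const I).obj Y).map φ) := by
      change IsIso (𝟙 Y)
      infer_instance
    haveI : IsIso g₁ := sqG.isIso_fst_of_isIso
    have hγ : γ = D.map φ ≫ inv g₁ := by rw [← hγ₁, Category.assoc, IsIso.hom_inv_id,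
      Category.comp_id]
    rw [hγ]
    exact AffRep.comp hQgen (hDg i j φ) (affRep_of_repWith (repWith_of_isIso Qgen (inv g₁)))

end OverBase

end Groth.Agent.Helper15.AlgSpLim
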