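import Mathlib
import Groth.Agent.Lib.Helper15.AlgSpLim34

set_option autoImplicit false
set_option linter.unusedSectionVars false
set_option linter.unusedVariables false
set_option linter.style.haveILetI false

universe u

open CategoryTheory CategoryTheory.Limits AlgebraicGeometry MorphismProperty Opposite
open AlgSp

namespace Groth.Agent.Helper15.AlgSpLim

variable {S : Scheme.{u}}

attribute [local instance] IsCofiltered.isConnected

section SelfProd

variable {𝒞 : Type*} [Category 𝒞] [HasPullbacks 𝒞] {I : Type*} [Category I] {Y : 𝒞} (D : I ⥤ 𝒞)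
  (t : D ⟶ (Functor.const I).obj Y)

theorem t_nat {i j : I} (φ : i ⟶ j) : D.map φ ≫ t.app j = t.app i := by
  have := t.naturality φ
  simp only [Functor.const_obj_obj, Functor.const_obj_map, Category.comp_id] at this
  exact this

set_option backward.isDefEq.respectTransparency false in
/-- The system of self fibre products `D_i ×_Y D_i`. -/
@[reducible] noncomputable def selfProd : I ⥤ 𝒞 where
  obj i := pullback (t.app i) (t.app i)
  map {i j} φ := pullback.map (t.app i) (t.app i) (t.app j) (t.app j) (D.map φ) (D.map φ) (𝟙 Y)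
    ((Category.comp_id _).trans (t_nat D t φ).symm) ((Category.comp_id _).trans (t_nat D t φ).symm)
  map_id i := by
    apply pullback.hom_ext <;> simp [pullback.map]
  map_comp φ ψ := by
    apply pullback.hom_ext <;> simp [pullback.map]

set_option backward.isDefEq.respectTransparency false in
/-- The diagonals, as a morphism of systems. -/
noncomputable def selfDiag : D ⟶ selfProd D t where
  app i := pullback.diagonal (t.app i)
  naturality i j φ := by
    apply pullback.hom_ext <;> simp [selfProd, pullback.map]

variable (c : Cone D) (g : c.pt ⟶ Y) (hg : ∀ i, c.π.app i ≫ t.app i = g)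

set_option backward.isDefEq.respectTransparency false in
/-- The cone over the system of self fibre products. -/
@[reducible] noncomputable def selfCone : Cone (selfProd D t) where
  pt := pullback g g
  π :=
    { app := fun i => pullback.map g g (t.app i) (t.app i) (c.π.app i) (c.π.app i) (𝟙 Y)
        ((Category.comp_id _).trans (hg i).symm) ((Category.comp_id _).trans (hg i).symm)
      naturality := fun i j φ => by
        apply pullback.hom_ext <;> simp [selfProd, pullback.map] }

set_option backward.isDefEq.respectTransparency false in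
theorem selfCone_π_fst (i : I) :
    (selfCone D t c g hg).π.app i ≫ pullback.fst (t.app i) (t.app i) =
      pullback.fst g g ≫ c.π.app i := by
  simp [selfCone, pullback.map]

set_option backward.isDefEq.respectTransparency false in
theorem selfCone_π_snd (i : I) :
    (selfCone D t c g hg).π.app i ≫ pullback.snd (t.app i) (t.app i) =
      pullback.snd g g ≫ c.π.app i := by
  simp [selfCone, pullback.map]

set_option backward.isDefEq.respectTransparency false in
theorem selfProd_map_fst {i j : I} (φ : i ⟶ j) :
    (selfProd D t).map φ ≫ pullback.fst (t.app j) (t.app j) =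
      pullback.fst (t.app i) (t.app i) ≫ D.map φ := by
  simp [selfProd, pullback.map]

set_option backward.isDefEq.respectTransparency false in
theorem selfProd_map_snd {i j : I} (φ : i ⟶ j) :
    (selfProd D t).map φ ≫ pullback.snd (t.app j) (t.app j) =
      pullback.snd (t.app i) (t.app i) ≫ D.map φ := by
  simp [selfProd, pullback.map]

/-- Fibre products commute with limits. -/
noncomputable def isLimitSelfCone [Nonempty I] (hc : IsLimit c) :
    IsLimit (selfCone D t c g hg) := by
  have i₀ : I := Classical.arbitrary I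
  let c₁ : ∀ s : Cone (selfProd D t), Cone D := fun s =>
    ⟨s.pt, { app := fun i => s.π.app i ≫ pullback.fst (t.app i) (t.app i)
             naturality := fun i j φ => by
               dsimp
               rw [Category.id_comp, ← s.w φ, Category.assoc, selfProd_map_fst,
                 Category.assoc] }⟩
  let c₂ : ∀ s : Cone (selfProd D t), Cone D := fun s =>
    ⟨s.pt, { app := fun i => s.π.app i ≫ pullback.snd (t.app i) (t.app i)
             naturality := fun i j φ => by
               dsimp
               rw [Category.id_comp, ← s.w φ, Category.assoc, selfProd_map_snd,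
                 Category.assoc] }⟩
  have ha : ∀ s i, hc.lift (c₁ s) ≫ c.π.app i = s.π.app i ≫ pullback.fst (t.app i) (t.app i) :=
    fun s i => hc.fac (c₁ s) i
  have hb : ∀ s i, hc.lift (c₂ s) ≫ c.π.app i = s.π.app i ≫ pullback.snd (t.app i) (t.app i) :=
    fun s i => hc.fac (c₂ s) i
  have hab : ∀ s, hc.lift (c₁ s) ≫ g = hc.lift (c₂ s) ≫ g := by
    intro s
    rw [← hg i₀, ← Category.assoc, ← Category.assoc, ha, hb, Category.assoc, Category.assoc]
    exact congrArg (s.π.app i₀ ≫ ·) pullback.condition
  refine
    { lift := fun s => pullback.lift (hc.lift (c₁ s)) (hc.lift (c₂ s)) (hab s)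
      fac := fun s i => ?_
      uniq := fun s m hm => ?_ }
  · apply pullback.hom_ext
    · rw [Category.assoc, selfCone_π_fst, ← Category.assoc, pullback.lift_fst, ha]
    · rw [Category.assoc, selfCone_π_snd, ← Category.assoc, pullback.lift_snd, hb]
  · apply pullback.hom_ext
    · rw [pullback.lift_fst]
      apply hc.hom_ext
      intro i
      rw [ha, ← hm i, Category.assoc, Category.assoc, selfCone_π_fst]
    · rw [pullback.lift_snd]
      apply hc.hom_ext
      intro i
      rw [hb, ← hm i, Category.assoc, Category.assoc, selfCone_π_snd]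

set_option backward.isDefEq.respectTransparency false in
theorem diagonal_selfCone (i : I) :
    pullback.diagonal g ≫ (selfCone D t c g hg).π.app i =
      c.π.app i ≫ (selfDiag D t).app i := by
  apply pullback.hom_ext <;> simp [selfDiag, pullback.map]

end SelfProd

section Separated

theorem repWith_pullback_map_of_repWith' {P : MorphismProperty Scheme.{u}}
    [P.IsStableUnderBaseChange] [P.IsStableUnderComposition] {X Y U : Sp S} (f : X ⟶ Y)
    (q : U ⟶ X) (f' : U ⟶ Y) (h : q ≫ f = f') (hq : RepWith P q)
    (h1 : f' ≫ 𝟙 Y = q ≫ f) (h2 : f' ≫ 𝟙 Y = q ≫ f) :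
    RepWith P (pullback.map f' f' f f q q (𝟙 Y) h1 h2) := by
  subst h
  exact repWith_pullback_map_of_repWith f q hq

set_option backward.isDefEq.respectTransparency false in
/-- The comparison map for the system of diagonals is the relative diagonal of the transition
map. -/
theorem repWith_gen_diagonal {U X Y : Sp S} (q : U ⟶ X) (f : X ⟶ Y) (f' : U ⟶ Y)
    (h : q ≫ f = f') (hq : RepWith @IsClosedImmersion (pullback.diagonal q))
    (h1 : f' ≫ 𝟙 Y = q ≫ f) (h2 : f' ≫ 𝟙 Y = q ≫ f)
    {G : Sp S} (g₁ : G ⟶ X) (g₂ : G ⟶ pullback f' f')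
    (sqG : IsPullback g₁ g₂ (pullback.diagonal f) (pullback.map f' f' f f q q (𝟙 Y) h1 h2))
    (γ : U ⟶ G) (hγ₁ : γ ≫ g₁ = q) (hγ₂ : γ ≫ g₂ = pullback.diagonal f') :
    RepWith @IsClosedImmersion γ := by
  subst h
  have sq₀ := pullback_map_diagonal_isPullback q q f
  let e : pullback q q ≅ G := sq₀.isoIsPullback _ _ sqG
  have he₁ : e.hom ≫ g₁ = pullback.fst q q ≫ q := IsPullback.isoIsPullback_hom_fst _ _ _ _
  have he₂ : e.hom ≫ g₂ = pullback.map q q (q ≫ f) (q ≫ f) (𝟙 _) (𝟙 _) f
      (Category.id_comp _).symm (Category.id_comp _).symm :=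
    IsPullback.isoIsPullback_hom_snd _ _ _ _
  have hγ : γ = pullback.diagonal q ≫ e.hom := by
    apply sqG.hom_ext
    · rw [hγ₁, Category.assoc, he₁, ← Category.assoc, pullback.diagonal_fst, Category.id_comp]
    · rw [hγ₂, Category.assoc, he₂]
      apply pullback.hom_ext <;> simp
  rw [hγ]
  exact (RepWith @IsClosedImmersion).comp_mem _ _ hq (repWith_of_isIso @IsClosedImmersion e.hom)

variable [QuasiSeparatedSpace ↥S] {I : Type u} [SmallCategory I] [IsCofiltered I]

/-- Separatedness over a fixed base descends through limits with affine transition maps. -/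
theorem exists_isSeparatedMor_stage (Y : Sp S) (hY : IsAlgSpace Y) (D : I ⥤ Sp S)
    (hD : ∀ i, IsAlgSpace (D.obj i)) (t : D ⟶ (Functor.const I).obj Y)
    (hDa : ∀ (i j : I) (φ : i ⟶ j), IsAffineMor (D.map φ))
    (c : Cone D) (hc : IsLimit c) (g : c.pt ⟶ Y) (hg : ∀ i, c.π.app i ≫ t.app i = g)
    (hqc : ∀ i, IsQuasiCompactSp (D.obj i)) (hqs : ∀ i, IsQuasiSeparatedSp (D.obj i))
    (hYqs : IsQuasiSeparatedSp Y) (hX : IsSeparatedMor g) :
    ∃ i₀ : I, ∀ (i : I) (_ : i ⟶ i₀), IsSeparatedMor (t.app i) := by
  have hsq : ∀ i, IsPullback (pullback.fst (t.app i) (t.app i)) (pullback.snd (t.app i) (t.app i))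
      (t.app i) (t.app i) := fun i => IsPullback.of_hasPullback _ _
  have hF : ∀ i, IsAlgSpace ((selfProd D t).obj i) := fun i =>
    isAlgSpace_of_isPullback hY.diag (hD i) (hD i) (hsq i)
  have hFqc : ∀ i, IsQuasiCompactSp ((selfProd D t).obj i) := fun i =>
    isQuasiCompactSp_of_isPullback (hsq i) (hqc i) (hqc i) hYqs
  have hFqs : ∀ i, IsQuasiSeparatedSp ((selfProd D t).obj i) := fun i =>
    isQuasiSeparatedSp_of_isPullback (hsq i) (hqs i) (hqs i)
  have hFa : ∀ (i j : I) (φ : i ⟶ j), IsAffineMor ((selfProd D t).map φ) := fun i j φ => by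
    have h := repWith_pullback_map_of_repWith' (P := @IsAffineHom) (t.app j) (D.map φ) (t.app i)
      (t_nat D t φ) (repWith_of_affRep _ ((isAffineMor_iff_affRep _).1 (hDa i j φ)))
      ((Category.comp_id _).trans (t_nat D t φ).symm) ((Category.comp_id _).trans (t_nat D t φ).symm)
    exact (isAffineMor_iff_affRep _).2 (affRep_of_repWith h)
  have hft : ∀ i, LocP @LocallyOfFiniteType ((selfDiag D t).app i) := fun i =>
    locP_of_repWith etale_le_lft _ (diagonal_properties (hD i) (t.app i)).2.1
  obtain ⟨i₀, hi₀⟩ := exists_affRep_stage D (selfProd D t) (selfDiag D t) hD hF hDa hFa c hc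
    (selfCone D t c g hg) (isLimitSelfCone D t c g hg hc) (pullback.diagonal g)
    (diagonal_selfCone D t c g hg) hqc hqs hFqc hFqs hft @IsClosedImmersion @IsClosedImmersion
    @IsClosedImmersion isClosedImmersion_le_isAffineHom isClosedImmersion_le_isAffineHom
    descAff_isClosedImmersion descendsSys_isClosedImmersion
    (fun {i j} φ {G} g₁ g₂ sqG γ hγ₁ hγ₂ =>
      affRep_of_repWith (repWith_gen_diagonal (D.map φ) (t.app j) (t.app i) (t_nat D t φ)
        (isSeparatedMor_of_isAffineMor (hD i) (hD j) _ (hDa i j φ))
        ((Category.comp_id _).trans (t_nat D t φ).symm)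
        ((Category.comp_id _).trans (t_nat D t φ).symm) g₁ g₂ sqG γ hγ₁ hγ₂))
    (affRep_of_repWith hX)
  exact ⟨i₀, fun i φ => repWith_of_affRep _ (hi₀ i φ)⟩

end Separated

end Groth.Agent.Helper15.AlgSpLim
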