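import Mathlib
import Groth.Agent.Lib.Helper15.AlgSpLim35

set_option autoImplicit false
set_option linter.unusedSectionVars false
set_option linter.unusedVariables false
set_option linter.style.haveILetI false

universe u

open CategoryTheory CategoryTheory.Limits AlgebraicGeometry MorphismProperty Opposite
open AlgSp

namespace Groth.Agent.Helper15.AlgSpLim

variable {S : Scheme.{u}}

attribute [local instance] IsCofiltered.isConnected

/-- The sheaf represented by `S` itself is terminal. -/
noncomputable def isTerminalYonBase : IsTerminal ((yon S).obj (Over.mk (𝟙 S))) :=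
  IsTerminal.isTerminalObj (yon S) _ Over.mkIdTerminal

/-- Separatedness of a sheaf is separatedness of its morphism to a terminal object. -/
theorem isSeparatedSp_iff_isSeparatedMor_from {T : Sp S} (hT : IsTerminal T) (X : Sp S) :
    IsSeparatedSp X ↔ IsSeparatedMor (hT.from X) := by
  have sq : IsPullback (Limits.prod.fst : X ⨯ X ⟶ X) Limits.prod.snd (hT.from X) (hT.from X) :=
    IsPullback.of_is_product' (prodIsProd X X) hT
  have h : Limits.diag X ≫ sq.isoPullback.hom = pullback.diagonal (hT.from X) := by
    apply pullback.hom_ext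
    · rw [Category.assoc, sq.isoPullback_hom_fst, pullback.diagonal_fst]
      exact prod.lift_fst _ _
    · rw [Category.assoc, sq.isoPullback_hom_snd, pullback.diagonal_snd]
      exact prod.lift_snd _ _
  unfold IsSeparatedSp IsSeparatedMor
  rw [← h]
  exact (MorphismProperty.cancel_right_of_respectsIso (RepWith @IsClosedImmersion) _ _).symm

theorem isQuasiSeparatedSp_yon_base : IsQuasiSeparatedSp ((yon S).obj (Over.mk (𝟙 S))) := by
  unfold IsQuasiSeparatedSp
  rw [repWith_diag_yon_iff]
  change QuasiCompact (pullback.diagonal (𝟙 S))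
  infer_instance

/-- Separatedness over the base descends through limits with affine transition maps. -/
theorem exists_isSeparatedSp_stage [QuasiSeparatedSpace ↥S] {I : Type u} [SmallCategory I]
    [IsCofiltered I] (D : I ⥤ Sp S) (hD : ∀ i, IsAlgSpace (D.obj i))
    (hDa : ∀ (i j : I) (φ : i ⟶ j), IsAffineMor (D.map φ))
    (hqc : ∀ i, IsQuasiCompactSp (D.obj i)) (hqs : ∀ i, IsQuasiSeparatedSp (D.obj i))
    (c : Cone D) (hc : IsLimit c) (hX : IsSeparatedSp c.pt) :
    ∃ i₀ : I, ∀ (i : I) (_ : i ⟶ i₀), IsSeparatedSp (D.obj i) := by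
  let hT : IsTerminal ((yon S).obj (Over.mk (𝟙 S))) := isTerminalYonBase
  let t : D ⟶ (Functor.const I).obj ((yon S).obj (Over.mk (𝟙 S))) :=
    { app := fun i => hT.from (D.obj i)
      naturality := fun i j φ => hT.hom_ext _ _ }
  obtain ⟨i₀, hi₀⟩ := exists_isSeparatedMor_stage _ (IsAlgSpace.yon_obj _) D hD t hDa c hc
    (hT.from c.pt) (fun i => hT.hom_ext _ _) hqc hqs isQuasiSeparatedSp_yon_base
    ((isSeparatedSp_iff_isSeparatedMor_from hT c.pt).1 hX)
  exact ⟨i₀, fun i φ => (isSeparatedSp_iff_isSeparatedMor_from hT (D.obj i)).2 (hi₀ i φ)⟩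

end Groth.Agent.Helper15.AlgSpLim
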