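import Mathlib
import Groth.Agent.Lib.Helper15.AlgSpLim21
import Groth.Agent.Lib.Helper14.LimFlat

set_option autoImplicit false

universe u

open CategoryTheory CategoryTheory.Limits AlgebraicGeometry MorphismProperty Opposite TensorProduct
open AlgSp

namespace Groth.Agent.Helper15.AlgSpLim

attribute [local instance] IsCofiltered.isConnected

/-- Transfer between the two projections of a fibre product. -/
theorem snd_iff_fst_symm (W : MorphismProperty Scheme.{u}) [W.RespectsIso] {A B C : Scheme.{u}}
    (f : A ⟶ C) (g : B ⟶ C) : W (pullback.snd f g) ↔ W (pullback.fst g f) := by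
  rw [← pullbackSymmetry_hom_comp_fst]
  exact W.cancel_left_of_respectsIso _ _

/-- A property with a ring-theoretic counterpart which descends through filtered colimits of rings
(in the format of helper4's framework) descends through cofiltered limits of affine schemes. -/
theorem descendsAffine_of_tensorDescends (P : MorphismProperty Scheme.{u})
    {Q : ∀ {R S : Type u} [CommRing R] [CommRing S], (R →+* S) → Prop}
    [HasRingHomProperty P Q] [P.IsStableUnderBaseChange]
    (hD : Groth.Agent.Helper4.LimSmRing.TensorDescends @Q) : DescendsAffine P := by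
  intro K _ _ T V₀ z hT cL hcL zL hzL hV₀ U₀ hU₀ u₀ hu₀ hW
  have : P.RespectsIso := inferInstance
  obtain ⟨k₀⟩ := IsCofiltered.nonempty (C := K)
  have hT' : ∀ k, IsAffine (T.obj k) := hT
  have hV₀' : IsAffine (((Functor.const K).obj V₀).obj k₀) := hV₀
  let g : pullback u₀ (z.app k₀) ⟶ T.obj k₀ := pullback.snd u₀ (z.app k₀)
  have hVaff : IsAffine (pullback u₀ (z.app k₀)) := inferInstance
  have hg : LocallyOfFinitePresentation g := inferInstance
  -- the base change to the limit
  have sq1 : IsPullback (pullback.snd (cL.π.app k₀) g ≫ pullback.fst u₀ (z.app k₀))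
      (pullback.fst (cL.π.app k₀) g) u₀ zL := by
    have := isPullback_paste_snd u₀ (z.app k₀) (cL.π.app k₀)
    rwa [show cL.π.app k₀ ≫ z.app k₀ = zL from hzL k₀] at this
  have h1 : P (pullback.snd g (cL.π.app k₀)) := by
    refine (snd_iff_fst_symm P _ _).2 ?_
    have := (P.cancel_left_of_respectsIso sq1.isoPullback.hom _).2 hW
    rwa [sq1.isoPullback_hom_snd] at this
  obtain ⟨l, ψ, hl⟩ := Groth.Agent.Helper4.LimSm.exists_snd_of_isAffine T cL hcL hD k₀ g h1
  refine ⟨l, fun k f => ?_⟩
  have hzk : z.app k = T.map (f ≫ ψ) ≫ z.app k₀ := by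
    have := z.naturality (f ≫ ψ)
    rw [Functor.const_obj_map] at this
    exact (this.trans (Category.comp_id _)).symm
  have key : ∀ (y : T.obj k ⟶ V₀), y = T.map (f ≫ ψ) ≫ z.app k₀ → P (pullback.snd u₀ y) := by
    rintro y rfl
    have sq2 := isPullback_paste_snd u₀ (z.app k₀) (T.map (f ≫ ψ))
    have h2 : P (pullback.fst (T.map (f ≫ ψ)) g) := by
      refine (snd_iff_fst_symm P _ _).1 ?_
      rw [T.map_comp]
      exact snd_of_comp P g (T.map ψ) (T.map f) hl
    have := (P.cancel_left_of_respectsIso sq2.isoPullback.inv _).2 h2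
    rwa [sq2.isoPullback_inv_snd] at this
  exact key _ hzk

theorem descendsAffine_flat : DescendsAffine (@Flat : MorphismProperty Scheme.{u}) :=
  descendsAffine_of_tensorDescends @Flat Groth.Agent.Helper14.LimFlat.tensorDescends_flat

end Groth.Agent.Helper15.AlgSpLim
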