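import Groth.Agent.Lib.Helper15.LqfSelf
import Groth.Agent.Lib.Helper15.AlgSpUnram
import Groth.Agent.Lib.Helper15.AlgSpLocP3
import Groth.Agent.Lib.Helper15.AlgSpLocPListed

/-!
# Locally quasi-finite morphisms: descent along the morphism itself
-/

set_option autoImplicit false
universe u
open CategoryTheory CategoryTheory.Limits AlgebraicGeometry MorphismProperty Opposite
open AlgSp

namespace Groth.Agent.Helper15

variable {S : Scheme.{u}}

/-- Variant of `repWith_pullback_map_of_repWith` with a free name for the composite. -/
theorem repWith_pullback_map_of_repWith' {P : MorphismProperty Scheme.{u}}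
    [P.IsStableUnderBaseChange] [P.IsStableUnderComposition]
    {X Y U : Sp S} (f : X ⟶ Y) (q : U ⟶ X) (hq : RepWith P q) (g : U ⟶ Y) (hg : q ≫ f = g) :
    RepWith P (pullback.map g g f f q q (𝟙 Y) (by rw [hg, Category.comp_id])
      (by rw [hg, Category.comp_id])) := by
  subst hg
  exact repWith_pullback_map_of_repWith f q hq

set_option backward.isDefEq.respectTransparency false in
/-- If `f` is locally of finite type and the second projection `X ×_B X ⟶ X` is locally
quasi-finite, then `f` is locally quasi-finite. -/
theorem locP_lqf_of_snd {X B : Sp S} (hB : IsAlgSpace B) (f : X ⟶ B)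
    (hlft : LocP @LocallyOfFiniteType f)
    (hpr : LocP (@LocallyQuasiFinite ⊓ @LocallyOfFiniteType) (pullback.snd f f)) :
    LocP (@LocallyQuasiFinite ⊓ @LocallyOfFiniteType) f := by
  intro U V a b h ha hb comm
  refine ⟨?_, hlft a b h ha hb comm⟩
  haveI : LocallyOfFiniteType h.left := hlft a b h ha hb comm
  have hrep := representable_yon_map h
  have sqW := hrep.isPullback' ((yon S).map h)
  have sqW' : IsPullback (hrep.fst' ((yon S).map h)) (hrep.snd ((yon S).map h)) h h :=
    IsPullback.of_map (yon S)
      ((yon S).map_injective (by simpa only [Functor.map_comp] using sqW.w)) sqW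
  have sqL := sqW'.map (Over.forget S)
  set pr₁ := hrep.fst' ((yon S).map h)
  set pr₂ := hrep.snd ((yon S).map h)
  set h' := (yon S).map h with hh'
  -- the chart
  have hw : ((yon S).map pr₁ ≫ a) ≫ f = ((yon S).map pr₂ ≫ a) ≫ f := by
    rw [Category.assoc, Category.assoc, comm, ← Category.assoc, ← Category.assoc, sqW.w]
  let c : (yon S).obj (hrep.pullback h') ⟶ pullback f f :=
    pullback.lift ((yon S).map pr₁ ≫ a) ((yon S).map pr₂ ≫ a) hw
  have hc : RepWith @Etale c := by
    -- first map: `h_W ≅ h_U ×_{h_V} h_U`
    have h1 : RepWith @Etale sqW.isoPullback.hom := repWith_of_isIso _ _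
    -- second map: base change of the diagonal of `b`
    have hdiag : RepWith @IsOpenImmersion (pullback.diagonal b) :=
      repWith_isOpenImmersion_diagonal_of_etale hB b hb
    have sqD := pullback_map_diagonal_isPullback h' h' b
    have h2 : RepWith @Etale (pullback.map h' h' (h' ≫ b) (h' ≫ b) (𝟙 _) (𝟙 _) b
        (Category.id_comp _).symm (Category.id_comp _).symm) :=
      repWith_mono isOpenImmersion_le_etale ((RepWith @IsOpenImmersion).of_isPullback sqD hdiag)
    -- third map: product of the chart `a` with itself
    have h3 := repWith_pullback_map_of_repWith' f a ha (h' ≫ b) comm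
    have e : c = sqW.isoPullback.hom ≫
        pullback.map h' h' (h' ≫ b) (h' ≫ b) (𝟙 _) (𝟙 _) b
          (Category.id_comp _).symm (Category.id_comp _).symm ≫
        pullback.map (h' ≫ b) (h' ≫ b) f f a a (𝟙 B) (by rw [comm, Category.comp_id])
          (by rw [comm, Category.comp_id]) := by
      apply pullback.hom_ext
      · simp [c]
        rw [← Category.assoc, sqW.isoPullback_hom_fst]
      · simp [c]
        rw [← Category.assoc, sqW.isoPullback_hom_snd]
    rw [e]
    exact (RepWith @Etale).comp_mem _ _ h1 ((RepWith @Etale).comp_mem _ _ h2 h3)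
  have hP := hpr c a pr₂ hc ha (pullback.lift_snd _ _ _)
  haveI : LocallyQuasiFinite ((Over.forget S).map pr₂) := hP.1
  exact locallyQuasiFinite_of_isPullback_self h.left sqL

end Groth.Agent.Helper15
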