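import Groth.Agent.Lib.Helper15.AlgSpDiagMor

/-!
# Topological properties of general morphisms of sheaves, checked after base change to schemes
-/

set_option autoImplicit false
universe u
open CategoryTheory CategoryTheory.Limits AlgebraicGeometry MorphismProperty Opposite
open AlgSp

namespace Groth.Agent.Helper15

variable {S : Scheme.{u}}

/-- A subset of the space of points is open iff its preimages in all affine schemes are open. -/
theorem isOpen_points_iff_affine {F : Sp S} {W : Set (Points F)} :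
    IsOpen W ↔ ∀ (T : Over S), IsAffine T.left → ∀ (g : (yon S).obj T ⟶ F),
      IsOpen (Points.ofPt g ⁻¹' W) := by
  refine ⟨fun h T _ g => Points.isOpen_iff.1 h T g, fun h => Points.isOpen_iff.2 fun T g => ?_⟩
  rw [isOpen_iff_forall_mem_open]
  intro t ht
  obtain ⟨_, ⟨O, hO, rfl⟩, htO, -⟩ :=
    (T.left.isBasis_affineOpens).exists_subset_of_mem_open (Set.mem_univ t) isOpen_univ
  let O' : T.left.Opens := O
  let T' : Over S := Over.mk (O'.ι ≫ T.hom)
  let j : T' ⟶ T := Over.homMk O'.ι rfl
  have hT' : IsAffine T'.left := (show IsAffineOpen O' from hO)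
  have h1 := h T' hT' ((yon S).map j ≫ g)
  have h2 : Points.ofPt ((yon S).map j ≫ g) ⁻¹' W = j.left ⁻¹' (Points.ofPt g ⁻¹' W) := by
    ext x
    simp only [Set.mem_preimage]
    rw [ofPt_comp_yon_map]
  rw [h2] at h1
  refine ⟨j.left '' (j.left ⁻¹' (Points.ofPt g ⁻¹' W)), ?_, ?_, ?_⟩
  · rintro _ ⟨x, hx, rfl⟩
    exact hx
  · exact O'.ι.isOpenEmbedding.isOpenMap _ h1
  · exact ⟨(⟨t, htO⟩ : O'), ht, rfl⟩

/-- Preimage of the image under a base change. -/
theorem preimage_image_eq_of_isPullback {Z' Z Q T : Sp S} {snd : Z' ⟶ Z} {t : T ⟶ Z}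
    {fstQ : Q ⟶ Z'} {sndQ : Q ⟶ T} (sq : IsPullback fstQ sndQ snd t) (W : Set (Points Z')) :
    Points.map t ⁻¹' (Points.map snd '' W) = Points.map sndQ '' (Points.map fstQ ⁻¹' W) := by
  ext x
  constructor
  · rintro ⟨z', hz', hx⟩
    obtain ⟨q, hq1, hq2⟩ := exists_point_of_isPullback sq z' x hx
    exact ⟨q, by rw [Set.mem_preimage, hq1]; exact hz', hq2⟩
  · rintro ⟨q, hq, rfl⟩
    refine ⟨Points.map fstQ q, hq, ?_⟩
    rw [← Points.map_comp, ← Points.map_comp, sq.w]

/-- A morphism of sheaves is open on points if all its base changes to affine schemes are. -/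
theorem isOpenMor_of_forall_affine {Z' Z : Sp S} (snd : Z' ⟶ Z)
    (h : ∀ (T : Over S), IsAffine T.left → ∀ (t : (yon S).obj T ⟶ Z),
      IsOpenMor (pullback.snd snd t)) : IsOpenMor snd := by
  intro W hW
  rw [isOpen_points_iff_affine]
  intro T hT t
  have sq : IsPullback (pullback.fst snd t) (pullback.snd snd t) snd t :=
    IsPullback.of_hasPullback _ _
  have e : Points.ofPt t ⁻¹' (Points.map snd '' W) =
      (Points.schemeHomeo T) ⁻¹' (Points.map t ⁻¹' (Points.map snd '' W)) := by
    ext x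
    simp only [Set.mem_preimage]
    rw [Points.ofPt_eq_map_ofScheme]
    rfl
  rw [e, preimage_image_eq_of_isPullback sq]
  exact ((h T hT t) _ (hW.preimage (Points.continuous_map _))).preimage
    (Points.schemeHomeo T).continuous

theorem isClosedMor_of_forall_affine {Z' Z : Sp S} (snd : Z' ⟶ Z)
    (h : ∀ (T : Over S), IsAffine T.left → ∀ (t : (yon S).obj T ⟶ Z),
      IsClosedMor (pullback.snd snd t)) : IsClosedMor snd := by
  intro W hW
  rw [← isOpen_compl_iff, isOpen_points_iff_affine]
  intro T hT t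
  have sq : IsPullback (pullback.fst snd t) (pullback.snd snd t) snd t :=
    IsPullback.of_hasPullback _ _
  have e : Points.ofPt t ⁻¹' (Points.map snd '' W)ᶜ =
      ((Points.schemeHomeo T) ⁻¹' (Points.map t ⁻¹' (Points.map snd '' W)))ᶜ := by
    ext x
    simp only [Set.mem_preimage, Set.mem_compl_iff]
    rw [Points.ofPt_eq_map_ofScheme]
    rfl
  rw [e, preimage_image_eq_of_isPullback sq, isOpen_compl_iff]
  exact ((h T hT t) _ (hW.preimage (Points.continuous_map _))).preimage
    (Points.schemeHomeo T).continuous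

/-- Generic "universal" statement: a property `Q` of morphisms of sheaves that can be checked after
base change to affine schemes holds universally as soon as it holds for all base changes to affine
schemes. -/
theorem univSp_of_forall_affine {Q : MorphismProperty (Sp S)}
    (hQ : ∀ {Z' Z : Sp S} (snd : Z' ⟶ Z),
      (∀ (T : Over S), IsAffine T.left → ∀ (t : (yon S).obj T ⟶ Z), Q (pullback.snd snd t)) →
        Q snd)
    {X Y : Sp S} (f : X ⟶ Y)
    (h : ∀ (Z : Over S), IsAffine Z.left → ∀ (g : (yon S).obj Z ⟶ Y) (P : Sp S)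
      (fst : P ⟶ X) (snd : P ⟶ (yon S).obj Z), IsPullback fst snd f g → Q snd) :
    UnivSp Q f := by
  intro Z Z' _ g fst snd sq
  refine hQ snd (fun T hT t => ?_)
  have sqT : IsPullback (pullback.fst snd t) (pullback.snd snd t) snd t :=
    IsPullback.of_hasPullback _ _
  exact h T hT (t ≫ g) _ _ _ (sqT.paste_horiz sq)

/-- A representable etale surjective map to an algebraic space is a quotient map on points. -/
theorem isQuotientMap_points_of_etale_surjective {Z₁ Z : Sp S} (hZ : IsAlgSpace Z) (π : Z₁ ⟶ Z)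
    (hπe : RepWith @Etale π) (hπs : RepWith @Surjective π) :
    Topology.IsQuotientMap (Points.map π) := by
  obtain ⟨W, q, hqe, hqs⟩ := hZ.atlas
  have hopen : IsOpenMap (Points.map π) :=
    isOpenMor_of_repWith π (P := @Etale)
      (fun φ hφ => by haveI : Etale φ := hφ; exact φ.isOpenMap) hπe q hqe hqs
  exact hopen.isQuotientMap (Points.continuous_map π) (isSurjectiveMor_of_repWith_surjective π hπs)

theorem isOpenMor_of_quotient_base_change {Z' Z Z₁ Z₁' : Sp S} {sndZ : Z' ⟶ Z} {π : Z₁ ⟶ Z}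
    {π' : Z₁' ⟶ Z'} {snd₁ : Z₁' ⟶ Z₁} (sq : IsPullback π' snd₁ sndZ π)
    (hq : Topology.IsQuotientMap (Points.map π)) (h : IsOpenMor snd₁) : IsOpenMor sndZ := by
  intro W hW
  rw [← hq.isOpen_preimage, preimage_image_eq_of_isPullback sq]
  exact h _ (hW.preimage (Points.continuous_map _))

theorem isClosedMor_of_quotient_base_change {Z' Z Z₁ Z₁' : Sp S} {sndZ : Z' ⟶ Z} {π : Z₁ ⟶ Z}
    {π' : Z₁' ⟶ Z'} {snd₁ : Z₁' ⟶ Z₁} (sq : IsPullback π' snd₁ sndZ π)
    (hq : Topology.IsQuotientMap (Points.map π)) (h : IsClosedMor snd₁) : IsClosedMor sndZ := by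
  intro W hW
  rw [← hq.isClosed_preimage, preimage_image_eq_of_isPullback sq]
  exact h _ (hW.preimage (Points.continuous_map _))

/-- Descent of a universal property along an etale surjective chart of the target. -/
theorem univSp_of_chart {Q : MorphismProperty (Sp S)}
    (hQ : ∀ {Z' Z Z₁ Z₁' : Sp S} {sndZ : Z' ⟶ Z} {π : Z₁ ⟶ Z} {π' : Z₁' ⟶ Z'} {snd₁ : Z₁' ⟶ Z₁},
      IsPullback π' snd₁ sndZ π → Topology.IsQuotientMap (Points.map π) → Q snd₁ → Q sndZ)
    {X Y : Sp S} (hY : IsAlgSpace Y) (f : X ⟶ Y) {V : Over S} (p : (yon S).obj V ⟶ Y)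
    (hpe : RepWith @Etale p) (hps : RepWith @Surjective p) {P' : Sp S} (fst : P' ⟶ X)
    (snd : P' ⟶ (yon S).obj V) (sq : IsPullback fst snd f p) (h : UnivSp Q snd) :
    UnivSp Q f := by
  intro Z Z' hZ g fstZ sndZ sqZ
  have sqV : IsPullback (pullback.fst g p) (pullback.snd g p) g p := IsPullback.of_hasPullback _ _
  set π := pullback.fst g p
  set τ := pullback.snd g p
  have hZ₁ : IsAlgSpace (pullback g p) :=
    isAlgSpace_of_isPullback hY.diag hZ (IsAlgSpace.yon_obj V) sqV
  have hπe : RepWith @Etale π := (RepWith @Etale).of_isPullback sqV.flip hpe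
  have hπs : RepWith @Surjective π := (RepWith @Surjective).of_isPullback sqV.flip hps
  have sq' : IsPullback (pullback.fst sndZ π) (pullback.snd sndZ π) sndZ π :=
    IsPullback.of_hasPullback _ _
  set π' := pullback.fst sndZ π
  set snd₁ := pullback.snd sndZ π
  have big := sq'.paste_horiz sqZ
  have hw : (π' ≫ fstZ) ≫ f = (snd₁ ≫ τ) ≫ p := by
    rw [big.w, Category.assoc, sqV.w]
  have hl1 := sq.lift_fst _ _ hw
  have hl2 := sq.lift_snd _ _ hw
  have big' : IsPullback (sq.lift _ _ hw ≫ fst) snd₁ f (τ ≫ p) := by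
    rw [hl1, ← sqV.w]; exact big
  have left := IsPullback.of_right big' hl2 sq
  have hQ₁ : Q snd₁ := h hZ₁ τ _ _ left
  exact hQ sq' (isQuotientMap_points_of_etale_surjective hZ π hπe hπs) hQ₁

/-- If `a` is representable surjective and `a ≫ f` is universally open, so is `f`. -/
theorem isUnivOpenMor_of_comp_surjective {U' X Y : Sp S} (a : U' ⟶ X) (f : X ⟶ Y)
    (ha : RepWith @Surjective a) (h : IsUnivOpenMor (a ≫ f)) : IsUnivOpenMor f := by
  intro Z Z' hZ g fstZ sndZ sqZ
  have sq1 : IsPullback (pullback.fst a fstZ) (pullback.snd a fstZ) a fstZ :=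
    IsPullback.of_hasPullback _ _
  have hsurj : IsSurjectiveMor (pullback.snd a fstZ) :=
    isSurjectiveMor_of_repWith_surjective _ ((RepWith @Surjective).of_isPullback sq1 ha)
  have hopen : IsOpenMor (pullback.snd a fstZ ≫ sndZ) := h hZ g _ _ (sq1.paste_vert sqZ)
  intro W hW
  have : Points.map sndZ '' W =
      Points.map (pullback.snd a fstZ ≫ sndZ) '' (Points.map (pullback.snd a fstZ) ⁻¹' W) := by
    ext z
    constructor
    · rintro ⟨z', hz', rfl⟩
      obtain ⟨z'', rfl⟩ := hsurj z'
      exact ⟨z'', hz', Points.map_comp _ _ _⟩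
    · rintro ⟨z'', hz'', rfl⟩
      exact ⟨_, hz'', (Points.map_comp _ _ _).symm⟩
  rw [this]
  exact hopen _ (hW.preimage (Points.continuous_map _))

end Groth.Agent.Helper15
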