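import Groth.Agent.Lib.Helper15.AlgSpNoeth

/-!
# Noetherian topology of points
-/

set_option autoImplicit false
universe u
open CategoryTheory CategoryTheory.Limits AlgebraicGeometry MorphismProperty TopologicalSpace
open AlgSp

namespace Groth.Agent.Helper15
variable {S : Scheme.{u}}

/-- A quasi-compact open of a locally Noetherian scheme is a Noetherian space. -/
theorem noetherianSpace_of_isCompact_open {U : Scheme.{u}} [IsLocallyNoetherian U] (W : U.Opens)
    (hW : IsCompact (W : Set U)) : NoetherianSpace ↥W := by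
  haveI : IsLocallyNoetherian (W : Scheme.{u}) := isLocallyNoetherian_of_isOpenImmersion W.ι
  haveI : CompactSpace ↥(W : Scheme.{u}) := isCompact_iff_compactSpace.mp hW
  haveI : IsNoetherian (W : Scheme.{u}) := { }
  exact (inferInstance : NoetherianSpace ↥(W : Scheme.{u}))

theorem finite_irredComp_of_isLocNoethSp {X : Sp S} (hX : IsLocNoethSp X) (U : Over S)
    (a : (yon S).obj U ⟶ X) (ha : RepWith @Etale a) (W : U.left.Opens)
    (hW : IsCompact (W : Set ↥U.left)) : (irreducibleComponents ↥W).Finite := by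
  haveI := isLocallyNoetherian_of_etale_of_isLocNoethSp hX a ha
  haveI := noetherianSpace_of_isCompact_open W hW
  exact NoetherianSpace.finite_irreducibleComponents

end Groth.Agent.Helper15

namespace Groth.Agent.Helper15
variable {S : Scheme.{u}}

/-- S10203. -/
theorem noetherianSpace_points_of_quasiCompact_isLocNoethSp {X : Sp S}
    (hqc : IsQuasiCompactSp X) (hX : IsLocNoethSp X) : NoetherianSpace (Points X) := by
  obtain ⟨U, p, hpe, hps, hU⟩ := hqc
  haveI : CompactSpace ↥U.left := hU
  haveI := isLocallyNoetherian_of_etale_of_isLocNoethSp hX p hpe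
  haveI : IsNoetherian U.left := { }
  exact noetherianSpace_of_surjective (Points.ofPt p) (Points.continuous_ofPt p)
    (surjective_ofPt p hps)

/-- S10202. -/
theorem exists_noetherianSpace_nhd_of_isLocNoethSp {X : Sp S} (hX : IsLocNoethSp X)
    (x : Points X) : ∃ W : Set (Points X), IsOpen W ∧ x ∈ W ∧ NoetherianSpace ↥W := by
  obtain ⟨U, p, hpe, hps, hU⟩ := hX
  haveI : IsLocallyNoetherian U.left := hU
  obtain ⟨u, rfl⟩ := surjective_ofPt p hps x
  obtain ⟨_, ⟨O, hO, rfl⟩, huO, -⟩ :=
    (U.left.isBasis_affineOpens).exists_subset_of_mem_open (Set.mem_univ u) isOpen_univ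
  let O' : U.left.Opens := O
  haveI : NoetherianSpace ↥O' := noetherianSpace_of_isCompact_open O' hO.isCompact
  refine ⟨Points.ofPt p '' (O' : Set U.left), isOpenMap_ofPt_of_etale p hpe _ O'.2,
    ⟨u, huO, rfl⟩, ?_⟩
  let g : ↥O' → ↥(Points.ofPt p '' (O' : Set U.left)) := fun o => ⟨Points.ofPt p o.1, o.1, o.2, rfl⟩
  refine noetherianSpace_of_surjective g ?_ ?_
  · exact ((Points.continuous_ofPt p).comp continuous_subtype_val).subtype_mk _
  · rintro ⟨_, o, ho, rfl⟩
    exact ⟨⟨o, ho⟩, rfl⟩

end Groth.Agent.Helper15
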