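import Groth.Agent.Lib.Helper15.AlgSpClosedPt3
import Groth.Agent.Lib.Helper15.AlgSpUnram

set_option autoImplicit false
universe u
open CategoryTheory CategoryTheory.Limits AlgebraicGeometry Topology TopologicalSpace
open AlgSp

namespace Groth.Agent.Helper15
variable {S : Scheme.{u}}

/-- A monomorphism of sheaves through which an étale surjective map factors is an isomorphism. -/
theorem isIso_of_mono_of_fac_etale_surjective {F G X : Sp S} (q : F ⟶ X) [Mono q] (a : G ⟶ X)
    (hae : RepWith @Etale a) (has : RepWith @Surjective a) (l : G ⟶ F) (hl : l ≫ q = a) :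
    IsIso q := by
  haveI := isLocallySurjective_of_etale_surjective a hae has
  haveI : Epi a := Sheaf.epi_of_isLocallySurjective a
  haveI : Epi q := epi_of_epi_fac hl
  exact isIso_of_mono_of_epi q

/-- S10356 -/
theorem exists_iso_yon_field_of_reduced_of_subsingleton {X : Sp S} (hXa : IsAlgSpace X)
    (hX : AlgSp.IsDecent X) (hr : AlgSp.EtaleLocally (fun U => IsReduced U) X)
    [Nonempty (AlgSp.Points X)] [Subsingleton (AlgSp.Points X)] :
    ∃ (k : Type u) (_ : Field k) (str : Spec (CommRingCat.of k) ⟶ S),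
      Nonempty ((AlgSp.yon S).obj (Over.mk str) ≅ X) := by
  obtain ⟨x⟩ := (inferInstance : Nonempty (AlgSp.Points X))
  obtain ⟨U, a, hae, has, hred⟩ := hr
  haveI : IsReduced U.left := hred
  obtain ⟨q, hq, hmono, hqc⟩ := hX x
  have hx : IsClosed ({Points.mk q} : Set (Points X)) := by
    have : ({Points.mk q} : Set (Points X)) = Set.univ :=
      Set.eq_univ_of_forall (fun y => Subsingleton.elim _ _)
    rw [this]; exact isClosed_univ
  have hqci := repWith_isClosedImmersion_of_fieldPt_of_isClosed hXa hX q hmono hqc hx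
  have sq := hqci.rep.isPullback' a
  haveI h1 : IsClosedImmersion (hqci.rep.snd a).left := hqci.property_snd a
  have : Surjective (hqci.rep.snd a).left := by
    refine ⟨fun u => ?_⟩
    obtain ⟨z, -, hz⟩ := exists_of_ofPt_eq sq (IsLocalRing.closedPoint q.K) u
      (Subsingleton.elim _ _)
    exact ⟨z, hz⟩
  have : IsIso (hqci.rep.snd a).left := isIso_of_isClosedImmersion_of_surjective _
  have : IsIso (hqci.rep.snd a) := by
    have : IsIso ((Over.forget S).map (hqci.rep.snd a)) := ‹IsIso (hqci.rep.snd a).left›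
    exact isIso_of_reflects_iso _ (Over.forget S)
  have hfac : (yon S).map (inv (hqci.rep.snd a) ≫ hqci.rep.fst' a) ≫ q.toHom = a := by
    rw [Functor.map_comp, Category.assoc, sq.w, ← Category.assoc, ← Functor.map_comp,
      IsIso.inv_hom_id, CategoryTheory.Functor.map_id, Category.id_comp]
  haveI := hmono
  have hiso := isIso_of_mono_of_fac_etale_surjective q.toHom a hae has _ hfac
  exact ⟨q.K, inferInstance, q.str, ⟨asIso q.toHom⟩⟩


theorem flat_Spec_of_field {R : CommRingCat.{u}} {k : Type u} [Field k]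
    (g : Spec R ⟶ Spec (CommRingCat.of k)) : Flat g := by
  obtain ⟨ψ, rfl⟩ := Spec.map_surjective g
  rw [HasRingHomProperty.Spec_iff (P := @Flat)]
  letI : Algebra k R := ψ.hom.toAlgebra
  change Module.Flat k R
  infer_instance

/-- Every morphism to the spectrum of a field is flat. -/
theorem flat_of_field {Z : Scheme.{u}} {k : Type u} [Field k]
    (f : Z ⟶ Spec (CommRingCat.of k)) : Flat f := by
  rw [IsZariskiLocalAtSource.iff_of_openCover (P := @Flat) Z.affineCover]
  intro i
  exact flat_Spec_of_field (R := _) (Z.affineCover.f i ≫ f)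


/-- An étale morphism between spectra of fields is finite. -/
theorem isFinite_of_etale_fields {k k' : Type u} [Field k] [Field k']
    (c : Spec (CommRingCat.of k) ⟶ Spec (CommRingCat.of k')) [Etale c] : IsFinite c := by
  obtain ⟨ψ, rfl⟩ := Spec.map_surjective c
  have h : ψ.hom.Etale := (HasRingHomProperty.Spec_iff (P := @Etale)).1 inferInstance
  rw [IsFinite.SpecMap_iff]
  algebraize [ψ.hom]
  change Module.Finite k' k
  exact Algebra.FormallyUnramified.finite_of_free k' k


/-- S10349 -/
theorem exists_iso_yon_field_of_etale_surjective_field {X : Sp S}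
    (hX : AlgSp.IsDecent X) (k : Type u) [Field k] (str : Spec (CommRingCat.of k) ⟶ S)
    (p : (AlgSp.yon S).obj (Over.mk str) ⟶ X) (hp : AlgSp.RepWith @Etale p)
    (hs : AlgSp.RepWith @Surjective p) :
    ∃ (k' : Type u) (_ : Field k') (str' : Spec (CommRingCat.of k') ⟶ S)
      (e : (AlgSp.yon S).obj (Over.mk str') ≅ X) (c : Over.mk str ⟶ Over.mk str'),
      (AlgSp.yon S).map c ≫ e.hom = p ∧ IsFinite c.left ∧ Etale c.left := by
  let t : ↥(Spec (CommRingCat.of k)) := IsLocalRing.closedPoint k
  obtain ⟨q, hq, hmono, hqc⟩ := hX (Points.ofPt p t)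
  haveI := hmono
  have sq := hqc.rep.isPullback' p
  haveI h1 : QuasiCompact (hqc.rep.snd p).left := hqc.property_snd p
  haveI h2 : Flat (hqc.rep.snd p).left := flat_of_field (k := k) _
  haveI h3 : Mono ((yon S).map (hqc.rep.snd p)) := sq.mono_snd_of_mono ..
  haveI h4 : Mono (hqc.rep.snd p) := (yon S).mono_of_mono_map h3
  haveI h5 : Mono (hqc.rep.snd p).left := inferInstance
  obtain ⟨z, -, hz⟩ := exists_of_ofPt_eq sq (IsLocalRing.closedPoint q.K) t
    (by rw [Points.ofPt_toHom, hq])
  have : Surjective (hqc.rep.snd p).left :=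
    ⟨fun y => ⟨z, @Subsingleton.elim ↥(Spec (CommRingCat.of k)) inferInstance _ _⟩⟩
  have : IsIso (hqc.rep.snd p).left := Flat.isIso_of_surjective_of_mono _
  have : IsIso (hqc.rep.snd p) := by
    have : IsIso ((Over.forget S).map (hqc.rep.snd p)) := ‹IsIso (hqc.rep.snd p).left›
    exact isIso_of_reflects_iso _ (Over.forget S)
  have hfac : (yon S).map (inv (hqc.rep.snd p) ≫ hqc.rep.fst' p) ≫ q.toHom = p := by
    rw [Functor.map_comp, Category.assoc, sq.w, ← Category.assoc, ← Functor.map_comp,
      IsIso.inv_hom_id, CategoryTheory.Functor.map_id, Category.id_comp]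
  have hiso := isIso_of_mono_of_fac_etale_surjective q.toHom p hp hs _ hfac
  have h6 : Etale (hqc.rep.fst' p).left := hp.property q.toHom _ _ sq.flip
  have h7 : Etale (inv (hqc.rep.snd p) ≫ hqc.rep.fst' p).left := by
    rw [Over.comp_left]
    have : IsIso (inv (hqc.rep.snd p)).left :=
      (inferInstance : IsIso ((Over.forget S).map (inv (hqc.rep.snd p))))
    infer_instance
  refine ⟨q.K, inferInstance, q.str, asIso q.toHom, inv (hqc.rep.snd p) ≫ hqc.rep.fst' p,
    hfac, ?_, h7⟩
  exact isFinite_of_etale_fields (k := k) (k' := q.K) _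

end Groth.Agent.Helper15
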