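import Groth.Agent.Lib.Helper15.QuotShBridge
import Groth.Agent.Lib.Helper15.AlgSpInter
import Groth.Agent.Lib.Helper15.AlgSpGlue

set_option autoImplicit false
universe u
open CategoryTheory CategoryTheory.Limits AlgebraicGeometry Opposite MorphismProperty
open AlgSp

namespace Groth.Agent.Helper15
variable {S : Scheme.{u}}

/-- A map from a representable which locally factors through a monomorphism factors through it. -/
theorem exists_factor_mono_of_local {G H : Sp S} (j : G ⟶ H) [Mono j] {T : Over S}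
    (x : (yon S).obj T ⟶ H) (Rv : Sieve T) (hRv : Rv ∈ (J S) T)
    (h : ∀ ⦃T' : Over S⦄ (k : T' ⟶ T), Rv k →
      ∃ y : (yon S).obj T' ⟶ G, y ≫ j = (yon S).map k ≫ x) :
    ∃ y : (yon S).obj T ⟶ G, y ≫ j = x := by
  haveI : Sheaf.IsLocallySurjective (pullback.fst x j) := by
    apply isLocallySurjective_of_local_lift
    intro T'' z
    obtain ⟨c, rfl⟩ := (yon S).map_surjective z
    refine ⟨Rv.pullback c, (J S).pullback_stable c hRv, fun T''' k' hk' => ?_⟩
    obtain ⟨y, hy⟩ := h (k' ≫ c) hk'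
    refine ⟨pullback.lift ((yon S).map (k' ≫ c)) y hy.symm, ?_⟩
    rw [pullback.lift_fst, Functor.map_comp]
  haveI : Epi (pullback.fst x j) := (Sheaf.isLocallySurjective_iff_epi _).1 inferInstance
  haveI : IsIso (pullback.fst x j) := isIso_of_mono_of_epi _
  exact ⟨inv (pullback.fst x j) ≫ pullback.snd x j, by
    rw [Category.assoc, ← pullback.condition, IsIso.inv_hom_id_assoc]⟩

/-- Lifting a morphism over `S` through an open immersion containing its range. -/
theorem exists_over_lift_of_range_subset {T T₀ T' : Over S} (i₀ : T₀ ⟶ T)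
    [IsOpenImmersion i₀.left] (c : T' ⟶ T) (h : Set.range c.left ⊆ Set.range i₀.left) :
    ∃ c' : T' ⟶ T₀, c' ≫ i₀ = c := by
  refine ⟨Over.homMk (IsOpenImmersion.lift i₀.left c.left h) ?_, ?_⟩
  · rw [← CategoryTheory.Over.w i₀, IsOpenImmersion.lift_fac_assoc, CategoryTheory.Over.w]
  · ext; exact IsOpenImmersion.lift_fac _ _ _

/-- Descent of open subschemes along an fppf covering: a subsheaf of `h_T` which restricts to an
open subscheme on each member of an fppf covering family is an open subscheme. -/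
theorem exists_open_rep_of_fppf_local {G : Sp S} {T : Over S} (j : G ⟶ (yon S).obj T) [Mono j]
    {ι : Type*} (Ti : ι → Over S) (k : ∀ i, Ti i ⟶ T)
    (hflat : ∀ i, Flat (k i).left) (hlfp : ∀ i, LocallyOfFinitePresentation (k i).left)
    (hsurj : ∀ x : T.left, ∃ i y, (k i).left y = x)
    (Wi : ι → Over S) (w : ∀ i, Wi i ⟶ Ti i) (hw : ∀ i, IsOpenImmersion (w i).left)
    (c : ∀ i, (yon S).obj (Wi i) ⟶ G)
    (sq : ∀ i, IsPullback (c i) ((yon S).map (w i)) j ((yon S).map (k i))) :
    ∃ (T₀ : Over S) (i₀ : T₀ ⟶ T) (c₀ : (yon S).obj T₀ ⟶ G), IsOpenImmersion i₀.left ∧ IsIso c₀ ∧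
      c₀ ≫ j = (yon S).map i₀ := by
  have hopen : ∀ i, IsOpen (Set.range ((w i).left ≫ (k i).left)) := fun i => by
    haveI := hw i; haveI := hflat i; haveI := hlfp i
    exact ((w i).left ≫ (k i).left).isOpenMap.isOpen_range
  let T₀o : T.left.Opens := ⨆ i, ⟨Set.range ((w i).left ≫ (k i).left), hopen i⟩
  let T₀ : Over S := Over.mk (T₀o.ι ≫ T.hom)
  let i₀ : T₀ ⟶ T := Over.homMk T₀o.ι rfl
  haveI hi₀ : IsOpenImmersion i₀.left := by change IsOpenImmersion T₀o.ι; infer_instance
  have hmem : ∀ x : T.left, x ∈ Set.range i₀.left ↔ ∃ i y, ((w i).left ≫ (k i).left) y = x := by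
    intro x
    change x ∈ Set.range T₀o.ι ↔ _
    rw [Scheme.Opens.range_ι]
    change x ∈ T₀o ↔ _
    rw [TopologicalSpace.Opens.mem_iSup]
    rfl
  -- key claim
  have star : ∀ (T' : Over S) (cc : T' ⟶ T) (z : (yon S).obj T' ⟶ G),
      z ≫ j = (yon S).map cc → Set.range cc.left ⊆ Set.range i₀.left := by
    rintro T' cc z hz _ ⟨p, rfl⟩
    obtain ⟨i, y, hy⟩ := hsurj (cc.left p)
    obtain ⟨q, hq1, hq2⟩ := Scheme.Pullback.exists_preimage_pullback p y hy.symm
    let Q : Over S := Over.mk (pullback.fst cc.left (k i).left ≫ T'.hom)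
    let q1 : Q ⟶ T' := Over.homMk (pullback.fst _ _) rfl
    let q2 : Q ⟶ Ti i := Over.homMk (pullback.snd _ _) (by
      change pullback.snd cc.left (k i).left ≫ (Ti i).hom = pullback.fst cc.left (k i).left ≫ T'.hom
      rw [← CategoryTheory.Over.w (k i), ← CategoryTheory.Over.w cc, pullback.condition_assoc])
    have hq : q1 ≫ cc = q2 ≫ k i := by ext; exact pullback.condition
    have hw' : ((yon S).map q1 ≫ z) ≫ j = (yon S).map q2 ≫ (yon S).map (k i) := by
      rw [Category.assoc, hz, ← Functor.map_comp, hq, Functor.map_comp]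
    obtain ⟨l, hl⟩ := (yon S).map_surjective ((sq i).lift _ _ hw')
    have hl2 : l ≫ w i = q2 := (yon S).map_injective (by
      rw [Functor.map_comp, hl, (sq i).lift_snd])
    rw [hmem]
    refine ⟨i, l.left q, ?_⟩
    have h1 : (w i).left (l.left q) = y := by
      rw [← hq2, ← Scheme.Hom.comp_apply, ← Over.comp_left, hl2]; rfl
    rw [Scheme.Hom.comp_apply, h1, hy]
  -- the maps W_i → T₀
  have hv : ∀ i, ∃ v : Wi i ⟶ T₀, v ≫ i₀ = w i ≫ k i := fun i => by
    apply exists_over_lift_of_range_subset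
    rintro _ ⟨y, rfl⟩
    rw [hmem]
    exact ⟨i, y, rfl⟩
  choose v hv using hv
  have hcov : Sieve.ofArrows Wi v ∈ (J S) T₀ := by
    refine ofArrows_mem_J _ _ (fun i => ?_) (fun i => ?_) (fun x => ?_)
    · haveI := hw i; haveI := hflat i
      have h1 : Flat ((v i).left ≫ i₀.left) := by
        rw [← Over.comp_left, hv i, Over.comp_left]; infer_instance
      exact MorphismProperty.of_postcomp (W := @Flat) (W' := @IsOpenImmersion) (v i).left i₀.left hi₀ h1
    · haveI := hw i; haveI := hlfp i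
      have h1 : LocallyOfFinitePresentation ((v i).left ≫ i₀.left) := by
        rw [← Over.comp_left, hv i, Over.comp_left]; infer_instance
      exact MorphismProperty.of_postcomp (W := @LocallyOfFinitePresentation)
        (W' := @IsOpenImmersion) (v i).left i₀.left hi₀ h1
    · obtain ⟨i, y, hy⟩ := (hmem (i₀.left x)).1 ⟨x, rfl⟩
      refine ⟨i, y, ?_⟩
      apply (Scheme.Hom.isOpenEmbedding i₀.left).injective
      rw [← hy, ← Scheme.Hom.comp_apply, ← Over.comp_left, hv i]; rfl
  -- the section over T₀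
  obtain ⟨c₀, hc₀⟩ := exists_factor_mono_of_local j ((yon S).map i₀) _ hcov (by
    rintro T' k' ⟨T'', e, _, ⟨i⟩, rfl⟩
    refine ⟨(yon S).map e ≫ c i, ?_⟩
    rw [Category.assoc, (sq i).w, ← Functor.map_comp, ← Functor.map_comp, ← Functor.map_comp,
      Category.assoc, hv i])
  refine ⟨T₀, i₀, c₀, hi₀, ?_, hc₀⟩
  apply isIso_of_yon_bijective
  · intro T' a b hab
    obtain ⟨a, rfl⟩ := (yon S).map_surjective a
    obtain ⟨b, rfl⟩ := (yon S).map_surjective b
    have h1 : (yon S).map (a ≫ i₀) = (yon S).map (b ≫ i₀) := by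
      rw [Functor.map_comp, Functor.map_comp, ← hc₀, ← Category.assoc, hab, Category.assoc]
    have h2 := (yon S).map_injective h1
    haveI : Mono i₀ := by
      haveI : Mono ((Over.forget S).map i₀) := by change Mono i₀.left; infer_instance
      exact (Over.forget S).mono_of_mono_map inferInstance
    rw [(cancel_mono i₀).1 h2]
  · intro T' x
    obtain ⟨cc, hcc⟩ := (yon S).map_surjective (x ≫ j)
    obtain ⟨c', hc'⟩ := exists_over_lift_of_range_subset i₀ cc (star T' cc x hcc.symm)
    refine ⟨(yon S).map c', ?_⟩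
    rw [← cancel_mono j, Category.assoc, hc₀, ← Functor.map_comp, hc', hcc]

/-- Representable open immersions descend along epimorphisms of sheaves (for monomorphisms). -/
theorem repWith_isOpenImmersion_of_epi_base {G F F' G' : Sp S} (j : G ⟶ F) [Mono j]
    (b : F' ⟶ F) [Epi b] (b' : G' ⟶ G) (j' : G' ⟶ F') (sq : IsPullback b' j' j b)
    (hj' : RepWith @IsOpenImmersion j') : RepWith @IsOpenImmersion j := by
  haveI : (@IsOpenImmersion : MorphismProperty Scheme.{u}).RespectsIso := inferInstance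
  haveI : ((@IsOpenImmersion : MorphismProperty Scheme.{u}).inverseImage (Over.forget S)).RespectsIso :=
    RespectsIso.inverseImage _ _
  apply MorphismProperty.relative.of_exists
  intro T a
  obtain ⟨Rv, hRv, hlift⟩ := exists_local_lift_of_epi' b a
  obtain ⟨R₀, hR₀, hle⟩ := exists_fppf_presieve_of_mem_J Rv hRv
  let ι := Σ (T' : Scheme.{u}), {i : T' ⟶ T.left // R₀ i}
  let Ti : ι → Over S := fun x => Over.mk (x.2.1 ≫ T.hom)
  let k : ∀ x, Ti x ⟶ T := fun x => Over.homMk x.2.1 rfl
  have hk : ∀ x, Rv (k x) := fun x => hle x.2.1 x.2.2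
  choose τ hτ using fun x => hlift (k x) (hk x)
  let Wi : ι → Over S := fun x => hj'.rep.pullback (τ x)
  let w : ∀ x, Wi x ⟶ Ti x := fun x => hj'.rep.snd (τ x)
  have hw : ∀ x, IsOpenImmersion (w x).left := fun x => hj'.property_snd (τ x)
  have hcomm : ∀ x, (hj'.rep.fst (τ x) ≫ b') ≫ j = ((yon S).map (w x) ≫ (yon S).map (k x)) ≫ a := by
    intro x
    rw [Category.assoc, sq.w, ← Category.assoc, (hj'.rep.isPullback (τ x)).w, Category.assoc, hτ x,
      Category.assoc]
  let c : ∀ x, (yon S).obj (Wi x) ⟶ pullback j a := fun x =>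
    pullback.lift (hj'.rep.fst (τ x) ≫ b') ((yon S).map (w x) ≫ (yon S).map (k x)) (hcomm x)
  have sqx : ∀ x, IsPullback (c x) ((yon S).map (w x)) (pullback.snd j a) ((yon S).map (k x)) := by
    intro x
    have big : IsPullback (hj'.rep.fst (τ x) ≫ b') ((yon S).map (w x)) j (τ x ≫ b) :=
      (hj'.rep.isPullback (τ x)).paste_horiz sq
    have big' : IsPullback (c x ≫ pullback.fst j a) ((yon S).map (w x)) j ((yon S).map (k x) ≫ a) := by
      rw [pullback.lift_fst, ← hτ x]; exact big
    exact IsPullback.of_right big' (pullback.lift_snd _ _ _) (IsPullback.of_hasPullback j a)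
  have hP : ∀ x : ι, (@Flat ⊓ @LocallyOfFinitePresentation : MorphismProperty Scheme.{u}) x.2.1 :=
    fun x => hR₀.2 x.2.2
  obtain ⟨T₀, i₀, c₀, hi₀, hc₀iso, hc₀⟩ := exists_open_rep_of_fppf_local (pullback.snd j a) Ti k
    (fun x => (hP x).1) (fun x => (hP x).2) (fun t => by
      obtain ⟨T', i, t', hi, rfl⟩ := exists_mem_of_mem_fppfPrecoverage hR₀ t
      exact ⟨⟨T', i, hi⟩, t', rfl⟩) Wi w hw c sqx
  refine ⟨T₀, c₀ ≫ pullback.fst j a, i₀, ?_, hi₀⟩
  refine IsPullback.of_iso (IsPullback.of_hasPullback j a) (asIso c₀).symm (Iso.refl _) (Iso.refl _)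
    (Iso.refl _) ?_ ?_ ?_ ?_
  · simp
  · simp [hc₀]
  · simp
  · simp

end Groth.Agent.Helper15
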