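import Groth.Agent.Lib.Helper15.AlgSpSchIm
import Groth.Prelude.Def_Flat

/-!
# Proper morphisms, universal homeomorphisms
-/

set_option autoImplicit false
universe u
open CategoryTheory CategoryTheory.Limits AlgebraicGeometry MorphismProperty Opposite
open AlgSp

namespace Groth.Agent.Helper15

variable {S : Scheme.{u}}

/-- S10279. -/
theorem isUnivClosedMor_of_surjective_over {X Y B : Sp S} (f : X ⟶ Y) (p : X ⟶ B) (q : Y ⟶ B)
    (comm : f ≫ q = p) (hp : IsUnivClosedMor p) (hf : IsSurjectiveMor f) : IsUnivClosedMor q := by
  intro Z YZ hZ g fstY sndY sqY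
  have sqX : IsPullback (pullback.fst f fstY) (pullback.snd f fstY) f fstY :=
    IsPullback.of_hasPullback _ _
  have big : IsPullback (pullback.fst f fstY) (pullback.snd f fstY ≫ sndY) p g := by
    rw [← comm]
    exact sqX.paste_vert sqY
  have hclosed : IsClosedMor (pullback.snd f fstY ≫ sndY) := hp hZ g _ _ big
  have hsurj : IsSurjectiveMor (pullback.snd f fstY) := isSurjectiveMor_of_isPullback sqX hf
  intro C hC
  have : Points.map sndY '' C =
      Points.map (pullback.snd f fstY ≫ sndY) '' (Points.map (pullback.snd f fstY) ⁻¹' C) := by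
    ext z
    constructor
    · rintro ⟨y, hy, rfl⟩
      obtain ⟨x, rfl⟩ := hsurj y
      exact ⟨x, hy, Points.map_comp _ _ _⟩
    · rintro ⟨x, hx, rfl⟩
      exact ⟨_, hx, (Points.map_comp _ _ _).symm⟩
  rw [this]
  exact hclosed _ (hC.preimage (Points.continuous_map _))

theorem isClosedImmersion_le_universallyClosed' :
    (@IsClosedImmersion : MorphismProperty Scheme.{u}) ≤ @UniversallyClosed :=
  fun _ _ f hf => by haveI : IsClosedImmersion f := hf; infer_instance

/-- S10280. -/
theorem isSeparatedMor_iff_diagonal {X Y : Sp S} (hX : IsAlgSpace X) (f : X ⟶ Y) :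
    (IsSeparatedMor f ↔ IsUnivClosedMor (pullback.diagonal f)) ∧
    (IsSeparatedMor f ↔ IsProperMor (pullback.diagonal f)) := by
  obtain ⟨h0, h1, h2, h3, h4⟩ := diagonal_properties hX f
  have key1 : IsSeparatedMor f → IsUnivClosedMor (pullback.diagonal f) := fun h =>
    isUnivClosedMor_of_repWith _ (repWith_mono isClosedImmersion_le_universallyClosed' h)
  have key2 : IsUnivClosedMor (pullback.diagonal f) → IsSeparatedMor f := by
    intro h
    have huc : RepWith @UniversallyClosed (pullback.diagonal f) :=
      (repWith_universallyClosed_iff _ h0).2 h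
    have := repWith_inf (repWith_inf huc h1) h2
    refine repWith_mono ?_ this
    rintro A B φ ⟨⟨hφ1, hφ2⟩, hφ3⟩
    haveI : UniversallyClosed φ := hφ1
    haveI : LocallyOfFiniteType φ := hφ2
    haveI : Mono φ := hφ3
    haveI : IsProper φ := { }
    rw [IsClosedImmersion.eq_proper_inf_monomorphisms]
    exact ⟨inferInstance, hφ3⟩
  refine ⟨⟨key1, key2⟩, ⟨fun h => ⟨isSeparatedMor_of_mono _, ⟨?_, ?_⟩, key1 h⟩,
    fun h => key2 h.2.2⟩⟩
  · exact locP_of_repWith (fun _ _ φ hφ => by haveI : Etale φ := hφ; infer_instance) _ h1
  · exact isQuasiCompactMor_of_repWith _ (repWith_mono isClosedImmersion_le_quasiCompact h)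

/-- S10274: properness descends along an etale surjective base change from a scheme. -/
theorem isProperMor_of_etale_cover {X Y : Sp S} (hX : IsAlgSpace X) (hY : IsAlgSpace Y)
    (f : X ⟶ Y) {V : Over S} (p : (yon S).obj V ⟶ Y) (hpe : RepWith @Etale p)
    (hps : RepWith @Surjective p) {P : Sp S} (fst : P ⟶ X) (snd : P ⟶ (yon S).obj V)
    (sq : IsPullback fst snd f p) (h : IsProperMor snd) : IsProperMor f := by
  obtain ⟨hsep, ⟨hlft, hqc⟩, huc⟩ := h
  refine ⟨?_, ⟨?_, ?_⟩, ?_⟩
  · exact repWith_diagonal_of_chart hX f p hpe hps fst snd sq @IsClosedImmersion hsep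
  · exact locP_of_target_cover _ f p hpe hps fst snd sq hlft
  · exact isQuasiCompactMor_of_univOpen_surjective_base_change hX hY (IsAlgSpace.yon_obj V) sq
      (isUnivOpenMor_of_repWith _ (repWith_mono etale_le_universallyOpen hpe))
      (isSurjectiveMor_of_repWith_surjective _ hps) hqc
  · exact univSp_of_chart (Q := IsClosedMor)
      (fun sq' hq h' => isClosedMor_of_quotient_base_change sq' hq h') hY f p hpe hps fst snd sq huc


instance topologically_isHomeomorph_respectsIso :
    (topologically fun {α β : Type u} [TopologicalSpace α] [TopologicalSpace β]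
      (f : α → β) => IsHomeomorph f).RespectsIso :=
  topologically_respectsIso _ (fun e => e.isHomeomorph) (fun _ _ hf hg => hg.comp hf)

theorem isHomeomorph_of_points_map_yon_map {T T' : Over S} (φ : T ⟶ T')
    (h : IsHomeomorph (Points.map ((yon S).map φ))) : IsHomeomorph φ.left := by
  rw [Points.map_yon_map_eq] at h
  have h2 := ((Points.schemeHomeo T').symm.isHomeomorph.comp h).comp
    (Points.schemeHomeo T).isHomeomorph
  convert h2 using 1
  ext t
  simp

theorem isUnivHomeo_le_topologically :
    (FlatMor.IsUnivHomeo : MorphismProperty Scheme.{u}) ≤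
      topologically fun {α β : Type u} [TopologicalSpace α] [TopologicalSpace β]
        (f : α → β) => IsHomeomorph f :=
  MorphismProperty.universally_le _

/-- S10301. -/
theorem repWith_isUnivHomeo_iff {X Y : Sp S} (f : X ⟶ Y) (hrep : Representable f) :
    RepWith FlatMor.IsUnivHomeo f ↔ IsUnivHomeoMor f := by
  constructor
  · intro hf Z Z' hZ g fst snd sq
    obtain ⟨W, q, hqe, hqs⟩ := hZ.atlas
    haveI : (FlatMor.IsUnivHomeo : MorphismProperty Scheme.{u}).IsStableUnderBaseChange := by
      unfold FlatMor.IsUnivHomeo; infer_instance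
    have hsnd : RepWith FlatMor.IsUnivHomeo snd := (RepWith _).of_isPullback sq hf
    have hopen : IsOpenMap (Points.map snd) :=
      isOpenMor_of_repWith snd (P := FlatMor.IsUnivHomeo)
        (fun φ hφ => (isUnivHomeo_le_topologically _ hφ).isOpenMap) hsnd q hqe hqs
    have hinj : Function.Injective (Points.map snd) := by
      have h1 : RepWith @UniversallyInjective snd := by
        refine repWith_mono ?_ hsnd
        rw [universallyInjective_eq]
        exact MorphismProperty.universally_mono
          (fun _ _ φ hφ => (show IsHomeomorph φ from hφ).injective)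
      exact ((repWith_universallyInjective_iff_injOnFieldPts snd hsnd.rep).1 h1).injective_points_map
    have hsurj : Function.Surjective (Points.map snd) := by
      apply isSurjectiveMor_of_repWith_surjective
      refine repWith_mono ?_ hsnd
      intro A B φ hφ
      exact ⟨(isUnivHomeo_le_topologically _ hφ).surjective⟩
    exact ⟨Points.continuous_map snd, hopen, hinj, hsurj⟩
  · intro h
    exact repWith_universally_of_univSp f hrep _ (fun _ _ f => IsHomeomorph (Points.map f))
      (fun φ hφ => isHomeomorph_of_points_map_yon_map φ hφ) h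

end Groth.Agent.Helper15
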