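import Groth.Agent.Lib.Helper15.AlgSpSI3

/-!
# Flat base change of scheme theoretic images of quasi-compact morphisms of algebraic spaces
-/

set_option autoImplicit false
set_option linter.style.haveILetI false
universe u
open CategoryTheory CategoryTheory.Limits AlgebraicGeometry MorphismProperty Opposite
open AlgSp

namespace Groth.Agent.Helper15

variable {S : Scheme.{u}}

/-- Sections of the target of a jointly surjective family of etale charts lift locally. -/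
theorem exists_local_lift_of_family {X : Sp S} {ι : Type*} (T : ι → Over S)
    (p : ∀ a, (yon S).obj (T a) ⟶ X) (hpe : ∀ a, RepWith @Etale (p a))
    (hcov : ∀ x : Points X, ∃ a t, Points.ofPt (p a) t = x) {T₀ : Over S}
    (x : (yon S).obj T₀ ⟶ X) :
    ∃ R ∈ (J S) T₀, ∀ ⦃T' : Over S⦄ (k : T' ⟶ T₀), R k →
      ∃ (a : ι) (τ : (yon S).obj T' ⟶ (yon S).obj (T a)), τ ≫ p a = (yon S).map k ≫ x := by
  refine ⟨Sieve.ofArrows (fun a => (hpe a).rep.pullback x) (fun a => (hpe a).rep.snd x), ?_, ?_⟩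
  · refine ofArrows_mem_J _ _ (fun a => ?_) (fun a => ?_) (fun t => ?_)
    · exact (repWith_mono etale_le_flat (hpe a)).property_snd x
    · exact (repWith_mono etale_le_lfp (hpe a)).property_snd x
    · obtain ⟨a, u, hu⟩ := hcov (Points.ofPt x t)
      obtain ⟨v, -, hv⟩ := exists_of_ofPt_eq ((hpe a).rep.isPullback' x) u t hu
      exact ⟨a, v, hv⟩
  · rintro T' k ⟨T'', l, _, ⟨a⟩, rfl⟩
    refine ⟨a, (yon S).map l ≫ (hpe a).rep.fst x, ?_⟩
    rw [Category.assoc, (hpe a).rep.w x, Functor.map_comp, Category.assoc]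

/-- A map of sheaves all of whose sections over schemes factor through a subsheaf factors through
it. -/
theorem exists_factor_of_forall_points {G₁ G₂ H : Sp S} (m₂ : G₂ ⟶ H) [Mono m₂] (φ : G₁ ⟶ H)
    (h : ∀ (T : Over S) (x : (yon S).obj T ⟶ G₁), ∃ y : (yon S).obj T ⟶ G₂, y ≫ m₂ = x ≫ φ) :
    ∃ k : G₁ ⟶ G₂, k ≫ m₂ = φ := by
  haveI : Sheaf.IsLocallySurjective (pullback.fst φ m₂) := by
    apply isLocallySurjective_of_local_lift
    intro T x
    obtain ⟨y, hy⟩ := h T x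
    refine ⟨⊤, (J S).top_mem T, fun T' k _ => ?_⟩
    refine ⟨(yon S).map k ≫ pullback.lift x y hy.symm, ?_⟩
    rw [Category.assoc, pullback.lift_fst]
  haveI : Epi (pullback.fst φ m₂) := Sheaf.epi_of_isLocallySurjective _
  exact exists_lift_of_epi_of_mono (pullback.fst φ m₂) m₂ φ (pullback.snd φ m₂)
    pullback.condition.symm

/-- Two subsheaves with the same pullbacks along a jointly locally surjective family are
isomorphic. -/
theorem exists_iso_of_family_pullbacks {G₁ G₂ H : Sp S} (m₁ : G₁ ⟶ H) [Mono m₁] (m₂ : G₂ ⟶ H)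
    [Mono m₂] {ι : Type*} (Q P : ι → Sp S) (b : ∀ a, Q a ⟶ H)
    (hb : ∀ (T : Over S) (x : (yon S).obj T ⟶ H), ∃ R ∈ (J S) T, ∀ ⦃T' : Over S⦄ (k : T' ⟶ T),
      R k → ∃ (a : ι) (τ : (yon S).obj T' ⟶ Q a), τ ≫ b a = (yon S).map k ≫ x)
    (n : ∀ a, P a ⟶ Q a) (f₁ : ∀ a, P a ⟶ G₁) (f₂ : ∀ a, P a ⟶ G₂)
    (sq₁ : ∀ a, IsPullback (f₁ a) (n a) m₁ (b a)) (sq₂ : ∀ a, IsPullback (f₂ a) (n a) m₂ (b a)) :
    ∃ e : G₁ ≅ G₂, e.hom ≫ m₂ = m₁ := by
  have key : ∀ {G₁ G₂ : Sp S} (m₁ : G₁ ⟶ H) (m₂ : G₂ ⟶ H) [Mono m₂] (f₁ : ∀ a, P a ⟶ G₁)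
      (f₂ : ∀ a, P a ⟶ G₂) (_ : ∀ a, IsPullback (f₁ a) (n a) m₁ (b a))
      (_ : ∀ a, IsPullback (f₂ a) (n a) m₂ (b a)), ∃ k : G₁ ⟶ G₂, k ≫ m₂ = m₁ := by
    intro G₁ G₂ m₁ m₂ _ f₁ f₂ sq₁ sq₂
    apply exists_factor_of_forall_points
    intro T x
    obtain ⟨R, hR, hlift⟩ := hb T (x ≫ m₁)
    refine factors_of_locally_factors m₂ (x ≫ m₁) R hR ?_
    intro T' k hk
    obtain ⟨a, τ, hτ⟩ := hlift k hk
    have hw : ((yon S).map k ≫ x) ≫ m₁ = τ ≫ b a := by rw [Category.assoc, hτ]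
    refine ⟨(sq₁ a).lift _ _ hw ≫ f₂ a, ?_⟩
    rw [Category.assoc, (sq₂ a).w, ← Category.assoc, (sq₁ a).lift_snd, hτ]
  obtain ⟨k₁, hk₁⟩ := key m₁ m₂ f₁ f₂ sq₁ sq₂
  obtain ⟨k₂, hk₂⟩ := key m₂ m₁ f₂ f₁ sq₂ sq₁
  refine ⟨⟨k₁, k₂, ?_, ?_⟩, hk₁⟩
  · rw [← cancel_mono m₁, Category.assoc, hk₂, hk₁, Category.id_comp]
  · rw [← cancel_mono m₂, Category.assoc, hk₁, hk₂, Category.id_comp]

/-- Scheme theoretic images transport along isomorphisms of the closed subspace. -/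
theorem isSchImage_of_iso {Y X Z Z' : Sp S} (f : Y ⟶ X) (c : Z ⟶ X) (c' : Z' ⟶ X)
    (h : IsSchImage f c') (e : Z ≅ Z') (he : e.hom ≫ c' = c) : IsSchImage f c := by
  obtain ⟨hcl, ⟨f', hf'⟩, huniv⟩ := h
  refine ⟨?_, ⟨f' ≫ e.inv, by rw [Category.assoc, ← he, Iso.inv_hom_id_assoc, hf']⟩, ?_⟩
  · rw [← he]
    exact (RepWith @IsClosedImmersion).comp_mem _ _ (repWith_of_isIso _ e.hom) hcl
  · intro Z'' i'' hZ'' hi'' hfac
    obtain ⟨k, hk⟩ := huniv i'' hZ'' hi'' hfac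
    exact ⟨e.hom ≫ k, by rw [Category.assoc, hk, he]⟩

/-- Quasi-compact morphisms of sheaves are stable under base change. -/
theorem isQuasiCompactMor_of_isPullback {X Y X' Y' : Sp S} {f : X ⟶ Y} {g : Y' ⟶ Y}
    {fst : X' ⟶ X} {snd : X' ⟶ Y'} (sq : IsPullback fst snd f g) (hf : IsQuasiCompactMor f) :
    IsQuasiCompactMor snd := by
  intro Z Z' hZ hZq h fst' snd' sq'
  exact hf hZ hZq (h ≫ g) (fst' ≫ fst) snd' (sq'.paste_horiz sq)

/-- Affine etale charts of the source of a morphism of algebraic spaces lying over a given family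
of etale charts of the target. -/
theorem exists_compatible_charts {X Y : Sp S} (hX : IsAlgSpace X) (f : X ⟶ Y) {B : Type u}
    (U : B → Over S) (p : ∀ b, (yon S).obj (U b) ⟶ Y) (hpe : ∀ b, RepWith @Etale (p b))
    (hcov : ∀ y : Points Y, ∃ b u, Points.ofPt (p b) u = y) :
    ∃ (A : Type u) (β : A → B) (T : A → Over S) (ψ : ∀ a, (yon S).obj (T a) ⟶ X)
      (h : ∀ a, T a ⟶ U (β a)), (∀ a, IsAffine (T a).left) ∧ (∀ a, RepWith @Etale (ψ a)) ∧
      (∀ a, ψ a ≫ f = (yon S).map (h a) ≫ p (β a)) ∧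
      (∀ x : Points X, ∃ a t, Points.ofPt (ψ a) t = x) := by
  have sqb : ∀ b, IsPullback (pullback.fst f (p b)) (pullback.snd f (p b)) f (p b) :=
    fun b => IsPullback.of_hasPullback _ _
  have hfste : ∀ b, RepWith @Etale (pullback.fst f (p b)) := fun b =>
    (RepWith @Etale).of_isPullback (sqb b).flip (hpe b)
  have hXb : ∀ b, IsAlgSpace (pullback f (p b)) := fun b =>
    isAlgSpace_of_representable _ (hfste b).rep hX
  choose Vb qb hqbe hqbs using fun b => (hXb b).atlas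
  let A := Σ b : B, ↥((Vb b).left.affineOpens)
  let T : A → Over S := fun a => Over.mk (a.2.1.ι ≫ (Vb a.1).hom)
  let ιA : ∀ a : A, T a ⟶ Vb a.1 := fun a => Over.homMk a.2.1.ι rfl
  let ψ : ∀ a : A, (yon S).obj (T a) ⟶ X := fun a =>
    (yon S).map (ιA a) ≫ qb a.1 ≫ pullback.fst f (p a.1)
  have hh : ∀ a : A, ∃ h : T a ⟶ U a.1,
      (yon S).map h = (yon S).map (ιA a) ≫ qb a.1 ≫ pullback.snd f (p a.1) :=
    fun a => (yon S).map_surjective _
  choose h hh using hh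
  refine ⟨A, fun a => a.1, T, ψ, h, fun a => a.2.2, fun a => ?_, fun a => ?_, fun x => ?_⟩
  · exact (RepWith @Etale).comp_mem _ _ ((repWith_yon_map_iff _ (ιA a)).2
      (show Etale a.2.1.ι from inferInstance))
      ((RepWith @Etale).comp_mem _ _ (hqbe a.1) (hfste a.1))
  · rw [hh a]
    simp only [ψ, Category.assoc]
    rw [(sqb a.1).w]
  · obtain ⟨b, u, hu⟩ := hcov (Points.map f x)
    rw [Points.ofPt_eq_map_ofScheme] at hu
    obtain ⟨pt, hpt, -⟩ := exists_point_of_isPullback (sqb b) x _ hu.symm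
    obtain ⟨v, rfl⟩ := surjective_ofPt (qb b) (hqbs b) pt
    obtain ⟨_, ⟨O, hO, rfl⟩, hvO, -⟩ :=
      ((Vb b).left.isBasis_affineOpens).exists_subset_of_mem_open (Set.mem_univ v) isOpen_univ
    refine ⟨⟨b, ⟨O, hO⟩⟩, (⟨v, hvO⟩ : ↥O), ?_⟩
    change Points.ofPt ((yon S).map (ιA ⟨b, ⟨O, hO⟩⟩) ≫ qb b ≫ pullback.fst f (p b)) _ = _
    rw [ofPt_comp_yon_map, ← Points.map_ofPt]
    exact hpt

/-- Base change of cover data along a flat map of affine charts. -/
theorem exists_coverDatum_base_change {V Y X VX : Sp S} (g : V ⟶ Y) {U : Over S}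
    [IsAffine U.left] (p : (yon S).obj U ⟶ Y) (D : CoverDatum g p) (f : X ⟶ Y) (g₁ : VX ⟶ V)
    (gX : VX ⟶ X) (sqV : IsPullback g₁ gX g f) {T : Over S} [IsAffine T.left]
    (ψ : (yon S).obj T ⟶ X) (h : T ⟶ U) (hcomm : ψ ≫ f = (yon S).map h ≫ p) [Flat h.left] :
    ∃ D' : CoverDatum gX ψ, D'.g.left.ker = D.g.left.ker.comap h.left := by
  haveI := D.epi
  haveI := D.compact
  obtain ⟨e, hee, he2, -⟩ := exists_epi_cover_base_change g p (pullback.fst g p) (pullback.snd g p)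
    (IsPullback.of_hasPullback _ _) D.w D.g D.hg h (ψ ≫ f) hcomm
  have hw : pullback.fst g (ψ ≫ f) ≫ g = (pullback.snd g (ψ ≫ f) ≫ ψ) ≫ f := by
    rw [Category.assoc, pullback.condition]
  have sqK : IsPullback (sqV.lift _ _ hw) (pullback.snd g (ψ ≫ f)) gX ψ := by
    refine IsPullback.of_right ?_ (sqV.lift_snd _ _ hw) sqV
    rw [sqV.lift_fst]
    exact IsPullback.of_hasPullback _ _
  have hκ : sqK.isoPullback.hom ≫ pullback.snd gX ψ = pullback.snd g (ψ ≫ f) :=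
    IsPullback.isoPullback_hom_snd sqK
  have sqQ : IsPullback (pullback.fst D.g h) (pullback.snd D.g h) D.g h :=
    IsPullback.of_hasPullback _ _
  have sqQ' := sqQ.map (Over.forget S)
  haveI hqc : QuasiCompact D.g.left :=
    (HasAffineProperty.iff_of_isAffine (P := @QuasiCompact)).2 (inferInstance : CompactSpace D.W.left)
  haveI hqc' : QuasiCompact (pullback.snd D.g h).left :=
    MorphismProperty.of_isPullback (P := @QuasiCompact) sqQ' hqc
  have hcpt : CompactSpace (pullback D.g h).left :=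
    (HasAffineProperty.iff_of_isAffine (P := @QuasiCompact)).1 hqc'
  refine ⟨⟨pullback D.g h, e ≫ sqK.isoPullback.hom, pullback.snd D.g h, ?_, inferInstance, hcpt⟩, ?_⟩
  · rw [Category.assoc, hκ, he2]
  · exact ker_of_isPullback_of_flat sqQ'

/-- Affine etale charts covering an algebraic space. -/
theorem exists_affine_charts {Y : Sp S} (hY : IsAlgSpace Y) :
    ∃ (B : Type u) (U : B → Over S) (p : ∀ b, (yon S).obj (U b) ⟶ Y),
      (∀ b, IsAffine (U b).left) ∧ (∀ b, RepWith @Etale (p b)) ∧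
      ∀ y : Points Y, ∃ b u, Points.ofPt (p b) u = y := by
  obtain ⟨U₀, p₀, hp₀e, hp₀s⟩ := hY.atlas
  obtain ⟨A, -, T, ψ, -, haff, hψe, -, hcov⟩ := exists_compatible_charts hY (𝟙 Y)
    (fun _ : PUnit.{u + 1} => U₀) (fun _ => p₀) (fun _ => hp₀e) (fun y => by
      obtain ⟨u, rfl⟩ := surjective_ofPt p₀ hp₀s y
      exact ⟨PUnit.unit, u, rfl⟩)
  exact ⟨A, T, ψ, haff, hψe, hcov⟩

/-- **Flat base change of scheme theoretic images** of quasi-compact morphisms of algebraic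
spaces. -/
theorem isSchImage_flat_base_change {X Y V Z VX ZX : Sp S} (hX : IsAlgSpace X)
    (hY : IsAlgSpace Y) (f : X ⟶ Y) (hf : LocP @Flat f) (g : V ⟶ Y) (hg : IsQuasiCompactMor g)
    (i : Z ⟶ Y) (hZ : IsSchImage g i) (g₁ : VX ⟶ V) (gX : VX ⟶ X)
    (sqV : IsPullback g₁ gX g f) (i₁ : ZX ⟶ Z) (iX : ZX ⟶ X) (sqZ : IsPullback i₁ iX i f) :
    IsSchImage gX iX := by
  obtain ⟨B, U, p, hUaff, hpe, hpcov⟩ := exists_affine_charts hY
  haveI := hUaff
  have D : ∀ b, CoverDatum g (p b) := fun b => (nonempty_coverDatum g hg (p b)).some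
  choose qb sqb using fun b =>
    isPullback_imageOver_of_isSchImage hY g hg i hZ (p b) (hpe b) (D b)
  obtain ⟨A, β, T, ψ, h, hTaff, hψe, hψcomm, hψcov⟩ := exists_compatible_charts hX f U p hpe hpcov
  haveI := hTaff
  have hflat : ∀ a, Flat (h a).left := fun a =>
    hf (ψ a) (p (β a)) (h a) (hψe a) (hpe (β a)) (hψcomm a)
  choose D' hD' using fun a =>
    (haveI := hflat a
     exists_coverDatum_base_change g (p (β a)) (D (β a)) f g₁ gX sqV (ψ a) (h a) (hψcomm a))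
  obtain ⟨ZbarX, cX, hcX, hsqX⟩ := exists_schImage_of_coverData hX gX T ψ hψe hψcov D'
  choose qX sqX using hsqX
  have hiX : RepWith @IsClosedImmersion iX := (RepWith @IsClosedImmersion).of_isPullback sqZ hZ.1
  haveI : Mono iX := mono_of_repWith isClosedImmersion_le_mono _ hiX
  haveI : Mono cX := mono_of_repWith isClosedImmersion_le_mono _ hcX.1
  have hsqZX : ∀ a, ∃ q : (yon S).obj (imageOver (D' a).g) ⟶ ZX,
      IsPullback q ((yon S).map (imageOverι (D' a).g)) iX (ψ a) := by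
    intro a
    obtain ⟨ka, hka⟩ := (exists_factor_imageOverι_iff (D (β a)).g
      (imageOverι (D' a).g ≫ h a)).2 (by
        rw [Over.comp_left, Scheme.Hom.ker_comp, Scheme.IdealSheafData.le_map_iff_comap_le,
          ← hD' a]
        exact (ker_imageι (D' a).g.left).ge)
    have hw : ((yon S).map ka ≫ qb (β a)) ≫ i =
        ((yon S).map (imageOverι (D' a).g) ≫ ψ a) ≫ f := by
      rw [Category.assoc, (sqb (β a)).w, ← Category.assoc, ← Functor.map_comp, hka,
        Functor.map_comp, Category.assoc, Category.assoc, hψcomm a]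
    refine ⟨sqZ.lift _ _ hw, isPullback_of_mono_of_yon_lift iX (ψ a) (imageOverι (D' a).g) _
      (sqZ.lift_snd _ _ hw) ?_⟩
    intro T' cc z hz
    obtain ⟨l, hl⟩ := (yon S).map_surjective ((sqb (β a)).lift (z ≫ i₁)
      ((yon S).map (cc ≫ h a)) (by
        rw [Category.assoc, sqZ.w, ← Category.assoc, hz, Category.assoc, hψcomm a,
          Functor.map_comp, Category.assoc]))
    have hl2 : l ≫ imageOverι (D (β a)).g = cc ≫ h a := (yon S).map_injective (by
      rw [Functor.map_comp, hl]; exact (sqb (β a)).lift_snd _ _ _)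
    have h2 := (exists_factor_imageOverι_iff (D (β a)).g (cc ≫ h a)).1 ⟨l, hl2⟩
    rw [Over.comp_left, Scheme.Hom.ker_comp, Scheme.IdealSheafData.le_map_iff_comap_le,
      ← hD' a] at h2
    exact (exists_factor_imageOverι_iff (D' a).g cc).2 h2
  choose qZ sqZX using hsqZX
  obtain ⟨e, he⟩ := exists_iso_of_family_pullbacks iX cX (fun a => (yon S).obj (T a))
    (fun a => (yon S).obj (imageOver (D' a).g)) ψ
    (fun T₀ x => exists_local_lift_of_family T ψ hψe hψcov x)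
    (fun a => (yon S).map (imageOverι (D' a).g)) qZ qX sqZX sqX
  exact isSchImage_of_iso gX iX cX hcX e he

end Groth.Agent.Helper15
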