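import Groth.Agent.Lib.Helper15.AlgSpEtCl
import Groth.Agent.Lib.Helper15.AlgSpSI4
import Groth.Agent.Lib.Helper16.AlgSp.ProperSp
import Groth.Agent.Lib.Helper16.AlgSp.FppfFpqc
import Groth.Agent.Lib.Helper16.AlgSp.FpqcUniv
import Groth.Agent.Lib.Helper16.AlgSp.FpqcQc
import Groth.Agent.Lib.Helper16.AlgSp.StdRef

set_option autoImplicit false
universe u
open CategoryTheory CategoryTheory.Limits AlgebraicGeometry MorphismProperty Opposite
open AlgSp Groth.Agent.Helper16.AS

namespace Groth.Agent.Helper15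
variable {S : Scheme.{u}}

/-- A jointly surjective family of etale charts is an fppf covering. -/
theorem isFppfCover_of_etale_charts {Y : Sp S} {B : Type u} (U : B → Over S)
    (p : ∀ b, (yon S).obj (U b) ⟶ Y) (hpe : ∀ b, RepWith @Etale (p b))
    (hpcov : ∀ y : Points Y, ∃ b u, Points.ofPt (p b) u = y) :
    IsFppfCover (fun b => (yon S).obj (U b)) p :=
  ⟨fun b => ⟨locP_of_repWith etale_le_flat (p b) (repWith_mono etale_le_flat (hpe b)),
    locP_of_repWith etale_le_lfp (p b) (repWith_mono etale_le_lfp (hpe b))⟩, fun y => by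
      obtain ⟨b, u, hu⟩ := hpcov y
      exact ⟨b, Points.ofScheme (U b) u, by rw [← Points.ofPt_eq_map_ofScheme]; exact hu⟩⟩

theorem isProperMor_iff_affine {X Y : Sp S} (hX : IsAlgSpace X) (hY : IsAlgSpace Y) (f : X ⟶ Y) :
    IsProperMor f ↔ ∀ (Z : Over S), IsAffine Z.left → ∀ (g : (yon S).obj Z ⟶ Y) (P : Sp S)
      (fst : P ⟶ X) (snd : P ⟶ (yon S).obj Z), IsPullback fst snd f g → IsProperMor snd := by
  constructor
  · intro hf Z hZ g P fst snd sq
    exact isProperMor_of_isPullback hX hY (IsAlgSpace.yon_obj Z) sq hf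
  · intro h
    obtain ⟨B, U, p, hUaff, hpe, hpcov⟩ := exists_affine_charts hY
    have hUi : ∀ b, IsAlgSpace ((yon S).obj (U b)) := fun b => IsAlgSpace.yon_obj _
    have hcov := isFppfCover_of_etale_charts U p hpe hpcov
    have hfpqc := isFpqcCover_of_isFppfCover hY hUi hcov
    have hstd := isStdRefinable_of_isFpqcCover hfpqc
    have hXi : ∀ b, IsAlgSpace (pullback f (p b)) := fun b =>
      isAlgSpace_of_isPullback hY.diag hX (IsAlgSpace.yon_obj _) (IsPullback.of_hasPullback f (p b))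
    have hprop : ∀ b, IsProperMor (pullback.snd f (p b)) := fun b =>
      h (U b) (hUaff b) (p b) _ _ _ (IsPullback.of_hasPullback _ _)
    have sq : ∀ b, IsPullback (pullback.fst f (p b)) (pullback.snd f (p b)) f (p b) :=
      fun b => IsPullback.of_hasPullback _ _
    refine ⟨?_, ⟨?_, ?_⟩, ?_⟩
    · exact (isLocalOnBase_std_isSeparatedMor _ p hY hUi hstd f hX _ _ _ hXi sq).2
        (fun b => (hprop b).1)
    · exact (isLocalOnBase_fpqc_locP_lft _ p hY hUi hfpqc f hX _ _ _ hXi sq).2
        (fun b => (hprop b).2.1.1)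
    · exact (isLocalOnBase_fpqc_isQuasiCompactMor _ p hY hUi hfpqc f hX _ _ _ hXi sq).2
        (fun b => (hprop b).2.1.2)
    · exact (isLocalOnBase_fpqc_isUnivClosedMor _ p hY hUi hfpqc f hX _ _ _ hXi sq).2
        (fun b => (hprop b).2.2)

end Groth.Agent.Helper15
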