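import Groth.Agent.Lib.Helper15.AlgSpRepSrc
import Groth.Prelude.Def_AlgSpRep

set_option autoImplicit false
universe u
open CategoryTheory CategoryTheory.Limits AlgebraicGeometry MorphismProperty Opposite
open AlgSp

namespace Groth.Agent.Helper15

variable {S : Scheme.{u}}

/-- Sectionwise description of a pullback square of presheaves: existence. -/
theorem psp_exists_of_isPullback {F' F H G : PSp S} {fst : F' ⟶ F} {snd : F' ⟶ H} {a : F ⟶ G}
    {ξ : H ⟶ G} (sq : IsPullback fst snd a ξ) (T : (Over S)ᵒᵖ) (x : F.obj T) (y : H.obj T)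
    (h : a.app T x = ξ.app T y) : ∃ z : F'.obj T, fst.app T z = x ∧ snd.app T z = y :=
  Types.exists_of_isPullback (sq.map ((evaluation _ _).obj T)) x y h

/-- Sectionwise description of a pullback square of presheaves: uniqueness. -/
theorem psp_ext_of_isPullback {F' F H G : PSp S} {fst : F' ⟶ F} {snd : F' ⟶ H} {a : F ⟶ G}
    {ξ : H ⟶ G} (sq : IsPullback fst snd a ξ) (T : (Over S)ᵒᵖ) (z z' : F'.obj T)
    (h1 : fst.app T z = fst.app T z') (h2 : snd.app T z = snd.app T z') : z = z' :=
  Types.ext_of_isPullback (sq.map ((evaluation _ _).obj T)) h1 h2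

/-- A presheaf over a sheaf all of whose fibres over schemes are sheaves is a sheaf. -/
theorem isSheaf_of_forall_pullback_isSheaf {F G : PSp S} (a : F ⟶ G)
    (hG : Presheaf.IsSheaf (J S) G)
    (h : ∀ ⦃U : Over S⦄ (ξ : (pyon S).obj U ⟶ G), Presheaf.IsSheaf (J S) (pullback a ξ)) :
    Presheaf.IsSheaf (J S) F := by
  rw [isSheaf_iff_isSheaf_of_type] at hG ⊢
  intro T R hR x hx
  have hy : (Presieve.FamilyOfElements.map x a).Compatible :=
    Presieve.FamilyOfElements.Compatible.map a hx
  obtain ⟨ξ₀, hξ₀, -⟩ := hG R hR (Presieve.FamilyOfElements.map x a) hy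
  let ξ : (pyon S).obj T ⟶ G := uliftYonedaEquiv.symm ξ₀
  have hξ : ∀ {T' : Over S} (f : T' ⟶ T), ξ.app (op T') ⟨f⟩ = G.map f.op ξ₀ := fun f => rfl
  have hF' := (isSheaf_iff_isSheaf_of_type _ _).1 (h ξ)
  have sq : IsPullback (pullback.fst a ξ) (pullback.snd a ξ) a ξ := IsPullback.of_hasPullback a ξ
  -- the family of sections of the fibre product
  have hz : ∀ ⦃T' : Over S⦄ (f : T' ⟶ T) (hf : R f), ∃ z : (pullback a ξ).obj (op T'),
      (pullback.fst a ξ).app _ z = x f hf ∧ (pullback.snd a ξ).app _ z = ⟨f⟩ := fun T' f hf =>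
    psp_exists_of_isPullback sq (op T') (x f hf) ⟨f⟩ (by
      rw [hξ]; exact (hξ₀ f hf).symm)
  choose z hz1 hz2 using hz
  have hzc : Presieve.FamilyOfElements.Compatible (P := pullback a ξ) (R := R.arrows) z := by
    intro Y₁ Y₂ Z g₁ g₂ f₁ f₂ h₁ h₂ e
    apply psp_ext_of_isPullback sq
    · rw [NatTrans.naturality_apply, NatTrans.naturality_apply, hz1, hz1]
      exact hx g₁ g₂ h₁ h₂ e
    · rw [NatTrans.naturality_apply, NatTrans.naturality_apply, hz2, hz2]
      change (⟨g₁ ≫ f₁⟩ : ULift _) = ⟨g₂ ≫ f₂⟩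
      rw [e]
  obtain ⟨z₀, hz₀, -⟩ := hF' R hR z hzc
  refine ⟨(pullback.fst a ξ).app _ z₀, ?_, ?_⟩
  · intro T' f hf
    rw [← NatTrans.naturality_apply, hz₀ f hf, hz1]
  · intro s' hs'
    -- both sections map to `ξ₀`
    have hs'G : a.app _ s' = ξ₀ := by
      apply (hG R hR).isSeparatedFor.ext
      intro T' f hf
      rw [← NatTrans.naturality_apply, hs' f hf]
      exact (hξ₀ f hf).symm
    obtain ⟨z', hz'1, hz'2⟩ := psp_exists_of_isPullback sq (op T) s' ⟨𝟙 T⟩ (by
      rw [hs'G, hξ]; simp)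
    have : z' = z₀ := by
      apply (hF' R hR).isSeparatedFor.ext
      intro T' f hf
      rw [hz₀ f hf]
      apply psp_ext_of_isPullback sq
      · rw [NatTrans.naturality_apply, hz'1, hz1, hs' f hf]
      · rw [NatTrans.naturality_apply, hz'2, hz2]
        change (⟨f ≫ 𝟙 T⟩ : ULift _) = ⟨f⟩
        rw [Category.comp_id]
    rw [← this, hz'1]

/-- Representable presheaves are fppf sheaves. -/
theorem isSheaf_pyon (U : Over S) : Presheaf.IsSheaf (J S) ((pyon S).obj U) :=
  ((yon S).obj U).property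

/-- A presheaf with a map to a sheaf which is representable by schemes is a sheaf. -/
theorem isSheaf_of_relativelyRepresentable {F G : PSp S} (a : F ⟶ G)
    (ha : (pyon S).relativelyRepresentable a) (hG : Presheaf.IsSheaf (J S) G) :
    Presheaf.IsSheaf (J S) F := by
  refine isSheaf_of_forall_pullback_isSheaf a hG fun U ξ => ?_
  obtain ⟨b, snd, fst, sq⟩ := ha ξ
  exact (Presheaf.isSheaf_of_iso_iff sq.isoPullback).1 (isSheaf_pyon b)

/-- The source of a map of presheaves to an algebraic space which is representable by schemes is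
an algebraic space. -/
theorem isAlgSpaceP_of_relativelyRepresentable {X : Sp S} (hX : IsAlgSpace X) {G : PSp S}
    (a : G ⟶ X.obj) (ha : (pyon S).relativelyRepresentable a) : IsAlgSpaceP G := by
  have hG : Presheaf.IsSheaf (J S) G := isSheaf_of_relativelyRepresentable a ha X.property
  refine ⟨hG, ?_⟩
  let Gs : Sp S := ⟨G, hG⟩
  let as : Gs ⟶ X := ⟨a⟩
  have hrep : Representable as := by
    intro T g
    obtain ⟨b, snd, fst, sq⟩ := ha g.hom
    let fst' : (yon S).obj b ⟶ Gs := ⟨fst⟩
    refine ⟨b, snd, fst', ?_⟩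
    have hw : fst' ≫ as = (yon S).map snd ≫ g := by
      apply Sheaf.hom_ext
      exact sq.w
    exact IsPullback.of_map (sheafToPresheaf (J S) (Type (u + 1))) hw sq
  exact isAlgSpace_of_representable as hrep hX

end Groth.Agent.Helper15
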