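import Groth.Agent.Lib.Helper15.AlgSpPsh

set_option autoImplicit false
universe u
open CategoryTheory CategoryTheory.Limits AlgebraicGeometry MorphismProperty Opposite
open AlgSp

namespace Groth.Agent.Helper15

/-- The pullback of the relative diagonal of `a` along a pair of sections `(x, y)` is the
"equalizer" of the two induced sections of the base change of `a`. -/
theorem isPullback_diagonal_of_sections {C : Type*} [Category C] [HasPullbacks C]
    {F G U E P : C} (a : F ⟶ G) (x y : U ⟶ F) (hxy : x ≫ a = y ≫ a)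
    {π : P ⟶ U} {q : P ⟶ F} (sqP : IsPullback π q (x ≫ a) a)
    (σx σy : U ⟶ P) (hσx1 : σx ≫ π = 𝟙 U) (hσx2 : σx ≫ q = x) (hσy1 : σy ≫ π = 𝟙 U)
    (hσy2 : σy ≫ q = y) {e1 e2 : E ⟶ U} (sqE : IsPullback e1 e2 σx σy) :
    IsPullback (e1 ≫ x) e1 (pullback.diagonal a) (pullback.lift x y hxy) := by
  have he : e1 = e2 := by
    calc e1 = e1 ≫ σx ≫ π := by rw [hσx1, Category.comp_id]
      _ = e2 ≫ σy ≫ π := by rw [← Category.assoc, sqE.w, Category.assoc]
      _ = e2 := by rw [hσy1, Category.comp_id]
  have hexy : e1 ≫ x = e1 ≫ y := by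
    calc e1 ≫ x = e1 ≫ σx ≫ q := by rw [hσx2]
      _ = e2 ≫ σy ≫ q := by rw [← Category.assoc, sqE.w, Category.assoc]
      _ = e1 ≫ y := by rw [hσy2, he]
  have w : (e1 ≫ x) ≫ pullback.diagonal a = e1 ≫ pullback.lift x y hxy := by
    apply pullback.hom_ext
    · rw [Category.assoc, Category.assoc, pullback.diagonal_fst, Category.assoc,
        pullback.lift_fst, Category.comp_id]
    · rw [Category.assoc, Category.assoc, pullback.diagonal_snd, Category.assoc,
        pullback.lift_snd, Category.comp_id, hexy]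
  refine ⟨⟨w⟩, ⟨PullbackCone.IsLimit.mk _ (fun s => sqE.lift s.snd s.snd ?_) ?_ ?_ ?_⟩⟩
  · have h1 : s.fst = s.snd ≫ x := by
      have := congr($(s.condition) ≫ pullback.fst a a)
      rwa [Category.assoc, Category.assoc, pullback.diagonal_fst, pullback.lift_fst,
        Category.comp_id] at this
    have h2 : s.fst = s.snd ≫ y := by
      have := congr($(s.condition) ≫ pullback.snd a a)
      rwa [Category.assoc, Category.assoc, pullback.diagonal_snd, pullback.lift_snd,
        Category.comp_id] at this
    apply sqP.hom_ext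
    · rw [Category.assoc, Category.assoc, hσx1, hσy1]
    · rw [Category.assoc, Category.assoc, hσx2, hσy2, ← h1, ← h2]
  · intro s
    have h1 : s.fst = s.snd ≫ x := by
      have := congr($(s.condition) ≫ pullback.fst a a)
      rwa [Category.assoc, Category.assoc, pullback.diagonal_fst, pullback.lift_fst,
        Category.comp_id] at this
    rw [← Category.assoc, sqE.lift_fst, ← h1]
  · intro s
    exact sqE.lift_fst _ _ _
  · intro s m hm1 hm2
    apply sqE.hom_ext
    · rw [sqE.lift_fst]; exact hm2
    · rw [sqE.lift_snd, ← he]; exact hm2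

variable {S : Scheme.{u}}

/-- The relative diagonal of a map representable by algebraic spaces is representable by
algebraic spaces (in fact by schemes). -/
theorem repBySp_diagonal {F G : PSp S} (a : F ⟶ G) (ha : RepBySp a) :
    RepBySp (pullback.diagonal a) := by
  intro U ξ F' fst snd sq
  let x : (pyon S).obj U ⟶ F := ξ ≫ pullback.fst a a
  let y : (pyon S).obj U ⟶ F := ξ ≫ pullback.snd a a
  have hxy : x ≫ a = y ≫ a := by
    change (ξ ≫ pullback.fst a a) ≫ a = (ξ ≫ pullback.snd a a) ≫ a
    rw [Category.assoc, Category.assoc, pullback.condition]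
  have hξ : ξ = pullback.lift x y hxy := by
    apply pullback.hom_ext
    · rw [pullback.lift_fst]
    · rw [pullback.lift_snd]
  have sqP : IsPullback (pullback.fst a (x ≫ a)) (pullback.snd a (x ≫ a)) a (x ≫ a) :=
    IsPullback.of_hasPullback _ _
  obtain ⟨hsh, halg⟩ := ha (x ≫ a) _ _ sqP
  let Ps : Sp S := ⟨pullback a (x ≫ a), hsh⟩
  let σx : (pyon S).obj U ⟶ pullback a (x ≫ a) := pullback.lift x (𝟙 _) (by simp)
  let σy : (pyon S).obj U ⟶ pullback a (x ≫ a) := pullback.lift y (𝟙 _) (by simp [hxy])
  let σxs : (yon S).obj U ⟶ Ps := ⟨σx⟩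
  let σys : (yon S).obj U ⟶ Ps := ⟨σy⟩
  have hrep : Representable σxs := halg.representable_from_yon σxs
  have sqE' := hrep.isPullback' σys
  have sqE : IsPullback ((pyon S).map (hrep.fst' σys)) ((pyon S).map (hrep.snd σys)) σx σy :=
    sqE'.map (sheafToPresheaf (J S) (Type (u + 1)))
  have key := isPullback_diagonal_of_sections a x y hxy sqP.flip σx σy
    (pullback.lift_snd _ _ _) (pullback.lift_fst _ _ _) (pullback.lift_snd _ _ _)
    (pullback.lift_fst _ _ _) sqE
  rw [← hξ] at key
  have e := sq.isoIsPullback _ _ key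
  exact ((isAlgSpaceP_obj_iff ((yon S).obj (hrep.pullback σys))).2
    (IsAlgSpace.yon_obj _)).of_iso e.symm

/-- A map of sheaves which is representable by algebraic spaces, surjective, flat and locally of
finite presentation is an epimorphism of sheaves. -/
theorem epi_of_repBySpWith_fppf {F G : Sp S} (a : F ⟶ G)
    (ha : RepBySpWith
      (IsSurjectiveMor ⊓ LocP @Flat ⊓ LocP @LocallyOfFinitePresentation) a.hom) : Epi a := by
  haveI : Sheaf.IsLocallySurjective a := by
    constructor
    intro T s
    obtain ⟨ξ, rfl⟩ := (yonEquiv (T := T) (F := G)).surjective s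
    have sq : IsPullback (pullback.fst a ξ) (pullback.snd a ξ) a ξ := IsPullback.of_hasPullback _ _
    have sqp := sq.map (sheafToPresheaf (J S) (Type (u + 1)))
    obtain ⟨hsh, halg, ⟨hQ1, hQ2⟩, hQ3⟩ := ha ξ.hom _ _ sqp
    have hQ1' : IsSurjectiveMor (pullback.snd a ξ) := hQ1
    have hQ2' : LocP @Flat (pullback.snd a ξ) := hQ2
    have hQ3' : LocP @LocallyOfFinitePresentation (pullback.snd a ξ) := hQ3
    have halg' : IsAlgSpace (pullback a ξ) := halg
    obtain ⟨V, q, hqe, hqs⟩ := halg'.atlas
    obtain ⟨g, hg⟩ := (yon S).map_surjective (q ≫ pullback.snd a ξ)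
    have hcomm : q ≫ pullback.snd a ξ = (yon S).map g ≫ 𝟙 _ := by rw [hg, Category.comp_id]
    have hid : RepWith @Etale (𝟙 ((yon S).obj T)) := repWith_id _ T
    have hflat : Flat g.left := hQ2' q (𝟙 _) g hqe hid hcomm
    have hlfp : LocallyOfFinitePresentation g.left := hQ3' q (𝟙 _) g hqe hid hcomm
    have hsurj : Surjective g.left := by
      refine ⟨fun t => ?_⟩
      obtain ⟨p', hp'⟩ := hQ1' (Points.ofScheme T t)
      obtain ⟨v', rfl⟩ := isSurjectiveMor_of_repWith_surjective q hqs p'
      obtain ⟨v, rfl⟩ := (Points.schemeEquiv V).surjective v'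
      refine ⟨v, ?_⟩
      apply (Points.schemeEquiv T).injective
      change Points.ofScheme T (g.left v) = Points.ofScheme T t
      rw [← hp', ← ofPt_yon_map, hg, Points.ofPt_eq_map_ofScheme, Points.map_comp]
      rfl
    have hcov := singleton_mem_J g hflat hlfp hsurj
    refine (J S).superset_covering ?_ hcov
    rw [Sieve.ofArrows, Sieve.generate_le_iff]
    rintro _ _ ⟨i⟩
    refine ⟨yonEquiv (q ≫ pullback.fst a ξ), ?_⟩
    have h1 := GrothendieckTopology.uliftYonedaEquiv_comp (J S) (q ≫ pullback.fst a ξ) a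
    have h2 := GrothendieckTopology.uliftYonedaEquiv_naturality (J S) ξ g
    rw [Category.assoc, sq.w, ← Category.assoc, ← hg] at h1
    exact h1.symm.trans h2.symm
  exact Sheaf.epi_of_isLocallySurjective a

end Groth.Agent.Helper15
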