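import Groth.Agent.Lib.Helper15.AlgSpFieldCover3
import Groth.Agent.Lib.Helper15.AlgSpField
import Groth.Agent.Lib.Helper15.AlgSpFibre

set_option autoImplicit false
universe u
open CategoryTheory CategoryTheory.Limits AlgebraicGeometry Topology TopologicalSpace
open AlgSp

namespace Groth.Agent.Helper15
variable {S : Scheme.{u}}

/-- A flat, locally finitely presented, surjective map from a scheme to an algebraic space is an
epimorphism of sheaves. -/
theorem epi_of_locP_fppf_surjective {Z : Sp S} (hZ : IsAlgSpace Z) {T : Over S}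
    (p : (yon S).obj T ⟶ Z) (hlfp : LocP @LocallyOfFinitePresentation p) (hfl : LocP @Flat p)
    (hps : IsSurjectiveMor p) : Epi p := by
  obtain ⟨U, a, hae, has⟩ := hZ.atlas
  have sq := hae.rep.isPullback' p
  have h1 : Etale (hae.rep.snd p).left := hae.property_snd p
  have hcomm := sq.w.symm
  have h2 : Flat (hae.rep.fst' p).left :=
    hfl ((yon S).map (hae.rep.snd p)) a (hae.rep.fst' p)
      ((repWith_yon_map_iff _ _).2 h1) hae hcomm
  have h3 : LocallyOfFinitePresentation (hae.rep.fst' p).left :=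
    hlfp ((yon S).map (hae.rep.snd p)) a (hae.rep.fst' p)
      ((repWith_yon_map_iff _ _).2 h1) hae hcomm
  have h4 : Surjective (hae.rep.fst' p).left := by
    refine ⟨fun v => ?_⟩
    obtain ⟨y, hy⟩ := hps (Points.ofPt a v)
    obtain ⟨t, rfl⟩ := (Points.schemeEquiv T).surjective y
    have hy' : Points.ofPt a v = Points.ofPt p t := by
      rw [Points.ofPt_eq_map_ofScheme p t]; exact hy.symm
    obtain ⟨w, hw, -⟩ := exists_of_ofPt_eq sq v t hy'
    exact ⟨w, hw⟩
  haveI := isLocallySurjective_of_repWith ((yon S).map (hae.rep.fst' p))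
    ((repWith_yon_map_iff _ _).2 h2) ((repWith_yon_map_iff _ _).2 h3)
    ((repWith_yon_map_iff _ _).2 h4)
  haveI : Epi ((yon S).map (hae.rep.fst' p)) := Sheaf.epi_of_isLocallySurjective _
  haveI := isLocallySurjective_of_etale_surjective a hae has
  haveI : Epi a := Sheaf.epi_of_isLocallySurjective a
  haveI : Epi ((yon S).map (hae.rep.fst' p) ≫ a) := epi_comp _ _
  exact epi_of_epi_fac hcomm

/-- S10369 -/
theorem isEmpty_or_isIso_of_mono_of_fppf_field_cover {Z' Z : Sp S} (hZ' : IsAlgSpace Z')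
    (hZ : IsAlgSpace Z) (f : Z' ⟶ Z) [Mono f]
    (k : Type u) [Field k] (str : Spec (CommRingCat.of k) ⟶ S)
    (p : (AlgSp.yon S).obj (Over.mk str) ⟶ Z)
    (hlfp : AlgSp.LocP @LocallyOfFinitePresentation p) (hfl : AlgSp.LocP @Flat p)
    (hps : AlgSp.IsSurjectiveMor p) :
    IsEmpty (AlgSp.Points Z') ∨ IsIso f := by
  by_cases hne : IsEmpty (AlgSp.Points Z')
  · exact Or.inl hne
  right
  rw [not_isEmpty_iff] at hne
  obtain ⟨z'⟩ := hne
  have sqP : IsPullback (pullback.fst f p) (pullback.snd f p) f p := IsPullback.of_hasPullback _ _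
  have hP : IsAlgSpace (pullback f p) :=
    isAlgSpace_of_isPullback hZ.diag hZ' (IsAlgSpace.yon_obj _) sqP
  haveI := subsingleton_points_of_surjective_field k str p hps
  obtain ⟨x, -, -⟩ := exists_point_of_isPullback sqP z'
    (Points.ofScheme _ (IsLocalRing.closedPoint k)) (Subsingleton.elim _ _)
  haveI : IsIso (pullback.snd f p) := isIso_of_mono_to_field_sp hP str (pullback.snd f p) x
  haveI := epi_of_locP_fppf_surjective hZ p hlfp hfl hps
  have hfac : (inv (pullback.snd f p) ≫ pullback.fst f p) ≫ f = p := by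
    rw [Category.assoc, sqP.w, IsIso.inv_hom_id_assoc]
  haveI : Epi f := epi_of_epi_fac hfac
  exact isIso_of_mono_of_epi f


/-- S10371 (sheaf form) -/
theorem exists_iso_of_mono_of_fppf_field_cover {X Z Z' : Sp S} (hX : IsAlgSpace X)
    (hZ : IsAlgSpace Z) (hZ' : IsAlgSpace Z') (x : Points X)
    (i : Z ⟶ X) (i' : Z' ⟶ X) [Mono i] [Mono i']
    (hi : Set.range (AlgSp.Points.map i) = {x}) (hi' : Set.range (AlgSp.Points.map i') = {x})
    (hZc : ∃ (k : Type u) (_ : Field k) (str : Spec (CommRingCat.of k) ⟶ S)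
        (p : (AlgSp.yon S).obj (Over.mk str) ⟶ Z),
        AlgSp.LocP @LocallyOfFinitePresentation p ∧ AlgSp.LocP @Flat p ∧ AlgSp.IsSurjectiveMor p)
    (hZc' : ∃ (k : Type u) (_ : Field k) (str : Spec (CommRingCat.of k) ⟶ S)
        (p : (AlgSp.yon S).obj (Over.mk str) ⟶ Z'),
        AlgSp.LocP @LocallyOfFinitePresentation p ∧ AlgSp.LocP @Flat p ∧
          AlgSp.IsSurjectiveMor p) :
    ∃ e : Z' ≅ Z, e.hom ≫ i = i' := by
  obtain ⟨k, _, str, p, h1, h2, h3⟩ := hZc
  obtain ⟨k', _, str', p', h1', h2', h3'⟩ := hZc'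
  have sqP : IsPullback (pullback.fst i i') (pullback.snd i i') i i' :=
    IsPullback.of_hasPullback _ _
  have hP : IsAlgSpace (pullback i i') := isAlgSpace_of_isPullback hX.diag hZ hZ' sqP
  obtain ⟨z, hz⟩ : x ∈ Set.range (AlgSp.Points.map i) := by rw [hi]; rfl
  obtain ⟨z', hz'⟩ : x ∈ Set.range (AlgSp.Points.map i') := by rw [hi']; rfl
  obtain ⟨y, -, -⟩ := exists_point_of_isPullback sqP z z' (hz.trans hz'.symm)
  have hne : ¬ IsEmpty (Points (pullback i i')) := not_isEmpty_iff.2 ⟨y⟩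
  haveI : IsIso (pullback.fst i i') :=
    (isEmpty_or_isIso_of_mono_of_fppf_field_cover hP hZ _ k str p h1 h2 h3).resolve_left hne
  haveI : IsIso (pullback.snd i i') :=
    (isEmpty_or_isIso_of_mono_of_fppf_field_cover hP hZ' _ k' str' p' h1' h2' h3').resolve_left hne
  refine ⟨(asIso (pullback.snd i i')).symm ≪≫ asIso (pullback.fst i i'), ?_⟩
  simp only [Iso.trans_hom, Iso.symm_hom, asIso_inv, asIso_hom, Category.assoc]
  rw [sqP.w, IsIso.inv_hom_id_assoc]

end Groth.Agent.Helper15
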