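import Groth.Agent.Lib.Helper15.AlgSpSI1
import Groth.Agent.Lib.Helper15.AlgSpCoprod3

/-!
# Scheme theoretic images of quasi-compact morphisms: families of affine charts
-/

set_option autoImplicit false
set_option linter.style.haveILetI false
universe u
open CategoryTheory CategoryTheory.Limits AlgebraicGeometry MorphismProperty Opposite
open AlgSp

namespace Groth.Agent.Helper15

/-- A morphism to a disjoint union of affine schemes whose source is covered by compact pieces
lying over the summands is quasi-compact. -/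
theorem quasiCompact_of_disjoint_cover {W V : Scheme.{u}} (g : W ⟶ V) {ι : Type*}
    (U : ι → Scheme.{u}) (j : ∀ a, U a ⟶ V) [∀ a, IsOpenImmersion (j a)] [∀ a, IsAffine (U a)]
    (hcov : ∀ v : V, ∃ a u, j a u = v)
    (hdisj : ∀ a b, a ≠ b → ∀ u u', j a u ≠ j b u')
    (W' : ι → Scheme.{u}) [∀ a, CompactSpace (W' a)] (j' : ∀ a, W' a ⟶ W)
    (hcov' : ∀ x : W, ∃ a y, j' a y = x) (g' : ∀ a, W' a ⟶ U a)
    (hcomm : ∀ a, j' a ≫ g = g' a ≫ j a) : QuasiCompact g := by
  let Uo : ι → V.affineOpens := fun a => ⟨(j a).opensRange, isAffineOpen_opensRange (j a)⟩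
  have hU : ⨆ a, (Uo a : V.Opens) = ⊤ := by
    rw [eq_top_iff]
    rintro v -
    obtain ⟨a, u, rfl⟩ := hcov v
    exact TopologicalSpace.Opens.mem_iSup.2 ⟨a, ⟨u, rfl⟩⟩
  rw [HasAffineProperty.iff_of_iSup_eq_top (P := @QuasiCompact) Uo hU]
  intro a
  change CompactSpace ↥(g ⁻¹ᵁ (j a).opensRange)
  refine isCompact_iff_compactSpace.1 ?_
  have : ((g ⁻¹ᵁ (j a).opensRange : W.Opens) : Set W) = Set.range (j' a) := by
    ext x
    constructor
    · rintro ⟨u, hu⟩
      obtain ⟨b, y, rfl⟩ := hcov' x
      have h1 : g (j' b y) = j b (g' b y) := by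
        rw [← Scheme.Hom.comp_apply, hcomm b, Scheme.Hom.comp_apply]
      by_cases hab : a = b
      · subst hab; exact ⟨y, rfl⟩
      · exact absurd (hu.trans h1) (hdisj a b hab u _)
    · rintro ⟨y, rfl⟩
      refine ⟨g' a y, ?_⟩
      rw [← Scheme.Hom.comp_apply, ← hcomm a, Scheme.Hom.comp_apply]
  change IsCompact ((g ⁻¹ᵁ (j a).opensRange : W.Opens) : Set W)
  rw [this]
  exact isCompact_range (j' a).continuous

variable {S : Scheme.{u}}

/-- The coproduct of representable sheaves is represented by a scheme (the disjoint union). -/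
theorem exists_sigma_over {ι : Type u} (U : ι → Over S) :
    ∃ (V : Over S) (e : (yon S).obj V ≅ ∐ (fun a => (yon S).obj (U a))) (j : ∀ a, U a ⟶ V),
      (∀ a, IsOpenImmersion (j a).left) ∧
      (∀ a, (yon S).map (j a) ≫ e.hom = Sigma.ι (fun a => (yon S).obj (U a)) a) ∧
      (∀ v : V.left, ∃ a u, (j a).left u = v) ∧
      (∀ a b, a ≠ b → ∀ u u', (j a).left u ≠ (j b).left u') := by
  let Y : ι → Sp S := fun i => (yon S).obj (U i)
  let c : Cofan Y := Cofan.mk (∐ Y) (Sigma.ι Y)
  have hc : IsColimit c := coproductIsCoproduct Y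
  have hm : ∀ k, Mono (c.inj k) := cofan_inj_mono c hc
  have ha : ∀ i, RepWith @IsOpenImmersion (c.inj i) :=
    fun i => repWith_mono inf_le_left (repWith_cofan_inj c hc hm i)
  obtain ⟨V, e, j, hj, hje, hjcov⟩ := exists_rep_of_openCover ha (cofan_points_cover c hc)
  refine ⟨V, e, j, hj, hje, hjcov, ?_⟩
  intro a b hab u u' huu'
  obtain ⟨p, -, -⟩ := Scheme.Pullback.exists_preimage_pullback (f := (j a).left) (g := (j b).left)
    u u' huu'
  let T₁₂ : Over S := Over.mk (pullback.fst (j a).left (j b).left ≫ (U a).hom)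
  let l₁ : T₁₂ ⟶ U a := Over.homMk (pullback.fst (j a).left (j b).left) rfl
  let l₂ : T₁₂ ⟶ U b := Over.homMk (pullback.snd (j a).left (j b).left) (by
    change pullback.snd (j a).left (j b).left ≫ (U b).hom =
      pullback.fst (j a).left (j b).left ≫ (U a).hom
    rw [← CategoryTheory.Over.w (j a), ← CategoryTheory.Over.w (j b), ← Category.assoc,
      ← Category.assoc, pullback.condition])
  have hl : l₁ ≫ j a = l₂ ≫ j b := by
    apply Over.OverMorphism.ext
    exact pullback.condition
  have h : (yon S).map l₁ ≫ c.inj a = (yon S).map l₂ ≫ c.inj b := by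
    rw [← hje a, ← hje b, ← Category.assoc, ← Category.assoc, ← Functor.map_comp,
      ← Functor.map_comp, hl]
  exact (cofan_disjoint c hc hab _ _ h).false p

/-- A map of sheaves along which sections lift locally is locally surjective. -/
theorem isLocallySurjective_of_local_lift {A B : Sp S} (f : A ⟶ B)
    (h : ∀ (T : Over S) (z : (yon S).obj T ⟶ B), ∃ R ∈ (J S) T, ∀ ⦃T' : Over S⦄ (k : T' ⟶ T),
      R k → ∃ τ : (yon S).obj T' ⟶ A, τ ≫ f = (yon S).map k ≫ z) :
    Sheaf.IsLocallySurjective f := by
  constructor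
  intro T s
  obtain ⟨z, rfl⟩ := (yonEquiv (T := T) (F := B)).surjective s
  obtain ⟨R, hR, hlift⟩ := h T z
  refine (J S).superset_covering ?_ hR
  intro T' k hk
  obtain ⟨τ, hτ⟩ := hlift k hk
  refine ⟨yonEquiv τ, ?_⟩
  have h1 := GrothendieckTopology.uliftYonedaEquiv_comp (J S) τ f
  have h2 := GrothendieckTopology.uliftYonedaEquiv_naturality (J S) z k
  rw [hτ] at h1
  exact h1.symm.trans h2.symm

/-- A map of schemes over `S` factors through the scheme theoretic image of `fU` exactly when its
kernel contains that of `fU`. -/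
theorem exists_factor_imageOverι_iff {YU U T₁ : Over S} (fU : YU ⟶ U) (b : T₁ ⟶ U) :
    (∃ b' : T₁ ⟶ imageOver fU, b' ≫ imageOverι fU = b) ↔ fU.left.ker ≤ b.left.ker := by
  constructor
  · rintro ⟨b', rfl⟩
    exact (ker_imageι fU.left).ge.trans (Scheme.Hom.le_ker_comp b'.left fU.left.imageι)
  · intro h
    have h2 : fU.left.imageι.ker ≤ b.left.ker := (ker_imageι fU.left).le.trans h
    let l := IsClosedImmersion.lift fU.left.imageι b.left h2
    have hl : l ≫ fU.left.imageι = b.left := IsClosedImmersion.lift_fac _ _ _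
    have hl' : l ≫ (imageOver fU).hom = T₁.hom := by
      change l ≫ fU.left.imageι ≫ U.hom = T₁.hom
      rw [← Category.assoc, hl, Over.w b]
    exact ⟨Over.homMk l hl', Over.OverMorphism.ext hl⟩

/-- Scheme theoretic image of a morphism to an algebraic space, computed on a family of affine
etale charts each of whose pullbacks is covered by a compact scheme. -/
theorem exists_schImage_of_family {Y X : Sp S} (hX : IsAlgSpace X) (f : Y ⟶ X) {ι : Type u}
    (T W : ι → Over S) (p : ∀ a, (yon S).obj (T a) ⟶ X) (hpe : ∀ a, RepWith @Etale (p a))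
    (hcov : ∀ x : Points X, ∃ a t, Points.ofPt (p a) t = x)
    [∀ a, IsAffine (T a).left] [∀ a, CompactSpace (W a).left]
    (w : ∀ a, (yon S).obj (W a) ⟶ pullback f (p a)) [∀ a, Epi (w a)]
    (g : ∀ a, W a ⟶ T a) (hg : ∀ a, (yon S).map (g a) = w a ≫ pullback.snd f (p a)) :
    ∃ (Zbar : Sp S) (c : Zbar ⟶ X), IsSchImage f c ∧
      ∀ a, ∃ q : (yon S).obj (imageOver (g a)) ⟶ Zbar,
        IsPullback q ((yon S).map (imageOverι (g a))) c (p a) := by
  obtain ⟨V, e, j, hj, hje, hjcov, hjdisj⟩ := exists_sigma_over T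
  obtain ⟨WV, e', j', hj', hje', hj'cov, -⟩ := exists_sigma_over W
  haveI := hj
  haveI := hj'
  obtain ⟨pV, hpVdef⟩ : ∃ pV : (yon S).obj V ⟶ X, pV = e.hom ≫ Sigma.desc p := ⟨_, rfl⟩
  have hpV : ∀ a, (yon S).map (j a) ≫ pV = p a := fun a => by
    rw [hpVdef, ← Category.assoc, hje a, Sigma.ι_desc]
  have hpVe : RepWith @Etale pV :=
    repWith_of_source_openCover pV (hX.representable_from_yon pV) T j hj hjcov
      (fun a => by rw [hpV a]; exact hpe a)
  have hpVs : RepWith @Surjective pV := by
    refine repWith_surjective_of_isSurjectiveMor pV (hX.representable_from_yon pV) ?_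
    intro x
    obtain ⟨a, t, rfl⟩ := hcov x
    refine ⟨Points.ofPt ((yon S).map (j a)) t, ?_⟩
    rw [Points.map_ofPt, hpV a]
  have sqV : IsPullback (pullback.fst f pV) (pullback.snd f pV) f pV := IsPullback.of_hasPullback _ _
  -- the maps from the pieces
  have hmw : ∀ a, pullback.fst f (p a) ≫ f = (pullback.snd f (p a) ≫ (yon S).map (j a)) ≫ pV :=
    fun a => by rw [Category.assoc, hpV a, pullback.condition]
  let m : ∀ a, pullback f (p a) ⟶ pullback f pV := fun a => pullback.lift _ _ (hmw a)
  have hm1 : ∀ a, m a ≫ pullback.fst f pV = pullback.fst f (p a) := fun a =>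
    pullback.lift_fst _ _ _
  have hm2 : ∀ a, m a ≫ pullback.snd f pV = pullback.snd f (p a) ≫ (yon S).map (j a) := fun a =>
    pullback.lift_snd _ _ _
  obtain ⟨wV, hwVdef⟩ : ∃ wV : (yon S).obj WV ⟶ pullback f pV,
    wV = e'.hom ≫ Sigma.desc (fun a => w a ≫ m a) := ⟨_, rfl⟩
  have hwV : ∀ a, (yon S).map (j' a) ≫ wV = w a ≫ m a := fun a => by
    rw [hwVdef, ← Category.assoc, hje' a, Sigma.ι_desc]
  obtain ⟨gV, hgV⟩ := (yon S).map_surjective (wV ≫ pullback.snd f pV)
  have hgVcomm : ∀ a, j' a ≫ gV = g a ≫ j a := fun a => (yon S).map_injective (by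
    rw [Functor.map_comp, Functor.map_comp, hgV, ← Category.assoc, hwV a, Category.assoc, hm2 a,
      ← Category.assoc, ← hg a])
  have hqc : QuasiCompact gV.left :=
    quasiCompact_of_disjoint_cover gV.left (fun a => (T a).left) (fun a => (j a).left) hjcov hjdisj
      (fun a => (W a).left) (fun a => (j' a).left) hj'cov (fun a => (g a).left)
      (fun a => congrArg (fun k => k.left) (hgVcomm a))
  -- `wV` is an epimorphism
  haveI hwVepi : Epi wV := by
    haveI : Sheaf.IsLocallySurjective wV := by
      apply isLocallySurjective_of_local_lift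
      intro T₀ z
      obtain ⟨v, hv⟩ := (yon S).map_surjective (z ≫ pullback.snd f pV)
      let R : Sieve T₀ :=
        { arrows := fun T' k => ∃ τ : (yon S).obj T' ⟶ (yon S).obj WV, τ ≫ wV = (yon S).map k ≫ z
          downward_closed := by
            rintro T' T'' k ⟨τ, hτ⟩ l
            exact ⟨(yon S).map l ≫ τ, by
              rw [Category.assoc, hτ, Functor.map_comp, Category.assoc]⟩ }
      refine ⟨R, ?_, fun T' k hk => hk⟩
      have sqT : ∀ a, IsPullback (pullback.fst v (j a)) (pullback.snd v (j a)) v (j a) :=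
        fun a => IsPullback.of_hasPullback _ _
      have hopen : ∀ a, IsOpenImmersion (pullback.fst v (j a)).left := fun a =>
        MorphismProperty.of_isPullback (P := @IsOpenImmersion) ((sqT a).map (Over.forget S)).flip
          (hj a)
      have hcover : Sieve.ofArrows (fun a => pullback v (j a)) (fun a => pullback.fst v (j a)) ∈
          (J S) T₀ := by
        refine ofArrows_mem_J _ _ (fun a => ?_) (fun a => ?_) (fun x => ?_)
        · haveI := hopen a; infer_instance
        · haveI := hopen a; infer_instance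
        · obtain ⟨a, u, hu⟩ := hjcov (v.left x)
          obtain ⟨y, hy, -⟩ := Scheme.exists_preimage_of_isPullback
            ((sqT a).map (Over.forget S)) x u hu.symm
          exact ⟨a, y, hy⟩
      refine (J S).transitive hcover R ?_
      rintro T' k ⟨T'', l, _, ⟨a⟩, rfl⟩
      rw [Sieve.pullback_comp]
      refine (J S).pullback_stable l ?_
      -- the point of the piece
      have hzw : ((yon S).map (pullback.fst v (j a)) ≫ z ≫ pullback.fst f pV) ≫ f =
          (yon S).map (pullback.snd v (j a)) ≫ p a := by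
        rw [Category.assoc, Category.assoc, pullback.condition, ← Category.assoc z, ← hv, ← hpV a,
          ← Category.assoc, ← Category.assoc, ← Functor.map_comp, ← Functor.map_comp, (sqT a).w]
      let za : (yon S).obj (pullback v (j a)) ⟶ pullback f (p a) := pullback.lift _ _ hzw
      have hza : za ≫ m a = (yon S).map (pullback.fst v (j a)) ≫ z := by
        apply pullback.hom_ext
        · rw [Category.assoc, hm1 a, pullback.lift_fst, Category.assoc]
        · rw [Category.assoc, hm2 a, ← Category.assoc, pullback.lift_snd, Category.assoc, ← hv,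
            ← Functor.map_comp, ← Functor.map_comp, (sqT a).w]
      obtain ⟨Ra, hRa, hlift⟩ := exists_local_lift_of_epi (w a) za
      refine (J S).superset_covering ?_ hRa
      intro T₃ k' hk'
      obtain ⟨τ, hτ⟩ := hlift k' hk'
      refine ⟨τ ≫ (yon S).map (j' a), ?_⟩
      rw [Category.assoc, hwV a, ← Category.assoc, hτ, Category.assoc, hza, Functor.map_comp,
        Category.assoc]
    exact Sheaf.epi_of_isLocallySurjective _
  obtain ⟨Zbar, c, q, jj, hsch, sqD, -⟩ := exists_closed_of_chart_cover f pV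
    (repWith_mono etale_le_flat hpVe) (repWith_mono etale_le_lfp hpVe) hpVs _ _ sqV wV gV hgV hqc
  refine ⟨Zbar, c, hsch, fun a => ?_⟩
  haveI : Mono c := mono_of_repWith isClosedImmersion_le_mono _ hsch.1
  -- the kernel on the piece
  have hker : gV.left.ker.comap (j a).left = (g a).left.ker := by
    have sqQ : IsPullback (pullback.fst gV (j a)) (pullback.snd gV (j a)) gV (j a) :=
      IsPullback.of_hasPullback _ _
    haveI := hqc
    haveI : Flat (j a).left := by haveI := hj a; infer_instance
    have h1 : (pullback.snd gV (j a)).left.ker = gV.left.ker.comap (j a).left :=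
      ker_of_isPullback_of_flat (sqQ.map (Over.forget S))
    obtain ⟨ea, hea, hea2, -⟩ := exists_epi_cover_base_change f pV _ _ sqV wV gV hgV (j a) (p a)
      (hpV a).symm
    rw [← h1]
    exact ker_eq_of_common_epi _ _ ea (w a) (pullback.snd f (p a)) hea2 (hg a).symm
  obtain ⟨ka, hka⟩ := (exists_factor_imageOverι_iff gV (imageOverι (g a) ≫ j a)).2 (by
    rw [Over.comp_left, Scheme.Hom.ker_comp, Scheme.IdealSheafData.le_map_iff_comap_le, hker]
    exact (ker_imageι (g a).left).ge)
  have hcomm : ((yon S).map ka ≫ q) ≫ c = (yon S).map (imageOverι (g a)) ≫ p a := by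
    rw [Category.assoc, sqD.w, ← Category.assoc, ← Functor.map_comp, hka, Functor.map_comp,
      Category.assoc, hpV a]
  refine ⟨(yon S).map ka ≫ q, isPullback_of_mono_of_yon_lift c (p a) (imageOverι (g a)) _ hcomm ?_⟩
  intro T' cc z hz
  obtain ⟨l, hl⟩ := (yon S).map_surjective (sqD.lift z ((yon S).map (cc ≫ j a)) (by
    rw [hz, Functor.map_comp, Category.assoc, hpV a]))
  have hl2 : l ≫ imageOverι gV = cc ≫ j a := (yon S).map_injective (by
    rw [Functor.map_comp, hl]; exact sqD.lift_snd _ _ _)
  have h2 := (exists_factor_imageOverι_iff gV (cc ≫ j a)).1 ⟨l, hl2⟩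
  rw [Over.comp_left, Scheme.Hom.ker_comp, Scheme.IdealSheafData.le_map_iff_comap_le, hker] at h2
  exact (exists_factor_imageOverι_iff (g a) cc).2 h2

end Groth.Agent.Helper15
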