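import Groth.Agent.Lib.Helper15.AlgSpSI2

/-!
# Scheme theoretic images of quasi-compact morphisms of algebraic spaces: localisation on affine
etale charts
-/

set_option autoImplicit false
set_option linter.style.haveILetI false
universe u
open CategoryTheory CategoryTheory.Limits AlgebraicGeometry MorphismProperty Opposite
open AlgSp

namespace Groth.Agent.Helper15

variable {S : Scheme.{u}}

/-- A compact scheme covering the pullback of `f` to a chart `p : h_T ⟶ X`. -/
structure CoverDatum {Y X : Sp S} (f : Y ⟶ X) {T : Over S} (p : (yon S).obj T ⟶ X) where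
  W : Over S
  w : (yon S).obj W ⟶ pullback f p
  g : W ⟶ T
  hg : (yon S).map g = w ≫ pullback.snd f p
  epi : Epi w
  compact : CompactSpace W.left

/-- Cover data exist for quasi-compact morphisms and quasi-compact charts. -/
theorem nonempty_coverDatum {Y X : Sp S} (f : Y ⟶ X) (hq : IsQuasiCompactMor f) {T : Over S}
    [CompactSpace T.left] (p : (yon S).obj T ⟶ X) : Nonempty (CoverDatum f p) := by
  have hqc : IsQuasiCompactSp (pullback f p) :=
    hq (IsAlgSpace.yon_obj T) ((isQuasiCompactSp_yon_iff T).2 inferInstance) p _ _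
      (IsPullback.of_hasPullback f p)
  obtain ⟨W, w, hwe, hws, hW⟩ := hqc
  obtain ⟨g, hg⟩ := (yon S).map_surjective (w ≫ pullback.snd f p)
  haveI := isLocallySurjective_of_etale_surjective w hwe hws
  exact ⟨⟨W, w, g, hg, Sheaf.epi_of_isLocallySurjective _, hW⟩⟩

/-- `exists_schImage_of_family` in terms of cover data. -/
theorem exists_schImage_of_coverData {Y X : Sp S} (hX : IsAlgSpace X) (f : Y ⟶ X) {ι : Type u}
    (T : ι → Over S) (p : ∀ a, (yon S).obj (T a) ⟶ X) (hpe : ∀ a, RepWith @Etale (p a))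
    (hcov : ∀ x : Points X, ∃ a t, Points.ofPt (p a) t = x)
    [∀ a, IsAffine (T a).left] (D : ∀ a, CoverDatum f (p a)) :
    ∃ (Zbar : Sp S) (c : Zbar ⟶ X), IsSchImage f c ∧
      ∀ a, ∃ q : (yon S).obj (imageOver (D a).g) ⟶ Zbar,
        IsPullback q ((yon S).map (imageOverι (D a).g)) c (p a) := by
  haveI : ∀ a, CompactSpace (D a).W.left := fun a => (D a).compact
  haveI : ∀ a, Epi (D a).w := fun a => (D a).epi
  exact exists_schImage_of_family hX f T (fun a => (D a).W) p hpe hcov (fun a => (D a).w)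
    (fun a => (D a).g) (fun a => (D a).hg)

/-- The scheme theoretic image of a quasi-compact morphism to an algebraic space pulls back, on
every affine etale chart, to the scheme theoretic image of any compact cover. -/
theorem isPullback_imageOver_of_isSchImage {Y X Z : Sp S} (hX : IsAlgSpace X) (f : Y ⟶ X)
    (hq : IsQuasiCompactMor f) (c : Z ⟶ X) (hc : IsSchImage f c) {T : Over S} [IsAffine T.left]
    (p : (yon S).obj T ⟶ X) (hpe : RepWith @Etale p) (D : CoverDatum f p) :
    ∃ q : (yon S).obj (imageOver D.g) ⟶ Z, IsPullback q ((yon S).map (imageOverι D.g)) c p := by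
  obtain ⟨U₀, p₀, hp₀e, hp₀s⟩ := hX.atlas
  let B := U₀.left.affineOpens
  let TB : B → Over S := fun b => Over.mk (b.1.ι ≫ U₀.hom)
  let ιB : ∀ b : B, TB b ⟶ U₀ := fun b => Over.homMk b.1.ι rfl
  let pB : ∀ b : B, (yon S).obj (TB b) ⟶ X := fun b => (yon S).map (ιB b) ≫ p₀
  have hpBe : ∀ b, RepWith @Etale (pB b) := fun b =>
    (RepWith @Etale).comp_mem _ _ ((repWith_yon_map_iff _ (ιB b)).2
      (show Etale b.1.ι from inferInstance)) hp₀e
  haveI hTB : ∀ b : B, IsAffine (TB b).left := fun b => b.2
  haveI hTBc : ∀ b : B, CompactSpace (TB b).left := fun b => inferInstance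
  let DB : ∀ b : B, CoverDatum f (pB b) := fun b => (nonempty_coverDatum f hq (pB b)).some
  let T' : Option B → Over S := fun o => Option.rec T TB o
  let p' : ∀ o : Option B, (yon S).obj (T' o) ⟶ X := fun o =>
    Option.rec (motive := fun o => (yon S).obj (T' o) ⟶ X) p pB o
  have hp'e : ∀ o, RepWith @Etale (p' o) := fun o => by
    cases o with
    | none => exact hpe
    | some b => exact hpBe b
  haveI hT' : ∀ o, IsAffine (T' o).left := fun o => by
    cases o with
    | none => exact (inferInstance : IsAffine T.left)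
    | some b => exact hTB b
  let D' : ∀ o : Option B, CoverDatum f (p' o) := fun o =>
    Option.rec (motive := fun o => CoverDatum f (p' o)) D DB o
  have hcov : ∀ x : Points X, ∃ o t, Points.ofPt (p' o) t = x := by
    intro x
    obtain ⟨u, rfl⟩ := surjective_ofPt p₀ hp₀s x
    obtain ⟨_, ⟨O, hO, rfl⟩, huO, -⟩ :=
      (U₀.left.isBasis_affineOpens).exists_subset_of_mem_open (Set.mem_univ u) isOpen_univ
    refine ⟨some ⟨O, hO⟩, (⟨u, huO⟩ : ↥O), ?_⟩
    change Points.ofPt ((yon S).map (ιB ⟨O, hO⟩) ≫ p₀) _ = _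
    rw [ofPt_comp_yon_map]
    rfl
  obtain ⟨Zbar, c', hc', hsq⟩ := exists_schImage_of_coverData hX f T' p' hp'e hcov D'
  obtain ⟨q', sq'⟩ : ∃ q' : (yon S).obj (imageOver D.g) ⟶ Zbar,
      IsPullback q' ((yon S).map (imageOverι D.g)) c' p := hsq none
  have hZ : IsAlgSpace Z := isAlgSpace_of_representable c hc.1.rep hX
  have hZbar : IsAlgSpace Zbar := isAlgSpace_of_representable c' hc'.1.rep hX
  obtain ⟨e, he⟩ := exists_iso_of_isSchImage f c c' hZ hZbar hc hc'
  refine ⟨q' ≫ e.inv, ?_⟩
  refine IsPullback.of_iso sq' (Iso.refl _) e.symm (Iso.refl _) (Iso.refl _) (by simp) (by simp)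
    ?_ (by simp)
  rw [Iso.refl_hom, Category.comp_id, Iso.symm_hom, ← he, Iso.inv_hom_id_assoc]

end Groth.Agent.Helper15
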