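import Groth.Agent.Lib.Helper15.AlgSpGeomPts
import Groth.Prelude.Def_AlgSpSub

/-!
# Scheme theoretic images for algebraic spaces: elementary consequences
-/

set_option autoImplicit false
universe u
open CategoryTheory CategoryTheory.Limits AlgebraicGeometry MorphismProperty Opposite
open AlgSp

namespace Groth.Agent.Helper15

variable {S : Scheme.{u}}

/-- S9972: two morphisms to a space separated over `B` which agree on a subspace whose scheme
theoretic image is everything are equal. -/
theorem eq_of_eq_on_schImage_top {U X Y B : Sp S} (hX : IsAlgSpace X) (hY : IsAlgSpace Y)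
    (hB : IsAlgSpace B) (q : Y ⟶ B)
    (hq : IsSeparatedMor q) (f g : X ⟶ Y) (hfg : f ≫ q = g ≫ q) (j : U ⟶ X)
    (hcl : IsSchImage j (𝟙 X)) (heq : j ≫ f = j ≫ g) : f = g := by
  have sqE : IsPullback (pullback.fst (pullback.lift f g hfg) (pullback.diagonal q))
      (pullback.snd (pullback.lift f g hfg) (pullback.diagonal q)) (pullback.lift f g hfg)
      (pullback.diagonal q) := IsPullback.of_hasPullback _ _
  set e := pullback.fst (pullback.lift f g hfg) (pullback.diagonal q)
  set e' := pullback.snd (pullback.lift f g hfg) (pullback.diagonal q)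
  have he : RepWith @IsClosedImmersion e := (RepWith @IsClosedImmersion).of_isPullback sqE.flip hq
  have hYY : IsAlgSpace (pullback q q) :=
    isAlgSpace_of_isPullback hB.diag hY hY (IsPullback.of_hasPullback q q)
  have hE : IsAlgSpace (pullback (pullback.lift f g hfg) (pullback.diagonal q)) :=
    isAlgSpace_of_isPullback hYY.diag hX hY sqE
  have h1 : e ≫ f = e' := by
    have := congr($(sqE.w) ≫ pullback.fst q q)
    simpa only [Category.assoc, pullback.lift_fst, pullback.diagonal_fst, Category.comp_id]
      using this
  have h2 : e ≫ g = e' := by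
    have := congr($(sqE.w) ≫ pullback.snd q q)
    simpa only [Category.assoc, pullback.lift_snd, pullback.diagonal_snd, Category.comp_id]
      using this
  have hw : j ≫ pullback.lift f g hfg = (j ≫ f) ≫ pullback.diagonal q := by
    apply pullback.hom_ext
    · rw [Category.assoc, pullback.lift_fst, Category.assoc, pullback.diagonal_fst,
        Category.comp_id]
    · rw [Category.assoc, pullback.lift_snd, Category.assoc, pullback.diagonal_snd,
        Category.comp_id, heq]
  obtain ⟨k, hk⟩ := hcl.2.2 e hE he ⟨sqE.lift j (j ≫ f) hw, sqE.lift_fst _ _ _⟩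
  calc f = (k ≫ e) ≫ f := by rw [hk, Category.id_comp]
    _ = (k ≫ e) ≫ g := by rw [Category.assoc, h1, Category.assoc, h2]
    _ = g := by rw [hk, Category.id_comp]

end Groth.Agent.Helper15
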