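import Groth.Agent.Lib.Helper15.AlgSpClosedPt
import Groth.Agent.Lib.Helper15.AlgSpClosedPt2
import Groth.Agent.Lib.Helper15.AlgSpField
import Groth.Agent.Lib.Helper15.AlgSpDiagMor

/-!
# Sections of decent spaces over a field are closed immersions; separatedness over the base
-/

set_option autoImplicit false
universe u
open CategoryTheory CategoryTheory.Limits AlgebraicGeometry MorphismProperty Opposite Topology
open AlgSp

namespace Groth.Agent.Helper15

variable {S : Scheme.{u}}

/-- A `k`-rational point (a section of a morphism to `Spec k`) of a decent space is closed. -/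
theorem isClosed_point_of_isDecent_of_section {X : Sp S} (hXa : IsAlgSpace X)
    (hX : IsDecent X) {k : Type u} [Field k] (σ : Spec (CommRingCat.of k) ⟶ S)
    (π : X ⟶ (yon S).obj (Over.mk σ)) (p : (yon S).obj (Over.mk σ) ⟶ X) (hp : p ≫ π = 𝟙 _)
    (t : ↥(Spec (CommRingCat.of k))) :
    IsClosed ({Points.ofPt p t} : Set (Points X)) := by
  rw [← closure_eq_iff_isClosed]
  refine Set.Subset.antisymm (fun x' hx' => ?_) subset_closure
  have hx : Points.ofPt p t ⤳ x' := specializes_iff_mem_closure.2 hx'
  obtain ⟨U, a, hae, has⟩ := hXa.atlas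
  obtain ⟨u', rfl⟩ := surjective_ofPt a has x'
  obtain ⟨_, ⟨U₀, hU₀, rfl⟩, hvU₀, -⟩ :=
    (U.left.isBasis_affineOpens).exists_subset_of_mem_open (Set.mem_univ u') isOpen_univ
  let U₀' : U.left.Opens := U₀
  let V : Over S := Over.mk (U₀'.ι ≫ U.hom)
  let j₀ : V ⟶ U := Over.homMk U₀'.ι rfl
  haveI : IsAffine V.left := hU₀
  have hj₀ : Etale j₀.left := (inferInstance : Etale U₀'.ι)
  have ha₀ : RepWith @Etale ((yon S).map j₀ ≫ a) :=
    (RepWith @Etale).comp_mem _ _ ((repWith_yon_map_iff _ j₀).2 hj₀) hae
  let v' : V.left := ⟨u', hvU₀⟩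
  have hv' : Points.ofPt ((yon S).map j₀ ≫ a) v' = Points.ofPt a u' := by
    rw [ofPt_comp_yon_map]; rfl
  rw [← hv'] at hx ⊢
  obtain ⟨w, hwv, hwx⟩ := exists_specializes_lift_of_isDecent hX _ ha₀ v' _ hx
  have sq := ha₀.rep.isPullback' p
  haveI h1 : Etale (ha₀.rep.snd p).left := ha₀.property_snd p
  obtain ⟨z, hz1, hz2⟩ := exists_of_ofPt_eq sq w t hwx
  let W : Over S := ha₀.rep.pullback p
  let fst : W ⟶ V := ha₀.rep.fst' p
  let snd : W ⟶ _ := ha₀.rep.snd p
  let ω := W.left.fromSpecResidueField z
  obtain ⟨g, hg⟩ := (yon S).map_surjective (((yon S).map j₀ ≫ a) ≫ π)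
  have hfg : fst ≫ g = snd := by
    apply (yon S).map_injective
    rw [Functor.map_comp, hg, ← Category.assoc, sq.w, Category.assoc, hp, Category.comp_id]
  have hcomp : (ω ≫ fst.left) ≫ g.left =
      Spec.map (snd.left.residueFieldMap z) ≫
        (Spec (CommRingCat.of k)).fromSpecResidueField (snd.left z) := by
    rw [Category.assoc, ← Over.comp_left, hfg]
    exact (Scheme.Hom.SpecMap_residueFieldMap_fromSpecResidueField snd.left z).symm
  haveI i1 : IsIntegralHom (Spec.map (snd.left.residueFieldMap z)) :=
    IsIntegralHom.SpecMap_iff.2 (isIntegral_residueFieldMap_of_unramified snd.left z)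
  haveI i2 : IsClosedImmersion
      ((Spec (CommRingCat.of k)).fromSpecResidueField (snd.left z)) :=
    isClosed_singleton_iff_isClosedImmersion.1 (by
      have : ({snd.left z} : Set (Spec (CommRingCat.of k))) = Set.univ :=
        Set.eq_univ_of_forall (fun q => Subsingleton.elim _ _)
      rw [this]; exact isClosed_univ)
  haveI i5 : IsIntegralHom ((ω ≫ fst.left) ≫ g.left) := by
    rw [hcomp]; infer_instance
  haveI : IsAffine (Over.mk σ).left := (inferInstance : IsAffine (Spec (CommRingCat.of k)))
  haveI : IsSeparated g.left := inferInstance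
  have hcl := isClosed_range_of_isIntegralHom_comp (ω ≫ fst.left) g.left
  have hrange : Set.range (ω ≫ fst.left) = {w} := by
    rw [Scheme.Hom.comp_base, TopCat.coe_comp, Set.range_comp, Scheme.range_fromSpecResidueField,
      Set.image_singleton]
    exact congrArg _ hz1
  rw [hrange] at hcl
  have : v' = w := hwv.mem_closed hcl rfl
  rw [this, hwx]
  exact Set.mem_singleton _

/-- A section of a morphism from a decent algebraic space to the spectrum of a field is a closed
immersion. -/
theorem repWith_isClosedImmersion_of_section_field {X : Sp S} (hXa : IsAlgSpace X)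
    (hX : IsDecent X) {k : Type u} [Field k] (σ : Spec (CommRingCat.of k) ⟶ S)
    (π : X ⟶ (yon S).obj (Over.mk σ)) (p : (yon S).obj (Over.mk σ) ⟶ X) (hp : p ≫ π = 𝟙 _) :
    RepWith @IsClosedImmersion p := by
  let t : ↥(Spec (CommRingCat.of k)) := IsLocalRing.closedPoint k
  have hx := isClosed_point_of_isDecent_of_section hXa hX σ π p hp t
  obtain ⟨q, hq, hqci⟩ := exists_closedImmersion_fieldPt_of_isClosed hXa hX _ hx
  have sq := hqci.rep.isPullback' p
  haveI h1 : IsClosedImmersion (hqci.rep.snd p).left := hqci.property_snd p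
  obtain ⟨z, -, hz⟩ := exists_of_ofPt_eq sq (IsLocalRing.closedPoint q.K) t
    (by rw [Points.ofPt_toHom, hq])
  have : Surjective (hqci.rep.snd p).left :=
    ⟨fun y => ⟨z, @Subsingleton.elim ↥(Spec (CommRingCat.of k)) inferInstance _ _⟩⟩
  have : IsReduced (Over.mk σ).left := (inferInstance : IsReduced (Spec (CommRingCat.of k)))
  have : IsIso (hqci.rep.snd p).left := isIso_of_isClosedImmersion_of_surjective _
  have hsnd : IsIso (hqci.rep.snd p) := by
    have : IsIso ((Over.forget S).map (hqci.rep.snd p)) := ‹IsIso (hqci.rep.snd p).left›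
    exact isIso_of_reflects_iso _ (Over.forget S)
  -- the first projection is a monomorphism to the spectrum of a field, hence an isomorphism
  haveI : Mono p := mono_of_mono_fac hp
  haveI h3 : Mono ((yon S).map (hqci.rep.fst' p)) := sq.mono_fst_of_mono ..
  haveI h4 : Mono (hqci.rep.fst' p) := (yon S).mono_of_mono_map h3
  haveI h5 : Mono (hqci.rep.fst' p).left := inferInstance
  haveI : Nonempty ↥(hqci.rep.pullback p).left := ⟨z⟩
  have hfst : IsIso (hqci.rep.fst' p).left :=
    isIso_of_mono_to_field (K := q.K) (hqci.rep.fst' p).left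
  have hfst' : IsIso (hqci.rep.fst' p) := by
    have : IsIso ((Over.forget S).map (hqci.rep.fst' p)) := hfst
    exact isIso_of_reflects_iso _ (Over.forget S)
  have e : p = (yon S).map (inv (hqci.rep.snd p) ≫ hqci.rep.fst' p) ≫ q.toHom := by
    rw [Functor.map_comp, Category.assoc, sq.w, ← Category.assoc, ← Functor.map_comp,
      IsIso.inv_hom_id, CategoryTheory.Functor.map_id, Category.id_comp]
  rw [e]
  exact (RepWith @IsClosedImmersion).comp_mem _ _ (repWith_of_isIso _ _) hqci

/-- A sheaf separated over a sheaf separated over `S` is separated over `S`. -/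
theorem isSeparatedSp_of_isSeparatedMor {X B : Sp S} (f : X ⟶ B) (hf : IsSeparatedMor f)
    (hB : IsSeparatedSp B) : IsSeparatedSp X := by
  unfold IsSeparatedSp
  rw [← diagonal_comp_prod_lift f]
  exact (RepWith @IsClosedImmersion).comp_mem _ _ hf
    ((RepWith @IsClosedImmersion).of_isPullback
      (isPullback_diag_prod_map (IsPullback.of_hasPullback f f)) hB)

theorem IsSeparatedSp.of_iso {F G : Sp S} (hF : IsSeparatedSp F) (e : F ≅ G) :
    IsSeparatedSp G := by
  unfold IsSeparatedSp at hF ⊢
  have : Limits.diag G = e.inv ≫ Limits.diag F ≫ prod.map e.hom e.hom := by ext <;> simp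
  rw [this]
  exact MorphismProperty.RespectsIso.precomp _ _ _
    (MorphismProperty.RespectsIso.postcomp _ _ _ hF)

/-- The spectrum of a field is separated over any base. -/
theorem isSeparatedSp_yon_field {k : Type u} [Field k] (σ : Spec (CommRingCat.of k) ⟶ S) :
    IsSeparatedSp ((yon S).obj (Over.mk σ)) := by
  unfold IsSeparatedSp
  rw [repWith_diag_yon_iff]
  haveI : IsSeparated (σ ≫ terminal.from S) := by
    rw [terminal.comp_from]; infer_instance
  haveI : IsSeparated σ := IsSeparated.of_comp σ (terminal.from S)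
  exact (inferInstance : IsClosedImmersion (pullback.diagonal σ))

end Groth.Agent.Helper15
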