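import Mathlib
import Groth.Agent.Lib.Helper15.AlgSpLocal

set_option autoImplicit false

universe u

open CategoryTheory CategoryTheory.Limits AlgebraicGeometry MorphismProperty TensorProduct
open AlgSp

namespace Groth.Agent.Helper15.SepAff

variable {S : Scheme.{u}}

/-- The canonical map `P ⟶ U × V` (absolute product, as a fibre product over the terminal
scheme). -/
noncomputable def toProd {U V P : Over S} (fst : P ⟶ U) (snd : P ⟶ V) :
    P.left ⟶ pullback (U.hom ≫ terminal.from S) (V.hom ≫ terminal.from S) :=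
  pullback.lift fst.left snd.left (terminal.hom_ext _ _)

theorem toProd_eq {U V P : Over S} (fst : P ⟶ U) (snd : P ⟶ V) :
    toProd fst snd = (prod.lift fst snd).left ≫ (Over.prodLeftIsoPullback U V).hom ≫
      pullback.mapDesc U.hom V.hom (terminal.from S) := by
  apply pullback.hom_ext
  · simp only [toProd, pullback.lift_fst, Category.assoc, pullback.mapDesc, pullback.map]
    rw [Category.comp_id, Over.prodLeftIsoPullback_hom_fst, ← Over.comp_left,
      prod.lift_fst]
  · simp only [toProd, pullback.lift_snd, Category.assoc, pullback.mapDesc, pullback.map]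
    rw [Category.comp_id, Over.prodLeftIsoPullback_hom_snd, ← Over.comp_left,
      prod.lift_snd]

/-- The ring map `Γ(U) ⊗_ℤ Γ(V) ⟶ Γ(P)`. -/
noncomputable def prodRingMap {U V P : Over S} (fst : P ⟶ U) (snd : P ⟶ V) :
    CommRingCat.of (Γ(U.left, ⊤) ⊗[ℤ] Γ(V.left, ⊤)) ⟶ Γ(P.left, ⊤) :=
  CommRingCat.ofHom (Algebra.TensorProduct.productMap fst.left.appTop.hom.toIntAlgHom
    snd.left.appTop.hom.toIntAlgHom).toRingHom

/-- The map `Spec (Γ(U) ⊗_ℤ Γ(V)) ⟶ U × V`. -/
noncomputable def specToProd (U V : Over S) [IsAffine U.left] [IsAffine V.left] :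
    Spec (CommRingCat.of (Γ(U.left, ⊤) ⊗[ℤ] Γ(V.left, ⊤))) ⟶
      pullback (U.hom ≫ terminal.from S) (V.hom ≫ terminal.from S) :=
  pullback.lift
    (Spec.map (CommRingCat.ofHom (Algebra.TensorProduct.includeLeft (R := ℤ) (S := ℤ)
      (A := Γ(U.left, ⊤)) (B := Γ(V.left, ⊤))).toRingHom) ≫ U.left.isoSpec.inv)
    (Spec.map (CommRingCat.ofHom (Algebra.TensorProduct.includeRight (R := ℤ)
      (A := Γ(U.left, ⊤)) (B := Γ(V.left, ⊤))).toRingHom) ≫ V.left.isoSpec.inv)
    (terminal.hom_ext _ _)

theorem toSpec_comp_specToProd {U V P : Over S} [IsAffine U.left] [IsAffine V.left]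
    (fst : P ⟶ U) (snd : P ⟶ V) :
    (P.left.toSpecΓ ≫ Spec.map (prodRingMap fst snd)) ≫ specToProd U V = toProd fst snd := by
  apply pullback.hom_ext
  · simp only [toProd, specToProd, pullback.lift_fst, Category.assoc]
    rw [← Spec.map_comp_assoc]
    have : CommRingCat.ofHom (Algebra.TensorProduct.includeLeft (R := ℤ) (S := ℤ)
        (A := Γ(U.left, ⊤)) (B := Γ(V.left, ⊤))).toRingHom ≫ prodRingMap fst snd =
        fst.left.appTop := by
      ext x
      simp [prodRingMap]
    rw [this, ← Scheme.toSpecΓ_naturality_assoc, Scheme.toSpecΓ_isoSpec_inv, Category.comp_id]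
  · simp only [toProd, specToProd, pullback.lift_snd, Category.assoc]
    rw [← Spec.map_comp_assoc]
    have : CommRingCat.ofHom (Algebra.TensorProduct.includeRight (R := ℤ)
        (A := Γ(U.left, ⊤)) (B := Γ(V.left, ⊤))).toRingHom ≫ prodRingMap fst snd =
        snd.left.appTop := by
      ext x
      simp [prodRingMap]
    rw [this, ← Scheme.toSpecΓ_naturality_assoc, Scheme.toSpecΓ_isoSpec_inv, Category.comp_id]

/-- If `P ⟶ U × V` is a closed immersion with `U`, `V` affine, then `P` is affine and
`Γ(U) ⊗_ℤ Γ(V) ⟶ Γ(P)` is surjective. -/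
theorem affine_and_surjective_of_isClosedImmersion {U V P : Over S} (hU : IsAffine U.left)
    (hV : IsAffine V.left) (fst : P ⟶ U) (snd : P ⟶ V) (h : IsClosedImmersion (toProd fst snd)) :
    IsAffine P.left ∧ Function.Surjective
      (Algebra.TensorProduct.productMap fst.left.appTop.hom.toIntAlgHom
        snd.left.appTop.hom.toIntAlgHom) := by
  have h1 : IsClosedImmersion ((P.left.toSpecΓ ≫ Spec.map (prodRingMap fst snd)) ≫
      specToProd U V) := by
    rw [toSpec_comp_specToProd]; exact h
  have h2 : IsClosedImmersion (P.left.toSpecΓ ≫ Spec.map (prodRingMap fst snd)) :=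
    IsClosedImmersion.of_comp _ (specToProd U V)
  obtain ⟨hP, hs⟩ := IsClosedImmersion.isAffine_surjective_of_isAffine
    (P.left.toSpecΓ ≫ Spec.map (prodRingMap fst snd))
  refine ⟨hP, ?_⟩
  have e : (P.left.toSpecΓ ≫ Spec.map (prodRingMap fst snd)).appTop =
      (Scheme.ΓSpecIso _).hom ≫ prodRingMap fst snd := by
    rw [Scheme.Hom.comp_appTop, Scheme.toSpecΓ_appTop, Scheme.ΓSpecIso_naturality]
  rw [e] at hs
  intro y
  obtain ⟨x, hx⟩ := hs y
  exact ⟨(Scheme.ΓSpecIso _).hom x, hx⟩

theorem isAffine_terminal : IsAffine (⊤_ Scheme.{u}) :=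
  .of_isIso (terminalIsTerminal.uniqueUpToIso specULiftZIsTerminal).hom

/-- Conversely, if `P` is affine and `Γ(U) ⊗_ℤ Γ(V) ⟶ Γ(P)` is surjective, then `P ⟶ U × V` is a
closed immersion. -/
theorem isClosedImmersion_toProd_of_surjective {U V P : Over S} (hU : IsAffine U.left)
    (hV : IsAffine V.left) (fst : P ⟶ U) (snd : P ⟶ V) (hP : IsAffine P.left)
    (hs : Function.Surjective
      (Algebra.TensorProduct.productMap fst.left.appTop.hom.toIntAlgHom
        snd.left.appTop.hom.toIntAlgHom)) : IsClosedImmersion (toProd fst snd) := by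
  haveI := isAffine_terminal.{u}
  haveI : IsAffine (pullback (U.hom ≫ terminal.from S) (V.hom ≫ terminal.from S)) := inferInstance
  rw [HasAffineProperty.iff_of_isAffine (P := @IsClosedImmersion)]
  refine ⟨hP, ?_⟩
  have h1 : ∀ a, (toProd fst snd).appTop ((pullback.fst (U.hom ≫ terminal.from S)
      (V.hom ≫ terminal.from S)).appTop a) = fst.left.appTop a := by
    intro a
    rw [← CommRingCat.comp_apply, ← Scheme.Hom.comp_appTop]
    simp only [toProd, pullback.lift_fst]
  have h2 : ∀ b, (toProd fst snd).appTop ((pullback.snd (U.hom ≫ terminal.from S)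
      (V.hom ≫ terminal.from S)).appTop b) = snd.left.appTop b := by
    intro b
    rw [← CommRingCat.comp_apply, ← Scheme.Hom.comp_appTop]
    simp only [toProd, pullback.lift_snd]
  intro y
  obtain ⟨t, rfl⟩ := hs y
  induction t using TensorProduct.induction_on with
  | zero => exact ⟨0, by simp⟩
  | tmul a b =>
    refine ⟨(pullback.fst (U.hom ≫ terminal.from S) (V.hom ≫ terminal.from S)).appTop a *
      (pullback.snd (U.hom ≫ terminal.from S) (V.hom ≫ terminal.from S)).appTop b, ?_⟩
    rw [map_mul, h1, h2]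
    simp
  | add x y hx hy =>
    obtain ⟨x', hx'⟩ := hx
    obtain ⟨y', hy'⟩ := hy
    exact ⟨x' + y', by rw [map_add, map_add, hx', hy']⟩

/-- Under the same hypotheses `P ⟶ U ×_S V` is a closed immersion. -/
theorem isClosedImmersion_prod_lift_of_surjective {U V P : Over S} (hU : IsAffine U.left)
    (hV : IsAffine V.left) (fst : P ⟶ U) (snd : P ⟶ V) (hP : IsAffine P.left)
    (hs : Function.Surjective
      (Algebra.TensorProduct.productMap fst.left.appTop.hom.toIntAlgHom
        snd.left.appTop.hom.toIntAlgHom)) : IsClosedImmersion (prod.lift fst snd).left := by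
  have h := isClosedImmersion_toProd_of_surjective hU hV fst snd hP hs
  rw [toProd_eq] at h
  exact IsClosedImmersion.of_comp _ ((Over.prodLeftIsoPullback U V).hom ≫
      pullback.mapDesc U.hom V.hom (terminal.from S))

/-- A sheaf with representable diagonal such that fibre products of affines over it are affine
with surjective ring map is separated. -/
theorem isSeparatedSp_of_affine_pullback {X : Sp S} (hX : Representable (Limits.diag X))
    (h : ∀ (U V P : Over S) (a : (AlgSp.yon S).obj U ⟶ X) (b : (AlgSp.yon S).obj V ⟶ X)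
      (fst : P ⟶ U) (snd : P ⟶ V),
      IsAffine U.left → IsAffine V.left →
      IsPullback ((AlgSp.yon S).map fst) ((AlgSp.yon S).map snd) a b →
        IsAffine P.left ∧ Function.Surjective
          (Algebra.TensorProduct.productMap fst.left.appTop.hom.toIntAlgHom
            snd.left.appTop.hom.toIntAlgHom)) :
    IsSeparatedSp X := by
  refine repWith_diag_of_forall_affine hX @IsClosedImmersion (fun T W hT a b fst snd sq => ?_)
  obtain ⟨hP, hs⟩ := h T T W a b fst snd hT hT sq
  have h1 := isClosedImmersion_prod_lift_of_surjective hT hT fst snd hP hs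
  have sqL := (IsPullback.of_hasPullback (prod.lift fst snd) (Limits.diag T)).map (Over.forget S)
  exact MorphismProperty.of_isPullback (P := @IsClosedImmersion) sqL h1

/-- Over a separated base, fibre products of affines over a separated sheaf are affine with
surjective ring map. -/
theorem affine_pullback_of_isSeparatedSp [S.IsSeparated] {X : Sp S} (hX : IsSeparatedSp X)
    {U V P : Over S} (a : (AlgSp.yon S).obj U ⟶ X) (b : (AlgSp.yon S).obj V ⟶ X)
    (fst : P ⟶ U) (snd : P ⟶ V) (hU : IsAffine U.left) (hV : IsAffine V.left)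
    (h : IsPullback ((AlgSp.yon S).map fst) ((AlgSp.yon S).map snd) a b) :
    IsAffine P.left ∧ Function.Surjective
      (Algebra.TensorProduct.productMap fst.left.appTop.hom.toIntAlgHom
        snd.left.appTop.hom.toIntAlgHom) := by
  have h1 : IsClosedImmersion (prod.lift fst snd).left := prod_lift_of_repWith_diag hX h
  refine affine_and_surjective_of_isClosedImmersion hU hV fst snd ?_
  rw [toProd_eq]
  infer_instance

end Groth.Agent.Helper15.SepAff
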