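import Groth.Agent.Lib.Helper15.AlgSpQc
import Groth.Prelude.Def_SGA1

/-!
# Submersive morphisms of algebraic spaces
-/

set_option autoImplicit false
universe u
open CategoryTheory CategoryTheory.Limits AlgebraicGeometry MorphismProperty Opposite
open AlgSp

namespace Groth.Agent.Helper15

variable {S : Scheme.{u}}

theorem isQuotientMap_of_isSubmersiveMor_yon_map {T T' : Over S} (φ : T ⟶ T')
    (h : IsSubmersiveMor ((yon S).map φ)) : Topology.IsQuotientMap φ.left := by
  change Topology.IsQuotientMap (Points.map ((yon S).map φ)) at h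
  rw [Points.map_yon_map_eq] at h
  have h2 := ((Points.schemeHomeo T').symm.isQuotientMap.comp h).comp
    (Points.schemeHomeo T).isQuotientMap
  convert h2 using 1
  ext t
  simp

instance : (topologically fun {α β : Type u} [TopologicalSpace α] [TopologicalSpace β]
    (f : α → β) => Topology.IsQuotientMap f).RespectsIso :=
  topologically_respectsIso _ (fun e => e.isQuotientMap) (fun _ _ hf hg => hg.comp hf)

/-- A map representable by quotient maps, to a sheaf with an etale surjective chart, is a
quotient map on points. -/
theorem isSubmersiveMor_of_repWith {X Y : Sp S} (f : X ⟶ Y) {P : MorphismProperty Scheme.{u}}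
    (hP : ∀ {A B : Scheme.{u}} (φ : A ⟶ B), P φ → Topology.IsQuotientMap φ) (hf : RepWith P f)
    {W : Over S} (q : (yon S).obj W ⟶ Y) (hqe : RepWith @Etale q)
    (hqs : RepWith @Surjective q) : IsSubmersiveMor f := by
  have hrep := hf.rep
  have sq := hrep.isPullback q
  have hquot : Topology.IsQuotientMap (Points.ofPt q) :=
    (isOpenMap_ofPt_of_etale q hqe).isQuotientMap (Points.continuous_ofPt q)
      (surjective_ofPt q hqs)
  have h1 : Topology.IsQuotientMap (Points.ofPt q ∘ (hrep.snd q).left) :=
    hquot.comp (hP _ (hf.property_snd q))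
  have h2 : Points.ofPt q ∘ (hrep.snd q).left = Points.map f ∘ Points.ofPt (hrep.fst q) := by
    funext w'
    exact (map_ofPt_fst_eq sq w').symm
  rw [h2] at h1
  exact Topology.IsQuotientMap.of_comp (Points.continuous_ofPt _) (Points.continuous_map f) h1

theorem isUnivSubmersiveMor_of_repWith {X Y : Sp S} (f : X ⟶ Y)
    (hf : RepWith SGA1.UnivSubmersive f) : IsUnivSubmersiveMor f := by
  intro Z Z' hZ g fst snd sq
  obtain ⟨W, q, hqe, hqs⟩ := hZ.atlas
  haveI : SGA1.UnivSubmersive.{u}.IsStableUnderBaseChange := by
    unfold SGA1.UnivSubmersive; infer_instance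
  exact isSubmersiveMor_of_repWith snd (P := SGA1.UnivSubmersive)
    (fun φ hφ => by
      have := MorphismProperty.universally_le (P := topologically
        fun {α β : Type u} [TopologicalSpace α] [TopologicalSpace β]
          (f : α → β) => Topology.IsQuotientMap f) _ hφ
      exact this)
    ((RepWith SGA1.UnivSubmersive).of_isPullback sq hf) q hqe hqs

theorem repWith_univSubmersive_iff {X Y : Sp S} (f : X ⟶ Y) (hrep : Representable f) :
    RepWith SGA1.UnivSubmersive f ↔ IsUnivSubmersiveMor f := by
  refine ⟨isUnivSubmersiveMor_of_repWith f, fun h => ?_⟩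
  exact repWith_universally_of_univSp f hrep _ IsSubmersiveMor
    (fun φ hφ => isQuotientMap_of_isSubmersiveMor_yon_map φ hφ) h

end Groth.Agent.Helper15
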