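import Groth.Agent.Lib.Helper15.AlgSpOpen
import Groth.Prelude.Def_AlgSpMor5

/-!
# Valuative criteria for morphisms of algebraic spaces
-/

set_option autoImplicit false
universe u
open CategoryTheory CategoryTheory.Limits AlgebraicGeometry MorphismProperty TopologicalSpace
open AlgSp

namespace Groth.Agent.Helper15
variable {S : Scheme.{u}}

/-- A closed immersion into `Spec A` through which `Spec K ⟶ Spec A` factors, for `A → K` injective, is an iso. -/
theorem isIso_of_isClosedImmersion_of_factors {A K : CommRingCat.{u}} (φ : A ⟶ K)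
    (hφ : Function.Injective φ.hom) {W : Scheme.{u}} (g : W ⟶ Spec A) [IsClosedImmersion g]
    (k : Spec K ⟶ W) (hk : k ≫ g = Spec.map φ) : IsIso g := by
  apply IsClosedImmersion.isIso_of_injective_of_isAffine
  have h1 : g.appTop ≫ k.appTop = (Spec.map φ).appTop := by
    rw [← Scheme.Hom.comp_appTop, hk]
  have h2 : Function.Injective (Spec.map φ).appTop.hom := by
    have := Scheme.ΓSpecIso_naturality φ
    have h3 : (Spec.map φ).appTop = (Scheme.ΓSpecIso A).hom ≫ φ ≫ (Scheme.ΓSpecIso K).inv := by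
      rw [← Category.assoc, ← this]; simp
    rw [h3]
    simp only [CommRingCat.hom_comp, RingHom.coe_comp]
    exact ((ConcreteCategory.bijective_of_isIso (Scheme.ΓSpecIso K).inv).1.comp hφ).comp
      (ConcreteCategory.bijective_of_isIso (Scheme.ΓSpecIso A).hom).1
  rw [← h1] at h2
  simp only [CommRingCat.hom_comp, RingHom.coe_comp] at h2
  exact Function.Injective.of_comp h2

/-- S10290: a separated morphism satisfies the uniqueness part of the valuative criterion. -/
theorem uniqVC_of_isSeparatedMor {F G : Sp S} (f : F ⟶ G) (hf : IsSeparatedMor f) : UniqVC f := by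
  intro sq l l' h1 h2 h1' h2'
  let d : (yon S).obj sq.ptA ⟶ pullback f f := pullback.lift l l' (by rw [h2, h2'])
  have hrep := hf.1
  have hpb := hrep.isPullback d
  have hcl : IsClosedImmersion (hrep.snd d).left := hf.2 d _ _ hpb
  have hw : sq.top ≫ pullback.diagonal f = (yon S).map sq.j ≫ d := by
    apply pullback.hom_ext
    · rw [Category.assoc, Category.assoc, pullback.diagonal_fst, pullback.lift_fst, h1,
        Category.comp_id]
    · rw [Category.assoc, Category.assoc, pullback.diagonal_snd, pullback.lift_snd, h1',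
        Category.comp_id]
  obtain ⟨k, hk⟩ := (yon S).map_surjective (hpb.lift sq.top ((yon S).map sq.j) hw)
  have hk2 : k ≫ hrep.snd d = sq.j := (yon S).map_injective (by
    rw [Functor.map_comp, hk, hpb.lift_snd])
  have hk3 : k.left ≫ (hrep.snd d).left = Spec.map (CommRingCat.ofHom (algebraMap sq.A sq.K)) := by
    rw [← Over.comp_left, hk2]; rfl
  haveI : IsIso (hrep.snd d).left := isIso_of_isClosedImmersion_of_factors
    (CommRingCat.ofHom (algebraMap sq.A sq.K)) (IsFractionRing.injective sq.A sq.K) _ k.left hk3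
  haveI : IsIso ((Over.forget S).map (hrep.snd d)) := this
  haveI : IsIso (hrep.snd d) := isIso_of_reflects_iso _ (Over.forget S)
  have hd : d = inv ((yon S).map (hrep.snd d)) ≫ hrep.fst d ≫ pullback.diagonal f := by
    rw [hpb.w, IsIso.inv_hom_id_assoc]
  have e1 : l = d ≫ pullback.fst f f := (pullback.lift_fst _ _ _).symm
  have e2 : l' = d ≫ pullback.snd f f := (pullback.lift_snd _ _ _).symm
  rw [e1, e2, hd]
  simp only [Category.assoc, pullback.diagonal_fst, pullback.diagonal_snd]

/-- The valuative square obtained by composing with a commutative square of sheaves. -/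
noncomputable abbrev valSqPush {F G F' G' : Sp S} {f : F ⟶ G} {f' : F' ⟶ G'} (sq : ValSq f')
    (a : F' ⟶ F) (b : G' ⟶ G) (w : a ≫ f = f' ≫ b) : ValSq f where
  A := sq.A
  K := sq.K
  str := sq.str
  top := sq.top ≫ a
  bot := sq.bot ≫ b
  comm := by rw [Category.assoc, w, ← Category.assoc, sq.comm, Category.assoc]

/-- S10286 (uniqueness part). -/
theorem uniqVC_of_isPullback {X Y Z X' : Sp S} {f : X ⟶ Y} {g : Z ⟶ Y} {fst : X' ⟶ X}
    {f' : X' ⟶ Z} (pb : IsPullback fst f' f g) (h : UniqVC f) : UniqVC f' := by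
  intro sq l l' h1 h2 h1' h2'
  have p1 : (yon S).map sq.j ≫ l ≫ fst = sq.top ≫ fst := by rw [← Category.assoc, h1]
  have p2 : (l ≫ fst) ≫ f = sq.bot ≫ g := by rw [Category.assoc, pb.w, ← Category.assoc, h2]
  have p3 : (yon S).map sq.j ≫ l' ≫ fst = sq.top ≫ fst := by rw [← Category.assoc, h1']
  have p4 : (l' ≫ fst) ≫ f = sq.bot ≫ g := by rw [Category.assoc, pb.w, ← Category.assoc, h2']
  apply pb.hom_ext
  · exact h (valSqPush sq fst g pb.w) (l ≫ fst) (l' ≫ fst) p1 p2 p3 p4
  · rw [h2, h2']

/-- Transport a dominating extension along `ValSq.push`. -/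
noncomputable abbrev domExtOfPush {F G F' G' : Sp S} {f : F ⟶ G} {f' : F' ⟶ G'}
    {sq : ValSq f'} {a : F' ⟶ F} {b : G' ⟶ G} {w : a ≫ f = f' ≫ b}
    (e : (valSqPush sq a b w).DomExt) : sq.DomExt where
  A' := e.A'
  K' := e.K'
  φ := e.φ
  ψ := e.ψ
  comm := e.comm
  isLocalHom := e.isLocalHom

/-- S10286 (existence part). -/
theorem existVC_of_isPullback {X Y Z X' : Sp S} {f : X ⟶ Y} {g : Z ⟶ Y} {fst : X' ⟶ X}
    {f' : X' ⟶ Z} (pb : IsPullback fst f' f g) (h : ExistVC f) : ExistVC f' := by
  intro sq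
  obtain ⟨e, l, hl1, hl2⟩ := h (valSqPush sq fst g pb.w)
  have hl2' : l ≫ f = ((yon S).map (Over.homMk (Spec.map (CommRingCat.ofHom e.φ)) rfl :
      e.ptA' ⟶ sq.ptA) ≫ sq.bot) ≫ g := by
    rw [Category.assoc]; exact hl2
  refine ⟨domExtOfPush e, pb.lift l _ hl2', ?_, pb.lift_snd _ _ _⟩
  apply pb.hom_ext
  · rw [Category.assoc, pb.lift_fst, Category.assoc]
    exact hl1
  · rw [Category.assoc, pb.lift_snd, Category.assoc, sq.comm, ← Category.assoc,
      ← Category.assoc, ← Functor.map_comp, ← Functor.map_comp]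
    congr 2
    ext
    change Spec.map _ ≫ Spec.map _ = Spec.map _ ≫ Spec.map _
    rw [← Spec.map_comp, ← Spec.map_comp, ← CommRingCat.ofHom_comp, ← CommRingCat.ofHom_comp]
    exact congrArg (fun t => Spec.map (CommRingCat.ofHom t)) e.comm

/-- S10287 (uniqueness part). -/
theorem uniqVC_comp {X Y Z : Sp S} (f : X ⟶ Y) (g : Y ⟶ Z) (hf : UniqVC f) (hg : UniqVC g) :
    UniqVC (f ≫ g) := by
  intro sq l l' h1 h2 h1' h2'
  have w : f ≫ g = (f ≫ g) ≫ 𝟙 Z := by rw [Category.comp_id]
  have p1 : (yon S).map sq.j ≫ l ≫ f = sq.top ≫ f := by rw [← Category.assoc, h1]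
  have p2 : (l ≫ f) ≫ g = sq.bot ≫ 𝟙 Z := by rw [Category.assoc, h2, Category.comp_id]
  have p3 : (yon S).map sq.j ≫ l' ≫ f = sq.top ≫ f := by rw [← Category.assoc, h1']
  have p4 : (l' ≫ f) ≫ g = sq.bot ≫ 𝟙 Z := by rw [Category.assoc, h2', Category.comp_id]
  have e : l ≫ f = l' ≫ f := hg (valSqPush sq f (𝟙 Z) w) (l ≫ f) (l' ≫ f) p1 p2 p3 p4
  let sqf : ValSq f :=
    { A := sq.A, K := sq.K, str := sq.str, top := sq.top, bot := l ≫ f
      comm := by rw [← h1, Category.assoc] }
  exact hf sqf l l' h1 rfl h1' e.symm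

/-- Introduction rule for `DomExt.HasLift` with propositionally equal structure maps. -/
theorem domExt_hasLift_of {F G : Sp S} {f : F ⟶ G} {sq : ValSq f} (e : sq.DomExt)
    (strA : Spec (.of e.A') ⟶ S) (strK : Spec (.of e.K') ⟶ S)
    (hA : Spec.map (CommRingCat.ofHom e.φ) ≫ sq.str = strA)
    (hK : Spec.map (CommRingCat.ofHom (algebraMap e.A' e.K')) ≫ strA = strK)
    (hK' : Spec.map (CommRingCat.ofHom e.ψ) ≫ sq.ptK.hom = strK)
    (l : (yon S).obj (Over.mk strA) ⟶ F)
    (h1 : (yon S).map (Over.homMk (Spec.map (CommRingCat.ofHom (algebraMap e.A' e.K'))) hK :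
        Over.mk strK ⟶ Over.mk strA) ≫ l =
      (yon S).map (Over.homMk (Spec.map (CommRingCat.ofHom e.ψ)) hK' : Over.mk strK ⟶ sq.ptK) ≫
        sq.top)
    (h2 : l ≫ f = (yon S).map (Over.homMk (Spec.map (CommRingCat.ofHom e.φ)) hA :
        Over.mk strA ⟶ sq.ptA) ≫ sq.bot) : e.HasLift := by
  subst hA
  subst hK
  exact ⟨l, h1, h2⟩

/-- S10287 (existence part). -/
theorem existVC_comp {X Y Z : Sp S} (f : X ⟶ Y) (g : Y ⟶ Z) (hf : ExistVC f) (hg : ExistVC g) :
    ExistVC (f ≫ g) := by
  intro sq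
  have w : f ≫ g = (f ≫ g) ≫ 𝟙 Z := by rw [Category.comp_id]
  obtain ⟨e1, l1, h11, h12⟩ := hg (valSqPush sq f (𝟙 Z) w)
  let sqf : ValSq f :=
    { A := e1.A', K := e1.K', str := Spec.map (CommRingCat.ofHom e1.φ) ≫ sq.str
      top := (yon S).map (Over.homMk (Spec.map (CommRingCat.ofHom e1.ψ)) (by
          change Spec.map _ ≫ Spec.map _ ≫ _ = Spec.map _ ≫ Spec.map _ ≫ _
          rw [← Spec.map_comp_assoc, ← Spec.map_comp_assoc, ← CommRingCat.ofHom_comp,
            ← CommRingCat.ofHom_comp, e1.comm]) : e1.ptK' ⟶ sq.ptK) ≫ sq.top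
      bot := l1
      comm := by rw [Category.assoc]; exact h11.symm }
  obtain ⟨e2, l2, h21, h22⟩ := hf sqf
  let e : sq.DomExt :=
    { A' := e2.A', K' := e2.K', φ := e2.φ.comp e1.φ, ψ := e2.ψ.comp e1.ψ
      comm := by
        rw [← RingHom.comp_assoc, e2.comm, RingHom.comp_assoc, e1.comm, RingHom.comp_assoc]
      isLocalHom := by
        haveI := e1.isLocalHom
        haveI := e2.isLocalHom
        exact RingHom.isLocalHom_comp _ _ }
  refine ⟨e, domExt_hasLift_of e e2.ptA'.hom e2.ptK'.hom ?_ rfl ?_ l2 ?_ ?_⟩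
  · change Spec.map (CommRingCat.ofHom (e2.φ.comp e1.φ)) ≫ sq.str =
      Spec.map (CommRingCat.ofHom e2.φ) ≫ Spec.map (CommRingCat.ofHom e1.φ) ≫ sq.str
    rw [CommRingCat.ofHom_comp, Spec.map_comp, Category.assoc]
  · change Spec.map (CommRingCat.ofHom (e2.ψ.comp e1.ψ)) ≫
        Spec.map (CommRingCat.ofHom (algebraMap sq.A sq.K)) ≫ sq.str =
      Spec.map (CommRingCat.ofHom (algebraMap e2.A' e2.K')) ≫
        Spec.map (CommRingCat.ofHom e2.φ) ≫ Spec.map (CommRingCat.ofHom e1.φ) ≫ sq.str
    rw [← Spec.map_comp_assoc, ← Spec.map_comp_assoc, ← Spec.map_comp_assoc,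
      ← CommRingCat.ofHom_comp, ← CommRingCat.ofHom_comp, ← CommRingCat.ofHom_comp]
    congr 3
    rw [RingHom.comp_assoc, ← e1.comm, ← RingHom.comp_assoc, ← e2.comm, RingHom.comp_assoc]
  · refine h21.trans ?_
    change _ ≫ _ ≫ sq.top = _
    rw [← Category.assoc, ← Functor.map_comp]
    congr 2
    ext
    change Spec.map _ ≫ Spec.map _ = Spec.map _
    rw [← Spec.map_comp, ← CommRingCat.ofHom_comp]
  · rw [← Category.assoc, h22]
    change (_ ≫ l1) ≫ g = _
    rw [Category.assoc, h12]
    change _ ≫ _ ≫ sq.bot ≫ 𝟙 Z = _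
    rw [Category.comp_id, ← Category.assoc, ← Functor.map_comp]
    congr 2
    ext
    change Spec.map _ ≫ Spec.map _ = Spec.map _
    rw [← Spec.map_comp, ← CommRingCat.ofHom_comp]

/-- S10291: a quasi-separated morphism satisfying the uniqueness part of the valuative criterion
is separated. -/
theorem isSeparatedMor_of_quasiSeparated_uniqVC {X Y : Sp S} (hX : IsAlgSpace X) (f : X ⟶ Y)
    (hqs : IsQuasiSeparatedMor f) (hu : UniqVC f) : IsSeparatedMor f := by
  obtain ⟨hrep, hlft, hmono, -, -⟩ := diagonal_properties hX f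
  refine ⟨hrep, fun T W b fstW snd hpb => ?_⟩
  haveI : QuasiCompact snd.left := hqs.2 b fstW snd hpb
  haveI : LocallyOfFiniteType snd.left := hlft.2 b fstW snd hpb
  haveI : Mono snd.left := hmono.2 b fstW snd hpb
  change IsClosedImmersion snd.left
  rw [IsClosedImmersion.iff_isProper_and_mono]
  refine ⟨?_, inferInstance⟩
  suffices h : ValuativeCriterion.Existence snd.left by
    haveI := UniversallyClosed.of_valuativeCriterion snd.left h
    exact {}
  intro Sq
  let strR : Spec (.of Sq.R) ⟶ S := Sq.i₂ ≫ T.hom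
  let iR : Over.mk strR ⟶ T := Over.homMk Sq.i₂ rfl
  have hiK : Sq.i₁ ≫ W.hom = Spec.map (CommRingCat.ofHom (algebraMap Sq.R Sq.K)) ≫ strR := by
    rw [← Over.w snd, ← Category.assoc, Sq.commSq.w, Category.assoc]
  let iK : Over.mk (Spec.map (CommRingCat.ofHom (algebraMap Sq.R Sq.K)) ≫ strR) ⟶ W :=
    Over.homMk Sq.i₁ hiK
  let jj : Over.mk (Spec.map (CommRingCat.ofHom (algebraMap Sq.R Sq.K)) ≫ strR) ⟶ Over.mk strR :=
    Over.homMk (Spec.map (CommRingCat.ofHom (algebraMap Sq.R Sq.K))) rfl
  have hjj : iK ≫ snd = jj ≫ iR := by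
    ext
    exact Sq.commSq.w
  let a1 : (yon S).obj (Over.mk strR) ⟶ X := ((yon S).map iR ≫ b) ≫ pullback.fst f f
  let a2 : (yon S).obj (Over.mk strR) ⟶ X := ((yon S).map iR ≫ b) ≫ pullback.snd f f
  have hkey1 : (yon S).map jj ≫ a1 = (yon S).map iK ≫ fstW := by
    have : fstW = (yon S).map snd ≫ b ≫ pullback.fst f f := by
      rw [← Category.assoc, ← hpb.w, Category.assoc, pullback.diagonal_fst, Category.comp_id]
    calc (yon S).map jj ≫ a1
        = ((yon S).map jj ≫ (yon S).map iR) ≫ b ≫ pullback.fst f f := by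
          simp only [a1, Category.assoc]
      _ = ((yon S).map iK ≫ (yon S).map snd) ≫ b ≫ pullback.fst f f := by
          rw [← Functor.map_comp, ← hjj, Functor.map_comp]
      _ = (yon S).map iK ≫ fstW := by rw [this, Category.assoc]
  have hkey2 : (yon S).map jj ≫ a2 = (yon S).map iK ≫ fstW := by
    have : fstW = (yon S).map snd ≫ b ≫ pullback.snd f f := by
      rw [← Category.assoc, ← hpb.w, Category.assoc, pullback.diagonal_snd, Category.comp_id]
    calc (yon S).map jj ≫ a2
        = ((yon S).map jj ≫ (yon S).map iR) ≫ b ≫ pullback.snd f f := by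
          simp only [a2, Category.assoc]
      _ = ((yon S).map iK ≫ (yon S).map snd) ≫ b ≫ pullback.snd f f := by
          rw [← Functor.map_comp, ← hjj, Functor.map_comp]
      _ = (yon S).map iK ≫ fstW := by rw [this, Category.assoc]
  let sqv : ValSq f :=
    { A := Sq.R, K := Sq.K, str := strR, top := (yon S).map iK ≫ fstW, bot := a1 ≫ f
      comm := by rw [← hkey1, Category.assoc] }
  have h12 : a1 = a2 := hu sqv a1 a2 hkey1 rfl hkey2 (by
    change a2 ≫ f = a1 ≫ f
    simp only [a1, a2, Category.assoc, pullback.condition])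
  have hb : a1 ≫ pullback.diagonal f = (yon S).map iR ≫ b := by
    apply pullback.hom_ext
    · rw [Category.assoc, pullback.diagonal_fst, Category.comp_id]
    · rw [Category.assoc, pullback.diagonal_snd, Category.comp_id, h12]
  obtain ⟨m, hm⟩ := (yon S).map_surjective (hpb.lift a1 ((yon S).map iR) hb)
  have hm2 : m ≫ snd = iR := (yon S).map_injective (by rw [Functor.map_comp, hm, hpb.lift_snd])
  have hm3 : m.left ≫ snd.left = Sq.i₂ := by rw [← Over.comp_left, hm2]; rfl
  refine ⟨⟨⟨m.left, ?_, hm3⟩⟩⟩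
  rw [← cancel_mono snd.left, Category.assoc, hm3, Sq.commSq.w]

open IsLocalRing

theorem isClosed_image_of_stableUnderSpecialization_of_isAffine {U W : Scheme.{u}} [IsAffine U]
    [IsAffine W] (h : U ⟶ W) (D : Set U) (hD : IsClosed D)
    (hs : StableUnderSpecialization (h '' D)) : IsClosed (h '' D) := by
  have e : h ≫ W.isoSpec.hom = U.isoSpec.hom ≫ Spec.map h.appTop :=
    (Scheme.isoSpec_hom_naturality h).symm
  let D' : Set (Spec Γ(U, ⊤)) := U.isoSpec.hom '' D
  have hD' : IsClosed D' := (Scheme.homeoOfIso U.isoSpec).isClosedMap _ hD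
  have him : W.isoSpec.hom '' (h '' D) = (Spec.map h.appTop) '' D' := by
    simp only [D', Set.image_image]
    congr 1
    ext x
    exact congrArg (fun φ : U ⟶ _ => φ x) e
  have h1 : IsClosed (W.isoSpec.hom '' (h '' D)) := by
    have hs' : StableUnderSpecialization ((Spec.map h.appTop) '' D') := by
      rw [← him]
      exact hs.image (Scheme.homeoOfIso W.isoSpec).isClosedMap.specializingMap
    rw [him]
    exact PrimeSpectrum.isClosed_image_of_stableUnderSpecialization h.appTop.hom D' hD' hs'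
  have := (Scheme.homeoOfIso W.isoSpec).isClosed_image.1 h1
  exact this

set_option backward.isDefEq.respectTransparency.types false in
/-- Key specialization lemma for the existence part of the valuative criterion. -/
theorem exists_mem_of_specializes_of_existVC {X Y : Sp S} (f : X ⟶ Y) (he : ExistVC f)
    {U W : Over S} (a : (yon S).obj U ⟶ X) (q : (yon S).obj W ⟶ Y) (h : U ⟶ W)
    (comm : a ≫ f = (yon S).map h ≫ q) (C : Set (Points X)) (hC : IsClosed C)
    (u' : U.left) (hu' : Points.ofPt a u' ∈ C) (w : W.left) (hw : h.left u' ⤳ w) :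
    ∃ x ∈ C, Points.map f x = Points.ofPt q w := by
  let sres : W.left.presheaf.stalk w ⟶ U.left.residueField u' :=
    W.left.presheaf.stalkSpecializes hw ≫ h.left.stalkMap u' ≫ U.left.residue u'
  obtain ⟨A, hA, hA_local⟩ := exists_factor_valuationRing sres.hom
  let toA : W.left.presheaf.stalk w ⟶ .of A := CommRingCat.ofHom (sres.hom.codRestrict _ hA)
  have hw' : U.left.fromSpecResidueField u' ≫ h.left =
      Spec.map (CommRingCat.ofHom (algebraMap A (U.left.residueField u'))) ≫
        Spec.map toA ≫ W.left.fromSpecStalk w := by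
    rw [Scheme.fromSpecResidueField, Category.assoc, ← Scheme.SpecMap_stalkMap_fromSpecStalk,
      ← Scheme.SpecMap_stalkSpecializes_fromSpecStalk hw]
    simp_rw [← Spec.map_comp_assoc]
    rfl
  let strA : Spec (.of A) ⟶ S := (Spec.map toA ≫ W.left.fromSpecStalk w) ≫ W.hom
  let β : Over.mk strA ⟶ W := Over.homMk (Spec.map toA ≫ W.left.fromSpecStalk w) rfl
  have hρ : U.left.fromSpecResidueField u' ≫ U.hom =
      Spec.map (CommRingCat.ofHom (algebraMap A (U.left.residueField u'))) ≫ strA := by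
    rw [← Over.w h, ← Category.assoc, hw']
    simp only [strA, Category.assoc]
  let ρ : Over.mk (Spec.map (CommRingCat.ofHom (algebraMap A (U.left.residueField u'))) ≫ strA) ⟶
      U := Over.homMk (U.left.fromSpecResidueField u') hρ
  let jj : Over.mk (Spec.map (CommRingCat.ofHom (algebraMap A (U.left.residueField u'))) ≫ strA) ⟶
      Over.mk strA := Over.homMk (Spec.map (CommRingCat.ofHom (algebraMap A _))) rfl
  have hρh : ρ ≫ h = jj ≫ β := by
    ext
    exact hw'
  let sq : ValSq f :=
    { A := A, K := U.left.residueField u', str := strA, top := (yon S).map ρ ≫ a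
      bot := (yon S).map β ≫ q
      comm := by
        calc ((yon S).map ρ ≫ a) ≫ f = (yon S).map ρ ≫ (yon S).map h ≫ q := by
              rw [Category.assoc, comm]
          _ = (yon S).map (ρ ≫ h) ≫ q := by rw [Functor.map_comp, Category.assoc]
          _ = (yon S).map (jj ≫ β) ≫ q := by rw [hρh]
          _ = (yon S).map jj ≫ (yon S).map β ≫ q := by rw [Functor.map_comp, Category.assoc] }
  obtain ⟨e, l, hl1, hl2⟩ := he sq
  haveI := e.isLocalHom
  let c : e.ptA'.left := closedPoint e.A'
  let η : e.ptK'.left := closedPoint e.K'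
  refine ⟨Points.ofPt l c, ?_, ?_⟩
  · have hη : Points.ofPt l ((Spec.map (CommRingCat.ofHom (algebraMap e.A' e.K'))) η) =
        Points.ofPt a u' := by
      refine (ofPt_comp_yon_map (Over.homMk (Spec.map (CommRingCat.ofHom (algebraMap e.A' e.K'))) rfl :
        e.ptK' ⟶ e.ptA') l η).symm.trans ?_
      rw [hl1]
      change Points.ofPt (_ ≫ (yon S).map ρ ≫ a) η = _
      rw [ofPt_comp_yon_map, ofPt_comp_yon_map]
      congr 1
      exact Scheme.fromSpecResidueField_apply _ _
    have hsp : (Spec.map (CommRingCat.ofHom (algebraMap e.A' e.K'))) η ⤳ c :=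
      specializes_closedPoint (R := e.A') _
    have := hsp.map (Points.continuous_ofPt l)
    rw [hη] at this
    exact this.mem_closed hC hu'
  · rw [Points.map_ofPt, hl2]
    change Points.ofPt (_ ≫ (yon S).map β ≫ q) c = _
    rw [ofPt_comp_yon_map, ofPt_comp_yon_map]
    congr 1
    change (W.left.fromSpecStalk w) (Spec.map toA (Spec.map (CommRingCat.ofHom e.φ) c)) = w
    have h1 : Spec.map (CommRingCat.ofHom e.φ) c = closedPoint A :=
      comap_closedPoint (S := e.A') e.φ
    have h2 : Spec.map toA (closedPoint A) = closedPoint (W.left.presheaf.stalk w) :=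
      comap_closedPoint (S := A) (sres.hom.codRestrict A.toSubring hA)
    rw [h1, h2, W.left.fromSpecStalk_closedPoint]


/-- A quasi-compact morphism of algebraic spaces satisfying the existence part of the valuative
criterion is closed. -/
theorem isClosedMor_of_quasiCompact_existVC {X Y : Sp S} (hX : IsAlgSpace X) (hY : IsAlgSpace Y)
    (f : X ⟶ Y) (hq : IsQuasiCompactMor f) (he : ExistVC f) : IsClosedMor f := by
  obtain ⟨W, q, hqe, hqs⟩ := hY.atlas
  have hquot : Topology.IsQuotientMap (Points.ofPt q) :=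
    (isOpenMap_ofPt_of_etale q hqe).isQuotientMap (Points.continuous_ofPt q)
      (surjective_ofPt q hqs)
  intro C hC
  rw [← hquot.isClosed_preimage]
  apply isClosed_of_openCover W.left.affineCover
  intro i
  let Wi : Over S := Over.mk (W.left.affineCover.f i ≫ W.hom)
  let ιi : Wi ⟶ W := Over.homMk (W.left.affineCover.f i) rfl
  haveI hWi : IsAffine Wi.left := by
    change IsAffine (W.left.affineCover.X i); infer_instance
  let qi : (yon S).obj Wi ⟶ Y := (yon S).map ιi ≫ q
  have pb : IsPullback (pullback.fst f qi) (pullback.snd f qi) f qi := IsPullback.of_hasPullback _ _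
  have hP : IsAlgSpace (pullback f qi) :=
    isAlgSpace_of_isPullback hY.diag hX (IsAlgSpace.yon_obj Wi) pb
  have hPq : IsQuasiCompactSp (pullback f qi) :=
    hq (IsAlgSpace.yon_obj Wi) ((isQuasiCompactSp_yon_iff Wi).2 inferInstance) qi _ _ pb
  obtain ⟨U, p, hU, hpe, hps⟩ := exists_affine_chart_of_isQuasiCompactSp hPq
  haveI := hU
  obtain ⟨h, hh⟩ := (yon S).map_surjective (p ≫ pullback.snd f qi)
  let a : (yon S).obj U ⟶ X := p ≫ pullback.fst f qi
  have comm : a ≫ f = (yon S).map h ≫ qi := by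
    rw [hh, Category.assoc, Category.assoc, pb.w]
  have key : Points.ofPt qi ⁻¹' (Points.map f '' C) = h.left '' (Points.ofPt a ⁻¹' C) := by
    ext w
    constructor
    · rintro ⟨x, hx, hxw⟩
      rw [Points.ofPt_eq_map_ofScheme qi w] at hxw
      obtain ⟨p', hp1, hp2⟩ := exists_point_of_isPullback pb x _ hxw
      obtain ⟨u, rfl⟩ := surjective_ofPt p hps p'
      rw [Points.map_ofPt] at hp1 hp2
      rw [← hh, ofPt_yon_map] at hp2
      refine ⟨u, ?_, (Points.schemeEquiv Wi).injective hp2⟩
      change Points.ofPt a u ∈ C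
      rw [hp1]; exact hx
    · rintro ⟨u, hu, rfl⟩
      refine ⟨Points.ofPt a u, hu, ?_⟩
      rw [Points.map_ofPt, comm, ofPt_comp_yon_map]
  have e : (W.left.affineCover.f i) ⁻¹' (Points.ofPt q ⁻¹' (Points.map f '' C)) =
      Points.ofPt qi ⁻¹' (Points.map f '' C) := by
    ext w
    simp only [Set.mem_preimage]
    rw [ofPt_comp_yon_map]
    rfl
  rw [e, key]
  apply isClosed_image_of_stableUnderSpecialization_of_isAffine
  · exact hC.preimage (Points.continuous_ofPt a)
  · rintro w' w hsp ⟨u', hu', rfl⟩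
    obtain ⟨x, hxC, hx⟩ := exists_mem_of_specializes_of_existVC f he a qi h comm C hC u' hu' w hsp
    rw [← key]
    exact ⟨x, hxC, hx⟩

theorem isQuasiCompactMor_of_isPullback {X Y Z Z' : Sp S} {f : X ⟶ Y} {g : Z ⟶ Y} {fst : Z' ⟶ X}
    {snd : Z' ⟶ Z} (sq : IsPullback fst snd f g) (hf : IsQuasiCompactMor f) :
    IsQuasiCompactMor snd := by
  intro T T' hT hTq t fst' snd' sq'
  exact hf hT hTq (t ≫ g) (fst' ≫ fst) snd' (sq'.paste_horiz sq)

/-- S10288: a quasi-compact morphism of algebraic spaces satisfying the existence part of the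
valuative criterion is universally closed. -/
theorem isUnivClosedMor_of_quasiCompact_existVC {X Y : Sp S} (hX : IsAlgSpace X)
    (hY : IsAlgSpace Y) (f : X ⟶ Y) (hq : IsQuasiCompactMor f) (he : ExistVC f) :
    IsUnivClosedMor f := by
  intro Z Z' hZ g fst snd sq
  exact isClosedMor_of_quasiCompact_existVC (isAlgSpace_of_isPullback hY.diag hX hZ sq) hZ snd
    (isQuasiCompactMor_of_isPullback sq hq) (existVC_of_isPullback sq he)


theorem mem_range_of_domExt {A K A' K' : Type*} [CommRing A] [IsDomain A] [ValuationRing A]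
    [Field K] [Algebra A K] [IsFractionRing A K] [CommRing A'] [IsDomain A'] [Field K']
    [Algebra A' K'] [IsFractionRing A' K'] (φ : A →+* A') (ψ : K →+* K')
    (comm : (algebraMap A' K').comp φ = ψ.comp (algebraMap A K)) [IsLocalHom φ] (x : K)
    (hx : ψ x ∈ (algebraMap A' K').range) : x ∈ (algebraMap A K).range := by
  rcases ValuationRing.isInteger_or_isInteger A x with ⟨a, ha⟩ | ⟨a, ha⟩
  · exact ⟨a, ha⟩
  · obtain ⟨a', ha'⟩ := hx
    have hx0 : x ≠ 0 ∨ x = 0 := (em _).symm
    rcases hx0 with hx0 | rfl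
    · have h1 : algebraMap A' K' (a' * φ a) = 1 := by
        rw [map_mul, ha']
        have : algebraMap A' K' (φ a) = ψ (algebraMap A K a) := congrArg (fun t => t a) comm
        rw [this, ha, ← map_mul, mul_inv_cancel₀ hx0, map_one]
      have h2 : a' * φ a = 1 := IsFractionRing.injective A' K' (by rw [h1, map_one])
      have h3 : IsUnit (φ a) := IsUnit.of_mul_eq_one_right _ h2
      have h4 : IsUnit a := IsUnit.of_map φ a h3
      obtain ⟨b, hb⟩ := h4.exists_right_inv
      refine ⟨b, ?_⟩
      have : algebraMap A K a * algebraMap A K b = 1 := by rw [← map_mul, hb, map_one]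
      rw [ha] at this
      exact (eq_of_inv_mul_eq_one this |>.symm ▸ rfl : algebraMap A K b = x)
    · exact ⟨0, map_zero _⟩

set_option backward.isDefEq.respectTransparency.types false in
theorem exists_lift_of_domExt {A K A' K' : Type u} [CommRing A] [IsDomain A] [ValuationRing A]
    [Field K] [Algebra A K] [IsFractionRing A K] [CommRing A'] [IsDomain A'] [ValuationRing A']
    [Field K'] [Algebra A' K'] [IsFractionRing A' K'] (φ : A →+* A') (ψ : K →+* K')
    (comm : (algebraMap A' K').comp φ = ψ.comp (algebraMap A K)) [IsLocalHom φ]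
    {W : Scheme.{u}} (k : Spec (.of K) ⟶ W) (m : Spec (.of A') ⟶ W)
    (hkm : Spec.map (CommRingCat.ofHom (algebraMap A' K')) ≫ m =
      Spec.map (CommRingCat.ofHom ψ) ≫ k) :
    ∃ s : Spec (.of A) ⟶ W, Spec.map (CommRingCat.ofHom (algebraMap A K)) ≫ s = k ∧
      Spec.map (CommRingCat.ofHom φ) ≫ s = m := by
  let w0 : W := m (closedPoint A')
  let w1 : W := k (closedPoint K)
  let α : W.presheaf.stalk w0 ⟶ .of A' := Scheme.stalkClosedPointTo m
  let β0 : W.presheaf.stalk w1 ⟶ .of K := Scheme.stalkClosedPointTo k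
  have hsp : w1 ⤳ w0 := by
    have h1 : m (Spec.map (CommRingCat.ofHom (algebraMap A' K')) (closedPoint K')) = w1 := by
      have := congrArg (fun t : Spec (.of K') ⟶ W => t (closedPoint K')) hkm
      simp only [Scheme.Hom.comp_apply] at this
      rw [this]
      congr 1
      exact Subsingleton.elim (α := PrimeSpectrum K) _ _
    rw [← h1]
    exact (specializes_closedPoint (R := A') _).map m.continuous
  let β : W.presheaf.stalk w0 ⟶ .of K := W.presheaf.stalkSpecializes hsp ≫ β0
  have hαβ : α ≫ CommRingCat.ofHom (algebraMap A' K') = β ≫ CommRingCat.ofHom ψ := by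
    apply Spec.map_injective
    rw [← cancel_mono (W.fromSpecStalk w0)]
    simp only [Spec.map_comp, Category.assoc, β]
    rw [Scheme.Spec_stalkClosedPointTo_fromSpecStalk, Scheme.SpecMap_stalkSpecializes_fromSpecStalk,
      Scheme.Spec_stalkClosedPointTo_fromSpecStalk, hkm]
  have hmem : ∀ x, β.hom x ∈ (algebraMap A K).range := fun x =>
    mem_range_of_domExt φ ψ comm _ ⟨α.hom x, by
      have := congrArg (fun t => t.hom x) hαβ
      simpa using this⟩
  have hinj := IsFractionRing.injective A K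
  let eA : A ≃+* (algebraMap A K).range :=
    RingEquiv.ofBijective (algebraMap A K).rangeRestrict
      ⟨fun a b hab => hinj (congrArg Subtype.val hab), (algebraMap A K).rangeRestrict_surjective⟩
  let γ : W.presheaf.stalk w0 ⟶ .of A :=
    CommRingCat.ofHom (eA.symm.toRingHom.comp (β.hom.codRestrict _ hmem))
  have hγ1 : γ ≫ CommRingCat.ofHom (algebraMap A K) = β := by
    ext x
    change algebraMap A K (eA.symm ⟨β.hom x, hmem x⟩) = β.hom x
    have := eA.apply_symm_apply ⟨β.hom x, hmem x⟩
    exact congrArg Subtype.val this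
  have hγ2 : γ ≫ CommRingCat.ofHom φ = α := by
    ext x
    apply IsFractionRing.injective A' K'
    have h1 := congrArg (fun t => t.hom x) hαβ
    have h2 := congrArg (fun t => t.hom x) hγ1
    have h3 := congrArg (fun t => t (γ.hom x)) comm
    simp only [CommRingCat.hom_comp, CommRingCat.hom_ofHom, RingHom.comp_apply] at h1 h2 h3 ⊢
    rw [h3, h2, h1]
  refine ⟨Spec.map γ ≫ W.fromSpecStalk w0, ?_, ?_⟩
  · rw [← Spec.map_comp_assoc, hγ1, Spec.map_comp, Category.assoc,
      Scheme.SpecMap_stalkSpecializes_fromSpecStalk, Scheme.Spec_stalkClosedPointTo_fromSpecStalk]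
  · rw [← Spec.map_comp_assoc, hγ2, Scheme.Spec_stalkClosedPointTo_fromSpecStalk]


/-- S10282 (⇐): a lift without extension gives a lift after the trivial extension. -/
theorem existVC_of_existVCStrict {X Y : Sp S} (f : X ⟶ Y) (h : ExistVCStrict f) : ExistVC f := by
  intro sq
  obtain ⟨l, hl1, hl2⟩ := h sq
  let e : sq.DomExt :=
    { A' := sq.A, K' := sq.K, φ := RingHom.id _, ψ := RingHom.id _
      comm := by rw [RingHom.comp_id, RingHom.id_comp]
      isLocalHom := ⟨fun _ h => h⟩ }
  have hA : Spec.map (CommRingCat.ofHom e.φ) ≫ sq.str = sq.str := by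
    change Spec.map (CommRingCat.ofHom (RingHom.id sq.A)) ≫ sq.str = sq.str
    rw [CommRingCat.ofHom_id, Spec.map_id, Category.id_comp]
  have hK' : Spec.map (CommRingCat.ofHom e.ψ) ≫ sq.ptK.hom = sq.ptK.hom := by
    change Spec.map (CommRingCat.ofHom (RingHom.id sq.K)) ≫ sq.ptK.hom = sq.ptK.hom
    rw [CommRingCat.ofHom_id, Spec.map_id, Category.id_comp]
  refine ⟨e, domExt_hasLift_of e sq.str sq.ptK.hom hA rfl hK' l ?_ ?_⟩
  · refine hl1.trans ?_
    have : (Over.homMk (Spec.map (CommRingCat.ofHom e.ψ)) hK' : sq.ptK ⟶ sq.ptK) = 𝟙 _ := by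
      ext
      change Spec.map (CommRingCat.ofHom (RingHom.id sq.K)) = 𝟙 _
      rw [CommRingCat.ofHom_id, Spec.map_id]
    rw [this]
    erw [CategoryTheory.Functor.map_id, Category.id_comp]
  · refine hl2.trans ?_
    have : (Over.homMk (Spec.map (CommRingCat.ofHom e.φ)) hA : sq.ptA ⟶ sq.ptA) = 𝟙 _ := by
      ext
      change Spec.map (CommRingCat.ofHom (RingHom.id sq.A)) = 𝟙 _
      rw [CommRingCat.ofHom_id, Spec.map_id]
    rw [this, CategoryTheory.Functor.map_id, Category.id_comp]

/-- S10282 (⇒): for a representable morphism, lifts after a dominating extension descend. -/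
theorem existVCStrict_of_existVC_of_representable {X Y : Sp S} (f : X ⟶ Y) (hrep : Representable f)
    (he : ExistVC f) : ExistVCStrict f := by
  intro sq
  have hpb := hrep.isPullback sq.bot
  obtain ⟨k, hk⟩ := (yon S).map_surjective (hpb.lift sq.top ((yon S).map sq.j) sq.comm)
  have hk1 : (yon S).map k ≫ hrep.fst sq.bot = sq.top := by rw [hk, hpb.lift_fst]
  have hk2 : k ≫ hrep.snd sq.bot = sq.j :=
    (yon S).map_injective (by rw [Functor.map_comp, hk, hpb.lift_snd])
  obtain ⟨e, l, hl1, hl2⟩ := he sq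
  haveI := e.isLocalHom
  obtain ⟨m, hm⟩ := (yon S).map_surjective (hpb.lift l _ hl2)
  have hm1 : (yon S).map m ≫ hrep.fst sq.bot = l := by rw [hm, hpb.lift_fst]
  have hm2 : m ≫ hrep.snd sq.bot =
      (Over.homMk (Spec.map (CommRingCat.ofHom e.φ)) rfl : e.ptA' ⟶ sq.ptA) :=
    (yon S).map_injective (by rw [Functor.map_comp, hm, hpb.lift_snd])
  have hψ : Spec.map (CommRingCat.ofHom e.ψ) ≫ sq.ptK.hom = e.ptK'.hom := by
    change Spec.map _ ≫ Spec.map _ ≫ _ = Spec.map _ ≫ Spec.map _ ≫ _
    rw [← Spec.map_comp_assoc, ← Spec.map_comp_assoc, ← CommRingCat.ofHom_comp,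
      ← CommRingCat.ofHom_comp, e.comm]
  have hkm : (Over.homMk (Spec.map (CommRingCat.ofHom (algebraMap e.A' e.K'))) rfl :
      e.ptK' ⟶ e.ptA') ≫ m =
      (Over.homMk (Spec.map (CommRingCat.ofHom e.ψ)) hψ : e.ptK' ⟶ sq.ptK) ≫ k := by
    apply (yon S).map_injective
    apply hpb.hom_ext
    · rw [Functor.map_comp, Functor.map_comp, Category.assoc, Category.assoc, hm1, hk1]
      exact hl1
    · rw [← Functor.map_comp, ← Functor.map_comp, Category.assoc, Category.assoc, hm2, hk2]
      congr 1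
      ext
      change Spec.map _ ≫ Spec.map _ = Spec.map _ ≫ Spec.map _
      rw [← Spec.map_comp, ← Spec.map_comp, ← CommRingCat.ofHom_comp, ← CommRingCat.ofHom_comp,
        e.comm]
  obtain ⟨s, hs1, hs2⟩ := exists_lift_of_domExt e.φ e.ψ e.comm k.left m.left
    (congrArg (fun t => t.left) hkm)
  have hs3 : s ≫ (hrep.snd sq.bot).left = 𝟙 _ := by
    obtain ⟨θ, hθ⟩ := Spec.map_surjective (s ≫ (hrep.snd sq.bot).left)
    have h1 : Spec.map (CommRingCat.ofHom (algebraMap sq.A sq.K)) ≫ s ≫ (hrep.snd sq.bot).left =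
        Spec.map (CommRingCat.ofHom (algebraMap sq.A sq.K)) := by
      rw [← Category.assoc, hs1, ← Over.comp_left, hk2]
      rfl
    rw [← hθ, ← Spec.map_comp] at h1
    have h2 := Spec.map_injective h1
    have h3 : θ = 𝟙 _ := by
      ext x
      apply IsFractionRing.injective sq.A sq.K
      exact congrArg (fun t => t.hom x) h2
    rw [← hθ, h3, Spec.map_id]
  have hsO : s ≫ (hrep.pullback sq.bot).hom = sq.str := by
    rw [← Over.w (hrep.snd sq.bot), ← Category.assoc, hs3]
    exact Category.id_comp _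
  let sO : sq.ptA ⟶ hrep.pullback sq.bot := Over.homMk s hsO
  have hsO1 : sq.j ≫ sO = k := by
    ext
    exact hs1
  have hsO2 : sO ≫ hrep.snd sq.bot = 𝟙 _ := by
    ext
    exact hs3
  refine ⟨(yon S).map sO ≫ hrep.fst sq.bot, ?_, ?_⟩
  · rw [← Category.assoc, ← Functor.map_comp, hsO1, hk1]
  · rw [Category.assoc, hpb.w, ← Category.assoc, ← Functor.map_comp, hsO2, (yon S).map_id,
      Category.id_comp]

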