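import Mathlib
import Groth.Prelude.Def_AlgSp

set_option autoImplicit false
universe u
open CategoryTheory CategoryTheory.Limits AlgebraicGeometry

namespace Groth.Agent.Helper15

lemma epi_SpecMap_of_field {K L : Type u} [Field K] [CommRing L] [Nontrivial L]
    (φ : CommRingCat.of K ⟶ CommRingCat.of L) :
    Epi (Spec.map φ) := by
  have h : φ.hom.FaithfullyFlat := by
    algebraize [φ.hom]
    rw [← RingHom.algebraMap_toAlgebra φ.hom, RingHom.faithfullyFlat_algebraMap_iff]
    infer_instance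
  obtain ⟨h1, h2⟩ := (AlgebraicGeometry.flat_and_surjective_SpecMap_iff φ).mpr h
  exact Flat.epi_of_flat_of_surjective _

lemma epi_SpecMap_residueFieldMap {X Y : Scheme.{u}} (f : X ⟶ Y) (x : X) :
    Epi (Spec.map (f.residueFieldMap x)) :=
  epi_SpecMap_of_field (K := Y.residueField (f x)) (L := X.residueField x) (f.residueFieldMap x)

/-- gluing over a pairwise disjoint open cover -/
lemma exists_glue_of_disjoint {X Y : Scheme.{u}} (𝒱 : X.OpenCover)
    (hdisj : ∀ i j, i ≠ j → IsEmpty ↑(pullback (𝒱.f i) (𝒱.f j))) (f : ∀ i, 𝒱.X i ⟶ Y) :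
    ∃ F : X ⟶ Y, ∀ i, 𝒱.f i ≫ F = f i := by
  classical
  refine ⟨𝒱.glueMorphisms f ?_, fun i => 𝒱.ι_glueMorphisms f _ i⟩
  intro i j
  by_cases hij : i = j
  · subst hij
    have : pullback.fst (𝒱.f i) (𝒱.f i) = pullback.snd (𝒱.f i) (𝒱.f i) := by
      rw [← cancel_mono (𝒱.f i)]
      exact pullback.condition
    rw [this]
  · haveI := hdisj i j hij
    exact (isInitialOfIsEmpty (X := pullback (𝒱.f i) (𝒱.f j))).hom_ext _ _

section
variable {S : Scheme.{u}} {U : Over S} {G : Type u} (c : Cofan (fun _ : G => U)) (hc : IsColimit c)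

noncomputable def cofanLeftIsColimit :
    IsColimit (Cofan.mk c.pt.left (fun g => (c.inj g).left)) := by
  have h1 : IsColimit (Cofan.mk c.pt c.inj) := hc
  exact isColimitCofanMkObjOfIsColimit (Over.forget S) _ _ h1

/-- comparison iso from the scheme coproduct. -/
noncomputable def cofanLeftIso : (∐ fun _ : G => U.left) ≅ c.pt.left :=
  (colimit.isColimit _).coconePointUniqueUpToIso (cofanLeftIsColimit c hc)

lemma ι_cofanLeftIso_hom (g : G) :
    Sigma.ι (fun _ : G => U.left) g ≫ (cofanLeftIso c hc).hom = (c.inj g).left := by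
  exact (colimit.isColimit _).comp_coconePointUniqueUpToIso_hom (cofanLeftIsColimit c hc) ⟨g⟩

include hc in
lemma isOpenImmersion_cofan_inj_left (g : G) : IsOpenImmersion (c.inj g).left := by
  rw [← ι_cofanLeftIso_hom c hc g]
  infer_instance

include hc in
lemma exists_cofan_inj_left_eq (x : c.pt.left) : ∃ (g : G) (y : U.left), (c.inj g).left y = x := by
  obtain ⟨g, y, hy⟩ := (sigmaOpenCover (fun _ : G => U.left)).exists_eq ((cofanLeftIso c hc).inv x)
  have hy' : Sigma.ι (fun _ : G => U.left) g y = (cofanLeftIso c hc).inv x := hy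
  refine ⟨g, y, ?_⟩
  rw [← ι_cofanLeftIso_hom c hc g, Scheme.Hom.comp_apply, hy', ← Scheme.Hom.comp_apply]
  simp

include hc in
lemma isEmpty_of_cofan_inj_left_of_ne {g h : G} (hgh : g ≠ h) {Z : Scheme.{u}} (a b : Z ⟶ U.left)
    (w : a ≫ (c.inj g).left = b ≫ (c.inj h).left) : IsEmpty Z := by
  refine isEmpty_of_commSq_sigmaι_of_ne (g := fun _ : G => U.left) (a := a) (b := b) ⟨?_⟩ hgh
  rw [← cancel_mono (cofanLeftIso c hc).hom, Category.assoc, Category.assoc,
    ι_cofanLeftIso_hom, ι_cofanLeftIso_hom, w]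

/-- The open cover of the coproduct by its summands. -/
noncomputable def cofanOpenCover : c.pt.left.OpenCover :=
  Scheme.Cover.mkOfCovers G (fun _ => U.left) (fun g => (c.inj g).left)
    (fun x => exists_cofan_inj_left_eq c hc x) (fun g => isOpenImmersion_cofan_inj_left c hc g)

include hc in
lemma isEmpty_pullback_fst_fst {T : Scheme.{u}} (r : T ⟶ c.pt.left) (g h : G) (hgh : g ≠ h) :
    IsEmpty ↑(pullback (pullback.fst r (c.inj g).left) (pullback.fst r (c.inj h).left)) := by
  refine isEmpty_of_cofan_inj_left_of_ne c hc hgh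
    (pullback.fst _ _ ≫ pullback.snd r (c.inj g).left)
    (pullback.snd _ _ ≫ pullback.snd r (c.inj h).left) ?_
  rw [Category.assoc, Category.assoc, ← pullback.condition, ← pullback.condition]
  exact pullback.condition_assoc _

/-- The pulled back cover of `T` along `r : T ⟶ ∐ U`. -/
noncomputable def pullbackCofanCover {T : Scheme.{u}} (r : T ⟶ c.pt.left) : T.OpenCover :=
  Scheme.Cover.mkOfCovers G (fun g => pullback r (c.inj g).left) (fun g => pullback.fst r (c.inj g).left)
    (fun x => by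
      obtain ⟨g, y, hy⟩ := exists_cofan_inj_left_eq c hc (r x)
      obtain ⟨z, hz, -⟩ := Scheme.Pullback.exists_preimage_pullback x y hy.symm
      exact ⟨g, z, hz⟩)
    (fun g => by
      haveI := isOpenImmersion_cofan_inj_left c hc g
      infer_instance)


variable [Group G] (ρ : G →* Aut U)

lemma rho_mul_hom (g h : G) : (ρ (g * h)).hom = (ρ h).hom ≫ (ρ g).hom := by
  rw [map_mul]; rfl

lemma rho_one_hom : (ρ 1).hom = 𝟙 U := by
  rw [map_one]; rfl

lemma rho_inv_hom_comp (g : G) : (ρ g⁻¹).hom ≫ (ρ g).hom = 𝟙 U := by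
  rw [← rho_mul_hom, mul_inv_cancel, rho_one_hom]

lemma rho_hom_comp_inv (g : G) : (ρ g).hom ≫ (ρ g⁻¹).hom = 𝟙 U := by
  rw [← rho_mul_hom, inv_mul_cancel, rho_one_hom]

/-- freeness: a non-empty scheme mapping to `U` equalizing `ρ k` and `𝟙` forces `k = 1`. -/
lemma eq_one_of_comp_rho_eq
    (hfree : ∀ (g : G) (x : U.left), g ≠ 1 →
      U.left.fromSpecResidueField x ≫ (ρ g).hom.left ≠ U.left.fromSpecResidueField x)
    {W : Scheme.{u}} (x : W) (β : W ⟶ U.left) (k : G) (h : β ≫ (ρ k).hom.left = β) : k = 1 := by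
  by_contra hk
  refine hfree k (β x) hk ?_
  haveI := epi_SpecMap_residueFieldMap β x
  rw [← cancel_epi (Spec.map (β.residueFieldMap x))]
  rw [Scheme.Hom.SpecMap_residueFieldMap_fromSpecResidueField_assoc,
    Scheme.Hom.SpecMap_residueFieldMap_fromSpecResidueField, h]

variable (s t : c.pt ⟶ U) (hs : ∀ g, c.inj g ≫ s = 𝟙 U) (ht : ∀ g, c.inj g ≫ t = (ρ g).hom)

omit [Group G] in
include hc hs in
lemma etale_s_left : Etale s.left := by
  rw [IsZariskiLocalAtSource.iff_of_openCover (P := @Etale) (cofanOpenCover c hc)]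
  intro g
  have : (c.inj g).left ≫ s.left = 𝟙 _ := by
    rw [← Over.comp_left, hs]; rfl
  change Etale ((c.inj g).left ≫ s.left)
  rw [this]
  infer_instance

include hc ht in
lemma etale_t_left : Etale t.left := by
  rw [IsZariskiLocalAtSource.iff_of_openCover (P := @Etale) (cofanOpenCover c hc)]
  intro g
  have : (c.inj g).left ≫ t.left = (ρ g).hom.left := by
    rw [← Over.comp_left, ht]
  change Etale ((c.inj g).left ≫ t.left)
  rw [this]
  infer_instance


/-- the inversion `R ⟶ R`. -/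
noncomputable def cofanInv : c.pt ⟶ c.pt :=
  Cofan.IsColimit.desc hc (fun g => (ρ g).hom ≫ c.inj g⁻¹)

lemma inj_cofanInv (g : G) : c.inj g ≫ cofanInv c hc ρ = (ρ g).hom ≫ c.inj g⁻¹ :=
  Cofan.IsColimit.fac hc _ g

include hs ht in
lemma cofanInv_s : cofanInv c hc ρ ≫ s = t := by
  refine Cofan.IsColimit.hom_ext hc _ _ fun g => ?_
  rw [reassoc_of% inj_cofanInv c hc ρ g, hs, ht, Category.comp_id]

include hs ht in
lemma cofanInv_t : cofanInv c hc ρ ≫ t = s := by
  refine Cofan.IsColimit.hom_ext hc _ _ fun g => ?_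
  rw [reassoc_of% inj_cofanInv c hc ρ g, hs, ht, rho_hom_comp_inv]

/-- right translation twisted by the action. -/
noncomputable def cofanMul (h : G) : c.pt ⟶ c.pt :=
  Cofan.IsColimit.desc hc (fun g => (ρ h).inv ≫ c.inj (g * h))

lemma inj_cofanMul (h g : G) : c.inj g ≫ cofanMul c hc ρ h = (ρ h).inv ≫ c.inj (g * h) :=
  Cofan.IsColimit.fac hc _ g

include hs in
lemma cofanMul_s (h : G) : cofanMul c hc ρ h ≫ s = s ≫ (ρ h).inv := by
  refine Cofan.IsColimit.hom_ext hc _ _ fun g => ?_
  rw [reassoc_of% inj_cofanMul c hc ρ h g, hs, reassoc_of% hs g, Category.comp_id]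

include ht in
lemma cofanMul_t (h : G) : cofanMul c hc ρ h ≫ t = t := by
  refine Cofan.IsColimit.hom_ext hc _ _ fun g => ?_
  rw [reassoc_of% inj_cofanMul c hc ρ h g, ht, ht, rho_mul_hom, Iso.inv_hom_id_assoc]


include hc hs ht in
lemma cofan_trans (T : Over S) (r1 r2 : T ⟶ c.pt) (h12 : r1 ≫ s = r2 ≫ t) :
    ∃ r3 : T ⟶ c.pt, r3 ≫ t = r1 ≫ t ∧ r3 ≫ s = r2 ≫ s := by
  obtain ⟨F, hF⟩ := exists_glue_of_disjoint (pullbackCofanCover c hc r2.left)
    (fun g h hgh => isEmpty_pullback_fst_fst c hc r2.left g h hgh)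
    (fun h => pullback.fst r2.left (c.inj h).left ≫ r1.left ≫ (cofanMul c hc ρ h).left)
  have hF' : ∀ h : G, pullback.fst r2.left (c.inj h).left ≫ F =
      pullback.fst r2.left (c.inj h).left ≫ r1.left ≫ (cofanMul c hc ρ h).left := hF
  have hext : ∀ {Y : Scheme.{u}} (f₁ f₂ : T.left ⟶ Y),
      (∀ h : G, pullback.fst r2.left (c.inj h).left ≫ f₁ =
        pullback.fst r2.left (c.inj h).left ≫ f₂) → f₁ = f₂ :=
    fun f₁ f₂ H => (pullbackCofanCover c hc r2.left).hom_ext f₁ f₂ H
  have hw : F ≫ c.pt.hom = T.hom := by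
    refine hext _ _ fun h => ?_
    rw [reassoc_of% hF' h, Over.w, Over.w]
  refine ⟨Over.homMk F hw, ?_, ?_⟩
  · ext
    simp only [Over.comp_left, Over.homMk_left]
    refine hext _ _ fun h => ?_
    rw [reassoc_of% hF' h, ← Over.comp_left, cofanMul_t c hc ρ t ht]
  · ext
    simp only [Over.comp_left, Over.homMk_left]
    refine hext _ _ fun h => ?_
    rw [reassoc_of% hF' h, ← Over.comp_left, cofanMul_s c hc ρ s hs, Over.comp_left,
      ← Over.comp_left_assoc, h12, Over.comp_left, Category.assoc, pullback.condition_assoc,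
      pullback.condition_assoc, ← Over.comp_left_assoc, ht, ← Over.comp_left, Iso.hom_inv_id,
      ← Over.comp_left, hs]


include hc hs ht in
lemma cofan_injective
    (hfree : ∀ (g : G) (x : U.left), g ≠ 1 →
      U.left.fromSpecResidueField x ≫ (ρ g).hom.left ≠ U.left.fromSpecResidueField x)
    (T : Over S) (r r' : T ⟶ c.pt) (h1 : r ≫ t = r' ≫ t) (h2 : r ≫ s = r' ≫ s) : r = r' := by
  ext
  refine (pullbackCofanCover c hc r.left).hom_ext _ _ fun (g : G) => ?_
  change pullback.fst r.left (c.inj g).left ≫ r.left = pullback.fst r.left (c.inj g).left ≫ r'.left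
  refine (pullbackCofanCover c hc (pullback.fst r.left (c.inj g).left ≫ r'.left)).hom_ext _ _
    fun (h : G) => ?_
  change pullback.fst (pullback.fst r.left (c.inj g).left ≫ r'.left) (c.inj h).left ≫
      pullback.fst r.left (c.inj g).left ≫ r.left =
    pullback.fst (pullback.fst r.left (c.inj g).left ≫ r'.left) (c.inj h).left ≫
      pullback.fst r.left (c.inj g).left ≫ r'.left
  generalize hp1 : pullback.fst r.left (c.inj g).left = p1
  have h1' : p1 ≫ r.left = pullback.snd r.left (c.inj g).left ≫ (c.inj g).left := by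
    rw [← hp1]; exact pullback.condition
  generalize pullback.snd r.left (c.inj g).left = q1 at h1'
  have hq : pullback.fst (p1 ≫ r'.left) (c.inj h).left ≫ p1 ≫ r'.left =
      pullback.snd (p1 ≫ r'.left) (c.inj h).left ≫ (c.inj h).left := pullback.condition
  generalize pullback.fst (p1 ≫ r'.left) (c.inj h).left = p at hq ⊢
  generalize pullback.snd (p1 ≫ r'.left) (c.inj h).left = q at hq
  generalize pullback (p1 ≫ r'.left) (c.inj h).left = W at p q hq
  have es : ∀ g : G, (c.inj g).left ≫ s.left = 𝟙 _ := fun g => by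
    rw [← Over.comp_left, hs]; rfl
  have et : ∀ g : G, (c.inj g).left ≫ t.left = (ρ g).hom.left := fun g => by
    rw [← Over.comp_left, ht]
  have h1l : r.left ≫ t.left = r'.left ≫ t.left := by
    rw [← Over.comp_left, h1, Over.comp_left]
  have h2l : r.left ≫ s.left = r'.left ≫ s.left := by
    rw [← Over.comp_left, h2, Over.comp_left]
  have hβq : p ≫ q1 = q := by
    calc p ≫ q1 = p ≫ q1 ≫ (c.inj g).left ≫ s.left := by rw [es, Category.comp_id]
      _ = p ≫ p1 ≫ r.left ≫ s.left := by rw [reassoc_of% h1']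
      _ = p ≫ p1 ≫ r'.left ≫ s.left := by rw [h2l]
      _ = q ≫ (c.inj h).left ≫ s.left := by rw [reassoc_of% hq]
      _ = q := by rw [es, Category.comp_id]
  rw [h1', hq, ← hβq, Category.assoc]
  by_cases hW : IsEmpty W
  · exact (isInitialOfIsEmpty (X := W)).hom_ext _ _
  · obtain ⟨x⟩ := not_isEmpty_iff.mp hW
    have hgh : p ≫ q1 ≫ (ρ g).hom.left = p ≫ q1 ≫ (ρ h).hom.left := by
      calc p ≫ q1 ≫ (ρ g).hom.left = p ≫ q1 ≫ (c.inj g).left ≫ t.left := by rw [et]
        _ = p ≫ p1 ≫ r.left ≫ t.left := by rw [reassoc_of% h1']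
        _ = p ≫ p1 ≫ r'.left ≫ t.left := by rw [h1l]
        _ = q ≫ (c.inj h).left ≫ t.left := by rw [reassoc_of% hq]
        _ = p ≫ q1 ≫ (ρ h).hom.left := by rw [et, ← hβq, Category.assoc]
    have hk : (p ≫ q1) ≫ (ρ (h⁻¹ * g)).hom.left = p ≫ q1 := by
      rw [rho_mul_hom, Over.comp_left, Category.assoc, reassoc_of% hgh, ← Over.comp_left,
        rho_hom_comp_inv]
      exact Category.comp_id (p ≫ q1)
    have := eq_one_of_comp_rho_eq ρ hfree x (p ≫ q1) (h⁻¹ * g) hk
    rw [inv_mul_eq_one] at this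
    subst this
    rfl


include hc hs ht in
theorem isEtaleEqvRel_of_free_action
    (hfree : ∀ (g : G) (x : U.left), g ≠ 1 →
      U.left.fromSpecResidueField x ≫ (ρ g).hom.left ≠ U.left.fromSpecResidueField x) :
    AlgSp.IsEtaleEqvRel s t where
  injective T r r' h1 h2 := cofan_injective c hc ρ s t hs ht hfree T r r' h1 h2
  equivalence T :=
    { refl := fun a => ⟨a ≫ c.inj 1, by rw [Category.assoc, ht, rho_one_hom, Category.comp_id],
        by rw [Category.assoc, hs, Category.comp_id]⟩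
      symm := by
        rintro a b ⟨r, rfl, rfl⟩
        exact ⟨r ≫ cofanInv c hc ρ, by rw [Category.assoc, cofanInv_t c hc ρ s t hs ht],
          by rw [Category.assoc, cofanInv_s c hc ρ s t hs ht]⟩
      trans := by
        rintro a b d ⟨r1, rfl, h12⟩ ⟨r2, h21, rfl⟩
        exact cofan_trans c hc ρ s t hs ht T r1 r2 (h12.trans h21.symm) }
  etale_left := etale_s_left c hc s hs
  etale_right := etale_t_left c hc ρ t ht

end

end Groth.Agent.Helper15
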