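import Mathlib
import Groth.Agent.Lib.Helper15.CoprodEqvRel

set_option autoImplicit false
universe u
open CategoryTheory CategoryTheory.Limits AlgebraicGeometry

namespace Groth.Agent.Helper15.LiftCount

/-- Some field-valued point of `U` over `u` has `n` distinct lifts along `f`. -/
def HasLifts {Y U : Scheme.{u}} (f : Y ⟶ U) (n : ℕ) (u : U) : Prop :=
  ∃ (K : Type u) (_ : Field K) (z : Spec (CommRingCat.of K) ⟶ U)
    (l : Fin n → (Spec (CommRingCat.of K) ⟶ Y)),
    Function.Injective l ∧ (∀ i, l i ≫ f = z) ∧ z (IsLocalRing.closedPoint K) = u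

theorem hasLifts_zero {Y U : Scheme.{u}} (f : Y ⟶ U) (u : U) : HasLifts f 0 u := by
  refine ⟨U.residueField u, inferInstance, U.fromSpecResidueField u, Fin.elim0, ?_, ?_, ?_⟩
  · intro i; exact i.elim0
  · intro i; exact i.elim0
  · exact Scheme.fromSpecResidueField_apply _ _

theorem HasLifts.of_le {Y U : Scheme.{u}} {f : Y ⟶ U} {n m : ℕ} {u : U} (h : HasLifts f n u)
    (hmn : m ≤ n) : HasLifts f m u := by
  obtain ⟨K, _, z, l, hinj, hl, hz⟩ := h
  exact ⟨K, inferInstance, z, fun i => l (Fin.castLE hmn i),
    fun i j hij => Fin.castLE_injective hmn (hinj hij), fun i => hl _, hz⟩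

/-- Lifts along a monomorphism composed with `f` give lifts along `f`. -/
theorem HasLifts.of_comp_mono {Y' Y U : Scheme.{u}} (j : Y' ⟶ Y) [Mono j] {f : Y ⟶ U} {n : ℕ}
    {u : U} (h : HasLifts (j ≫ f) n u) : HasLifts f n u := by
  obtain ⟨K, _, z, l, hinj, hl, hz⟩ := h
  refine ⟨K, inferInstance, z, fun i => l i ≫ j, ?_, ?_, hz⟩
  · intro i k hik
    exact hinj ((cancel_mono j).1 hik)
  · intro i
    rw [Category.assoc]; exact hl i

lemma eq_closedPoint {K : Type u} [Field K] (p : Spec (CommRingCat.of K)) :
    p = IsLocalRing.closedPoint K :=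
  Subsingleton.elim (α := Spec (CommRingCat.of K)) _ _


/-- The locus of points with at least `n` geometric lifts along a separated etale morphism is
open. -/
theorem isOpen_hasLifts (n : ℕ) : ∀ {Y U : Scheme.{u}} (f : Y ⟶ U) [Etale f] [IsSeparated f],
    IsOpen {u | HasLifts f n u} := by
  induction n with
  | zero =>
    intro Y U f _ _
    convert isOpen_univ
    ext u
    simp [hasLifts_zero]
  | succ n ih =>
    intro Y U f _ _
    let Δ : Y ⟶ pullback f f := pullback.diagonal f
    have hΔc : IsClosed (Set.range Δ) := Δ.isClosedEmbedding.isClosed_range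
    let V : (pullback f f).Opens := ⟨(Set.range Δ)ᶜ, hΔc.isOpen_compl⟩
    let f' : (V : Scheme.{u}) ⟶ Y := V.ι ≫ pullback.fst f f
    haveI : Etale f' := inferInstance
    haveI : IsSeparated f' := inferInstance
    have hopen := ih f'
    have hVmem : ∀ p : ↥(pullback f f), p ∈ V ↔ p ∉ Set.range Δ := fun p => Iff.rfl
    have hset : {u | HasLifts f (n + 1) u} = f '' {y | HasLifts f' n y} := by
      ext u
      constructor
      · rintro ⟨K, _, z, l, hinj, hl, hz⟩
        let g : Fin n → (Spec (CommRingCat.of K) ⟶ pullback f f) := fun i =>
          pullback.lift (l 0) (l i.succ) (by rw [hl, hl])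
        have hgV : ∀ i, Set.range (g i) ⊆ Set.range V.ι := by
          intro i
          rw [Scheme.Opens.range_ι]
          rintro _ ⟨p, rfl⟩
          change g i p ∈ V
          rw [hVmem]
          intro hp
          have hr : Set.range (g i) ⊆ Set.range Δ := by
            rintro _ ⟨p', rfl⟩
            rw [eq_closedPoint p', ← eq_closedPoint p]
            exact hp
          have hfac : IsOpenImmersion.lift Δ (g i) hr ≫ Δ = g i := IsOpenImmersion.lift_fac _ _ _
          have h1 : l 0 = IsOpenImmersion.lift Δ (g i) hr := by
            have := congrArg (· ≫ pullback.fst f f) hfac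
            simp only [Category.assoc, Δ, pullback.diagonal_fst, Category.comp_id, g,
              pullback.lift_fst] at this
            exact this.symm
          have h2 : l i.succ = IsOpenImmersion.lift Δ (g i) hr := by
            have := congrArg (· ≫ pullback.snd f f) hfac
            simp only [Category.assoc, Δ, pullback.diagonal_snd, Category.comp_id, g,
              pullback.lift_snd] at this
            exact this.symm
          exact (Fin.succ_ne_zero i) (hinj (h2.trans h1.symm))
        refine ⟨l 0 (IsLocalRing.closedPoint K), ⟨K, inferInstance, l 0,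
          fun i => IsOpenImmersion.lift V.ι (g i) (hgV i), ?_, ?_, rfl⟩, ?_⟩
        · intro i k hik
          have h1 : g i = g k := by
            rw [← IsOpenImmersion.lift_fac V.ι (g i) (hgV i),
              ← IsOpenImmersion.lift_fac V.ι (g k) (hgV k)]
            exact congrArg (· ≫ V.ι) hik
          have h2 := congrArg (· ≫ pullback.snd f f) h1
          simp only [g, pullback.lift_snd] at h2
          exact Fin.succ_injective _ (hinj h2)
        · intro i
          change IsOpenImmersion.lift V.ι (g i) (hgV i) ≫ V.ι ≫ pullback.fst f f = l 0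
          rw [IsOpenImmersion.lift_fac_assoc]
          exact pullback.lift_fst _ _ _
        · rw [← hz, ← hl 0]
          rfl
      · rintro ⟨y, ⟨K, _, z', l', hinj', hl', hz'⟩, rfl⟩
        have hfst : ∀ i, (l' i ≫ V.ι) ≫ pullback.fst f f = z' := fun i => by
          rw [Category.assoc]; exact hl' i
        refine ⟨K, inferInstance, z' ≫ f,
          Fin.cons z' (fun i => (l' i ≫ V.ι) ≫ pullback.snd f f), ?_, ?_, ?_⟩
        · rw [Fin.cons_injective_iff]
          constructor
          · rintro ⟨i, hi⟩
            replace hi : (l' i ≫ V.ι) ≫ pullback.snd f f = z' := hi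
            have hg : l' i ≫ V.ι = z' ≫ Δ := by
              apply pullback.hom_ext
              · rw [hfst, Category.assoc, pullback.diagonal_fst, Category.comp_id]
              · rw [hi, Category.assoc, pullback.diagonal_snd, Category.comp_id]
            have h1 : V.ι (l' i (IsLocalRing.closedPoint K)) ∈ Set.range Δ := by
              have : V.ι (l' i (IsLocalRing.closedPoint K)) =
                  Δ (z' (IsLocalRing.closedPoint K)) := by
                have := congrArg (fun h : Spec (CommRingCat.of K) ⟶ pullback f f =>
                  h (IsLocalRing.closedPoint K)) hg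
                simpa using this
              rw [this]; exact ⟨_, rfl⟩
            have h2 : V.ι (l' i (IsLocalRing.closedPoint K)) ∈ V :=
              (l' i (IsLocalRing.closedPoint K)).2
            exact ((hVmem _).1 h2) h1
          · intro i k hik
            have : l' i ≫ V.ι = l' k ≫ V.ι := by
              apply pullback.hom_ext
              · rw [hfst, hfst]
              · exact hik
            exact hinj' ((cancel_mono V.ι).1 this)
        · intro i
          refine Fin.cases ?_ (fun i => ?_) i
          · simp
          · simp only [Fin.cons_succ, Category.assoc]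
            rw [← pullback.condition, ← Category.assoc, ← Category.assoc, hfst]
        · rw [← hz']
          rfl
    rw [hset]
    exact f.isOpenMap _ hopen

/-- If `u` has `m` geometric lifts inside an open subscheme and a further point of the fibre
outside of it, then it has `m + 1` geometric lifts. -/
theorem HasLifts.succ_of_notMem_range {Y' Y U : Scheme.{u}} (j : Y' ⟶ Y) [Mono j] {f : Y ⟶ U}
    {m : ℕ} {u : U} (h : HasLifts (j ≫ f) m u) (y : Y) (hy : f y = u) (hyj : y ∉ Set.range j) :
    HasLifts f (m + 1) u := by
  obtain ⟨K, _, z, l, hinj, hl, hz⟩ := h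
  obtain ⟨p, hp1, hp2⟩ := Scheme.Pullback.exists_preimage_pullback (f := z) (g := f)
    (IsLocalRing.closedPoint K) y (by rw [hz, hy])
  let K' := (pullback z f).residueField p
  let a : Spec (CommRingCat.of K') ⟶ Spec (CommRingCat.of K) :=
    (pullback z f).fromSpecResidueField p ≫ pullback.fst z f
  let b : Spec (CommRingCat.of K') ⟶ Y :=
    (pullback z f).fromSpecResidueField p ≫ pullback.snd z f
  have hab : a ≫ z = b ≫ f := by
    simp only [a, b, Category.assoc, pullback.condition]
  haveI : Epi a := by
    have : a = Spec.map (Spec.preimage a) := (Spec.map_preimage a).symm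
    rw [this]
    exact epi_SpecMap_of_field _
  have hb : b (IsLocalRing.closedPoint K') = y := by
    change (pullback.snd z f) ((pullback z f).fromSpecResidueField p _) = y
    rw [Scheme.fromSpecResidueField_apply, hp2]
  refine ⟨K', inferInstance, a ≫ z, Fin.cons b (fun i => a ≫ l i ≫ j), ?_, ?_, ?_⟩
  · rw [Fin.cons_injective_iff]
    constructor
    · rintro ⟨i, hi⟩
      apply hyj
      rw [← hb, ← hi]
      exact ⟨(a ≫ l i) (IsLocalRing.closedPoint K'), rfl⟩
    · intro i k hik
      have h1 : l i ≫ j = l k ≫ j := (cancel_epi a).1 hik
      exact hinj ((cancel_mono j).1 h1)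
  · intro i
    refine Fin.cases ?_ (fun i => ?_) i
    · simpa using hab.symm
    · simp only [Fin.cons_succ, Category.assoc]
      rw [hl i]
  · rw [← hz]
    change z (a _) = _
    rw [eq_closedPoint (a _)]

end Groth.Agent.Helper15.LiftCount
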