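import Mathlib
import Groth.Agent.Lib.Helper15.LiftCount

set_option autoImplicit false
universe u
open CategoryTheory CategoryTheory.Limits AlgebraicGeometry

namespace Groth.Agent.Helper15.LiftCount

/-- The rank of the scheme-theoretic fibre of `f` over `u` (zero when infinite). -/
noncomputable def fibreRank {Y U : Scheme.{u}} (f : Y ⟶ U) (u : U) : ℕ := by
  letI : Algebra (U.residueField u) Γ(f.fiber u, ⊤) :=
    ((Scheme.ΓSpecIso (U.residueField u)).inv ≫ (f.fiberToSpecResidueField u).appTop).hom.toAlgebra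
  exact Module.finrank (U.residueField u) Γ(f.fiber u, ⊤)

theorem le_fibreRank {Y U : Scheme.{u}} (f : Y ⟶ U) [LocallyQuasiFinite f] {K : Type u} [Field K]
    (z : Spec (CommRingCat.of K) ⟶ U)
    (hfin : (f ⁻¹' {z (IsLocalRing.closedPoint K)}).Finite) {n : ℕ}
    (l : Fin n → (Spec (CommRingCat.of K) ⟶ Y)) (hinj : Function.Injective l)
    (hl : ∀ i, l i ≫ f = z) : n ≤ fibreRank f (z (IsLocalRing.closedPoint K)) := by
  set u := z (IsLocalRing.closedPoint K) with hu
  let c := f.fiberToSpecResidueField u
  haveI : Finite (f.fiber u) := by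
    haveI := hfin.to_subtype
    exact Finite.of_equiv _ (f.fiberHomeo u).toEquiv.symm
  haveI : CompactSpace (f.fiber u) := Finite.compactSpace
  haveI : QuasiCompact c := HasAffineProperty.iff_of_isAffine.mpr ‹CompactSpace (f.fiber u)›
  haveI : LocallyQuasiFinite c := by
    change LocallyQuasiFinite (pullback.snd _ _)
    infer_instance
  haveI : IsLocallyArtinian (Spec (U.residueField u)) := by
    rw [Scheme.isLocallyArtinianScheme_Spec]
    infer_instance
  haveI : IsFinite c := IsFinite.of_locallyQuasiFinite c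
  haveI : IsAffine (f.fiber u) := isAffine_of_isAffineHom c
  let ψ : U.residueField u ⟶ Γ(f.fiber u, ⊤) :=
    (Scheme.ΓSpecIso (U.residueField u)).inv ≫ c.appTop
  letI : Algebra (U.residueField u) Γ(f.fiber u, ⊤) := ψ.hom.toAlgebra
  have hfinψ : ψ.hom.Finite := by
    have h1 : c.appTop.hom.Finite := c.finite_appTop
    have h2 : ((Scheme.ΓSpecIso (U.residueField u)).inv).hom.Finite :=
      RingHom.Finite.of_surjective _
        (ConcreteCategory.bijective_of_isIso (Scheme.ΓSpecIso (U.residueField u)).inv).2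
    exact h1.comp h2
  haveI : Module.Finite (U.residueField u) Γ(f.fiber u, ⊤) := hfinψ
  -- the field point factors through the residue field
  let ι : Spec (CommRingCat.of K) ⟶ Spec (U.residueField u) :=
    Spec.map (Scheme.descResidueField (Scheme.stalkClosedPointTo z))
  have hι : ι ≫ U.fromSpecResidueField u = z :=
    Scheme.descResidueField_stalkClosedPointTo_fromSpecResidueField K U z
  let ιr : U.residueField u ⟶ CommRingCat.of K :=
    (Scheme.ΓSpecIso (U.residueField u)).inv ≫ ι.appTop ≫ (Scheme.ΓSpecIso (CommRingCat.of K)).hom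
  letI : Algebra (U.residueField u) K := ιr.hom.toAlgebra
  let lam : Fin n → (Spec (CommRingCat.of K) ⟶ f.fiber u) := fun i =>
    pullback.lift (l i) ι (by rw [hl, hι])
  have hlam1 : ∀ i, lam i ≫ f.fiberι u = l i := fun i => pullback.lift_fst _ _ _
  have hlam2 : ∀ i, lam i ≫ c = ι := fun i => pullback.lift_snd _ _ _
  let βr : Fin n → (Γ(f.fiber u, ⊤) ⟶ CommRingCat.of K) := fun i =>
    (lam i).appTop ≫ (Scheme.ΓSpecIso (CommRingCat.of K)).hom
  have hβr : ∀ i, ψ ≫ βr i = ιr := by
    intro i
    simp only [ψ, βr, ιr, Category.assoc]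
    rw [← Scheme.Hom.comp_appTop_assoc, hlam2]
  let β : Fin n → (Γ(f.fiber u, ⊤) →ₐ[U.residueField u] K) := fun i =>
    { (βr i).hom with
      commutes' := fun r => by
        have := congrArg (fun h => h.hom r) (hβr i)
        exact this }
  have hβinj : Function.Injective β := by
    intro i k hik
    apply hinj
    rw [← hlam1 i, ← hlam1 k]
    congr 1
    apply ext_of_isAffine
    have h1 : βr i = βr k := by
      ext x
      exact congrArg (fun h : Γ(f.fiber u, ⊤) →ₐ[U.residueField u] K => h x) hik
    exact (cancel_mono (Scheme.ΓSpecIso (CommRingCat.of K)).hom).1 h1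
  have h1 : Nat.card (Fin n) ≤ Nat.card (Γ(f.fiber u, ⊤) →ₐ[U.residueField u] K) :=
    Nat.card_le_card_of_injective β hβinj
  have h2 := card_algHom_le_finrank (U.residueField u) Γ(f.fiber u, ⊤) K
  rw [Nat.card_fin] at h1
  exact h1.trans h2

/-- If the fibre of a locally quasi-finite morphism over `u` is finite, then the number of
geometric lifts of `u` is bounded. -/
theorem exists_bound_of_finite_fibre {Y U : Scheme.{u}} (f : Y ⟶ U) [LocallyQuasiFinite f] (u : U)
    (hfin : (f ⁻¹' {u}).Finite) : ∃ N : ℕ, ∀ n, HasLifts f n u → n ≤ N := by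
  refine ⟨fibreRank f u, ?_⟩
  rintro n ⟨K, _, z, l, hinj, hl, hz⟩
  subst hz
  exact le_fibreRank f z hfin l hinj hl

end Groth.Agent.Helper15.LiftCount
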