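import Mathlib
import Groth.Agent.Lib.Helper15.QsDecent
import Groth.Agent.Lib.Helper15.AlgSpEtCl
import Groth.Agent.Lib.Helper15.AlgSpUniv

/-!
# Descending monomorphic field points along quasi-compact etale morphisms
-/

set_option autoImplicit false
universe u
open CategoryTheory CategoryTheory.Limits AlgebraicGeometry Opposite MorphismProperty
open AlgSp

namespace Groth.Agent.Helper15.QcEtDecent

open Groth.Agent.Helper15 Groth.Agent.Helper15.QsDecent

variable {S : Scheme.{u}}

/-- A field point in the class of a monomorphic field point factors through it. -/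
theorem exists_factor_of_mono_fieldPt {X : Sp S} (hX : IsAlgSpace X) (p q : FieldPt X)
    (hp : Mono p.toHom) (h : Points.mk q = Points.mk p) :
    ∃ c : q.pt ⟶ p.pt, (yon S).map c ≫ p.toHom = q.toHom := by
  have sq := IsPullback.of_hasPullback q.toHom p.toHom
  have hZ : IsAlgSpace (pullback q.toHom p.toHom) :=
    isAlgSpace_of_isPullback hX.diag (IsAlgSpace.yon_obj _) (IsAlgSpace.yon_obj _) sq
  let s : ↥q.pt.left := IsLocalRing.closedPoint q.K
  let s' : ↥p.pt.left := IsLocalRing.closedPoint p.K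
  have h1 : Points.map q.toHom (Points.ofScheme q.pt s) = Points.mk q := by
    rw [← Points.ofPt_eq_map_ofScheme, Points.ofPt_toHom]
  have h2 : Points.map p.toHom (Points.ofScheme p.pt s') = Points.mk p := by
    rw [← Points.ofPt_eq_map_ofScheme, Points.ofPt_toHom]
  obtain ⟨z, -, -⟩ := exists_point_of_isPullback sq _ _ (h1.trans (h.trans h2.symm))
  haveI := hp
  haveI : Mono (pullback.fst q.toHom p.toHom) := inferInstance
  haveI : IsIso (pullback.fst q.toHom p.toHom) := isIso_of_mono_to_field_sp hZ q.str _ z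
  obtain ⟨c, hc⟩ := (yon S).map_surjective
    (inv (pullback.fst q.toHom p.toHom) ≫ pullback.snd q.toHom p.toHom)
  refine ⟨c, ?_⟩
  rw [hc, Category.assoc, ← pullback.condition, IsIso.inv_hom_id_assoc]

/-- Compactness of a fibre product passes along an affine change of the first factor. -/
theorem compactSpace_of_factor {X : Sp S} {T T₀ V W W₀ : Over S} [IsAffine T.left]
    [IsAffine T₀.left] (x₀ : (yon S).obj T₀ ⟶ X) (c₀ : T ⟶ T₀) (g : (yon S).obj V ⟶ X)
    (r₁ : W ⟶ T) (r₂ : W ⟶ V)
    (sqW : IsPullback ((yon S).map r₁) ((yon S).map r₂) ((yon S).map c₀ ≫ x₀) g)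
    (r₁' : W₀ ⟶ T₀) (r₂' : W₀ ⟶ V)
    (sqW₀ : IsPullback ((yon S).map r₁') ((yon S).map r₂') x₀ g)
    [CompactSpace W₀.left] : CompactSpace W.left := by
  have hw : ((yon S).map r₁ ≫ (yon S).map c₀) ≫ x₀ = (yon S).map r₂ ≫ g := by
    rw [Category.assoc]; exact sqW.w
  obtain ⟨m, hm⟩ := (yon S).map_surjective (sqW₀.lift _ _ hw)
  have hm1 : (yon S).map m ≫ (yon S).map r₁' = (yon S).map r₁ ≫ (yon S).map c₀ := by
    rw [hm, sqW₀.lift_fst]
  have hm2 : (yon S).map m ≫ (yon S).map r₂' = (yon S).map r₂ := by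
    rw [hm, sqW₀.lift_snd]
  -- the square `W → W₀`, `W → T`, `W₀ → T₀`, `T → T₀` is a pullback
  have sqm : IsPullback ((yon S).map m) ((yon S).map r₁) ((yon S).map r₁') ((yon S).map c₀) := by
    refine IsPullback.of_right ?_ hm1 sqW₀.flip
    rw [hm2]
    exact sqW.flip
  have sqm' : IsPullback m r₁ r₁' c₀ := IsPullback.of_map (yon S)
    ((yon S).map_injective (by simpa only [Functor.map_comp] using sqm.w)) sqm
  have sqL := sqm'.map (Over.forget S)
  have hc₀ : QuasiCompact c₀.left :=
    (HasAffineProperty.iff_of_isAffine (P := @QuasiCompact)).2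
      (inferInstance : CompactSpace T.left)
  haveI : QuasiCompact m.left :=
    MorphismProperty.of_isPullback (P := @QuasiCompact) sqL.flip hc₀
  exact QuasiCompact.compactSpace_of_compactSpace m.left

/-- The fibre product of a monomorphism with a compact scheme etale over a field is compact. -/
theorem compactSpace_of_mono_of_etale_over_field {X : Sp S} {T₀ V W₀ : Over S}
    (x₀ : (yon S).obj T₀ ⟶ X) [Mono x₀] (g : (yon S).obj V ⟶ X)
    (r₁' : W₀ ⟶ T₀) (r₂' : W₀ ⟶ V)
    (sqW₀ : IsPullback ((yon S).map r₁') ((yon S).map r₂') x₀ g)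
    {K : Type u} [Field K] (h : V.left ⟶ Spec (CommRingCat.of K)) [Etale h]
    [CompactSpace V.left] : CompactSpace W₀.left := by
  haveI : Mono ((yon S).map r₂') := by
    refine ⟨fun {Z} a b hab => ?_⟩
    apply sqW₀.hom_ext
    · rw [← cancel_mono x₀, Category.assoc, Category.assoc, sqW₀.w, ← Category.assoc, hab,
        Category.assoc]
    · exact hab
  haveI : Mono r₂' := (yon S).mono_of_mono_map inferInstance
  haveI : Mono r₂'.left := inferInstance
  haveI : IsOpenImmersion r₂'.left := isOpenImmersion_of_mono_to_etale_over_field r₂'.left h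
  haveI : Finite V.left := ValExist.finite_of_compact_etale_over_field h
  haveI : Finite W₀.left :=
    Finite.of_injective _ r₂'.left.isOpenEmbedding.injective
  infer_instance

/-- For a quasi-compact morphism `f : X ⟶ Y`, compactness of `T ×_Y V` (`V` affine) can be checked
on `T ×_X V'` for one affine etale chart `V'` of `X ×_Y V`. -/
theorem exists_chart_compact_transfer {X Y : Sp S} (hX : IsAlgSpace X) (hY : IsAlgSpace Y)
    (f : X ⟶ Y) (hq : IsQuasiCompactMor f) {T V W : Over S} [CompactSpace V.left]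
    (x : (yon S).obj T ⟶ X) (g : (yon S).obj V ⟶ Y) (p₁ : W ⟶ T) (p₂ : W ⟶ V)
    (sqW : IsPullback ((yon S).map p₁) ((yon S).map p₂) (x ≫ f) g) :
    ∃ (V' : Over S) (_ : IsAffine V'.left) (g' : (yon S).obj V' ⟶ X) (ψ : V' ⟶ V),
      g' ≫ f = (yon S).map ψ ≫ g ∧ (IsEtaleMor f → Etale ψ.left) ∧
      ∀ (W' : Over S) (r₁ : W' ⟶ T) (r₂ : W' ⟶ V'),
        IsPullback ((yon S).map r₁) ((yon S).map r₂) x g' → CompactSpace W'.left →
          CompactSpace W.left := by
  have sqE : IsPullback (pullback.fst f g) (pullback.snd f g) f g := IsPullback.of_hasPullback f g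
  have hE : IsAlgSpace (pullback f g) :=
    isAlgSpace_of_isPullback hY.diag hX (IsAlgSpace.yon_obj _) sqE
  have hEqc : IsQuasiCompactSp (pullback f g) :=
    hq (IsAlgSpace.yon_obj V) ((isQuasiCompactSp_yon_iff V).2 inferInstance) g _ _ sqE
  obtain ⟨V', w, hV', hwe, hws⟩ := exists_affine_chart_of_isQuasiCompactSp hEqc
  obtain ⟨ψ, hψ⟩ := (yon S).map_surjective (w ≫ pullback.snd f g)
  refine ⟨V', hV', w ≫ pullback.fst f g, ψ, ?_, ?_, ?_⟩
  · rw [Category.assoc, pullback.condition, ← Category.assoc, hψ]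
  · intro he
    have h1 : IsEtaleMor (pullback.snd f g) :=
      isEtaleMor_of_isPullback hX hY (IsAlgSpace.yon_obj V) f g _ _ sqE.flip he
    have h2 := h1 w hwe
    rw [← hψ] at h2
    exact (repWith_yon_map_iff _ ψ).1 h2
  · intro W' r₁ r₂ sqW' hW'
    -- the map `W → X ×_Y V`
    have hwl : ((yon S).map p₁ ≫ x) ≫ f = (yon S).map p₂ ≫ g := by
      rw [Category.assoc]; exact sqW.w
    let ℓ : (yon S).obj W ⟶ pullback f g := sqE.lift _ _ hwl
    have hℓ1 : ℓ ≫ pullback.fst f g = (yon S).map p₁ ≫ x := sqE.lift_fst _ _ hwl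
    have hℓ2 : ℓ ≫ pullback.snd f g = (yon S).map p₂ := sqE.lift_snd _ _ hwl
    -- `W = T ×_X (X ×_Y V)`
    have sqT : IsPullback ((yon S).map p₁) ℓ x (pullback.fst f g) := by
      refine (IsPullback.of_right ?_ hℓ1 sqE.flip).flip
      rw [hℓ2]
      exact sqW.flip
    -- the map `W' → W`
    have hw' : (yon S).map r₁ ≫ x = ((yon S).map r₂ ≫ w) ≫ pullback.fst f g := by
      rw [Category.assoc]; exact sqW'.w
    obtain ⟨m, hm⟩ := (yon S).map_surjective (sqT.lift _ _ hw')
    have hm1 : (yon S).map m ≫ (yon S).map p₁ = (yon S).map r₁ := by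
      rw [hm, sqT.lift_fst]
    have hm2 : (yon S).map m ≫ ℓ = (yon S).map r₂ ≫ w := by
      rw [hm, sqT.lift_snd]
    have sqm : IsPullback ((yon S).map r₂) ((yon S).map m) w ℓ := by
      refine (IsPullback.of_right ?_ hm2 sqT).flip
      rw [hm1]
      exact sqW'
    have hms : Surjective m.left := hws.property ℓ _ m sqm
    haveI := hW'
    exact Function.Surjective.compactSpace m.left.continuous hms.surj

/-- Compactness of the kernel pair of a field point of `Y` which lifts to a field point of `X`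
factoring through a monomorphic field point, for `X ⟶ Y` quasi-compact etale. -/
theorem compactSpace_kernelPair_aux {X Y : Sp S} (hX : IsAlgSpace X) (hY : IsAlgSpace Y)
    (f : X ⟶ Y) (hq : IsQuasiCompactMor f) (he : IsEtaleMor f) (p : FieldPt X)
    (hp : Mono p.toHom) (qY : FieldPt Y) (xT : (yon S).obj qY.pt ⟶ X) (hx : qY.toHom = xT ≫ f)
    (c₀ : qY.pt ⟶ p.pt) (hc₀ : (yon S).map c₀ ≫ p.toHom = xT) {R : Over S} (s t : R ⟶ qY.pt)
    (sq : IsPullback ((yon S).map s) ((yon S).map t) qY.toHom qY.toHom) :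
    CompactSpace R.left := by
  have haff : IsAffine qY.pt.left := (inferInstance : IsAffine (Spec (CommRingCat.of qY.K)))
  haveI := haff
  haveI : IsAffine p.pt.left := (inferInstance : IsAffine (Spec (CommRingCat.of p.K)))
  haveI := hp
  have sq' : IsPullback ((yon S).map s) ((yon S).map t) (xT ≫ f) qY.toHom := by
    rw [← hx]; exact sq
  obtain ⟨V', hV', g', ψ, -, hψe, htr⟩ :=
    exists_chart_compact_transfer hX hY f hq xT qY.toHom _ _ sq'
  haveI := hV'
  haveI : Etale ψ.left := hψe he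
  have hr1 : Representable ((yon S).map c₀ ≫ p.toHom) := hX.representable_from_yon _
  have hr0 : Representable p.toHom := hX.representable_from_yon _
  have sq1 := hr1.isPullback' g'
  have sq0 := hr0.isPullback' g'
  let h : V'.left ⟶ Spec (CommRingCat.of qY.K) := ψ.left
  haveI : Etale h := ‹Etale ψ.left›
  haveI : CompactSpace (hr0.pullback g').left :=
    compactSpace_of_mono_of_etale_over_field p.toHom g' _ _ sq0 h
  have sq1' : IsPullback ((yon S).map (hr1.fst' g')) ((yon S).map (hr1.snd g')) xT g' := by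
    rw [← hc₀]; exact sq1
  refine htr _ _ _ sq1' ?_
  exact compactSpace_of_factor p.toHom c₀ g' _ _ sq1 _ _ sq0

/-- **Descent of monomorphic field points along a quasi-compact etale morphism.** -/
theorem exists_mono_fieldPt_of_qc_etale {X Y : Sp S} (hX : IsAlgSpace X) (hY : IsAlgSpace Y)
    (f : X ⟶ Y) (hq : IsQuasiCompactMor f) (he : IsEtaleMor f) (p : FieldPt X)
    (hp : Mono p.toHom) :
    ∃ (q' : FieldPt X) (c₀ : q'.pt ⟶ p.pt) (p₀ : FieldPt Y) (c : q'.pt ⟶ p₀.pt),
      (yon S).map c₀ ≫ p.toHom = q'.toHom ∧ (yon S).map c ≫ p₀.toHom = q'.toHom ≫ f ∧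
      Mono p₀.toHom ∧ Surjective c.left ∧ Points.mk p₀ = Points.map f (Points.mk p) := by
  obtain ⟨U, hU, a, u, hae, hau⟩ := exists_affine_etale_nbhd hX (Points.mk p)
  have hq'p : Points.mk (FieldPt.ofPt a u) = Points.mk p := hau
  obtain ⟨c₀, hc₀⟩ := exists_factor_of_mono_fieldPt hX p (FieldPt.ofPt a u) hp hq'p
  have hbe : RepWith @Etale (a ≫ f) := he a hae
  have hqY : (FieldPt.ofPt (a ≫ f) u).toHom = (FieldPt.ofPt a u).toHom ≫ f :=
    FieldPt.toHom_map f (FieldPt.ofPt a u)
  have hrep : Representable (FieldPt.ofPt (a ≫ f) u).toHom := hY.representable_from_yon _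
  have sq := hrep.isPullback' (FieldPt.ofPt (a ≫ f) u).toHom
  have hs : Etale (hrep.fst' (FieldPt.ofPt (a ≫ f) u).toHom).left :=
    etale_kernelPair_ofPt (a ≫ f) hbe u _ _ sq
  have haff : IsAffine (FieldPt.ofPt (a ≫ f) u).pt.left :=
    (inferInstance : IsAffine (Spec (CommRingCat.of (FieldPt.ofPt (a ≫ f) u).K)))
  haveI := haff
  haveI : CompactSpace (hrep.pullback (FieldPt.ofPt (a ≫ f) u).toHom).left :=
    compactSpace_kernelPair_aux hX hY f hq he p hp (FieldPt.ofPt (a ≫ f) u)
      (FieldPt.ofPt a u).toHom hqY c₀ hc₀ _ _ sq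
  have hqc : QuasiCompact (hrep.fst' (FieldPt.ofPt (a ≫ f) u).toHom).left :=
    (HasAffineProperty.iff_of_isAffine (P := @QuasiCompact)).2
      (inferInstance : CompactSpace (hrep.pullback (FieldPt.ofPt (a ≫ f) u).toHom).left)
  obtain ⟨p₀, c, hc, hm, -, hcs⟩ :=
    GpdGeom.exists_mono_fieldPt_of_etale_qc (FieldPt.ofPt (a ≫ f) u) _ _ sq hs hqc
  refine ⟨FieldPt.ofPt a u, c₀, p₀, c, hc₀, ?_, hm, hcs, ?_⟩
  · exact hc.trans hqY
  · have h1 : Points.mk p₀ = Points.mk (FieldPt.ofPt (a ≫ f) u) := by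
      rw [← Points.ofPt_toHom (FieldPt.ofPt (a ≫ f) u) (IsLocalRing.closedPoint _), ← hc,
        ofPt_comp_yon_map, Points.ofPt_toHom]
    rw [h1, ← hq'p]
    rfl

/-- Decency descends along quasi-compact etale surjective morphisms. -/
theorem isDecent_of_qc_etale_surjective {X Y : Sp S} (hX : IsAlgSpace X) (hY : IsAlgSpace Y)
    (f : X ⟶ Y) (hq : IsQuasiCompactMor f) (he : IsEtaleMor f) (hs : IsSurjectiveMor f)
    (hXd : IsDecent X) : IsDecent Y := by
  intro y
  obtain ⟨x, rfl⟩ := hs y
  obtain ⟨p, rfl, hp, hpq⟩ := hXd x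
  obtain ⟨q', c₀, p₀, c, hc₀, hc, hm, hcs, hp₀⟩ :=
    exists_mono_fieldPt_of_qc_etale hX hY f hq he p hp
  refine ⟨p₀, hp₀, hm, ?_⟩
  have hrp : Representable p₀.toHom := hY.representable_from_yon _
  refine repWith_of_forall_affine hrp @QuasiCompact ?_
  intro V W' hV g fst snd' sqW'
  haveI := hV
  haveI : IsAffine q'.pt.left := (inferInstance : IsAffine (Spec (CommRingCat.of q'.K)))
  haveI : IsAffine p.pt.left := (inferInstance : IsAffine (Spec (CommRingCat.of p.K)))
  have hrq : Representable (q'.toHom ≫ f) := hY.representable_from_yon _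
  have sqW'' := hrq.isPullback' g
  have hw : ((yon S).map (hrq.fst' g) ≫ (yon S).map c) ≫ p₀.toHom =
      (yon S).map (hrq.snd g) ≫ g := by
    rw [Category.assoc, hc]; exact sqW''.w
  obtain ⟨m, hm'⟩ := (yon S).map_surjective (sqW'.lift _ _ hw)
  have hm1 : (yon S).map m ≫ fst = (yon S).map (hrq.fst' g) ≫ (yon S).map c := by
    rw [hm', sqW'.lift_fst]
  have hm2 : m ≫ snd' = hrq.snd g := (yon S).map_injective (by
    rw [Functor.map_comp, hm', sqW'.lift_snd])
  have sqm : IsPullback ((yon S).map (hrq.fst' g)) ((yon S).map m) ((yon S).map c) fst := by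
    refine (IsPullback.of_right ?_ hm1 sqW'.flip).flip
    rw [hc, ← Functor.map_comp, hm2]
    exact sqW''.flip
  have hms : Surjective m.left :=
    ((repWith_yon_map_iff @Surjective c).2 hcs).property fst _ m sqm
  haveI : CompactSpace (hrq.pullback g).left := by
    obtain ⟨V', hV', g', ψ, -, -, htr⟩ :=
      exists_chart_compact_transfer hX hY f hq q'.toHom g _ _ sqW''
    haveI := hV'
    have hr1 : Representable ((yon S).map c₀ ≫ p.toHom) := hX.representable_from_yon _
    have sq1 := hr1.isPullback' g'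
    have sq0 := hpq.rep.isPullback' g'
    haveI : QuasiCompact (hpq.rep.snd g').left := hpq.property_snd g'
    haveI : CompactSpace (hpq.rep.pullback g').left :=
      QuasiCompact.compactSpace_of_compactSpace (hpq.rep.snd g').left
    have sq1' : IsPullback ((yon S).map (hr1.fst' g')) ((yon S).map (hr1.snd g')) q'.toHom g' := by
      rw [← hc₀]; exact sq1
    refine htr _ _ _ sq1' ?_
    exact compactSpace_of_factor p.toHom c₀ g' _ _ sq1 _ _ sq0
  haveI : CompactSpace W'.left :=
    Function.Surjective.compactSpace m.left.continuous hms.surj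
  exact (HasAffineProperty.iff_of_isAffine (P := @QuasiCompact)).2
    (inferInstance : CompactSpace W'.left)

end Groth.Agent.Helper15.QcEtDecent
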