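import Mathlib
import Groth.Agent.Lib.Helper15.QcEtDecent

/-!
# Fibres of etale charts over points represented by monomorphisms
-/

set_option autoImplicit false
universe u
open CategoryTheory CategoryTheory.Limits AlgebraicGeometry Opposite MorphismProperty
open AlgSp

namespace Groth.Agent.Helper15.MonoPtFibre

open Groth.Agent.Helper15 Groth.Agent.Helper15.QsDecent Groth.Agent.Helper15.QcEtDecent

variable {S : Scheme.{u}}

/-- The morphism `Spec κ(u) ⟶ U` over `S`. -/
noncomputable def iota {X : Sp S} {U : Over S} (φ : (yon S).obj U ⟶ X) (u : U.left) :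
    (FieldPt.ofPt φ u).pt ⟶ U := Over.homMk (U.left.fromSpecResidueField u) rfl

theorem toHom_ofPt_eq {X : Sp S} {U : Over S} (φ : (yon S).obj U ⟶ X) (u : U.left) :
    (FieldPt.ofPt φ u).toHom = (yon S).map (iota φ u) ≫ φ := FieldPt.toHom_ofPt φ u

instance {X : Sp S} {U : Over S} (φ : (yon S).obj U ⟶ X) (u : U.left) : Mono (iota φ u) := by
  haveI : Mono (iota φ u).left := (inferInstance : Mono (U.left.fromSpecResidueField u))
  exact Over.mono_of_mono_left _

/-- If the field point of a point `u` of an etale chart factors through a monomorphic field point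
`Spec k ⟶ X`, then `κ(u)` is etale over `k`. -/
theorem etale_factor_ofPt_of_mono {X : Sp S} (p : FieldPt X) (_hp : Mono p.toHom) {U : Over S}
    (φ : (yon S).obj U ⟶ X) (hφ : RepWith @Etale φ) (u : U.left)
    (c : (FieldPt.ofPt φ u).pt ⟶ p.pt) (hc : (yon S).map c ≫ p.toHom = (FieldPt.ofPt φ u).toHom) :
    Etale c.left := by
  have sqF := hφ.rep.isPullback' p.toHom
  haveI hK : Etale (hφ.rep.snd p.toHom).left := hφ.property_snd _
  have hw : (yon S).map (iota φ u) ≫ φ = (yon S).map c ≫ p.toHom := by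
    rw [hc, toHom_ofPt_eq]
  obtain ⟨ℓ, hℓ⟩ := (yon S).map_surjective (sqF.lift _ _ hw)
  have hℓ1 : ℓ ≫ hφ.rep.fst' p.toHom = iota φ u := (yon S).map_injective (by
    rw [Functor.map_comp, hℓ, sqF.lift_fst])
  have hℓ2 : ℓ ≫ hφ.rep.snd p.toHom = c := (yon S).map_injective (by
    rw [Functor.map_comp, hℓ, sqF.lift_snd])
  haveI : Mono ℓ := by
    haveI : Mono (ℓ ≫ hφ.rep.fst' p.toHom) := by rw [hℓ1]; infer_instance
    exact mono_of_mono ℓ (hφ.rep.fst' p.toHom)
  haveI : Mono ℓ.left := inferInstance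
  haveI : IsOpenImmersion ℓ.left :=
    isOpenImmersion_of_mono_to_etale_over_field ℓ.left (k := p.K) (hφ.rep.snd p.toHom).left
  have : c.left = ℓ.left ≫ (hφ.rep.snd p.toHom).left := by
    rw [← Over.comp_left, hℓ2]
  rw [this]
  infer_instance

theorem iota_left_apply {X : Sp S} {U : Over S} (φ : (yon S).obj U ⟶ X) (u : U.left)
    (z : (FieldPt.ofPt φ u).pt.left) : (iota φ u).left z = u :=
  Scheme.fromSpecResidueField_apply _ _

/-- If `x` is represented by a monomorphism from the spectrum of a field, the fibres of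
`|U ×_X U| → |U| × |U|` over pairs of points over `x` are finite. -/
theorem finite_relation_fibre_of_mono {X : Sp S} (hX : IsAlgSpace X) (p : FieldPt X)
    (hp : Mono p.toHom) {U : Over S} (φ : (yon S).obj U ⟶ X) (hφ : RepWith @Etale φ)
    (u u' : U.left) (hu : Points.ofPt φ u = Points.mk p) (hu' : Points.ofPt φ u' = Points.mk p)
    (R : Over S) (s t : R ⟶ U) (sqR : IsPullback ((yon S).map t) ((yon S).map s) φ φ) :
    {r : R.left | s.left r = u ∧ t.left r = u'}.Finite := by
  haveI := hp
  obtain ⟨c, hc⟩ := exists_factor_of_mono_fieldPt hX p (FieldPt.ofPt φ u) hp hu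
  obtain ⟨c', hc'⟩ := exists_factor_of_mono_fieldPt hX p (FieldPt.ofPt φ u') hp hu'
  have hce : Etale c.left := etale_factor_ofPt_of_mono p hp φ hφ u c hc
  have sq1 : IsPullback (pullback.fst (iota φ u) s) (pullback.snd (iota φ u) s) (iota φ u) s :=
    IsPullback.of_hasPullback _ _
  have sq2 : IsPullback (pullback.fst (pullback.snd (iota φ u) s ≫ t) (iota φ u'))
      (pullback.snd (pullback.snd (iota φ u) s ≫ t) (iota φ u'))
      (pullback.snd (iota φ u) s ≫ t) (iota φ u') := IsPullback.of_hasPullback _ _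
  have sq1' := sq1.map (yon S)
  have sq2' := sq2.map (yon S)
  have hbot : IsPullback ((yon S).map (pullback.snd (iota φ u) s ≫ t))
      ((yon S).map (pullback.fst (iota φ u) s)) φ ((yon S).map (iota φ u) ≫ φ) := by
    rw [Functor.map_comp]
    exact sq1'.flip.paste_horiz sqR
  have hbig := sq2'.flip.paste_vert hbot
  rw [← toHom_ofPt_eq, ← toHom_ofPt_eq, ← hc, ← hc', ← Functor.map_comp] at hbig
  have hbig' := isPullback_of_comp_mono p.toHom hbig
  have hbig'' : IsPullback (pullback.snd (pullback.snd (iota φ u) s ≫ t) (iota φ u'))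
      (pullback.fst (pullback.snd (iota φ u) s ≫ t) (iota φ u') ≫ pullback.fst (iota φ u) s)
      c' c := IsPullback.of_map (yon S)
    ((yon S).map_injective (by simpa only [Functor.map_comp] using hbig'.w)) hbig'
  have sqL := hbig''.map (Over.forget S)
  haveI : IsAffine (FieldPt.ofPt φ u).pt.left :=
    (inferInstance : IsAffine (Spec (CommRingCat.of (FieldPt.ofPt φ u).K)))
  haveI : IsAffine (FieldPt.ofPt φ u').pt.left :=
    (inferInstance : IsAffine (Spec (CommRingCat.of (FieldPt.ofPt φ u').K)))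
  haveI : IsAffine p.pt.left := (inferInstance : IsAffine (Spec (CommRingCat.of p.K)))
  have hcq : QuasiCompact c.left :=
    (HasAffineProperty.iff_of_isAffine (P := @QuasiCompact)).2
      (inferInstance : CompactSpace (FieldPt.ofPt φ u).pt.left)
  let a₂ : (pullback (pullback.snd (iota φ u) s ≫ t) (iota φ u')).left ⟶
      Spec (CommRingCat.of (FieldPt.ofPt φ u').K) :=
    (pullback.snd (pullback.snd (iota φ u) s ≫ t) (iota φ u')).left
  haveI : Etale a₂ := MorphismProperty.of_isPullback (P := @Etale) sqL.flip hce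
  haveI : QuasiCompact a₂ := MorphismProperty.of_isPullback (P := @QuasiCompact) sqL.flip hcq
  haveI : CompactSpace (pullback (pullback.snd (iota φ u) s ≫ t) (iota φ u')).left :=
    QuasiCompact.compactSpace_of_compactSpace a₂
  haveI : Finite (pullback (pullback.snd (iota φ u) s ≫ t) (iota φ u')).left :=
    ValExist.finite_of_compact_etale_over_field a₂
  refine (Set.finite_range (pullback.fst (pullback.snd (iota φ u) s ≫ t) (iota φ u') ≫
    pullback.snd (iota φ u) s).left).subset ?_
  rintro r ⟨hr1, hr2⟩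
  let z : (FieldPt.ofPt φ u).pt.left := IsLocalRing.closedPoint (FieldPt.ofPt φ u).K
  let z' : (FieldPt.ofPt φ u').pt.left := IsLocalRing.closedPoint (FieldPt.ofPt φ u').K
  obtain ⟨r₁, -, hr₁⟩ := exists_of_ofPt_eq sq1' z r (by
    rw [ofPt_yon_map, ofPt_yon_map, iota_left_apply, hr1])
  obtain ⟨r₂, hr₂, -⟩ := exists_of_ofPt_eq sq2' r₁ z' (by
    rw [ofPt_yon_map, ofPt_yon_map, iota_left_apply, Over.comp_left, Scheme.Hom.comp_apply, hr₁,
      hr2])
  refine ⟨r₂, ?_⟩
  rw [Over.comp_left, Scheme.Hom.comp_apply, hr₂, hr₁]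

/-- Changing the first factor of a fibre product along `c₀` is a base change of `c₀`. -/
theorem exists_factor_isPullback {X : Sp S} {T T₀ V W W₀ : Over S}
    (x₀ : (yon S).obj T₀ ⟶ X) (c₀ : T ⟶ T₀) (g : (yon S).obj V ⟶ X)
    (r₁ : W ⟶ T) (r₂ : W ⟶ V)
    (sqW : IsPullback ((yon S).map r₁) ((yon S).map r₂) ((yon S).map c₀ ≫ x₀) g)
    (r₁' : W₀ ⟶ T₀) (r₂' : W₀ ⟶ V)
    (sqW₀ : IsPullback ((yon S).map r₁') ((yon S).map r₂') x₀ g) :
    ∃ m : W ⟶ W₀, m ≫ r₂' = r₂ ∧ IsPullback m r₁ r₁' c₀ := by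
  have hw : ((yon S).map r₁ ≫ (yon S).map c₀) ≫ x₀ = (yon S).map r₂ ≫ g := by
    rw [Category.assoc]; exact sqW.w
  obtain ⟨m, hm⟩ := (yon S).map_surjective (sqW₀.lift _ _ hw)
  have hm1 : (yon S).map m ≫ (yon S).map r₁' = (yon S).map r₁ ≫ (yon S).map c₀ := by
    rw [hm, sqW₀.lift_fst]
  have hm2 : (yon S).map m ≫ (yon S).map r₂' = (yon S).map r₂ := by
    rw [hm, sqW₀.lift_snd]
  have sqm : IsPullback ((yon S).map m) ((yon S).map r₁) ((yon S).map r₁') ((yon S).map c₀) := by
    refine IsPullback.of_right ?_ hm1 sqW₀.flip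
    rw [hm2]
    exact sqW.flip
  refine ⟨m, (yon S).map_injective (by rw [Functor.map_comp, hm2]), ?_⟩
  exact IsPullback.of_map (yon S)
    ((yon S).map_injective (by simpa only [Functor.map_comp] using sqm.w)) sqm

/-- If the fibre of `|U ×_X U| → |U| × |U|` over one pair of points `(u, u')` over `x` is finite,
then `x` is represented by a monomorphism from the spectrum of a field. -/
theorem exists_mono_of_finite_relation_fibre {X : Sp S} (hX : IsAlgSpace X) {U : Over S}
    (φ : (yon S).obj U ⟶ X) (hφ : RepWith @Etale φ) (u u' : U.left)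
    (he : Points.ofPt φ u = Points.ofPt φ u')
    (hfin : ∀ (R : Over S) (s t : R ⟶ U), IsPullback ((yon S).map t) ((yon S).map s) φ φ →
      {r : R.left | s.left r = u ∧ t.left r = u'}.Finite) :
    ∃ p : FieldPt X, Points.mk p = Points.ofPt φ u ∧ Mono p.toHom := by
  have hrep : Representable (FieldPt.ofPt φ u).toHom := hX.representable_from_yon _
  have sq := hrep.isPullback' (FieldPt.ofPt φ u).toHom
  have hs : Etale (hrep.fst' (FieldPt.ofPt φ u).toHom).left := etale_kernelPair_ofPt φ hφ u _ _ sq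
  haveI haff : IsAffine (FieldPt.ofPt φ u).pt.left :=
    (inferInstance : IsAffine (Spec (CommRingCat.of (FieldPt.ofPt φ u).K)))
  haveI haff' : IsAffine (FieldPt.ofPt φ u').pt.left :=
    (inferInstance : IsAffine (Spec (CommRingCat.of (FieldPt.ofPt φ u').K)))
  -- the scheme `F = Spec κ(u) ×_X Spec κ(u')`
  obtain ⟨F, pr₁, pr₂, sqF⟩ : ∃ (F : Over S) (pr₁ : F ⟶ (FieldPt.ofPt φ u).pt)
      (pr₂ : F ⟶ (FieldPt.ofPt φ u').pt), IsPullback ((yon S).map pr₁) ((yon S).map pr₂)
        (FieldPt.ofPt φ u).toHom (FieldPt.ofPt φ u').toHom :=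
    ⟨_, _, _, hrep.isPullback' (FieldPt.ofPt φ u').toHom⟩
  obtain ⟨R, t, s, sqR⟩ : ∃ (R : Over S) (t s : R ⟶ U),
      IsPullback ((yon S).map t) ((yon S).map s) φ φ := ⟨_, _, _, hφ.rep.isPullback' φ⟩
  have hfinR := hfin R s t sqR
  -- `F` maps to `R` by a monomorphism
  have hwn : (yon S).map (pr₂ ≫ iota φ u') ≫ φ = (yon S).map (pr₁ ≫ iota φ u) ≫ φ := by
    rw [Functor.map_comp, Functor.map_comp, Category.assoc, Category.assoc, ← toHom_ofPt_eq,
      ← toHom_ofPt_eq]
    exact sqF.w.symm
  obtain ⟨n, hn⟩ := (yon S).map_surjective (sqR.lift _ _ hwn)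
  have hn1 : n ≫ t = pr₂ ≫ iota φ u' := (yon S).map_injective (by
    rw [Functor.map_comp, hn, sqR.lift_fst])
  have hn2 : n ≫ s = pr₁ ≫ iota φ u := (yon S).map_injective (by
    rw [Functor.map_comp, hn, sqR.lift_snd])
  haveI : Mono n := by
    refine ⟨fun {Z} a b hab => ?_⟩
    apply (yon S).map_injective
    apply sqF.hom_ext
    · rw [← Functor.map_comp, ← Functor.map_comp]
      congr 1
      rw [← cancel_mono (iota φ u), Category.assoc, Category.assoc, ← hn2, ← Category.assoc, hab,
        Category.assoc]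
    · rw [← Functor.map_comp, ← Functor.map_comp]
      congr 1
      rw [← cancel_mono (iota φ u'), Category.assoc, Category.assoc, ← hn1, ← Category.assoc, hab,
        Category.assoc]
  haveI : Mono n.left := inferInstance
  haveI : Finite F.left := by
    have himg : Set.range n.left ⊆ {r | s.left r = u ∧ t.left r = u'} := by
      rintro _ ⟨z, rfl⟩
      refine ⟨?_, ?_⟩
      · rw [← Scheme.Hom.comp_apply, ← Over.comp_left, hn2, Over.comp_left,
          Scheme.Hom.comp_apply, iota_left_apply]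
      · rw [← Scheme.Hom.comp_apply, ← Over.comp_left, hn1, Over.comp_left,
          Scheme.Hom.comp_apply, iota_left_apply]
    haveI : Finite (Set.range n.left) := (hfinR.subset himg).to_subtype
    exact Finite.of_injective_finite_range n.left.injective
  let z : (FieldPt.ofPt φ u).pt.left := IsLocalRing.closedPoint (FieldPt.ofPt φ u).K
  let z' : (FieldPt.ofPt φ u').pt.left := IsLocalRing.closedPoint (FieldPt.ofPt φ u').K
  obtain ⟨f₀, -, -⟩ := exists_of_ofPt_eq sqF z z' (by
    rw [Points.ofPt_toHom, Points.ofPt_toHom]; exact he)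
  -- the triple fibre product
  obtain ⟨T, τ₁, τ₂, sqT⟩ : ∃ (T : Over S) (τ₁ : T ⟶ F) (τ₂ : T ⟶ (FieldPt.ofPt φ u).pt),
      IsPullback ((yon S).map τ₁) ((yon S).map τ₂)
        ((yon S).map pr₁ ≫ (FieldPt.ofPt φ u).toHom) (FieldPt.ofPt φ u).toHom :=
    ⟨_, _, _, (hrep.isPullback' ((yon S).map pr₁ ≫ (FieldPt.ofPt φ u).toHom)).flip⟩
  have sqT' := sqT
  rw [sqF.w] at sqT'
  obtain ⟨m, -, hmsq⟩ := exists_factor_isPullback (FieldPt.ofPt φ u').toHom pr₂
    (FieldPt.ofPt φ u).toHom _ _ sqT' pr₂ pr₁ sqF.flip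
  obtain ⟨m', -, hm'sq⟩ := exists_factor_isPullback (FieldPt.ofPt φ u).toHom pr₁
    (FieldPt.ofPt φ u).toHom _ _ sqT _ _ sq
  have hpr₂ : QuasiCompact pr₂.left :=
    (HasAffineProperty.iff_of_isAffine (P := @QuasiCompact)).2
      (inferInstance : CompactSpace F.left)
  haveI : QuasiCompact m.left :=
    MorphismProperty.of_isPullback (P := @QuasiCompact) (hmsq.map (Over.forget S)).flip hpr₂
  haveI : CompactSpace T.left := QuasiCompact.compactSpace_of_compactSpace m.left
  haveI : Subsingleton ↥(FieldPt.ofPt φ u).pt.left :=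
    (inferInstance : Subsingleton (Spec (CommRingCat.of (FieldPt.ofPt φ u).K)))
  have hpr₁ : Surjective pr₁.left := ⟨fun y => ⟨f₀, Subsingleton.elim _ _⟩⟩
  have hm's : Surjective m'.left :=
    MorphismProperty.of_isPullback (P := @Surjective) (hm'sq.map (Over.forget S)).flip hpr₁
  haveI : CompactSpace (hrep.pullback (FieldPt.ofPt φ u).toHom).left :=
    Function.Surjective.compactSpace m'.left.continuous hm's.surj
  have hqc : QuasiCompact (hrep.fst' (FieldPt.ofPt φ u).toHom).left :=
    (HasAffineProperty.iff_of_isAffine (P := @QuasiCompact)).2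
      (inferInstance : CompactSpace (hrep.pullback (FieldPt.ofPt φ u).toHom).left)
  obtain ⟨p₀, c, hc, hm₀, -, -⟩ :=
    GpdGeom.exists_mono_fieldPt_of_etale_qc (FieldPt.ofPt φ u) _ _ sq hs hqc
  refine ⟨p₀, ?_, hm₀⟩
  change Points.mk p₀ = Points.mk (FieldPt.ofPt φ u)
  rw [← Points.ofPt_toHom (FieldPt.ofPt φ u) (IsLocalRing.closedPoint _), ← hc,
    ofPt_comp_yon_map, Points.ofPt_toHom]

/-- Characterisation of points with finite fibres on an etale chart and its relation. -/
theorem finite_chart_fibres_iff {X : Sp S} (hX : IsAlgSpace X) (x : Points X) {U : Over S}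
    (φ : (yon S).obj U ⟶ X) (hφ : RepWith @Etale φ) :
    (x ∈ Set.range (Points.ofPt φ) ∧ (Points.ofPt φ ⁻¹' {x}).Finite ∧
        ∀ (R : Over S) (s t : R ⟶ U), IsPullback ((yon S).map t) ((yon S).map s) φ φ →
          (Points.ofPt ((yon S).map t ≫ φ) ⁻¹' {x}).Finite) ↔
      ∃ p : FieldPt X, Points.mk p = x ∧ Mono p.toHom ∧
        ∀ (T : Over S) (c : T ⟶ p.pt) (snd : (yon S).obj T ⟶ (yon S).obj U),
          IsPullback ((yon S).map c) snd p.toHom φ → Nonempty ↥T.left ∧ IsFinite c.left := by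
  constructor
  · rintro ⟨⟨u, rfl⟩, hfinU, hfinR⟩
    obtain ⟨p, hp, hm⟩ := exists_mono_of_finite_relation_fibre hX φ hφ u u rfl
      (fun R s t sqR => (hfinR R s t sqR).subset (by
        rintro r ⟨-, hr⟩
        change Points.ofPt ((yon S).map t ≫ φ) r = _
        rw [ofPt_comp_yon_map, hr]))
    refine ⟨p, hp, hm, ?_⟩
    intro T c snd sq
    obtain ⟨σ, rfl⟩ := (yon S).map_surjective snd
    haveI := hm
    let z : p.pt.left := IsLocalRing.closedPoint p.K
    obtain ⟨t₀, -, -⟩ := exists_of_ofPt_eq sq z u (by rw [Points.ofPt_toHom, hp])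
    refine ⟨⟨t₀⟩, ?_⟩
    have hce : Etale c.left := hφ.property p.toHom _ c sq.flip
    haveI : Mono ((yon S).map σ) := by
      refine ⟨fun {Z} a b hab => ?_⟩
      apply sq.hom_ext
      · rw [← cancel_mono p.toHom, Category.assoc, Category.assoc, sq.w, ← Category.assoc, hab,
          Category.assoc]
      · exact hab
    haveI : Mono σ := (yon S).mono_of_mono_map inferInstance
    haveI : Mono σ.left := inferInstance
    haveI : Finite T.left := by
      have himg : Set.range σ.left ⊆ Points.ofPt φ ⁻¹' {Points.ofPt φ u} := by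
        rintro _ ⟨w, rfl⟩
        change Points.ofPt φ (σ.left w) = _
        rw [← ofPt_comp_yon_map, ← sq.w, ofPt_comp_yon_map, Points.ofPt_toHom, hp]
      haveI : Finite (Set.range σ.left) := (hfinU.subset himg).to_subtype
      exact Finite.of_injective_finite_range σ.left.injective
    haveI : IsAffine p.pt.left := (inferInstance : IsAffine (Spec (CommRingCat.of p.K)))
    let c₀ : T.left ⟶ Spec (CommRingCat.of p.K) := c.left
    haveI : Etale c₀ := hce
    haveI : LocallyQuasiFinite c₀ := locallyQuasiFinite_of_etale c₀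
    haveI : QuasiCompact c₀ := (HasAffineProperty.iff_of_isAffine (P := @QuasiCompact)).2
      (inferInstance : CompactSpace T.left)
    exact IsFinite.of_locallyQuasiFinite c₀
  · rintro ⟨p, rfl, hm, hT⟩
    have sqT := (hφ.rep.isPullback' p.toHom).flip
    obtain ⟨⟨t₀⟩, hfin⟩ := hT _ _ _ sqT
    have hx : Points.ofPt φ ((hφ.rep.fst' p.toHom).left t₀) = Points.mk p := by
      rw [← ofPt_comp_yon_map, ← sqT.w, ofPt_comp_yon_map, Points.ofPt_toHom]
    haveI : IsAffine p.pt.left := (inferInstance : IsAffine (Spec (CommRingCat.of p.K)))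
    let c₀ : (hφ.rep.pullback p.toHom).left ⟶ Spec (CommRingCat.of p.K) :=
      (hφ.rep.snd p.toHom).left
    haveI : IsFinite c₀ := hfin
    haveI : Finite (hφ.rep.pullback p.toHom).left := by
      have h1 := c₀.finite_preimage_singleton (IsLocalRing.closedPoint p.K)
      refine Set.finite_univ_iff.1 (h1.subset ?_)
      intro w _
      exact Subsingleton.elim (α := Spec (CommRingCat.of p.K)) _ _
    have hfinU : (Points.ofPt φ ⁻¹' {Points.mk p}).Finite := by
      refine (Set.finite_range (hφ.rep.fst' p.toHom).left).subset ?_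
      intro v hv
      obtain ⟨w, -, hw⟩ := exists_of_ofPt_eq sqT (IsLocalRing.closedPoint p.K) v (by
        rw [Points.ofPt_toHom]; exact hv.symm)
      exact ⟨w, hw⟩
    refine ⟨⟨_, hx⟩, hfinU, ?_⟩
    intro R s t sqR
    have hsub : Points.ofPt ((yon S).map t ≫ φ) ⁻¹' {Points.mk p} ⊆
        ⋃ v ∈ Points.ofPt φ ⁻¹' {Points.mk p}, ⋃ v' ∈ Points.ofPt φ ⁻¹' {Points.mk p},
          {r : R.left | s.left r = v ∧ t.left r = v'} := by
      intro r hr
      have hr' : Points.ofPt φ (t.left r) = Points.mk p := by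
        rw [← ofPt_comp_yon_map]; exact hr
      have hr'' : Points.ofPt φ (s.left r) = Points.mk p := by
        rw [← ofPt_comp_yon_map, ← sqR.w]; exact hr
      simp only [Set.mem_iUnion]
      exact ⟨s.left r, hr'', t.left r, hr', rfl, rfl⟩
    refine Set.Finite.subset ?_ hsub
    refine hfinU.biUnion (fun v hv => hfinU.biUnion (fun v' hv' => ?_))
    exact finite_relation_fibre_of_mono hX p hm φ hφ v v' hv hv' R s t sqR

end Groth.Agent.Helper15.MonoPtFibre
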