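import Mathlib
import Groth.Agent.Lib.Helper15.MonoPtFibre
import Groth.Agent.Lib.Helper15.AlgSpDiag

/-!
# Quasi-compactness of field points: dependence on the class only, and etale-local criterion
-/

set_option autoImplicit false
universe u
open CategoryTheory CategoryTheory.Limits AlgebraicGeometry Opposite MorphismProperty
open AlgSp

namespace Groth.Agent.Helper15.QcLocal

open Groth.Agent.Helper15 Groth.Agent.Helper15.QsDecent Groth.Agent.Helper15.QcEtDecent
  Groth.Agent.Helper15.MonoPtFibre

variable {S : Scheme.{u}}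

/-- Compactness of a fibre product descends along a surjective change of the first factor. -/
theorem compactSpace_of_surjective_factor {X : Sp S} {T T₀ V W W₀ : Over S}
    (x₀ : (yon S).obj T₀ ⟶ X) (c₀ : T ⟶ T₀) (hc₀ : Surjective c₀.left)
    (g : (yon S).obj V ⟶ X) (r₁ : W ⟶ T) (r₂ : W ⟶ V)
    (sqW : IsPullback ((yon S).map r₁) ((yon S).map r₂) ((yon S).map c₀ ≫ x₀) g)
    (r₁' : W₀ ⟶ T₀) (r₂' : W₀ ⟶ V)
    (sqW₀ : IsPullback ((yon S).map r₁') ((yon S).map r₂') x₀ g)
    [CompactSpace W.left] : CompactSpace W₀.left := by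
  obtain ⟨m, -, sqm⟩ := exists_factor_isPullback x₀ c₀ g r₁ r₂ sqW r₁' r₂' sqW₀
  have sqL := sqm.map (Over.forget S)
  have hms : Surjective m.left :=
    MorphismProperty.of_isPullback (P := @Surjective) sqL.flip hc₀
  exact Function.Surjective.compactSpace m.left.continuous hms.surj

/-- Quasi-compactness of a field point only depends on its class. -/
theorem repWith_quasiCompact_of_mk_eq {X : Sp S} (hX : IsAlgSpace X) (q q' : FieldPt X)
    (h : Points.mk q' = Points.mk q) (hq : RepWith @QuasiCompact q.toHom) :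
    RepWith @QuasiCompact q'.toHom := by
  have hrep : Representable q.toHom := hX.representable_from_yon _
  have sqZ := hrep.isPullback' q'.toHom
  obtain ⟨z, -, -⟩ := exists_of_ofPt_eq sqZ (IsLocalRing.closedPoint q.K)
    (IsLocalRing.closedPoint q'.K) (by rw [Points.ofPt_toHom, Points.ofPt_toHom, h])
  -- the residue field point of `z`
  let T : Over S := Over.mk ((hrep.pullback q'.toHom).left.fromSpecResidueField z ≫
    (hrep.pullback q'.toHom).hom)
  let ι : T ⟶ hrep.pullback q'.toHom :=
    Over.homMk ((hrep.pullback q'.toHom).left.fromSpecResidueField z) rfl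
  let c₁ : T ⟶ q.pt := ι ≫ hrep.fst' q'.toHom
  let c₂ : T ⟶ q'.pt := ι ≫ hrep.snd q'.toHom
  have hcc : (yon S).map c₁ ≫ q.toHom = (yon S).map c₂ ≫ q'.toHom := by
    simp only [c₁, c₂, Functor.map_comp, Category.assoc, sqZ.w]
  haveI hT : IsAffine T.left :=
    (inferInstance : IsAffine (Spec ((hrep.pullback q'.toHom).left.residueField z)))
  haveI : IsAffine q.pt.left := (inferInstance : IsAffine (Spec (CommRingCat.of q.K)))
  haveI : IsAffine q'.pt.left := (inferInstance : IsAffine (Spec (CommRingCat.of q'.K)))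
  have hc₂ : Surjective c₂.left := by
    refine ⟨fun y => ⟨IsLocalRing.closedPoint _, ?_⟩⟩
    exact Subsingleton.elim (α := Spec (CommRingCat.of q'.K)) _ _
  have hrq' : Representable q'.toHom := hX.representable_from_yon _
  refine repWith_of_forall_affine hrq' @QuasiCompact ?_
  intro V W' hV g fst snd' sqW'
  haveI := hV
  obtain ⟨r₁', rfl⟩ := (yon S).map_surjective fst
  have hr1 : Representable ((yon S).map c₁ ≫ q.toHom) := hX.representable_from_yon _
  have sq1 := hr1.isPullback' g
  have sq0 := hq.rep.isPullback' g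
  haveI : QuasiCompact (hq.rep.snd g).left := hq.property_snd g
  haveI : CompactSpace (hq.rep.pullback g).left :=
    QuasiCompact.compactSpace_of_compactSpace (hq.rep.snd g).left
  haveI : CompactSpace (hr1.pullback g).left :=
    compactSpace_of_factor q.toHom c₁ g _ _ sq1 _ _ sq0
  have sq1' : IsPullback ((yon S).map (hr1.fst' g)) ((yon S).map (hr1.snd g))
      ((yon S).map c₂ ≫ q'.toHom) g := by
    rw [← hcc]; exact sq1
  haveI : CompactSpace W'.left :=
    compactSpace_of_surjective_factor q'.toHom c₂ hc₂ g _ _ sq1' r₁' snd' sqW'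
  exact (HasAffineProperty.iff_of_isAffine (P := @QuasiCompact)).2
    (inferInstance : CompactSpace W'.left)

/-- A quasi-compact field point has the same class as a quasi-compact monomorphic field point. -/
theorem exists_mono_of_quasiCompact_fieldPt {X : Sp S} (hX : IsAlgSpace X) (q : FieldPt X)
    (hq : RepWith @QuasiCompact q.toHom) :
    ∃ p : FieldPt X, Points.mk p = Points.mk q ∧ Mono p.toHom ∧
      RepWith @QuasiCompact p.toHom := by
  obtain ⟨U, hU, a, u, hae, hau⟩ := exists_affine_etale_nbhd hX (Points.mk q)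
  have hq'q : Points.mk (FieldPt.ofPt a u) = Points.mk q := hau
  have hq' : RepWith @QuasiCompact (FieldPt.ofPt a u).toHom :=
    repWith_quasiCompact_of_mk_eq hX q _ hq'q hq
  have sq := hq'.rep.isPullback' (FieldPt.ofPt a u).toHom
  have hs : Etale (hq'.rep.fst' (FieldPt.ofPt a u).toHom).left :=
    etale_kernelPair_ofPt a hae u _ _ sq
  haveI haff : IsAffine (FieldPt.ofPt a u).pt.left :=
    (inferInstance : IsAffine (Spec (CommRingCat.of (FieldPt.ofPt a u).K)))
  haveI : QuasiCompact (hq'.rep.snd (FieldPt.ofPt a u).toHom).left := hq'.property_snd _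
  haveI : CompactSpace (hq'.rep.pullback (FieldPt.ofPt a u).toHom).left :=
    QuasiCompact.compactSpace_of_compactSpace (hq'.rep.snd (FieldPt.ofPt a u).toHom).left
  have hqc : QuasiCompact (hq'.rep.fst' (FieldPt.ofPt a u).toHom).left :=
    (HasAffineProperty.iff_of_isAffine (P := @QuasiCompact)).2
      (inferInstance : CompactSpace (hq'.rep.pullback (FieldPt.ofPt a u).toHom).left)
  obtain ⟨p, c, hc, hm, -, -⟩ :=
    GpdGeom.exists_mono_fieldPt_of_etale_qc (FieldPt.ofPt a u) _ _ sq hs hqc
  have hpq' : Points.mk p = Points.mk (FieldPt.ofPt a u) := by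
    rw [← Points.ofPt_toHom (FieldPt.ofPt a u) (IsLocalRing.closedPoint _), ← hc,
      ofPt_comp_yon_map, Points.ofPt_toHom]
  exact ⟨p, hpq'.trans hq'q, hm, repWith_quasiCompact_of_mk_eq hX _ p hpq' hq'⟩

/-- Local form of the etale-local criterion for quasi-compactness. -/
theorem exists_nhds_compact_preimage {X : Sp S} (hX : IsAlgSpace X) {T : Over S}
    (p : (yon S).obj T ⟶ X)
    (h : ∀ (V' W' : Over S) (ψ : (yon S).obj V' ⟶ X) (r₁ : W' ⟶ T) (r₂ : W' ⟶ V'),
      IsAffine V'.left → RepWith @Etale ψ →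
        IsPullback ((yon S).map r₁) ((yon S).map r₂) p ψ → CompactSpace W'.left)
    {V W : Over S} (g : (yon S).obj V ⟶ X) (fst : W ⟶ T) (snd' : W ⟶ V)
    (sqW : IsPullback ((yon S).map fst) ((yon S).map snd') p g) (v : V.left) :
    ∃ t ∈ nhds v, ∃ K : Set W.left, IsCompact K ∧ snd'.left ⁻¹' t ⊆ K := by
  obtain ⟨O, hO, a, o, hae, hao⟩ := exists_affine_etale_nbhd hX (Points.ofPt g v)
  haveI := hO
  have sqE := hae.rep.isPullback' g
  haveI hsE : Etale (hae.rep.snd g).left := hae.property_snd g
  obtain ⟨e, he1, he2⟩ := exists_of_ofPt_eq sqE o v hao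
  obtain ⟨_, ⟨A, hA, rfl⟩, heA, -⟩ :=
    ((hae.rep.pullback g).left.isBasis_affineOpens).exists_subset_of_mem_open
      (Set.mem_univ e) isOpen_univ
  let A' : (hae.rep.pullback g).left.Opens := A
  let TA : Over S := Over.mk (A'.ι ≫ (hae.rep.pullback g).hom)
  let j : TA ⟶ hae.rep.pullback g := Over.homMk A'.ι rfl
  haveI hTA : IsAffine TA.left := (show IsAffineOpen A' from hA)
  -- the open neighbourhood
  refine ⟨(hae.rep.snd g).left '' (A' : Set (hae.rep.pullback g).left), ?_, ?_⟩
  · refine IsOpen.mem_nhds ((hae.rep.snd g).left.isOpenMap _ A'.isOpen) ?_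
    exact ⟨e, heA, he2⟩
  -- the compact set
  have hrp : Representable p := hX.representable_from_yon _
  have hcomm : (yon S).map (j ≫ hae.rep.fst' g) ≫ a = (yon S).map (j ≫ hae.rep.snd g) ≫ g := by
    rw [Functor.map_comp, Functor.map_comp, Category.assoc, Category.assoc, sqE.w]
  have sqB := hrp.isPullback' ((yon S).map (j ≫ hae.rep.fst' g) ≫ a)
  have sqO := hrp.isPullback' a
  haveI : CompactSpace (hrp.pullback a).left := h _ _ a _ _ hO hae sqO
  haveI : CompactSpace (hrp.pullback ((yon S).map (j ≫ hae.rep.fst' g) ≫ a)).left :=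
    compactSpace_of_factor a (j ≫ hae.rep.fst' g) p _ _ sqB.flip _ _ sqO.flip
  have sqB' : IsPullback
      ((yon S).map (hrp.snd ((yon S).map (j ≫ hae.rep.fst' g) ≫ a)))
      ((yon S).map (hrp.fst' ((yon S).map (j ≫ hae.rep.fst' g) ≫ a)))
      ((yon S).map (j ≫ hae.rep.snd g) ≫ g) p := by
    rw [← hcomm]; exact sqB.flip
  obtain ⟨m, -, sqm⟩ := exists_factor_isPullback g (j ≫ hae.rep.snd g) p _ _ sqB' snd' fst sqW.flip
  refine ⟨Set.range m.left, isCompact_range m.left.continuous, ?_⟩
  rintro w ⟨e', he'A, he'⟩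
  have sqm' := sqm.map (yon S)
  obtain ⟨b, hb, -⟩ := exists_of_ofPt_eq sqm' w (⟨e', he'A⟩ : A') (by
    rw [ofPt_yon_map, ofPt_yon_map]
    congr 1
    exact he'.symm)
  exact ⟨b, hb⟩

/-- **Etale-local criterion for quasi-compactness**: a morphism from a scheme to an algebraic
space is representable quasi-compact as soon as its base changes to affine schemes etale over the
space are quasi-compact. -/
theorem repWith_quasiCompact_of_etale_charts {X : Sp S} (hX : IsAlgSpace X) {T : Over S}
    (p : (yon S).obj T ⟶ X)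
    (h : ∀ (V' W' : Over S) (ψ : (yon S).obj V' ⟶ X) (r₁ : W' ⟶ T) (r₂ : W' ⟶ V'),
      IsAffine V'.left → RepWith @Etale ψ →
        IsPullback ((yon S).map r₁) ((yon S).map r₂) p ψ → CompactSpace W'.left) :
    RepWith @QuasiCompact p := by
  have hrp : Representable p := hX.representable_from_yon _
  refine repWith_of_forall_affine hrp @QuasiCompact ?_
  intro V W hV g fst snd' sqW
  haveI := hV
  obtain ⟨r₁, rfl⟩ := (yon S).map_surjective fst
  have key : ∃ K : Set W.left, IsCompact K ∧ snd'.left ⁻¹' (Set.univ : Set V.left) ⊆ K := by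
    refine isCompact_univ.induction_on (p := fun s => ∃ K : Set W.left, IsCompact K ∧
      snd'.left ⁻¹' s ⊆ K) ?_ ?_ ?_ ?_
    · exact ⟨∅, isCompact_empty, by simp⟩
    · rintro s t hst ⟨K, hK, hKt⟩
      exact ⟨K, hK, (Set.preimage_mono hst).trans hKt⟩
    · rintro s t ⟨K, hK, hKs⟩ ⟨K', hK', hKt⟩
      refine ⟨K ∪ K', hK.union hK', ?_⟩
      rw [Set.preimage_union]
      exact Set.union_subset_union hKs hKt
    · intro v _
      obtain ⟨t, ht, K, hK, hKt⟩ := exists_nhds_compact_preimage hX p h g r₁ snd' sqW v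
      exact ⟨t, mem_nhdsWithin_of_mem_nhds ht, K, hK, hKt⟩
  obtain ⟨K, hK, hKu⟩ := key
  haveI : CompactSpace W.left := by
    refine ⟨?_⟩
    have : K = Set.univ := Set.eq_univ_of_univ_subset (by simpa using hKu)
    rw [← this]; exact hK
  exact (HasAffineProperty.iff_of_isAffine (P := @QuasiCompact)).2
    (inferInstance : CompactSpace W.left)

/-- The fibre product over a quasi-separated space of a scheme quasi-compact over `S` with a
quasi-compact scheme is quasi-compact. -/
theorem compactSpace_pullback_of_isQuasiSeparatedSp {X : Sp S} (hqs : IsQuasiSeparatedSp X)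
    {T V W : Over S} (hT : QuasiCompact T.hom) [CompactSpace V.left]
    (x : (yon S).obj T ⟶ X) (g : (yon S).obj V ⟶ X) (r₁ : W ⟶ T) (r₂ : W ⟶ V)
    (sq : IsPullback ((yon S).map r₁) ((yon S).map r₂) x g) : CompactSpace W.left := by
  haveI hqc : QuasiCompact (prod.lift r₁ r₂).left := prod_lift_of_repWith_diag hqs sq
  haveI := hT
  haveI : CompactSpace ↥(pullback T.hom V.hom) :=
    QuasiCompact.compactSpace_of_compactSpace (pullback.snd T.hom V.hom)
  haveI : CompactSpace (T ⨯ V).left :=
    QuasiCompact.compactSpace_of_compactSpace (Over.prodLeftIsoPullback T V).hom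
  exact QuasiCompact.compactSpace_of_compactSpace (prod.lift r₁ r₂).left

/-- A morphism from the spectrum of a field is quasi-compact. -/
theorem quasiCompact_of_field_source {K : Type u} [Field K] {Y : Scheme.{u}}
    (f : Spec (CommRingCat.of K) ⟶ Y) : QuasiCompact f := by
  refine ⟨fun U _ _ => ?_⟩
  exact (Set.toFinite _).isCompact

/-- Finiteness of fibre products over `X` from finiteness of fibre products over `Y`. -/
theorem finite_pullback_of_finite_comp {X Y : Sp S} (f : X ⟶ Y) {T V W WY : Over S}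
    (x₁ : (yon S).obj T ⟶ X) (x₂ : (yon S).obj V ⟶ X) (r₁ : W ⟶ T) (r₂ : W ⟶ V)
    (sq : IsPullback ((yon S).map r₁) ((yon S).map r₂) x₁ x₂) (r₁' : WY ⟶ T) (r₂' : WY ⟶ V)
    (y₁ : (yon S).obj T ⟶ Y) (y₂ : (yon S).obj V ⟶ Y) (hy₁ : y₁ = x₁ ≫ f) (hy₂ : y₂ = x₂ ≫ f)
    (sqY : IsPullback ((yon S).map r₁') ((yon S).map r₂') y₁ y₂)
    [Finite WY.left] : Finite W.left := by
  subst hy₁ hy₂
  have hw : (yon S).map r₁ ≫ x₁ ≫ f = (yon S).map r₂ ≫ x₂ ≫ f := by
    rw [← Category.assoc, sq.w, Category.assoc]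
  obtain ⟨m, hm⟩ := (yon S).map_surjective (sqY.lift _ _ hw)
  have hm1 : (yon S).map m ≫ (yon S).map r₁' = (yon S).map r₁ := by rw [hm, sqY.lift_fst]
  have hm2 : (yon S).map m ≫ (yon S).map r₂' = (yon S).map r₂ := by rw [hm, sqY.lift_snd]
  haveI : Mono ((yon S).map m) := by
    refine ⟨fun {Z} a b hab => ?_⟩
    apply sq.hom_ext
    · rw [← hm1, ← Category.assoc, hab, Category.assoc]
    · rw [← hm2, ← Category.assoc, hab, Category.assoc]
  haveI : Mono m := (yon S).mono_of_mono_map inferInstance
  haveI : Mono m.left := inferInstance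
  exact Finite.of_injective _ m.left.injective

/-- The fibre product of a quasi-compact field point with an affine scheme is finite as soon as it
is etale over the field. -/
theorem finite_pullback_of_quasiCompact_fieldPt {Y : Sp S} (q : FieldPt Y)
    (hq : RepWith @QuasiCompact q.toHom) {V W : Over S} [CompactSpace V.left]
    (g : (yon S).obj V ⟶ Y) (r₁ : W ⟶ q.pt) (r₂ : W ⟶ V)
    (sq : IsPullback ((yon S).map r₁) ((yon S).map r₂) q.toHom g) (he : Etale r₁.left) :
    Finite W.left := by
  haveI : QuasiCompact r₂.left := hq.property g _ r₂ sq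
  haveI : CompactSpace W.left := QuasiCompact.compactSpace_of_compactSpace r₂.left
  let h : W.left ⟶ Spec (CommRingCat.of q.K) := r₁.left
  haveI : Etale h := he
  exact ValExist.finite_of_compact_etale_over_field h

/-- A field point of an etale chart whose kernel pair is compact and which is quasi-compact gives
a quasi-compact monomorphic field point in the same class. -/
theorem exists_mono_qc_of_ofPt {X : Sp S} (hX : IsAlgSpace X) {U : Over S}
    (a : (yon S).obj U ⟶ X) (_hae : RepWith @Etale a) (u : U.left)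
    (hq : RepWith @QuasiCompact (FieldPt.ofPt a u).toHom) :
    ∃ p : FieldPt X, Points.mk p = Points.ofPt a u ∧ Mono p.toHom ∧
      RepWith @QuasiCompact p.toHom := by
  obtain ⟨p, hp, hm, hpq⟩ := exists_mono_of_quasiCompact_fieldPt hX _ hq
  exact ⟨p, hp, hm, hpq⟩

/-- A quasi-separated algebraic space (over `S`) is decent. -/
theorem isDecent_of_isQuasiSeparatedSp {X : Sp S} (hX : IsAlgSpace X)
    (hqs : IsQuasiSeparatedSp X) : IsDecent X := by
  intro x
  obtain ⟨U, hU, a, u, hae, rfl⟩ := exists_affine_etale_nbhd hX x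
  have hT : QuasiCompact (FieldPt.ofPt a u).pt.hom :=
    quasiCompact_of_field_source (K := (FieldPt.ofPt a u).K) _
  have hrep : Representable (FieldPt.ofPt a u).toHom := hX.representable_from_yon _
  have hq : RepWith @QuasiCompact (FieldPt.ofPt a u).toHom := by
    refine repWith_of_forall_affine hrep @QuasiCompact ?_
    intro V W hV g fst snd' sqW
    haveI := hV
    obtain ⟨r₁, rfl⟩ := (yon S).map_surjective fst
    haveI : CompactSpace W.left :=
      compactSpace_pullback_of_isQuasiSeparatedSp hqs hT _ g r₁ snd' sqW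
    exact (HasAffineProperty.iff_of_isAffine (P := @QuasiCompact)).2
      (inferInstance : CompactSpace W.left)
  exact exists_mono_qc_of_ofPt hX a hae u hq

/-- An algebraic space etale over a decent algebraic space is decent. -/
theorem isDecent_of_isEtaleMor {X Y : Sp S} (hX : IsAlgSpace X) (hY : IsAlgSpace Y) (f : X ⟶ Y)
    (hf : IsEtaleMor f) (hYd : IsDecent Y) : IsDecent X := by
  intro x
  obtain ⟨U, hU, a, u, hae, rfl⟩ := exists_affine_etale_nbhd hX x
  have hbe : RepWith @Etale (a ≫ f) := hf a hae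
  have hqY : (FieldPt.ofPt (a ≫ f) u).toHom = (FieldPt.ofPt a u).toHom ≫ f :=
    FieldPt.toHom_map f (FieldPt.ofPt a u)
  obtain ⟨pY, hpY, -, hpYq⟩ := hYd (Points.mk (FieldPt.ofPt (a ≫ f) u))
  have hqYq : RepWith @QuasiCompact (FieldPt.ofPt (a ≫ f) u).toHom :=
    repWith_quasiCompact_of_mk_eq hY pY _ hpY.symm hpYq
  refine exists_mono_qc_of_ofPt hX a hae u ?_
  refine repWith_quasiCompact_of_etale_charts hX _ ?_
  intro V' W' ψ r₁ r₂ hV' hψ sqW'
  haveI := hV'
  have hψe : RepWith @Etale (ψ ≫ f) := hf ψ hψ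
  have sqY := hqYq.rep.isPullback' (ψ ≫ f)
  have he : Etale (hqYq.rep.fst' (ψ ≫ f)).left := hψe.property _ _ _ sqY.flip
  haveI : Finite (hqYq.rep.pullback (ψ ≫ f)).left :=
    finite_pullback_of_quasiCompact_fieldPt (FieldPt.ofPt (a ≫ f) u) hqYq (ψ ≫ f) _ _ sqY he
  haveI : Finite W'.left :=
    finite_pullback_of_finite_comp f (FieldPt.ofPt a u).toHom ψ r₁ r₂ sqW' _ _
      (FieldPt.ofPt (a ≫ f) u).toHom (ψ ≫ f) hqY rfl sqY
  infer_instance

/-- Characterisation of points represented by quasi-compact monomorphisms via finiteness of the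
fibres of affine etale charts and their relations. -/
theorem finite_fibres_iff_mono_quasiCompact {X : Sp S} (hX : IsAlgSpace X) (x : Points X) :
    (∀ (U : Over S) (φ : (yon S).obj U ⟶ X), IsAffine U.left → RepWith @Etale φ →
        ∀ (R : Over S) (s t : R ⟶ U), IsPullback ((yon S).map t) ((yon S).map s) φ φ →
          (Points.ofPt φ ⁻¹' {x}).Finite ∧ (Points.ofPt ((yon S).map t ≫ φ) ⁻¹' {x}).Finite) ↔
      ∃ p : FieldPt X, Points.mk p = x ∧ Mono p.toHom ∧ RepWith @QuasiCompact p.toHom := by
  constructor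
  · intro H
    obtain ⟨U₀, hU₀, φ₀, u₀, hφ₀, rfl⟩ := exists_affine_etale_nbhd hX x
    obtain ⟨p, hp, hm⟩ := exists_mono_of_finite_relation_fibre hX φ₀ hφ₀ u₀ u₀ rfl
      (fun R s t sqR => (H U₀ φ₀ hU₀ hφ₀ R s t sqR).2.subset (by
        rintro r ⟨-, hr⟩
        change Points.ofPt ((yon S).map t ≫ φ₀) r = _
        rw [ofPt_comp_yon_map, hr]))
    refine ⟨p, hp, hm, ?_⟩
    refine repWith_quasiCompact_of_etale_charts hX _ ?_
    intro V' W' ψ r₁ r₂ hV' hψ sqW'
    have sqK := hψ.rep.isPullback' ψ
    have hfinV := (H V' ψ hV' hψ _ _ _ sqK).1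
    haveI := hm
    haveI : Mono ((yon S).map r₂) := by
      refine ⟨fun {Z} a b hab => ?_⟩
      apply sqW'.hom_ext
      · rw [← cancel_mono p.toHom, Category.assoc, Category.assoc, sqW'.w, ← Category.assoc, hab,
          Category.assoc]
      · exact hab
    haveI : Mono r₂ := (yon S).mono_of_mono_map inferInstance
    haveI : Mono r₂.left := inferInstance
    haveI : Finite W'.left := by
      have himg : Set.range r₂.left ⊆ Points.ofPt ψ ⁻¹' {Points.ofPt φ₀ u₀} := by
        rintro _ ⟨w, rfl⟩
        change Points.ofPt ψ (r₂.left w) = _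
        rw [← ofPt_comp_yon_map, ← sqW'.w, ofPt_comp_yon_map, Points.ofPt_toHom, hp]
      haveI : Finite (Set.range r₂.left) := (hfinV.subset himg).to_subtype
      exact Finite.of_injective_finite_range r₂.left.injective
    infer_instance
  · rintro ⟨p, rfl, hm, hpq⟩ U φ hU hφ R s t sqR
    haveI := hU
    have sqT := (hφ.rep.isPullback' p.toHom).flip
    have he : Etale (hφ.rep.snd p.toHom).left := hφ.property_snd _
    haveI : Finite (hφ.rep.pullback p.toHom).left :=
      finite_pullback_of_quasiCompact_fieldPt p hpq φ _ _ sqT he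
    have hfinU : (Points.ofPt φ ⁻¹' {Points.mk p}).Finite := by
      refine (Set.finite_range (hφ.rep.fst' p.toHom).left).subset ?_
      intro v hv
      obtain ⟨w, -, hw⟩ := exists_of_ofPt_eq sqT (IsLocalRing.closedPoint p.K) v (by
        rw [Points.ofPt_toHom]; exact hv.symm)
      exact ⟨w, hw⟩
    refine ⟨hfinU, ?_⟩
    have hsub : Points.ofPt ((yon S).map t ≫ φ) ⁻¹' {Points.mk p} ⊆
        ⋃ v ∈ Points.ofPt φ ⁻¹' {Points.mk p}, ⋃ v' ∈ Points.ofPt φ ⁻¹' {Points.mk p},
          {r : R.left | s.left r = v ∧ t.left r = v'} := by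
      intro r hr
      have hr' : Points.ofPt φ (t.left r) = Points.mk p := by
        rw [← ofPt_comp_yon_map]; exact hr
      have hr'' : Points.ofPt φ (s.left r) = Points.mk p := by
        rw [← ofPt_comp_yon_map, ← sqR.w]; exact hr
      simp only [Set.mem_iUnion]
      exact ⟨s.left r, hr'', t.left r, hr', rfl, rfl⟩
    refine Set.Finite.subset ?_ hsub
    refine hfinU.biUnion (fun v hv => hfinU.biUnion (fun v' hv' => ?_))
    exact finite_relation_fibre_of_mono hX p hm φ hφ v v' hv hv' R s t sqR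

end Groth.Agent.Helper15.QcLocal
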