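import Mathlib

set_option autoImplicit false
universe u
open CategoryTheory CategoryTheory.Limits AlgebraicGeometry

namespace Groth.Agent.Helper15.SpecBaire

/-- A Baire-type property of closed subsets of prime spectra: countably many opens, each dense in
the nonempty closed subset `Z`, have a common point in `Z`. -/
theorem exists_mem_forall_mem_of_dense {A : Type u} [CommRing A] (Z : Set (PrimeSpectrum A))
    (hZ : IsClosed Z) (hne : Z.Nonempty) (O : ℕ → Set (PrimeSpectrum A))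
    (hdense : ∀ n (N : Set (PrimeSpectrum A)), IsOpen N → (N ∩ Z).Nonempty →
      (N ∩ O n ∩ Z).Nonempty) (hO : ∀ n, IsOpen (O n)) :
    ∃ p ∈ Z, ∀ n, p ∈ O n := by
  classical
  let I : Ideal A := PrimeSpectrum.vanishingIdeal Z
  have hZI : PrimeSpectrum.zeroLocus (I : Set A) = Z := by
    rw [PrimeSpectrum.zeroLocus_vanishingIdeal_eq_closure, hZ.closure_eq]
  let T := {f : A // ((PrimeSpectrum.basicOpen f : Set (PrimeSpectrum A)) ∩ Z).Nonempty}
  have hstep : ∀ (n : ℕ) (f : T), ∃ g : T, (PrimeSpectrum.basicOpen g.1 : Set (PrimeSpectrum A)) ⊆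
      (PrimeSpectrum.basicOpen f.1 : Set (PrimeSpectrum A)) ∩ O n := by
    intro n f
    obtain ⟨p, ⟨hp1, hp2⟩, hp3⟩ := hdense n _ (PrimeSpectrum.basicOpen f.1).isOpen f.2
    obtain ⟨_, ⟨g, rfl⟩, hpg, hsub⟩ :=
      PrimeSpectrum.isTopologicalBasis_basic_opens.exists_subset_of_mem_open
        (show p ∈ (PrimeSpectrum.basicOpen f.1 : Set (PrimeSpectrum A)) ∩ O n from ⟨hp1, hp2⟩)
        ((PrimeSpectrum.basicOpen f.1).isOpen.inter (hO n))
    exact ⟨⟨g, ⟨p, hpg, hp3⟩⟩, hsub⟩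
  choose step hstep' using hstep
  let F : ℕ → T := fun n => Nat.rec (⟨1, by
    obtain ⟨p, hp⟩ := hne
    exact ⟨p, by simp, hp⟩⟩ : T) (fun n f => step n f) n
  have hF : ∀ n, (PrimeSpectrum.basicOpen (F (n + 1)).1 : Set (PrimeSpectrum A)) ⊆
      (PrimeSpectrum.basicOpen (F n).1 : Set (PrimeSpectrum A)) ∩ O n := fun n => hstep' n (F n)
  have hmono : ∀ n m, n ≤ m → (PrimeSpectrum.basicOpen (F m).1 : Set (PrimeSpectrum A)) ⊆
      (PrimeSpectrum.basicOpen (F n).1 : Set (PrimeSpectrum A)) := by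
    intro n m hnm
    induction hnm with
    | refl => exact subset_rfl
    | step _ ih => exact ((hF _).trans Set.inter_subset_left).trans ih
  let M : Submonoid A := Submonoid.closure (Set.range fun n => (F n).1)
  have hM : ∀ x ∈ M, ∃ n, (PrimeSpectrum.basicOpen (F n).1 : Set (PrimeSpectrum A)) ⊆
      (PrimeSpectrum.basicOpen x : Set (PrimeSpectrum A)) := by
    intro x hx
    induction hx using Submonoid.closure_induction with
    | mem x hx =>
      obtain ⟨n, rfl⟩ := hx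
      exact ⟨n, subset_rfl⟩
    | one => exact ⟨0, by simp⟩
    | mul x y _ _ ihx ihy =>
      obtain ⟨n, hn⟩ := ihx
      obtain ⟨m, hm⟩ := ihy
      refine ⟨max n m, ?_⟩
      rw [PrimeSpectrum.basicOpen_mul]
      intro p hp
      exact ⟨hn (hmono _ _ (le_max_left n m) hp), hm (hmono _ _ (le_max_right n m) hp)⟩
  have hdisj : Disjoint (I : Set A) M := by
    rw [Set.disjoint_left]
    intro x hxI hxM
    obtain ⟨n, hn⟩ := hM x hxM
    obtain ⟨p, hp1, hp2⟩ := (F n).2
    have h1 : p ∈ (PrimeSpectrum.basicOpen x : Set (PrimeSpectrum A)) := hn hp1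
    have h2 : p ∈ PrimeSpectrum.zeroLocus (I : Set A) := by rw [hZI]; exact hp2
    exact h1 (h2 hxI)
  obtain ⟨p, hp, hIp, hpM⟩ := Ideal.exists_le_prime_disjoint I M hdisj
  refine ⟨⟨p, hp⟩, ?_, ?_⟩
  · rw [← hZI]
    exact hIp
  · intro n
    have h1 : (F (n + 1)).1 ∉ p := by
      intro h
      exact (Set.disjoint_left.1 hpM) h (Submonoid.subset_closure ⟨n + 1, rfl⟩)
    exact (hF n (show (⟨p, hp⟩ : PrimeSpectrum A) ∈
      (PrimeSpectrum.basicOpen (F (n + 1)).1 : Set (PrimeSpectrum A)) from h1)).2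

/-- A compactness argument in ring-theoretic form: if all pairs of basic neighbourhoods of two
minimal primes over `I` are related through primes of `B` lying over `V(I)` along `σ` and `τ`,
then some prime of `B` lies over both of them. -/
theorem exists_prime_comap_eq {A B : Type u} [CommRing A] [CommRing B] (σ τ : A →+* B)
    (I : Ideal A) (p₁ p₂ : Ideal A) (h₁ : p₁ ∈ I.minimalPrimes) (h₂ : p₂ ∈ I.minimalPrimes)
    (H : ∀ g₁ ∉ p₁, ∀ g₂ ∉ p₂, ∃ q : PrimeSpectrum B, I ≤ q.asIdeal.comap σ ∧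
      I ≤ q.asIdeal.comap τ ∧ σ g₁ ∉ q.asIdeal ∧ τ g₂ ∉ q.asIdeal) :
    ∃ q : PrimeSpectrum B, q.asIdeal.comap σ = p₁ ∧ q.asIdeal.comap τ = p₂ := by
  haveI := h₁.1.1
  haveI := h₂.1.1
  let J : Ideal B := I.map σ ⊔ I.map τ
  let M : Submonoid B := p₁.primeCompl.map σ ⊔ p₂.primeCompl.map τ
  have hdisj : Disjoint (J : Set B) M := by
    rw [Set.disjoint_left]
    intro x hxJ hxM
    obtain ⟨a, ha, b, hb, rfl⟩ := Submonoid.mem_sup.1 hxM
    obtain ⟨g₁, hg₁, rfl⟩ := ha
    obtain ⟨g₂, hg₂, rfl⟩ := hb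
    obtain ⟨q, hq1, hq2, hq3, hq4⟩ := H g₁ hg₁ g₂ hg₂
    have hJq : J ≤ q.asIdeal :=
      sup_le (Ideal.map_le_iff_le_comap.2 hq1) (Ideal.map_le_iff_le_comap.2 hq2)
    rcases q.isPrime.mem_or_mem (hJq hxJ) with h | h
    · exact hq3 h
    · exact hq4 h
  obtain ⟨q, hq, hJq, hqM⟩ := Ideal.exists_le_prime_disjoint J M hdisj
  refine ⟨⟨q, hq⟩, ?_, ?_⟩
  · apply le_antisymm
    · intro g hg
      by_contra hg'
      exact (Set.disjoint_left.1 hqM) hg
        (Submonoid.mem_sup_left (Submonoid.mem_map_of_mem σ hg'))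
    · refine h₁.2 ⟨Ideal.IsPrime.comap σ, ?_⟩ ?_
      · exact Ideal.map_le_iff_le_comap.1 (le_sup_left.trans hJq)
      · intro g hg
        by_contra hg'
        exact (Set.disjoint_left.1 hqM) hg
          (Submonoid.mem_sup_left (Submonoid.mem_map_of_mem σ hg'))
  · apply le_antisymm
    · intro g hg
      by_contra hg'
      exact (Set.disjoint_left.1 hqM) hg
        (Submonoid.mem_sup_right (Submonoid.mem_map_of_mem τ hg'))
    · refine h₂.2 ⟨Ideal.IsPrime.comap τ, ?_⟩ ?_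
      · exact Ideal.map_le_iff_le_comap.1 (le_sup_right.trans hJq)
      · intro g hg
        by_contra hg'
        exact (Set.disjoint_left.1 hqM) hg
          (Submonoid.mem_sup_right (Submonoid.mem_map_of_mem τ hg'))

end Groth.Agent.Helper15.SpecBaire
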