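import Mathlib
import Groth.Agent.Lib.Helper15.LiftBound
import Groth.Agent.Lib.Helper15.SpecBaire
import Groth.Agent.Lib.Helper15.QcLocal

/-!
# Auxiliary results for sobriety of decent spaces
-/

set_option autoImplicit false
universe u
open CategoryTheory CategoryTheory.Limits AlgebraicGeometry Opposite MorphismProperty
open AlgSp

namespace Groth.Agent.Helper15.SoberAux

open Groth.Agent.Helper15 Groth.Agent.Helper15.LiftCount

variable {S : Scheme.{u}}

/-- Lifts all of whose image points lie in the range of an open immersion lift through it. -/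
theorem hasLifts_comp_of_preimage_subset {Y' Y U : Scheme.{u}} (j : Y' ⟶ Y) [IsOpenImmersion j]
    {f : Y ⟶ U} {n : ℕ} {u : U} (h : HasLifts f n u) (hj : f ⁻¹' {u} ⊆ Set.range j) :
    HasLifts (j ≫ f) n u := by
  obtain ⟨K, _, z, l, hinj, hl, hz⟩ := h
  have hr : ∀ i, Set.range (l i) ⊆ Set.range j := by
    rintro i _ ⟨p, rfl⟩
    apply hj
    change f (l i p) = u
    rw [← hz, ← hl i, eq_closedPoint p]
    rfl
  refine ⟨K, inferInstance, z, fun i => IsOpenImmersion.lift j (l i) (hr i), ?_, ?_, hz⟩
  · intro i k hik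
    apply hinj
    rw [← IsOpenImmersion.lift_fac j (l i) (hr i), ← IsOpenImmersion.lift_fac j (l k) (hr k)]
    exact congrArg (· ≫ j) hik
  · intro i
    rw [IsOpenImmersion.lift_fac_assoc]
    exact hl i

/-- The two projections of the relation of a chart are jointly monomorphic on schemes. -/
theorem rel_hom_ext {X : Sp S} {U R : Over S} {φ : (yon S).obj U ⟶ X} {s t : R ⟶ U}
    (sq : IsPullback ((yon S).map s) ((yon S).map t) φ φ) {T : Scheme.{u}} (g h : T ⟶ R.left)
    (h1 : g ≫ s.left = h ≫ s.left) (h2 : g ≫ t.left = h ≫ t.left) : g = h := by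
  have hw : h ≫ R.hom = g ≫ R.hom := by
    rw [← Over.w s, ← Category.assoc, ← h1, Category.assoc]
  let g' : Over.mk (g ≫ R.hom) ⟶ R := Over.homMk g rfl
  let h' : Over.mk (g ≫ R.hom) ⟶ R := Over.homMk h hw
  have : (yon S).map g' = (yon S).map h' := by
    apply sq.hom_ext
    · rw [← Functor.map_comp, ← Functor.map_comp]
      congr 1
      exact Over.OverMorphism.ext h1
    · rw [← Functor.map_comp, ← Functor.map_comp]
      congr 1
      exact Over.OverMorphism.ext h2
  have := (yon S).map_injective this
  exact congrArg CommaMorphism.left this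

/-- The source map of the relation of a chart with affine source is separated. -/
theorem isSeparated_rel_left {X : Sp S} {U R : Over S} [IsAffine U.left] {φ : (yon S).obj U ⟶ X}
    {s t : R ⟶ U} (sq : IsPullback ((yon S).map s) ((yon S).map t) φ φ) : IsSeparated s.left := by
  have hc : s.left ≫ U.hom = t.left ≫ U.hom := by rw [Over.w s, Over.w t]
  let m : R.left ⟶ pullback U.hom U.hom := pullback.lift s.left t.left hc
  haveI : Mono m := by
    refine ⟨fun {T} g h hgh => ?_⟩
    apply rel_hom_ext sq
    · have hm1 : m ≫ pullback.fst U.hom U.hom = s.left := pullback.lift_fst _ _ _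
      have := congrArg (· ≫ pullback.fst U.hom U.hom) hgh
      simp only [Category.assoc] at this
      rwa [hm1] at this
    · have hm2 : m ≫ pullback.snd U.hom U.hom = t.left := pullback.lift_snd _ _ _
      have := congrArg (· ≫ pullback.snd U.hom U.hom) hgh
      simp only [Category.assoc] at this
      rwa [hm2] at this
  haveI : IsSeparated U.hom := by
    haveI : IsSeparated (U.hom ≫ terminal.from S) := by
      have : U.hom ≫ terminal.from S = terminal.from U.left := Subsingleton.elim _ _
      rw [this]
      infer_instance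
    exact IsSeparated.of_comp U.hom (terminal.from S)
  have : s.left = m ≫ pullback.fst U.hom U.hom := (pullback.lift_fst _ _ _).symm
  rw [this]
  infer_instance

/-- The number of geometric lifts is constant along the relation. -/
theorem hasLifts_of_rel {X : Sp S} {U R : Over S} {φ : (yon S).obj U ⟶ X} {s t : R ⟶ U}
    (sq : IsPullback ((yon S).map s) ((yon S).map t) φ φ) {n : ℕ} (r : R.left)
    (h : HasLifts s.left n (s.left r)) : HasLifts s.left n (t.left r) := by
  obtain ⟨K, _, z, l, hinj, hl, hz⟩ := h
  obtain ⟨p, hp1, hp2⟩ := Scheme.Pullback.exists_preimage_pullback (f := z) (g := s.left)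
    (IsLocalRing.closedPoint K) r hz
  let K' := (pullback z s.left).residueField p
  let a : Spec (CommRingCat.of K') ⟶ Spec (CommRingCat.of K) :=
    (pullback z s.left).fromSpecResidueField p ≫ pullback.fst z s.left
  let ρ : Spec (CommRingCat.of K') ⟶ R.left :=
    (pullback z s.left).fromSpecResidueField p ≫ pullback.snd z s.left
  have haρ : a ≫ z = ρ ≫ s.left := by
    simp only [a, ρ, Category.assoc, pullback.condition]
  haveI : Epi a := by
    have : a = Spec.map (Spec.preimage a) := (Spec.map_preimage a).symm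
    rw [this]
    exact epi_SpecMap_of_field _
  have hρ : ρ (IsLocalRing.closedPoint K') = r := by
    change (pullback.snd z s.left) ((pullback z s.left).fromSpecResidueField p _) = r
    rw [Scheme.fromSpecResidueField_apply, hp2]
  let T' : Over S := Over.mk (ρ ≫ R.hom)
  let ρ' : T' ⟶ R := Over.homMk ρ rfl
  have hlam : ∀ i, (a ≫ l i) ≫ R.hom = ρ ≫ R.hom := by
    intro i
    rw [← Over.w s, Category.assoc, ← Category.assoc (l i), hl i, ← Category.assoc, haρ,
      Category.assoc]
  let lam : Fin n → (T' ⟶ R) := fun i => Over.homMk (a ≫ l i) (hlam i)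
  have hlam_s : ∀ i, lam i ≫ s = ρ' ≫ s := by
    intro i
    apply Over.OverMorphism.ext
    change (a ≫ l i) ≫ s.left = ρ ≫ s.left
    rw [Category.assoc, hl i, haρ]
  have hcond : ∀ i, (yon S).map (ρ' ≫ t) ≫ φ = (yon S).map (lam i ≫ t) ≫ φ := by
    intro i
    rw [Functor.map_comp, Functor.map_comp, Category.assoc, Category.assoc, ← sq.w,
      ← Category.assoc, ← Category.assoc, ← Functor.map_comp, ← Functor.map_comp, hlam_s]
  let mm : Fin n → (T' ⟶ R) := fun i =>
    (yon S).preimage (sq.lift ((yon S).map (ρ' ≫ t)) ((yon S).map (lam i ≫ t)) (hcond i))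
  have hmm_s : ∀ i, mm i ≫ s = ρ' ≫ t := by
    intro i
    apply (yon S).map_injective
    rw [Functor.map_comp, Functor.map_preimage, sq.lift_fst]
  have hmm_t : ∀ i, mm i ≫ t = lam i ≫ t := by
    intro i
    apply (yon S).map_injective
    rw [Functor.map_comp, Functor.map_preimage, sq.lift_snd]
  refine ⟨K', inferInstance, ρ ≫ t.left, fun i => (mm i).left, ?_, ?_, ?_⟩
  · intro i k hik
    have h1 : mm i = mm k := Over.OverMorphism.ext hik
    have h2 : lam i ≫ t = lam k ≫ t := by rw [← hmm_t, ← hmm_t, h1]
    have h3 : lam i ≫ s = lam k ≫ s := by rw [hlam_s, hlam_s]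
    have h4 : a ≫ l i = a ≫ l k :=
      rel_hom_ext sq _ _ (congrArg CommaMorphism.left h3) (congrArg CommaMorphism.left h2)
    exact hinj ((cancel_epi a).1 h4)
  · intro i
    exact congrArg CommaMorphism.left (hmm_s i)
  · change t.left (ρ _) = _
    rw [hρ]

/-- An affine etale chart can be chosen with source literally a spectrum. -/
theorem exists_Spec_etale_nbhd {Z : Sp S} (hZ : IsAlgSpace Z) (z : Points Z) :
    ∃ (A : CommRingCat.{u}) (str : Spec A ⟶ S) (p : (yon S).obj (Over.mk str) ⟶ Z)
      (t : Spec A), RepWith @Etale p ∧ Points.ofPt p t = z := by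
  obtain ⟨T, hT, p, t, hp, rfl⟩ := exists_affine_etale_nbhd hZ z
  let e : Over.mk (T.left.isoSpec.inv ≫ T.hom) ⟶ T := Over.homMk T.left.isoSpec.inv rfl
  have he : RepWith @Etale ((yon S).map e) :=
    (repWith_yon_map_iff _ e).2 (show Etale T.left.isoSpec.inv from inferInstance)
  refine ⟨Γ(T.left, ⊤), T.left.isoSpec.inv ≫ T.hom, (yon S).map e ≫ p, T.left.isoSpec.hom t,
    (RepWith @Etale).comp_mem _ _ he hp, ?_⟩
  rw [ofPt_comp_yon_map]
  congr 1
  change (T.left.isoSpec.hom ≫ T.left.isoSpec.inv) t = t
  rw [Iso.hom_inv_id]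
  rfl

end Groth.Agent.Helper15.SoberAux
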