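import Mathlib
import Groth.Agent.Lib.Helper15.SoberAux

/-!
# Decent algebraic spaces have quasi-sober spaces of points
-/

set_option autoImplicit false
universe u
open CategoryTheory CategoryTheory.Limits AlgebraicGeometry Opposite MorphismProperty
open AlgSp

namespace Groth.Agent.Helper15.SoberDecent

open Groth.Agent.Helper15 Groth.Agent.Helper15.LiftCount Groth.Agent.Helper15.SoberAux
  Groth.Agent.Helper15.SpecBaire

variable {S : Scheme.{u}}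

/-- Points related by the relation of a chart have the same image. -/
theorem ofPt_rel {X : Sp S} {U R : Over S} {φ : (yon S).obj U ⟶ X} {s t : R ⟶ U}
    (sq : IsPullback ((yon S).map s) ((yon S).map t) φ φ) (r : R.left) :
    Points.ofPt φ (s.left r) = Points.ofPt φ (t.left r) := by
  rw [← ofPt_comp_yon_map, ← ofPt_comp_yon_map, sq.w]

/-- Key separation step: on the locus where the number of geometric lifts is maximal, all minimal
points of the preimage of an irreducible set have the same image. -/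
theorem ofPt_eq_of_minimalPrimes {X : Sp S} {A : CommRingCat.{u}} {str : Spec A ⟶ S} {R : Over S}
    (φ : (yon S).obj (Over.mk str) ⟶ X) (s t : R ⟶ Over.mk str)
    (sq : IsPullback ((yon S).map s) ((yon S).map t) φ φ) [Etale s.left] [IsSeparated s.left]
    (hopen : IsOpenMap (Points.ofPt φ))
    (T : Set (Points X)) (hT : IsPreirreducible T) (I : Ideal A)
    (hI : ∀ u : Spec A, Points.ofPt φ u ∈ T ↔ I ≤ u.asIdeal)
    (m : ℕ) (hm : ∀ u : Spec A, Points.ofPt φ u ∈ T → ¬ HasLifts s.left (m + 1) u)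
    (ζ₁ ζ₂ : Spec A) (h₁ : ζ₁.asIdeal ∈ I.minimalPrimes) (h₂ : ζ₂.asIdeal ∈ I.minimalPrimes)
    (hζ₁ : HasLifts s.left m ζ₁) (hfin : (s.left ⁻¹' {ζ₁}).Finite) :
    Points.ofPt φ ζ₁ = Points.ofPt φ ζ₂ := by
  classical
  have hZ₁ : Points.ofPt φ ζ₁ ∈ T := (hI ζ₁).2 h₁.1.2
  have hZ₂ : Points.ofPt φ ζ₂ ∈ T := (hI ζ₂).2 h₂.1.2
  haveI := h₁.1.1
  haveI := h₂.1.1
  have hO : ∀ r : R.left, ∃ O : R.left.Opens, IsAffineOpen O ∧ r ∈ O := fun r => by
    obtain ⟨_, ⟨O, hO, rfl⟩, hrO, -⟩ :=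
      (R.left.isBasis_affineOpens).exists_subset_of_mem_open (Set.mem_univ r) isOpen_univ
    exact ⟨O, hO, hrO⟩
  choose O hOaff hOmem using hO
  let F₁ : Finset R.left := hfin.toFinset
  let R' : R.left.Opens := ⨆ r ∈ F₁, O r
  have hR'mem : ∀ r, r ∈ R' ↔ ∃ r₀ ∈ F₁, r ∈ O r₀ := by
    intro r
    simp only [R', TopologicalSpace.Opens.mem_iSup, exists_prop]
  have h9b : HasLifts (R'.ι ≫ s.left) m ζ₁ :=
    hasLifts_comp_of_preimage_subset R'.ι hζ₁ (by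
      intro r hr
      rw [Scheme.Opens.range_ι]
      exact (hR'mem r).2 ⟨r, hfin.mem_toFinset.2 hr, hOmem r⟩)
  let N₁ : Set (Spec A) := {u | HasLifts (R'.ι ≫ s.left) m u}
  have hN₁ : IsOpen N₁ := isOpen_hasLifts m (R'.ι ≫ s.left)
  have h9d : ∀ r : R.left, s.left r ∈ N₁ → Points.ofPt φ (s.left r) ∈ T → r ∈ R' := by
    intro r hr hrT
    by_contra hrR'
    exact hm _ hrT (HasLifts.succ_of_notMem_range R'.ι hr r rfl (by
      rw [Scheme.Opens.range_ι]; exact hrR'))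
  have hDopen : ∀ g : A, IsOpen {u : Spec A | g ∉ u.asIdeal} := fun g =>
    (PrimeSpectrum.basicOpen g).isOpen
  have h9e : ∀ g₁ ∉ ζ₁.asIdeal, ∀ g₂ ∉ ζ₂.asIdeal, ∃ r ∈ R', g₁ ∉ (s.left r).asIdeal ∧
      g₂ ∉ (t.left r).asIdeal ∧ Points.ofPt φ (s.left r) ∈ T := by
    intro g₁ hg₁ g₂ hg₂
    have hD₁ : IsOpen ({u : Spec A | g₁ ∉ u.asIdeal} ∩ N₁) :=
      (hDopen g₁).inter hN₁
    have hD₂ : IsOpen {u : Spec A | g₂ ∉ u.asIdeal} := hDopen g₂
    obtain ⟨x, hxT, ⟨a, ⟨ha1, ha2⟩, hax⟩, ⟨b, hb, hbx⟩⟩ :=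
      hT _ _ (hopen _ hD₁) (hopen _ hD₂) ⟨_, hZ₁, ζ₁, ⟨hg₁, h9b⟩, rfl⟩ ⟨_, hZ₂, ζ₂, hg₂, rfl⟩
    obtain ⟨r, hr1, hr2⟩ := exists_of_ofPt_eq sq a b (hax.trans hbx.symm)
    have hrT : Points.ofPt φ (s.left r) ∈ T := by rw [hr1, hax]; exact hxT
    refine ⟨r, h9d r (by rw [hr1]; exact ha2) hrT, ?_, ?_, hrT⟩
    · rw [hr1]; exact ha1
    · rw [hr2]; exact hb
  have h9f : ∃ r₀ ∈ F₁, ∀ g₁ ∉ ζ₁.asIdeal, ∀ g₂ ∉ ζ₂.asIdeal, ∃ r ∈ O r₀,
      g₁ ∉ (s.left r).asIdeal ∧ g₂ ∉ (t.left r).asIdeal ∧ Points.ofPt φ (s.left r) ∈ T := by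
    by_contra hcon
    push Not at hcon
    choose! G₁ hG₁ G₂ hG₂ hG using hcon
    have hp1 : ∏ r₀ ∈ F₁, G₁ r₀ ∉ ζ₁.asIdeal := by
      rw [Ideal.IsPrime.prod_mem_iff]
      push Not
      exact fun r₀ hr₀ => hG₁ r₀ hr₀
    have hp2 : ∏ r₀ ∈ F₁, G₂ r₀ ∉ ζ₂.asIdeal := by
      rw [Ideal.IsPrime.prod_mem_iff]
      push Not
      exact fun r₀ hr₀ => hG₂ r₀ hr₀
    obtain ⟨r, hrR', hr1, hr2, hr3⟩ := h9e _ hp1 _ hp2
    obtain ⟨r₀, hr₀, hrO⟩ := (hR'mem r).1 hrR'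
    refine hG r₀ hr₀ r hrO ?_ ?_ hr3
    · intro h
      exact hr1 (Ideal.mem_of_dvd _ (Finset.dvd_prod_of_mem G₁ hr₀) h)
    · intro h
      exact hr2 (Ideal.mem_of_dvd _ (Finset.dvd_prod_of_mem G₂ hr₀) h)
  obtain ⟨r₀, -, H⟩ := h9f
  have hA := hOaff r₀
  let fs : Spec Γ(R.left, O r₀) ⟶ R.left := hA.fromSpec
  let σ : A ⟶ Γ(R.left, O r₀) := Spec.preimage (fs ≫ s.left)
  let τ : A ⟶ Γ(R.left, O r₀) := Spec.preimage (fs ≫ t.left)
  have hσ : ∀ q : Spec Γ(R.left, O r₀), (s.left (fs q)).asIdeal = q.asIdeal.comap σ.hom := by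
    intro q
    have : s.left (fs q) = (Spec.map σ) q := by
      rw [Spec.map_preimage]; rfl
    rw [this]; rfl
  have hτ : ∀ q : Spec Γ(R.left, O r₀), (t.left (fs q)).asIdeal = q.asIdeal.comap τ.hom := by
    intro q
    have : t.left (fs q) = (Spec.map τ) q := by
      rw [Spec.map_preimage]; rfl
    rw [this]; rfl
  obtain ⟨q, hq1, hq2⟩ := exists_prime_comap_eq σ.hom τ.hom I ζ₁.asIdeal ζ₂.asIdeal h₁ h₂ (by
    intro g₁ hg₁ g₂ hg₂
    obtain ⟨r, hrO, hr1, hr2, hr3⟩ := H g₁ hg₁ g₂ hg₂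
    have hrr : r ∈ Set.range fs := by rw [hA.range_fromSpec]; exact hrO
    obtain ⟨q, rfl⟩ := hrr
    refine ⟨q, ?_, ?_, ?_, ?_⟩
    · rw [← hσ]; exact (hI _).1 hr3
    · rw [← hτ]
      refine (hI _).1 ?_
      rw [← ofPt_rel sq]; exact hr3
    · rw [hσ] at hr1; exact hr1
    · rw [hτ] at hr2; exact hr2)
  have e1 : s.left (fs q) = ζ₁ := PrimeSpectrum.ext ((hσ q).trans hq1)
  have e2 : t.left (fs q) = ζ₂ := PrimeSpectrum.ext ((hτ q).trans hq2)
  rw [← e1, ← e2]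
  exact ofPt_rel sq _


/-- Every irreducible closed subset of the space of points of a decent algebraic space has a
generic point. -/
theorem quasiSober_points_of_isDecent {X : Sp S} (hXa : IsAlgSpace X) (hX : IsDecent X) :
    QuasiSober (Points X) := by
  refine ⟨fun {T} hTirr hTcl => ?_⟩
  obtain ⟨x₀, hx₀⟩ := hTirr.nonempty
  obtain ⟨A, str, φ, u₀, hφ, hu₀⟩ := exists_Spec_etale_nbhd hXa x₀
  let R : Over S := hφ.rep.pullback φ
  let s : R ⟶ Over.mk str := hφ.rep.fst' φ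
  let t : R ⟶ Over.mk str := hφ.rep.snd φ
  have sq : IsPullback ((yon S).map s) ((yon S).map t) φ φ := hφ.rep.isPullback' φ
  haveI : IsAffine (Over.mk str).left := (inferInstance : IsAffine (Spec A))
  haveI hs_et : Etale s.left := hφ.property φ ((yon S).map t) s sq.flip
  haveI hs_sep : IsSeparated s.left := isSeparated_rel_left sq
  have hopen : IsOpenMap (Points.ofPt φ) := isOpenMap_ofPt_of_etale φ hφ
  have hcont : Continuous (Points.ofPt φ) := Points.continuous_ofPt φ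
  let Z : Set (Spec A) := Points.ofPt φ ⁻¹' T
  have hZcl : IsClosed Z := hTcl.preimage hcont
  let I : Ideal A := PrimeSpectrum.vanishingIdeal Z
  have hZI : PrimeSpectrum.zeroLocus (I : Set A) = Z := by
    rw [PrimeSpectrum.zeroLocus_vanishingIdeal_eq_closure]
    exact hZcl.closure_eq
  have hI : ∀ u : Spec A, Points.ofPt φ u ∈ T ↔ I ≤ u.asIdeal := by
    intro u
    change u ∈ Z ↔ _
    rw [← hZI]
    rfl
  have hfin : ∀ u : Spec A, (s.left ⁻¹' {u}).Finite := by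
    intro u
    obtain ⟨-, h2⟩ := (QcLocal.finite_fibres_iff_mono_quasiCompact hXa (Points.ofPt φ u)).2 (hX _)
      (Over.mk str) φ inferInstance hφ R t s sq
    refine h2.subset ?_
    intro r hr
    change Points.ofPt ((yon S).map s ≫ φ) r = _
    rw [ofPt_comp_yon_map, hr]
  haveI : LocallyQuasiFinite s.left := locallyQuasiFinite_of_etale s.left
  let E : ℕ → Set (Spec A) := fun n => {u | HasLifts s.left n u}
  have hEopen : ∀ n, IsOpen (E n) := fun n => isOpen_hasLifts n s.left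
  have hEinv : ∀ n (a b : Spec A), Points.ofPt φ a = Points.ofPt φ b → a ∈ E n → b ∈ E n := by
    intro n a b hab ha
    obtain ⟨r, hr1, hr2⟩ := exists_of_ofPt_eq sq a b hab
    rw [← hr2]
    exact hasLifts_of_rel sq r (by rw [hr1]; exact ha)
  have hu₀Z : u₀ ∈ Z := by
    change Points.ofPt φ u₀ ∈ T
    rw [hu₀]; exact hx₀
  have h7 : ∃ n, ∀ u ∈ Z, u ∉ E n := by
    by_contra hcon
    push Not at hcon
    obtain ⟨p, hpZ, hpE⟩ := exists_mem_forall_mem_of_dense Z hZcl ⟨u₀, hu₀Z⟩ E (by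
      rintro n N hN ⟨a, haN, haZ⟩
      obtain ⟨b, hbZ, hbE⟩ := hcon n
      obtain ⟨x, hxT, ⟨a', ha'N, ha'x⟩, ⟨b', hb'E, hb'x⟩⟩ :=
        hTirr.isPreirreducible _ _ (hopen _ hN) (hopen _ (hEopen n)) ⟨_, haZ, a, haN, rfl⟩
          ⟨_, hbZ, b, hbE, rfl⟩
      refine ⟨a', ⟨ha'N, hEinv n b' a' (hb'x.trans ha'x.symm) hb'E⟩, ?_⟩
      change Points.ofPt φ a' ∈ T
      rw [ha'x]; exact hxT) hEopen
    obtain ⟨N, hN⟩ := exists_bound_of_finite_fibre s.left p (hfin p)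
    exact absurd (hN (N + 1) (hpE (N + 1))) (by omega)
  classical
  let n₀ := Nat.find h7
  have hn₀ : ∀ u ∈ Z, u ∉ E n₀ := Nat.find_spec h7
  have hn₀pos : n₀ ≠ 0 := by
    intro h0
    exact hn₀ u₀ hu₀Z (by rw [h0]; exact hasLifts_zero _ _)
  obtain ⟨m, hm⟩ : ∃ m, n₀ = m + 1 := Nat.exists_eq_succ_of_ne_zero hn₀pos
  have hm1 : ∃ a ∈ Z, a ∈ E m := by
    have := Nat.find_min h7 (show m < n₀ by omega)
    push Not at this
    exact this
  have hm2 : ∀ u : Spec A, Points.ofPt φ u ∈ T → ¬ HasLifts s.left (m + 1) u := by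
    intro u hu
    rw [← hm]
    exact hn₀ u hu
  obtain ⟨a, haZ, haE⟩ := hm1
  have key : ∀ b ∈ Z, ∃ ζ : Spec A, ζ.asIdeal ∈ I.minimalPrimes ∧ ζ ⤳ b := by
    intro b hb
    obtain ⟨p, hp, hpb⟩ := Ideal.exists_minimalPrimes_le ((hI b).1 hb)
    haveI := hp.1.1
    exact ⟨⟨p, hp.1.1⟩, hp, (PrimeSpectrum.le_iff_specializes _ _).1 hpb⟩
  obtain ⟨ζ, hζmin, hζa⟩ := key a haZ
  have hζE : ζ ∈ E m := hζa.mem_open (hEopen m) haE
  have hζT : Points.ofPt φ ζ ∈ T := (hI ζ).2 hζmin.1.2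
  refine ⟨Points.ofPt φ ζ, ?_⟩
  change closure {Points.ofPt φ ζ} = T
  apply subset_antisymm
  · exact closure_minimal (Set.singleton_subset_iff.2 hζT) hTcl
  · let Oo : Set (Points X) := Points.ofPt φ '' (E m)
    have hOo : IsOpen Oo := hopen _ (hEopen m)
    have h1 : T ∩ Oo ⊆ closure {Points.ofPt φ ζ} := by
      rintro y ⟨hyT, b, hbE, rfl⟩
      obtain ⟨ζ', hζ'min, hζ'b⟩ := key b hyT
      have := ofPt_eq_of_minimalPrimes φ s t sq hopen T hTirr.isPreirreducible I hI m hm2 ζ ζ'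
        hζmin hζ'min hζE (hfin ζ)
      rw [this]
      exact (specializes_iff_mem_closure.1 (hζ'b.map hcont))
    have h2 : T ⊆ closure (T ∩ Oo) ∪ Ooᶜ := by
      intro y hy
      by_cases hyO : y ∈ Oo
      · exact Or.inl (subset_closure ⟨hy, hyO⟩)
      · exact Or.inr hyO
    rcases (isPreirreducible_iff_isClosed_union_isClosed.1 hTirr.isPreirreducible) _ _
      isClosed_closure hOo.isClosed_compl h2 with h3 | h3
    · exact h3.trans (closure_minimal h1 isClosed_closure)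
    · exact absurd ⟨ζ, hζE, rfl⟩ (h3 hζT)

end Groth.Agent.Helper15.SoberDecent
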