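import Mathlib
import Groth.Prelude.Def_Flat

set_option autoImplicit false
open Order TopologicalSpace Topology

namespace Groth.Agent.Helper15.TopDim2

section
variable {U Y : Type*} [TopologicalSpace U] [TopologicalSpace Y]

attribute [local instance] specializationOrder

/-- The Krull dimension of a sober space is the Krull dimension of its specialization order. -/
theorem topologicalKrullDim_eq_krullDim (α : Type*) [TopologicalSpace α] [QuasiSober α]
    [T0Space α] : topologicalKrullDim α = krullDim α :=
  krullDim_eq_of_orderIso irreducibleSetEquivPoints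

theorem exists_ltSeries_lift [T0Space U] [T0Space Y] (f : U → Y)
    (hlift : ∀ u y', y' ⤳ f u → ∃ u', u' ⤳ u ∧ f u' = y') :
    ∀ (n : ℕ) (p : LTSeries Y), p.length = n → ∀ u, f u = p.head →
      ∃ q : LTSeries U, q.length = n ∧ q.head = u := by
  intro n
  induction n with
  | zero =>
    intro p _ u _
    exact ⟨RelSeries.singleton _ u, rfl, rfl⟩
  | succ n ih =>
    intro p hp u hu
    have hne : p.length ≠ 0 := by omega
    have hlt : p.head < p 1 := by
      apply p.strictMono
      rw [Fin.lt_def]
      have : (1 : Fin (p.length + 1)).val = 1 := by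
        rw [Fin.val_one']
        exact Nat.mod_eq_of_lt (by omega)
      rw [this]
      exact Nat.zero_lt_one
    have hsp : p 1 ⤳ f u := by
      rw [hu]; exact hlt.le
    obtain ⟨u₁, hu₁, hfu₁⟩ := hlift u (p 1) hsp
    obtain ⟨q', hq'len, hq'head⟩ := ih (p.tail hne) (by simp [hp]) u₁ (by
      rw [RelSeries.head_tail]; exact hfu₁)
    have hrel : u < q'.head := by
      rw [hq'head]
      refine lt_of_le_of_ne hu₁ ?_
      intro h
      rw [← h, hu] at hfu₁
      exact hlt.ne hfu₁
    exact ⟨q'.cons u hrel, by simp [hq'len], rfl⟩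

/-- A surjective map along which generizations lift does not raise the dimension. -/
theorem topologicalKrullDim_le_of_lift [QuasiSober U] [T0Space U] [QuasiSober Y] [T0Space Y]
    (f : U → Y) (hsurj : Function.Surjective f)
    (hlift : ∀ u y', y' ⤳ f u → ∃ u', u' ⤳ u ∧ f u' = y') :
    topologicalKrullDim Y ≤ topologicalKrullDim U := by
  rw [topologicalKrullDim_eq_krullDim, topologicalKrullDim_eq_krullDim]
  refine iSup_le fun p => ?_
  obtain ⟨u, hu⟩ := hsurj p.head
  obtain ⟨q, hq, -⟩ := exists_ltSeries_lift f hlift p.length p rfl u hu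
  rw [← hq]
  exact q.length_le_krullDim

/-- A continuous map without specializations in its fibres does not lower the dimension. -/
theorem topologicalKrullDim_le_of_disc [QuasiSober U] [T0Space U] [QuasiSober Y] [T0Space Y]
    (f : U → Y) (hc : Continuous f)
    (hdisc : ∀ u u', u' ⤳ u → f u' = f u → u' = u) :
    topologicalKrullDim U ≤ topologicalKrullDim Y := by
  rw [topologicalKrullDim_eq_krullDim, topologicalKrullDim_eq_krullDim]
  refine krullDim_le_of_strictMono f ?_
  intro a b hab
  have h1 : b ⤳ a := hab.le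
  refine lt_of_le_of_ne (h1.map hc) ?_
  intro h
  exact hab.ne (hdisc a b h1 h.symm).symm

end

section
variable {U Y : Type*} [TopologicalSpace U] [TopologicalSpace Y]

/-- Dimension of an open set and of its image. -/
theorem topologicalKrullDim_image_eq [QuasiSober U] [T0Space U] [QuasiSober Y] [T0Space Y]
    (f : U → Y) (hc : Continuous f) (hopen : IsOpenMap f)
    (hlift : ∀ u y', y' ⤳ f u → ∃ u', u' ⤳ u ∧ f u' = y')
    (hdisc : ∀ u u', u' ⤳ u → f u' = f u → u' = u) (N : Set U) (hN : IsOpen N) :
    topologicalKrullDim ↥N = topologicalKrullDim ↥(f '' N) := by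
  haveI : QuasiSober ↥N := hN.isOpenEmbedding_subtypeVal.quasiSober
  haveI : QuasiSober ↥(f '' N) := (hopen N hN).isOpenEmbedding_subtypeVal.quasiSober
  let g : ↥N → ↥(f '' N) := fun a => ⟨f a.1, Set.mem_image_of_mem f a.2⟩
  have hgc : Continuous g := (hc.comp continuous_subtype_val).subtype_mk _
  have hspN : ∀ a b : ↥N, a ⤳ b ↔ a.1 ⤳ b.1 := fun a b =>
    (IsInducing.subtypeVal.specializes_iff).symm
  have hspM : ∀ a b : ↥(f '' N), a ⤳ b ↔ a.1 ⤳ b.1 := fun a b =>
    (IsInducing.subtypeVal.specializes_iff).symm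
  apply le_antisymm
  · refine topologicalKrullDim_le_of_disc g hgc ?_
    intro a b hba hg
    apply Subtype.ext
    exact hdisc a.1 b.1 ((hspN _ _).1 hba) (congrArg Subtype.val hg)
  · refine topologicalKrullDim_le_of_lift g ?_ ?_
    · rintro ⟨_, a, ha, rfl⟩
      exact ⟨⟨a, ha⟩, rfl⟩
    · intro a y' hy'
      obtain ⟨u', hu', hfu'⟩ := hlift a.1 y'.1 ((hspM _ _).1 hy')
      refine ⟨⟨u', hu'.mem_open hN a.2⟩, (hspN _ _).2 hu', Subtype.ext hfu'⟩

/-- Local dimensions agree along an open continuous map with lifting of generizations and no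
specializations in the fibres. -/
theorem localDim_eq [QuasiSober U] [T0Space U] [QuasiSober Y] [T0Space Y]
    (f : U → Y) (hc : Continuous f) (hopen : IsOpenMap f)
    (hlift : ∀ u y', y' ⤳ f u → ∃ u', u' ⤳ u ∧ f u' = y')
    (hdisc : ∀ u u', u' ⤳ u → f u' = f u → u' = u) (u : U) :
    FlatMor.localDim U u = FlatMor.localDim Y (f u) := by
  unfold FlatMor.localDim
  apply le_antisymm
  · refine le_iInf fun M => ?_
    let N : Opens U := ⟨f ⁻¹' (M.1 : Set Y), M.1.isOpen.preimage hc⟩
    have huN : u ∈ N := M.2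
    refine (iInf_le _ (⟨N, huN⟩ : {W : Opens U // u ∈ W})).trans ?_
    change topologicalKrullDim ↥(f ⁻¹' (M.1 : Set Y)) ≤ _
    rw [topologicalKrullDim_image_eq f hc hopen hlift hdisc _ (M.1.isOpen.preimage hc)]
    exact (IsEmbedding.inclusion (Set.image_preimage_subset f _)).isInducing.topologicalKrullDim_le
  · refine le_iInf fun N => ?_
    let M : Opens Y := ⟨f '' (N.1 : Set U), hopen _ N.1.isOpen⟩
    have hM : f u ∈ M := Set.mem_image_of_mem f N.2
    refine (iInf_le _ (⟨M, hM⟩ : {W : Opens Y // f u ∈ W})).trans ?_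
    change topologicalKrullDim ↥(f '' (N.1 : Set U)) ≤ _
    rw [← topologicalKrullDim_image_eq f hc hopen hlift hdisc _ N.1.isOpen]

end

end Groth.Agent.Helper15.TopDim2
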