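import Mathlib
import Groth.Agent.Lib.Helper15.TopDim2
import Groth.Agent.Lib.Helper15.SoberDecent
import Groth.Agent.Lib.Helper15.AlgSpDecent2

/-!
# Dimension theory of decent algebraic spaces via etale charts
-/

set_option autoImplicit false
universe u
open CategoryTheory CategoryTheory.Limits AlgebraicGeometry Opposite MorphismProperty
open AlgSp

namespace Groth.Agent.Helper15.DecentDim

open Groth.Agent.Helper15 Groth.Agent.Helper15.TopDim2 Groth.Agent.Helper15.SoberDecent

variable {S : Scheme.{u}}

/-- Local dimension of an etale chart equals the local dimension of the space of points. -/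
theorem localDim_chart_eq {X : Sp S} (hXa : IsAlgSpace X) (hX : IsDecent X) {U : Over S}
    (a : (yon S).obj U ⟶ X) (ha : RepWith @Etale a) (u : U.left) :
    FlatMor.localDim ↥U.left u = FlatMor.localDim (Points X) (Points.ofPt a u) := by
  haveI := quasiSober_points_of_isDecent hXa hX
  haveI := t0Space_points_of_isDecent hXa hX
  exact localDim_eq (Points.ofPt a) (Points.continuous_ofPt a) (isOpenMap_ofPt_of_etale a ha)
    (fun v x hx => exists_specializes_lift_of_isDecent hX a ha v x hx)
    (fun v v' hs he => (eq_of_specializes_of_ofPt_eq_of_isDecent hX a ha v v' he.symm hs).symm) u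

/-- The Krull dimension of the space of points of a decent space is its dimension. -/
theorem topologicalKrullDim_points_eq_dim {X : Sp S} (hXa : IsAlgSpace X) (hX : IsDecent X) :
    topologicalKrullDim (Points X) = AlgSp.dim X := by
  haveI := quasiSober_points_of_isDecent hXa hX
  haveI := t0Space_points_of_isDecent hXa hX
  unfold AlgSp.dim
  apply le_antisymm
  · obtain ⟨U, p, hpe, hps⟩ := hXa.atlas
    refine le_trans ?_ (le_iSup_of_le U (le_iSup_of_le p (le_iSup_of_le hpe le_rfl)))
    exact topologicalKrullDim_le_of_lift (Points.ofPt p) (surjective_ofPt p hps)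
      (fun v x hx => exists_specializes_lift_of_isDecent hX p hpe v x hx)
  · refine iSup_le fun U => iSup_le fun a => iSup_le fun ha => ?_
    exact topologicalKrullDim_le_of_disc (Points.ofPt a) (Points.continuous_ofPt a)
      (fun v v' hs he => (eq_of_specializes_of_ofPt_eq_of_isDecent hX a ha v v' he.symm hs).symm)

end Groth.Agent.Helper15.DecentDim
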