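import Mathlib
import Groth.Agent.Lib.Helper15.DecentDim

/-!
# Codimension in decent algebraic spaces via etale charts
-/

set_option autoImplicit false
universe u
open CategoryTheory CategoryTheory.Limits AlgebraicGeometry Opposite MorphismProperty
open AlgSp

namespace Groth.Agent.Helper15.DecentCodim

open Groth.Agent.Helper15 Groth.Agent.Helper15.SoberDecent

attribute [local instance] specializationOrder

section Top
variable {α : Type*} [TopologicalSpace α] [QuasiSober α] [T0Space α]

/-- Generic points of irreducible components are the maximal points for specialization. -/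
theorem exists_component_isGenericPoint_iff_isMax (x : α) :
    (∃ T ∈ irreducibleComponents α, IsGenericPoint x T) ↔ IsMax x := by
  constructor
  · rintro ⟨T, hT, hx⟩ y hxy
    -- hxy : x ≤ y, i.e. y ⤳ x
    have hyx : y ⤳ x := hxy
    have h1 : closure {x} ⊆ closure {y} := specializes_iff_closure_subset.1 hyx
    have h2 : closure {y} ⊆ T :=
      hT.2 (isIrreducible_singleton.closure) (by rw [← hx.def]; exact h1)
    have h3 : y ∈ closure {x} := by
      rw [hx.def]; exact h2 (subset_closure rfl)
    exact (specializes_iff_mem_closure.2 h3 : x ⤳ y)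
  · intro hmax
    refine ⟨closure {x}, ⟨isIrreducible_singleton.closure, ?_⟩, rfl⟩
    intro s hs hxs
    obtain ⟨ξ, hξ⟩ := QuasiSober.sober hs.closure isClosed_closure
    have hξx : ξ ⤳ x := by
      rw [specializes_iff_mem_closure, hξ.def]
      exact subset_closure (hxs (subset_closure rfl))
    have hxξ : x ⤳ ξ := hmax (show x ≤ ξ from hξx)
    calc s ⊆ closure s := subset_closure
      _ = closure {ξ} := hξ.def.symm
      _ ⊆ closure {x} := specializes_iff_closure_subset.1 hxξ

/-- The coheight of an irreducible closed subset is the coheight of its generic point. -/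
theorem coheight_irreducibleCloseds_eq (T : TopologicalSpace.IrreducibleCloseds α) (ξ : α)
    (hξ : IsGenericPoint ξ (T : Set α)) : Order.coheight T = Order.coheight ξ := by
  rw [← Order.coheight_orderIso irreducibleSetEquivPoints T]
  congr 1
  exact (T.2.isGenericPoint_genericPoint T.3).eq hξ

end Top

variable {S : Scheme.{u}}

section

/-- Codimension of a point of a decent space read on an etale chart. -/
theorem coheight_ofPt_eq {X : Sp S} (hXa : IsAlgSpace X) (hX : IsDecent X) {U : Over S}
    (a : (yon S).obj U ⟶ X) (ha : RepWith @Etale a) (u : U.left) :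
    haveI := t0Space_points_of_isDecent hXa hX
    Order.coheight (Points.ofPt a u) = Order.coheight u := by
  haveI := t0Space_points_of_isDecent hXa hX
  symm
  refine Order.coheight_eq_of_strictMono (Points.ofPt a) ?_ ?_ u
  · intro v v' hvv'
    have h1 : v' ⤳ v := hvv'.le
    refine lt_of_le_of_ne (h1.map (Points.continuous_ofPt a)) ?_
    intro h
    exact hvv'.ne (eq_of_specializes_of_ofPt_eq_of_isDecent hX a ha v v' h h1)
  · intro v x hvx
    have h1 : x ⤳ Points.ofPt a v := hvx.le
    obtain ⟨w, hwv, rfl⟩ := exists_specializes_lift_of_isDecent hX a ha v x h1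
    refine ⟨w, lt_of_le_of_ne hwv ?_, rfl⟩
    rintro rfl
    exact hvx.ne rfl

end

/-- S10396: codimension of an irreducible closed subset equals the dimension of the local ring of
an etale chart at a point over its generic point. -/
theorem coheight_eq_ringKrullDim_stalk {X : Sp S} (hXa : IsAlgSpace X) (hX : IsDecent X)
    (T : TopologicalSpace.IrreducibleCloseds (Points X)) (ξ : Points X)
    (hξ : IsGenericPoint ξ (T : Set (Points X))) {U : Over S} (a : (yon S).obj U ⟶ X)
    (ha : RepWith @Etale a) (u : U.left) (hu : Points.ofPt a u = ξ) :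
    (Order.coheight T : WithBot ℕ∞) = ringKrullDim ↥(U.left.presheaf.stalk u) := by
  haveI := quasiSober_points_of_isDecent hXa hX
  haveI := t0Space_points_of_isDecent hXa hX
  rw [ringKrullDim_stalk_eq_coheight, coheight_irreducibleCloseds_eq T ξ hξ, ← hu,
    coheight_ofPt_eq hXa hX a ha u]

/-- Characterisation of generic points of irreducible components on one chart. -/
theorem exists_component_iff_of_chart {X : Sp S} (hXa : IsAlgSpace X) (hX : IsDecent X)
    {U : Over S} (a : (yon S).obj U ⟶ X) (ha : RepWith @Etale a) (u : U.left) :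
    (∃ T ∈ irreducibleComponents (Points X), IsGenericPoint (Points.ofPt a u) T) ↔
      ringKrullDim ↥(U.left.presheaf.stalk u) = 0 := by
  haveI := quasiSober_points_of_isDecent hXa hX
  haveI := t0Space_points_of_isDecent hXa hX
  rw [exists_component_isGenericPoint_iff_isMax, ← Order.coheight_eq_zero,
    coheight_ofPt_eq hXa hX a ha u, ringKrullDim_stalk_eq_coheight]
  exact (WithBot.coe_eq_zero).symm

/-- S10394. -/
theorem exists_component_iff_hasAt {X : Sp S} (hXa : IsAlgSpace X) (hX : IsDecent X)
    (x : Points X) :
    (∃ T ∈ irreducibleComponents (Points X), IsGenericPoint x T) ↔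
      HasAt (fun U u => ringKrullDim ↥(U.presheaf.stalk u) = 0) X x := by
  constructor
  · intro h
    obtain ⟨U, p, hpe, hps⟩ := hXa.atlas
    obtain ⟨u, rfl⟩ := surjective_ofPt p hps x
    exact ⟨U, p, u, hpe, rfl, (exists_component_iff_of_chart hXa hX p hpe u).1 h⟩
  · rintro ⟨U, a, u, ha, rfl, h⟩
    exact (exists_component_iff_of_chart hXa hX a ha u).2 h

/-- S10395. -/
theorem exists_component_iff_of_isEtaleMor {X Y : Sp S} (hXa : IsAlgSpace X) (hYa : IsAlgSpace Y)
    (hX : IsDecent X) (f : Y ⟶ X) (hf : IsEtaleMor f) (y : Points Y) :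
    (∃ T ∈ irreducibleComponents (Points Y), IsGenericPoint y T) ↔
      (∃ T ∈ irreducibleComponents (Points X), IsGenericPoint (Points.map f y) T) := by
  have hY : IsDecent Y := QcLocal.isDecent_of_isEtaleMor hYa hXa f hf hX
  obtain ⟨V, b, hbe, hbs⟩ := hYa.atlas
  obtain ⟨v, rfl⟩ := surjective_ofPt b hbs y
  rw [Points.map_ofPt, exists_component_iff_of_chart hYa hY b hbe v,
    exists_component_iff_of_chart hXa hX (b ≫ f) (hf b hbe) v]

end Groth.Agent.Helper15.DecentCodim
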