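import Mathlib

/-!
# A Baire property for spectral spaces
-/

set_option autoImplicit false
open Topology

namespace Groth.Agent.Helper15.SpecBaire2

variable {X : Type*} [TopologicalSpace X]

/-- compact opens are closed in the constructible topology -/
theorem isClosed_withConstructible_of_isCompact_isOpen {K : Set X} (hK : IsCompact K)
    (hKo : IsOpen K) :
    IsClosed (WithTopology.ofTopology ⁻¹' K : Set (WithConstructibleTopology X)) := by
  rw [WithConstructibleTopology.isClosed_iff]
  have h1 : IsOpen[constructibleTopology X] Kᶜ :=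
    IsCompact.isOpen_constructibleTopology_of_isClosed (by rwa [compl_compl]) hKo.isClosed_compl
  exact @IsClosed.mk X (constructibleTopology X) _ h1

/-- **Baire property**: in a spectral space a countable intersection of dense opens is non-empty. -/
theorem nonempty_iInter_of_dense [CompactSpace X] [QuasiSober X] [PrespectralSpace X]
    [QuasiSeparatedSpace X] [Nonempty X] (O : ℕ → Set X) (hO : ∀ n, IsOpen (O n))
    (hd : ∀ n, Dense (O n)) : (⋂ n, O n).Nonempty := by
  -- the type of non-empty compact opens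
  let 𝒦 := {K : Set X // IsOpen K ∧ IsCompact K ∧ K.Nonempty}
  have hstep : ∀ (n : ℕ) (V : Set X), IsOpen V → V.Nonempty →
      ∃ K : 𝒦, K.1 ⊆ V ∧ K.1 ⊆ O n := by
    intro n V hV hVn
    obtain ⟨x, hxV, hxO⟩ := (hd n).inter_open_nonempty V hV hVn
    obtain ⟨K, ⟨hK1, hK2⟩, hxK, hKsub⟩ :=
      (PrespectralSpace.isTopologicalBasis (X := X)).exists_subset_of_mem_open
        (show x ∈ V ∩ O n from ⟨hxV, hxO⟩) (hV.inter (hO n))
    exact ⟨⟨K, hK1, hK2, ⟨x, hxK⟩⟩, fun y hy => (hKsub hy).1, fun y hy => (hKsub hy).2⟩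
  obtain ⟨K₀, -, hK₀⟩ := hstep 0 Set.univ isOpen_univ Set.univ_nonempty
  choose next hnext1 hnext2 using fun (n : ℕ) (K : 𝒦) => hstep (n + 1) K.1 K.2.1 K.2.2.2
  let K : ℕ → 𝒦 := fun n => Nat.rec K₀ (fun n Kn => next n Kn) n
  have hKsucc : ∀ n, K (n + 1) = next n (K n) := fun n => rfl
  have hKO : ∀ n, (K n).1 ⊆ O n := by
    intro n
    cases n with
    | zero => exact hK₀
    | succ n => rw [hKsucc]; exact hnext2 n (K n)
  have hKanti : ∀ n, (K (n + 1)).1 ⊆ (K n).1 := by
    intro n
    rw [hKsucc]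
    exact hnext1 n (K n)
  let K' : ℕ → Set (WithConstructibleTopology X) := fun n => WithTopology.ofTopology ⁻¹' (K n).1
  have hcl : ∀ n, IsClosed (K' n) := fun n =>
    isClosed_withConstructible_of_isCompact_isOpen (K n).2.2.1 (K n).2.1
  obtain ⟨y, hy⟩ := IsCompact.nonempty_iInter_of_sequence_nonempty_isCompact_isClosed K'
    (fun n y hy => hKanti n hy)
    (fun n => by
      obtain ⟨x, hx⟩ := (K n).2.2.2
      exact ⟨WithTopology.toTopology _ x, hx⟩)
    (hcl 0).isCompact hcl
  refine ⟨y.ofTopology, ?_⟩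
  rw [Set.mem_iInter] at hy ⊢
  intro n
  exact hKO n (hy n)

/-- A decreasing sequence of opens with empty intersection in a spectral space has a stratum with
non-empty interior. -/
theorem exists_open_stratum [CompactSpace X] [QuasiSober X] [PrespectralSpace X]
    [QuasiSeparatedSpace X] [Nonempty X] (O : ℕ → Set X) (hO : ∀ n, IsOpen (O n))
    (h0 : O 0 = Set.univ) (hinter : ∀ a, ∃ n, a ∉ O n) :
    ∃ (n : ℕ) (N : Set X), IsOpen N ∧ N.Nonempty ∧ N ⊆ O n ∧ Disjoint N (O (n + 1)) := by
  classical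
  have hex : ∃ n, ¬ Dense (O n) := by
    by_contra hcon
    push Not at hcon
    obtain ⟨a, ha⟩ := nonempty_iInter_of_dense O hO hcon
    obtain ⟨n, hn⟩ := hinter a
    exact hn (Set.mem_iInter.1 ha n)
  have hm0 : Nat.find hex ≠ 0 := by
    intro h
    have := Nat.find_spec hex
    rw [h, h0] at this
    exact this dense_univ
  obtain ⟨n, hn⟩ : ∃ n, Nat.find hex = n + 1 := ⟨Nat.find hex - 1, by omega⟩
  have hdn : Dense (O n) := not_not.1 (Nat.find_min hex (m := n) (by omega))
  have hnd : ¬ Dense (O (n + 1)) := by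
    have := Nat.find_spec hex
    rwa [hn] at this
  -- a non-empty open disjoint from `O (n+1)`
  have : ∃ M : Set X, IsOpen M ∧ M.Nonempty ∧ Disjoint M (O (n + 1)) := by
    by_contra hcon
    apply hnd
    rw [dense_iff_inter_open]
    intro M hM hMn
    by_contra hempty
    apply hcon
    refine ⟨M, hM, hMn, ?_⟩
    rw [Set.disjoint_iff_inter_eq_empty]
    exact Set.not_nonempty_iff_eq_empty.1 hempty
  obtain ⟨M, hM, hMn, hMd⟩ := this
  obtain ⟨x, hxM, hxO⟩ := hdn.inter_open_nonempty M hM hMn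
  exact ⟨n, M ∩ O n, hM.inter (hO n), ⟨x, hxM, hxO⟩, Set.inter_subset_right,
    hMd.mono_left Set.inter_subset_left⟩

end Groth.Agent.Helper15.SpecBaire2
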