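import Groth.Agent.Lib.Helper15.FiniteTFAE
import Groth.Agent.Lib.Helper15.AlgSpAtNbhd
import Groth.Agent.Lib.Helper15.AlgSpLocPListed2
import Groth.Agent.Lib.Helper15.AlgSpOpen
import Groth.Agent.Lib.Helper16.AlgSp.ProperSp

/-!
# A proper morphism is finite near a point with quasi-finite fibre
-/

set_option autoImplicit false
universe u
open CategoryTheory CategoryTheory.Limits AlgebraicGeometry MorphismProperty Opposite
open AlgSp

namespace Groth.Agent.Helper15.Norm

variable {S : Scheme.{u}}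

theorem locP_precomp_repWith_etale {P : MorphismProperty Scheme.{u}} {X' X Y : Sp S} (f : X ⟶ Y)
    (hf : LocP P f) (e : X' ⟶ X) (he : RepWith @Etale e) : LocP P (e ≫ f) := by
  intro U V a b ψ ha hb comm
  exact hf (a ≫ e) b ψ ((RepWith @Etale).comp_mem _ _ ha he) hb (by rw [Category.assoc, comm])

theorem locP_of_comp_repWith_etale {P : MorphismProperty Scheme.{u}} {X Y Y' : Sp S} (f : X ⟶ Y)
    (j : Y ⟶ Y') (hj : RepWith @Etale j) (hf : LocP P (f ≫ j)) : LocP P f := by
  intro U V a b ψ ha hb comm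
  exact hf a (b ≫ j) ψ ha ((RepWith @Etale).comp_mem _ _ hb hj)
    (by rw [← Category.assoc, comm, Category.assoc])

theorem isOpenImmersion_le_etale :
    (@IsOpenImmersion : MorphismProperty Scheme.{u}) ≤ @Etale :=
  fun _ _ φ hφ => by haveI : IsOpenImmersion φ := hφ; exact (inferInstance : Etale φ)

theorem isOpen_range_of_isOpenImmersion {X' X : Sp S} (hX : IsAlgSpace X) (j : X' ⟶ X)
    (hj : RepWith @IsOpenImmersion j) : IsOpen (Set.range (Points.map j)) := by
  obtain ⟨U, p, hpe, hps⟩ := hX.atlas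
  have h : IsOpenMor j := isOpenMor_of_repWith j (fun φ hφ => by
    haveI : IsOpenImmersion φ := hφ
    exact φ.isOpenEmbedding.isOpenMap) hj p hpe hps
  exact IsOpenMap.isOpen_range h

/-- The quasi-finite locus of a morphism of algebraic spaces is open. -/
theorem isOpen_quasiFiniteLocus {X Y : Sp S} (hX : IsAlgSpace X) (hY : IsAlgSpace Y) (f : X ⟶ Y) :
    IsOpen {x : Points X | HasAtMor (fun U _ h u => ∃ W : U.Opens, u ∈ W ∧
      (@LocallyQuasiFinite ⊓ @LocallyOfFiniteType : MorphismProperty Scheme.{u}) (W.ι ≫ h)) f x} := by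
  have hP₀ : ∀ ⦃A B : Scheme.{u}⦄ (g : A ⟶ B),
      (@LocallyQuasiFinite ⊓ @LocallyOfFiniteType : MorphismProperty Scheme.{u}) g ↔
        (LocallyQuasiFinite g ∧ LocallyOfFiniteType g) := fun A B g => Iff.rfl
  rw [isOpen_iff_forall_mem_open]
  intro x hx
  obtain ⟨X', j, hX', hj, hxj, hloc⟩ := (hasAtMor_nbhd_iff_exists_open_subspace _
    (Or.inr (Or.inr (Or.inr (Or.inr (Or.inr (Or.inl hP₀)))))) hX hY f x).1 hx
  refine ⟨Set.range (Points.map j), ?_, isOpen_range_of_isOpenImmersion hX j hj, hxj⟩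
  rintro _ ⟨x', rfl⟩
  exact (hasAtMor_nbhd_iff_exists_open_subspace _
    (Or.inr (Or.inr (Or.inr (Or.inr (Or.inr (Or.inl hP₀)))))) hX hY f _).2
    ⟨X', j, hX', hj, ⟨x', rfl⟩, hloc⟩

/-- A proper morphism is finite over a neighbourhood of a point over which it is quasi-finite. -/
theorem exists_open_finite_of_proper {X Y : Sp S} (hX : IsAlgSpace X) (hY : IsAlgSpace Y)
    (f : X ⟶ Y) (y : Points Y) (hf : IsProperMor f)
    (hq : ∀ x : Points X, Points.map f x = y →
      HasAtMor (fun U _ h u => ∃ W : U.Opens, u ∈ W ∧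
        (@LocallyQuasiFinite ⊓ @LocallyOfFiniteType : MorphismProperty Scheme.{u}) (W.ι ≫ h)) f x) :
    ∃ (V : Sp S) (j : V ⟶ Y), IsAlgSpace V ∧ RepWith @IsOpenImmersion j ∧
      y ∈ Set.range (Points.map j) ∧
        ∀ (P : Sp S) (fst : P ⟶ X) (snd : P ⟶ V), IsPullback fst snd f j → IsFiniteMor snd := by
  have hP₀ : ∀ ⦃A B : Scheme.{u}⦄ (g : A ⟶ B),
      (@LocallyQuasiFinite ⊓ @LocallyOfFiniteType : MorphismProperty Scheme.{u}) g ↔
        (LocallyQuasiFinite g ∧ LocallyOfFiniteType g) := fun A B g => Iff.rfl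
  have hL := (Or.inr (Or.inr (Or.inr (Or.inr (Or.inr (Or.inl hP₀))))) :
    (@LocallyQuasiFinite ⊓ @LocallyOfFiniteType : MorphismProperty Scheme.{u}) =
        @LocallyOfFiniteType ∨
      (@LocallyQuasiFinite ⊓ @LocallyOfFiniteType : MorphismProperty Scheme.{u}) =
        @LocallyOfFinitePresentation ∨
      (@LocallyQuasiFinite ⊓ @LocallyOfFiniteType : MorphismProperty Scheme.{u}) = @Flat ∨
      (@LocallyQuasiFinite ⊓ @LocallyOfFiniteType : MorphismProperty Scheme.{u}) = @Smooth ∨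
      (@LocallyQuasiFinite ⊓ @LocallyOfFiniteType : MorphismProperty Scheme.{u}) = @Etale ∨
      (∀ ⦃A B : Scheme.{u}⦄ (g : A ⟶ B),
        (@LocallyQuasiFinite ⊓ @LocallyOfFiniteType : MorphismProperty Scheme.{u}) g ↔
          (LocallyQuasiFinite g ∧ LocallyOfFiniteType g)) ∨
      (∀ ⦃A B : Scheme.{u}⦄ (g : A ⟶ B),
        (@LocallyQuasiFinite ⊓ @LocallyOfFiniteType : MorphismProperty Scheme.{u}) g ↔
          (LocallyOfFiniteType g ∧ FormallyUnramified g)))
  obtain ⟨Wqf, hWdef⟩ : ∃ Wqf : Set (Points X), Wqf = {x : Points X |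
      HasAtMor (fun U _ h u => ∃ W : U.Opens, u ∈ W ∧
        (@LocallyQuasiFinite ⊓ @LocallyOfFiniteType : MorphismProperty Scheme.{u}) (W.ι ≫ h))
        f x} := ⟨_, rfl⟩
  have hopen : IsOpen Wqf := hWdef ▸ isOpen_quasiFiniteLocus hX hY f
  have hclosed : IsClosedMap (Points.map f) := isClosedMor_of_isUnivClosedMor hY f hf.2.2
  have hV₀ : IsOpen (Points.map f '' Wqfᶜ)ᶜ := (hclosed _ hopen.isClosed_compl).isOpen_compl
  have hy : y ∈ (Points.map f '' Wqfᶜ)ᶜ := by
    rintro ⟨x, hx, rfl⟩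
    exact hx (hWdef ▸ hq x rfl)
  obtain ⟨V, j, hV, hj, hrange⟩ := exists_open_subspace_of_isOpen hY _ hV₀
  refine ⟨V, j, hV, hj, by rw [hrange]; exact hy, ?_⟩
  intro P fst snd sq
  have hP : IsAlgSpace P := isAlgSpace_of_isPullback hY.diag hX hV sq
  have hprop : IsProperMor snd := Groth.Agent.Helper16.AS.isProperMor_of_isPullback hX hY hV sq hf
  have hfst : RepWith @IsOpenImmersion fst := (RepWith @IsOpenImmersion).of_isPullback sq.flip hj
  have hloc' : LocP (@LocallyQuasiFinite ⊓ @LocallyOfFiniteType) (fst ≫ f) := by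
    rw [locP_listed_iff_forall_hasAtMor_nbhd _ hL hP hY]
    intro p
    have hx : Points.map fst p ∈ Wqf := by
      by_contra hnot
      have hmem : Points.map j (Points.map snd p) ∈ (Points.map f '' Wqfᶜ)ᶜ :=
        hrange ▸ ⟨_, rfl⟩
      apply hmem
      exact ⟨Points.map fst p, hnot, by rw [← Points.map_comp, ← Points.map_comp, sq.w]⟩
    rw [hWdef] at hx
    obtain ⟨X', j', hX', hj', ⟨x'', hx''⟩, hlocX'⟩ :=
      (hasAtMor_nbhd_iff_exists_open_subspace _ hL hX hY f _).1 hx
    rw [hasAtMor_nbhd_iff_exists_open_subspace _ hL hP hY]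
    have sq' := IsPullback.of_hasPullback j' fst
    refine ⟨pullback j' fst, pullback.snd j' fst,
      isAlgSpace_of_isPullback hX.diag hX' hP sq',
      (RepWith @IsOpenImmersion).of_isPullback sq' hj', ?_, ?_⟩
    · obtain ⟨p', -, hp'⟩ := exists_point_of_isPullback sq' x'' p hx''
      exact ⟨p', hp'⟩
    · rw [← Category.assoc, ← pullback.condition, Category.assoc]
      exact locP_precomp_repWith_etale _ hlocX' _
        (repWith_mono isOpenImmersion_le_etale
          ((RepWith @IsOpenImmersion).of_isPullback sq'.flip hfst))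
  rw [sq.w] at hloc'
  have hloc : LocP (@LocallyQuasiFinite ⊓ @LocallyOfFiniteType) snd :=
    locP_of_comp_repWith_etale snd j (repWith_mono isOpenImmersion_le_etale hj) hloc'
  exact isFiniteMor_of_univClosed_separated_lqf hP hV snd hprop.2.2 hprop.1 hloc

end Groth.Agent.Helper15.Norm
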