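import Groth.Agent.Lib.Helper15.NormGlue
import Groth.Agent.Lib.Helper15.AlgSpLocPListed
import Groth.Agent.Lib.Helper15.AlgSpUnram

/-!
# Normalizations which are universal for smooth base change
-/

set_option autoImplicit false
universe u w
open CategoryTheory CategoryTheory.Limits AlgebraicGeometry MorphismProperty Opposite
open AlgSp

namespace Groth.Agent.Helper15.Norm

variable {S : Scheme.{u}}

theorem etale_le_smooth : (@Etale : MorphismProperty Scheme.{u}) ≤ @Smooth :=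
  fun _ _ f hf => by haveI : Etale f := hf; infer_instance

/-- A single epimorphism is a jointly epimorphic family (any universe of indices). -/
theorem jointlyEpi_of_epi' {F' F : Sp S} (e : F' ⟶ F) [Epi e] :
    JointlyEpi (fun _ : PUnit.{w + 1} => F') (fun _ => e) := by
  intro T x
  obtain ⟨R, hR, h⟩ := exists_local_lift_of_epi' e x
  refine (J S).superset_covering ?_ hR
  intro T' k hk
  obtain ⟨τ, hτ⟩ := h k hk
  exact ⟨PUnit.unit, τ, hτ⟩

theorem epi_of_etale_surjective {F G : Sp S} (p : F ⟶ G) (h1 : RepWith @Etale p)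
    (h2 : RepWith @Surjective p) : Epi p := by
  haveI := isLocallySurjective_of_etale_surjective p h1 h2
  exact Sheaf.epi_of_isLocallySurjective p

/-- Composition of a smooth chart with a smooth morphism of algebraic spaces is a smooth chart. -/
theorem smooth_chart_comp {H₂ H : Sp S} (hH₂ : IsAlgSpace H₂) (hH : IsAlgSpace H) (e : H₂ ⟶ H)
    (he : LocP @Smooth e) {T : Over S} (c : (yon S).obj T ⟶ H₂) (hc : RepWith @Smooth c) :
    RepWith @Smooth (c ≫ e) := by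
  have h1 : LocP @Smooth c := locP_of_repWith etale_le_smooth c hc
  have h2 : LocP @Smooth (c ≫ e) :=
    locP_listed_comp _ (Or.inr (Or.inr (Or.inr (Or.inl rfl)))) (IsAlgSpace.yon_obj T) hH₂ hH c e
      h1 he
  exact repWith_of_locP goodP_smooth hH (c ≫ e)
    (Functor.relativelyRepresentable.of_diag hH.diag _) h2

theorem locP_smooth_of_isEtaleMor {H₂ H : Sp S} (hH : IsAlgSpace H) (e : H₂ ⟶ H)
    (he : IsEtaleMor e) : LocP @Smooth e := by
  have := locP_etale_of_isEtaleMor hH e he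
  intro U V a b h ha hb comm
  exact etale_le_smooth _ _ _ (this a b h ha hb comm)

section

variable {G H N : Sp S}

/-- `(ν, f')` is a normalization of `g`, and stays one after every smooth base change from an
affine scheme. -/
def IsSNorm (g : G ⟶ H) (ν : N ⟶ H) (f' : G ⟶ N) : Prop :=
  f' ≫ ν = g ∧ IsIntegralMor ν ∧ ∀ (T : Over S) (c : (yon S).obj T ⟶ H), IsAffine T.left →
    RepWith @Smooth c → BCNorm g ν f' c

variable {g : G ⟶ H} {ν : N ⟶ H} {f' : G ⟶ N}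

theorem IsSNorm.isRelNormalization (h : IsSNorm g ν f') (hH : IsAlgSpace H) :
    IsRelNormalization g ν f' := by
  obtain ⟨V, p, hpe, hps⟩ := hH.atlas
  haveI := epi_of_etale_surjective p hpe hps
  refine isRelNormalization_of_local hH h.1 h.2.1 (ι := PUnit.{u + 1}) (fun _ => V) (fun _ => p)
    (fun _ => hpe) (jointlyEpi_of_epi' p) ?_
  intro _ T₁ c₁ hT₁ hc₁
  refine h.2.2 T₁ _ hT₁ ?_
  exact repWith_mono etale_le_smooth
    ((RepWith @Etale).comp_mem _ _ ((repWith_yon_map_iff _ c₁).2 hc₁) hpe)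

/-- Base change of a universally-smooth normalization along a smooth-chart-preserving map. -/
theorem IsSNorm.baseChange (h : IsSNorm g ν f') {H₂ G₂ N₂ : Sp S} {e : H₂ ⟶ H}
    (he : ∀ (T : Over S) (c : (yon S).obj T ⟶ H₂), IsAffine T.left → RepWith @Smooth c →
      RepWith @Smooth (c ≫ e))
    {g₂ : G₂ ⟶ H₂} {ν₂ : N₂ ⟶ H₂} {f'₂ : G₂ ⟶ N₂} {cG : G₂ ⟶ G} {cN : N₂ ⟶ N}
    (sqG : IsPullback cG g₂ g e) (sqN : IsPullback cN ν₂ ν e) (h1 : f'₂ ≫ ν₂ = g₂)
    (h2 : f'₂ ≫ cN = cG ≫ f') : IsSNorm g₂ ν₂ f'₂ := by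
  refine ⟨h1, isIntegralMor_of_isPullback sqN h.2.1, ?_⟩
  intro T c hT hc G₃ N₃ g₃ ν₃ f'₃ dG dN sqG' sqN' k1 k2
  refine h.2.2 T (c ≫ e) hT (he T c hT hc) g₃ ν₃ f'₃ (dG ≫ cG) (dN ≫ cN)
    (sqG'.paste_horiz sqG) (sqN'.paste_horiz sqN) k1 ?_
  rw [← Category.assoc, k2, Category.assoc, h2, Category.assoc]

/-- Normalization commutes with smooth base change (for universally-smooth normalizations). -/
theorem IsSNorm.isRelNormalization_baseChange (h : IsSNorm g ν f') (hH : IsAlgSpace H)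
    {H₂ G₂ N₂ : Sp S} (hH₂ : IsAlgSpace H₂) {e : H₂ ⟶ H} (he : LocP @Smooth e)
    {g₂ : G₂ ⟶ H₂} {ν₂ : N₂ ⟶ H₂} {f'₂ : G₂ ⟶ N₂} {cG : G₂ ⟶ G} {cN : N₂ ⟶ N}
    (sqG : IsPullback cG g₂ g e) (sqN : IsPullback cN ν₂ ν e) (h1 : f'₂ ≫ ν₂ = g₂)
    (h2 : f'₂ ≫ cN = cG ≫ f') : IsRelNormalization g₂ ν₂ f'₂ :=
  (h.baseChange (fun _ c _ hc => smooth_chart_comp hH₂ hH e he c hc) sqG sqN h1 h2).isRelNormalization
    hH₂

theorem IsSNorm.of_iso (h : IsSNorm g ν f') {N' : Sp S} (eN : N' ≅ N) {ν₁ : N' ⟶ H}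
    {f'₁ : G ⟶ N'} (hν : ν₁ = eN.hom ≫ ν) (hf : f'₁ ≫ eN.hom = f') : IsSNorm g ν₁ f'₁ := by
  refine ⟨by rw [hν, ← Category.assoc, hf, h.1], ?_, ?_⟩
  · rw [hν]; exact isIntegralMor_comp _ _ (isIntegralMor_of_iso eN.hom) h.2.1
  · intro T c hT hc G₁ N₁ g₁ ν₁' f'₁' cG cN sqG sqN k1 k2
    have sqN' : IsPullback (cN ≫ eN.hom) ν₁' ν c := by
      have : IsPullback eN.hom (𝟙 N') (𝟙 N) eN.hom := IsPullback.of_vert_isIso ⟨by simp⟩
      have sq2 : IsPullback eN.hom ν₁ ν (𝟙 H) :=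
        IsPullback.of_horiz_isIso ⟨by rw [hν, Category.comp_id]⟩
      have := sqN.paste_horiz sq2
      rwa [Category.comp_id] at this
    exact h.2.2 T c hT hc g₁ ν₁' f'₁' cG (cN ≫ eN.hom) sqG sqN' k1
      (by rw [← Category.assoc, k2, Category.assoc, hf])

/-- Any normalization is universally smooth as soon as one such normalization exists. -/
theorem isSNorm_of_isRelNormalization (hn : IsRelNormalization g ν f') (hN : IsAlgSpace N)
    (hH : IsAlgSpace H) {N₀ : Sp S} {ν₀ : N₀ ⟶ H} {f'₀ : G ⟶ N₀} (hN₀ : IsAlgSpace N₀)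
    (h₀ : IsSNorm g ν₀ f'₀) : IsSNorm g ν f' := by
  obtain ⟨e, e1, e2⟩ := norm_exists_iso hn hN (h₀.isRelNormalization hH) hN₀
  exact h₀.of_iso e e2.symm e1

end

end Groth.Agent.Helper15.Norm
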