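import Mathlib

/-!
# Free actions of finite groups on rings: the extension over the invariants is finite étale Galois
-/

set_option autoImplicit false
universe u v w
open TensorProduct

namespace Groth.Agent.Helper15.GaloisFree

variable {A : Type w} {B : Type u} [CommRing A] [CommRing B] [Algebra A B]
  {G : Type v} [Group G] [Fintype G] [MulSemiringAction G B] [SMulCommClass G A B]

/-- The action is free: no non-trivial element fixes a point together with its residue field. -/
def IsFree (B : Type u) [CommRing B] (G : Type v) [Group G] [MulSemiringAction G B] : Prop :=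
  ∀ σ : G, σ ≠ 1 → Ideal.span (Set.range fun b : B => σ • b - b) = ⊤

variable (A) in
/-- `a ⊗ b ↦ a * σ b`. -/
noncomputable def phi (σ : G) : B ⊗[A] B →ₐ[B] B :=
  Algebra.TensorProduct.lift (AlgHom.id B B) (MulSemiringAction.toAlgHom A B σ)
    (fun _ _ => Commute.all _ _)

@[simp] theorem phi_tmul (σ : G) (a b : B) : phi A σ (a ⊗ₜ[A] b) = a * σ • b := by
  simp [phi]

theorem exists_sep (hfree : IsFree B G) (σ : G) (hσ : σ ≠ 1) :
    ∃ e : B ⊗[A] B, phi A (1 : G) e = 1 ∧ phi A σ e = 0 := by
  have h1 : (1 : B) ∈ Ideal.span (Set.range fun b : B => σ • b - b) := by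
    rw [hfree σ hσ]; trivial
  have key : ∀ x ∈ Ideal.span (Set.range fun b : B => σ • b - b),
      ∃ e : B ⊗[A] B, phi A (1 : G) e = x ∧ phi A σ e = 0 := by
    intro x hx
    induction hx using Submodule.span_induction with
    | mem x hx =>
      obtain ⟨b, rfl⟩ := hx
      refine ⟨(σ • b) ⊗ₜ 1 - 1 ⊗ₜ b, ?_, ?_⟩
      · simp
      · simp
    | zero => exact ⟨0, by simp, by simp⟩
    | add x y _ _ hx hy =>
      obtain ⟨e₁, h₁, h₁'⟩ := hx
      obtain ⟨e₂, h₂, h₂'⟩ := hy
      exact ⟨e₁ + e₂, by simp [h₁, h₂], by simp [h₁', h₂']⟩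
    | smul c x _ hx =>
      obtain ⟨e, h, h'⟩ := hx
      refine ⟨(c ⊗ₜ 1) * e, ?_, ?_⟩
      · simp [h]
      · simp [h']
  exact key 1 h1

theorem exists_delta [DecidableEq G] (hfree : IsFree B G) :
    ∃ e : B ⊗[A] B, ∀ σ : G, phi A σ e = if σ = 1 then 1 else 0 := by
  choose e he1 heσ using fun σ : {σ : G // σ ≠ 1} => exists_sep (A := A) hfree σ.1 σ.2
  refine ⟨∏ σ, e σ, fun τ => ?_⟩
  rw [map_prod]
  split_ifs with h
  · subst h
    exact Finset.prod_eq_one fun σ _ => he1 σ
  · exact Finset.prod_eq_zero (Finset.mem_univ ⟨τ, h⟩) (heσ ⟨τ, h⟩)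

/-- The dual basis data of a free action. -/
theorem exists_dual [DecidableEq G] (hfree : IsFree B G) :
    ∃ s : Finset (B × B), ∀ σ : G, ∑ i ∈ s, i.1 * σ • i.2 = if σ = 1 then 1 else 0 := by
  obtain ⟨e, he⟩ := exists_delta (A := ℤ) hfree
  obtain ⟨s, rfl⟩ := TensorProduct.exists_finset e
  refine ⟨s, fun σ => ?_⟩
  rw [← he σ, map_sum]
  simp


section Main

variable [Algebra.IsInvariant A B G] [FaithfulSMul A B]

/-- The sum over the group. -/
def trB (G : Type v) [Group G] [Fintype G] [MulSemiringAction G B] (x : B) : B := ∑ σ : G, σ • x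

theorem smul_trB (τ : G) (x : B) : τ • trB G x = trB G x := by
  unfold trB
  rw [Finset.smul_sum]
  simp_rw [← mul_smul]
  exact Fintype.sum_equiv (Equiv.mulLeft τ) _ _ (fun _ => rfl)

variable (A) in
theorem exists_tr (x : B) : ∃ a : A, algebraMap A B a = trB G x :=
  Algebra.IsInvariant.isInvariant (A := A) (G := G) _ (fun τ => smul_trB τ x)

variable (A G) in
/-- The trace to the invariants. -/
noncomputable def tr : B →ₗ[A] A where
  toFun x := (exists_tr (G := G) A x).choose
  map_add' x y := by
    apply FaithfulSMul.algebraMap_injective A B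
    rw [map_add, (exists_tr (G := G) A x).choose_spec, (exists_tr (G := G) A y).choose_spec,
      (exists_tr (G := G) A (x + y)).choose_spec]
    simp [trB, Finset.sum_add_distrib]
  map_smul' a x := by
    apply FaithfulSMul.algebraMap_injective A B
    rw [RingHom.id_apply, smul_eq_mul, map_mul, (exists_tr (G := G) A x).choose_spec,
      (exists_tr (G := G) A (a • x)).choose_spec]
    simp only [trB, Finset.mul_sum]
    refine Finset.sum_congr rfl fun σ _ => ?_
    rw [smul_comm, Algebra.smul_def]

theorem algebraMap_tr (x : B) : algebraMap A B (tr A G x) = ∑ σ : G, σ • x :=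
  (exists_tr (G := G) A x).choose_spec

variable [DecidableEq G]

theorem key_identity {s : Finset (B × B)}
    (hs : ∀ σ : G, ∑ i ∈ s, i.1 * σ • i.2 = if σ = 1 then 1 else 0) (x : B) :
    ∑ k ∈ s, algebraMap A B (tr A G (k.2 * x)) * k.1 = x := by
  simp_rw [algebraMap_tr, Finset.sum_mul, smul_mul']
  rw [Finset.sum_comm]
  have : ∀ σ : G, ∑ k ∈ s, σ • k.2 * σ • x * k.1 = σ • x * ∑ k ∈ s, k.1 * σ • k.2 := by
    intro σ
    rw [Finset.mul_sum]
    refine Finset.sum_congr rfl fun k _ => ?_
    ring
  simp_rw [this, hs]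
  simp

theorem projective_finite (hfree : IsFree B G) : Module.Projective A B ∧ Module.Finite A B := by
  obtain ⟨s, hs⟩ := exists_dual hfree
  let i : B →ₗ[A] (s → A) := LinearMap.pi fun k => (tr A G).comp (LinearMap.mulLeft A k.1.2)
  let p : (s → A) →ₗ[A] B := ∑ k : s, (LinearMap.proj k).smulRight k.1.1
  have hpi : p.comp i = LinearMap.id := by
    ext x
    have : p (i x) = ∑ k : s, algebraMap A B (tr A G (k.1.2 * x)) * k.1.1 := by
      simp [p, i, Algebra.smul_def]
    rw [LinearMap.comp_apply, this, LinearMap.id_apply, Finset.sum_coe_sort s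
      (fun k => algebraMap A B (tr A G (k.2 * x)) * k.1)]
    exact key_identity hs x
  refine ⟨Module.Projective.of_split i p hpi, ?_⟩
  refine Module.Finite.of_surjective p (fun x => ⟨i x, ?_⟩)
  exact LinearMap.congr_fun hpi x

variable (A G) in
/-- The comparison map `B ⊗ B → ∏_G B`. -/
noncomputable def Phi : B ⊗[A] B →ₐ[B] (G → B) := Pi.algHom B (fun _ => B) (fun σ => phi A σ)

@[simp] theorem Phi_apply (x : B ⊗[A] B) (σ : G) : Phi A G x σ = phi A σ x := rfl

theorem Phi_bijective (hfree : IsFree B G) : Function.Bijective (Phi A G (B := B)) := by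
  obtain ⟨s, hs⟩ := exists_dual hfree
  constructor
  · -- injective
    have hrec : ∀ x : B ⊗[A] B,
        x = ∑ k ∈ s, (∑ σ : G, σ • k.2 * phi A σ x) ⊗ₜ[A] k.1 := by
      intro x
      induction x using TensorProduct.induction_on with
      | zero => simp
      | tmul c d =>
        have h1 : ∀ k : B × B, (∑ σ : G, σ • k.2 * phi A σ (c ⊗ₜ[A] d)) =
            tr A G (k.2 * d) • c := by
          intro k
          rw [Algebra.smul_def, algebraMap_tr, Finset.sum_mul]
          refine Finset.sum_congr rfl fun σ _ => ?_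
          rw [phi_tmul, smul_mul']
          ring
        simp_rw [h1, TensorProduct.smul_tmul, ← TensorProduct.tmul_sum]
        congr 1
        have := key_identity (A := A) hs d
        simp_rw [Algebra.smul_def]
        exact this.symm
      | add x y hx hy =>
        conv_lhs => rw [hx, hy]
        rw [← Finset.sum_add_distrib]
        refine Finset.sum_congr rfl fun k _ => ?_
        rw [← TensorProduct.add_tmul, ← Finset.sum_add_distrib]
        congr 1
        refine Finset.sum_congr rfl fun σ _ => ?_
        rw [map_add, mul_add]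
    rw [injective_iff_map_eq_zero]
    intro x hx
    rw [hrec x]
    have : ∀ σ : G, phi A σ x = 0 := fun σ => congrFun hx σ
    simp [this]
  · intro g
    refine ⟨∑ τ : G, ∑ k ∈ s, (g τ * k.1) ⊗ₜ[A] (τ⁻¹ • k.2), ?_⟩
    funext σ
    rw [Phi_apply, map_sum]
    simp_rw [map_sum, phi_tmul, ← mul_smul, mul_assoc, ← Finset.mul_sum, hs]
    simp [mul_inv_eq_one]

/-- **The extension over the invariants of a free finite group action is étale.** -/
theorem etale (hfree : IsFree B G) : Algebra.Etale A B := by
  obtain ⟨hproj, hfin⟩ := projective_finite (A := A) hfree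
  haveI : Algebra.IsIntegral A B := Algebra.IsInvariant.isIntegral A B G
  haveI : Module.Flat A B := inferInstance
  haveI : Module.FaithfullyFlat A B :=
    Module.FaithfullyFlat.of_comap_surjective (Algebra.IsIntegral.comap_surjective A B)
  let e : (B ⊗[A] B) ≃ₐ[B] (G → B) := AlgEquiv.ofBijective (Phi A G) (Phi_bijective hfree)
  haveI : Algebra.Etale B (B ⊗[A] B) := Algebra.Etale.of_equiv e.symm
  exact Algebra.Etale.of_etale_tensorProduct_of_faithfullyFlat B

end Main

end Groth.Agent.Helper15.GaloisFree
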