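import Mathlib
import Groth.Agent.Lib.Helper15.GaloisFree

/-!
# Free finite group actions, localised at an invariant element
-/

set_option autoImplicit false
universe u v
open TensorProduct

namespace Groth.Agent.Helper15.GaloisFree

section LocAction

variable {B : Type u} [CommRing B] {G : Type v} [Group G] [MulSemiringAction G B]

variable (G) in
theorem powers_le_comap (b : B) (hb : ∀ σ : G, σ • b = b) (σ : G) :
    Submonoid.powers b ≤ (Submonoid.powers b).comap (MulSemiringAction.toRingHom G B σ) := by
  rintro _ ⟨n, rfl⟩
  refine ⟨n, ?_⟩
  simp [hb σ]

/-- The action on the localisation at an invariant element, as a monoid homomorphism. -/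
noncomputable def locHom (b : B) (hb : ∀ σ : G, σ • b = b) :
    G →* (Localization.Away b →+* Localization.Away b) where
  toFun σ := IsLocalization.map (Localization.Away b) (MulSemiringAction.toRingHom G B σ)
    (powers_le_comap G b hb σ)
  map_one' := by
    apply IsLocalization.ringHom_ext (Submonoid.powers b)
    ext x
    simp [IsLocalization.map_eq]
  map_mul' σ τ := by
    apply IsLocalization.ringHom_ext (Submonoid.powers b)
    ext x
    simp [IsLocalization.map_eq, mul_smul]

/-- The action on the localisation at an invariant element. -/
noncomputable def locAction (b : B) (hb : ∀ σ : G, σ • b = b) :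
    MulSemiringAction G (Localization.Away b) :=
  MulSemiringAction.compHom _ (locHom b hb)

theorem locAction_smul_algebraMap (b : B) (hb : ∀ σ : G, σ • b = b) (σ : G) (x : B) :
    letI := locAction b hb
    σ • (algebraMap B (Localization.Away b) x) = algebraMap B (Localization.Away b) (σ • x) := by
  letI := locAction b hb
  change locHom b hb σ (algebraMap B (Localization.Away b) x) = _
  simp [locHom, IsLocalization.map_eq]

end LocAction

section Loc

variable {A B : Type u} [CommRing A] [CommRing B] [Algebra A B]
  {G : Type v} [Group G] [Fintype G] [MulSemiringAction G B] [SMulCommClass G A B]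

theorem smul_algebraMap' (σ : G) (a : A) : σ • algebraMap A B a = algebraMap A B a := by
  rw [Algebra.algebraMap_eq_smul_one, smul_comm, smul_one]

theorem awayMap_injective (h : A) (hinj : Function.Injective (algebraMap A B)) :
    Function.Injective (Localization.awayMap (algebraMap A B) h) := by
  rw [Localization.awayMap_injective_iff]
  intro a ha
  refine ⟨0, ?_⟩
  rw [pow_zero, one_mul]
  exact hinj (by rw [ha, map_zero])

/-- The localised action is free if the invariant element lies in the radical of all the ideals
`I_σ`. -/
theorem isFree_loc (b : B) (hb : ∀ σ : G, σ • b = b)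
    (hrad : ∀ σ : G, σ ≠ 1 → ∃ n : ℕ, b ^ n ∈ Ideal.span (Set.range fun x : B => σ • x - x)) :
    letI := locAction b hb
    IsFree (Localization.Away b) G := by
  letI := locAction b hb
  intro σ hσ
  obtain ⟨n, hn⟩ := hrad σ hσ
  have hle : Ideal.map (algebraMap B (Localization.Away b))
      (Ideal.span (Set.range fun x : B => σ • x - x)) ≤
      Ideal.span (Set.range fun y : Localization.Away b => σ • y - y) := by
    rw [Ideal.map_span, Ideal.span_le]
    rintro _ ⟨_, ⟨x, rfl⟩, rfl⟩
    apply Ideal.subset_span
    refine ⟨algebraMap B _ x, ?_⟩
    simp only [map_sub]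
    rw [locAction_smul_algebraMap]
  have h1 : algebraMap B (Localization.Away b) (b ^ n) ∈
      Ideal.span (Set.range fun y : Localization.Away b => σ • y - y) :=
    hle (Ideal.mem_map_of_mem _ hn)
  apply Ideal.eq_top_of_isUnit_mem _ h1
  rw [map_pow]
  exact (IsLocalization.Away.algebraMap_isUnit b).pow n

variable [Algebra.IsInvariant A B G]

theorem awayMap_algebraMap (h : A) (a : A) :
    Localization.awayMap (algebraMap A B) h (algebraMap A (Localization.Away h) a) =
      algebraMap B (Localization.Away (algebraMap A B h)) (algebraMap A B a) := by
  simp [Localization.awayMap, IsLocalization.Away.map, IsLocalization.map_eq]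

theorem isInvariant_loc (h : A) :
    letI := locAction (G := G) (algebraMap A B h) (fun σ => smul_algebraMap' σ h)
    letI := (Localization.awayMap (algebraMap A B) h).toAlgebra
    Algebra.IsInvariant (Localization.Away h) (Localization.Away (algebraMap A B h)) G := by
  letI := locAction (G := G) (algebraMap A B h) (fun σ => smul_algebraMap' σ h)
  letI := (Localization.awayMap (algebraMap A B) h).toAlgebra
  constructor
  intro x hx
  obtain ⟨n, b, hb⟩ := IsLocalization.Away.surj (algebraMap A B h) x
  have h1 : ∀ σ : G, ∃ m : ℕ, (algebraMap A B h) ^ m * (σ • b) = (algebraMap A B h) ^ m * b := by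
    intro σ
    apply IsLocalization.Away.exists_of_eq (S := Localization.Away (algebraMap A B h))
    rw [← locAction_smul_algebraMap (G := G) (algebraMap A B h) (fun σ => smul_algebraMap' σ h),
      ← hb, smul_mul', hx σ, smul_pow', locAction_smul_algebraMap, smul_algebraMap']
  choose m hm using h1
  let M := ∑ σ : G, m σ
  have h2 : ∀ σ : G, σ • ((algebraMap A B h) ^ M * b) = (algebraMap A B h) ^ M * b := by
    intro σ
    rw [smul_mul', smul_pow', smul_algebraMap']
    have hle : m σ ≤ M := Finset.single_le_sum (f := m) (fun _ _ => Nat.zero_le _) (Finset.mem_univ σ)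
    obtain ⟨k, hk⟩ := Nat.exists_eq_add_of_le hle
    rw [hk, pow_add, mul_comm (algebraMap A B h ^ m σ), mul_assoc, mul_assoc, hm σ]
  obtain ⟨a, ha⟩ := Algebra.IsInvariant.isInvariant (A := A) (G := G) _ h2
  refine ⟨IsLocalization.mk' (Localization.Away h) a
    (⟨h ^ (n + M), n + M, rfl⟩ : Submonoid.powers h), ?_⟩
  change Localization.awayMap (algebraMap A B) h _ = x
  have hu : IsUnit (algebraMap B (Localization.Away (algebraMap A B h)) (algebraMap A B h)) :=
    IsLocalization.Away.algebraMap_isUnit _
  apply (hu.pow (n + M)).mul_left_injective
  dsimp only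
  rw [← awayMap_algebraMap, ← map_pow, ← map_mul, ← map_pow, IsLocalization.mk'_spec,
    awayMap_algebraMap, ha, pow_add, awayMap_algebraMap]
  simp only [map_mul, map_pow]
  rw [← hb]
  ring

theorem smul_awayMap (h : A) (σ : G) (a : Localization.Away h) :
    letI := locAction (G := G) (algebraMap A B h) (fun σ => smul_algebraMap' σ h)
    σ • Localization.awayMap (algebraMap A B) h a = Localization.awayMap (algebraMap A B) h a := by
  letI := locAction (G := G) (algebraMap A B h) (fun σ => smul_algebraMap' σ h)
  have : (locHom (G := G) (algebraMap A B h) (fun σ => smul_algebraMap' σ h) σ).comp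
      (Localization.awayMap (algebraMap A B) h) = Localization.awayMap (algebraMap A B) h := by
    apply IsLocalization.ringHom_ext (Submonoid.powers h)
    ext a
    simp only [RingHom.comp_apply]
    rw [awayMap_algebraMap]
    change σ • (algebraMap B (Localization.Away (algebraMap A B h)) (algebraMap A B a)) = _
    rw [locAction_smul_algebraMap, smul_algebraMap']
  exact congrArg (fun f => f a) this

theorem smulCommClass_loc (h : A) :
    letI := locAction (G := G) (algebraMap A B h) (fun σ => smul_algebraMap' σ h)
    letI := (Localization.awayMap (algebraMap A B) h).toAlgebra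
    SMulCommClass G (Localization.Away h) (Localization.Away (algebraMap A B h)) := by
  letI := locAction (G := G) (algebraMap A B h) (fun σ => smul_algebraMap' σ h)
  letI := (Localization.awayMap (algebraMap A B) h).toAlgebra
  constructor
  intro σ a x
  rw [Algebra.smul_def, Algebra.smul_def, smul_mul']
  congr 1
  exact smul_awayMap h σ a

variable [FaithfulSMul A B]

/-- Over the locus where the action is free, the extension over the invariants is étale. -/
theorem etale_awayMap (h : A)
    (hrad : ∀ σ : G, σ ≠ 1 → ∃ n : ℕ,
      (algebraMap A B h) ^ n ∈ Ideal.span (Set.range fun x : B => σ • x - x)) :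
    (Localization.awayMap (algebraMap A B) h).Etale := by
  classical
  letI := locAction (G := G) (algebraMap A B h) (fun σ => smul_algebraMap' σ h)
  letI := (Localization.awayMap (algebraMap A B) h).toAlgebra
  haveI := smulCommClass_loc (B := B) (G := G) h
  haveI := isInvariant_loc (B := B) (G := G) h
  haveI : FaithfulSMul (Localization.Away h) (Localization.Away (algebraMap A B h)) :=
    (faithfulSMul_iff_algebraMap_injective _ _).2
      (awayMap_injective h (FaithfulSMul.algebraMap_injective A B))
  exact etale (A := Localization.Away h) (G := G)
    (isFree_loc (G := G) _ (fun σ => smul_algebraMap' σ h) hrad)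

/-- Two ring homomorphisms out of `B` which agree on the invariants differ, locally on the target
and over the free locus, by an element of the group. -/
theorem exists_partition (h : A)
    (hrad : ∀ σ : G, σ ≠ 1 → ∃ n : ℕ,
      (algebraMap A B h) ^ n ∈ Ideal.span (Set.range fun x : B => σ • x - x))
    {R : Type u} [CommRing R] (α β : B →+* R)
    (hαβ : α.comp (algebraMap A B) = β.comp (algebraMap A B))
    (hu : IsUnit (α (algebraMap A B h))) :
    ∃ ε : G → R, ∑ σ : G, ε σ = 1 ∧ ∀ (σ : G) (x : B), ε σ * β x = ε σ * α (σ • x) := by
  classical
  letI := locAction (G := G) (algebraMap A B h) (fun σ => smul_algebraMap' σ h)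
  letI := (Localization.awayMap (algebraMap A B) h).toAlgebra
  haveI := smulCommClass_loc (B := B) (G := G) h
  haveI := isInvariant_loc (B := B) (G := G) h
  haveI : FaithfulSMul (Localization.Away h) (Localization.Away (algebraMap A B h)) :=
    (faithfulSMul_iff_algebraMap_injective _ _).2
      (awayMap_injective h (FaithfulSMul.algebraMap_injective A B))
  have hfree : IsFree (Localization.Away (algebraMap A B h)) G :=
    isFree_loc (G := G) _ (fun σ => smul_algebraMap' σ h) hrad
  have hbij := Phi_bijective (A := Localization.Away h) (G := G) hfree
  have hu' : IsUnit (β (algebraMap A B h)) := by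
    have := congrArg (fun f => f h) hαβ
    simp only [RingHom.comp_apply] at this
    rw [← this]
    exact hu
  let α' : Localization.Away (algebraMap A B h) →+* R := IsLocalization.Away.lift _ hu
  let β' : Localization.Away (algebraMap A B h) →+* R := IsLocalization.Away.lift _ hu'
  have hα' : ∀ x, α' (algebraMap B _ x) = α x := fun x => IsLocalization.Away.lift_eq _ hu x
  have hβ' : ∀ x, β' (algebraMap B _ x) = β x := fun x => IsLocalization.Away.lift_eq _ hu' x
  have hαβ' : α'.comp (Localization.awayMap (algebraMap A B) h) =
      β'.comp (Localization.awayMap (algebraMap A B) h) := by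
    apply IsLocalization.ringHom_ext (Submonoid.powers h)
    ext a
    simp only [RingHom.comp_apply]
    rw [awayMap_algebraMap, hα', hβ']
    exact congrArg (fun f => f a) hαβ
  letI : Algebra (Localization.Away h) R :=
    (α'.comp (Localization.awayMap (algebraMap A B) h)).toAlgebra
  let αA : Localization.Away (algebraMap A B h) →ₐ[Localization.Away h] R :=
    { α' with commutes' := fun _ => rfl }
  let βA : Localization.Away (algebraMap A B h) →ₐ[Localization.Away h] R :=
    { β' with commutes' := fun a => (congrArg (fun f => f a) hαβ').symm }
  let m := Algebra.TensorProduct.lift αA βA (fun _ _ => Commute.all _ _)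
  let e : G → (Localization.Away (algebraMap A B h)) ⊗[Localization.Away h]
      (Localization.Away (algebraMap A B h)) :=
    fun σ => (Equiv.ofBijective _ hbij).symm (Pi.single σ 1)
  have he : ∀ σ, Phi (Localization.Away h) G (e σ) = Pi.single σ 1 := fun σ =>
    (Equiv.ofBijective _ hbij).apply_symm_apply _
  refine ⟨fun σ => m (e σ), ?_, ?_⟩
  · rw [← map_sum, ← map_one m]
    congr 1
    apply hbij.1
    rw [map_sum, map_one]
    simp_rw [he]
    exact Finset.univ_sum_single 1
  · intro σ x
    have h1 : e σ * ((1 : Localization.Away (algebraMap A B h)) ⊗ₜ algebraMap B _ x) =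
        e σ * ((algebraMap B _ (σ • x)) ⊗ₜ (1 : Localization.Away (algebraMap A B h))) := by
      apply hbij.1
      rw [map_mul, map_mul, he]
      funext τ
      simp only [Pi.mul_apply, Phi_apply, phi_tmul]
      by_cases hτ : τ = σ
      · subst hτ
        rw [one_mul, smul_one, mul_one, locAction_smul_algebraMap]
      · rw [Pi.single_apply, if_neg hτ, zero_mul, zero_mul]
    have h2 := congrArg m h1
    rw [map_mul, map_mul, Algebra.TensorProduct.lift_tmul, Algebra.TensorProduct.lift_tmul] at h2
    simp only [map_one, one_mul, mul_one] at h2
    change m (e σ) * β' _ = m (e σ) * α' _ at h2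
    rw [hβ', hα'] at h2
    exact h2

end Loc

end Groth.Agent.Helper15.GaloisFree
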