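import Mathlib
import Groth.Agent.Lib.Helper15.GaloisLoc

/-!
# Quotient of a quasi-affine scheme by a free action of a finite group (absolute version)
-/

set_option autoImplicit false
universe u
open CategoryTheory CategoryTheory.Limits AlgebraicGeometry TopologicalSpace

namespace Groth.Agent.Helper15.QuotFree

open Groth.Agent.Helper15.GaloisFree

variable {W : Scheme.{u}} {G : Type} [Group G]

section Action

variable (ρ : G → (W ⟶ W)) (h1 : ρ 1 = 𝟙 W) (hmul : ∀ σ τ : G, ρ (σ * τ) = ρ τ ≫ ρ σ)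

/-- The action on global sections, as a monoid homomorphism. -/
noncomputable def gammaHom : G →* (Γ(W, ⊤) →+* Γ(W, ⊤)) where
  toFun σ := (ρ σ⁻¹).appTop.hom
  map_one' := by
    rw [inv_one, h1, Scheme.Hom.id_appTop]
    rfl
  map_mul' σ τ := by
    rw [mul_inv_rev, hmul, Scheme.Hom.comp_appTop, CommRingCat.hom_comp]
    rfl

/-- The action on global sections. -/
noncomputable def gammaAction : MulSemiringAction G Γ(W, ⊤) :=
  MulSemiringAction.compHom _ (gammaHom ρ h1 hmul)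

theorem gamma_smul (σ : G) (f : Γ(W, ⊤)) :
    letI := gammaAction ρ h1 hmul
    σ • f = (ρ σ⁻¹).appTop.hom f := rfl

/-- `φ : A → Γ(W, 𝒪_W)` identifies `A` with the ring of invariants. -/
structure IsInv (A : Type u) [CommRing A] (φ : A →+* Γ(W, ⊤)) : Prop where
  inv : ∀ (σ : G) (a : A), (ρ σ).appTop.hom (φ a) = φ a
  surj : ∀ f : Γ(W, ⊤), (∀ σ : G, (ρ σ).appTop.hom f = f) → ∃ a, φ a = f
  inj : Function.Injective φ

variable {ρ} {A : Type u} [CommRing A] {φ : A →+* Γ(W, ⊤)}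

theorem smulCommClass_of_isInv (hφ : IsInv ρ A φ) :
    letI := gammaAction ρ h1 hmul
    letI := φ.toAlgebra
    SMulCommClass G A Γ(W, ⊤) := by
  letI := gammaAction ρ h1 hmul
  letI := φ.toAlgebra
  constructor
  intro σ a x
  rw [Algebra.smul_def, Algebra.smul_def, smul_mul']
  congr 1
  exact hφ.inv σ⁻¹ a

theorem isInvariant_of_isInv (hφ : IsInv ρ A φ) :
    letI := gammaAction ρ h1 hmul
    letI := φ.toAlgebra
    Algebra.IsInvariant A Γ(W, ⊤) G := by
  letI := gammaAction ρ h1 hmul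
  letI := φ.toAlgebra
  constructor
  intro b hb
  refine hφ.surj b (fun σ => ?_)
  have := hb σ⁻¹
  rwa [gamma_smul, inv_inv] at this

theorem faithfulSMul_of_isInv (hφ : IsInv ρ A φ) :
    letI := φ.toAlgebra
    FaithfulSMul A Γ(W, ⊤) := by
  letI := φ.toAlgebra
  exact (faithfulSMul_iff_algebraMap_injective _ _).2 hφ.inj

/-- Geometric freeness of the action implies that over a basic open inside `W`, the ideals `I_σ`
are the unit ideal. -/
theorem exists_pow_mem_of_free [IsOpenImmersion W.toSpecΓ]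
    (hfree : ∀ σ : G, σ ≠ 1 → ∀ (T : Scheme.{u}) (a : T ⟶ W), a ≫ ρ σ = a → IsEmpty T)
    (f : Γ(W, ⊤)) (hf : (PrimeSpectrum.basicOpen f : Set (PrimeSpectrum Γ(W, ⊤))) ⊆
      Set.range W.toSpecΓ) (σ : G) (hσ : σ ≠ 1) :
    letI := gammaAction ρ h1 hmul
    ∃ n : ℕ, f ^ n ∈ Ideal.span (Set.range fun x : Γ(W, ⊤) => σ • x - x) := by
  letI := gammaAction ρ h1 hmul
  set I : Ideal Γ(W, ⊤) := Ideal.span (Set.range fun x : Γ(W, ⊤) => σ • x - x) with hI
  let J : Ideal (Localization.Away f) := Ideal.map (algebraMap Γ(W, ⊤) (Localization.Away f)) I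
  let ψ : Γ(W, ⊤) →+* (Localization.Away f ⧸ J) :=
    (Ideal.Quotient.mk J).comp (algebraMap Γ(W, ⊤) (Localization.Away f))
  let T : Scheme.{u} := Spec (CommRingCat.of (Localization.Away f ⧸ J))
  let g : T ⟶ Spec Γ(W, ⊤) := Spec.map (CommRingCat.ofHom ψ)
  have hg : g = Spec.map (CommRingCat.ofHom (Ideal.Quotient.mk J)) ≫
      Spec.map (CommRingCat.ofHom (algebraMap Γ(W, ⊤) (Localization.Away f))) := by
    rw [← Spec.map_comp]
    rfl
  have hrange : Set.range g ⊆ Set.range W.toSpecΓ := by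
    refine subset_trans ?_ hf
    rintro _ ⟨t, rfl⟩
    rw [hg, Scheme.Hom.comp_apply]
    have := Scheme.Hom.opensRange_localizationAway (R := Γ(W, ⊤)) f
    rw [← this]
    exact ⟨_, rfl⟩
  let a : T ⟶ W := IsOpenImmersion.lift W.toSpecΓ g hrange
  have ha : a ≫ W.toSpecΓ = g := IsOpenImmersion.lift_fac _ _ _
  have hψ : ∀ x : Γ(W, ⊤), ψ (σ • x) = ψ x := by
    intro x
    have : ψ (σ • x - x) = 0 := by
      change Ideal.Quotient.mk J (algebraMap _ _ (σ • x - x)) = 0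
      rw [Ideal.Quotient.eq_zero_iff_mem]
      exact Ideal.mem_map_of_mem _ (Ideal.subset_span ⟨x, rfl⟩)
    rw [map_sub, sub_eq_zero] at this
    exact this
  have hfix : a ≫ ρ σ⁻¹ = a := by
    rw [← cancel_mono W.toSpecΓ, Category.assoc, Scheme.toSpecΓ_naturality, ← Category.assoc, ha,
      ← Spec.map_comp]
    congr 1
    ext x
    exact hψ x
  have hempty := hfree σ⁻¹ (by simpa using hσ) T a hfix
  have hsub : Subsingleton (Localization.Away f ⧸ J) := by
    by_contra hne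
    rw [not_subsingleton_iff_nontrivial] at hne
    obtain ⟨x⟩ := (inferInstance : Nonempty (PrimeSpectrum (Localization.Away f ⧸ J)))
    exact hempty.false x
  have hJ : J = ⊤ := by
    rwa [Ideal.Quotient.subsingleton_iff] at hsub
  by_contra hcon
  push_neg at hcon
  have hdisj : Disjoint (Submonoid.powers f : Set Γ(W, ⊤)) (I : Set Γ(W, ⊤)) := by
    rw [Set.disjoint_left]
    rintro _ ⟨n, rfl⟩ hn
    exact hcon n hn
  exact (IsLocalization.map_algebraMap_ne_top_iff_disjoint (Submonoid.powers f)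
    (Localization.Away f) I).2 hdisj hJ

include h1 hmul in
theorem isIntegral_of_isInv [Finite G] (hφ : IsInv ρ A φ) : φ.IsIntegral := by
  letI := gammaAction ρ h1 hmul
  letI := φ.toAlgebra
  haveI := smulCommClass_of_isInv h1 hmul hφ
  haveI := isInvariant_of_isInv h1 hmul hφ
  have := Algebra.IsInvariant.isIntegral A Γ(W, ⊤) G
  rwa [Algebra.isIntegral_def] at this

include h1 hmul in
/-- Two primes of `Γ(W, 𝒪_W)` over the same prime of the invariants are conjugate. -/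
theorem exists_eq_of_comap_eq [Finite G] (hφ : IsInv ρ A φ) (q q' : PrimeSpectrum Γ(W, ⊤))
    (hqq : PrimeSpectrum.comap φ q = PrimeSpectrum.comap φ q') :
    ∃ σ : G, q' = PrimeSpectrum.comap (ρ σ).appTop.hom q := by
  letI := gammaAction ρ h1 hmul
  letI := φ.toAlgebra
  haveI := smulCommClass_of_isInv h1 hmul hφ
  haveI := isInvariant_of_isInv h1 hmul hφ
  haveI := q.isPrime
  haveI := q'.isPrime
  obtain ⟨σ, hσ⟩ := Algebra.IsInvariant.exists_smul_of_under_eq A Γ(W, ⊤) G q.asIdeal q'.asIdeal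
    (by
      have := congrArg PrimeSpectrum.asIdeal hqq
      exact this)
  refine ⟨σ, ?_⟩
  ext x
  rw [hσ, Ideal.pointwise_smul_eq_comap]
  change σ⁻¹ • x ∈ q.asIdeal ↔ (ρ σ).appTop.hom x ∈ q.asIdeal
  rw [gamma_smul, inv_inv]

variable [IsOpenImmersion W.toSpecΓ] [Finite G]

include h1 hmul in
/-- The image of `W` in the spectrum of the invariants is open, with preimage `W`. -/
theorem exists_opens_image (hφ : IsInv ρ A φ) :
    ∃ V : (Spec (CommRingCat.of A)).Opens,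
      (∀ w : W, (Spec.map (CommRingCat.ofHom φ)) (W.toSpecΓ w) ∈ V) ∧
      (∀ v ∈ V, ∃ w : W, Spec.map (CommRingCat.ofHom φ) (W.toSpecΓ w) = v) ∧
      Spec.map (CommRingCat.ofHom φ) ⁻¹ᵁ V = W.toSpecΓ.opensRange := by
  set Φ := Spec.map (CommRingCat.ofHom φ) with hΦ
  have hint := isIntegral_of_isInv h1 hmul hφ
  have hclosed : IsClosedMap Φ := PrimeSpectrum.isClosedMap_comap_of_isIntegral φ hint
  have hsurj : Function.Surjective Φ := hint.comap_surjective hφ.inj
  have hstable : ∀ (σ : G) (q : Spec Γ(W, ⊤)), q ∈ Set.range W.toSpecΓ →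
      Spec.map (ρ σ).appTop q ∈ Set.range W.toSpecΓ := by
    rintro σ _ ⟨w, rfl⟩
    refine ⟨ρ σ w, ?_⟩
    rw [← Scheme.Hom.comp_apply, ← Scheme.Hom.comp_apply, Scheme.toSpecΓ_naturality]
  have hsat : ∀ q q' : Spec Γ(W, ⊤), Φ q = Φ q' → q ∈ Set.range W.toSpecΓ →
      q' ∈ Set.range W.toSpecΓ := by
    intro q q' hqq hq
    obtain ⟨σ, rfl⟩ := exists_eq_of_comap_eq h1 hmul hφ q q' hqq
    exact hstable σ q hq
  have hcompl : (Φ '' Set.range W.toSpecΓ)ᶜ = Φ '' (Set.range W.toSpecΓ)ᶜ := by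
    ext y
    constructor
    · intro hy
      obtain ⟨q, rfl⟩ := hsurj y
      exact ⟨q, fun hq => hy ⟨q, hq, rfl⟩, rfl⟩
    · rintro ⟨q', hq', rfl⟩ ⟨q, hq, hqq⟩
      exact hq' (hsat q q' hqq hq)
  have hopen : IsOpen (Φ '' Set.range W.toSpecΓ) := by
    rw [← isClosed_compl_iff, hcompl]
    exact hclosed _ W.toSpecΓ.isOpenEmbedding.isOpen_range.isClosed_compl
  refine ⟨⟨_, hopen⟩, fun w => ⟨_, ⟨w, rfl⟩, rfl⟩, ?_, ?_⟩
  · rintro v ⟨_, ⟨w, rfl⟩, rfl⟩
    exact ⟨w, rfl⟩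
  · ext q
    constructor
    · rintro ⟨q₀, hq₀, hqq⟩
      exact hsat q₀ q hqq hq₀
    · intro hq
      exact ⟨q, hq, rfl⟩

omit [Finite G] in
include h1 hmul in
/-- Over a basic open of the invariants whose preimage lies in `W`, the ring map is étale. -/
theorem etale_awayMap_of_isInv [Fintype G] (hφ : IsInv ρ A φ)
    (hfree : ∀ σ : G, σ ≠ 1 → ∀ (T : Scheme.{u}) (a : T ⟶ W), a ≫ ρ σ = a → IsEmpty T)
    (h : A) (hgood : (PrimeSpectrum.basicOpen (φ h) : Set (PrimeSpectrum Γ(W, ⊤))) ⊆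
      Set.range W.toSpecΓ) :
    (Localization.awayMap φ h).Etale := by
  letI := gammaAction ρ h1 hmul
  letI := φ.toAlgebra
  haveI := smulCommClass_of_isInv h1 hmul hφ
  haveI := isInvariant_of_isInv h1 hmul hφ
  haveI := faithfulSMul_of_isInv hφ
  exact etale_awayMap (A := A) (B := Γ(W, ⊤)) (G := G) h
    (fun σ hσ => exists_pow_mem_of_free h1 hmul hfree (φ h) hgood σ hσ)

omit [Finite G] in
include h1 hmul in
theorem exists_partition_of_isInv [Fintype G] (hφ : IsInv ρ A φ)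
    (hfree : ∀ σ : G, σ ≠ 1 → ∀ (T : Scheme.{u}) (a : T ⟶ W), a ≫ ρ σ = a → IsEmpty T)
    (h : A) (hgood : (PrimeSpectrum.basicOpen (φ h) : Set (PrimeSpectrum Γ(W, ⊤))) ⊆
      Set.range W.toSpecΓ) {R : Type u} [CommRing R] (α β : Γ(W, ⊤) →+* R)
    (hαβ : α.comp φ = β.comp φ) (hu : IsUnit (α (φ h))) :
    ∃ ε : G → R, ∑ σ : G, ε σ = 1 ∧
      ∀ (σ : G) (x : Γ(W, ⊤)), ε σ * β x = ε σ * α ((ρ σ⁻¹).appTop.hom x) := by
  letI := gammaAction ρ h1 hmul
  letI := φ.toAlgebra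
  haveI := smulCommClass_of_isInv h1 hmul hφ
  haveI := isInvariant_of_isInv h1 hmul hφ
  haveI := faithfulSMul_of_isInv hφ
  exact exists_partition (A := A) (B := Γ(W, ⊤)) (G := G) h
    (fun σ hσ => exists_pow_mem_of_free h1 hmul hfree (φ h) hgood σ hσ) α β hαβ hu

end Action

end Groth.Agent.Helper15.QuotFree
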