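import Mathlib
import Groth.Agent.Lib.Helper15.QuotFree1

/-!
# Quotient of a quasi-affine scheme by a free action of a finite group: étaleness
-/

set_option autoImplicit false
universe u
open CategoryTheory CategoryTheory.Limits AlgebraicGeometry TopologicalSpace

namespace Groth.Agent.Helper15.QuotFree

open Groth.Agent.Helper15.GaloisFree

variable {W : Scheme.{u}} {G : Type} [Group G] [Fintype G] {ρ : G → (W ⟶ W)}
  (h1 : ρ 1 = 𝟙 W) (hmul : ∀ σ τ : G, ρ (σ * τ) = ρ τ ≫ ρ σ)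
  {A : Type u} [CommRing A] {φ : A →+* Γ(W, ⊤)} [IsOpenImmersion W.toSpecΓ]

omit [Group G] [Fintype G] in
/-- The affine chart of `W` attached to a basic open of `Spec Γ(W, 𝒪_W)` contained in `W`. -/
theorem exists_chart (f : Γ(W, ⊤))
    (hf : (PrimeSpectrum.basicOpen f : Set (PrimeSpectrum Γ(W, ⊤))) ⊆ Set.range W.toSpecΓ) :
    ∃ c : Spec (CommRingCat.of (Localization.Away f)) ⟶ W, IsOpenImmersion c ∧
      c ≫ W.toSpecΓ =
        Spec.map (CommRingCat.ofHom (algebraMap Γ(W, ⊤) (Localization.Away f))) ∧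
      ∀ w : W, W.toSpecΓ w ∈ PrimeSpectrum.basicOpen f → w ∈ Set.range c := by
  set g := Spec.map (CommRingCat.ofHom (algebraMap Γ(W, ⊤) (Localization.Away f))) with hg
  haveI : IsOpenImmersion g := IsOpenImmersion.of_isLocalization f
  have hr : Set.range g = (PrimeSpectrum.basicOpen f : Set (PrimeSpectrum Γ(W, ⊤))) := by
    have := Scheme.Hom.opensRange_localizationAway (R := Γ(W, ⊤)) f
    exact congrArg (fun U : (Spec Γ(W, ⊤)).Opens => (U : Set (Spec Γ(W, ⊤)))) this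
  have hrange : Set.range g ⊆ Set.range W.toSpecΓ := hr ▸ hf
  refine ⟨IsOpenImmersion.lift W.toSpecΓ g hrange, ?_, IsOpenImmersion.lift_fac _ _ _, ?_⟩
  · haveI : IsOpenImmersion (IsOpenImmersion.lift W.toSpecΓ g hrange ≫ W.toSpecΓ) := by
      rw [IsOpenImmersion.lift_fac]; infer_instance
    exact IsOpenImmersion.of_comp _ W.toSpecΓ
  · intro w hw
    have hw' : W.toSpecΓ w ∈ Set.range g := by rw [hr]; exact hw
    obtain ⟨y, hy⟩ := hw'
    refine ⟨y, ?_⟩
    apply W.toSpecΓ.isOpenEmbedding.injective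
    rw [← Scheme.Hom.comp_apply, IsOpenImmersion.lift_fac]
    exact hy

omit [Group G] [Fintype G] in
theorem comap_basicOpen_subset (h : A) (V : (Spec (CommRingCat.of A)).Opens)
    (hV : Spec.map (CommRingCat.ofHom φ) ⁻¹ᵁ V = W.toSpecΓ.opensRange)
    (hh : (PrimeSpectrum.basicOpen h : (Spec (CommRingCat.of A)).Opens) ≤ V) :
    (PrimeSpectrum.basicOpen (φ h) : Set (PrimeSpectrum Γ(W, ⊤))) ⊆ Set.range W.toSpecΓ := by
  intro q hq
  have h1 : Spec.map (CommRingCat.ofHom φ) q ∈ V := by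
    apply hh
    exact hq
  have h2 : q ∈ Spec.map (CommRingCat.ofHom φ) ⁻¹ᵁ V := h1
  rw [hV] at h2
  exact h2

include h1 hmul in
/-- The morphism from `W` to the spectrum of the invariants is étale. -/
theorem etale_toSpec (hφ : IsInv ρ A φ)
    (hfree : ∀ σ : G, σ ≠ 1 → ∀ (T : Scheme.{u}) (a : T ⟶ W), a ≫ ρ σ = a → IsEmpty T) :
    Etale (W.toSpecΓ ≫ Spec.map (CommRingCat.ofHom φ)) := by
  obtain ⟨V, hV1, hV2, hV3⟩ := exists_opens_image h1 hmul hφ
  have hgood : ∀ w : W, ∃ h : A, Spec.map (CommRingCat.ofHom φ) (W.toSpecΓ w) ∈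
      (PrimeSpectrum.basicOpen h : (Spec (CommRingCat.of A)).Opens) ∧
      (PrimeSpectrum.basicOpen h : (Spec (CommRingCat.of A)).Opens) ≤ V := by
    intro w
    obtain ⟨_, ⟨_, ⟨h, rfl⟩, rfl⟩, hw, hsub⟩ :=
      (PrimeSpectrum.isBasis_basic_opens (R := A)).exists_subset_of_mem_open (hV1 w) V.2
    exact ⟨h, hw, hsub⟩
  choose h hh1 hh2 using hgood
  have hsub : ∀ w, (PrimeSpectrum.basicOpen (φ (h w)) : Set (PrimeSpectrum Γ(W, ⊤))) ⊆
      Set.range W.toSpecΓ := fun w => comap_basicOpen_subset (h w) V hV3 (hh2 w)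
  choose c hc1 hc2 hc3 using fun w => exists_chart (φ (h w)) (hsub w)
  let 𝒰 : W.OpenCover := Scheme.Cover.mkOfCovers W (fun w => Spec (CommRingCat.of
    (Localization.Away (φ (h w))))) c (fun w => by
      obtain ⟨y, hy⟩ := hc3 w w (hh1 w)
      exact ⟨w, y, hy⟩) hc1
  apply IsZariskiLocalAtSource.of_openCover (P := @Etale) 𝒰
  intro w
  change Etale (c w ≫ W.toSpecΓ ≫ Spec.map (CommRingCat.ofHom φ))
  rw [← Category.assoc, hc2, ← Spec.map_comp]
  have hcomp : CommRingCat.ofHom φ ≫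
      CommRingCat.ofHom (algebraMap Γ(W, ⊤) (Localization.Away (φ (h w)))) =
      CommRingCat.ofHom (algebraMap A (Localization.Away (h w))) ≫
        CommRingCat.ofHom (Localization.awayMap φ (h w)) := by
    ext x
    simp [Localization.awayMap, IsLocalization.Away.map]
  rw [hcomp, Spec.map_comp]
  haveI : Etale (Spec.map (CommRingCat.ofHom (Localization.awayMap φ (h w)))) := by
    rw [HasRingHomProperty.Spec_iff (P := @Etale)]
    exact etale_awayMap_of_isInv h1 hmul hφ hfree (h w) (hsub w)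
  haveI : IsOpenImmersion (Spec.map (CommRingCat.ofHom
      (algebraMap A (Localization.Away (h w))))) := IsOpenImmersion.of_isLocalization (h w)
  infer_instance

/-- A global section whose non-vanishing locus is everything is a unit. -/
theorem isUnit_of_basicOpen_eq_top {Y : Scheme.{u}} (s : Γ(Y, ⊤)) (h : Y.basicOpen s = ⊤) :
    IsUnit s := by
  apply RingedSpace.isUnit_of_isUnit_germ Y.toRingedSpace ⊤ s
  intro x hx
  have : x ∈ Y.basicOpen s := by rw [h]; trivial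
  exact (Y.mem_basicOpen_top s x).1 this

/-- The restriction of a global section to its non-vanishing locus is a unit. -/
theorem isUnit_appTop_basicOpen (Y : Scheme.{u}) (e : Γ(Y, ⊤)) :
    IsUnit ((Y.basicOpen e).ι.appTop.hom e) := by
  apply isUnit_of_basicOpen_eq_top
  have := Scheme.preimage_basicOpen_top (Y.basicOpen e).ι e
  rw [← this]
  exact Scheme.Opens.ι_preimage_self _

/-- Morphisms to `Spec R` are determined by the induced maps on global sections. -/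
theorem eq_of_toSpecΓ_comp_SpecMap_eq {N : Scheme.{u}} {R : CommRingCat.{u}}
    (ψ₁ ψ₂ : R ⟶ Γ(N, ⊤)) (h : N.toSpecΓ ≫ Spec.map ψ₁ = N.toSpecΓ ≫ Spec.map ψ₂) :
    ψ₁ = ψ₂ := by
  have := congrArg Scheme.Hom.appTop h
  rw [Scheme.Hom.comp_appTop, Scheme.Hom.comp_appTop, Scheme.toSpecΓ_appTop,
    Scheme.ΓSpecIso_naturality, Scheme.ΓSpecIso_naturality] at this
  exact (cancel_epi _).1 this

omit [Group G] [Fintype G] in
/-- Morphisms to a scheme `W` with `W ⟶ Spec Γ(W, 𝒪_W)` a monomorphism are determined by the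
induced maps on global sections. -/
theorem eq_of_appTop_eq {N : Scheme.{u}} (b₁ b₂ : N ⟶ W) (h : b₁.appTop = b₂.appTop) :
    b₁ = b₂ := by
  rw [← cancel_mono W.toSpecΓ, Scheme.toSpecΓ_naturality, Scheme.toSpecΓ_naturality, h]

include h1 hmul in
/-- Two morphisms to `W` with the same image in the spectrum of the invariants differ, locally on
the source, by an element of the group. -/
theorem exists_local_conj (hφ : IsInv ρ A φ)
    (hfree : ∀ σ : G, σ ≠ 1 → ∀ (T : Scheme.{u}) (a : T ⟶ W), a ≫ ρ σ = a → IsEmpty T)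
    {T : Scheme.{u}} (a b : T ⟶ W)
    (hab : a ≫ W.toSpecΓ ≫ Spec.map (CommRingCat.ofHom φ) =
      b ≫ W.toSpecΓ ≫ Spec.map (CommRingCat.ofHom φ)) (t : T) :
    ∃ (σ : G) (N : Scheme.{u}) (j : N ⟶ T), IsOpenImmersion j ∧ t ∈ Set.range j ∧
      j ≫ b = j ≫ a ≫ ρ σ := by
  obtain ⟨V, hV1, hV2, hV3⟩ := exists_opens_image h1 hmul hφ
  obtain ⟨_, ⟨_, ⟨h, rfl⟩, rfl⟩, hw, hsub⟩ :=
    (PrimeSpectrum.isBasis_basic_opens (R := A)).exists_subset_of_mem_open (hV1 (a t)) V.2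
  have hgood := comap_basicOpen_subset (φ := φ) h V hV3 hsub
  -- the first neighbourhood
  set e₀ : Γ(T, ⊤) := a.appTop.hom (φ h) with he₀
  have ht₀ : t ∈ T.basicOpen e₀ := by
    have h1' : T.basicOpen e₀ = a ⁻¹ᵁ (W.toSpecΓ ⁻¹ᵁ PrimeSpectrum.basicOpen (φ h)) := by
      rw [Scheme.toSpecΓ_preimage_basicOpen, Scheme.preimage_basicOpen_top]
    rw [h1']
    exact hw
  let N₀ := T.basicOpen e₀
  let α : Γ(W, ⊤) →+* Γ(N₀, ⊤) := (N₀.ι ≫ a).appTop.hom
  let β : Γ(W, ⊤) →+* Γ(N₀, ⊤) := (N₀.ι ≫ b).appTop.hom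
  have hαβ : α.comp φ = β.comp φ := by
    have h2 : N₀.toScheme.toSpecΓ ≫ Spec.map (CommRingCat.ofHom φ ≫ (N₀.ι ≫ a).appTop) =
        N₀.toScheme.toSpecΓ ≫ Spec.map (CommRingCat.ofHom φ ≫ (N₀.ι ≫ b).appTop) := by
      rw [Spec.map_comp, Spec.map_comp, ← Category.assoc, ← Category.assoc,
        ← Scheme.toSpecΓ_naturality, ← Scheme.toSpecΓ_naturality]
      simp only [Category.assoc]
      rw [hab]
    have h3 := eq_of_toSpecΓ_comp_SpecMap_eq _ _ h2
    have h4 := congrArg CommRingCat.Hom.hom h3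
    exact h4
  have hu : IsUnit (α (φ h)) := by
    change IsUnit ((N₀.ι ≫ a).appTop.hom (φ h))
    rw [Scheme.Hom.comp_appTop]
    exact isUnit_appTop_basicOpen T e₀
  obtain ⟨ε, hε1, hε2⟩ := exists_partition_of_isInv h1 hmul hφ hfree h hgood α β hαβ hu
  -- the point `t` in `N₀`
  let t₀ : N₀.toScheme := ⟨t, ht₀⟩
  have hσ : ∃ σ : G, t₀ ∈ N₀.toScheme.basicOpen (ε σ) := by
    by_contra hcon
    push Not at hcon
    have h5 : ∀ σ : G, ε σ ∈ (N₀.toScheme.toSpecΓ t₀).asIdeal := by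
      intro σ
      by_contra h6
      apply hcon σ
      rw [← Scheme.toSpecΓ_preimage_basicOpen]
      exact h6
    have h7 : (∑ σ : G, ε σ) ∈ (N₀.toScheme.toSpecΓ t₀).asIdeal :=
      Ideal.sum_mem _ (fun σ _ => h5 σ)
    rw [hε1] at h7
    exact (N₀.toScheme.toSpecΓ t₀).isPrime.ne_top ((Ideal.eq_top_iff_one _).2 h7)
  obtain ⟨σ, hσt⟩ := hσ
  let N₁ := N₀.toScheme.basicOpen (ε σ)
  refine ⟨σ⁻¹, N₁.toScheme, N₁.ι ≫ N₀.ι, inferInstance, ?_, ?_⟩
  · refine ⟨⟨t₀, hσt⟩, ?_⟩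
    rfl
  · simp only [Category.assoc]
    apply eq_of_appTop_eq
    ext x
    have h8 := hε2 σ x
    have h9 := congrArg N₁.ι.appTop.hom h8
    rw [map_mul, map_mul] at h9
    have h10 := (isUnit_appTop_basicOpen N₀.toScheme (ε σ)).mul_right_injective h9
    have h11 : (N₁.ι ≫ N₀.ι ≫ b).appTop.hom x = N₁.ι.appTop.hom (β x) := by
      rw [Scheme.Hom.comp_appTop]
      rfl
    have h12 : (N₁.ι ≫ N₀.ι ≫ a ≫ ρ σ⁻¹).appTop.hom x =
        N₁.ι.appTop.hom (α ((ρ σ⁻¹).appTop.hom x)) := by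
      rw [Scheme.Hom.comp_appTop, ← Category.assoc N₀.ι, Scheme.Hom.comp_appTop (N₀.ι ≫ a)]
      rfl
    exact h11.trans (h10.trans h12.symm)

end Groth.Agent.Helper15.QuotFree
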