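import Mathlib
import Groth.Agent.Lib.Helper15.QuotFree2

/-!
# Quotient of a quasi-affine scheme by a free action of a finite group
-/

set_option autoImplicit false
universe u
open CategoryTheory CategoryTheory.Limits AlgebraicGeometry TopologicalSpace

namespace Groth.Agent.Helper15.QuotFree

open Groth.Agent.Helper15.GaloisFree

/-- **Quotient of a quasi-affine scheme by a free action of a finite group** (absolute version):
there is a quasi-compact separated scheme `V` and a surjective étale invariant morphism `W ⟶ V`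
whose fibres are, locally on the source, the orbits. -/
theorem exists_quotient (W : Scheme.{u}) [W.IsQuasiAffine] {G : Type} [Group G] [Fintype G]
    (ρ : G → (W ⟶ W)) (h1 : ρ 1 = 𝟙 W) (hmul : ∀ σ τ : G, ρ (σ * τ) = ρ τ ≫ ρ σ)
    (hfree : ∀ σ : G, σ ≠ 1 → ∀ (T : Scheme.{u}) (a : T ⟶ W), a ≫ ρ σ = a → IsEmpty T) :
    ∃ (V : Scheme.{u}) (π : W ⟶ V), V.IsSeparated ∧ CompactSpace V ∧ Etale π ∧ Surjective π ∧
      (∀ σ, ρ σ ≫ π = π) ∧
      ∀ (T : Scheme.{u}) (a b : T ⟶ W), a ≫ π = b ≫ π → ∀ t : T,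
        ∃ (σ : G) (N : Scheme.{u}) (j : N ⟶ T), IsOpenImmersion j ∧ t ∈ Set.range j ∧
          j ≫ b = j ≫ a ≫ ρ σ := by
  letI := gammaAction ρ h1 hmul
  let A := FixedPoints.subring Γ(W, ⊤) G
  let φ : A →+* Γ(W, ⊤) := A.subtype
  have hφ : IsInv ρ A φ := by
    refine ⟨fun σ a => ?_, fun f hf => ?_, Subtype.val_injective⟩
    · have := a.2 σ⁻¹
      rw [gamma_smul, inv_inv] at this
      exact this
    · refine ⟨⟨f, fun g => ?_⟩, rfl⟩
      change g • f = f
      rw [gamma_smul]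
      exact hf g⁻¹
  obtain ⟨V, hV1, hV2, hV3⟩ := exists_opens_image h1 hmul hφ
  have hrange : Set.range (W.toSpecΓ ≫ Spec.map (CommRingCat.ofHom φ)) ⊆ Set.range V.ι := by
    rintro _ ⟨w, rfl⟩
    rw [Scheme.Opens.range_ι]
    exact hV1 w
  let π : W ⟶ V.toScheme := IsOpenImmersion.lift V.ι (W.toSpecΓ ≫ Spec.map (CommRingCat.ofHom φ))
    hrange
  have hπ : π ≫ V.ι = W.toSpecΓ ≫ Spec.map (CommRingCat.ofHom φ) :=
    IsOpenImmersion.lift_fac _ _ _
  have hsurj : Function.Surjective π := by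
    intro v
    obtain ⟨w, hw⟩ := hV2 (V.ι v) v.2
    refine ⟨w, ?_⟩
    apply V.ι.isOpenEmbedding.injective
    rw [← Scheme.Hom.comp_apply, hπ]
    exact hw
  refine ⟨V.toScheme, π, ⟨?_⟩, ?_, ?_, ⟨hsurj⟩, ?_, ?_⟩
  · rw [← terminal.comp_from V.ι]
    have hs1 : IsSeparated V.ι := IsSeparated.isSeparated_of_mono V.ι
    have hs2 : IsSeparated (terminal.from (Spec (CommRingCat.of A))) :=
      Scheme.IsSeparated.isSeparated_terminal_from
    exact MorphismProperty.comp_mem _ _ _ hs1 hs2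
  · exact Function.Surjective.compactSpace π.continuous hsurj
  · haveI : Etale (π ≫ V.ι) := by
      rw [hπ]
      exact etale_toSpec h1 hmul hφ hfree
    exact Etale.of_comp π V.ι
  · intro σ
    rw [← cancel_mono V.ι, Category.assoc, hπ, ← Category.assoc, Scheme.toSpecΓ_naturality,
      Category.assoc, ← Spec.map_comp]
    congr 2
    ext a
    exact hφ.inv σ a
  · intro T a b hab t
    apply exists_local_conj h1 hmul hφ hfree a b _ t
    rw [← hπ, ← Category.assoc, hab, Category.assoc]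

/-- **Quotient of a quasi-affine scheme over `S` by a free action of a finite group.** -/
theorem exists_quotient_over {S : Scheme.{u}} (W : Over S) [W.left.IsQuasiAffine] {G : Type}
    [Group G] [Fintype G] (ρ : G → (W ⟶ W)) (h1 : ρ 1 = 𝟙 W)
    (hmul : ∀ σ τ : G, ρ (σ * τ) = ρ τ ≫ ρ σ)
    (hfree : ∀ σ : G, σ ≠ 1 → ∀ (T : Over S) (a : T ⟶ W), a ≫ ρ σ = a → IsEmpty T.left) :
    ∃ (V : Over S) (π : W ⟶ V), V.left.IsSeparated ∧ CompactSpace V.left ∧ Etale π.left ∧
      Surjective π.left ∧ (∀ σ, ρ σ ≫ π = π) ∧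
      ∀ (T : Over S) (a b : T ⟶ W), a ≫ π = b ≫ π → ∀ t : T.left,
        ∃ (σ : G) (N : Over S) (j : N ⟶ T), IsOpenImmersion j.left ∧ t ∈ Set.range j.left ∧
          j ≫ b = j ≫ a ≫ ρ σ := by
  obtain ⟨V, π, hVs, hVc, hπe, hπs, hπi, hπk⟩ := exists_quotient W.left (fun σ => (ρ σ).left)
    (by rw [h1]; rfl) (fun σ τ => by rw [hmul]; rfl) (by
      intro σ hσ T a ha
      exact hfree σ hσ (Over.mk (a ≫ W.hom)) (Over.homMk a rfl) (by
        ext
        exact ha))
  haveI := hπe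
  haveI := hπs
  haveI : EffectiveEpi π := inferInstance
  have hcond : ∀ {Z : Scheme.{u}} (g₁ g₂ : Z ⟶ W.left), g₁ ≫ π = g₂ ≫ π →
      g₁ ≫ W.hom = g₂ ≫ W.hom := by
    intro Z g₁ g₂ hg
    choose σ N j hj1 hj2 hj3 using hπk Z g₁ g₂ hg
    let 𝒰 : Z.OpenCover := Scheme.Cover.mkOfCovers Z N j (fun z => by
      obtain ⟨y, hy⟩ := hj2 z
      exact ⟨z, y, hy⟩) hj1
    apply Scheme.Cover.hom_ext 𝒰
    intro z
    change j z ≫ g₁ ≫ W.hom = j z ≫ g₂ ≫ W.hom
    rw [← Category.assoc (j z) g₂, hj3 z]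
    simp only [Category.assoc, Over.w]
  let v : V ⟶ S := EffectiveEpi.desc π W.hom hcond
  have hv : π ≫ v = W.hom := EffectiveEpi.fac π W.hom hcond
  refine ⟨Over.mk v, Over.homMk π hv, hVs, hVc, hπe, hπs, ?_, ?_⟩
  · intro σ
    ext
    exact hπi σ
  · intro T a b hab t
    obtain ⟨σ, N, j, hj1, hj2, hj3⟩ := hπk T.left a.left b.left
      (congrArg (fun f => f.left) hab) t
    refine ⟨σ, Over.mk (j ≫ T.hom), Over.homMk j rfl, hj1, hj2, ?_⟩
    ext
    exact hj3

end Groth.Agent.Helper15.QuotFree
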