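import Mathlib
import Groth.Agent.Lib.Helper15.AlgSpUnram
import Groth.Agent.Lib.Helper15.AlgSpDiagMor
import Groth.Agent.Lib.Helper15.QcLocal
import Groth.Agent.Lib.Helper15.AlgSpEtCl

/-!
# Stratification of quasi-compact quasi-separated algebraic spaces, I: equaliser loci
-/

set_option autoImplicit false
universe u
open CategoryTheory CategoryTheory.Limits AlgebraicGeometry MorphismProperty Opposite
open AlgSp

namespace Groth.Agent.Helper15.Strat

open Groth.Agent.Helper15

variable {S : Scheme.{u}} {X : Sp S} {U : Over S} (p : (yon S).obj U ⟶ X)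

/-- The diagonal of a chart from a scheme separated over `S` is a closed immersion. -/
theorem repWith_isClosedImmersion_diagonal (hU : IsSeparated U.hom) :
    RepWith @IsClosedImmersion (pullback.diagonal p) := by
  let m : pullback p p ⟶ (yon S).obj U ⨯ (yon S).obj U :=
    prod.lift (pullback.fst p p) (pullback.snd p p)
  have hm1 : m ≫ prod.fst = pullback.fst p p := prod.lift_fst _ _
  have hm2 : m ≫ prod.snd = pullback.snd p p := prod.lift_snd _ _
  haveI : Mono m := by
    refine ⟨fun {Z} a b hab => ?_⟩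
    apply pullback.hom_ext
    · rw [← hm1, ← Category.assoc, hab, Category.assoc]
    · rw [← hm2, ← Category.assoc, hab, Category.assoc]
  apply repWith_of_comp_mono _ m
  have : pullback.diagonal p ≫ m = Limits.diag ((yon S).obj U) := by
    apply prod.hom_ext
    · rw [Category.assoc, hm1, pullback.diagonal_fst, Limits.diag, prod.lift_fst]
    · rw [Category.assoc, hm2, pullback.diagonal_snd, Limits.diag, prod.lift_snd]
  rw [this]
  exact (repWith_diag_yon_iff @IsClosedImmersion U).2 hU.isClosedImmersion_diagonal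

/-- The locus where two morphisms to a chart `U` lying over the same morphism to `X` agree is
open and closed when the chart is etale and `U` is separated over `S`. -/
theorem exists_eqLocus (hX : IsAlgSpace X) (hpe : RepWith @Etale p) (hU : IsSeparated U.hom)
    {T : Over S} (a b : T ⟶ U) (hab : (yon S).map a ≫ p = (yon S).map b ≫ p) :
    ∃ (E : Over S) (e : E ⟶ T), IsOpenImmersion e.left ∧ IsClosedImmersion e.left ∧
      e ≫ a = e ≫ b ∧ ∀ (T' : Over S) (c : T' ⟶ T), c ≫ a = c ≫ b → ∃ c' : T' ⟶ E, c' ≫ e = c := by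
  have hdo : RepWith @IsOpenImmersion (pullback.diagonal p) :=
    repWith_isOpenImmersion_diagonal_of_etale hX p hpe
  have hdc : RepWith @IsClosedImmersion (pullback.diagonal p) :=
    repWith_isClosedImmersion_diagonal p hU
  let l : (yon S).obj T ⟶ pullback p p := pullback.lift ((yon S).map a) ((yon S).map b) hab
  have hl1 : l ≫ pullback.fst p p = (yon S).map a := pullback.lift_fst _ _ _
  have hl2 : l ≫ pullback.snd p p = (yon S).map b := pullback.lift_snd _ _ _
  have hrep := hdo.rep
  have sq := hrep.isPullback' l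
  refine ⟨hrep.pullback l, hrep.snd l, hdo.property_snd l, hdc.property l _ _ (hrep.isPullback l),
    ?_, ?_⟩
  · apply (yon S).map_injective
    rw [Functor.map_comp, Functor.map_comp, ← hl1, ← hl2, ← Category.assoc, ← Category.assoc,
      ← sq.w, Category.assoc, Category.assoc, pullback.diagonal_fst, pullback.diagonal_snd]
  · intro T' c hc
    have hw : (yon S).map (c ≫ a) ≫ pullback.diagonal p = (yon S).map c ≫ l := by
      apply pullback.hom_ext
      · rw [Category.assoc, Category.assoc, pullback.diagonal_fst, hl1, Category.comp_id,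
          Functor.map_comp]
      · rw [Category.assoc, Category.assoc, pullback.diagonal_snd, hl2, Category.comp_id, hc,
          Functor.map_comp]
    obtain ⟨c', hc'⟩ := (yon S).map_surjective (sq.lift _ _ hw)
    refine ⟨c', ?_⟩
    apply (yon S).map_injective
    rw [Functor.map_comp, hc', sq.lift_snd]

/-- `W` with projections `pr i : W ⟶ U` represents tuples of `n + 1` pairwise everywhere distinct
points of `U` lying over one point of `X`; moreover the first projection is etale and separated
and `W` is quasi-compact. -/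
structure IsConf (n : ℕ) (W : Over S) (pr : Fin (n + 1) → (W ⟶ U)) : Prop where
  compat : ∀ i j, (yon S).map (pr i) ≫ p = (yon S).map (pr j) ≫ p
  distinct : ∀ i j, i ≠ j → ∀ (T : Over S) (c : T ⟶ W), c ≫ pr i = c ≫ pr j → IsEmpty T.left
  lift : ∀ (T : Over S) (a : Fin (n + 1) → (T ⟶ U)),
    (∀ i j, (yon S).map (a i) ≫ p = (yon S).map (a j) ≫ p) →
    (∀ i j, i ≠ j → ∀ (T' : Over S) (c : T' ⟶ T), c ≫ a i = c ≫ a j → IsEmpty T'.left) →
    ∃ l : T ⟶ W, ∀ i, l ≫ pr i = a i
  ext : ∀ (T : Over S) (l l' : T ⟶ W), (∀ i, l ≫ pr i = l' ≫ pr i) → l = l'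
  etale : Etale (pr 0).left
  sep : IsSeparated (pr 0).left
  compact : CompactSpace W.left

theorem isConf_zero [CompactSpace U.left] : IsConf p 0 U (fun _ => 𝟙 U) where
  compat _ _ := rfl
  distinct i j hij := absurd ((Fin.eq_zero i).trans (Fin.eq_zero j).symm) hij
  lift T a _ _ := ⟨a 0, fun i => by rw [Category.comp_id, Fin.eq_zero i]⟩
  ext T l l' h := by simpa using h 0
  etale := by rw [Over.id_left]; infer_instance
  sep := by rw [Over.id_left]; infer_instance
  compact := inferInstance

/-- A chart from a scheme separated over `S` is separated. -/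
theorem repWith_isSeparated_chart (hX : IsAlgSpace X) (hpe : RepWith @Etale p)
    (hU : IsSeparated U.hom) : RepWith @IsSeparated p := by
  have h1 := (repWith_diagonal_iff_of_representable @IsClosedImmersion (IsAlgSpace.yon_obj U) hX p
    hpe.rep).1 (repWith_isClosedImmersion_diagonal p hU)
  rwa [← IsSeparated.isSeparated_eq_diagonal_isClosedImmersion] at h1

/-- A morphism from the spectrum of a residue field lands in an open subscheme as soon as the point
does. -/
theorem exists_factor_residue {T E : Over S} (e : E ⟶ T) (he : IsOpenImmersion e.left)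
    (t : T.left) (ht : t ∈ Set.range e.left) :
    ∃ c : Over.mk (T.left.fromSpecResidueField t ≫ T.hom) ⟶ E,
      c ≫ e = (Over.homMk (T.left.fromSpecResidueField t) rfl :
        Over.mk (T.left.fromSpecResidueField t ≫ T.hom) ⟶ T) := by
  haveI := he
  have hrange : Set.range (T.left.fromSpecResidueField t) ⊆ Set.range e.left := by
    rintro _ ⟨y, rfl⟩
    rw [Scheme.fromSpecResidueField_apply]
    exact ht
  refine ⟨Over.homMk (IsOpenImmersion.lift e.left (T.left.fromSpecResidueField t) hrange) ?_, ?_⟩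
  · change _ ≫ E.hom = _ ≫ T.hom
    rw [← CategoryTheory.Over.w e, ← Category.assoc, IsOpenImmersion.lift_fac]
  · ext
    exact IsOpenImmersion.lift_fac _ _ _

theorem exists_isConf_succ (hX : IsAlgSpace X) (hqs : IsQuasiSeparatedSp X)
    (hpe : RepWith @Etale p) (hU : IsSeparated U.hom) (hUq : QuasiCompact U.hom) {n : ℕ}
    {W : Over S} {pr : Fin (n + 1) → (W ⟶ U)} (hW : IsConf p n W pr) :
    ∃ (W' : Over S) (pr' : Fin (n + 2) → (W' ⟶ U)), IsConf p (n + 1) W' pr' := by
  have hps := repWith_isSeparated_chart p hX hpe hU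
  let g : (yon S).obj W ⟶ X := (yon S).map (pr 0) ≫ p
  have hrep := hpe.rep
  let Q := hrep.pullback g
  let q₁ : Q ⟶ W := hrep.snd g
  let q₂ : Q ⟶ U := hrep.fst' g
  have sq : IsPullback ((yon S).map q₂) ((yon S).map q₁) p g := hrep.isPullback' g
  have hq₁e : Etale q₁.left := hpe.property_snd g
  have hq₁s : IsSeparated q₁.left := hps.property_snd g
  haveI := hW.compact
  haveI hQc : CompactSpace Q.left :=
    Groth.Agent.Helper15.QcLocal.compactSpace_pullback_of_isQuasiSeparatedSp hqs hUq p g q₂ q₁ sq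
  have hab : ∀ i, (yon S).map (q₁ ≫ pr i) ≫ p = (yon S).map q₂ ≫ p := by
    intro i
    rw [Functor.map_comp, Category.assoc, hW.compat i 0, sq.w]
  choose E e he1 he2 he3 he4 using fun i => exists_eqLocus p hX hpe hU (q₁ ≫ pr i) q₂ (hab i)
  have hopen : IsOpen (⋃ i, Set.range (e i).left)ᶜ := by
    rw [isOpen_compl_iff]
    exact isClosed_iUnion_of_finite (fun i => (e i).left.isClosedEmbedding.isClosed_range)
  have hclosed : IsClosed (⋃ i, Set.range (e i).left)ᶜ := by
    rw [isClosed_compl_iff]
    exact isOpen_iUnion (fun i => (e i).left.isOpenEmbedding.isOpen_range)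
  let Ω : Q.left.Opens := ⟨_, hopen⟩
  let W' : Over S := Over.mk (Ω.ι ≫ Q.hom)
  let ι : W' ⟶ Q := Over.homMk Ω.ι rfl
  haveI : Mono ι := by
    refine ⟨fun {Z} a b hab => ?_⟩
    ext
    have := congrArg (fun f => f.left) hab
    exact (cancel_mono Ω.ι).1 this
  let pr' : Fin (n + 2) → (W' ⟶ U) :=
    Fin.snoc (α := fun _ => W' ⟶ U) (fun i => ι ≫ q₁ ≫ pr i) (ι ≫ q₂)
  have hpr1 : ∀ i : Fin (n + 1), pr' (Fin.castSucc i) = ι ≫ q₁ ≫ pr i := fun i =>
    Fin.snoc_castSucc (α := fun _ => W' ⟶ U) _ _ i
  have hpr2 : pr' (Fin.last (n + 1)) = ι ≫ q₂ := Fin.snoc_last (α := fun _ => W' ⟶ U) _ _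
  have hpr0 : pr' 0 = ι ≫ q₁ ≫ pr 0 := by
    rw [← Fin.castSucc_zero, hpr1]
  -- points of `W'` avoid the equaliser loci
  have havoid : ∀ (i : Fin (n + 1)) (T : Over S) (c : T ⟶ W'),
      c ≫ ι ≫ q₁ ≫ pr i = c ≫ ι ≫ q₂ → IsEmpty T.left := by
    intro i T c hc
    obtain ⟨c', hc'⟩ := he4 i T (c ≫ ι) (by simpa only [Category.assoc] using hc)
    refine ⟨fun t => ?_⟩
    have h1 : (c ≫ ι).left t ∈ (⋃ i, Set.range (e i).left)ᶜ := (c.left t).2
    apply h1
    refine Set.mem_iUnion.2 ⟨i, c'.left t, ?_⟩
    rw [← hc']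
    rfl
  have hcommon : ∀ i, (yon S).map (pr' i) ≫ p = (yon S).map ι ≫ (yon S).map q₁ ≫ g := by
    intro i
    refine Fin.lastCases ?_ (fun i => ?_) i
    · rw [hpr2, Functor.map_comp, Category.assoc, sq.w]
    · rw [hpr1, Functor.map_comp, Functor.map_comp, Category.assoc, Category.assoc, hW.compat i 0]
  refine ⟨W', pr', ⟨fun i j => (hcommon i).trans (hcommon j).symm, ?_, ?_, ?_, ?_, ?_, ?_⟩⟩
  · -- distinct
    intro i j
    refine Fin.lastCases ?_ (fun i => ?_) i
    · refine Fin.lastCases ?_ (fun j => ?_) j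
      · intro h; exact absurd rfl h
      · intro _ T c hc
        rw [hpr1, hpr2] at hc
        exact havoid j T c hc.symm
    · refine Fin.lastCases ?_ (fun j => ?_) j
      · intro _ T c hc
        rw [hpr1, hpr2] at hc
        exact havoid i T c hc
      · intro hij T c hc
        rw [hpr1, hpr1] at hc
        refine hW.distinct i j (fun h => hij (by rw [h])) T (c ≫ ι ≫ q₁) ?_
        simpa only [Category.assoc] using hc
  · -- lift
    intro T a hac had
    obtain ⟨l₀, hl₀⟩ := hW.lift T (fun i => a (Fin.castSucc i)) (fun i j => hac _ _)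
      (fun i j hij T' c hc => had _ _ (fun h => hij (Fin.castSucc_injective _ h)) T' c hc)
    have hw : (yon S).map (a (Fin.last (n + 1))) ≫ p = (yon S).map l₀ ≫ g := by
      rw [← Category.assoc, ← Functor.map_comp, hl₀ 0]
      exact hac _ _
    obtain ⟨l₁, hl₁⟩ := (yon S).map_surjective (sq.lift _ _ hw)
    have hl₁1 : l₁ ≫ q₂ = a (Fin.last (n + 1)) := by
      apply (yon S).map_injective
      rw [Functor.map_comp, hl₁, sq.lift_fst]
    have hl₁2 : l₁ ≫ q₁ = l₀ := by
      apply (yon S).map_injective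
      rw [Functor.map_comp, hl₁, sq.lift_snd]
    have hrange : Set.range l₁.left ⊆ Set.range Ω.ι := by
      rintro _ ⟨t, rfl⟩
      rw [Scheme.Opens.range_ι]
      intro hmem
      obtain ⟨i, hi⟩ := Set.mem_iUnion.1 hmem
      -- the residue field point
      let T' : Over S := Over.mk (T.left.fromSpecResidueField t ≫ T.hom)
      let ιt : T' ⟶ T := Over.homMk (T.left.fromSpecResidueField t) rfl
      have hrange' : Set.range (ιt ≫ l₁).left ⊆ Set.range (e i).left := by
        rintro _ ⟨y, rfl⟩
        change l₁.left ((T.left.fromSpecResidueField t) y) ∈ _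
        rw [Scheme.fromSpecResidueField_apply]
        exact hi
      haveI := he1 i
      let c'' : T' ⟶ E i := Over.homMk (IsOpenImmersion.lift (e i).left (ιt ≫ l₁).left hrange') (by
        change _ ≫ (E i).hom = T'.hom
        rw [← CategoryTheory.Over.w (e i), ← Category.assoc, IsOpenImmersion.lift_fac, CategoryTheory.Over.w])
      have hc'' : c'' ≫ e i = ιt ≫ l₁ := by
        ext
        exact IsOpenImmersion.lift_fac _ _ _
      have heq : ιt ≫ a (Fin.castSucc i) = ιt ≫ a (Fin.last (n + 1)) := by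
        rw [← hl₁1, ← hl₀ i, ← hl₁2]
        simp only [Category.assoc]
        rw [← Category.assoc ιt, ← hc'', Category.assoc, he3 i, ← Category.assoc, hc'',
          Category.assoc]
      have hne : Fin.castSucc i ≠ Fin.last (n + 1) := (Fin.castSucc_lt_last i).ne
      have := had _ _ hne T' ιt heq
      exact this.false (⊥ : PrimeSpectrum (T.left.residueField t))
    let l : T ⟶ W' := Over.homMk (IsOpenImmersion.lift Ω.ι l₁.left hrange) (by
      change _ ≫ Ω.ι ≫ Q.hom = T.hom
      rw [← Category.assoc, IsOpenImmersion.lift_fac, CategoryTheory.Over.w])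
    have hl : l ≫ ι = l₁ := by
      ext
      exact IsOpenImmersion.lift_fac _ _ _
    refine ⟨l, fun i => ?_⟩
    refine Fin.lastCases ?_ (fun i => ?_) i
    · rw [hpr2, ← Category.assoc, hl, hl₁1]
    · rw [hpr1, ← Category.assoc, hl, ← Category.assoc, hl₁2, hl₀]
  · -- ext
    intro T l l' h
    rw [← cancel_mono ι]
    apply (yon S).map_injective
    apply sq.hom_ext
    · rw [← Functor.map_comp, ← Functor.map_comp, Category.assoc, Category.assoc, ← hpr2]
      exact congrArg _ (h _)
    · rw [← Functor.map_comp, ← Functor.map_comp]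
      congr 1
      apply hW.ext
      intro i
      have := h (Fin.castSucc i)
      rw [hpr1] at this
      simpa only [Category.assoc] using this
  · -- etale
    rw [hpr0]
    change Etale (Ω.ι ≫ q₁.left ≫ (pr 0).left)
    haveI := hW.etale
    infer_instance
  · rw [hpr0]
    change IsSeparated (Ω.ι ≫ q₁.left ≫ (pr 0).left)
    haveI := hW.sep
    infer_instance
  · change CompactSpace Ω
    exact isCompact_iff_compactSpace.1 hclosed.isCompact

theorem exists_isConf (hX : IsAlgSpace X) (hqs : IsQuasiSeparatedSp X)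
    (hpe : RepWith @Etale p) (hU : IsSeparated U.hom) (hUq : QuasiCompact U.hom)
    [CompactSpace U.left] (n : ℕ) :
    ∃ (W : Over S) (pr : Fin (n + 1) → (W ⟶ U)), IsConf p n W pr := by
  induction n with
  | zero => exact ⟨U, _, isConf_zero p⟩
  | succ n ih =>
    obtain ⟨W, pr, h⟩ := ih
    exact exists_isConf_succ p hX hqs hpe hU hUq h

namespace IsConf

variable {p} {n : ℕ} {W : Over S} {pr : Fin (n + 1) → (W ⟶ U)} (hW : IsConf p n W pr)

include hW in
/-- Forgetting the last point. -/
theorem exists_forget {W' : Over S} {pr' : Fin (n + 2) → (W' ⟶ U)} (hW' : IsConf p (n + 1) W' pr') :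
    ∃ m : W' ⟶ W, ∀ i, m ≫ pr i = pr' (Fin.castSucc i) :=
  hW.lift W' (fun i => pr' (Fin.castSucc i)) (fun _ _ => hW'.compat _ _)
    (fun _ _ hij T c hc => hW'.distinct _ _ (fun h => hij (Fin.castSucc_injective _ h)) T c hc)

include hW in
theorem exists_perm (σ : Equiv.Perm (Fin (n + 1))) :
    ∃ r : W ⟶ W, ∀ i, r ≫ pr i = pr (σ.symm i) :=
  hW.lift W (fun i => pr (σ.symm i)) (fun _ _ => hW.compat _ _)
    (fun _ _ hij T c hc => hW.distinct _ _ (fun h => hij (σ.symm.injective h)) T c hc)

/-- The action of the symmetric group. -/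
noncomputable def ρ (σ : Equiv.Perm (Fin (n + 1))) : W ⟶ W := (hW.exists_perm σ).choose

theorem ρ_pr (σ : Equiv.Perm (Fin (n + 1))) (i : Fin (n + 1)) :
    hW.ρ σ ≫ pr i = pr (σ.symm i) := (hW.exists_perm σ).choose_spec i

theorem ρ_one : hW.ρ 1 = 𝟙 W := by
  apply hW.ext
  intro i
  rw [ρ_pr, Category.id_comp]
  rfl

theorem ρ_mul (σ τ : Equiv.Perm (Fin (n + 1))) : hW.ρ (σ * τ) = hW.ρ τ ≫ hW.ρ σ := by
  apply hW.ext
  intro i
  rw [ρ_pr, Category.assoc, ρ_pr, ρ_pr]
  rfl

theorem ρ_free (σ : Equiv.Perm (Fin (n + 1))) (hσ : σ ≠ 1) (T : Over S) (a : T ⟶ W)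
    (ha : a ≫ hW.ρ σ = a) : IsEmpty T.left := by
  have hσ' : σ.symm ≠ 1 := fun h => hσ (by
    have := congrArg Equiv.symm h
    rw [Equiv.symm_symm] at this
    exact this)
  obtain ⟨i, hi⟩ : ∃ i, σ.symm i ≠ i := by
    by_contra hcon
    push Not at hcon
    exact hσ' (Equiv.ext hcon)
  refine hW.distinct _ _ hi T a ?_
  rw [← hW.ρ_pr σ i, ← Category.assoc, ha]

/-- The chart of `X` given by the configuration space. -/
noncomputable def g (_ : IsConf p n W pr) : (yon S).obj W ⟶ X := (yon S).map (pr 0) ≫ p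

theorem ρ_g (σ : Equiv.Perm (Fin (n + 1))) : (yon S).map (hW.ρ σ) ≫ hW.g = hW.g := by
  unfold g
  rw [← Category.assoc, ← Functor.map_comp, ρ_pr]
  exact hW.compat _ _

end IsConf

end Groth.Agent.Helper15.Strat
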