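import Mathlib
import Groth.Agent.Lib.Helper15.Strat1
import Groth.Agent.Lib.Helper15.QuotFree3
import Groth.Agent.Lib.Helper15.AlgSpDescent
import Groth.Agent.Lib.Helper15.AffDesc3
import Groth.Agent.Lib.Helper15.NormSN
import Groth.Agent.Lib.Helper15.AlgSpOpen

/-!
# Stratification of quasi-compact quasi-separated algebraic spaces, II: the quotient charts
-/

set_option autoImplicit false
universe u
open CategoryTheory CategoryTheory.Limits AlgebraicGeometry MorphismProperty Opposite
open AlgSp

namespace Groth.Agent.Helper15.Strat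

open Groth.Agent.Helper15

variable {S : Scheme.{u}} {X : Sp S} {U : Over S} {p : (yon S).obj U ⟶ X}

/-- Two sections of a sheaf over a scheme which agree Zariski locally agree. -/
theorem yon_hom_ext_zariski {F : Sp S} {T : Over S} (a b : (yon S).obj T ⟶ F)
    (h : ∀ t : T.left, ∃ (N : Over S) (j : N ⟶ T), IsOpenImmersion j.left ∧ t ∈ Set.range j.left ∧
      (yon S).map j ≫ a = (yon S).map j ≫ b) : a = b := by
  choose N j hj1 hj2 hj3 using h
  apply yon_hom_ext_of_cover a b (Sieve.ofArrows N j)
    (ofArrows_mem_J N j (fun t => by haveI := hj1 t; infer_instance)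
      (fun t => by haveI := hj1 t; infer_instance) (fun t => by
        obtain ⟨y, hy⟩ := hj2 t
        exact ⟨t, y, hy⟩))
  rintro T' k ⟨Z, k', _, ⟨t⟩, rfl⟩
  rw [Functor.map_comp, Category.assoc, Category.assoc, hj3 t]

namespace IsConf

variable {n : ℕ} {W : Over S} {pr : Fin (n + 1) → (W ⟶ U)} (hW : IsConf p n W pr)

include hW in
/-- The configuration spaces over an affine chart are quasi-affine. -/
theorem isQuasiAffine [IsAffine U.left] : W.left.IsQuasiAffine := by
  haveI := hW.compact
  haveI := hW.etale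
  haveI := hW.sep
  haveI : QuasiCompact (pr 0).left := quasiCompact_of_compactSpace _
  haveI : LocallyQuasiFinite (pr 0).left := locallyQuasiFinite_of_etale _
  haveI : IsOpenImmersion (pr 0).left.toNormalization := inferInstance
  haveI : IsAffine (pr 0).left.normalization :=
    isAffine_of_isAffineHom (pr 0).left.fromNormalization
  exact Scheme.IsQuasiAffine.of_isImmersion (pr 0).left.toNormalization

/-- `π : W ⟶ V` is a quotient of the configuration space by the symmetric group. -/
structure IsQuot (hW : IsConf p n W pr) (V : Over S) (π : W ⟶ V) : Prop where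
  sep : V.left.IsSeparated
  compact : CompactSpace V.left
  etale : Etale π.left
  surj : Surjective π.left
  inv : ∀ σ, hW.ρ σ ≫ π = π
  ker : ∀ (T : Over S) (a b : T ⟶ W), a ≫ π = b ≫ π → ∀ t : T.left,
    ∃ (σ : Equiv.Perm (Fin (n + 1))) (N : Over S) (j : N ⟶ T), IsOpenImmersion j.left ∧
      t ∈ Set.range j.left ∧ j ≫ b = j ≫ a ≫ hW.ρ σ

theorem exists_isQuot [IsAffine U.left] : ∃ (V : Over S) (π : W ⟶ V), IsQuot hW V π := by
  haveI := hW.isQuasiAffine
  obtain ⟨V, π, h1, h2, h3, h4, h5, h6⟩ := QuotFree.exists_quotient_over W hW.ρ hW.ρ_one hW.ρ_mul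
    hW.ρ_free
  exact ⟨V, π, h1, h2, h3, h4, h5, h6⟩

theorem repWith_etale_g (hpe : RepWith @Etale p) : RepWith @Etale hW.g :=
  (RepWith @Etale).comp_mem _ _ ((repWith_yon_map_iff _ (pr 0)).2 hW.etale) hpe

variable {hW} {V : Over S} {π : W ⟶ V}

/-- The chart of `X` given by the quotient of the configuration space. -/
theorem IsQuot.exists_chart (hQ : IsQuot hW V π) (hX : IsAlgSpace X) (hpe : RepWith @Etale p) :
    ∃ f : (yon S).obj V ⟶ X, (yon S).map π ≫ f = hW.g ∧ RepWith @Etale f := by
  haveI : Epi ((yon S).map π) := Norm.epi_of_etale_surjective _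
    ((repWith_yon_map_iff _ π).2 hQ.etale) ((repWith_yon_map_iff _ π).2 hQ.surj)
  obtain ⟨f, hf⟩ := AffDesc.exists_desc_of_epi ((yon S).map π) hW.g (by
    intro T x y hxy
    obtain ⟨a, rfl⟩ := (yon S).map_surjective x
    obtain ⟨b, rfl⟩ := (yon S).map_surjective y
    have hab : a ≫ π = b ≫ π := by
      apply (yon S).map_injective
      rw [Functor.map_comp, Functor.map_comp, hxy]
    apply yon_hom_ext_zariski
    intro t
    obtain ⟨σ, N, j, hj1, hj2, hj3⟩ := hQ.ker T a b hab t
    refine ⟨N, j, hj1, hj2, ?_⟩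
    rw [← Category.assoc, ← Category.assoc, ← Functor.map_comp, ← Functor.map_comp, hj3,
      Functor.map_comp, Functor.map_comp, Functor.map_comp, Category.assoc, Category.assoc,
      Category.assoc, hW.ρ_g])
  refine ⟨f, hf, ?_⟩
  apply repWith_etale_of_comp_surjective_etale hX π hQ.etale hQ.surj f
  rw [hf]
  exact hW.repWith_etale_g hpe

end IsConf

end Groth.Agent.Helper15.Strat
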