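import Mathlib
import Groth.Agent.Lib.Helper15.Strat2

/-!
# Stratification of quasi-compact quasi-separated algebraic spaces, III: the quotient chart is a
monomorphism away from the next stratum
-/

set_option autoImplicit false
universe u
open CategoryTheory CategoryTheory.Limits AlgebraicGeometry MorphismProperty Opposite
open AlgSp

namespace Groth.Agent.Helper15.Strat

open Groth.Agent.Helper15

variable {S : Scheme.{u}} {X : Sp S} {U : Over S} {p : (yon S).obj U ⟶ X}

/-- A morphism whose image lies in an open subscheme factors through it. -/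
theorem exists_factor_of_range_subset {T E N : Over S} (e : E ⟶ T) (he : IsOpenImmersion e.left)
    (j : N ⟶ T) (h : Set.range j.left ⊆ Set.range e.left) : ∃ c : N ⟶ E, c ≫ e = j := by
  haveI := he
  refine ⟨Over.homMk (IsOpenImmersion.lift e.left j.left h) ?_, ?_⟩
  · change _ ≫ E.hom = N.hom
    rw [← CategoryTheory.Over.w e, ← Category.assoc, IsOpenImmersion.lift_fac,
      CategoryTheory.Over.w]
  · ext
    exact IsOpenImmersion.lift_fac _ _ _

/-- The residue field point of an `S`-scheme. -/
noncomputable def resPt (T : Over S) (t : T.left) : Over S :=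
  Over.mk (T.left.fromSpecResidueField t ≫ T.hom)

/-- The residue field point of an `S`-scheme. -/
noncomputable def resι (T : Over S) (t : T.left) : resPt T t ⟶ T :=
  Over.homMk (T.left.fromSpecResidueField t) rfl

theorem resι_left_apply (T : Over S) (t : T.left) (y : (resPt T t).left) :
    (resι T t).left y = t := Scheme.fromSpecResidueField_apply _ _

instance (T : Over S) (t : T.left) : Nonempty (resPt T t).left :=
  ⟨(⊥ : PrimeSpectrum (T.left.residueField t))⟩

namespace IsConf

variable {n : ℕ} {W : Over S} {pr : Fin (n + 1) → (W ⟶ U)} (hW : IsConf p n W pr)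

/-- **Core lemma**: two families of `n + 1` distinct points of the chart over one family of points
of `X` which does not meet the image of the configurations of `n + 2` points are, locally,
permutations of each other. -/
theorem exists_local_conj (hX : IsAlgSpace X) (hpe : RepWith @Etale p) (hU : IsSeparated U.hom)
    {W' : Over S} {pr' : Fin (n + 2) → (W' ⟶ U)} (hW' : IsConf p (n + 1) W' pr') {T : Over S}
    (a b : T ⟶ W) (hab : (yon S).map a ≫ hW.g = (yon S).map b ≫ hW.g) (t : T.left)
    (ht : Points.ofPt ((yon S).map a ≫ hW.g) t ∉ Set.range (Points.ofPt hW'.g)) :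
    ∃ (σ : Equiv.Perm (Fin (n + 1))) (N : Over S) (j : N ⟶ T), IsOpenImmersion j.left ∧
      t ∈ Set.range j.left ∧ j ≫ b = j ≫ a ≫ hW.ρ σ := by
  have hga : ∀ k, (yon S).map (a ≫ pr k) ≫ p = (yon S).map a ≫ hW.g := by
    intro k
    rw [Functor.map_comp, Category.assoc, hW.compat k 0]
    rfl
  have hgb : ∀ i, (yon S).map (b ≫ pr i) ≫ p = (yon S).map a ≫ hW.g := by
    intro i
    rw [Functor.map_comp, Category.assoc, hW.compat i 0, hab]
    rfl
  choose E e he1 he2 he3 he4 using fun (ik : Fin (n + 1) × Fin (n + 1)) =>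
    exists_eqLocus p hX hpe hU (b ≫ pr ik.1) (a ≫ pr ik.2) ((hgb ik.1).trans (hga ik.2).symm)
  let T' := resPt T t
  let ι : T' ⟶ T := resι T t
  -- Step A
  have hA : ∀ i, ∃ k, t ∈ Set.range (e (i, k)).left := by
    intro i
    by_contra hcon
    push Not at hcon
    let tup : Fin (n + 2) → (T' ⟶ U) :=
      Fin.snoc (α := fun _ => T' ⟶ U) (fun k => ι ≫ a ≫ pr k) (ι ≫ b ≫ pr i)
    have htup1 : ∀ k : Fin (n + 1), tup (Fin.castSucc k) = ι ≫ a ≫ pr k := fun k =>
      Fin.snoc_castSucc (α := fun _ => T' ⟶ U) _ _ k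
    have htup2 : tup (Fin.last (n + 1)) = ι ≫ b ≫ pr i := Fin.snoc_last (α := fun _ => T' ⟶ U) _ _
    have hcommon : ∀ m, (yon S).map (tup m) ≫ p = (yon S).map ι ≫ (yon S).map a ≫ hW.g := by
      intro m
      refine Fin.lastCases ?_ (fun k => ?_) m
      · rw [htup2, Functor.map_comp, Category.assoc, hgb]
      · rw [htup1, Functor.map_comp, Category.assoc, hga]
    have hmix : ∀ (k : Fin (n + 1)) (T'' : Over S) (c' : T'' ⟶ T'),
        c' ≫ ι ≫ b ≫ pr i = c' ≫ ι ≫ a ≫ pr k → IsEmpty T''.left := by
      intro k T'' c' hc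
      obtain ⟨c'', hc''⟩ := he4 (i, k) T'' (c' ≫ ι) (by simpa only [Category.assoc] using hc)
      refine ⟨fun y => hcon k ⟨c''.left y, ?_⟩⟩
      rw [← Scheme.Hom.comp_apply, ← Over.comp_left, hc'', Over.comp_left,
        Scheme.Hom.comp_apply, resι_left_apply]
    obtain ⟨l, hl⟩ := hW'.lift T' tup (fun m m' => (hcommon m).trans (hcommon m').symm) (by
      intro m m'
      refine Fin.lastCases ?_ (fun k => ?_) m
      · refine Fin.lastCases ?_ (fun k' => ?_) m'
        · intro h; exact absurd rfl h
        · intro _ T'' c' hc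
          rw [htup1, htup2] at hc
          exact hmix k' T'' c' hc
      · refine Fin.lastCases ?_ (fun k' => ?_) m'
        · intro _ T'' c' hc
          rw [htup1, htup2] at hc
          exact hmix k T'' c' hc.symm
        · intro hkk T'' c' hc
          rw [htup1, htup1] at hc
          refine hW.distinct k k' (fun h => hkk (by rw [h])) T'' (c' ≫ ι ≫ a) ?_
          simpa only [Category.assoc] using hc)
    obtain ⟨y₀⟩ := (inferInstance : Nonempty (resPt T t).left)
    apply ht
    refine ⟨l.left y₀, ?_⟩
    rw [← ofPt_comp_yon_map l hW'.g y₀]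
    have h1 : (yon S).map l ≫ hW'.g = (yon S).map ι ≫ (yon S).map a ≫ hW.g := by
      unfold g
      rw [← Category.assoc, ← Functor.map_comp, hl 0, ← Fin.castSucc_zero, htup1]
      simp only [Functor.map_comp, Category.assoc]
    rw [h1, ofPt_comp_yon_map, resι_left_apply]
  choose τ hτ using hA
  -- factorisation of the residue field point
  have hfac : ∀ i, ι ≫ b ≫ pr i = ι ≫ a ≫ pr (τ i) := by
    intro i
    obtain ⟨c, hc⟩ := exists_factor_of_range_subset (e (i, τ i)) (he1 (i, τ i)) ι (by
      rintro _ ⟨y, rfl⟩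
      rw [resι_left_apply]
      exact hτ i)
    rw [← hc, Category.assoc, he3 (i, τ i), Category.assoc]
  -- Step B
  have hinj : Function.Injective τ := by
    intro i i' hii
    by_contra hne
    have h1 : ι ≫ b ≫ pr i = ι ≫ b ≫ pr i' := by
      rw [hfac i, hfac i', hii]
    have := hW.distinct i i' hne T' (ι ≫ b) (by simpa only [Category.assoc] using h1)
    exact this.false (Classical.arbitrary _)
  let σ : Equiv.Perm (Fin (n + 1)) :=
    (Equiv.ofBijective τ ⟨hinj, Finite.surjective_of_injective hinj⟩).symm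
  have hσ : ∀ i, σ.symm i = τ i := fun i => rfl
  -- Step C
  have hopen : IsOpen (⋂ i, Set.range (e (i, τ i)).left) :=
    isOpen_iInter_of_finite (fun i => (e (i, τ i)).left.isOpenEmbedding.isOpen_range)
  let N : T.left.Opens := ⟨_, hopen⟩
  let Nobj : Over S := Over.mk (N.ι ≫ T.hom)
  let j : Nobj ⟶ T := Over.homMk N.ι rfl
  refine ⟨σ, Nobj, j, (inferInstance : IsOpenImmersion N.ι), ?_, ?_⟩
  · change t ∈ Set.range N.ι
    rw [Scheme.Opens.range_ι]
    exact Set.mem_iInter.2 hτ
  · apply hW.ext
    intro i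
    obtain ⟨c, hc⟩ := exists_factor_of_range_subset (e (i, τ i)) (he1 (i, τ i)) j (by
      change Set.range N.ι ⊆ _
      rw [Scheme.Opens.range_ι]
      exact Set.iInter_subset _ i)
    rw [Category.assoc, Category.assoc, Category.assoc, hW.ρ_pr, hσ, ← hc, Category.assoc,
      he3 (i, τ i), Category.assoc]

variable {hW} {V : Over S} {π : W ⟶ V}

/-- **The quotient chart is injective on families of points avoiding the next stratum.** -/
theorem IsQuot.eq_of_chart_eq (hQ : IsQuot hW V π) (hX : IsAlgSpace X) (hpe : RepWith @Etale p)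
    (hU : IsSeparated U.hom) {W' : Over S} {pr' : Fin (n + 2) → (W' ⟶ U)}
    (hW' : IsConf p (n + 1) W' pr') (f : (yon S).obj V ⟶ X) (hf : (yon S).map π ≫ f = hW.g)
    {T : Over S} (α β : T ⟶ V) (hαβ : (yon S).map α ≫ f = (yon S).map β ≫ f)
    (havoid : ∀ t : T.left, Points.ofPt ((yon S).map α ≫ f) t ∉ Set.range (Points.ofPt hW'.g)) :
    α = β := by
  have sq₁ : IsPullback (pullback.fst α π) (pullback.snd α π) α π := IsPullback.of_hasPullback _ _
  let c₁ := pullback.fst α π
  let a₁ := pullback.snd α π
  have sq₂ : IsPullback (pullback.fst (c₁ ≫ β) π) (pullback.snd (c₁ ≫ β) π) (c₁ ≫ β) π :=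
    IsPullback.of_hasPullback _ _
  let c₂ := pullback.fst (c₁ ≫ β) π
  let b := pullback.snd (c₁ ≫ β) π
  have hπe := hQ.etale
  have hπs := hQ.surj
  have hc₁e : Etale c₁.left :=
    MorphismProperty.of_isPullback (P := @Etale) (sq₁.map (Over.forget S)).flip hπe
  have hc₁s : Surjective c₁.left :=
    MorphismProperty.of_isPullback (P := @Surjective) (sq₁.map (Over.forget S)).flip hπs
  have hc₂e : Etale c₂.left :=
    MorphismProperty.of_isPullback (P := @Etale) (sq₂.map (Over.forget S)).flip hπe
  have hc₂s : Surjective c₂.left :=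
    MorphismProperty.of_isPullback (P := @Surjective) (sq₂.map (Over.forget S)).flip hπs
  let c := c₂ ≫ c₁
  let a := c₂ ≫ a₁
  have hce : Etale c.left := by
    change Etale (c₂.left ≫ c₁.left)
    infer_instance
  have hcs : Surjective c.left := by
    change Surjective (c₂.left ≫ c₁.left)
    infer_instance
  have hca : c ≫ α = a ≫ π := by
    change (c₂ ≫ c₁) ≫ α = (c₂ ≫ a₁) ≫ π
    rw [Category.assoc, Category.assoc, sq₁.w]
  have hcb : c ≫ β = b ≫ π := by
    change (c₂ ≫ c₁) ≫ β = b ≫ π
    rw [Category.assoc, sq₂.w]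
  have hag : (yon S).map a ≫ hW.g = (yon S).map c ≫ (yon S).map α ≫ f := by
    rw [← hf, ← Category.assoc, ← Functor.map_comp, ← hca, Functor.map_comp, Category.assoc]
  have hbg : (yon S).map b ≫ hW.g = (yon S).map c ≫ (yon S).map α ≫ f := by
    rw [← hf, ← Category.assoc, ← Functor.map_comp, ← hcb, Functor.map_comp, Category.assoc, hαβ]
  have hkey : a ≫ π = b ≫ π := by
    apply (yon S).map_injective
    apply yon_hom_ext_zariski
    intro t
    obtain ⟨σ, N, j, hj1, hj2, hj3⟩ := hW.exists_local_conj hX hpe hU hW' a b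
      (hag.trans hbg.symm) t (by
        rw [hag, ofPt_comp_yon_map]
        exact havoid _)
    refine ⟨N, j, hj1, hj2, ?_⟩
    rw [← Functor.map_comp, ← Functor.map_comp, ← Category.assoc j b, hj3]
    simp only [Category.assoc]
    rw [hQ.inv]
  haveI : Epi ((yon S).map c) := Norm.epi_of_etale_surjective _
    ((repWith_yon_map_iff _ c).2 hce) ((repWith_yon_map_iff _ c).2 hcs)
  apply (yon S).map_injective
  rw [← cancel_epi ((yon S).map c), ← Functor.map_comp, ← Functor.map_comp, hca, hcb, hkey]

end IsConf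

end Groth.Agent.Helper15.Strat
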