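import Mathlib

/-!
# A decreasing sequence of quasi-compact opens of a spectral space with empty intersection is
eventually empty
-/

set_option autoImplicit false
universe u
open TopologicalSpace Topology

namespace Groth.Agent.Helper15.Strat

theorem exists_eq_empty_of_iInter_eq_empty {X : Type u} [TopologicalSpace X] [CompactSpace X]
    [QuasiSober X] [PrespectralSpace X] [QuasiSeparatedSpace X] (O : ℕ → Set X)
    (hopen : ∀ n, IsOpen (O n)) (hcomp : ∀ n, IsCompact (O n)) (hanti : Antitone O)
    (hinter : ∀ x : X, ∃ n, x ∉ O n) : ∃ n, O n = ∅ := by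
  let s : ℕ → Set (WithConstructibleTopology X) := fun n => WithTopology.ofTopology ⁻¹' (O n)ᶜ
  have hs : ∀ n, IsOpen (s n) := by
    intro n
    rw [WithConstructibleTopology.isOpen_iff]
    change IsOpen[constructibleTopology X] (O n)ᶜ
    apply IsCompact.isOpen_constructibleTopology_of_isClosed
    · rw [compl_compl]; exact hcomp n
    · exact (hopen n).isClosed_compl
  have hcov : (Set.univ : Set (WithConstructibleTopology X)) ⊆ ⋃ n, s n := by
    intro x _
    obtain ⟨n, hn⟩ := hinter (WithTopology.ofTopology x)
    exact Set.mem_iUnion.2 ⟨n, hn⟩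
  obtain ⟨F, hF⟩ := isCompact_univ.elim_finite_subcover s hs hcov
  refine ⟨F.sup id, ?_⟩
  rw [Set.eq_empty_iff_forall_notMem]
  intro x hx
  have := hF (Set.mem_univ (WithTopology.toTopology _ x))
  rw [Set.mem_iUnion₂] at this
  obtain ⟨n, hnF, hn⟩ := this
  apply hn
  change x ∈ O n
  exact hanti (Finset.le_sup (f := id) hnF) hx

end Groth.Agent.Helper15.Strat
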