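import Mathlib
import Groth.Agent.Lib.Helper15.Strat3
import Groth.Agent.Lib.Helper15.StratTop
import Groth.Agent.Lib.Helper15.ValExist

/-!
# Stratification of quasi-compact quasi-separated algebraic spaces, IV: the configuration spaces
are eventually empty
-/

set_option autoImplicit false
universe u
open CategoryTheory CategoryTheory.Limits AlgebraicGeometry MorphismProperty Opposite
open AlgSp

namespace Groth.Agent.Helper15.Strat

open Groth.Agent.Helper15

/-- The number of points of a quasi-compact scheme etale over a field `k` with values in a field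
extension of `k` is bounded independently of the extension. -/
theorem exists_bound_points {k : Type u} [Field k] {Z : Scheme.{u}} [CompactSpace Z]
    (f : Z ⟶ Spec (CommRingCat.of k)) [Etale f] :
    ∃ N : ℕ, ∀ (K : Type u) [Field K] (m : Spec (CommRingCat.of K) ⟶ Spec (CommRingCat.of k))
      (n : ℕ) (z : Fin n → (Spec (CommRingCat.of K) ⟶ Z)), (∀ i, z i ≫ f = m) →
      Function.Injective z → n ≤ N := by
  haveI : LocallyQuasiFinite f := locallyQuasiFinite_of_etale f
  haveI : DiscreteTopology Z := discreteTopology_of_etale_over_field f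
  haveI : Finite Z := finite_of_compact_of_discrete
  haveI : IsAffine Z := inferInstance
  let φ : CommRingCat.of k ⟶ Γ(Z, ⊤) := (Scheme.ΓSpecIso (CommRingCat.of k)).inv ≫ f.appTop
  have hφ : Z.toSpecΓ ≫ Spec.map φ = f := by
    rw [Spec.map_comp, ← Category.assoc, ← Scheme.toSpecΓ_naturality, Category.assoc,
      toSpecΓ_SpecMap_ΓSpecIso_inv, Category.comp_id]
  have hφe : Etale (Spec.map φ) := by
    have : Etale (Z.toSpecΓ ≫ Spec.map φ) := by rw [hφ]; infer_instance
    exact (MorphismProperty.cancel_left_of_respectsIso @Etale Z.toSpecΓ (Spec.map φ)).1 this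
  have hφe' : φ.hom.Etale := (HasRingHomProperty.Spec_iff (P := @Etale)).1 hφe
  letI : Algebra k Γ(Z, ⊤) := φ.hom.toAlgebra
  haveI : Algebra.Etale k Γ(Z, ⊤) := hφe'
  haveI : Module.Finite k Γ(Z, ⊤) := Algebra.FormallyUnramified.finite_of_free k Γ(Z, ⊤)
  refine ⟨Module.finrank k Γ(Z, ⊤), ?_⟩
  intro K _ m n z hz hinj
  let μ : CommRingCat.of k ⟶ CommRingCat.of K := Spec.preimage m
  have hμ : Spec.map μ = m := Spec.map_preimage m
  letI : Algebra k K := μ.hom.toAlgebra
  let ψ : Fin n → (Γ(Z, ⊤) →ₐ[k] K) := fun i =>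
    { toRingHom := ((z i).appTop ≫ (Scheme.ΓSpecIso (CommRingCat.of K)).hom).hom
      commutes' := by
        intro r
        have h1 : φ ≫ (z i).appTop ≫ (Scheme.ΓSpecIso (CommRingCat.of K)).hom = μ := by
          change ((Scheme.ΓSpecIso (CommRingCat.of k)).inv ≫ f.appTop) ≫ (z i).appTop ≫ _ = μ
          rw [Category.assoc, ← Category.assoc f.appTop, ← Scheme.Hom.comp_appTop, hz i, ← hμ,
            Scheme.ΓSpecIso_naturality, Iso.inv_hom_id_assoc]
        exact congrArg (fun g => g.hom r) h1 }
  have hψ : Function.Injective ψ := by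
    intro i i' hii
    apply hinj
    apply QuotFree.eq_of_appTop_eq
    have h2 : ((z i).appTop ≫ (Scheme.ΓSpecIso (CommRingCat.of K)).hom).hom =
        ((z i').appTop ≫ (Scheme.ΓSpecIso (CommRingCat.of K)).hom).hom :=
      congrArg (fun g : Γ(Z, ⊤) →ₐ[k] K => g.toRingHom) hii
    have h3 : (z i).appTop ≫ (Scheme.ΓSpecIso (CommRingCat.of K)).hom =
        (z i').appTop ≫ (Scheme.ΓSpecIso (CommRingCat.of K)).hom := CommRingCat.hom_ext h2
    exact (cancel_mono _).1 h3
  have h4 := Nat.card_le_card_of_injective ψ hψ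
  rw [Nat.card_eq_fintype_card, Fintype.card_fin] at h4
  exact h4.trans (card_algHom_le_finrank k Γ(Z, ⊤) K)

variable {S : Scheme.{u}} {X : Sp S} {U : Over S} {p : (yon S).obj U ⟶ X}

/-- Over a given point of the chart, the number of distinct points of the chart over the same point
of `X` is bounded. -/
theorem exists_bound_at (hqs : IsQuasiSeparatedSp X) (hpe : RepWith @Etale p)
    (hUq : QuasiCompact U.hom) (u : U.left) :
    ∃ N : ℕ, ∀ (n : ℕ) (W : Over S) (pr : Fin (n + 1) → (W ⟶ U)), IsConf p n W pr →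
      ∀ w : W.left, (pr 0).left w = u → n + 1 ≤ N := by
  let T₀ := resPt U u
  let ιu : T₀ ⟶ U := resι U u
  let x : (yon S).obj T₀ ⟶ X := (yon S).map ιu ≫ p
  have hrep := hpe.rep
  let Z := hrep.pullback x
  let z₁ : Z ⟶ U := hrep.fst' x
  let z₂ : Z ⟶ T₀ := hrep.snd x
  have sq : IsPullback ((yon S).map z₁) ((yon S).map z₂) p x := hrep.isPullback' x
  haveI hz₂e : Etale z₂.left := hpe.property_snd x
  haveI : CompactSpace T₀.left := (inferInstance : CompactSpace (Spec (U.left.residueField u)))
  haveI hZc : CompactSpace Z.left :=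
    QcLocal.compactSpace_pullback_of_isQuasiSeparatedSp hqs hUq p x z₁ z₂ sq
  let f₀ : Z.left ⟶ Spec (CommRingCat.of (U.left.residueField u)) := z₂.left
  haveI : Etale f₀ := hz₂e
  obtain ⟨N, hN⟩ := exists_bound_points (k := U.left.residueField u) (Z := Z.left) f₀
  refine ⟨N, ?_⟩
  rintro n W pr hW w rfl
  let T₁ := resPt W w
  let ιw : T₁ ⟶ W := resι W w
  let m : T₁ ⟶ T₀ := Over.homMk (Spec.map ((pr 0).left.residueFieldMap w)) (by
    change Spec.map ((pr 0).left.residueFieldMap w) ≫
      U.left.fromSpecResidueField ((pr 0).left w) ≫ U.hom = W.left.fromSpecResidueField w ≫ W.hom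
    rw [← Category.assoc, Scheme.Hom.SpecMap_residueFieldMap_fromSpecResidueField, Category.assoc,
      CategoryTheory.Over.w])
  have hm : m ≫ ιu = ιw ≫ pr 0 := by
    ext
    exact Scheme.Hom.SpecMap_residueFieldMap_fromSpecResidueField _ _
  have hw : ∀ i, (yon S).map (ιw ≫ pr i) ≫ p = (yon S).map m ≫ x := by
    intro i
    change _ = (yon S).map m ≫ (yon S).map ιu ≫ p
    rw [← Category.assoc, ← Functor.map_comp, hm, Functor.map_comp, Functor.map_comp,
      Category.assoc, Category.assoc, hW.compat i 0]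
  choose z hz using fun i => (yon S).map_surjective (sq.lift _ _ (hw i))
  have hz1 : ∀ i, z i ≫ z₁ = ιw ≫ pr i := by
    intro i
    apply (yon S).map_injective
    rw [Functor.map_comp, hz, sq.lift_fst]
  have hz2 : ∀ i, z i ≫ z₂ = m := by
    intro i
    apply (yon S).map_injective
    rw [Functor.map_comp, hz, sq.lift_snd]
  refine hN (W.left.residueField w) m.left (n + 1) (fun i => (z i).left)
    (fun i => congrArg (fun f => f.left) (hz2 i)) ?_
  intro i i' hii
  by_contra hne
  have h1 : z i = z i' := by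
    ext
    exact hii
  have h2 : ιw ≫ pr i = ιw ≫ pr i' := by rw [← hz1, ← hz1, h1]
  have := hW.distinct i i' hne T₁ ιw h2
  exact this.false (Classical.arbitrary _)

/-- **The configuration spaces are eventually empty.** -/
theorem exists_isEmpty_conf (hX : IsAlgSpace X) (hqs : IsQuasiSeparatedSp X)
    (hpe : RepWith @Etale p) (hU : IsSeparated U.hom) (hUq : QuasiCompact U.hom)
    [IsAffine U.left] :
    ∃ n : ℕ, ∀ (W : Over S) (pr : Fin (n + 1) → (W ⟶ U)), IsConf p n W pr → IsEmpty W.left := by
  choose W pr hW using fun n => exists_isConf p hX hqs hpe hU hUq n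
  let O : ℕ → Set U.left := fun n => Set.range (pr n 0).left
  have hopen : ∀ n, IsOpen (O n) := by
    intro n
    haveI := (hW n).etale
    exact (pr n 0).left.isOpenMap.isOpen_range
  have hcomp : ∀ n, IsCompact (O n) := by
    intro n
    haveI := (hW n).compact
    exact isCompact_range (pr n 0).left.continuous
  have hanti : Antitone O := by
    apply antitone_nat_of_succ_le
    intro n
    obtain ⟨m, hm⟩ := (hW n).exists_forget (hW (n + 1))
    rintro _ ⟨w, rfl⟩
    refine ⟨m.left w, ?_⟩
    rw [← Scheme.Hom.comp_apply, ← Over.comp_left, hm 0, Fin.castSucc_zero]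
  have hinter : ∀ u : U.left, ∃ n, u ∉ O n := by
    intro u
    obtain ⟨N, hN⟩ := exists_bound_at hqs hpe hUq u
    refine ⟨N, ?_⟩
    rintro ⟨w, hw⟩
    have := hN N (W N) (pr N) (hW N) w hw
    omega
  obtain ⟨n, hn⟩ := exists_eq_empty_of_iInter_eq_empty O hopen hcomp hanti hinter
  refine ⟨n, fun W' pr' hW' => ?_⟩
  have hempty : IsEmpty (W n).left := Set.range_eq_empty_iff.1 hn
  obtain ⟨l, -⟩ := (hW n).lift W' pr' hW'.compat hW'.distinct
  exact Function.isEmpty l.left

end Groth.Agent.Helper15.Strat
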