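import Mathlib
import Groth.Agent.Lib.Helper15.Strat4
import Groth.Agent.Lib.Helper15.FiniteNear
import Groth.Agent.Lib.Helper15.AlgSpCD2

/-!
# Stratification of quasi-compact quasi-separated algebraic spaces, V: one stage
-/

set_option autoImplicit false
universe u
open CategoryTheory CategoryTheory.Limits AlgebraicGeometry MorphismProperty Opposite
open AlgSp

namespace Groth.Agent.Helper15.Strat

open Groth.Agent.Helper15

variable {S : Scheme.{u}} {X : Sp S} {U : Over S} {p : (yon S).obj U ⟶ X}

/-- The map on points induced by an open immersion is injective. -/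
theorem points_map_injective_of_isOpenImmersion {X' : Sp S} (hX : IsAlgSpace X) (j : X' ⟶ X)
    (hj : RepWith @IsOpenImmersion j) : Function.Injective (Points.map j) :=
  (isEmbedding_points_of_immersion hX j (repWith_mono isOpenImmersion_le_isImmersion hj)).1.injective

/-- **One stage of the stratification.** -/
theorem exists_stage (hX : IsAlgSpace X) (hpe : RepWith @Etale p) (hU : IsSeparated U.hom)
    [IsAffine U.left] {n : ℕ} {W : Over S} {pr : Fin (n + 1) → (W ⟶ U)} (hW : IsConf p n W pr)
    {W' : Over S} {pr' : Fin (n + 2) → (W' ⟶ U)} (hW' : IsConf p (n + 1) W' pr')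
    {Uo : Sp S} (j : Uo ⟶ X) (hj : RepWith @IsOpenImmersion j)
    (hjr : Set.range (Points.map j) = Set.range (Points.ofPt hW.g))
    {Uo' : Sp S} (j' : Uo' ⟶ X)
    (hjr' : Set.range (Points.map j') = Set.range (Points.ofPt hW'.g))
    (k : Uo' ⟶ Uo) (hk : k ≫ j = j') {T : Sp S} (i : T ⟶ Uo)
    (hi : IsRedInduced (Set.range (Points.map k))ᶜ i) :
    ∃ (V : Over S) (f : (yon S).obj V ⟶ Uo), V.left.IsSeparated ∧ CompactSpace V.left ∧
      RepWith @Etale f ∧ RepWith @Surjective f ∧
      ∀ (P : Sp S) (fst : P ⟶ T) (snd : P ⟶ (yon S).obj V), IsPullback fst snd i f → IsIso fst := by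
  obtain ⟨V, π, hQ⟩ := hW.exists_isQuot
  obtain ⟨f₀, hf₀, hf₀e⟩ := hQ.exists_chart hX hpe
  haveI : Mono j := mono_of_repWith isOpenImmersion_le_mono j hj
  have hjinj := points_map_injective_of_isOpenImmersion hX j hj
  -- points of the chart
  have hpt : ∀ w : W.left, Points.ofPt f₀ (π.left w) = Points.ofPt hW.g w := by
    intro w
    rw [← hf₀, ofPt_comp_yon_map]
  obtain ⟨f, hf⟩ := (factors_through_open_iff j hj f₀).2 (by
    rintro _ ⟨y, rfl⟩
    obtain ⟨v, rfl⟩ := (Points.schemeEquiv V).surjective y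
    obtain ⟨w, rfl⟩ := hQ.surj.surj v
    rw [hjr]
    refine ⟨w, ?_⟩
    rw [← hpt]
    exact Points.ofPt_eq_map_ofScheme f₀ _)
  have hfe : RepWith @Etale f := repWith_of_comp_mono f j (by rw [hf]; exact hf₀e)
  have hfs : RepWith @Surjective f := by
    apply repWith_surjective_of_isSurjectiveMor f hfe.rep
    intro y
    have hy : Points.map j y ∈ Set.range (Points.ofPt hW.g) := by
      rw [← hjr]; exact ⟨y, rfl⟩
    obtain ⟨w, hw⟩ := hy
    refine ⟨Points.ofScheme V (π.left w), ?_⟩
    apply hjinj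
    rw [← Points.ofPt_eq_map_ofScheme, Points.map_ofPt, hf, hpt, hw]
  refine ⟨V, f, hQ.sep, hQ.compact, hfe, hfs, ?_⟩
  intro P fst snd sq
  have hfste : RepWith @Etale fst := (RepWith @Etale).of_isPullback sq.flip hfe
  have hfsts : RepWith @Surjective fst := (RepWith @Surjective).of_isPullback sq.flip hfs
  haveI : Mono fst := by
    apply mono_of_yon
    intro T₁ a b hab
    obtain ⟨α, hα⟩ := (yon S).map_surjective (a ≫ snd)
    obtain ⟨β, hβ⟩ := (yon S).map_surjective (b ≫ snd)
    have hαf : (yon S).map α ≫ f₀ = a ≫ fst ≫ i ≫ j := by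
      rw [hα, ← hf, Category.assoc, ← Category.assoc snd, ← sq.w, Category.assoc]
    have hβf : (yon S).map β ≫ f₀ = a ≫ fst ≫ i ≫ j := by
      rw [hβ, ← hf, Category.assoc, ← Category.assoc snd, ← sq.w, Category.assoc,
        ← Category.assoc b, ← hab, Category.assoc]
    have hαβ : α = β := by
      refine hQ.eq_of_chart_eq hX hpe hU hW' f₀ hf₀ α β (hαf.trans hβf.symm) ?_
      intro t ht
      rw [hαf, ← hjr', ← hk] at ht
      obtain ⟨z', hz'⟩ := ht
      have h1 : Points.ofPt (a ≫ fst ≫ i ≫ j) t =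
          Points.map j (Points.map i (Points.ofPt (a ≫ fst) t)) := by
        rw [Points.map_ofPt, Points.map_ofPt]
        simp only [Category.assoc]
      rw [h1, Points.map_comp] at hz'
      have h2 := hjinj hz'
      have h3 : Points.map i (Points.ofPt (a ≫ fst) t) ∈ (Set.range (Points.map k))ᶜ := by
        rw [← hi.2.1]; exact ⟨_, rfl⟩
      exact h3 ⟨z', h2⟩
    apply sq.hom_ext hab
    rw [← hα, ← hβ, hαβ]
  have hfsto : RepWith @IsOpenImmersion fst := repWith_isOpenImmersion_of_etale_mono fst hfste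
  exact isIso_of_repWith_isOpenImmersion_surjective fst hfsto hfsts

end Groth.Agent.Helper15.Strat
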