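import Mathlib
import Groth.Agent.Lib.Helper15.Strat5
import Groth.Agent.Lib.Helper15.AlgSpTop

/-!
# Stratification of quasi-compact quasi-separated algebraic spaces, VI: the filtration by charts
-/

set_option autoImplicit false
universe u
open CategoryTheory CategoryTheory.Limits AlgebraicGeometry MorphismProperty Opposite
open AlgSp

namespace Groth.Agent.Helper15.Strat

open Groth.Agent.Helper15

variable {S : Scheme.{u}}

/-- **Filtration of a quasi-compact quasi-separated algebraic space by charts**: a decreasing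
sequence of subsets `Ω n` of the points, from everything to nothing, each the image of an etale
chart from a quasi-compact separated scheme `V n`, the chart being injective on families of points
that avoid `Ω (n + 1)`. -/
theorem exists_filtration [QuasiSeparatedSpace ↥S] {X : Sp S} (hX : IsAlgSpace X)
    (hqc : IsQuasiCompactSp X) (hqs : IsQuasiSeparatedSp X) :
    ∃ (N : ℕ) (Ω : ℕ → Set (Points X)) (V : ℕ → Over S) (f : ∀ n, (yon S).obj (V n) ⟶ X),
      Ω 0 = Set.univ ∧ Ω N = ∅ ∧ (∀ n, Ω (n + 1) ⊆ Ω n) ∧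
      (∀ n, (V n).left.IsSeparated ∧ CompactSpace (V n).left ∧ RepWith @Etale (f n) ∧
        Set.range (Points.ofPt (f n)) = Ω n) ∧
      ∀ n (T : Over S) (α β : T ⟶ V n), (yon S).map α ≫ f n = (yon S).map β ≫ f n →
        (∀ t : T.left, Points.ofPt ((yon S).map α ≫ f n) t ∉ Ω (n + 1)) → α = β := by
  classical
  obtain ⟨U, p, hUaff, hpe, hps⟩ := exists_affine_chart_of_isQuasiCompactSp hqc
  haveI := hUaff
  have hU : IsSeparated U.hom := inferInstance
  have hUq : QuasiCompact U.hom := quasiCompact_of_compactSpace _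
  choose W pr hW using fun n => exists_isConf p hX hqs hpe hU hUq n
  choose V π hQ using fun n => (hW n).exists_isQuot
  choose f hf hfe using fun n => (hQ n).exists_chart hX hpe
  obtain ⟨N, hN⟩ := exists_isEmpty_conf hX hqs hpe hU hUq
  have hpt : ∀ n (w : (W n).left), Points.ofPt (f n) ((π n).left w) = Points.ofPt (hW n).g w := by
    intro n w
    rw [← hf, ofPt_comp_yon_map]
  refine ⟨N, fun n => Set.range (Points.ofPt (hW n).g), V, f, ?_, ?_, ?_, ?_, ?_⟩
  · -- everything
    apply Set.eq_univ_of_forall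
    intro x
    obtain ⟨u, rfl⟩ := surjective_ofPt p hps x
    obtain ⟨l, hl⟩ := (hW 0).lift U (fun _ => 𝟙 U) (fun _ _ => rfl)
      (fun a b hab => absurd ((Fin.eq_zero a).trans (Fin.eq_zero b).symm) hab)
    refine ⟨l.left u, ?_⟩
    rw [← ofPt_comp_yon_map]
    congr 1
    unfold IsConf.g
    rw [← Category.assoc, ← Functor.map_comp, hl 0, CategoryTheory.Functor.map_id,
      Category.id_comp]
  · -- nothing
    apply Set.eq_empty_of_forall_notMem
    rintro _ ⟨w, -⟩
    exact (hN (W N) (pr N) (hW N)).false w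
  · -- decreasing
    intro n
    obtain ⟨m, hm⟩ := (hW n).exists_forget (hW (n + 1))
    rintro _ ⟨w, rfl⟩
    refine ⟨m.left w, ?_⟩
    rw [← ofPt_comp_yon_map]
    congr 1
    unfold IsConf.g
    rw [← Category.assoc, ← Functor.map_comp, hm 0, Fin.castSucc_zero]
  · intro n
    refine ⟨(hQ n).sep, (hQ n).compact, hfe n, ?_⟩
    ext x
    constructor
    · rintro ⟨v, rfl⟩
      obtain ⟨w, rfl⟩ := (hQ n).surj.surj v
      exact ⟨w, (hpt n w).symm⟩
    · rintro ⟨w, rfl⟩
      exact ⟨(π n).left w, hpt n w⟩
  · intro n T α β hαβ havoid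
    exact (hQ n).eq_of_chart_eq hX hpe hU (hW (n + 1)) (f n) (hf n) α β hαβ havoid

end Groth.Agent.Helper15.Strat
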