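import Mathlib
import Groth.Agent.Lib.Helper15.Strat6
import Groth.Agent.Lib.Helper15.AlgSpRepSrc
import Groth.Agent.Lib.Helper15.AlgSpEtCl

/-!
# Elementary distinguished squares from charts injective off an open subspace
-/

set_option autoImplicit false
universe u
open CategoryTheory CategoryTheory.Limits AlgebraicGeometry MorphismProperty Opposite
open AlgSp

namespace Groth.Agent.Helper15.Strat

open Groth.Agent.Helper15

variable {S : Scheme.{u}}

/-- The source of a representable open immersion into an algebraic space is an algebraic space. -/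
theorem isAlgSpace_of_isOpenImmersion {X W : Sp S} (hX : IsAlgSpace X) (j : W ⟶ X)
    (hj : RepWith @IsOpenImmersion j) : IsAlgSpace W :=
  isAlgSpace_of_representable j hj.rep hX

/-- The range on points of an open immersion is open. -/
theorem isOpen_range_map {X W : Sp S} (hX : IsAlgSpace X) (j : W ⟶ X)
    (hj : RepWith @IsOpenImmersion j) : IsOpen (Set.range (Points.map j)) :=
  Norm.isOpen_range_of_isOpenImmersion hX j hj

/-- **Elementary distinguished squares from charts.**  Let `W₁ ⊂ W₂` be open subspaces of an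
algebraic space `X` and `f : A ⟶ W₂` a map from a scheme, etale, such that `W₂` is covered by
`W₁` and the image of `A`, and such that `A ⟶ X` is injective on families of points avoiding
`W₁`.  Then `(W₁ ⊂ W₂, A ⟶ W₂)` is an elementary distinguished square. -/
theorem isElemDistSq_of_injOn {X : Sp S} (hX : IsAlgSpace X) {W₁ W₂ : Sp S} (j₁ : W₁ ⟶ X)
    (j₂ : W₂ ⟶ X) (hj₁ : RepWith @IsOpenImmersion j₁) (hj₂ : RepWith @IsOpenImmersion j₂)
    (k : W₁ ⟶ W₂) (hk : k ≫ j₂ = j₁) {A : Over S} (f : (yon S).obj A ⟶ W₂)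
    (hfe : RepWith @Etale (f ≫ j₂))
    (hcov : Set.range (Points.map j₂) ⊆
      Set.range (Points.map j₁) ∪ Set.range (Points.ofPt (f ≫ j₂)))
    (hinj : ∀ (T : Over S) (α β : T ⟶ A),
      (yon S).map α ≫ f ≫ j₂ = (yon S).map β ≫ f ≫ j₂ →
      (∀ t : T.left, Points.ofPt ((yon S).map α ≫ f ≫ j₂) t ∉ Set.range (Points.map j₁)) →
      α = β) :
    IsElemDistSq k f := by
  haveI : Mono j₂ := mono_of_repWith isOpenImmersion_le_mono j₂ hj₂
  have hW₂ : IsAlgSpace W₂ := isAlgSpace_of_isOpenImmersion hX j₂ hj₂
  have hj₂inj := points_map_injective_of_isOpenImmersion hX j₂ hj₂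
  have hko : RepWith @IsOpenImmersion k := repWith_of_comp_mono k j₂ (by rw [hk]; exact hj₁)
  have hfe' : RepWith @Etale f := repWith_of_comp_mono f j₂ hfe
  obtain ⟨T, i, hT, hi⟩ := exists_isRedInduced hW₂ (Set.range (Points.map k))ᶜ
    (isOpen_range_map hW₂ k hko).isClosed_compl
  have sq : IsPullback (pullback.fst i f) (pullback.snd i f) i f := IsPullback.of_hasPullback _ _
  refine ⟨hko, isEtaleMor_of_repWith_etale f hfe', T, pullback i f, i, pullback.fst i f,
    pullback.snd i f, hi, sq, ?_⟩
  set fst := pullback.fst i f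
  set snd := pullback.snd i f
  have hfste : RepWith @Etale fst := (RepWith @Etale).of_isPullback sq.flip hfe'
  have hfsts : RepWith @Surjective fst := by
    apply repWith_surjective_of_isSurjectiveMor fst hfste.rep
    intro z
    have hz : Points.map i z ∈ (Set.range (Points.map k))ᶜ := by
      rw [← hi.2.1]; exact ⟨z, rfl⟩
    have hz2 : Points.map j₂ (Points.map i z) ∈ Set.range (Points.map j₂) := ⟨_, rfl⟩
    rcases hcov hz2 with ⟨w, hw⟩ | ⟨t, ht⟩
    · exfalso
      apply hz
      refine ⟨w, hj₂inj ?_⟩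
      rw [← Points.map_comp, hk, hw]
    · have ht' : Points.map f (Points.ofScheme A t) = Points.map i z := by
        apply hj₂inj
        rw [← ht, ← Points.ofPt_eq_map_ofScheme, Points.map_ofPt]
      obtain ⟨q, hq1, -⟩ := exists_point_of_isPullback sq z (Points.ofScheme A t) ht'.symm
      exact ⟨q, hq1⟩
  haveI : Mono fst := by
    apply mono_of_yon
    intro T₁ a b hab
    obtain ⟨α, hα⟩ := (yon S).map_surjective (a ≫ snd)
    obtain ⟨β, hβ⟩ := (yon S).map_surjective (b ≫ snd)
    have hαf : (yon S).map α ≫ f ≫ j₂ = a ≫ fst ≫ i ≫ j₂ := by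
      rw [hα, Category.assoc, ← Category.assoc snd, ← sq.w, Category.assoc]
    have hβf : (yon S).map β ≫ f ≫ j₂ = a ≫ fst ≫ i ≫ j₂ := by
      rw [hβ, Category.assoc, ← Category.assoc snd, ← sq.w, Category.assoc,
        ← Category.assoc b, ← hab, Category.assoc]
    have hαβ : α = β := by
      refine hinj T₁ α β (hαf.trans hβf.symm) ?_
      intro t ht
      rw [hαf, ← hk] at ht
      obtain ⟨z', hz'⟩ := ht
      have h1 : Points.ofPt (a ≫ fst ≫ i ≫ j₂) t =
          Points.map j₂ (Points.map i (Points.ofPt (a ≫ fst) t)) := by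
        rw [Points.map_ofPt, Points.map_ofPt]
        simp only [Category.assoc]
      rw [h1, Points.map_comp] at hz'
      have h2 := hj₂inj hz'
      have h3 : Points.map i (Points.ofPt (a ≫ fst) t) ∈ (Set.range (Points.map k))ᶜ := by
        rw [← hi.2.1]; exact ⟨_, rfl⟩
      exact h3 ⟨z', h2⟩
    apply sq.hom_ext hab
    rw [← hα, ← hβ, hαβ]
  have hfsto : RepWith @IsOpenImmersion fst := repWith_isOpenImmersion_of_etale_mono fst hfste
  exact isIso_of_repWith_isOpenImmersion_surjective fst hfsto hfsts

end Groth.Agent.Helper15.Strat
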