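import Mathlib
import Groth.Agent.Lib.Helper15.Strat7

/-!
# The induction principle for open subspaces of a quasi-compact quasi-separated algebraic space
-/

set_option autoImplicit false
universe u
open CategoryTheory CategoryTheory.Limits AlgebraicGeometry MorphismProperty Opposite
open AlgSp

namespace Groth.Agent.Helper15.Strat

open Groth.Agent.Helper15

variable {S : Scheme.{u}}

/-- An open subspace with quasi-compact set of points is quasi-compact. -/
theorem isQuasiCompactSp_of_isCompact_range {X W : Sp S} (hX : IsAlgSpace X) (j : W ⟶ X)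
    (hj : RepWith @IsOpenImmersion j) (h : IsCompact (Set.range (Points.map j))) :
    IsQuasiCompactSp W := by
  have hW : IsAlgSpace W := isAlgSpace_of_isOpenImmersion hX j hj
  have hemb := (isEmbedding_points_of_immersion hX j
    (repWith_mono isOpenImmersion_le_isImmersion hj)).1
  rw [isQuasiCompactSp_iff_compactSpace_points hW, ← isCompact_univ_iff, hemb.isCompact_iff,
    Set.image_univ]
  exact h

/-- The set of points of a quasi-compact subspace is quasi-compact. -/
theorem isCompact_range_of_isQuasiCompactSp {X W : Sp S} (j : W ⟶ X)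
    (h : IsQuasiCompactSp W) : IsCompact (Set.range (Points.map j)) := by
  haveI := compactSpace_points_of_isQuasiCompactSp h
  exact isCompact_range (Points.continuous_map j)

/-- The points of the image of a scheme are the images of its points. -/
theorem range_map_yon {F : Sp S} {A : Over S} (a : (yon S).obj A ⟶ F) :
    Set.range (Points.map a) = Set.range (Points.ofPt a) := by
  ext x
  constructor
  · rintro ⟨y, rfl⟩
    obtain ⟨t, rfl⟩ := (Points.schemeEquiv A).surjective y
    exact ⟨t, Points.ofPt_eq_map_ofScheme a t⟩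
  · rintro ⟨t, rfl⟩
    exact ⟨Points.ofScheme A t, (Points.ofPt_eq_map_ofScheme a t).symm⟩

/-- Every algebraic space has an etale chart from the empty affine scheme. -/
theorem exists_empty_affine_chart {X : Sp S} (hX : IsAlgSpace X) :
    ∃ (A : Over S) (a : (yon S).obj A ⟶ X), IsAffine A.left ∧ IsEmpty A.left ∧
      RepWith @Etale a := by
  obtain ⟨U, p, hpe, -⟩ := hX.atlas
  let A : Over S := Over.mk ((⊥ : U.left.Opens).ι ≫ U.hom)
  let ι : A ⟶ U := Over.homMk (⊥ : U.left.Opens).ι rfl
  have hι : Etale ι.left := (inferInstance : Etale (⊥ : U.left.Opens).ι)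
  refine ⟨A, (yon S).map ι ≫ p, (isAffineOpen_bot U.left : IsAffine _), ?_,
    (RepWith @Etale).comp_mem _ _ ((repWith_yon_map_iff _ ι).2 hι) hpe⟩
  change IsEmpty ((⊥ : U.left.Opens) : Set U.left)
  simp


/-- Morphisms from a scheme with no points into a scheme over `S` agree. -/
theorem over_hom_ext_of_isEmpty {T A : Over S} [IsEmpty T.left] (α β : T ⟶ A) : α = β :=
  Over.OverMorphism.ext (isInitialOfIsEmpty.hom_ext _ _)

section Induction

variable [QuasiSeparatedSpace ↥S] (X : AlgSp.Space S)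
  (P : ∀ U : AlgSp.Space S, (U ⟶ X) → Prop)
  (W : AlgSp.Space S) (jW : W ⟶ X)

/-- `P` holds for all open subspaces of `X` with set of points `Ω`. -/
def Good (Ω : Set (Points X.obj)) : Prop :=
  ∀ (W' : AlgSp.Space S) (j' : W' ⟶ X), RepWith @IsOpenImmersion j'.hom →
    Set.range (Points.map j'.hom) = Ω → P W' j'

variable {X P W jW}

/-- One step: enlarging an open subspace by the image of an affine chart injective off it. -/
theorem good_union_of_pred
    (h2 : ∀ (W₁ W₂ V : AlgSp.Space S) (j₁ : W₁ ⟶ X) (j₂ : W₂ ⟶ X) (k : W₁ ⟶ W₂) (m : W ⟶ W₁)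
      (f : V ⟶ W₂),
      AlgSp.RepWith @IsOpenImmersion j₁.hom → AlgSp.RepWith @IsOpenImmersion j₂.hom →
      k ≫ j₂ = j₁ → m ≫ j₁ = jW →
      AlgSp.IsQuasiCompactSp W₁.obj → AlgSp.IsQuasiCompactSp W₂.obj →
      (∃ T : Over S, IsAffine T.left ∧ Nonempty ((AlgSp.yon S).obj T ≅ V.obj)) →
      AlgSp.IsElemDistSq k.hom f.hom → P W₁ j₁ → P W₂ j₂)
    (W₁ : AlgSp.Space S) (j₁ : W₁ ⟶ X) (hj₁ : RepWith @IsOpenImmersion j₁.hom)
    (hc₁ : IsCompact (Set.range (Points.map j₁.hom)))
    (hsub : Set.range (Points.map jW.hom) ⊆ Set.range (Points.map j₁.hom))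
    (A : Over S) [IsAffine A.left] (a : (yon S).obj A ⟶ X.obj) (hae : RepWith @Etale a)
    (hinj : ∀ (T : Over S) (α β : T ⟶ A), (yon S).map α ≫ a = (yon S).map β ≫ a →
      (∀ t : T.left, Points.ofPt ((yon S).map α ≫ a) t ∉ Set.range (Points.map j₁.hom)) → α = β)
    (hP : P W₁ j₁) :
    Good X P (Set.range (Points.map j₁.hom) ∪ Set.range (Points.ofPt a)) := by
  intro W₂ j₂ hj₂ hr₂
  have hX := X.property
  haveI : Mono j₂.hom := mono_of_repWith isOpenImmersion_le_mono _ hj₂
  haveI : Mono j₁.hom := mono_of_repWith isOpenImmersion_le_mono _ hj₁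
  obtain ⟨k, hk⟩ := (factors_through_open_iff j₂.hom hj₂ j₁.hom).2 (by
    rw [hr₂]; exact Set.subset_union_left)
  obtain ⟨m, hm⟩ := (factors_through_open_iff j₁.hom hj₁ jW.hom).2 hsub
  obtain ⟨f, hf⟩ := (factors_through_open_iff j₂.hom hj₂ a).2 (by
    rw [hr₂, range_map_yon]; exact Set.subset_union_right)
  have hqc₁ : IsQuasiCompactSp W₁.obj := isQuasiCompactSp_of_isCompact_range hX j₁.hom hj₁ hc₁
  have hqc₂ : IsQuasiCompactSp W₂.obj := by
    apply isQuasiCompactSp_of_isCompact_range hX j₂.hom hj₂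
    rw [hr₂]
    exact hc₁.union (isCompact_range (Points.continuous_ofPt a))
  refine h2 W₁ W₂ ((AlgSp.ofScheme S).obj A) j₁ j₂ (ObjectProperty.homMk k)
    (ObjectProperty.homMk m) (ObjectProperty.homMk f) hj₁ hj₂ (ObjectProperty.hom_ext _ hk)
    (ObjectProperty.hom_ext _ hm) hqc₁ hqc₂ ⟨A, inferInstance, ⟨Iso.refl _⟩⟩ ?_ hP
  refine isElemDistSq_of_injOn hX j₁.hom j₂.hom hj₁ hj₂ k hk f (by rw [hf]; exact hae) ?_ ?_
  · rw [hr₂, hf]
  · intro T α β hαβ havoid
    rw [hf] at hαβ havoid
    exact hinj T α β hαβ havoid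


/-- **Induction principle for enlarging open subspaces** of a quasi-compact quasi-separated
algebraic space along elementary distinguished squares with affine etale part. -/
theorem openSubspace_induction
    (hXc : AlgSp.IsQuasiCompactSp X.obj) (hXs : AlgSp.IsQuasiSeparatedSp X.obj)
    (hjW : AlgSp.RepWith @IsOpenImmersion jW.hom)
    (hWc : AlgSp.IsQuasiCompactSp W.obj) (h1 : P W jW)
    (h2 : ∀ (W₁ W₂ V : AlgSp.Space S) (j₁ : W₁ ⟶ X) (j₂ : W₂ ⟶ X) (k : W₁ ⟶ W₂) (m : W ⟶ W₁)
      (f : V ⟶ W₂),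
      AlgSp.RepWith @IsOpenImmersion j₁.hom → AlgSp.RepWith @IsOpenImmersion j₂.hom →
      k ≫ j₂ = j₁ → m ≫ j₁ = jW →
      AlgSp.IsQuasiCompactSp W₁.obj → AlgSp.IsQuasiCompactSp W₂.obj →
      (∃ T : Over S, IsAffine T.left ∧ Nonempty ((AlgSp.yon S).obj T ≅ V.obj)) →
      AlgSp.IsElemDistSq k.hom f.hom → P W₁ j₁ → P W₂ j₂) :
    P X (𝟙 X) := by
  classical
  have hX := X.property
  obtain ⟨N, Ω, V, f, h0, hN, hanti, hV, hinj⟩ := exists_filtration hX hXc hXs
  set ΩW := Set.range (Points.map jW.hom) with hΩW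
  have hΩWo : IsOpen ΩW := isOpen_range_map hX _ hjW
  have hΩWc : IsCompact ΩW := isCompact_range_of_isQuasiCompactSp _ hWc
  have hΩo : ∀ n, IsOpen (Ω n) := fun n => by
    rw [← (hV n).2.2.2]
    exact (isOpenMap_ofPt_of_etale (f n) (hV n).2.2.1).isOpen_range
  have hΩc : ∀ n, IsCompact (Ω n) := fun n => by
    rw [← (hV n).2.2.2]
    haveI := (hV n).2.1
    exact isCompact_range (Points.continuous_ofPt (f n))
  -- the generic step
  have step : ∀ (Ω₁ : Set (Points X.obj)) (A : Over S) [IsAffine A.left]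
      (a : (yon S).obj A ⟶ X.obj), IsOpen Ω₁ → IsCompact Ω₁ → ΩW ⊆ Ω₁ → RepWith @Etale a →
      (∀ (T : Over S) (α β : T ⟶ A), (yon S).map α ≫ a = (yon S).map β ≫ a →
        (∀ t : T.left, Points.ofPt ((yon S).map α ≫ a) t ∉ Ω₁) → α = β) →
      Good X P Ω₁ → Good X P (Ω₁ ∪ Set.range (Points.ofPt a)) := by
    intro Ω₁ A _ a ho hc hsub hae hinj' hG
    obtain ⟨W₁, j₁, hW₁, hj₁, hr₁⟩ := exists_open_subspace_of_isOpen hX Ω₁ ho
    have hr₁' : Set.range (Points.map
        (ObjectProperty.homMk j₁ : (⟨W₁, hW₁⟩ : AlgSp.Space S) ⟶ X).hom) = Ω₁ := hr₁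
    have := good_union_of_pred h2 ⟨W₁, hW₁⟩ (ObjectProperty.homMk j₁) hj₁
      (by rw [hr₁']; exact hc) (by rw [hr₁']; exact hsub) A a hae
      (by rw [hr₁']; exact hinj') (hG _ _ hj₁ hr₁)
    rwa [hr₁'] at this
  -- the base of the induction
  have base : Good X P (ΩW ∪ Ω N) := by
    obtain ⟨A, a, hA, hAe, hae⟩ := exists_empty_affine_chart hX
    have := good_union_of_pred h2 W jW hjW hΩWc subset_rfl A a hae (fun T α β _ _ => by
      haveI : IsEmpty T.left := ⟨fun t => hAe.false (α.left t)⟩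
      exact over_hom_ext_of_isEmpty α β) h1
    have hempty : Set.range (Points.ofPt a) = ∅ := by
      haveI := hAe
      exact Set.range_eq_empty _
    rw [hN]
    rwa [hempty] at this
  -- the inner induction
  have inner : ∀ n, Good X P (ΩW ∪ Ω (n + 1)) → Good X P (ΩW ∪ Ω n) := by
    intro n hG
    haveI := (hV n).2.1
    let Af : (V n).left.affineOpens → Over S := fun Uo => Over.mk (Uo.1.ι ≫ (V n).hom)
    let ι : ∀ Uo, Af Uo ⟶ V n := fun Uo => Over.homMk Uo.1.ι rfl
    have hAf : ∀ Uo, IsAffine (Af Uo).left := fun Uo => Uo.2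
    have hιe : ∀ Uo, Etale (ι Uo).left := fun Uo => (inferInstance : Etale Uo.1.ι)
    have hιm : ∀ Uo, Mono (ι Uo) := fun Uo =>
      ⟨fun α β h => Over.OverMorphism.ext
        ((cancel_mono (ι Uo).left).1 (congrArg (fun φ => φ.left) h))⟩
    let a : ∀ Uo, (yon S).obj (Af Uo) ⟶ X.obj := fun Uo => (yon S).map (ι Uo) ≫ f n
    have hae : ∀ Uo, RepWith @Etale (a Uo) := fun Uo =>
      (RepWith @Etale).comp_mem _ _ ((repWith_yon_map_iff _ (ι Uo)).2 (hιe Uo)) (hV n).2.2.1
    let R : (V n).left.affineOpens → Set (Points X.obj) := fun Uo =>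
      Set.range (Points.ofPt (a Uo))
    have hRsub : ∀ Uo, R Uo ⊆ Ω n := by
      intro Uo
      rintro _ ⟨v, rfl⟩
      rw [← (hV n).2.2.2]
      exact ⟨(ι Uo).left v, (ofPt_comp_yon_map (ι Uo) (f n) v).symm⟩
    obtain ⟨t, ht⟩ := isCompact_univ.elim_finite_subcover
      (fun Uo : (V n).left.affineOpens => ((Uo.1 : (V n).left.Opens) : Set (V n).left))
      (fun Uo => Uo.1.2) (by
        intro x _
        obtain ⟨_, ⟨Uo, hUo, rfl⟩, hxU, -⟩ :=
          (V n).left.isBasis_affineOpens.exists_subset_of_mem_open (Set.mem_univ x) isOpen_univ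
        exact Set.mem_iUnion.2 ⟨⟨Uo, hUo⟩, hxU⟩)
    have key : ∀ s : Finset (V n).left.affineOpens,
        Good X P (ΩW ∪ Ω (n + 1) ∪ ⋃ Uo ∈ s, R Uo) := by
      intro s
      induction s using Finset.induction_on with
      | empty => simpa using hG
      | insert Uo s hUo ih =>
        haveI := hAf Uo
        have hopen : IsOpen (ΩW ∪ Ω (n + 1) ∪ ⋃ Uo ∈ s, R Uo) := by
          refine (hΩWo.union (hΩo _)).union (isOpen_biUnion fun Uo _ => ?_)
          exact (isOpenMap_ofPt_of_etale (a Uo) (hae Uo)).isOpen_range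
        have hcomp : IsCompact (ΩW ∪ Ω (n + 1) ∪ ⋃ Uo ∈ s, R Uo) := by
          refine (hΩWc.union (hΩc _)).union (s.isCompact_biUnion fun Uo _ => ?_)
          haveI := hAf Uo
          exact isCompact_range (Points.continuous_ofPt (a Uo))
        have := step _ (Af Uo) (a Uo) hopen hcomp
          (Set.subset_union_left.trans Set.subset_union_left) (hae Uo) (by
            intro T α β hαβ havoid
            apply (cancel_mono (ι Uo)).1
            apply hinj n T (α ≫ ι Uo) (β ≫ ι Uo)
            · rw [Functor.map_comp, Functor.map_comp, Category.assoc, Category.assoc]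
              exact hαβ
            · intro t₁ ht₁
              apply havoid t₁
              refine Or.inl (Or.inr ?_)
              rw [Functor.map_comp, Category.assoc] at ht₁
              exact ht₁) ih
        have heq : ΩW ∪ Ω (n + 1) ∪ ⋃ Uo' ∈ insert Uo s, R Uo' =
            ΩW ∪ Ω (n + 1) ∪ (⋃ Uo' ∈ s, R Uo') ∪ Set.range (Points.ofPt (a Uo)) := by
          rw [Finset.set_biUnion_insert, Set.union_comm (R Uo), ← Set.union_assoc]
        rw [heq]
        exact this
    have hfin := key t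
    have heq : ΩW ∪ Ω (n + 1) ∪ ⋃ Uo ∈ t, R Uo = ΩW ∪ Ω n := by
      apply Set.Subset.antisymm
      · refine Set.union_subset (Set.union_subset Set.subset_union_left
          ((hanti n).trans Set.subset_union_right)) ?_
        exact (Set.iUnion₂_subset fun Uo _ => hRsub Uo).trans Set.subset_union_right
      · refine Set.union_subset (Set.subset_union_left.trans Set.subset_union_left) ?_
        intro x hx
        rw [← (hV n).2.2.2] at hx
        obtain ⟨v, rfl⟩ := hx
        obtain ⟨Uo, hUo, hv⟩ := Set.mem_iUnion₂.1 (ht (Set.mem_univ v))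
        refine Or.inr (Set.mem_iUnion₂.2 ⟨Uo, hUo, ⟨⟨v, hv⟩, ?_⟩⟩)
        exact ofPt_comp_yon_map (ι Uo) (f n) ⟨v, hv⟩
    rwa [heq] at hfin
  -- the outer induction
  have outer : ∀ d, d ≤ N → Good X P (ΩW ∪ Ω (N - d)) := by
    intro d
    induction d with
    | zero => intro _; exact base
    | succ d ih =>
      intro hd
      have h := ih (by omega)
      have e : N - d = (N - (d + 1)) + 1 := by omega
      rw [e] at h
      exact inner _ h
  have hfinal := outer N le_rfl
  rw [Nat.sub_self, h0, Set.union_univ] at hfinal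
  refine hfinal X (𝟙 X) ((RepWith @IsOpenImmersion).id_mem _) ?_
  apply Set.eq_univ_of_forall
  intro x
  exact ⟨x, Points.map_id x⟩

end Induction

end Groth.Agent.Helper15.Strat
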