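import Mathlib
import Groth.Agent.Lib.Helper15.Strat8
import Groth.Agent.Lib.Helper15.AlgSpUniv
import Groth.Agent.Lib.Helper15.AlgSpLocP2
import Groth.Agent.Lib.Helper15.AlgSpQc
import Groth.Prelude.Def_AlgSpEt

/-!
# Induction principle, Zariski stage: quasi-compact opens of affine schemes etale over `X`
-/

set_option autoImplicit false
universe u
open CategoryTheory CategoryTheory.Limits AlgebraicGeometry MorphismProperty Opposite
open AlgSp

namespace Groth.Agent.Helper15.Strat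

open Groth.Agent.Helper15

variable {S : Scheme.{u}}

theorem isEtaleMor_comp {F G H : Sp S} (f : F ⟶ G) (g : G ⟶ H) (hf : IsEtaleMor f)
    (hg : IsEtaleMor g) : IsEtaleMor (f ≫ g) := by
  intro U φ hφ
  rw [← Category.assoc]
  exact hg _ (hf φ hφ)

theorem isEtaleMor_of_isOpenImmersion {F G : Sp S} (j : F ⟶ G)
    (hj : RepWith @IsOpenImmersion j) : IsEtaleMor j :=
  isEtaleMor_of_repWith_etale j (repWith_mono isOpenImmersion_le_etale hj)

theorem isQuasiSeparatedSp_of_mono {W X : Sp S} (j : W ⟶ X) [Mono j]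
    (hX : IsQuasiSeparatedSp X) : IsQuasiSeparatedSp W :=
  isQuasiSeparatedSp_of_isQuasiSeparatedMor j (repWith_of_isIso _ (pullback.diagonal j)) hX

/-- A scheme with a finite cover by affine opens is quasi-compact. -/
theorem compactSpace_of_finite_affine_cover {Z : Scheme.{u}} {r : ℕ} (𝒰 : Fin r → Z.Opens)
    (h𝒰 : ∀ i, IsAffineOpen (𝒰 i)) (hcov : ∀ z : Z, ∃ i, z ∈ 𝒰 i) : CompactSpace Z := by
  refine ⟨?_⟩
  have : (Set.univ : Set Z) = ⋃ i, (𝒰 i : Set Z) := by
    apply Set.eq_of_subset_of_subset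
    · intro z _
      obtain ⟨i, hi⟩ := hcov z
      exact Set.mem_iUnion.2 ⟨i, hi⟩
    · exact Set.subset_univ _
  rw [this]
  exact isCompact_iUnion fun i => (h𝒰 i).isCompact

/-- An open subscheme of an affine scheme is separated. -/
theorem isSeparated_of_isOpenImmersion_affine {Z A : Scheme.{u}} (g : Z ⟶ A) [IsOpenImmersion g]
    [IsAffine A] : Z.IsSeparated := by
  refine ⟨?_⟩
  have : terminal.from Z = g ≫ terminal.from A := (terminal.comp_from g).symm
  rw [this]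
  infer_instance

/-- The preimage in an open subscheme of an affine open contained in it is affine. -/
theorem isAffineOpen_ι_preimage {Z : Scheme.{u}} (O U : Z.Opens) (hU : IsAffineOpen U)
    (hUO : U ≤ O) : IsAffineOpen (O.ι ⁻¹ᵁ U) := by
  rw [← O.ι.isAffineOpen_iff_of_isOpenImmersion, Scheme.Hom.image_preimage_eq_opensRange_inf,
    Scheme.Opens.opensRange_ι, inf_eq_right.2 hUO]
  exact hU


section Zariski

variable (Z : Over S) (U₀ V₀ : Z.left.Opens)

/-- The open subscheme `O` of a scheme over `S`, as a scheme over `S`. -/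
noncomputable abbrev opSub (O : Z.left.Opens) : Over S := Over.mk (O.ι ≫ Z.hom)

/-- The inclusion of an open subscheme. -/
noncomputable abbrev opι (O : Z.left.Opens) : opSub Z O ⟶ Z := Over.homMk O.ι rfl

/-- The inclusion between open subschemes. -/
noncomputable abbrev opLE {O O' : Z.left.Opens} (h : O ≤ O') : opSub Z O ⟶ opSub Z O' :=
  Over.homMk (Z.left.homOfLE h) (by simp)

theorem opLE_ι {O O' : Z.left.Opens} (h : O ≤ O') : opLE Z h ≫ opι Z O' = opι Z O := by
  apply Over.OverMorphism.ext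
  simp

instance (O : Z.left.Opens) : Mono (opι Z O) :=
  ⟨fun α β h => Over.OverMorphism.ext
    ((cancel_mono (opι Z O).left).1 (congrArg (fun φ => φ.left) h))⟩

/-- The intersection of two open subschemes is their fibre product, as sheaves. -/
theorem isPullback_yon_opens_inf :
    IsPullback ((yon S).map (opLE Z (inf_le_left : U₀ ⊓ V₀ ≤ U₀)))
      ((yon S).map (opLE Z (inf_le_right : U₀ ⊓ V₀ ≤ V₀)))
      ((yon S).map (opι Z U₀)) ((yon S).map (opι Z V₀)) := by
  have h : IsPullback (opLE Z (inf_le_left : U₀ ⊓ V₀ ≤ U₀))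
      (opLE Z (inf_le_right : U₀ ⊓ V₀ ≤ V₀)) (opι Z U₀) (opι Z V₀) :=
    IsPullback.of_map_of_faithful (Over.forget S) (isPullback_opens_inf U₀ V₀)
  exact h.map (yon S)

/-- A Zariski square is an elementary distinguished square. -/
theorem isElemDistSq_zariski (hcov : ∀ z : Z.left, z ∈ U₀ ∨ z ∈ V₀) :
    IsElemDistSq ((yon S).map (opι Z U₀)) ((yon S).map (opι Z V₀)) := by
  have hU : RepWith @IsOpenImmersion ((yon S).map (opι Z U₀)) :=
    (repWith_yon_map_iff _ _).2 (inferInstance : IsOpenImmersion U₀.ι)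
  have hVe : RepWith @Etale ((yon S).map (opι Z V₀)) :=
    (repWith_yon_map_iff _ _).2 (inferInstance : Etale V₀.ι)
  have h1 : RepWith @IsOpenImmersion (𝟙 ((yon S).obj Z)) := (RepWith @IsOpenImmersion).id_mem _
  have := isElemDistSq_of_injOn (IsAlgSpace.yon_obj Z) ((yon S).map (opι Z U₀))
    (𝟙 ((yon S).obj Z)) hU h1 ((yon S).map (opι Z U₀)) (Category.comp_id _)
    ((yon S).map (opι Z V₀)) (by rw [Category.comp_id]; exact hVe) ?_ ?_
  · exact this
  · rintro x -
    obtain ⟨z, rfl⟩ := (Points.schemeEquiv Z).surjective x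
    rcases hcov z with hz | hz
    · left
      refine ⟨Points.ofScheme (opSub Z U₀) ⟨z, hz⟩, ?_⟩
      rw [← Points.ofPt_eq_map_ofScheme, ofPt_yon_map]
      rfl
    · right
      refine ⟨⟨z, hz⟩, ?_⟩
      rw [Category.comp_id, ofPt_yon_map]
      rfl
  · intro T α β hαβ _
    simp only [Category.comp_id] at hαβ
    rw [← Functor.map_comp, ← Functor.map_comp] at hαβ
    exact (cancel_mono (opι Z V₀)).1 ((yon S).map_injective hαβ)

end Zariski


section StageA

variable (X : AlgSp.Space S)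

/-- The object of the site of spaces etale over `X` given by a scheme with an etale map to `X`. -/
noncomputable def schObj (Z : Over S) (a : (yon S).obj Z ⟶ X.obj) (ha : IsEtaleMor a) :
    AlgSp.EtSpOver X :=
  ⟨Over.mk (Y := (AlgSp.ofScheme S).obj Z) (ObjectProperty.homMk a), ha⟩

/-- The morphism of the site induced by a morphism of schemes. -/
noncomputable def schHom {Z Z' : Over S} (h : Z' ⟶ Z) (a : (yon S).obj Z ⟶ X.obj)
    (ha : IsEtaleMor a) (a' : (yon S).obj Z' ⟶ X.obj) (ha' : IsEtaleMor a')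
    (w : (yon S).map h ≫ a = a') : schObj X Z' a' ha' ⟶ schObj X Z a ha :=
  ObjectProperty.homMk (Over.homMk ((AlgSp.ofScheme S).map h) (by apply ObjectProperty.hom_ext; exact w))

variable {X}

theorem schHom_hom {Z Z' : Over S} (h : Z' ⟶ Z) (a : (yon S).obj Z ⟶ X.obj)
    (ha : IsEtaleMor a) (a' : (yon S).obj Z' ⟶ X.obj) (ha' : IsEtaleMor a')
    (w : (yon S).map h ≫ a = a') : (schHom X h a ha a' ha' w).hom.left.hom = (yon S).map h := rfl

/-- **Zariski stage of the induction principle**: `P` holds for every quasi-compact open subscheme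
of an affine scheme etale over `X`. -/
theorem stageA (B P : AlgSp.EtSpOver X → Prop)
    (h2 : ∀ (W U : AlgSp.EtSpOver X) (j : U ⟶ W), B W →
      AlgSp.RepWith @IsOpenImmersion j.hom.left.hom →
      AlgSp.IsQuasiCompactSp U.obj.left.obj → B U)
    (h3 : ∀ (V : AlgSp.EtSpOver X) (T : Over S), IsAffine T.left →
      Nonempty ((AlgSp.yon S).obj T ≅ V.obj.left.obj) → B V ∧ P V)
    (h4 : ∀ (W U V UV : AlgSp.EtSpOver X) (j : U ⟶ W) (f : V ⟶ W) (p : UV ⟶ U) (q : UV ⟶ V),
      B W → AlgSp.IsQuasiCompactSp U.obj.left.obj →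
      (∃ T : Over S, IsAffine T.left ∧ Nonempty ((AlgSp.yon S).obj T ≅ V.obj.left.obj)) →
      AlgSp.IsElemDistSq j.hom.left.hom f.hom.left.hom →
      IsPullback p.hom.left.hom q.hom.left.hom j.hom.left.hom f.hom.left.hom →
      P U → P V → P UV → P W)
    (A₀ : Over S) [IsAffine A₀.left] (a₀ : (yon S).obj A₀ ⟶ X.obj) (ha₀ : IsEtaleMor a₀) :
    ∀ (r : ℕ) (Z : Over S) (g : Z ⟶ A₀), IsOpenImmersion g.left →
      ∀ 𝒰 : Fin r → Z.left.Opens, (∀ i, IsAffineOpen (𝒰 i)) → (∀ z : Z.left, ∃ i, z ∈ 𝒰 i) →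
      ∀ ha, P (schObj X Z ((yon S).map g ≫ a₀) ha) := by
  have hBA : B (schObj X A₀ a₀ ha₀) := (h3 _ A₀ inferInstance ⟨Iso.refl _⟩).1
  -- membership in `B` for open subschemes
  have hB : ∀ (Z : Over S) (g : Z ⟶ A₀), IsOpenImmersion g.left → CompactSpace Z.left →
      ∀ ha, B (schObj X Z ((yon S).map g ≫ a₀) ha) := by
    intro Z g hg hZ ha
    exact h2 _ _ (schHom X g a₀ ha₀ _ ha rfl) hBA ((repWith_yon_map_iff _ g).2 hg)
      ((isQuasiCompactSp_yon_iff Z).2 hZ)
  intro r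
  induction r with
  | zero =>
    intro Z g hg 𝒰 h𝒰 hcov ha
    haveI : IsEmpty Z.left := ⟨fun z => (hcov z).elim fun i _ => i.elim0⟩
    exact (h3 _ Z (isAffine_of_isEmpty) ⟨Iso.refl _⟩).2
  | succ r ih =>
    intro Z g hg 𝒰 h𝒰 hcov ha
    haveI := hg
    haveI hsep : Z.left.IsSeparated := isSeparated_of_isOpenImmersion_affine g.left
    have hZc : CompactSpace Z.left := compactSpace_of_finite_affine_cover 𝒰 h𝒰 hcov
    let U₀ : Z.left.Opens := ⨆ i : Fin r, 𝒰 (Fin.castSucc i)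
    let V₀ : Z.left.Opens := 𝒰 (Fin.last r)
    have hUV : ∀ z : Z.left, z ∈ U₀ ∨ z ∈ V₀ := by
      intro z
      obtain ⟨i, hi⟩ := hcov z
      induction i using Fin.lastCases with
      | last => exact Or.inr hi
      | cast i => exact Or.inl (TopologicalSpace.Opens.mem_iSup.2 ⟨i, hi⟩)
    have hle : ∀ i : Fin r, 𝒰 (Fin.castSucc i) ≤ U₀ := fun i => le_iSup (fun i : Fin r => 𝒰 (Fin.castSucc i)) i
    -- étaleness of the structure maps
    have hetale : ∀ (Z' : Over S) (g' : Z' ⟶ A₀), IsOpenImmersion g'.left →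
        IsEtaleMor ((yon S).map g' ≫ a₀) := fun Z' g' hg' =>
      isEtaleMor_comp _ _ (isEtaleMor_of_isOpenImmersion _ ((repWith_yon_map_iff _ g').2 hg')) ha₀
    have hgU : IsOpenImmersion (opι Z U₀ ≫ g).left :=
      (inferInstance : IsOpenImmersion (U₀.ι ≫ g.left))
    have hgV : IsOpenImmersion (opι Z V₀ ≫ g).left :=
      (inferInstance : IsOpenImmersion (V₀.ι ≫ g.left))
    have hgUV : IsOpenImmersion (opι Z (U₀ ⊓ V₀) ≫ g).left :=
      (inferInstance : IsOpenImmersion ((U₀ ⊓ V₀).ι ≫ g.left))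
    have haU := hetale _ _ hgU
    have haV := hetale _ _ hgV
    have haUV := hetale _ _ hgUV
    -- the cover of `U₀`
    have hUcov : ∀ z : (opSub Z U₀).left, ∃ i : Fin r, z ∈ U₀.ι ⁻¹ᵁ 𝒰 (Fin.castSucc i) := by
      intro z
      obtain ⟨i, hi⟩ := TopologicalSpace.Opens.mem_iSup.1 z.2
      exact ⟨i, hi⟩
    have hUc : CompactSpace (opSub Z U₀).left :=
      compactSpace_of_finite_affine_cover (fun i : Fin r => U₀.ι ⁻¹ᵁ 𝒰 (Fin.castSucc i))
        (fun i => isAffineOpen_ι_preimage U₀ _ (h𝒰 _) (hle i)) hUcov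
    have hPU : P (schObj X (opSub Z U₀) ((yon S).map (opι Z U₀ ≫ g) ≫ a₀) haU) :=
      ih (opSub Z U₀) (opι Z U₀ ≫ g) hgU (fun i : Fin r => U₀.ι ⁻¹ᵁ 𝒰 (Fin.castSucc i))
        (fun i => isAffineOpen_ι_preimage U₀ _ (h𝒰 _) (hle i)) hUcov haU
    haveI hVaff : IsAffine (opSub Z V₀).left := h𝒰 (Fin.last r)
    have hPV : P (schObj X (opSub Z V₀) ((yon S).map (opι Z V₀ ≫ g) ≫ a₀) haV) :=
      (h3 _ (opSub Z V₀) hVaff ⟨Iso.refl _⟩).2
    have hPUV : P (schObj X (opSub Z (U₀ ⊓ V₀)) ((yon S).map (opι Z (U₀ ⊓ V₀) ≫ g) ≫ a₀) haUV) := by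
      refine ih (opSub Z (U₀ ⊓ V₀)) (opι Z (U₀ ⊓ V₀) ≫ g) hgUV
        (fun i : Fin r => (U₀ ⊓ V₀).ι ⁻¹ᵁ (𝒰 (Fin.castSucc i) ⊓ V₀))
        (fun i => isAffineOpen_ι_preimage (U₀ ⊓ V₀) _ ((h𝒰 _).inf (h𝒰 _))
          (inf_le_inf_right _ (hle i))) ?_ haUV
      intro z
      obtain ⟨i, hi⟩ := TopologicalSpace.Opens.mem_iSup.1 z.2.1
      exact ⟨i, ⟨hi, z.2.2⟩⟩
    refine h4 (schObj X Z ((yon S).map g ≫ a₀) ha) _ _ _
      (schHom X (opι Z U₀) _ ha _ haU (by rw [Functor.map_comp, Category.assoc]))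
      (schHom X (opι Z V₀) _ ha _ haV (by rw [Functor.map_comp, Category.assoc]))
      (schHom X (opLE Z (inf_le_left : U₀ ⊓ V₀ ≤ U₀)) _ haU _ haUV (by
        rw [← Category.assoc, ← Functor.map_comp, ← Category.assoc, opLE_ι]))
      (schHom X (opLE Z (inf_le_right : U₀ ⊓ V₀ ≤ V₀)) _ haV _ haUV (by
        rw [← Category.assoc, ← Functor.map_comp, ← Category.assoc, opLE_ι]))
      (hB Z g hg hZc ha) ((isQuasiCompactSp_yon_iff _).2 hUc)
      ⟨opSub Z V₀, hVaff, ⟨Iso.refl _⟩⟩ (isElemDistSq_zariski Z U₀ V₀ hUV)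
      (isPullback_yon_opens_inf Z U₀ V₀) hPU hPV hPUV

end StageA

end Groth.Agent.Helper15.Strat
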