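import Mathlib
import Groth.Agent.Lib.Helper15.QuotFree3
import Groth.Agent.Lib.Helper15.Strat9

/-!
# Quotients of non-quasi-compact schemes by free actions of finite groups, I:
invariant quasi-compact opens
-/

set_option autoImplicit false
universe u
open CategoryTheory CategoryTheory.Limits AlgebraicGeometry MorphismProperty Opposite
open AlgSp

namespace Groth.Agent.Helper15.QuotNC

open Groth.Agent.Helper15 Groth.Agent.Helper15.Strat

variable {S : Scheme.{u}} {W : Over S} {G : Type} [Group G]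
  (ρ : G → (W ⟶ W)) (h1 : ρ 1 = 𝟙 W) (hmul : ∀ σ τ : G, ρ (σ * τ) = ρ τ ≫ ρ σ)

include h1 hmul in
theorem isIso_ρ (σ : G) : IsIso (ρ σ) :=
  ⟨ρ σ⁻¹, by rw [← hmul, inv_mul_cancel, h1], by rw [← hmul, mul_inv_cancel, h1]⟩

include h1 hmul in
theorem isIso_ρ_left (σ : G) : IsIso (ρ σ).left := by
  haveI := isIso_ρ ρ h1 hmul σ
  exact inferInstanceAs (IsIso ((Over.forget S).map (ρ σ)))

/-- The saturation of an open under the action. -/
noncomputable def sat (A : W.left.Opens) : W.left.Opens := ⨆ σ : G, (ρ σ).left ⁻¹ᵁ A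

theorem mem_sat (A : W.left.Opens) (x : W.left) : x ∈ sat ρ A ↔ ∃ σ : G, (ρ σ).left x ∈ A := by
  unfold sat
  rw [TopologicalSpace.Opens.mem_iSup]
  rfl

include hmul in
theorem sat_invariant (A : W.left.Opens) (τ : G) : (ρ τ).left ⁻¹ᵁ (sat ρ A) = sat ρ A := by
  ext x
  change (ρ τ).left x ∈ sat ρ A ↔ x ∈ sat ρ A
  rw [mem_sat, mem_sat]
  constructor
  · rintro ⟨σ, hσ⟩
    refine ⟨σ * τ, ?_⟩
    rw [hmul]
    exact hσ
  · rintro ⟨σ, hσ⟩
    refine ⟨σ * τ⁻¹, ?_⟩
    have : (ρ (σ * τ⁻¹)).left ((ρ τ).left x) = (ρ σ).left x := by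
      rw [← Scheme.Hom.comp_apply, ← Over.comp_left, ← hmul, inv_mul_cancel_right]
    rw [this]
    exact hσ

include h1 in
theorem le_sat (A : W.left.Opens) : A ≤ sat ρ A := by
  intro x hx
  rw [mem_sat]
  refine ⟨1, ?_⟩
  rw [h1]
  exact hx

include h1 hmul in
theorem isCompact_sat [Finite G] (A : W.left.Opens) (hA : IsAffineOpen A) :
    IsCompact (sat ρ A : Set W.left) := by
  have : (sat ρ A : Set W.left) = ⋃ σ : G, ((ρ σ).left ⁻¹ᵁ A : Set W.left) := by
    unfold sat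
    rw [TopologicalSpace.Opens.coe_iSup]
  rw [this]
  apply isCompact_iUnion
  intro σ
  haveI := isIso_ρ_left ρ h1 hmul σ
  exact (hA.preimage_of_isIso (ρ σ).left).isCompact

include h1 hmul in
/-- Any two points lie in an invariant quasi-compact open. -/
theorem exists_invariant_open [Finite G] (w₁ w₂ : W.left) :
    ∃ O : W.left.Opens, IsCompact (O : Set W.left) ∧ (∀ σ, (ρ σ).left ⁻¹ᵁ O = O) ∧
      w₁ ∈ O ∧ w₂ ∈ O := by
  obtain ⟨A₁, hA₁, hw₁, -⟩ := exists_isAffineOpen_mem_and_subset (x := w₁) (U := ⊤) trivial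
  obtain ⟨A₂, hA₂, hw₂, -⟩ := exists_isAffineOpen_mem_and_subset (x := w₂) (U := ⊤) trivial
  refine ⟨sat ρ A₁ ⊔ sat ρ A₂, ?_, ?_, ?_, ?_⟩
  · rw [TopologicalSpace.Opens.coe_sup]
    exact (isCompact_sat ρ h1 hmul A₁ hA₁).union (isCompact_sat ρ h1 hmul A₂ hA₂)
  · intro σ
    rw [Scheme.Hom.preimage_sup, sat_invariant ρ hmul, sat_invariant ρ hmul]
  · exact Or.inl (le_sat ρ h1 A₁ hw₁)
  · exact Or.inr (le_sat ρ h1 A₂ hw₂)


/-- The restricted action on an invariant open. -/
theorem exists_restrict (O : W.left.Opens) (hinv : ∀ σ, (ρ σ).left ⁻¹ᵁ O = O) (σ : G) :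
    ∃ r : opSub W O ⟶ opSub W O, r ≫ opι W O = opι W O ≫ ρ σ := by
  apply exists_factor_of_range_subset (opι W O) (by change IsOpenImmersion O.ι; infer_instance)
  rintro _ ⟨x, rfl⟩
  have hx : (O.ι x : W.left) ∈ (ρ σ).left ⁻¹ᵁ O := by
    rw [hinv]; exact x.2
  change _ ∈ Set.range O.ι
  rw [Scheme.Opens.range_ι]
  exact hx

/-- A quasi-compact open of a scheme separated and etale over an affine scheme is quasi-affine. -/
theorem isQuasiAffine_of_isCompact (O : W.left.Opens) (hO : IsCompact (O : Set W.left))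
    {A : Scheme.{u}} [IsAffine A] (f : W.left ⟶ A) [Etale f] [IsSeparated f] :
    (opSub W O).left.IsQuasiAffine := by
  change (O : Scheme.{u}).IsQuasiAffine
  haveI : CompactSpace (O : Scheme.{u}) := isCompact_iff_compactSpace.1 hO
  let f' : (O : Scheme.{u}) ⟶ A := O.ι ≫ f
  haveI : QuasiCompact f' := quasiCompact_of_compactSpace _
  haveI : LocallyQuasiFinite f' := locallyQuasiFinite_of_etale _
  haveI : IsOpenImmersion f'.toNormalization := inferInstance
  haveI : IsAffine f'.normalization := isAffine_of_isAffineHom f'.fromNormalization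
  exact Scheme.IsQuasiAffine.of_isImmersion f'.toNormalization

variable (hfree : ∀ σ : G, σ ≠ 1 → ∀ (T : Over S) (a : T ⟶ W), a ≫ ρ σ = a → IsEmpty T.left)

include h1 hmul hfree in
/-- **Quotient of an invariant quasi-compact open.** -/
theorem exists_quotient_of_invariant [Fintype G] (O : W.left.Opens)
    (hO : IsCompact (O : Set W.left)) (hinv : ∀ σ, (ρ σ).left ⁻¹ᵁ O = O)
    {A : Scheme.{u}} [IsAffine A] (f : W.left ⟶ A) [Etale f] [IsSeparated f] :
    ∃ (ρO : G → (opSub W O ⟶ opSub W O)) (V : Over S) (π : opSub W O ⟶ V),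
      (∀ σ, ρO σ ≫ opι W O = opι W O ≫ ρ σ) ∧ V.left.IsSeparated ∧ Etale π.left ∧
      Surjective π.left ∧ (∀ σ, ρO σ ≫ π = π) ∧
      ∀ (T : Over S) (a b : T ⟶ opSub W O), a ≫ π = b ≫ π → ∀ t : T.left,
        ∃ (σ : G) (N : Over S) (j : N ⟶ T), IsOpenImmersion j.left ∧ t ∈ Set.range j.left ∧
          j ≫ b = j ≫ a ≫ ρO σ := by
  choose ρO hρO using exists_restrict ρ O hinv
  haveI := isQuasiAffine_of_isCompact O hO f
  obtain ⟨V, π, hV, -, h3, h4, h5, h6⟩ := QuotFree.exists_quotient_over (opSub W O) ρO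
    (by
      rw [← cancel_mono (opι W O), hρO, h1, Category.comp_id, Category.id_comp])
    (by
      intro σ τ
      rw [← cancel_mono (opι W O), hρO, hmul, Category.assoc, hρO, ← Category.assoc,
        ← Category.assoc, hρO])
    (by
      intro σ hσ T a ha
      refine hfree σ hσ T (a ≫ opι W O) ?_
      rw [Category.assoc, ← hρO, ← Category.assoc, ha])
  exact ⟨ρO, V, π, hρO, hV, h3, h4, h5, h6⟩

end Groth.Agent.Helper15.QuotNC
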