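import Groth.Agent.Lib.Helper15.AlgSpQuotEff
import Groth.Agent.Lib.Helper15.AlgSpSI2
import Groth.Agent.Lib.Helper15.AlgSpPoints

set_option autoImplicit false
universe u
open CategoryTheory CategoryTheory.Limits AlgebraicGeometry Opposite
open AlgSp

namespace Groth.Agent.Helper15
variable {S : Scheme.{u}}

/-- Naturality of the identification of the sheafified representable with `h_V`. -/
theorem repMap_repIso_hom {V W : Over S} (g : V ⟶ W) :
    QuotSh.repMap Scheme.fppfPrecoverage g ≫
        (QuotSh.repIsoUliftYoneda Scheme.fppfPrecoverage W).hom =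
      (QuotSh.repIsoUliftYoneda Scheme.fppfPrecoverage V).hom ≫ (yon S).map g :=
  (sheafificationNatIso (J S) (Type (u+1))).inv.naturality ((yon S).map g)

theorem repIso_inv_repMap {V W : Over S} (g : V ⟶ W) :
    (QuotSh.repIsoUliftYoneda Scheme.fppfPrecoverage V).inv ≫
        QuotSh.repMap Scheme.fppfPrecoverage g =
      (yon S).map g ≫ (QuotSh.repIsoUliftYoneda Scheme.fppfPrecoverage W).inv := by
  rw [Iso.inv_comp_eq, ← Category.assoc, Iso.eq_comp_inv, repMap_repIso_hom]

variable {R U : Over S} (s t : R ⟶ U)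

/-- The quotient map `h_U ⟶ U/R` written on `h_U`. -/
noncomputable def quotShπ : (yon S).obj U ⟶ QuotSh.quot Scheme.fppfPrecoverage s t :=
  (QuotSh.repIsoUliftYoneda Scheme.fppfPrecoverage U).inv ≫
    QuotSh.quotπ Scheme.fppfPrecoverage s t

theorem quotShπ_condition : (yon S).map s ≫ quotShπ s t = (yon S).map t ≫ quotShπ s t := by
  unfold quotShπ
  rw [← Category.assoc, ← repIso_inv_repMap, Category.assoc, QuotSh.quot_condition,
    ← Category.assoc, repIso_inv_repMap, Category.assoc]

instance : Epi (QuotSh.quotπ Scheme.fppfPrecoverage s t) :=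
  (coequalizer.π_epi : Epi (coequalizer.π (QuotSh.repMap Scheme.fppfPrecoverage s)
    (QuotSh.repMap Scheme.fppfPrecoverage t)))

instance : Epi (quotShπ s t) := by
  unfold quotShπ
  exact epi_comp _ _

theorem quotπ_coequalizer_desc {F : Sp S} (k : QuotSh.rep Scheme.fppfPrecoverage U ⟶ F)
    (hk : QuotSh.repMap Scheme.fppfPrecoverage s ≫ k = QuotSh.repMap Scheme.fppfPrecoverage t ≫ k) :
    QuotSh.quotπ Scheme.fppfPrecoverage s t ≫
      (coequalizer.desc k hk : QuotSh.quot Scheme.fppfPrecoverage s t ⟶ F) = k :=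
  coequalizer.π_desc k hk

/-- The comparison map to the coequalizer of `h_s, h_t`. -/
noncomputable def quotShToQuotSp :
    QuotSh.quot Scheme.fppfPrecoverage s t ⟶ quotSp ((yon S).map s) ((yon S).map t) :=
  coequalizer.desc ((QuotSh.repIsoUliftYoneda Scheme.fppfPrecoverage U).hom ≫
    quotSpπ ((yon S).map s) ((yon S).map t)) (by
      rw [← Category.assoc, ← Category.assoc, repMap_repIso_hom, repMap_repIso_hom,
        Category.assoc, Category.assoc, quotSp_condition])

theorem quotShπ_toQuotSp :
    quotShπ s t ≫ quotShToQuotSp s t = quotSpπ ((yon S).map s) ((yon S).map t) := by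
  unfold quotShπ quotShToQuotSp
  rw [Category.assoc, quotπ_coequalizer_desc, ← Category.assoc, Iso.inv_hom_id, Category.id_comp]

/-- Descent of maps out of the quotient. -/
theorem exists_quotSh_desc {F : Sp S} (k : (yon S).obj U ⟶ F)
    (hk : (yon S).map s ≫ k = (yon S).map t ≫ k) :
    ∃ d : QuotSh.quot Scheme.fppfPrecoverage s t ⟶ F, quotShπ s t ≫ d = k := by
  refine ⟨coequalizer.desc ((QuotSh.repIsoUliftYoneda Scheme.fppfPrecoverage U).hom ≫ k) ?_, ?_⟩
  · rw [← Category.assoc, ← Category.assoc, repMap_repIso_hom, repMap_repIso_hom,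
      Category.assoc, Category.assoc, hk]
  · unfold quotShπ
    rw [Category.assoc, quotπ_coequalizer_desc, ← Category.assoc, Iso.inv_hom_id, Category.id_comp]

theorem isPreEqvRelSp_yon_of_isEqvRel (h : IsEqvRel s t) :
    IsPreEqvRelSp ((yon S).map s) ((yon S).map t) := by
  intro T
  have key : ∀ a b : (yon S).obj T ⟶ (yon S).obj U,
      (∃ r : (yon S).obj T ⟶ (yon S).obj R, r ≫ (yon S).map t = a ∧ r ≫ (yon S).map s = b) ↔
      (∃ r : T ⟶ R, r ≫ t = (yon S).preimage a ∧ r ≫ s = (yon S).preimage b) := by
    intro a b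
    constructor
    · rintro ⟨r, rfl, rfl⟩
      refine ⟨(yon S).preimage r, ?_, ?_⟩
      · apply (yon S).map_injective; simp
      · apply (yon S).map_injective; simp
    · rintro ⟨r, h1, h2⟩
      refine ⟨(yon S).map r, ?_, ?_⟩
      · rw [← Functor.map_comp, h1, Functor.map_preimage]
      · rw [← Functor.map_comp, h2, Functor.map_preimage]
  have hE := h.equivalence T
  refine ⟨fun a => (key a a).2 (hE.refl _), fun {a b} hab => (key b a).2 (hE.symm ((key a b).1 hab)),
    fun {a b c} hab hbc => (key a c).2 (hE.trans ((key a b).1 hab) ((key b c).1 hbc))⟩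

/-- Effectivity: two `T`-points of `U` with the same image in `U/R` are locally related. -/
theorem exists_local_rel_of_quotShπ_eq (h : IsEqvRel s t) {T : Over S}
    (a b : (yon S).obj T ⟶ (yon S).obj U) (hab : a ≫ quotShπ s t = b ≫ quotShπ s t) :
    ∃ Rv ∈ (J S) T, ∀ ⦃T' : Over S⦄ (k : T' ⟶ T), Rv k →
      ∃ r : (yon S).obj T' ⟶ (yon S).obj R,
        r ≫ (yon S).map t = (yon S).map k ≫ a ∧ r ≫ (yon S).map s = (yon S).map k ≫ b := by
  apply exists_local_rel_of_quotSpπ_eq _ _ (isPreEqvRelSp_yon_of_isEqvRel s t h) a b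
  rw [← quotShπ_toQuotSp, ← Category.assoc, ← Category.assoc, hab]

theorem yon_rel_injective (h : IsEqvRel s t) {F : Sp S} (x y : F ⟶ (yon S).obj R)
    (h1 : x ≫ (yon S).map t = y ≫ (yon S).map t) (h2 : x ≫ (yon S).map s = y ≫ (yon S).map s) :
    x = y := by
  apply hom_ext_yon
  intro T a
  obtain ⟨x', hx'⟩ := (yon S).map_surjective (a ≫ x)
  obtain ⟨y', hy'⟩ := (yon S).map_surjective (a ≫ y)
  rw [← hx', ← hy']
  congr 1
  apply h.injective T
  · apply (yon S).map_injective
    rw [Functor.map_comp, Functor.map_comp, hx', hy', Category.assoc, Category.assoc, h1]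
  · apply (yon S).map_injective
    rw [Functor.map_comp, Functor.map_comp, hx', hy', Category.assoc, Category.assoc, h2]

/-- `h_R = h_U ×_{U/R} h_U` for an equivalence relation. -/
theorem isPullback_quotShπ (h : IsEqvRel s t) :
    IsPullback ((yon S).map t) ((yon S).map s) (quotShπ s t) (quotShπ s t) := by
  have hc := (quotShπ_condition s t).symm
  set k : (yon S).obj R ⟶ pullback (quotShπ s t) (quotShπ s t) :=
    pullback.lift ((yon S).map t) ((yon S).map s) hc with hk
  haveI : Mono k := ⟨fun x y hxy => by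
    apply yon_rel_injective s t h
    · have := congrArg (· ≫ pullback.fst _ _) hxy
      simpa only [Category.assoc, hk, pullback.lift_fst] using this
    · have := congrArg (· ≫ pullback.snd _ _) hxy
      simpa only [Category.assoc, hk, pullback.lift_snd] using this⟩
  haveI : Sheaf.IsLocallySurjective k := by
    apply isLocallySurjective_of_local_lift
    intro T z
    obtain ⟨Rv, hRv, hl⟩ := exists_local_rel_of_quotShπ_eq s t h (z ≫ pullback.fst _ _)
      (z ≫ pullback.snd _ _) (by rw [Category.assoc, Category.assoc, pullback.condition])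
    refine ⟨Rv, hRv, fun T' j hj => ?_⟩
    obtain ⟨r, hr1, hr2⟩ := hl j hj
    refine ⟨r, ?_⟩
    apply pullback.hom_ext
    · rw [Category.assoc, hk, pullback.lift_fst, hr1, Category.assoc]
    · rw [Category.assoc, hk, pullback.lift_snd, hr2, Category.assoc]
  haveI : Epi k := (Sheaf.isLocallySurjective_iff_epi k).1 inferInstance
  haveI : IsIso k := isIso_of_mono_of_epi k
  have hpb := IsPullback.of_hasPullback (quotShπ s t) (quotShπ s t)
  refine IsPullback.of_iso hpb (asIso k).symm (Iso.refl _) (Iso.refl _) (Iso.refl _) ?_ ?_ ?_ ?_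
  · simp only [Iso.symm_hom, asIso_inv, Iso.refl_hom, Category.comp_id, IsIso.eq_inv_comp, hk,
      pullback.lift_fst]
  · simp only [Iso.symm_hom, asIso_inv, Iso.refl_hom, Category.comp_id, IsIso.eq_inv_comp, hk,
      pullback.lift_snd]
  · simp
  · simp

/-- The quotient map of an etale equivalence relation with algebraic-space quotient is a
presentation. -/
theorem isPresentation_quotShπ (h : IsEtaleEqvRel s t)
    (hq : IsAlgSpace (QuotSh.quot Scheme.fppfPrecoverage s t)) :
    IsPresentation s t (quotShπ s t) := by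
  have hrep : Representable (quotShπ s t) := hq.representable_from_yon _
  have hpb := isPullback_quotShπ s t h.toIsEqvRel
  haveI : Sheaf.IsLocallySurjective (quotShπ s t) :=
    (Sheaf.isLocallySurjective_iff_epi _).2 inferInstance
  refine ⟨h, ?_, ?_, hpb⟩
  · exact repWith_of_isLocallySurjective_base (quotShπ s t) hrep (quotShπ s t) _ _ hpb @Etale
      ((repWith_yon_map_iff _ _).2 h.etale_left)
  · exact repWith_surjective_of_isSurjectiveMor _ hrep (isSurjectiveMor_of_epi _)

end Groth.Agent.Helper15
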