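import Groth.Agent.Lib.Helper15.FppfBridge3
import Groth.Agent.Lib.Helper15.AlgSpOpen
import Groth.Agent.Lib.Helper15.AlgSpDiag
import Groth.Agent.Lib.Helper15.AlgSpCD2

set_option autoImplicit false
universe u
open CategoryTheory CategoryTheory.Limits AlgebraicGeometry Opposite
open AlgSp

namespace Groth.Agent.Helper15.Bridge

variable {S : Scheme.{u}}

/-- A covering sieve contains an fppf covering family indexed by the points of the scheme. -/
theorem exists_family_of_mem_J {T : Over S} (R : Sieve T) (hR : R ∈ (J S) T) :
    ∃ (T' : T.left → Over S) (c : ∀ x, T' x ⟶ T), (∀ x, R (c x)) ∧ (∀ x, Flat (c x).left) ∧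
      (∀ x, LocallyOfFinitePresentation (c x).left) ∧ (∀ x : T.left, ∃ i y, (c i).left y = x) := by
  obtain ⟨R₀, hR₀, hle⟩ := exists_fppf_presieve_of_mem_J R hR
  choose Y i y hi hy using fun t : T.left => exists_mem_of_mem_fppfPrecoverage hR₀ t
  refine ⟨fun x => Over.mk (i x ≫ T.hom), fun x => Over.homMk (i x) rfl, fun x => hle (i x) (hi x),
    fun x => (hR₀.2 (hi x)).1, fun x => (hR₀.2 (hi x)).2, fun x => ⟨x, y x, hy x⟩⟩

theorem comp_fst_diag_eq {F A : Sp S} (k : A ⟶ F ⨯ F) (h : k ≫ prod.fst = k ≫ prod.snd) :
    (k ≫ prod.fst) ≫ Limits.diag F = k := by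
  apply Limits.prod.hom_ext
  · rw [Category.assoc]
    unfold Limits.diag
    rw [prod.lift_fst, Category.comp_id]
  · rw [Category.assoc]
    unfold Limits.diag
    rw [prod.lift_snd, Category.comp_id, h]

/-- **Representability of the diagonal** of a sheaf with an epimorphic chart whose kernel pair
is a scheme locally of finite type over `U ×_S U`. -/
theorem representable_diag_of_chart {F : Sp S} {U R : Over S} (p : (yon S).obj U ⟶ F) [Epi p]
    (s t : R ⟶ U) (sqR : IsPullback ((yon S).map s) ((yon S).map t) p p)
    (hlft : LocallyOfFiniteType (prod.lift s t).left) : Representable (Limits.diag F) := by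
  intro T g
  let a : (yon S).obj T ⟶ F := g ≫ prod.fst
  let b : (yon S).obj T ⟶ F := g ≫ prod.snd
  let m : pullback (Limits.diag F) g ⟶ (yon S).obj T := pullback.snd _ _
  haveI : Mono m := inferInstance
  have hfa : pullback.fst (Limits.diag F) g = m ≫ a := by
    have := congrArg (· ≫ prod.fst) (pullback.condition (f := Limits.diag F) (g := g))
    simp only [Category.assoc] at this
    change _ = pullback.snd (Limits.diag F) g ≫ g ≫ prod.fst
    rw [← this]
    unfold Limits.diag
    rw [prod.lift_fst, Category.comp_id]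
  have hfb : pullback.fst (Limits.diag F) g = m ≫ b := by
    have := congrArg (· ≫ prod.snd) (pullback.condition (f := Limits.diag F) (g := g))
    simp only [Category.assoc] at this
    change _ = pullback.snd (Limits.diag F) g ≫ g ≫ prod.snd
    rw [← this]
    unfold Limits.diag
    rw [prod.lift_snd, Category.comp_id]
  have hm : m ≫ a = m ≫ b := hfa.symm.trans hfb
  -- `r = (s, t)` is a monomorphism
  let r : R ⟶ U ⨯ U := prod.lift s t
  haveI : Mono r := ⟨fun {Z} x y hxy => by
    apply (yon S).map_injective
    apply sqR.hom_ext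
    · rw [← Functor.map_comp, ← Functor.map_comp]
      have := congrArg (· ≫ prod.fst) hxy
      simp only [Category.assoc, r, prod.lift_fst] at this
      rw [this]
    · rw [← Functor.map_comp, ← Functor.map_comp]
      have := congrArg (· ≫ prod.snd) hxy
      simp only [Category.assoc, r, prod.lift_snd] at this
      rw [this]⟩
  haveI : Mono r.left := inferInstance
  haveI : LocallyOfFiniteType r.left := hlft
  -- the covering family
  obtain ⟨Ra, hRa, hla⟩ := exists_local_lift_of_epi p a
  obtain ⟨Rb, hRb, hlb⟩ := exists_local_lift_of_epi p b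
  obtain ⟨T', c, hcR, hflat, hlfp, hsurj⟩ :=
    exists_family_of_mem_J (Ra ⊓ Rb) ((J S).intersection_covering hRa hRb)
  choose a' ha' using fun x => hla (c x) (hcR x).1
  choose b' hb' using fun x => hlb (c x) (hcR x).2
  choose a'' ha'' using fun x => (yon S).map_surjective (a' x)
  choose b'' hb'' using fun x => (yon S).map_surjective (b' x)
  let ab : ∀ x, T' x ⟶ U ⨯ U := fun x => prod.lift (a'' x) (b'' x)
  let V' : T.left → Over S := fun x => pullback (ab x) r
  let π : ∀ x, V' x ⟶ T' x := fun x => pullback.fst _ _
  let ρ : ∀ x, V' x ⟶ R := fun x => pullback.snd _ _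
  haveI : ∀ x, Mono (π x) := fun x => inferInstance
  have hπρ1 : ∀ x, π x ≫ a'' x = ρ x ≫ s := fun x => by
    have := congrArg (· ≫ prod.fst) (pullback.condition (f := ab x) (g := r))
    simp only [Category.assoc] at this
    rw [prod.lift_fst, prod.lift_fst] at this
    exact this
  have hπρ2 : ∀ x, π x ≫ b'' x = ρ x ≫ t := fun x => by
    have := congrArg (· ≫ prod.snd) (pullback.condition (f := ab x) (g := r))
    simp only [Category.assoc] at this
    rw [prod.lift_snd, prod.lift_snd] at this
    exact this
  have heq : ∀ x, (yon S).map (π x ≫ c x) ≫ a = (yon S).map (π x ≫ c x) ≫ b := fun x => by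
    rw [Functor.map_comp, Category.assoc, Category.assoc, ← ha' x, ← hb' x, ← ha'' x, ← hb'' x,
      ← Category.assoc, ← Category.assoc, ← Functor.map_comp, ← Functor.map_comp, hπρ1 x, hπρ2 x,
      Functor.map_comp, Functor.map_comp, Category.assoc, Category.assoc, sqR.w]
  let fst : ∀ x, (yon S).obj (V' x) ⟶ pullback (Limits.diag F) g := fun x =>
    pullback.lift ((yon S).map (π x ≫ c x) ≫ a) ((yon S).map (π x ≫ c x)) (by
      have := comp_fst_diag_eq ((yon S).map (π x ≫ c x) ≫ g) (by
        rw [Category.assoc, Category.assoc]; exact heq x)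
      rw [Category.assoc] at this
      exact this)
  have sq : ∀ x, IsPullback (fst x) ((yon S).map (π x)) m ((yon S).map (c x)) := fun x => by
    refine isPullback_of_mono_of_yon_lift m ((yon S).map (c x)) (π x) (fst x) ?_ ?_
    · rw [← Functor.map_comp]
      exact pullback.lift_snd _ _ _
    · intro T'' c' z hz
      have h1 : (yon S).map (c' ≫ c x) ≫ a = (yon S).map (c' ≫ c x) ≫ b := by
        rw [Functor.map_comp, ← hz, Category.assoc, Category.assoc, hm]
      have h2 : (yon S).map (c' ≫ a'' x) ≫ p = (yon S).map (c' ≫ b'' x) ≫ p := by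
        rw [Functor.map_comp, Functor.map_comp, Category.assoc, Category.assoc, ha'' x, hb'' x,
          ha' x, hb' x, ← Category.assoc, ← Category.assoc, ← Functor.map_comp]
        exact h1
      obtain ⟨q, hq⟩ := (yon S).map_surjective (sqR.lift _ _ h2)
      have hq1 : q ≫ s = c' ≫ a'' x := (yon S).map_injective (by
        rw [Functor.map_comp, hq, sqR.lift_fst])
      have hq2 : q ≫ t = c' ≫ b'' x := (yon S).map_injective (by
        rw [Functor.map_comp, hq, sqR.lift_snd])
      refine ⟨pullback.lift c' q ?_, pullback.lift_fst _ _ _⟩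
      apply Limits.prod.hom_ext
      · rw [Category.assoc, Category.assoc, prod.lift_fst, prod.lift_fst, hq1]
      · rw [Category.assoc, Category.assoc, prod.lift_snd, prod.lift_snd, hq2]
  have hπ : ∀ x, IsSeparated (π x).left ∧ LocallyQuasiFinite (π x).left ∧
      LocallyOfFiniteType (π x).left := fun x => by
    have sqL := ((IsPullback.of_hasPullback (ab x) r).map (Over.forget S)).flip
    have h1 : IsSeparated r.left := inferInstance
    have h2 : LocallyQuasiFinite r.left := inferInstance
    exact ⟨MorphismProperty.of_isPullback (P := @IsSeparated) sqL h1,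
      MorphismProperty.of_isPullback (P := @LocallyQuasiFinite) sqL h2,
      MorphismProperty.of_isPullback (P := @LocallyOfFiniteType) sqL hlft⟩
  obtain ⟨W, j, e, he⟩ := exists_rep_of_slqf sq hflat hlfp hsurj hπ
  refine ⟨W, j, e.hom ≫ pullback.fst _ _, ?_⟩
  refine (IsPullback.of_hasPullback (Limits.diag F) g).of_iso e.symm (Iso.refl _) (Iso.refl _)
    (Iso.refl _) ?_ ?_ ?_ ?_
  · simp
  · simp only [Iso.symm_hom, Iso.refl_hom, Category.comp_id]
    rw [← he, ← Category.assoc, e.inv_hom_id, Category.id_comp]
  · simp
  · simp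

end Groth.Agent.Helper15.Bridge
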