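import Mathlib
import Groth.Agent.Lib.Helper15.QuotNC1
import Groth.Agent.Lib.Helper15.CoprodEqvRel
import Groth.Agent.Lib.Helper15.QuotShBridge
import Groth.Agent.S9868

/-!
# Quotients of non-quasi-compact schemes by free actions of finite groups, II:
the quotient algebraic space
-/

set_option autoImplicit false
universe u
open CategoryTheory CategoryTheory.Limits AlgebraicGeometry MorphismProperty Opposite
open AlgSp

namespace Groth.Agent.Helper15.QuotNC

open Groth.Agent.Helper15 Groth.Agent.Helper15.Strat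

variable {S : Scheme.{u}} {W : Over S}

/-- Sections of a coproduct of copies of a scheme locally come from one summand. -/
theorem exists_local_of_cofan {G' : Type u} (c : Cofan (fun _ : G' => W)) (hc : IsColimit c)
    {T : Over S} (r : T ⟶ c.pt) (t : T.left) :
    ∃ (g : G') (N : Over S) (j : N ⟶ T) (r' : N ⟶ W), IsOpenImmersion j.left ∧
      t ∈ Set.range j.left ∧ j ≫ r = r' ≫ c.inj g := by
  obtain ⟨g, y, hy⟩ := exists_cofan_inj_left_eq c hc (r.left t)
  haveI := isOpenImmersion_cofan_inj_left c hc g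
  obtain ⟨z, hz, -⟩ := Scheme.Pullback.exists_preimage_pullback (f := r.left)
    (g := (c.inj g).left) t y hy.symm
  refine ⟨g, Over.mk (pullback.fst r.left (c.inj g).left ≫ T.hom),
    Over.homMk (pullback.fst r.left (c.inj g).left) rfl,
    Over.homMk (pullback.snd r.left (c.inj g).left) ?_, ?_, ⟨z, hz⟩, ?_⟩
  · change pullback.snd r.left (c.inj g).left ≫ W.hom = pullback.fst r.left (c.inj g).left ≫ T.hom
    rw [← Over.w (c.inj g), ← Over.w r, ← Category.assoc, ← Category.assoc, pullback.condition]
  · change IsOpenImmersion (pullback.fst r.left (c.inj g).left)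
    infer_instance
  · ext
    exact pullback.condition

variable {G : Type} [Group G]
  (ρ : G → (W ⟶ W)) (h1 : ρ 1 = 𝟙 W) (hmul : ∀ σ τ : G, ρ (σ * τ) = ρ τ ≫ ρ σ)

/-- The action as a group homomorphism to `Aut W` (on the lifted group). -/
noncomputable def ρAut : ULift.{u} G →* Aut W where
  toFun g := ⟨ρ g.down, ρ g.down⁻¹, by rw [← hmul, inv_mul_cancel, h1],
    by rw [← hmul, mul_inv_cancel, h1]⟩
  map_one' := by
    apply Iso.ext
    exact h1
  map_mul' g h := by
    apply Iso.ext
    exact hmul g.down h.down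

theorem ρAut_hom (g : ULift.{u} G) : (ρAut ρ h1 hmul g).hom = ρ g.down := rfl

variable (hfree : ∀ σ : G, σ ≠ 1 → ∀ (T : Over S) (a : T ⟶ W), a ≫ ρ σ = a → IsEmpty T.left)

include hfree in
theorem ρAut_free (g : ULift.{u} G) (x : W.left) (hg : g ≠ 1) :
    W.left.fromSpecResidueField x ≫ (ρAut ρ h1 hmul g).hom.left ≠
      W.left.fromSpecResidueField x := by
  intro h
  have hg' : g.down ≠ 1 := fun h' => hg (ULift.ext _ _ h')
  have := hfree g.down hg' (Over.mk (W.left.fromSpecResidueField x ≫ W.hom))
    (Over.homMk (W.left.fromSpecResidueField x) rfl) (by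
      ext
      exact h)
  exact this.false (Classical.arbitrary (Spec (W.left.residueField x)))

include h1 hmul hfree in
/-- **The quotient algebraic space of a free action of a finite group on a scheme.** -/
theorem exists_presentation :
    ∃ (F : Sp S) (q : (yon S).obj W ⟶ F), IsAlgSpace F ∧ RepWith @Etale q ∧
      RepWith @Surjective q ∧ Epi q ∧ (∀ σ, (yon S).map (ρ σ) ≫ q = q) ∧
      ∀ (T : Over S) (a b : T ⟶ W), (yon S).map a ≫ q = (yon S).map b ≫ q → ∀ t : T.left,
        ∃ (σ : G) (N : Over S) (j : N ⟶ T), IsOpenImmersion j.left ∧ t ∈ Set.range j.left ∧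
          j ≫ b = j ≫ a ≫ ρ σ := by
  let G' := ULift.{u} G
  let ρ' : G' →* Aut W := ρAut ρ h1 hmul
  let c : Cofan (fun _ : G' => W) := Cofan.mk (∐ fun _ : G' => W) (Sigma.ι _)
  have hc : IsColimit c := coproductIsCoproduct _
  let s : c.pt ⟶ W := Sigma.desc (fun _ => 𝟙 W)
  let t : c.pt ⟶ W := Sigma.desc (fun g => (ρ' g).hom)
  have hs : ∀ g, c.inj g ≫ s = 𝟙 W := fun g => Sigma.ι_desc _ _
  have ht : ∀ g, c.inj g ≫ t = (ρ' g).hom := fun g => Sigma.ι_desc _ _
  have h : IsEtaleEqvRel s t := isEtaleEqvRel_of_free_action c hc ρ' s t hs ht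
    (fun g x hg => ρAut_free ρ h1 hmul hfree g x hg)
  have hF := Groth.Agent.S9868.result S s t h
  have hq := isPresentation_quotShπ s t h hF
  refine ⟨_, quotShπ s t, hF, hq.etale, hq.surjective, inferInstance, ?_, ?_⟩
  · intro σ
    have h2 := congrArg (fun φ => (yon S).map (c.inj (ULift.up σ)) ≫ φ) (quotShπ_condition s t)
    simp only [← Category.assoc, ← Functor.map_comp, hs, ht] at h2
    rw [CategoryTheory.Functor.map_id, Category.id_comp] at h2
    exact h2.symm
  · intro T a b hab t₀
    obtain ⟨r, hr1, hr2⟩ : ∃ r : T ⟶ c.pt, r ≫ t = b ∧ r ≫ s = a := by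
      refine ⟨(yon S).preimage (hq.isPullback.lift ((yon S).map b) ((yon S).map a) hab.symm), ?_, ?_⟩
      · apply (yon S).map_injective
        rw [Functor.map_comp, Functor.map_preimage, IsPullback.lift_fst]
      · apply (yon S).map_injective
        rw [Functor.map_comp, Functor.map_preimage, IsPullback.lift_snd]
    obtain ⟨g, N, j, r', hj1, hj2, hj3⟩ := exists_local_of_cofan c hc r t₀
    refine ⟨g.down, N, j, hj1, hj2, ?_⟩
    rw [← hr1, ← hr2, ← Category.assoc, hj3, Category.assoc, ht, ← Category.assoc j,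
      ← Category.assoc j, hj3, Category.assoc r', hs, Category.comp_id]
    rfl

end Groth.Agent.Helper15.QuotNC
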