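import Mathlib
import Groth.Agent.Lib.Helper15.QuotNC2
import Groth.Agent.Lib.Helper15.Strat2
import Groth.Agent.Lib.Helper15.AlgSpGlue
import Groth.Agent.Lib.Helper15.AlgSpUnram
import Groth.Agent.Lib.Helper15.AlgSpEtCl
import Groth.Agent.Lib.Helper15.AffDesc3
import Groth.Agent.Lib.Helper15.NormSN

/-!
# Quotients of non-quasi-compact schemes by free actions of finite groups, III:
open charts of the quotient
-/

set_option autoImplicit false
universe u
open CategoryTheory CategoryTheory.Limits AlgebraicGeometry MorphismProperty Opposite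
open AlgSp

namespace Groth.Agent.Helper15.QuotNC

open Groth.Agent.Helper15 Groth.Agent.Helper15.Strat

variable {S : Scheme.{u}} {W : Over S}

variable {G : Type} [Group G]
  (ρ : G → (W ⟶ W)) (h1 : ρ 1 = 𝟙 W) (hmul : ∀ σ τ : G, ρ (σ * τ) = ρ τ ≫ ρ σ)
  (hfree : ∀ σ : G, σ ≠ 1 → ∀ (T : Over S) (a : T ⟶ W), a ≫ ρ σ = a → IsEmpty T.left)

include h1 hmul hfree in
/-- The quotient of an invariant quasi-compact open is an open subspace of the quotient. -/
theorem exists_open_chart [Fintype G] {F : Sp S} (q : (yon S).obj W ⟶ F) (hF : IsAlgSpace F)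
    (hqe : RepWith @Etale q) (hqi : ∀ σ, (yon S).map (ρ σ) ≫ q = q)
    (hqk : ∀ (T : Over S) (a b : T ⟶ W), (yon S).map a ≫ q = (yon S).map b ≫ q → ∀ t : T.left,
        ∃ (σ : G) (N : Over S) (j : N ⟶ T), IsOpenImmersion j.left ∧ t ∈ Set.range j.left ∧
          j ≫ b = j ≫ a ≫ ρ σ)
    (O : W.left.Opens) (hO : IsCompact (O : Set W.left)) (hinv : ∀ σ, (ρ σ).left ⁻¹ᵁ O = O)
    {A : Scheme.{u}} [IsAffine A] (f : W.left ⟶ A) [Etale f] [IsSeparated f] :
    ∃ (V : Over S) (π : opSub W O ⟶ V) (a : (yon S).obj V ⟶ F), V.left.IsSeparated ∧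
      Etale π.left ∧ Surjective π.left ∧
      (yon S).map π ≫ a = (yon S).map (opι W O) ≫ q ∧ RepWith @IsOpenImmersion a := by
  obtain ⟨ρO, V, π, hρO, hV, hπe, hπs, hπi, hπk⟩ :=
    exists_quotient_of_invariant ρ h1 hmul hfree O hO hinv f
  haveI : Epi ((yon S).map π) := Norm.epi_of_etale_surjective _
    ((repWith_yon_map_iff _ π).2 hπe) ((repWith_yon_map_iff _ π).2 hπs)
  -- invariance of `ι ≫ q`
  have hinvq : ∀ σ, (yon S).map (ρO σ) ≫ (yon S).map (opι W O) ≫ q =
      (yon S).map (opι W O) ≫ q := by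
    intro σ
    rw [← Category.assoc, ← Functor.map_comp, hρO, Functor.map_comp, Category.assoc, hqi]
  obtain ⟨a, ha⟩ := AffDesc.exists_desc_of_epi ((yon S).map π) ((yon S).map (opι W O) ≫ q) (by
    intro T x y hxy
    obtain ⟨α, rfl⟩ := (yon S).map_surjective x
    obtain ⟨β, rfl⟩ := (yon S).map_surjective y
    have hab : α ≫ π = β ≫ π := by
      apply (yon S).map_injective
      rw [Functor.map_comp, Functor.map_comp, hxy]
    apply yon_hom_ext_zariski
    intro t
    obtain ⟨σ, N, j, hj1, hj2, hj3⟩ := hπk T α β hab t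
    refine ⟨N, j, hj1, hj2, ?_⟩
    have e1 : (yon S).map j ≫ (yon S).map β =
        (yon S).map j ≫ (yon S).map α ≫ (yon S).map (ρO σ) := by
      rw [← Functor.map_comp, hj3, Functor.map_comp, Functor.map_comp]
    rw [← Category.assoc ((yon S).map j) ((yon S).map β), e1, Category.assoc, Category.assoc,
      hinvq])
  have hιe : RepWith @Etale ((yon S).map (opι W O)) :=
    (repWith_yon_map_iff _ _).2 (by change Etale O.ι; infer_instance)
  have hae : RepWith @Etale a := by
    apply repWith_etale_of_comp_surjective_etale hF π hπe hπs a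
    rw [ha]
    exact (RepWith @Etale).comp_mem _ _ hιe hqe
  haveI : Mono a := by
    apply mono_of_yon
    intro T x y hxy
    obtain ⟨R₁, hR₁, hl₁⟩ := exists_local_lift_of_epi' ((yon S).map π) x
    obtain ⟨R₂, hR₂, hl₂⟩ := exists_local_lift_of_epi' ((yon S).map π) y
    apply yon_hom_ext_of_cover x y (R₁ ⊓ R₂) ((J S).intersection_covering hR₁ hR₂)
    rintro T' k ⟨hk1, hk2⟩
    obtain ⟨τ₁, hτ₁⟩ := hl₁ k hk1
    obtain ⟨τ₂, hτ₂⟩ := hl₂ k hk2
    obtain ⟨α', rfl⟩ := (yon S).map_surjective τ₁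
    obtain ⟨β', rfl⟩ := (yon S).map_surjective τ₂
    rw [← hτ₁, ← hτ₂, ← Functor.map_comp, ← Functor.map_comp]
    congr 1
    have hq' : (yon S).map (α' ≫ opι W O) ≫ q = (yon S).map (β' ≫ opι W O) ≫ q := by
      rw [Functor.map_comp, Functor.map_comp, Category.assoc, Category.assoc, ← ha,
        ← Category.assoc, ← Category.assoc, hτ₁, hτ₂, Category.assoc, Category.assoc, hxy]
    apply (yon S).map_injective
    apply yon_hom_ext_zariski
    intro t
    obtain ⟨σ, N, j, hj1, hj2, hj3⟩ := hqk T' _ _ hq' t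
    refine ⟨N, j, hj1, hj2, ?_⟩
    have hj4 : j ≫ β' = j ≫ α' ≫ ρO σ := by
      rw [← cancel_mono (opι W O)]
      simp only [Category.assoc]
      rw [hρO]
      simpa only [Category.assoc] using hj3
    rw [← Functor.map_comp, ← Functor.map_comp, ← Category.assoc, ← Category.assoc j, hj4,
      Category.assoc, Category.assoc]
    congr 1
    rw [Category.assoc, hπi]
  exact ⟨V, π, a, hV, hπe, hπs, ha, repWith_isOpenImmersion_of_etale_mono a hae⟩

end Groth.Agent.Helper15.QuotNC
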