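import Mathlib
import Groth.Agent.Lib.Helper15.QuotNC3
import Groth.Agent.Lib.Helper15.AlgSpTop
import Groth.Agent.Lib.Helper15.AlgSpLocP

/-!
# Quotients of non-quasi-compact schemes by free actions of finite groups, IV:
the quotient is a separated scheme
-/

set_option autoImplicit false
universe u
open CategoryTheory CategoryTheory.Limits AlgebraicGeometry MorphismProperty Opposite
open AlgSp

namespace Groth.Agent.Helper15.QuotNC

open Groth.Agent.Helper15 Groth.Agent.Helper15.Strat


/-- A scheme which is a directed union of separated open subschemes is separated. -/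
theorem isSeparated_of_directed_openCover {V : Scheme.{u}} {ι : Type*} (U : ι → Scheme.{u})
    (j : ∀ i, U i ⟶ V) [∀ i, IsOpenImmersion (j i)] (hU : ∀ i, (U i).IsSeparated)
    (hdir : ∀ v₁ v₂ : V, ∃ i, v₁ ∈ Set.range (j i) ∧ v₂ ∈ Set.range (j i)) :
    V.IsSeparated := by
  constructor
  constructor
  apply IsClosedImmersion.of_isPreimmersion
  rw [← isOpen_compl_iff, isOpen_iff_forall_mem_open]
  intro z hz
  obtain ⟨i, ⟨u₁, hu₁⟩, ⟨u₂, hu₂⟩⟩ := hdir (pullback.fst (terminal.from V) (terminal.from V) z)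
    (pullback.snd (terminal.from V) (terminal.from V) z)
  let m : pullback (terminal.from (U i)) (terminal.from (U i)) ⟶
      pullback (terminal.from V) (terminal.from V) :=
    pullback.map _ _ _ _ (j i) (j i) (𝟙 _) (by simp) (by simp)
  haveI : IsOpenImmersion m := inferInstance
  have hrm : Set.range m = pullback.fst (terminal.from V) (terminal.from V) ⁻¹' Set.range (j i) ∩
      pullback.snd (terminal.from V) (terminal.from V) ⁻¹' Set.range (j i) :=
    Scheme.Pullback.range_map _ _ _ _ _ _ _ _ _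
  obtain ⟨z', hz'⟩ : z ∈ Set.range m := by
    rw [hrm]; exact ⟨⟨u₁, hu₁⟩, ⟨u₂, hu₂⟩⟩
  haveI := hU i
  have hcl : IsClosed (Set.range (pullback.diagonal (terminal.from (U i)))) :=
    (pullback.diagonal (terminal.from (U i))).isClosedEmbedding.isClosed_range
  have hm1 : m ≫ pullback.fst (terminal.from V) (terminal.from V) =
      pullback.fst (terminal.from (U i)) (terminal.from (U i)) ≫ j i := pullback.lift_fst _ _ _
  have hm2 : m ≫ pullback.snd (terminal.from V) (terminal.from V) =
      pullback.snd (terminal.from (U i)) (terminal.from (U i)) ≫ j i := pullback.lift_snd _ _ _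
  have hmΔ : pullback.diagonal (terminal.from (U i)) ≫ m =
      j i ≫ pullback.diagonal (terminal.from V) := by
    apply pullback.hom_ext
    · rw [Category.assoc, hm1, ← Category.assoc, pullback.diagonal_fst, Category.id_comp,
        Category.assoc, pullback.diagonal_fst, Category.comp_id]
    · rw [Category.assoc, hm2, ← Category.assoc, pullback.diagonal_snd, Category.id_comp,
        Category.assoc, pullback.diagonal_snd, Category.comp_id]
  have hz'n : z' ∉ Set.range (pullback.diagonal (terminal.from (U i))) := by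
    rintro ⟨u, rfl⟩
    apply hz
    refine ⟨j i u, ?_⟩
    rw [← hz', ← Scheme.Hom.comp_apply, ← Scheme.Hom.comp_apply, hmΔ]
  refine ⟨m '' (Set.range (pullback.diagonal (terminal.from (U i))))ᶜ, ?_,
    m.isOpenEmbedding.isOpenMap _ hcl.isOpen_compl, ⟨z', hz'n, hz'⟩⟩
  rintro _ ⟨n', hn', rfl⟩ ⟨v, hv⟩
  apply hn'
  refine ⟨pullback.fst (terminal.from (U i)) (terminal.from (U i)) n', ?_⟩
  apply m.isOpenEmbedding.injective
  rw [← Scheme.Hom.comp_apply, hmΔ, Scheme.Hom.comp_apply]
  have h1 : pullback.fst (terminal.from V) (terminal.from V) (m n') =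
      j i (pullback.fst (terminal.from (U i)) (terminal.from (U i)) n') := by
    rw [← Scheme.Hom.comp_apply, ← Scheme.Hom.comp_apply, hm1]
  have h2 : pullback.fst (terminal.from V) (terminal.from V) (m n') = v := by
    rw [← hv, ← Scheme.Hom.comp_apply]
    simp
  rw [← h1, h2, hv]


variable {S : Scheme.{u}} {W : Over S}

variable {G : Type} [Group G]
  (ρ : G → (W ⟶ W)) (h1 : ρ 1 = 𝟙 W) (hmul : ∀ σ τ : G, ρ (σ * τ) = ρ τ ≫ ρ σ)
  (hfree : ∀ σ : G, σ ≠ 1 → ∀ (T : Over S) (a : T ⟶ W), a ≫ ρ σ = a → IsEmpty T.left)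

include h1 hmul hfree in
/-- **Quotient of a scheme, separated and etale over an affine scheme, by a free action of a
finite group** (no quasi-compactness). -/
theorem exists_quotient [Fintype G] {A : Scheme.{u}} [IsAffine A] (f : W.left ⟶ A) [Etale f]
    [IsSeparated f] :
    ∃ (V : Over S) (π : W ⟶ V), V.left.IsSeparated ∧ Etale π.left ∧ Surjective π.left ∧
      (∀ σ, ρ σ ≫ π = π) ∧
      ∀ (T : Over S) (a b : T ⟶ W), a ≫ π = b ≫ π → ∀ t : T.left,
        ∃ (σ : G) (N : Over S) (j : N ⟶ T), IsOpenImmersion j.left ∧ t ∈ Set.range j.left ∧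
          j ≫ b = j ≫ a ≫ ρ σ := by
  obtain ⟨F, q, hF, hqe, hqs, hqepi, hqi, hqk⟩ := exists_presentation ρ h1 hmul hfree
  let ι : Type u := {O : W.left.Opens // IsCompact (O : Set W.left) ∧ ∀ σ, (ρ σ).left ⁻¹ᵁ O = O}
  choose VO πO aO hVO hπOe hπOs haO haOo using fun O : ι =>
    exists_open_chart ρ h1 hmul hfree q hF hqe hqi hqk O.1 O.2.1 O.2.2 f
  -- points of the charts
  have hpt : ∀ (O : ι) (w' : (opSub W O.1).left),
      Points.ofPt q ((opι W O.1).left w') = Points.map (aO O) (Points.ofScheme (VO O) ((πO O).left w')) := by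
    intro O w'
    rw [← ofPt_comp_yon_map, ← haO, ofPt_comp_yon_map, Points.ofPt_eq_map_ofScheme]
  have hcov : ∀ x : Points F, ∃ O, x ∈ Set.range (Points.map (aO O)) := by
    intro x
    obtain ⟨w, rfl⟩ := surjective_ofPt q hqs x
    obtain ⟨O, hO1, hO2, hw, -⟩ := exists_invariant_open ρ h1 hmul w w
    exact ⟨⟨O, hO1, hO2⟩, _, (hpt ⟨O, hO1, hO2⟩ ⟨w, hw⟩).symm⟩
  obtain ⟨V, e, j, hj, hje, hjs⟩ := exists_rep_of_openCover haOo hcov
  let π : W ⟶ V := (yon S).preimage (q ≫ e.inv)
  have hπ : (yon S).map π = q ≫ e.inv := Functor.map_preimage _ _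
  have hπj : ∀ O : ι, opι W O.1 ≫ π = πO O ≫ j O := by
    intro O
    apply (yon S).map_injective
    rw [Functor.map_comp, Functor.map_comp, hπ, ← Category.assoc, ← haO, Category.assoc,
      ← hje, Category.assoc, Iso.hom_inv_id, Category.comp_id]
  have hπe : Etale π.left := by
    apply (repWith_yon_map_iff @Etale π).1
    rw [hπ]
    exact (RepWith @Etale).comp_mem _ _ hqe (repWith_of_isIso _ _)
  have hπs : Surjective π.left := by
    apply (repWith_yon_map_iff @Surjective π).1
    rw [hπ]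
    exact (RepWith @Surjective).comp_mem _ _ hqs (repWith_of_isIso _ _)
  refine ⟨V, π, ?_, hπe, hπs, ?_, ?_⟩
  · -- separatedness
    haveI : ∀ O : ι, IsOpenImmersion (j O).left := hj
    apply isSeparated_of_directed_openCover (fun O : ι => (VO O).left) (fun O => (j O).left) hVO
    intro v₁ v₂
    obtain ⟨w₁, rfl⟩ := hπs.surj v₁
    obtain ⟨w₂, rfl⟩ := hπs.surj v₂
    obtain ⟨O, hO1, hO2, hw₁, hw₂⟩ := exists_invariant_open ρ h1 hmul w₁ w₂
    have key : ∀ w' : (opSub W O).left, π.left ((opι W O).left w') ∈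
        Set.range (j ⟨O, hO1, hO2⟩).left := by
      intro w'
      refine ⟨(πO ⟨O, hO1, hO2⟩).left w', ?_⟩
      rw [← Scheme.Hom.comp_apply, ← Scheme.Hom.comp_apply, ← Over.comp_left, ← Over.comp_left,
        hπj ⟨O, hO1, hO2⟩]
    exact ⟨⟨O, hO1, hO2⟩, key ⟨w₁, hw₁⟩, key ⟨w₂, hw₂⟩⟩
  · intro σ
    apply (yon S).map_injective
    rw [Functor.map_comp, hπ, ← Category.assoc, hqi]
  · intro T a b hab t
    apply hqk T a b _ t
    have h2 := congrArg (fun φ => (yon S).map φ) hab
    simp only [Functor.map_comp, hπ] at h2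
    rw [← cancel_mono e.inv]
    simpa only [Category.assoc] using h2

end Groth.Agent.Helper15.QuotNC
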