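import Mathlib
import Groth.Agent.Lib.Helper15.Strat1

/-!
# Configuration spaces without quasi-compactness, I (for quasi-compact, not necessarily
quasi-separated algebraic spaces)
-/

set_option autoImplicit false
universe u
open CategoryTheory CategoryTheory.Limits AlgebraicGeometry MorphismProperty Opposite
open AlgSp

namespace Groth.Agent.Helper15.StratNC

open Groth.Agent.Helper15 Groth.Agent.Helper15.Strat

variable {S : Scheme.{u}} {X : Sp S} {U : Over S} (p : (yon S).obj U ⟶ X)


/-- `W` with projections `pr i : W ⟶ U` represents tuples of `n + 1` pairwise everywhere distinct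
points of `U` lying over one point of `X`; moreover the first projection is etale and separated
(no compactness). -/
structure IsConf (n : ℕ) (W : Over S) (pr : Fin (n + 1) → (W ⟶ U)) : Prop where
  compat : ∀ i j, (yon S).map (pr i) ≫ p = (yon S).map (pr j) ≫ p
  distinct : ∀ i j, i ≠ j → ∀ (T : Over S) (c : T ⟶ W), c ≫ pr i = c ≫ pr j → IsEmpty T.left
  lift : ∀ (T : Over S) (a : Fin (n + 1) → (T ⟶ U)),
    (∀ i j, (yon S).map (a i) ≫ p = (yon S).map (a j) ≫ p) →
    (∀ i j, i ≠ j → ∀ (T' : Over S) (c : T' ⟶ T), c ≫ a i = c ≫ a j → IsEmpty T'.left) →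
    ∃ l : T ⟶ W, ∀ i, l ≫ pr i = a i
  ext : ∀ (T : Over S) (l l' : T ⟶ W), (∀ i, l ≫ pr i = l' ≫ pr i) → l = l'
  etale : Etale (pr 0).left
  sep : IsSeparated (pr 0).left

theorem isConf_zero : IsConf p 0 U (fun _ => 𝟙 U) where
  compat _ _ := rfl
  distinct i j hij := absurd ((Fin.eq_zero i).trans (Fin.eq_zero j).symm) hij
  lift T a _ _ := ⟨a 0, fun i => by rw [Category.comp_id, Fin.eq_zero i]⟩
  ext T l l' h := by simpa using h 0
  etale := by rw [Over.id_left]; infer_instance
  sep := by rw [Over.id_left]; infer_instance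


theorem exists_isConf_succ (hX : IsAlgSpace X)
    (hpe : RepWith @Etale p) (hU : IsSeparated U.hom) {n : ℕ}
    {W : Over S} {pr : Fin (n + 1) → (W ⟶ U)} (hW : IsConf p n W pr) :
    ∃ (W' : Over S) (pr' : Fin (n + 2) → (W' ⟶ U)), IsConf p (n + 1) W' pr' := by
  have hps := repWith_isSeparated_chart p hX hpe hU
  let g : (yon S).obj W ⟶ X := (yon S).map (pr 0) ≫ p
  have hrep := hpe.rep
  let Q := hrep.pullback g
  let q₁ : Q ⟶ W := hrep.snd g
  let q₂ : Q ⟶ U := hrep.fst' g
  have sq : IsPullback ((yon S).map q₂) ((yon S).map q₁) p g := hrep.isPullback' g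
  have hq₁e : Etale q₁.left := hpe.property_snd g
  have hq₁s : IsSeparated q₁.left := hps.property_snd g
  have hab : ∀ i, (yon S).map (q₁ ≫ pr i) ≫ p = (yon S).map q₂ ≫ p := by
    intro i
    rw [Functor.map_comp, Category.assoc, hW.compat i 0, sq.w]
  choose E e he1 he2 he3 he4 using fun i => exists_eqLocus p hX hpe hU (q₁ ≫ pr i) q₂ (hab i)
  have hopen : IsOpen (⋃ i, Set.range (e i).left)ᶜ := by
    rw [isOpen_compl_iff]
    exact isClosed_iUnion_of_finite (fun i => (e i).left.isClosedEmbedding.isClosed_range)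
  have hclosed : IsClosed (⋃ i, Set.range (e i).left)ᶜ := by
    rw [isClosed_compl_iff]
    exact isOpen_iUnion (fun i => (e i).left.isOpenEmbedding.isOpen_range)
  let Ω : Q.left.Opens := ⟨_, hopen⟩
  let W' : Over S := Over.mk (Ω.ι ≫ Q.hom)
  let ι : W' ⟶ Q := Over.homMk Ω.ι rfl
  haveI : Mono ι := by
    refine ⟨fun {Z} a b hab => ?_⟩
    ext
    have := congrArg (fun f => f.left) hab
    exact (cancel_mono Ω.ι).1 this
  let pr' : Fin (n + 2) → (W' ⟶ U) :=
    Fin.snoc (α := fun _ => W' ⟶ U) (fun i => ι ≫ q₁ ≫ pr i) (ι ≫ q₂)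
  have hpr1 : ∀ i : Fin (n + 1), pr' (Fin.castSucc i) = ι ≫ q₁ ≫ pr i := fun i =>
    Fin.snoc_castSucc (α := fun _ => W' ⟶ U) _ _ i
  have hpr2 : pr' (Fin.last (n + 1)) = ι ≫ q₂ := Fin.snoc_last (α := fun _ => W' ⟶ U) _ _
  have hpr0 : pr' 0 = ι ≫ q₁ ≫ pr 0 := by
    rw [← Fin.castSucc_zero, hpr1]
  -- points of `W'` avoid the equaliser loci
  have havoid : ∀ (i : Fin (n + 1)) (T : Over S) (c : T ⟶ W'),
      c ≫ ι ≫ q₁ ≫ pr i = c ≫ ι ≫ q₂ → IsEmpty T.left := by
    intro i T c hc
    obtain ⟨c', hc'⟩ := he4 i T (c ≫ ι) (by simpa only [Category.assoc] using hc)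
    refine ⟨fun t => ?_⟩
    have h1 : (c ≫ ι).left t ∈ (⋃ i, Set.range (e i).left)ᶜ := (c.left t).2
    apply h1
    refine Set.mem_iUnion.2 ⟨i, c'.left t, ?_⟩
    rw [← hc']
    rfl
  have hcommon : ∀ i, (yon S).map (pr' i) ≫ p = (yon S).map ι ≫ (yon S).map q₁ ≫ g := by
    intro i
    refine Fin.lastCases ?_ (fun i => ?_) i
    · rw [hpr2, Functor.map_comp, Category.assoc, sq.w]
    · rw [hpr1, Functor.map_comp, Functor.map_comp, Category.assoc, Category.assoc, hW.compat i 0]
  refine ⟨W', pr', ⟨fun i j => (hcommon i).trans (hcommon j).symm, ?_, ?_, ?_, ?_, ?_⟩⟩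
  · -- distinct
    intro i j
    refine Fin.lastCases ?_ (fun i => ?_) i
    · refine Fin.lastCases ?_ (fun j => ?_) j
      · intro h; exact absurd rfl h
      · intro _ T c hc
        rw [hpr1, hpr2] at hc
        exact havoid j T c hc.symm
    · refine Fin.lastCases ?_ (fun j => ?_) j
      · intro _ T c hc
        rw [hpr1, hpr2] at hc
        exact havoid i T c hc
      · intro hij T c hc
        rw [hpr1, hpr1] at hc
        refine hW.distinct i j (fun h => hij (by rw [h])) T (c ≫ ι ≫ q₁) ?_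
        simpa only [Category.assoc] using hc
  · -- lift
    intro T a hac had
    obtain ⟨l₀, hl₀⟩ := hW.lift T (fun i => a (Fin.castSucc i)) (fun i j => hac _ _)
      (fun i j hij T' c hc => had _ _ (fun h => hij (Fin.castSucc_injective _ h)) T' c hc)
    have hw : (yon S).map (a (Fin.last (n + 1))) ≫ p = (yon S).map l₀ ≫ g := by
      rw [← Category.assoc, ← Functor.map_comp, hl₀ 0]
      exact hac _ _
    obtain ⟨l₁, hl₁⟩ := (yon S).map_surjective (sq.lift _ _ hw)
    have hl₁1 : l₁ ≫ q₂ = a (Fin.last (n + 1)) := by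
      apply (yon S).map_injective
      rw [Functor.map_comp, hl₁, sq.lift_fst]
    have hl₁2 : l₁ ≫ q₁ = l₀ := by
      apply (yon S).map_injective
      rw [Functor.map_comp, hl₁, sq.lift_snd]
    have hrange : Set.range l₁.left ⊆ Set.range Ω.ι := by
      rintro _ ⟨t, rfl⟩
      rw [Scheme.Opens.range_ι]
      intro hmem
      obtain ⟨i, hi⟩ := Set.mem_iUnion.1 hmem
      -- the residue field point
      let T' : Over S := Over.mk (T.left.fromSpecResidueField t ≫ T.hom)
      let ιt : T' ⟶ T := Over.homMk (T.left.fromSpecResidueField t) rfl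
      have hrange' : Set.range (ιt ≫ l₁).left ⊆ Set.range (e i).left := by
        rintro _ ⟨y, rfl⟩
        change l₁.left ((T.left.fromSpecResidueField t) y) ∈ _
        rw [Scheme.fromSpecResidueField_apply]
        exact hi
      haveI := he1 i
      let c'' : T' ⟶ E i := Over.homMk (IsOpenImmersion.lift (e i).left (ιt ≫ l₁).left hrange') (by
        change _ ≫ (E i).hom = T'.hom
        rw [← CategoryTheory.Over.w (e i), ← Category.assoc, IsOpenImmersion.lift_fac, CategoryTheory.Over.w])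
      have hc'' : c'' ≫ e i = ιt ≫ l₁ := by
        ext
        exact IsOpenImmersion.lift_fac _ _ _
      have heq : ιt ≫ a (Fin.castSucc i) = ιt ≫ a (Fin.last (n + 1)) := by
        rw [← hl₁1, ← hl₀ i, ← hl₁2]
        simp only [Category.assoc]
        rw [← Category.assoc ιt, ← hc'', Category.assoc, he3 i, ← Category.assoc, hc'',
          Category.assoc]
      have hne : Fin.castSucc i ≠ Fin.last (n + 1) := (Fin.castSucc_lt_last i).ne
      have := had _ _ hne T' ιt heq
      exact this.false (⊥ : PrimeSpectrum (T.left.residueField t))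
    let l : T ⟶ W' := Over.homMk (IsOpenImmersion.lift Ω.ι l₁.left hrange) (by
      change _ ≫ Ω.ι ≫ Q.hom = T.hom
      rw [← Category.assoc, IsOpenImmersion.lift_fac, CategoryTheory.Over.w])
    have hl : l ≫ ι = l₁ := by
      ext
      exact IsOpenImmersion.lift_fac _ _ _
    refine ⟨l, fun i => ?_⟩
    refine Fin.lastCases ?_ (fun i => ?_) i
    · rw [hpr2, ← Category.assoc, hl, hl₁1]
    · rw [hpr1, ← Category.assoc, hl, ← Category.assoc, hl₁2, hl₀]
  · -- ext
    intro T l l' h
    rw [← cancel_mono ι]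
    apply (yon S).map_injective
    apply sq.hom_ext
    · rw [← Functor.map_comp, ← Functor.map_comp, Category.assoc, Category.assoc, ← hpr2]
      exact congrArg _ (h _)
    · rw [← Functor.map_comp, ← Functor.map_comp]
      congr 1
      apply hW.ext
      intro i
      have := h (Fin.castSucc i)
      rw [hpr1] at this
      simpa only [Category.assoc] using this
  · -- etale
    rw [hpr0]
    change Etale (Ω.ι ≫ q₁.left ≫ (pr 0).left)
    haveI := hW.etale
    infer_instance
  · rw [hpr0]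
    change IsSeparated (Ω.ι ≫ q₁.left ≫ (pr 0).left)
    haveI := hW.sep
    infer_instance

theorem exists_isConf (hX : IsAlgSpace X)
    (hpe : RepWith @Etale p) (hU : IsSeparated U.hom) (n : ℕ) :
    ∃ (W : Over S) (pr : Fin (n + 1) → (W ⟶ U)), IsConf p n W pr := by
  induction n with
  | zero => exact ⟨U, _, isConf_zero p⟩
  | succ n ih =>
    obtain ⟨W, pr, h⟩ := ih
    exact exists_isConf_succ p hX hpe hU h

namespace IsConf

variable {p} {n : ℕ} {W : Over S} {pr : Fin (n + 1) → (W ⟶ U)} (hW : IsConf p n W pr)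

include hW in
/-- Forgetting the last point. -/
theorem exists_forget {W' : Over S} {pr' : Fin (n + 2) → (W' ⟶ U)} (hW' : IsConf p (n + 1) W' pr') :
    ∃ m : W' ⟶ W, ∀ i, m ≫ pr i = pr' (Fin.castSucc i) :=
  hW.lift W' (fun i => pr' (Fin.castSucc i)) (fun _ _ => hW'.compat _ _)
    (fun _ _ hij T c hc => hW'.distinct _ _ (fun h => hij (Fin.castSucc_injective _ h)) T c hc)

include hW in
theorem exists_perm (σ : Equiv.Perm (Fin (n + 1))) :
    ∃ r : W ⟶ W, ∀ i, r ≫ pr i = pr (σ.symm i) :=
  hW.lift W (fun i => pr (σ.symm i)) (fun _ _ => hW.compat _ _)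
    (fun _ _ hij T c hc => hW.distinct _ _ (fun h => hij (σ.symm.injective h)) T c hc)

/-- The action of the symmetric group. -/
noncomputable def ρ (σ : Equiv.Perm (Fin (n + 1))) : W ⟶ W := (hW.exists_perm σ).choose

theorem ρ_pr (σ : Equiv.Perm (Fin (n + 1))) (i : Fin (n + 1)) :
    hW.ρ σ ≫ pr i = pr (σ.symm i) := (hW.exists_perm σ).choose_spec i

theorem ρ_one : hW.ρ 1 = 𝟙 W := by
  apply hW.ext
  intro i
  rw [ρ_pr, Category.id_comp]
  rfl

theorem ρ_mul (σ τ : Equiv.Perm (Fin (n + 1))) : hW.ρ (σ * τ) = hW.ρ τ ≫ hW.ρ σ := by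
  apply hW.ext
  intro i
  rw [ρ_pr, Category.assoc, ρ_pr, ρ_pr]
  rfl

theorem ρ_free (σ : Equiv.Perm (Fin (n + 1))) (hσ : σ ≠ 1) (T : Over S) (a : T ⟶ W)
    (ha : a ≫ hW.ρ σ = a) : IsEmpty T.left := by
  have hσ' : σ.symm ≠ 1 := fun h => hσ (by
    have := congrArg Equiv.symm h
    rw [Equiv.symm_symm] at this
    exact this)
  obtain ⟨i, hi⟩ : ∃ i, σ.symm i ≠ i := by
    by_contra hcon
    push Not at hcon
    exact hσ' (Equiv.ext hcon)
  refine hW.distinct _ _ hi T a ?_
  rw [← hW.ρ_pr σ i, ← Category.assoc, ha]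

/-- The chart of `X` given by the configuration space. -/
noncomputable def g (_ : IsConf p n W pr) : (yon S).obj W ⟶ X := (yon S).map (pr 0) ≫ p

theorem ρ_g (σ : Equiv.Perm (Fin (n + 1))) : (yon S).map (hW.ρ σ) ≫ hW.g = hW.g := by
  unfold g
  rw [← Category.assoc, ← Functor.map_comp, ρ_pr]
  exact hW.compat _ _

end IsConf

end Groth.Agent.Helper15.StratNC
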