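import Mathlib
import Groth.Agent.Lib.Helper15.StratNC1
import Groth.Agent.Lib.Helper15.Strat2

/-!
# Configuration spaces without quasi-compactness, II: quotient charts
-/

set_option autoImplicit false
universe u
open CategoryTheory CategoryTheory.Limits AlgebraicGeometry MorphismProperty Opposite
open AlgSp

namespace Groth.Agent.Helper15.StratNC

open Groth.Agent.Helper15 Groth.Agent.Helper15.Strat

variable {S : Scheme.{u}} {X : Sp S} {U : Over S} {p : (yon S).obj U ⟶ X}

namespace IsConf

variable {n : ℕ} {W : Over S} {pr : Fin (n + 1) → (W ⟶ U)} (hW : IsConf p n W pr)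

/-- `π : W ⟶ V` is a quotient of the configuration space by the symmetric group. -/
structure IsQuot (hW : IsConf p n W pr) (V : Over S) (π : W ⟶ V) : Prop where
  sep : V.left.IsSeparated
  etale : Etale π.left
  surj : Surjective π.left
  inv : ∀ σ, hW.ρ σ ≫ π = π
  ker : ∀ (T : Over S) (a b : T ⟶ W), a ≫ π = b ≫ π → ∀ t : T.left,
    ∃ (σ : Equiv.Perm (Fin (n + 1))) (N : Over S) (j : N ⟶ T), IsOpenImmersion j.left ∧
      t ∈ Set.range j.left ∧ j ≫ b = j ≫ a ≫ hW.ρ σ


theorem repWith_etale_g (hpe : RepWith @Etale p) : RepWith @Etale hW.g :=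
  (RepWith @Etale).comp_mem _ _ ((repWith_yon_map_iff _ (pr 0)).2 hW.etale) hpe

variable {hW} {V : Over S} {π : W ⟶ V}

/-- The chart of `X` given by the quotient of the configuration space. -/
theorem IsQuot.exists_chart (hQ : IsQuot hW V π) (hX : IsAlgSpace X) (hpe : RepWith @Etale p) :
    ∃ f : (yon S).obj V ⟶ X, (yon S).map π ≫ f = hW.g ∧ RepWith @Etale f := by
  haveI : Epi ((yon S).map π) := Norm.epi_of_etale_surjective _
    ((repWith_yon_map_iff _ π).2 hQ.etale) ((repWith_yon_map_iff _ π).2 hQ.surj)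
  obtain ⟨f, hf⟩ := AffDesc.exists_desc_of_epi ((yon S).map π) hW.g (by
    intro T x y hxy
    obtain ⟨a, rfl⟩ := (yon S).map_surjective x
    obtain ⟨b, rfl⟩ := (yon S).map_surjective y
    have hab : a ≫ π = b ≫ π := by
      apply (yon S).map_injective
      rw [Functor.map_comp, Functor.map_comp, hxy]
    apply yon_hom_ext_zariski
    intro t
    obtain ⟨σ, N, j, hj1, hj2, hj3⟩ := hQ.ker T a b hab t
    refine ⟨N, j, hj1, hj2, ?_⟩
    rw [← Category.assoc, ← Category.assoc, ← Functor.map_comp, ← Functor.map_comp, hj3,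
      Functor.map_comp, Functor.map_comp, Functor.map_comp, Category.assoc, Category.assoc,
      Category.assoc, hW.ρ_g])
  refine ⟨f, hf, ?_⟩
  apply repWith_etale_of_comp_surjective_etale hX π hQ.etale hQ.surj f
  rw [hf]
  exact hW.repWith_etale_g hpe

end IsConf

end Groth.Agent.Helper15.StratNC
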