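import Mathlib
import Groth.Agent.Lib.Helper15.StratNC3
import Groth.Agent.Lib.Helper15.Strat5

/-!
# Configuration spaces without quasi-compactness, IV: one stage, and points with quasi-compact
representatives
-/

set_option autoImplicit false
universe u
open CategoryTheory CategoryTheory.Limits AlgebraicGeometry MorphismProperty Opposite
open AlgSp

namespace Groth.Agent.Helper15.StratNC

open Groth.Agent.Helper15 Groth.Agent.Helper15.Strat

variable {S : Scheme.{u}} {X : Sp S} {U : Over S} {p : (yon S).obj U ⟶ X}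

theorem mk_eq_ofField (q : FieldPt X) : Points.mk q = ofField q.toHom := by
  unfold ofField
  congr 1
  obtain ⟨K, str, val⟩ := q
  congr 1
  exact (FieldPt.uliftYonedaEquiv_toHom (⟨K, str, val⟩ : FieldPt X)).symm

/-- Over a point of `X` with a quasi-compact field representative, the number of distinct points
of a quasi-compact chart is bounded. -/
theorem exists_bound_of_quasiCompact (hpe : RepWith @Etale p) [CompactSpace U.left]
    (q : FieldPt X) (hqc : RepWith @QuasiCompact q.toHom) :
    ∃ N : ℕ, ∀ (n : ℕ) (W : Over S) (pr : Fin (n + 1) → (W ⟶ U)) (hW : IsConf p n W pr)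
      (w : W.left), Points.ofPt hW.g w = Points.mk q → n + 1 ≤ N := by
  let T₀ := q.pt
  let x : (yon S).obj T₀ ⟶ X := q.toHom
  have hrep := hpe.rep
  let Z := hrep.pullback x
  let z₁ : Z ⟶ U := hrep.fst' x
  let z₂ : Z ⟶ T₀ := hrep.snd x
  have sq : IsPullback ((yon S).map z₁) ((yon S).map z₂) p x := hrep.isPullback' x
  haveI hz₂e : Etale z₂.left := hpe.property_snd x
  haveI hz₁q : QuasiCompact z₁.left := hqc.property p _ _ sq.flip
  haveI hZc : CompactSpace Z.left := QuasiCompact.compactSpace_of_compactSpace z₁.left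
  let f₀ : Z.left ⟶ Spec (CommRingCat.of q.K) := z₂.left
  haveI : Etale f₀ := hz₂e
  obtain ⟨N, hN⟩ := exists_bound_points (k := q.K) (Z := Z.left) f₀
  refine ⟨N, ?_⟩
  intro n W pr hW w hw
  rw [ofPt_eq_ofField, mk_eq_ofField, ofField_eq_iff] at hw
  obtain ⟨Ω, _, wΩ, a, b, hab⟩ := hw
  let ιw : Over.mk (W.left.fromSpecResidueField w ≫ W.hom) ⟶ W :=
    Over.homMk (W.left.fromSpecResidueField w) rfl
  have hw' : ∀ i, (yon S).map (a ≫ ιw ≫ pr i) ≫ p = (yon S).map b ≫ x := by
    intro i
    rw [← hab, Functor.map_comp, Functor.map_comp, Category.assoc, Category.assoc, hW.compat i 0]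
    rfl
  choose z hz using fun i => (yon S).map_surjective (sq.lift _ _ (hw' i))
  have hz1 : ∀ i, z i ≫ z₁ = a ≫ ιw ≫ pr i := by
    intro i
    apply (yon S).map_injective
    rw [Functor.map_comp, hz, sq.lift_fst]
  have hz2 : ∀ i, z i ≫ z₂ = b := by
    intro i
    apply (yon S).map_injective
    rw [Functor.map_comp, hz, sq.lift_snd]
  refine hN Ω b.left (n + 1) (fun i => (z i).left)
    (fun i => congrArg (fun f => f.left) (hz2 i)) ?_
  intro i i' hii
  by_contra hne
  have h1 : z i = z i' := by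
    ext
    exact hii
  have h2 : (a ≫ ιw) ≫ pr i = (a ≫ ιw) ≫ pr i' := by
    rw [Category.assoc, Category.assoc, ← hz1, ← hz1, h1]
  have := hW.distinct i i' hne _ (a ≫ ιw) h2
  exact this.false (Classical.arbitrary (Spec (CommRingCat.of Ω)))

/-- **One stage of the stratification** (no quasi-compactness of the charts). -/
theorem exists_stage (hX : IsAlgSpace X) (hpe : RepWith @Etale p) (hU : IsSeparated U.hom)
    [IsAffine U.left] {n : ℕ} {W : Over S} {pr : Fin (n + 1) → (W ⟶ U)} (hW : IsConf p n W pr)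
    {W' : Over S} {pr' : Fin (n + 2) → (W' ⟶ U)} (hW' : IsConf p (n + 1) W' pr')
    {Uo : Sp S} (j : Uo ⟶ X) (hj : RepWith @IsOpenImmersion j)
    (hjr : Set.range (Points.map j) = Set.range (Points.ofPt hW.g))
    {Uo' : Sp S} (j' : Uo' ⟶ X)
    (hjr' : Set.range (Points.map j') = Set.range (Points.ofPt hW'.g))
    (k : Uo' ⟶ Uo) (hk : k ≫ j = j') {T : Sp S} (i : T ⟶ Uo)
    (hi : IsRedInduced (Set.range (Points.map k))ᶜ i) :
    ∃ (V : Over S) (f : (yon S).obj V ⟶ Uo), V.left.IsSeparated ∧
      RepWith @Etale f ∧ RepWith @Surjective f ∧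
      ∀ (P : Sp S) (fst : P ⟶ T) (snd : P ⟶ (yon S).obj V), IsPullback fst snd i f → IsIso fst := by
  obtain ⟨V, π, hQ⟩ := hW.exists_isQuot
  obtain ⟨f₀, hf₀, hf₀e⟩ := hQ.exists_chart hX hpe
  haveI : Mono j := mono_of_repWith isOpenImmersion_le_mono j hj
  have hjinj := points_map_injective_of_isOpenImmersion hX j hj
  -- points of the chart
  have hpt : ∀ w : W.left, Points.ofPt f₀ (π.left w) = Points.ofPt hW.g w := by
    intro w
    rw [← hf₀, ofPt_comp_yon_map]
  obtain ⟨f, hf⟩ := (factors_through_open_iff j hj f₀).2 (by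
    rintro _ ⟨y, rfl⟩
    obtain ⟨v, rfl⟩ := (Points.schemeEquiv V).surjective y
    obtain ⟨w, rfl⟩ := hQ.surj.surj v
    rw [hjr]
    refine ⟨w, ?_⟩
    rw [← hpt]
    exact Points.ofPt_eq_map_ofScheme f₀ _)
  have hfe : RepWith @Etale f := repWith_of_comp_mono f j (by rw [hf]; exact hf₀e)
  have hfs : RepWith @Surjective f := by
    apply repWith_surjective_of_isSurjectiveMor f hfe.rep
    intro y
    have hy : Points.map j y ∈ Set.range (Points.ofPt hW.g) := by
      rw [← hjr]; exact ⟨y, rfl⟩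
    obtain ⟨w, hw⟩ := hy
    refine ⟨Points.ofScheme V (π.left w), ?_⟩
    apply hjinj
    rw [← Points.ofPt_eq_map_ofScheme, Points.map_ofPt, hf, hpt, hw]
  refine ⟨V, f, hQ.sep, hfe, hfs, ?_⟩
  intro P fst snd sq
  have hfste : RepWith @Etale fst := (RepWith @Etale).of_isPullback sq.flip hfe
  have hfsts : RepWith @Surjective fst := (RepWith @Surjective).of_isPullback sq.flip hfs
  haveI : Mono fst := by
    apply mono_of_yon
    intro T₁ a b hab
    obtain ⟨α, hα⟩ := (yon S).map_surjective (a ≫ snd)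
    obtain ⟨β, hβ⟩ := (yon S).map_surjective (b ≫ snd)
    have hαf : (yon S).map α ≫ f₀ = a ≫ fst ≫ i ≫ j := by
      rw [hα, ← hf, Category.assoc, ← Category.assoc snd, ← sq.w, Category.assoc]
    have hβf : (yon S).map β ≫ f₀ = a ≫ fst ≫ i ≫ j := by
      rw [hβ, ← hf, Category.assoc, ← Category.assoc snd, ← sq.w, Category.assoc,
        ← Category.assoc b, ← hab, Category.assoc]
    have hαβ : α = β := by
      refine hQ.eq_of_chart_eq hX hpe hU hW' f₀ hf₀ α β (hαf.trans hβf.symm) ?_
      intro t ht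
      rw [hαf, ← hjr', ← hk] at ht
      obtain ⟨z', hz'⟩ := ht
      have h1 : Points.ofPt (a ≫ fst ≫ i ≫ j) t =
          Points.map j (Points.map i (Points.ofPt (a ≫ fst) t)) := by
        rw [Points.map_ofPt, Points.map_ofPt]
        simp only [Category.assoc]
      rw [h1, Points.map_comp] at hz'
      have h2 := hjinj hz'
      have h3 : Points.map i (Points.ofPt (a ≫ fst) t) ∈ (Set.range (Points.map k))ᶜ := by
        rw [← hi.2.1]; exact ⟨_, rfl⟩
      exact h3 ⟨z', h2⟩
    apply sq.hom_ext hab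
    rw [← hα, ← hβ, hαβ]
  have hfsto : RepWith @IsOpenImmersion fst := repWith_isOpenImmersion_of_etale_mono fst hfste
  exact isIso_of_repWith_isOpenImmersion_surjective fst hfsto hfsts

end Groth.Agent.Helper15.StratNC
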