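import Mathlib
import Groth.Agent.Lib.Helper15.StratNC4
import Groth.Agent.Lib.Helper15.SpecBaire2
import Groth.Agent.Lib.Helper15.AlgSpLargestOpen
import Groth.Agent.Lib.Helper15.AlgSpTop
import Groth.Agent.Lib.Helper15.AlgSpField

/-!
# Dense open subschemes of algebraic spaces all of whose points have quasi-compact representatives
-/

set_option autoImplicit false
universe u
open CategoryTheory CategoryTheory.Limits AlgebraicGeometry MorphismProperty Opposite
open AlgSp

namespace Groth.Agent.Helper15.DenseSch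

open Groth.Agent.Helper15 Groth.Agent.Helper15.Strat Groth.Agent.Helper15.StratNC

variable {S : Scheme.{u}}

/-- Every point has a representative by a quasi-compact morphism from the spectrum of a field. -/
def HasQcPts (X : Sp S) : Prop :=
  ∀ x : Points X, ∃ q : FieldPt X, Points.mk q = x ∧ RepWith @QuasiCompact q.toHom

theorem hasQcPts_of_isDecent {X : Sp S} (hX : IsDecent X) : HasQcPts X := fun x => by
  obtain ⟨q, h1, -, h2⟩ := hX x
  exact ⟨q, h1, h2⟩

/-- The points of the spectrum of a field map to one point. -/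
theorem range_map_toHom {X : Sp S} (q : FieldPt X) :
    Set.range (Points.map q.toHom) = {Points.mk q} := by
  ext x
  constructor
  · rintro ⟨y, rfl⟩
    obtain ⟨s, rfl⟩ := (Points.schemeEquiv q.pt).surjective y
    change Points.map q.toHom (Points.ofScheme q.pt s) = _
    rw [← Points.ofPt_eq_map_ofScheme]
    exact Points.ofPt_toHom q s
  · rintro rfl
    refine ⟨Points.ofScheme q.pt (IsLocalRing.closedPoint q.K), ?_⟩
    rw [← Points.ofPt_eq_map_ofScheme]
    exact Points.ofPt_toHom q _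

theorem hasQcPts_of_isOpenImmersion {X X' : Sp S} (hX : IsAlgSpace X) (j : X' ⟶ X)
    (hj : RepWith @IsOpenImmersion j) (h : HasQcPts X) : HasQcPts X' := by
  intro y
  haveI : Mono j := mono_of_repWith isOpenImmersion_le_mono j hj
  have hinj := points_map_injective_of_isOpenImmersion hX j hj
  obtain ⟨q, hq1, hq2⟩ := h (Points.map j y)
  obtain ⟨b, hb⟩ := (factors_through_open_iff j hj q.toHom).2 (by
    rw [range_map_toHom, hq1]
    rintro _ rfl
    exact ⟨y, rfl⟩)
  let q' : FieldPt X' := ⟨q.K, q.str, yonEquiv b⟩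
  have hq' : q'.toHom = b := Equiv.symm_apply_apply _ _
  refine ⟨q', ?_, ?_⟩
  · apply hinj
    rw [← hq1, Points.map_mk]
    congr 1
    change (⟨q.K, q.str, j.hom.app _ (yonEquiv b)⟩ : FieldPt X) = q
    obtain ⟨K, str, val⟩ := q
    congr 1
    have := GrothendieckTopology.uliftYonedaEquiv_comp (J S) b j
    rw [hb] at this
    exact this.symm.trans (FieldPt.uliftYonedaEquiv_toHom (⟨K, str, val⟩ : FieldPt X))
  · rw [hq']
    apply repWith_of_comp_mono b j
    rw [hb]
    exact hq2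


variable {X : Sp S} {U : Over S} {p : (yon S).obj U ⟶ X}

/-- An open subspace lying in one stratum of the fibre-cardinality stratification is a scheme. -/
theorem isRepresentable_of_stratum (hX : IsAlgSpace X) (hpe : RepWith @Etale p)
    (hU : IsSeparated U.hom) [IsAffine U.left] {n : ℕ} {W : Over S}
    {pr : Fin (n + 1) → (W ⟶ U)} (hW : StratNC.IsConf p n W pr)
    {W' : Over S} {pr' : Fin (n + 2) → (W' ⟶ U)} (hW' : StratNC.IsConf p (n + 1) W' pr')
    {X'' : Sp S} (j : X'' ⟶ X) (hj : RepWith @IsOpenImmersion j)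
    (h1 : Set.range (Points.map j) ⊆ Set.range (Points.ofPt hW.g))
    (h2 : Disjoint (Set.range (Points.map j)) (Set.range (Points.ofPt hW'.g))) :
    X''.obj.IsRepresentable := by
  obtain ⟨V, π, hQ⟩ := hW.exists_isQuot
  obtain ⟨f₀, hf₀, hf₀e⟩ := hQ.exists_chart hX hpe
  have hrep := hj.rep
  let V'' : Over S := hrep.pullback f₀
  let fst : (yon S).obj V'' ⟶ X'' := hrep.fst f₀
  let snd : V'' ⟶ V := hrep.snd f₀
  have sq : IsPullback fst ((yon S).map snd) j f₀ := hrep.isPullback f₀
  have hpt : ∀ w : W.left, Points.ofPt f₀ (π.left w) = Points.ofPt hW.g w := by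
    intro w
    rw [← hf₀, ofPt_comp_yon_map]
  have hfste : RepWith @Etale fst := (RepWith @Etale).of_isPullback sq.flip hf₀e
  have hfsts : RepWith @Surjective fst := by
    apply repWith_surjective_of_isSurjectiveMor fst hfste.rep
    intro y
    obtain ⟨w, hw⟩ := h1 ⟨y, rfl⟩
    obtain ⟨z, hz, -⟩ := exists_point_of_isPullback sq y (Points.ofScheme V (π.left w)) (by
      rw [← Points.ofPt_eq_map_ofScheme, hpt, hw])
    exact ⟨z, hz⟩
  haveI : Mono fst := by
    apply mono_of_yon
    intro T₁ a b hab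
    obtain ⟨α, hα⟩ := (yon S).map_surjective (a ≫ (yon S).map snd)
    obtain ⟨β, hβ⟩ := (yon S).map_surjective (b ≫ (yon S).map snd)
    have hαf : (yon S).map α ≫ f₀ = a ≫ fst ≫ j := by
      rw [hα, Category.assoc, ← sq.w]
    have hβf : (yon S).map β ≫ f₀ = a ≫ fst ≫ j := by
      rw [hβ, Category.assoc, ← sq.w, ← Category.assoc, ← hab, Category.assoc]
    have hαβ : α = β := by
      refine hQ.eq_of_chart_eq hX hpe hU hW' f₀ hf₀ α β (hαf.trans hβf.symm) ?_
      intro t ht
      rw [hαf] at ht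
      have h3 : Points.ofPt (a ≫ fst ≫ j) t ∈ Set.range (Points.map j) := by
        refine ⟨Points.ofPt (a ≫ fst) t, ?_⟩
        rw [Points.map_ofPt, Category.assoc]
      exact Set.disjoint_left.1 h2 h3 ht
    apply sq.hom_ext hab
    rw [← hα, ← hβ, hαβ]
  have hfsto : RepWith @IsOpenImmersion fst := repWith_isOpenImmersion_of_etale_mono fst hfste
  haveI : IsIso fst := isIso_of_repWith_isOpenImmersion_surjective fst hfsto hfsts
  exact ⟨⟨V'', ⟨representableByOfIso (asIso fst)⟩⟩⟩

/-- **A non-empty algebraic space with an affine chart, all of whose points have quasi-compact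
representatives, contains a non-empty open subscheme.** -/
theorem exists_open_subscheme_of_chart (hX : IsAlgSpace X) [IsAffine U.left] [Nonempty U.left]
    (hpe : RepWith @Etale p) (hps : RepWith @Surjective p) (hq : HasQcPts X) :
    ∃ (X'' : Sp S) (j : X'' ⟶ X), RepWith @IsOpenImmersion j ∧ X''.obj.IsRepresentable ∧
      Nonempty (Points X'') := by
  have hU : IsSeparated U.hom := inferInstance
  choose W pr hW using fun n => StratNC.exists_isConf p hX hpe hU n
  have hg : ∀ n, RepWith @Etale (hW n).g := fun n => (hW n).repWith_etale_g hpe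
  let O : ℕ → Set U.left := fun n => Points.ofPt p ⁻¹' Set.range (Points.ofPt (hW n).g)
  have hO : ∀ n, IsOpen (O n) := fun n =>
    (isOpenMap_ofPt_of_etale _ (hg n)).isOpen_range.preimage (Points.continuous_ofPt p)
  have hall : ∀ x : Points X, x ∈ Set.range (Points.ofPt (hW 0).g) := by
    intro x
    obtain ⟨u, rfl⟩ := surjective_ofPt p hps x
    obtain ⟨l, hl⟩ := (hW 0).lift U (fun _ => 𝟙 U) (fun _ _ => rfl)
      (fun a b hab => absurd ((Fin.eq_zero a).trans (Fin.eq_zero b).symm) hab)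
    refine ⟨l.left u, ?_⟩
    rw [← ofPt_comp_yon_map]
    congr 1
    unfold StratNC.IsConf.g
    rw [← Category.assoc, ← Functor.map_comp, hl 0, CategoryTheory.Functor.map_id,
      Category.id_comp]
  have h0 : O 0 = Set.univ := Set.eq_univ_of_forall fun u => hall _
  have hinter : ∀ a : U.left, ∃ n, a ∉ O n := by
    intro a
    obtain ⟨q, hq1, hq2⟩ := hq (Points.ofPt p a)
    obtain ⟨N, hN⟩ := StratNC.exists_bound_of_quasiCompact hpe q hq2
    refine ⟨N, ?_⟩
    rintro ⟨w, hw⟩
    have := hN N (W N) (pr N) (hW N) w (hw.trans hq1.symm)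
    omega
  obtain ⟨n, N₀, hN₀o, ⟨u₀, hu₀⟩, hN₀1, hN₀2⟩ := SpecBaire2.exists_open_stratum O hO h0 hinter
  let N₁ : U.left.Opens := ⟨N₀, hN₀o⟩
  let U'' : Over S := Over.mk (N₁.ι ≫ U.hom)
  let j₀ : U'' ⟶ U := Over.homMk N₁.ι rfl
  have hj₀ : Etale j₀.left := (inferInstance : Etale N₁.ι)
  have ha : RepWith @Etale ((yon S).map j₀ ≫ p) :=
    (RepWith @Etale).comp_mem _ _ ((repWith_yon_map_iff _ j₀).2 hj₀) hpe
  obtain ⟨h1, h2, -, -, h5⟩ := openSubspace_of_etale hX _ ha
  have hr : ∀ x ∈ Set.range (Points.map (Sheaf.imageι ((yon S).map j₀ ≫ p))),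
      ∃ u ∈ N₀, Points.ofPt p u = x := by
    intro x hx
    rw [h5] at hx
    obtain ⟨u, rfl⟩ := hx
    exact ⟨j₀.left u, u.2, (ofPt_comp_yon_map _ _ _).symm⟩
  refine ⟨_, Sheaf.imageι ((yon S).map j₀ ≫ p), h2, ?_, ?_⟩
  · apply isRepresentable_of_stratum hX hpe hU (hW n) (hW (n + 1)) _ h2
    · intro x hx
      obtain ⟨u, hu, rfl⟩ := hr x hx
      exact hN₀1 hu
    · rw [Set.disjoint_left]
      intro x hx hx'
      obtain ⟨u, hu, rfl⟩ := hr x hx
      exact Set.disjoint_left.1 hN₀2 hu hx'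
  · exact ⟨Points.ofPt (Sheaf.toImage ((yon S).map j₀ ≫ p)) ⟨u₀, hu₀⟩⟩


/-- **An algebraic space all of whose points have quasi-compact representatives contains a dense
open subscheme.** -/
theorem exists_dense_open_subscheme {X : Sp S} (hX : IsAlgSpace X) (hq : HasQcPts X) :
    ∃ (X' : Sp S) (j : X' ⟶ X), IsAlgSpace X' ∧ RepWith @IsOpenImmersion j ∧
      X'.obj.IsRepresentable ∧ Dense (Set.range (Points.map j)) := by
  obtain ⟨X', j, hX', hj, hrep, hmax⟩ := exists_largest_open_subscheme hX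
  refine ⟨X', j, hX', hj, hrep, ?_⟩
  rw [dense_iff_inter_open]
  rintro O hO ⟨x, hx⟩
  obtain ⟨XO, jO, hXO, hjO, hrO⟩ := exists_open_subspace_of_isOpen hX O hO
  obtain ⟨y, rfl⟩ : x ∈ Set.range (Points.map jO) := by rw [hrO]; exact hx
  obtain ⟨T, hT, p₀, t, hp₀, rfl⟩ := exists_affine_etale_nbhd hXO y
  haveI := hT
  haveI : Nonempty T.left := ⟨t⟩
  obtain ⟨hX₁, hj₁, hpe, hps, -⟩ := openSubspace_of_etale hXO p₀ hp₀
  have hq₁ : HasQcPts (Sheaf.image p₀) :=
    hasQcPts_of_isOpenImmersion hXO _ hj₁ (hasQcPts_of_isOpenImmersion hX jO hjO hq)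
  obtain ⟨X'', j'', hj'', hrep'', ⟨z⟩⟩ := exists_open_subscheme_of_chart hX₁ hpe hps hq₁
  have hcomp : RepWith @IsOpenImmersion (j'' ≫ Sheaf.imageι p₀ ≫ jO) :=
    (RepWith @IsOpenImmersion).comp_mem _ _ hj''
      ((RepWith @IsOpenImmersion).comp_mem _ _ hj₁ hjO)
  obtain ⟨k, hk⟩ := hmax X'' _ hcomp hrep''
  refine ⟨Points.map (j'' ≫ Sheaf.imageι p₀ ≫ jO) z, ?_, ?_⟩
  · rw [← hrO, ← Category.assoc, Points.map_comp]
    exact ⟨_, rfl⟩
  · rw [← hk, Points.map_comp]
    exact ⟨_, rfl⟩

end Groth.Agent.Helper15.DenseSch
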