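import Groth.Agent.Lib.Helper15.FiniteNear
import Groth.Agent.Lib.Helper15.AlgSpEtCl

/-!
# Finiteness descends along étale surjective maps of the source (separated case)
-/

set_option autoImplicit false
universe u
open CategoryTheory CategoryTheory.Limits AlgebraicGeometry MorphismProperty Opposite
open AlgSp

namespace Groth.Agent.Helper15.Norm

variable {S : Scheme.{u}}

theorem isFiniteMor_of_etale_surjective_precomp {U X Y : Sp S} (hU : IsAlgSpace U)
    (hX : IsAlgSpace X) (hY : IsAlgSpace Y) (p : U ⟶ X) (f : X ⟶ Y) (hp : IsEtaleMor p)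
    (hps : IsSurjectiveMor p) (hf : IsSeparatedMor f) (h : IsFiniteMor (p ≫ f)) :
    IsFiniteMor f := by
  have hP₀ : ∀ ⦃A B : Scheme.{u}⦄ (g : A ⟶ B),
      (@LocallyQuasiFinite ⊓ @LocallyOfFiniteType : MorphismProperty Scheme.{u}) g ↔
        (LocallyQuasiFinite g ∧ LocallyOfFiniteType g) := fun A B g => Iff.rfl
  have h2 := ((finite_tfae hU hY (p ≫ f)).out 0 1).1 h
  obtain ⟨⟨-, -, huc⟩, hqf⟩ := h2
  have hucf : IsUnivClosedMor f := isUnivClosedMor_of_surjective_over p (p ≫ f) f rfl huc hps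
  obtain ⟨W, a, hae, has⟩ := hU.atlas
  have hce : RepWith @Etale (a ≫ p) := hp a hae
  have hcs : RepWith @Surjective (a ≫ p) := by
    refine repWith_surjective_of_isSurjectiveMor _ hce.rep ?_
    intro x
    obtain ⟨u, rfl⟩ := hps x
    obtain ⟨w, rfl⟩ := isSurjectiveMor_of_repWith_surjective a has u
    exact ⟨w, Points.map_comp _ _ _⟩
  have hloc : LocP (@LocallyQuasiFinite ⊓ @LocallyOfFiniteType) ((a ≫ p) ≫ f) := by
    rw [Category.assoc]
    exact locP_precomp_etale _ hqf a hae
  have hG := goodP_lqf_lft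
  haveI := hG.comp
  have hlocf : LocP (@LocallyQuasiFinite ⊓ @LocallyOfFiniteType) f :=
    locP_of_source_chart hG.etale_le
      (srcEtLoc_of_listed _ (Or.inr (Or.inr (Or.inr (Or.inr (Or.inr (Or.inl hP₀)))))))
      hX hY f (a ≫ p) hce hcs hloc
  exact isFiniteMor_of_univClosed_separated_lqf hX hY f hucf hf hlocf

end Groth.Agent.Helper15.Norm
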