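import Groth.Agent.Lib.Helper15.TrdegQF
import Groth.Agent.Lib.Helper15.FibDim0
import Groth.Agent.Lib.Helper15.AlgSpAtNbhd
import Groth.Agent.Lib.Helper15.AlgSpDescent
import Groth.Agent.Lib.Helper15.AlgSpLocPListed

set_option autoImplicit false
universe u
open CategoryTheory CategoryTheory.Limits AlgebraicGeometry Opposite
open AlgSp Groth.Agent.Helper16.AS

namespace Groth.Agent.Helper15.FibDim

lemma quasiFiniteAt_iff_isOpen_singleton_fiberHomeo_symm {X Y : Scheme.{u}} (f : X ⟶ Y)
    [LocallyOfFiniteType f] (x : X) (y : Y) (hy : f x = y) :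
    f.QuasiFiniteAt x ↔ IsOpen {(f.fiberHomeo y).symm ⟨x, hy⟩} := by
  subst hy
  exact Scheme.Hom.quasiFiniteAt_iff_isOpen_singleton_asFiber

/-- Quasi-finiteness at a point descends along arbitrary base change. -/
lemma quasiFiniteAt_of_isPullback {P X Y Z : Scheme.{u}} {fst : P ⟶ X} {snd : P ⟶ Y}
    {f : X ⟶ Z} {g : Y ⟶ Z} (h : IsPullback fst snd f g) [LocallyOfFiniteType f] (p : P)
    (hp : snd.QuasiFiniteAt p) : f.QuasiFiniteAt (fst p) := by
  haveI : LocallyOfFiniteType snd := MorphismProperty.of_isPullback h ‹_›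
  have hw : f (fst p) = g (snd p) := by
    rw [← Scheme.Hom.comp_apply, ← Scheme.Hom.comp_apply, h.w]
  rw [quasiFiniteAt_iff_isOpen_singleton_fiberHomeo_symm f (fst p) (g (snd p)) hw]
  have hp' := Scheme.Hom.quasiFiniteAt_iff_isOpen_singleton_asFiber.mp hp
  have hpb := isPullback_fiberToSpecResidueField_of_isPullback h (snd p)
  set φ : snd.fiber (snd p) ⟶ f.fiber (g (snd p)) :=
    pullback.map snd (Y.fromSpecResidueField (snd p)) f (Z.fromSpecResidueField (g (snd p))) fst
      (Spec.map (g.residueFieldMap (snd p))) g h.w.symm (by simp)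
    with hφ
  haveI : UniversallyOpen φ := MorphismProperty.of_isPullback hpb.flip inferInstance
  have hopen : IsOpen (φ '' {snd.asFiber p}) := φ.isOpenMap _ hp'
  have himg : φ '' {snd.asFiber p} = {(f.fiberHomeo (g (snd p))).symm ⟨fst p, hw⟩} := by
    rw [Set.image_singleton]
    congr 1
    apply (f.fiberι (g (snd p))).isEmbedding.injective
    rw [Scheme.Hom.fiberι_fiberHomeo_symm]
    have : φ ≫ f.fiberι (g (snd p)) = snd.fiberι (snd p) ≫ fst := by
      rw [hφ]
      exact pullback.lift_fst _ _ _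
    rw [← Scheme.Hom.comp_apply, this, Scheme.Hom.comp_apply, Scheme.Hom.fiberι_asFiber]
  rw [← himg]
  exact hopen

/-- An isolated point is a point of quasi-finiteness. -/
lemma quasiFiniteAt_of_isOpen_singleton {X Y : Scheme.{u}} (f : X ⟶ Y) [LocallyOfFiniteType f]
    (x : X) (hx : IsOpen ({x} : Set X)) : f.QuasiFiniteAt x := by
  rw [Scheme.Hom.quasiFiniteAt_iff_isOpen_singleton_asFiber]
  have : ({f.asFiber x} : Set (f.fiber (f x))) = (f.fiberι (f x)) ⁻¹' {x} := by
    ext w
    simp only [Set.mem_singleton_iff, Set.mem_preimage]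
    constructor
    · rintro rfl
      exact f.fiberι_asFiber x
    · intro hw
      apply (f.fiberι (f x)).isEmbedding.injective
      rw [hw, f.fiberι_asFiber x]
  rw [this]
  exact hx.preimage (f.fiberι (f x)).continuous

/-- A point of a locally quasi-finite morphism lying over an isolated point is isolated. -/
lemma isOpen_singleton_of_locallyQuasiFinite {X Y : Scheme.{u}} (f : X ⟶ Y) [LocallyQuasiFinite f]
    (x : X) (hx : IsOpen ({f x} : Set Y)) : IsOpen ({x} : Set X) := by
  have h1 : IsOpen (f ⁻¹' {f x}) := hx.preimage f.continuous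
  have h2 := f.isDiscrete_preimage_singleton (f x)
  have h3 : IsOpen (Subtype.val ⁻¹' ({x} : Set X) : Set (f ⁻¹' {f x})) := by
    haveI : DiscreteTopology (f ⁻¹' {f x}) := h2.to_subtype
    exact isOpen_discrete _
  have h4 := h1.isOpenMap_subtype_val _ h3
  convert h4 using 1
  ext w
  constructor
  · rintro rfl
    exact ⟨⟨w, rfl⟩, rfl, rfl⟩
  · rintro ⟨⟨w', hw'⟩, hw'', rfl⟩
    exact hw''


variable {S : Scheme.{u}}

theorem hasAtMor_lqf_of_fibre_dim_zero {X Y F : Sp S} (hX : IsAlgSpace X) (hY : IsAlgSpace Y)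
    (f : X ⟶ Y)
    (hf : LocP @LocallyOfFiniteType f) (k : Type u) [Field k] (str : Spec (.of k) ⟶ S)
    (y : (yon S).obj (Over.mk str) ⟶ Y) (p : F ⟶ X) (q : F ⟶ (yon S).obj (Over.mk str))
    (sq : IsPullback p q f y) (z : Points F)
    (hz : HasAt (fun U u => FlatMor.localDim ↥U u = 0) F z) :
    HasAtMor (fun U _ h u => ∃ W : U.Opens, u ∈ W ∧
      (@LocallyQuasiFinite ⊓ @LocallyOfFiniteType : MorphismProperty Scheme.{u}) (W.ι ≫ h)) f
      (Points.map p z) := by
  obtain ⟨U₀, V₀, a, b, h, u₀, hae, hbe, comm, hu₀, hP⟩ :=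
    Groth.Agent.Helper15.Trdeg.exists_chart_at hX hY f hf (Points.map p z)
  obtain ⟨U₁, c, u₁, hce, hu₁, hdim⟩ := hz
  haveI hlft : LocallyOfFiniteType h.left := hP
  -- T = V₀ ×_Y Spec k
  have sqT := hbe.rep.isPullback' y
  set T := hbe.rep.pullback y with hT
  set τ : T ⟶ V₀ := hbe.rep.fst' y with hτ
  set σ : T ⟶ Over.mk str := hbe.rep.snd y with hσ
  have hσe : Etale σ.left := hbe.property_snd y
  -- G'' = U₀ ×_{V₀} T
  have sqG := IsPullback.of_hasPullback h τ
  set G'' := pullback h τ with hG''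
  set p₁ : G'' ⟶ U₀ := pullback.fst h τ with hp₁
  set p₂ : G'' ⟶ T := pullback.snd h τ with hp₂
  have sqGl : IsPullback p₁.left p₂.left h.left τ.left := sqG.map (Over.forget S)
  have sqGy : IsPullback ((yon S).map p₁) ((yon S).map p₂) ((yon S).map h) ((yon S).map τ) :=
    sqG.map (yon S)
  have big : IsPullback ((yon S).map p₁) ((yon S).map p₂ ≫ (yon S).map σ) (a ≫ f) y := by
    have := sqGy.paste_vert sqT
    rw [← comm] at this
    exact this
  have hγw : ((yon S).map p₁ ≫ a) ≫ f = ((yon S).map p₂ ≫ (yon S).map σ) ≫ y := by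
    rw [Category.assoc]; exact big.w
  set γ : (yon S).obj G'' ⟶ F := sq.lift _ _ hγw with hγ
  have hγ1 : γ ≫ p = (yon S).map p₁ ≫ a := sq.lift_fst _ _ _
  have hγ2 : γ ≫ q = (yon S).map p₂ ≫ (yon S).map σ := sq.lift_snd _ _ _
  have sqγ : IsPullback γ ((yon S).map p₁) p a := by
    refine IsPullback.of_right (t := sq.flip) ?_ hγ1 
    rw [hγ2]
    exact big.flip
  have hγe : RepWith @Etale γ := (RepWith @Etale).of_isPullback sqγ.flip hae
  -- the point of G''
  have hpt : Points.map a (Points.ofScheme U₀ u₀) = Points.map p z := by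
    rw [← Points.ofPt_eq_map_ofScheme]; exact hu₀
  obtain ⟨pt, hpt1, hpt2⟩ := exists_point_of_isPullback sqγ.flip _ _ hpt
  obtain ⟨g'', rfl⟩ := (Points.schemeEquiv G'').surjective pt
  change Points.map _ (Points.ofScheme G'' g'') = _ at hpt1
  change Points.map _ (Points.ofScheme G'' g'') = _ at hpt2
  rw [← Points.ofPt_eq_map_ofScheme, ofPt_yon_map] at hpt1
  rw [← Points.ofPt_eq_map_ofScheme] at hpt2
  have hg''1 : p₁.left g'' = u₀ := (Points.schemeEquiv U₀).injective hpt1
  -- G = U₁ ×_F G''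
  have sqC := hce.rep.isPullback' γ
  set G := hce.rep.pullback γ with hG
  set r₁ : G ⟶ U₁ := hce.rep.fst' γ with hr₁
  set r₂ : G ⟶ G'' := hce.rep.snd γ with hr₂
  have hr₂e : Etale r₂.left := hce.property_snd γ
  have hr₁e : Etale r₁.left :=
    (repWith_yon_map_iff _ r₁).1 ((RepWith @Etale).of_isPullback sqC.flip hγe)
  obtain ⟨g, hg1, hg2⟩ := exists_of_ofPt_eq sqC u₁ g'' (hu₁.trans hpt2.symm)
  -- U₁ is locally of finite type over k
  have hq : LocP @LocallyOfFiniteType q :=
    locP_listed_of_isPullback @LocallyOfFiniteType (Or.inl rfl) hX hY (IsAlgSpace.yon_obj _) sq hf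
  have hm : LocallyOfFiniteType ((yon S).preimage (c ≫ q)).left :=
    hq c (𝟙 _) ((yon S).preimage (c ≫ q)) hce (repWith_id _ _) (by simp)
  haveI : IsLocallyNoetherian (Over.mk str).left :=
    (inferInstance : IsLocallyNoetherian (Spec (.of k)))
  haveI : IsLocallyNoetherian U₁.left :=
    LocallyOfFiniteType.isLocallyNoetherian ((yon S).preimage (c ≫ q)).left
  have hu₁open : IsOpen ({u₁} : Set U₁.left) := isOpen_singleton_of_localDim_eq_zero u₁ hdim
  haveI : LocallyQuasiFinite r₁.left := locallyQuasiFinite_of_formallyUnramified r₁.left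
  have hgopen : IsOpen ({g} : Set G.left) :=
    isOpen_singleton_of_locallyQuasiFinite r₁.left g (hg1 ▸ hu₁open)
  have hg''open : IsOpen ({g''} : Set G''.left) := by
    have := r₂.left.isOpenMap _ hgopen
    rwa [Set.image_singleton, hg2] at this
  haveI : LocallyOfFiniteType p₂.left := MorphismProperty.of_isPullback sqGl hlft
  haveI : LocallyQuasiFinite σ.left := locallyQuasiFinite_of_formallyUnramified σ.left
  have hqf1 : (p₂.left ≫ σ.left).QuasiFiniteAt g'' :=
    quasiFiniteAt_of_isOpen_singleton (p₂.left ≫ σ.left) g'' hg''open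
  have hqf2 : p₂.left.QuasiFiniteAt g'' := Scheme.Hom.quasiFiniteAt_comp_iff.mp hqf1
  have hqf3 : h.left.QuasiFiniteAt u₀ := hg''1 ▸ quasiFiniteAt_of_isPullback sqGl g'' hqf2
  refine ⟨U₀, V₀, a, b, h, u₀, hae, hbe, comm, hu₀, h.left.quasiFiniteLocus, hqf3, ?_, ?_⟩
  · show LocallyQuasiFinite (h.left.quasiFiniteLocus.ι ≫ h.left)
    infer_instance
  · show LocallyOfFiniteType (h.left.quasiFiniteLocus.ι ≫ h.left)
    infer_instance

end Groth.Agent.Helper15.FibDim
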