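import Groth.Agent.Lib.Helper15.ChartBC
import Groth.Agent.Lib.Helper15.FibDim2
import Groth.Agent.Lib.Helper15.AlgSpOpen

set_option autoImplicit false
universe u
open CategoryTheory CategoryTheory.Limits AlgebraicGeometry Opposite
open AlgSp Groth.Agent.Helper16.AS

namespace Groth.Agent.Helper15.ChartBC

lemma comp_of_range_le {P : MorphismProperty Scheme.{u}} [IsZariskiLocalAtSource P]
    {V X Y : Scheme.{u}} (j : V ⟶ X) [IsOpenImmersion j] (h : X ⟶ Y)
    (U : X.Opens) (hU : P (U.ι ≫ h)) (hj : j.opensRange ≤ U) : P (j ≫ h) := by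
  have hsub : Set.range j ⊆ Set.range U.ι := by
    rw [Scheme.Opens.range_ι]
    exact hj
  have hfac : IsOpenImmersion.lift U.ι j hsub ≫ U.ι = j := IsOpenImmersion.lift_fac _ _ _
  have : IsOpenImmersion (IsOpenImmersion.lift U.ι j hsub) := by
    have : IsOpenImmersion (IsOpenImmersion.lift U.ι j hsub ≫ U.ι) := by rw [hfac]; infer_instance
    exact IsOpenImmersion.of_comp _ U.ι
  rw [← hfac, Category.assoc]
  exact IsZariskiLocalAtSource.comp hU _

/-- `P` near a point is stable under base change. -/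
theorem nbhd_snd_of_isPullback {P : MorphismProperty Scheme.{u}} [P.IsStableUnderBaseChange]
    {T X Y Z : Scheme.{u}} {fst : T ⟶ X} {snd : T ⟶ Y} {f : X ⟶ Z}
    {g : Y ⟶ Z} (sq : IsPullback fst snd f g) (p : T)
    (H : ∃ U : X.Opens, fst p ∈ U ∧ P (U.ι ≫ f)) : ∃ W : T.Opens, p ∈ W ∧ P (W.ι ≫ snd) := by
  obtain ⟨U, hxU, hU⟩ := H
  refine ⟨fst ⁻¹ᵁ U, hxU, ?_⟩
  have sq' := (isPullback_morphismRestrict fst U).paste_vert sq
  exact MorphismProperty.of_isPullback (P := P) sq' hU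

lemma quasiFiniteAt_of_nbhd {X Y : Scheme.{u}} (h : X ⟶ Y) (u : X) (W : X.Opens) (hu : u ∈ W)
    (hW : LocallyQuasiFinite (W.ι ≫ h)) : h.QuasiFiniteAt u := by
  have := (W.ι ≫ h).quasiFiniteAt ⟨u, hu⟩
  rw [Scheme.Hom.quasiFiniteAt_comp_iff_of_isOpenImmersion] at this
  exact this

lemma one_le_of_ne_zero {d : WithBot ℕ∞} (h0 : 0 ≤ d) (h1 : d ≠ 0) : 1 ≤ d := by
  rcases d with _ | n
  · exact absurd h0 (by decide)
  · have hn : n ≠ 0 := fun hn => h1 (by rw [hn]; rfl)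
    have : (1 : ℕ∞) ≤ n := Order.one_le_iff_ne_zero.mpr hn
    exact WithBot.coe_le_coe.mpr this

lemma localDim_nonneg {F : Type*} [TopologicalSpace F] (z : F) : 0 ≤ FlatMor.localDim F z := by
  unfold FlatMor.localDim
  refine le_iInf fun U => ?_
  haveI : Nonempty ((U.1 : Set F)) := ⟨⟨z, U.2⟩⟩
  haveI : Nonempty (TopologicalSpace.IrreducibleCloseds ((U.1 : Set F))) :=
    ⟨⟨closure {⟨z, U.2⟩}, isIrreducible_singleton.closure, isClosed_closure⟩⟩
  exact Order.krullDim_nonneg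


variable {S : Scheme.{u}}

/-- Transfer of "`P` near the point" to an open subspace. -/
theorem hasAtMor_nbhd_comp_open {P₁ P₂ : MorphismProperty Scheme.{u}} [IsZariskiLocalAtSource P₁]
    [IsZariskiLocalAtSource P₂] {X Y X₀ : Sp S} (f : X ⟶ Y) (j : X₀ ⟶ X)
    (hj : RepWith @IsOpenImmersion j) (x₀ : Points X₀)
    (H : HasAtMor (fun U _ h u => ∃ W : U.Opens, u ∈ W ∧ (P₁ ⊓ P₂) (W.ι ≫ h)) f
      (Points.map j x₀)) :
    HasAtMor (fun U _ h u => ∃ W : U.Opens, u ∈ W ∧ (P₁ ⊓ P₂) (W.ι ≫ h)) (j ≫ f) x₀ := by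
  obtain ⟨U, V, α, β, h, u, hα, hβ, comm, hux, W, huW, hPW⟩ := H
  have sqW := hj.rep.isPullback α
  set W₀ := hj.rep.pullback α with hW₀
  set ι : W₀ ⟶ U := hj.rep.snd α with hι
  set φ : (yon S).obj W₀ ⟶ X₀ := hj.rep.fst α with hφ
  haveI : IsOpenImmersion ι.left := hj.property_snd α
  have hφe : RepWith @Etale φ := (RepWith @Etale).of_isPullback sqW.flip hα
  obtain ⟨pw, hpw1, hpw2⟩ := exists_point_of_isPullback sqW x₀ (Points.ofScheme U u) (by
    rw [← hux, ← Points.ofPt_eq_map_ofScheme])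
  obtain ⟨w₀, rfl⟩ := (Points.schemeEquiv W₀).surjective pw
  change Points.map _ (Points.ofScheme W₀ w₀) = _ at hpw1
  change Points.map _ (Points.ofScheme W₀ w₀) = _ at hpw2
  rw [← Points.ofPt_eq_map_ofScheme] at hpw1
  rw [← Points.ofPt_eq_map_ofScheme, ofPt_yon_map] at hpw2
  have hw₀ : ι.left w₀ = u := (Points.schemeEquiv U).injective hpw2
  refine ⟨W₀, V, φ, β, ι ≫ h, w₀, hφe, hβ, ?_, hpw1, ι.left ⁻¹ᵁ W, ?_, ?_⟩
  · rw [← Category.assoc, sqW.w, Category.assoc, comm, Functor.map_comp, Category.assoc]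
  · show ι.left w₀ ∈ W
    rw [hw₀]; exact huW
  · have hr : ((ι.left ⁻¹ᵁ W).ι ≫ ι.left).opensRange ≤ W := by
      rintro _ ⟨z, rfl⟩
      exact z.2
    have e : (ι.left ⁻¹ᵁ W).ι ≫ (ι ≫ h).left = ((ι.left ⁻¹ᵁ W).ι ≫ ι.left) ≫ h.left := by
      simp
    rw [e]
    exact ⟨comp_of_range_le _ h.left W hPW.1 hr, comp_of_range_le _ h.left W hPW.2 hr⟩


theorem qf_locus {X Y : Sp S} (hX : IsAlgSpace X) (hY : IsAlgSpace Y) (f : X ⟶ Y)
    (hf : LocP @LocallyOfFiniteType f) :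
    ∃ (X' : Sp S) (j : X' ⟶ X), IsAlgSpace X' ∧ RepWith @IsOpenImmersion j ∧
      LocP (@LocallyQuasiFinite ⊓ @LocallyOfFiniteType) (j ≫ f) ∧
      (∀ x : Points X, x ∉ Set.range (Points.map j) →
        HasAtMor (fun _ _ h u => 1 ≤ FlatMor.fibreDimAt h u) f x) ∧
      ∀ (Y'' X'' : Sp S), IsAlgSpace Y'' → IsAlgSpace X'' → ∀ (g : Y'' ⟶ Y) (b : X'' ⟶ X)
        (f'' : X'' ⟶ Y''), IsPullback b f'' f g → ∀ x'' : Points X'',
          Points.map b x'' ∈ Set.range (Points.map j) ↔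
            HasAtMor (fun U _ h u => ∃ W : U.Opens, u ∈ W ∧
              (@LocallyQuasiFinite ⊓ @LocallyOfFiniteType : MorphismProperty Scheme.{u})
                (W.ι ≫ h)) f'' x'' := by
  have hP : ∀ ⦃A B : Scheme.{u}⦄ (g : A ⟶ B),
      (@LocallyQuasiFinite ⊓ @LocallyOfFiniteType : MorphismProperty Scheme.{u}) g ↔
        (LocallyQuasiFinite g ∧ LocallyOfFiniteType g) := fun A B g => Iff.rfl
  set E : Set (Points X) := {x | HasAtMor (fun U _ h u => ∃ W : U.Opens, u ∈ W ∧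
    (@LocallyQuasiFinite ⊓ @LocallyOfFiniteType : MorphismProperty Scheme.{u}) (W.ι ≫ h)) f x}
    with hE
  have hEo : IsOpen E := isOpen_setOf_hasAtMor_nbhd _ f
  obtain ⟨X', j, hX', hj, hrange⟩ := exists_open_subspace_of_isOpen hX E hEo
  -- key: quasi-finite at a chart point gives membership of E
  have key : ∀ {U V : Over S} (α : (yon S).obj U ⟶ X) (β : (yon S).obj V ⟶ Y) (h : U ⟶ V)
      (_ : RepWith @Etale α) (_ : RepWith @Etale β) (_ : α ≫ f = (yon S).map h ≫ β)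
      (_ : LocallyOfFiniteType h.left) (u : U.left), h.left.QuasiFiniteAt u →
      Points.ofPt α u ∈ E := by
    intro U V α β h hα hβ comm hlft u hqf
    haveI := hlft
    refine ⟨U, V, α, β, h, u, hα, hβ, comm, rfl, h.left.quasiFiniteLocus, hqf, ?_, ?_⟩
    · show LocallyQuasiFinite (h.left.quasiFiniteLocus.ι ≫ h.left)
      infer_instance
    · show LocallyOfFiniteType (h.left.quasiFiniteLocus.ι ≫ h.left)
      infer_instance
  refine ⟨X', j, hX', hj, ?_, ?_, ?_⟩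
  · rw [locP_listed_iff_forall_hasAtMor_nbhd _
      (Or.inr (Or.inr (Or.inr (Or.inr (Or.inr (Or.inl hP)))))) hX' hY (j ≫ f)]
    intro x₀
    apply hasAtMor_nbhd_comp_open f j hj x₀
    have : Points.map j x₀ ∈ E := by rw [← hrange]; exact ⟨x₀, rfl⟩
    exact this
  · intro x hx
    rw [hrange] at hx
    obtain ⟨U, V, α, β, h, u, hα, hβ, hcomm, hux, hlft⟩ :=
      Groth.Agent.Helper15.Trdeg.exists_chart_at hX hY f hf x
    haveI : LocallyOfFiniteType h.left := hlft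
    refine ⟨U, V, α, β, h, u, hα, hβ, hcomm, hux, ?_⟩
    apply one_le_of_ne_zero (localDim_nonneg _)
    intro h0
    apply hx
    rw [← hux]
    exact key α β h hα hβ hcomm hlft u
      ((Groth.Agent.Helper15.FibDim.fibreDimAt_eq_zero_iff_quasiFiniteAt h.left u).1 h0)
  · intro Y'' X'' hY'' hX'' g b f'' sq2 x''
    rw [hrange]
    obtain ⟨U, V, α, β, h, u, hα, hβ, hcomm, hux, hlft⟩ :=
      Groth.Agent.Helper15.Trdeg.exists_chart_at hX hY f hf (Points.map b x'')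
    obtain ⟨U'', V'', α'', β', π₁, π₂, ν₀, u'', hα'', hβ', c1, c2, c3, sqU, hu1, hu2⟩ :=
      exists_chart_baseChange hY hY'' sq2 α β h hα hβ hcomm u x'' hux
    haveI : LocallyOfFiniteType h.left := hlft
    haveI : LocallyOfFiniteType π₂.left := MorphismProperty.of_isPullback sqU hlft
    constructor
    · intro hx
      obtain ⟨X₀, j₀, hX₀, hj₀, hmem, hloc⟩ :=
        (hasAtMor_nbhd_iff_exists_open_subspace _
          (Or.inr (Or.inr (Or.inr (Or.inr (Or.inr (Or.inl hP)))))) hX hY f (Points.map b x'')).1 hx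
      obtain ⟨W, hWu, hWP⟩ :=
        exists_nbhd_of_open_subspace f j₀ hj₀ hloc α β h hα hβ hcomm u (hux ▸ hmem)
      obtain ⟨W'', hW''u, hW''P⟩ := nbhd_snd_of_isPullback (P := @LocallyQuasiFinite) sqU u''
        ⟨W, hu1 ▸ hWu, hWP.1⟩
      exact ⟨U'', V'', α'', β', π₂, u'', hα'', hβ', c1, hu2, W'', hW''u, hW''P, inferInstance⟩
    · intro hx''
      obtain ⟨X₀'', j'', hX₀'', hj'', hmem, hloc⟩ :=
        (hasAtMor_nbhd_iff_exists_open_subspace _
          (Or.inr (Or.inr (Or.inr (Or.inr (Or.inr (Or.inl hP)))))) hX'' hY'' f'' x'').1 hx''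
      obtain ⟨W'', hW''u, hW''P⟩ :=
        exists_nbhd_of_open_subspace f'' j'' hj'' hloc α'' β' π₂ hα'' hβ' c1 u'' (hu2 ▸ hmem)
      have H1 : π₂.left.QuasiFiniteAt u'' := quasiFiniteAt_of_nbhd π₂.left u'' W'' hW''u hW''P.1
      have H2 : h.left.QuasiFiniteAt (π₁.left u'') :=
        Groth.Agent.Helper15.FibDim.quasiFiniteAt_of_isPullback sqU u'' H1
      rw [hu1] at H2
      rw [← hux]
      exact key α β h hα hβ hcomm hlft u H2

end Groth.Agent.Helper15.ChartBC
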