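import Groth.Agent.Lib.Helper15.TrdegQF
import Groth.Agent.Lib.Helper15.AlgSpDescent
import Mathlib.AlgebraicGeometry.Morphisms.Finite

set_option autoImplicit false
universe u

open CategoryTheory CategoryTheory.Limits AlgebraicGeometry Opposite

namespace Groth.Agent.Helper15.Trdeg

open AlgSp Groth.Agent.Helper16.AS

theorem resTrdeg_eq_zero_of_isClosed_of_jacobson {X Y : Scheme.{u}} (h : X ⟶ Y)
    [LocallyOfFiniteType h] [JacobsonSpace Y] (x : X) (hx : IsClosed ({x} : Set X)) :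
    Dual3.resTrdeg h x = 0 := by
  haveI : IsClosedImmersion (X.fromSpecResidueField x) :=
    isClosed_singleton_iff_isClosedImmersion.mp hx
  haveI : IsFinite (X.fromSpecResidueField x ≫ h) :=
    (isFinite_iff_locallyOfFiniteType_of_jacobsonSpace).mpr inferInstance
  have e : Spec.map (h.residueFieldMap x) ≫ Y.fromSpecResidueField (h x) =
      X.fromSpecResidueField x ≫ h := Scheme.Hom.SpecMap_residueFieldMap_fromSpecResidueField h x
  haveI : IsFinite (Spec.map (h.residueFieldMap x) ≫ Y.fromSpecResidueField (h x)) := e ▸ ‹_›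
  haveI : IsFinite (Spec.map (h.residueFieldMap x)) :=
    IsFinite.of_comp _ (Y.fromSpecResidueField (h x))
  have hfin : (h.residueFieldMap x).hom.Finite := (IsFinite.SpecMap_iff _).1 ‹_›
  unfold Dual3.resTrdeg
  letI := (h.residueFieldMap x).hom.toAlgebra
  haveI : Module.Finite (Y.residueField (h x)) (X.residueField x) := hfin
  haveI := Algebra.IsAlgebraic.of_finite (Y.residueField (h x)) (X.residueField x)
  exact trdeg_eq_zero

theorem isClosed_singleton_of_locallyQuasiFinite {X Y : Scheme.{u}} (e : X ⟶ Y)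
    [LocallyQuasiFinite e] (x : X) (hx : IsClosed ({e x} : Set Y)) : IsClosed ({x} : Set X) := by
  have hF : IsClosed (e ⁻¹' {e x}) := hx.preimage e.continuous
  have hD := e.isDiscrete_preimage_singleton (e x)
  haveI : DiscreteTopology ↥(e ⁻¹' {e x}) := hD.to_subtype
  have hc : IsClosed ({⟨x, rfl⟩} : Set ↥(e ⁻¹' {e x})) := isClosed_discrete _
  obtain ⟨C, hC, hCx⟩ := isClosed_induced_iff.1 hc
  have : ({x} : Set X) = C ∩ e ⁻¹' {e x} := by
    ext z
    constructor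
    · rintro rfl
      have : (⟨z, rfl⟩ : ↥(e ⁻¹' {e z})) ∈ Subtype.val ⁻¹' C := by rw [hCx]; rfl
      exact ⟨this, rfl⟩
    · rintro ⟨hz1, hz2⟩
      have : (⟨z, hz2⟩ : ↥(e ⁻¹' {e x})) ∈ Subtype.val ⁻¹' C := hz1
      rw [hCx] at this
      exact congrArg Subtype.val this
  rw [this]
  exact hC.inter hF

variable {S : Scheme.{u}}

theorem hasAtMor_resTrdeg_eq_zero_of_jacobson {X Y : Sp S} (f : X ⟶ Y)
    (hf : LocP @LocallyOfFiniteType f) (hY : EtaleLocally (fun U => JacobsonSpace ↥U) Y)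
    (x : Points X) (hx : HasAt (fun U u => IsClosed ({u} : Set ↥U)) X x) :
    HasAtMor (fun _ _ h u => Dual3.resTrdeg h u = 0) f x := by
  obtain ⟨U₁, a₁, u₁, ha₁, hu₁, hcl⟩ := hx
  obtain ⟨V₀, b₀, hb₀e, hb₀s, hJ⟩ := hY
  -- `U₂ = U₁ ×_Y V₀`
  have sq := hb₀e.rep.isPullback' (a₁ ≫ f)
  set U₂ := hb₀e.rep.pullback (a₁ ≫ f) with hU₂
  set h : U₂ ⟶ V₀ := hb₀e.rep.fst' (a₁ ≫ f) with hh
  set e : U₂ ⟶ U₁ := hb₀e.rep.snd (a₁ ≫ f) with he
  have hee : Etale e.left := hb₀e.property_snd (a₁ ≫ f)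
  have hes : Surjective e.left := hb₀s.property_snd (a₁ ≫ f)
  obtain ⟨u₂, hu₂⟩ := hes.surj u₁
  have hae : RepWith @Etale ((yon S).map e ≫ a₁) :=
    (RepWith @Etale).comp_mem _ _ ((repWith_yon_map_iff _ e).2 hee) ha₁
  have comm : ((yon S).map e ≫ a₁) ≫ f = (yon S).map h ≫ b₀ := by
    rw [Category.assoc]; exact sq.w.symm
  haveI : LocallyOfFiniteType h.left := hf _ b₀ h hae hb₀e comm
  haveI : JacobsonSpace ↥V₀.left := hJ
  haveI : LocallyQuasiFinite e.left := locallyQuasiFinite_of_formallyUnramified e.left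
  have hcl₂ : IsClosed ({u₂} : Set ↥U₂.left) :=
    isClosed_singleton_of_locallyQuasiFinite e.left u₂ (by rw [hu₂]; exact hcl)
  refine ⟨U₂, V₀, (yon S).map e ≫ a₁, b₀, h, u₂, hae, hb₀e, comm, ?_,
    resTrdeg_eq_zero_of_isClosed_of_jacobson h.left u₂ hcl₂⟩
  rw [ofPt_comp_yon_map, hu₂, hu₁]

end Groth.Agent.Helper15.Trdeg
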