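import Groth.Agent.Lib.Helper15.ChartBC
import Groth.Agent.Lib.Helper15.FibDim2
import Groth.Agent.Lib.Helper15.QFLocusSp
import Groth.Agent.Lib.Helper15.TrdegJac

set_option autoImplicit false
universe u
open CategoryTheory CategoryTheory.Limits AlgebraicGeometry Opposite
open AlgSp Groth.Agent.Helper16.AS

namespace Groth.Agent.Helper15.QFDiscrete

/-- In a locally Noetherian scheme, a point with an open neighbourhood consisting of closed points
is isolated. -/
theorem isOpen_singleton_of_forall_isClosed {N' : Scheme.{u}} [IsLocallyNoetherian N']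
    (N : N'.Opens) (hN : ∀ n ∈ N, IsClosed ({n} : Set N')) (n : N') (hn : n ∈ N) :
    IsOpen ({n} : Set N') := by
  obtain ⟨W, hW, hnW, hWN⟩ := TopologicalSpace.Opens.isBasis_iff_nbhd.mp N'.isBasis_affineOpens hn
  haveI : IsNoetherianRing Γ(N', W) := IsLocallyNoetherian.component_noetherian ⟨W, hW⟩
  have hmax : ∀ I : Ideal Γ(N', W), I.IsPrime → I.IsMaximal := by
    intro I hI
    let p : PrimeSpectrum Γ(N', W) := ⟨I, hI⟩
    have hx : hW.fromSpec p ∈ W := by
      have : hW.fromSpec p ∈ Set.range hW.fromSpec := ⟨p, rfl⟩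
      rw [hW.range_fromSpec] at this
      exact this
    have hcl : IsClosed ({hW.fromSpec p} : Set N') := hN _ (hWN hx)
    have hcl' : IsClosed (hW.fromSpec ⁻¹' {hW.fromSpec p}) := hcl.preimage hW.fromSpec.continuous
    have he : hW.fromSpec ⁻¹' {hW.fromSpec p} = {p} := by
      ext q
      simp only [Set.mem_preimage, Set.mem_singleton_iff]
      exact ⟨fun h => hW.fromSpec.isOpenEmbedding.injective h, fun h => by rw [h]⟩
    rw [he] at hcl'
    exact (PrimeSpectrum.isClosed_singleton_iff_isMaximal p).1 hcl'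
  haveI : Ring.KrullDimLE 0 Γ(N', W) := Ring.krullDimLE_zero_iff.mpr hmax
  haveI : IsArtinianRing Γ(N', W) := isArtinianRing_iff_krullDimLE_zero.mpr inferInstance
  haveI : DiscreteTopology (PrimeSpectrum Γ(N', W)) := inferInstance
  have hnr : n ∈ Set.range hW.fromSpec := by rw [hW.range_fromSpec]; exact hnW
  obtain ⟨p₀, rfl⟩ := hnr
  have := hW.fromSpec.isOpenEmbedding.isOpenMap _
    (isOpen_discrete ({p₀} : Set (PrimeSpectrum Γ(N', W))))
  have e : (hW.fromSpec '' ({p₀} : Set (PrimeSpectrum Γ(N', W)))) = {hW.fromSpec p₀} :=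
    Set.image_singleton
  rw [← e]
  exact this


variable {S : Scheme.{u}}

/-- An etale chart of a sheaf with discrete space of points, from a locally Noetherian Jacobson
scheme, is a discrete scheme. -/
theorem isOpen_singleton_of_discrete_points {P : Sp S} [DiscreteTopology (Points P)] {U : Over S}
    (α : (yon S).obj U ⟶ P) (hα : RepWith @Etale α) [JacobsonSpace U.left]
    [IsLocallyNoetherian U.left] (u : U.left) : IsOpen ({u} : Set U.left) := by
  let N : U.left.Opens := ⟨Points.ofPt α ⁻¹' {Points.ofPt α u},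
    (isOpen_discrete _).preimage (Points.continuous_ofPt α)⟩
  refine isOpen_singleton_of_forall_isClosed N ?_ u rfl
  obtain ⟨n₀, hn₀N, hn₀cl⟩ := nonempty_inter_closedPoints (Z := (N : Set U.left)) ⟨u, rfl⟩
    N.2.isLocallyClosed
  intro n₁ hn₁
  have sqR := hα.rep.isPullback' α
  set R := hα.rep.pullback α with hR
  set s : R ⟶ U := hα.rep.fst' α with hs
  set t : R ⟶ U := hα.rep.snd α with ht
  have hte : Etale t.left := hα.property_snd α
  have hse : Etale s.left :=
    (repWith_yon_map_iff _ s).1 ((RepWith @Etale).of_isPullback sqR.flip hα)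
  obtain ⟨r, hr1, hr2⟩ := exists_of_ofPt_eq sqR n₁ n₀
    ((show Points.ofPt α n₁ = Points.ofPt α u from hn₁).trans
      (show Points.ofPt α n₀ = Points.ofPt α u from hn₀N).symm)
  haveI : LocallyQuasiFinite t.left := locallyQuasiFinite_of_formallyUnramified t.left
  have hn₀cl' : IsClosed ({n₀} : Set U.left) := hn₀cl
  have hrcl : IsClosed ({r} : Set R.left) :=
    Groth.Agent.Helper15.Trdeg.isClosed_singleton_of_locallyQuasiFinite t.left r (hr2 ▸ hn₀cl')
  have := s.left.closePoints_subset_preimage_closedPoints hrcl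
  rw [Set.mem_preimage, hr1] at this
  exact this


theorem locP_lqf_iff_discrete_fibres {X Y : Sp S} (hX : IsAlgSpace X) (hY : IsAlgSpace Y)
    (f : X ⟶ Y) (hf : LocP @LocallyOfFiniteType f) :
    LocP ((@LocallyQuasiFinite : MorphismProperty Scheme.{u}) ⊓ @LocallyOfFiniteType) f ↔
      ∀ (k : Type u) [Field k] (str : Spec (CommRingCat.of k) ⟶ S)
        (y : (yon S).obj (Over.mk str) ⟶ Y) (P : Sp S) (fst : P ⟶ X)
        (snd : P ⟶ (yon S).obj (Over.mk str)),
        IsPullback fst snd f y → DiscreteTopology (Points P) := by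
  have hP : ∀ ⦃A B : Scheme.{u}⦄ (g : A ⟶ B),
      (@LocallyQuasiFinite ⊓ @LocallyOfFiniteType : MorphismProperty Scheme.{u}) g ↔
        (LocallyQuasiFinite g ∧ LocallyOfFiniteType g) := fun A B g => Iff.rfl
  constructor
  · intro hqf k _ str y P fst snd sq
    have hPsp : IsAlgSpace P :=
      isAlgSpace_of_isPullback hY.diag hX (IsAlgSpace.yon_obj _) sq
    have hsnd : LocP ((@LocallyQuasiFinite : MorphismProperty Scheme.{u}) ⊓ @LocallyOfFiniteType)
        snd :=
      locP_listed_of_isPullback _ (Or.inr (Or.inr (Or.inr (Or.inr (Or.inr (Or.inl hP))))))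
        hX hY (IsAlgSpace.yon_obj _) sq hqf
    obtain ⟨U₁, c, hce, hcs⟩ := hPsp.atlas
    have hm : (@LocallyQuasiFinite ⊓ @LocallyOfFiniteType : MorphismProperty Scheme.{u})
        ((yon S).preimage (c ≫ snd)).left :=
      hsnd c (𝟙 _) ((yon S).preimage (c ≫ snd)) hce (repWith_id _ _) (by simp)
    haveI : LocallyQuasiFinite ((yon S).preimage (c ≫ snd)).left := hm.1
    have hD := ((yon S).preimage (c ≫ snd)).left.isDiscrete_preimage_singleton
      (IsLocalRing.closedPoint k)
    have hall : ∀ w : U₁.left,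
        w ∈ ((yon S).preimage (c ≫ snd)).left ⁻¹' {IsLocalRing.closedPoint k} :=
      fun w => Subsingleton.elim (α := PrimeSpectrum k) _ _
    haveI := hD.to_subtype
    haveI : DiscreteTopology U₁.left :=
      DiscreteTopology.of_continuous_injective
        (f := fun w : U₁.left => (⟨w, hall w⟩ :
          ↥(((yon S).preimage (c ≫ snd)).left ⁻¹' {IsLocalRing.closedPoint k})))
        (Continuous.subtype_mk continuous_id _) (fun a b hab => congrArg Subtype.val hab)
    have hquot : Topology.IsQuotientMap (Points.ofPt c) :=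
      (isOpenMap_ofPt_of_etale c hce).isQuotientMap (Points.continuous_ofPt c)
        (surjective_ofPt c hcs)
    exact discreteTopology_iff_forall_isOpen.2 (fun W => hquot.isOpen_preimage.1 (isOpen_discrete _))
  · intro H
    rw [locP_listed_iff_forall_hasAtMor_nbhd _
      (Or.inr (Or.inr (Or.inr (Or.inr (Or.inr (Or.inl hP)))))) hX hY f]
    intro x
    obtain ⟨U, V, α, β, h, u, hα, hβ, hcomm, hux, hlft⟩ :=
      Groth.Agent.Helper15.Trdeg.exists_chart_at hX hY f hf x
    haveI : LocallyOfFiniteType h.left := hlft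
    set v := h.left u with hv
    let k : Type u := V.left.residueField v
    let str : Spec (CommRingCat.of k) ⟶ S := V.left.fromSpecResidueField v ≫ V.hom
    let T : Over S := Over.mk str
    let ιv : T ⟶ V := Over.homMk (V.left.fromSpecResidueField v) rfl
    let y : (yon S).obj T ⟶ Y := (yon S).map ιv ≫ β
    have sq2 := IsPullback.of_hasPullback f y
    haveI : DiscreteTopology (Points (pullback f y)) := H k str y _ _ _ sq2
    let pt : T.left := IsLocalRing.closedPoint k
    have hιpt : ιv.left pt = v := Scheme.fromSpecResidueField_apply v pt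
    have heq : Points.map f x = Points.map y (Points.ofScheme T pt) := by
      rw [← Points.ofPt_eq_map_ofScheme, ← hux, Points.map_ofPt, hcomm, ofPt_comp_yon_map,
        ofPt_comp_yon_map, hιpt]
    obtain ⟨x', hx'1, hx'2⟩ := exists_point_of_isPullback sq2 x _ heq
    obtain ⟨U'', V'', α'', β', π₁, π₂, ν₀, u'', hα'', hβ', c1, c2, c3, sqU, hu1, hu2⟩ :=
      Groth.Agent.Helper15.ChartBC.exists_chart_baseChange hY (IsAlgSpace.yon_obj T) sq2 α β h
        hα hβ hcomm u x' (hux.trans hx'1.symm)
    have hβ'₀ : Etale ((yon S).preimage β').left :=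
      (repWith_yon_map_iff _ _).1 (by rw [Functor.map_preimage]; exact hβ')
    haveI : LocallyOfFiniteType π₂.left := MorphismProperty.of_isPullback sqU hlft
    haveI : LocallyQuasiFinite ((yon S).preimage β').left :=
      locallyQuasiFinite_of_formallyUnramified _
    haveI : JacobsonSpace T.left := (inferInstance : JacobsonSpace (Spec (CommRingCat.of k)))
    haveI : IsLocallyNoetherian T.left :=
      (inferInstance : IsLocallyNoetherian (Spec (CommRingCat.of k)))
    haveI : JacobsonSpace U''.left :=
      LocallyOfFiniteType.jacobsonSpace (π₂.left ≫ ((yon S).preimage β').left)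
    haveI : IsLocallyNoetherian U''.left :=
      LocallyOfFiniteType.isLocallyNoetherian (π₂.left ≫ ((yon S).preimage β').left)
    have hopen := isOpen_singleton_of_discrete_points α'' hα'' u''
    have hqf1 : (π₂.left ≫ ((yon S).preimage β').left).QuasiFiniteAt u'' :=
      Groth.Agent.Helper15.FibDim.quasiFiniteAt_of_isOpen_singleton _ u'' hopen
    have hqf2 : π₂.left.QuasiFiniteAt u'' := Scheme.Hom.quasiFiniteAt_comp_iff.mp hqf1
    have hqf3 : h.left.QuasiFiniteAt u :=
      hu1 ▸ Groth.Agent.Helper15.FibDim.quasiFiniteAt_of_isPullback sqU u'' hqf2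
    refine ⟨U, V, α, β, h, u, hα, hβ, hcomm, hux, h.left.quasiFiniteLocus, hqf3, ?_, ?_⟩
    · show LocallyQuasiFinite (h.left.quasiFiniteLocus.ι ≫ h.left)
      infer_instance
    · show LocallyOfFiniteType (h.left.quasiFiniteLocus.ι ≫ h.left)
      infer_instance

end Groth.Agent.Helper15.QFDiscrete
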