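import Groth.Agent.Lib.Helper15.NormZmt
import Groth.Agent.Lib.Helper15.AlgSpUnivClosed
import Groth.Agent.Lib.Helper15.AlgSpProper2
import Groth.Agent.Lib.Helper15.QFDiscrete

/-!
# Finite = proper + quasi-finite for algebraic spaces
-/

set_option autoImplicit false
universe u
open CategoryTheory CategoryTheory.Limits AlgebraicGeometry MorphismProperty Opposite
open AlgSp

namespace Groth.Agent.Helper15.Norm

theorem isClosedImmersion_of_isOpenImmersion_of_universallyClosed {A B : Scheme.{u}} (φ : A ⟶ B)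
    [IsOpenImmersion φ] [UniversallyClosed φ] : IsClosedImmersion φ := by
  rw [IsClosedImmersion.iff_isProper_and_mono]
  exact ⟨{ }, inferInstance⟩

variable {S : Scheme.{u}}

theorem isFiniteMor_of_univClosed_separated_lqf {X Y : Sp S} (hX : IsAlgSpace X)
    (hY : IsAlgSpace Y) (f : X ⟶ Y) (huc : IsUnivClosedMor f) (hsep : IsSeparatedMor f)
    (hqf : LocP (@LocallyQuasiFinite ⊓ @LocallyOfFiniteType) f) : IsFiniteMor f := by
  have hqc : IsQuasiCompactMor f := isQuasiCompactMor_of_isUnivClosedMor hX hY f huc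
  have hqs : IsQuasiSeparatedMor f := repWith_mono isClosedImmersion_le_quasiCompact hsep
  obtain ⟨N, ν, f', hN, hs⟩ := exists_isSNorm hY f hqc hqs
  have hn := hs.isRelNormalization hY
  have hopen := repWith_isOpenImmersion_toNorm hX hY f hqf hqc hsep hN ν f' hn
  have hνaff : AffRep @IsAffineHom ν :=
    AffRep.mono (fun _ _ _ h => by haveI : IsIntegralHom _ := h; infer_instance)
      ((isIntegralMor_iff_affRep _).1 hn.2.1)
  have hνsep : IsSeparatedMor ν := isSeparatedMor_of_affRep_isAffineHom hN ν hνaff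
  have huc' : IsUnivClosedMor f' :=
    isUnivClosedMor_of_comp_separated hX hN hY.diag f' f ν hn.1 hνsep huc
  have h1 : RepWith @UniversallyClosed f' := (repWith_universallyClosed_iff f' hopen.rep).2 huc'
  have hcl : RepWith @IsClosedImmersion f' := by
    refine ⟨hopen.rep, fun T V g fst snd sq => ?_⟩
    haveI : IsOpenImmersion snd.left := hopen.property g fst snd sq
    haveI : UniversallyClosed snd.left := h1.property g fst snd sq
    exact isClosedImmersion_of_isOpenImmersion_of_universallyClosed snd.left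
  have hint' : IsIntegralMor f' := by
    rw [isIntegralMor_iff_affRep]
    exact affRep_of_repWith (repWith_mono (fun _ _ φ hφ => by
      haveI : IsClosedImmersion φ := hφ
      exact (inferInstance : IsIntegralHom φ)) hcl)
  have hint : IsIntegralMor f := hn.1 ▸ isIntegralMor_comp f' ν hint' hn.2.1
  exact (finite_integral hY f).2 hint (locP_mono inf_le_right hqf)

theorem finite_tfae {X Y : Sp S} (hX : IsAlgSpace X) (hY : IsAlgSpace Y) (f : X ⟶ Y) :
    [IsFiniteMor f,
      IsProperMor f ∧ LocP (@LocallyQuasiFinite ⊓ @LocallyOfFiniteType) f,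
      IsProperMor f ∧
        ∀ (k : FieldPt Y) (Xk : Sp S) (fst : Xk ⟶ X) (snd : Xk ⟶ (yon S).obj k.pt),
          IsPullback fst snd f k.toHom → DiscreteTopology (Points Xk),
      IsUnivClosedMor f ∧ IsSeparatedMor f ∧ LocP @LocallyOfFiniteType f ∧
        ∀ (k : FieldPt Y) (Xk : Sp S) (fst : Xk ⟶ X) (snd : Xk ⟶ (yon S).obj k.pt),
          IsPullback fst snd f k.toHom → DiscreteTopology (Points Xk)].TFAE := by
  have hdisc : LocP @LocallyOfFiniteType f →
      (LocP (@LocallyQuasiFinite ⊓ @LocallyOfFiniteType) f ↔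
        ∀ (k : FieldPt Y) (Xk : Sp S) (fst : Xk ⟶ X) (snd : Xk ⟶ (yon S).obj k.pt),
          IsPullback fst snd f k.toHom → DiscreteTopology (Points Xk)) := by
    intro hlft
    rw [QFDiscrete.locP_lqf_iff_discrete_fibres hX hY f hlft]
    constructor
    · intro h k Xk fst snd sq
      letI := k.field
      exact h k.K k.str k.toHom Xk fst snd sq
    · intro h k _ str y P fst snd sq
      let p : FieldPt Y := ⟨k, str, (J S).uliftYonedaEquiv y⟩
      have hp : p.toHom = y := Equiv.symm_apply_apply _ _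
      exact h p P fst snd (hp ▸ sq)
  tfae_have 1 → 2 := by
    intro h
    refine ⟨((isFiniteMor_iff_affine_proper hX hY f).1 h).2, ?_⟩
    have hG := goodP_lqf_lft
    haveI := hG.comp
    refine locP_of_affRep (Q := @IsFinite) (fun _ _ φ hφ => ?_) hG.etale_le hX f
      ((isFiniteMor_iff_affRep f).1 h)
    haveI : IsFinite φ := hφ
    exact ⟨inferInstance, inferInstance⟩
  tfae_have 2 → 3 := by
    rintro ⟨hp, hqf⟩
    exact ⟨hp, (hdisc hp.2.1.1).1 hqf⟩
  tfae_have 3 → 4 := by
    rintro ⟨hp, hd⟩
    exact ⟨hp.2.2, hp.1, hp.2.1.1, hd⟩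
  tfae_have 4 → 1 := by
    rintro ⟨huc, hsep, hlft, hd⟩
    exact isFiniteMor_of_univClosed_separated_lqf hX hY f huc hsep ((hdisc hlft).2 hd)
  tfae_finish

end Groth.Agent.Helper15.Norm
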