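import Mathlib

/-!
# Generic finiteness (algebra)

A finite type algebra over a zero-dimensional local ring which is quasi-finite is finite; finite
type algebras with finitely many primes over a minimal prime are finite after localizing at an
element outside the prime.
-/

set_option autoImplicit false
universe u
open Polynomial TensorProduct IsLocalRing

namespace Groth.Agent.Helper15.GenFin

/-- A quasi-finite algebra of finite type over a zero-dimensional local ring is finite. -/
theorem finite_of_quasiFinite_of_krullDimLE_zero {A C : Type*} [CommRing A] [CommRing C]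
    [Algebra A C] [IsLocalRing A] [Ring.KrullDimLE 0 A] [Algebra.FiniteType A C]
    [Algebra.QuasiFinite A C] : Module.Finite A C := by
  let I : Ideal C := (maximalIdeal A).map (algebraMap A C)
  let e : (maximalIdeal A).Fiber C ≃ₐ[A] C ⧸ I :=
    (Algebra.TensorProduct.congr (.symm <| .ofBijective _
      (Ideal.bijective_algebraMap_quotient_residueField (maximalIdeal A))) .refl).trans <|
    (Algebra.TensorProduct.comm _ _ _).trans
    ((Algebra.TensorProduct.quotIdealMapEquivTensorQuot C (maximalIdeal A)).symm.restrictScalars _)
  have hfin : Module.Finite A (C ⧸ I) :=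
    have : Module.Finite A ((maximalIdeal A).Fiber C) :=
      .trans (maximalIdeal A).ResidueField _
    .of_surjective e.toLinearMap e.surjective
  have hI : I ≤ nilradical C := by
    rw [Ideal.map_le_iff_le_comap, ← Ring.KrullDimLE.nilradical_eq_maximalIdeal]
    exact fun x hx ↦ IsNilpotent.map hx _
  have hint : Algebra.IsIntegral A C := ⟨fun c => by
    obtain ⟨P, hP, hPc⟩ := Algebra.IsIntegral.isIntegral (R := A) (Ideal.Quotient.mk I c)
    have h1 : Ideal.Quotient.mk I (eval₂ (algebraMap A C) c P) = 0 := by
      rw [Polynomial.hom_eval₂]
      exact hPc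
    have h2 : eval₂ (algebraMap A C) c P ∈ I := Ideal.Quotient.eq_zero_iff_mem.1 h1
    obtain ⟨n, hn⟩ := hI h2
    exact ⟨P ^ n, hP.pow n, by rw [eval₂_pow, hn]⟩⟩
  exact Algebra.IsIntegral.finite

end Groth.Agent.Helper15.GenFin

namespace Groth.Agent.Helper15.GenFin

/-- If `B_p` is integral over `R_p`, every element of `B` has a multiple by an element outside `p`
which is integral over `R`. -/
theorem exists_smul_isIntegral {R B : Type*} [CommRing R] [CommRing B] [Algebra R B]
    (M : Submonoid R)
    [Algebra.IsIntegral (Localization M) (Localization (Algebra.algebraMapSubmonoid B M))]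
    (b : B) : ∃ m ∈ M, IsIntegral R (m • b) := by
  have h1 : IsIntegral (Localization M)
      (algebraMap B (Localization (Algebra.algebraMapSubmonoid B M)) b) :=
    Algebra.IsIntegral.isIntegral _
  obtain ⟨m₁, hm₁⟩ := h1.exists_multiple_integral_of_isLocalization M
  have e : m₁ • algebraMap B (Localization (Algebra.algebraMapSubmonoid B M)) b =
      algebraMap B (Localization (Algebra.algebraMapSubmonoid B M)) ((m₁ : R) • b) := by
    rw [Submonoid.smul_def, Algebra.smul_def, Algebra.smul_def, map_mul,
      ← IsScalarTower.algebraMap_apply]
  rw [e] at hm₁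
  obtain ⟨m₂, hm₂, h2⟩ := IsLocalization.exists_isIntegral_smul_of_isIntegral_map
    (Sₘ := Localization (Algebra.algebraMapSubmonoid B M)) M (x := (m₁ : R) • b) hm₁
  exact ⟨m₂ * m₁, mul_mem hm₂ m₁.2, by rwa [mul_smul]⟩

/-- If the generators of `B` become integral over `R` after multiplication by `s`, then
`R_s → B_s` is finite. -/
theorem awayMap_finite_of_smul_isIntegral {R B : Type*} [CommRing R] [CommRing B] [Algebra R B]
    (T : Finset B) (hT : Algebra.adjoin R (T : Set B) = ⊤) (s : R)
    (hs : ∀ b ∈ T, IsIntegral R (s • b)) : (Localization.awayMap (algebraMap R B) s).Finite := by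
  set f := Localization.awayMap (algebraMap R B) s with hf
  have hcomp : f.comp (algebraMap R (Localization.Away s)) =
      (algebraMap B (Localization.Away (algebraMap R B s))).comp (algebraMap R B) :=
    IsLocalization.map_comp _
  algebraize [f]
  haveI : IsScalarTower R (Localization.Away s) (Localization.Away (algebraMap R B s)) :=
    IsScalarTower.of_algebraMap_eq' (by
      rw [IsScalarTower.algebraMap_eq R B (Localization.Away (algebraMap R B s)),
        RingHom.algebraMap_toAlgebra]
      exact hcomp.symm)
  have hunit : algebraMap (Localization.Away s) (Localization.Away (algebraMap R B s))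
      (IsLocalization.Away.invSelf s) *
        algebraMap B (Localization.Away (algebraMap R B s)) (algebraMap R B s) = 1 := by
    rw [← IsScalarTower.algebraMap_apply R B (Localization.Away (algebraMap R B s)),
      IsScalarTower.algebraMap_apply R (Localization.Away s)
        (Localization.Away (algebraMap R B s)),
      ← map_mul, mul_comm, IsLocalization.Away.mul_invSelf, map_one]
  have key : ∀ x : B, IsIntegral (Localization.Away s)
      (algebraMap B (Localization.Away (algebraMap R B s)) x) := by
    intro x
    have hx : x ∈ Algebra.adjoin R (T : Set B) := by rw [hT]; trivial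
    induction hx using Algebra.adjoin_induction with
    | mem b hb =>
      have h1 : IsIntegral R (algebraMap B (Localization.Away (algebraMap R B s)) (s • b)) :=
        (hs b hb).map (IsScalarTower.toAlgHom R B (Localization.Away (algebraMap R B s)))
      have h2 : IsIntegral (Localization.Away s)
          (algebraMap B (Localization.Away (algebraMap R B s)) (s • b)) := h1.tower_top
      rw [Algebra.smul_def, map_mul, mul_comm] at h2
      exact IsIntegral.of_mul_unit hunit h2
    | algebraMap r =>
      rw [← IsScalarTower.algebraMap_apply R B (Localization.Away (algebraMap R B s)),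
        IsScalarTower.algebraMap_apply R (Localization.Away s)
          (Localization.Away (algebraMap R B s))]
      exact isIntegral_algebraMap
    | add x y _ _ hx hy => rw [map_add]; exact hx.add hy
    | mul x y _ _ hx hy => rw [map_mul]; exact hx.mul hy
  have hint : f.IsIntegral := by
    intro z
    obtain ⟨n, a, ha⟩ := IsLocalization.Away.surj (algebraMap R B s) z
    have hz : z = algebraMap B (Localization.Away (algebraMap R B s)) a *
        algebraMap (Localization.Away s) (Localization.Away (algebraMap R B s))
          (IsLocalization.Away.invSelf s ^ n) := by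
      rw [← ha, map_pow, mul_assoc, ← mul_pow, mul_comm (algebraMap B _ _), hunit, one_pow,
        mul_one]
    have : IsIntegral (Localization.Away s) z := by
      rw [hz]
      exact (key a).mul isIntegral_algebraMap
    exact this
  refine RingHom.finite_iff_isIntegral_and_finiteType.mpr ⟨hint, ?_⟩
  refine RingHom.finiteType_algebraMap.mpr ?_
  haveI : Algebra.FiniteType R B := ⟨⟨T, hT⟩⟩
  exact .of_restrictScalars_finiteType R _ _

end Groth.Agent.Helper15.GenFin

namespace Groth.Agent.Helper15.GenFin

/-- **Generic finiteness, algebraic form.** Let `B` be an `R`-algebra of finite type and `p` a prime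
of `R` whose local ring is zero-dimensional (a minimal prime) with only finitely many primes of `B`
above it. Then `R_s → B_s` is finite for some `s ∉ p`. -/
theorem exists_awayMap_finite {R B : Type u} [CommRing R] [CommRing B] [Algebra R B]
    [Algebra.FiniteType R B] (p : Ideal R) [p.IsPrime]
    [Ring.KrullDimLE 0 (Localization.AtPrime p)]
    (hfin : {q : PrimeSpectrum B | q.asIdeal.comap (algebraMap R B) = p}.Finite) :
    ∃ s ∉ p, (Localization.awayMap (algebraMap R B) s).Finite := by
  set M := p.primeCompl with hM
  set Bp := Localization (Algebra.algebraMapSubmonoid B M) with hBp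
  haveI hft : Algebra.FiniteType (Localization.AtPrime p) Bp := by
    rw [← RingHom.finiteType_algebraMap]
    haveI : IsLocalization (Submonoid.map (algebraMap R B) M) Bp :=
      inferInstanceAs (IsLocalization (Algebra.algebraMapSubmonoid B M) Bp)
    exact RingHom.finiteType_localizationPreserves (algebraMap R B) M (Localization.AtPrime p) Bp
      (RingHom.finiteType_algebraMap.2 inferInstance)
  have hinj : Function.Injective (PrimeSpectrum.comap (algebraMap B Bp)) :=
    PrimeSpectrum.localization_comap_injective Bp (Algebra.algebraMapSubmonoid B M)
  have hmem : ∀ Q : PrimeSpectrum Bp, PrimeSpectrum.comap (algebraMap B Bp) Q ∈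
      {q : PrimeSpectrum B | q.asIdeal.comap (algebraMap R B) = p} := by
    intro Q
    change (Q.asIdeal.comap (algebraMap B Bp)).comap (algebraMap R B) = p
    rw [Ideal.comap_comap, ← IsScalarTower.algebraMap_eq R B Bp,
      IsScalarTower.algebraMap_eq R (Localization.AtPrime p) Bp, ← Ideal.comap_comap,
      Ring.KrullDimLE.eq_maximalIdeal_of_isPrime (Q.asIdeal.comap (algebraMap _ Bp))]
    exact Localization.AtPrime.under_maximalIdeal
  haveI := hfin.to_subtype
  haveI : Finite (PrimeSpectrum Bp) :=
    Finite.of_injective (fun Q => (⟨_, hmem Q⟩ :
      {q : PrimeSpectrum B | q.asIdeal.comap (algebraMap R B) = p}))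
      (fun Q Q' h => hinj (congrArg Subtype.val h))
  haveI : Algebra.QuasiFinite (Localization.AtPrime p) Bp :=
    Algebra.QuasiFinite.iff_finite_comap_preimage_singleton.2 (fun x => Set.toFinite _)
  haveI : Module.Finite (Localization.AtPrime p) Bp := finite_of_quasiFinite_of_krullDimLE_zero
  haveI : Algebra.IsIntegral (Localization M) Bp :=
    (inferInstance : Algebra.IsIntegral (Localization.AtPrime p) Bp)
  obtain ⟨T, hT⟩ := (Algebra.FiniteType.out : (⊤ : Subalgebra R B).FG)
  choose m hmM hmint using fun b : B => exists_smul_isIntegral (R := R) M b
  classical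
  refine ⟨∏ b ∈ T, m b, ?_, awayMap_finite_of_smul_isIntegral T hT _ ?_⟩
  · have : ∏ b ∈ T, m b ∈ M := prod_mem fun b _ => hmM b
    exact fun h => this h
  · intro b hb
    rw [← Finset.mul_prod_erase T m hb, mul_comm, mul_smul]
    exact (hmint b).smul _

end Groth.Agent.Helper15.GenFin
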