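import Mathlib

/-!
# Maximal points (generic points of irreducible components)
-/

set_option autoImplicit false
universe u

namespace Groth.Agent.Helper15.MaxPts

variable {α β : Type*} [TopologicalSpace α] [TopologicalSpace β]

/-- Points without proper generizations. -/
def maxPts (α : Type*) [TopologicalSpace α] : Set α := {x | ∀ y : α, y ⤳ x → x ⤳ y}

theorem closure_singleton_mem_irreducibleComponents [QuasiSober α] {x : α} (hx : x ∈ maxPts α) :
    closure {x} ∈ irreducibleComponents α := by
  refine ⟨isIrreducible_singleton.closure, ?_⟩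
  intro s hs hxs
  obtain ⟨ξ, hξ⟩ := QuasiSober.sober hs.closure isClosed_closure
  have hξx : ξ ⤳ x := by
    rw [specializes_iff_mem_closure, hξ.def]
    exact subset_closure (hxs (subset_closure rfl))
  have hxξ : x ⤳ ξ := hx ξ hξx
  calc s ⊆ closure s := subset_closure
    _ = closure {ξ} := hξ.def.symm
    _ ⊆ closure {x} := specializes_iff_closure_subset.1 hxξ

theorem mem_maxPts_of_isGenericPoint {x : α} {Z : Set α} (hZ : Z ∈ irreducibleComponents α)
    (hx : IsGenericPoint x Z) : x ∈ maxPts α := by
  intro y hyx
  have h1 : closure {x} ⊆ closure {y} := specializes_iff_closure_subset.1 hyx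
  have h2 : closure {y} ⊆ Z :=
    hZ.2 (isIrreducible_singleton.closure) (by rw [← hx.def]; exact h1)
  have h3 : y ∈ closure {x} := by
    rw [hx.def]; exact h2 (subset_closure rfl)
  exact specializes_iff_mem_closure.2 h3

/-- In a sober space there are finitely many irreducible components iff there are finitely many
maximal points. -/
theorem finite_irreducibleComponents_iff [QuasiSober α] [T0Space α] :
    (irreducibleComponents α).Finite ↔ (maxPts α).Finite := by
  constructor
  · intro h
    refine Set.Finite.of_finite_image (f := fun x : α => closure {x}) (h.subset ?_) ?_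
    · rintro _ ⟨x, hx, rfl⟩
      exact closure_singleton_mem_irreducibleComponents hx
    · intro x _ y _ hxy
      have hxy' : closure {x} = closure {y} := hxy
      have h1 : x ⤳ y := by
        rw [specializes_iff_closure_subset, hxy']
      have h2 : y ⤳ x := by
        rw [specializes_iff_closure_subset, hxy']
      exact (h2.antisymm h1).eq.symm
  · intro h
    refine (h.image (fun x : α => closure {x})).subset ?_
    intro Z hZ
    obtain ⟨ξ, hξ⟩ := QuasiSober.sober hZ.1 (isClosed_of_mem_irreducibleComponents Z hZ)
    exact ⟨ξ, mem_maxPts_of_isGenericPoint hZ hξ, hξ.def⟩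

/-- Maximal points of an open subspace. -/
theorem mem_maxPts_subtype_iff {W : Set α} (hW : IsOpen W) (w : W) :
    w ∈ maxPts W ↔ (w : α) ∈ maxPts α := by
  constructor
  · intro h y hy
    have hyW : y ∈ W := hy.mem_open hW w.2
    have := h ⟨y, hyW⟩ ((subtype_specializes_iff _ _).2 hy)
    exact (subtype_specializes_iff _ _).1 this
  · intro h y hy
    exact (subtype_specializes_iff _ _).2 (h y ((subtype_specializes_iff _ _).1 hy))

/-- Every point of a quasi-sober space has a maximal generization. -/
theorem exists_maxPts_specializes [QuasiSober α] (x : α) : ∃ ξ ∈ maxPts α, ξ ⤳ x := by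
  have hirr : IsIrreducible (irreducibleComponent x) := isIrreducible_irreducibleComponent
  have hcl : IsClosed (irreducibleComponent x) := isClosed_irreducibleComponent
  obtain ⟨ξ, hξ⟩ := QuasiSober.sober hirr hcl
  refine ⟨ξ, mem_maxPts_of_isGenericPoint (irreducibleComponent_mem_irreducibleComponents x) hξ, ?_⟩
  rw [specializes_iff_mem_closure, hξ.def]
  exact mem_irreducibleComponent

/-- A generalizing continuous map sends maximal points to maximal points. -/
theorem map_mem_maxPts {g : α → β} (hg : Continuous g) (hgen : GeneralizingMap g) {x : α}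
    (hx : x ∈ maxPts α) : g x ∈ maxPts β := by
  intro y hy
  obtain ⟨x', hx'x, rfl⟩ := hgen hy
  exact (hx x' hx'x).map hg

/-- Maximal points of the target lift to maximal points of the source. -/
theorem exists_maxPts_map_eq [QuasiSober α] [T0Space β] {g : α → β} (hg : Continuous g) (w : α)
    (h : g w ∈ maxPts β) : ∃ x ∈ maxPts α, x ⤳ w ∧ g x = g w := by
  obtain ⟨ξ, hξ, hξw⟩ := exists_maxPts_specializes w
  refine ⟨ξ, hξ, hξw, ?_⟩
  have h1 : g ξ ⤳ g w := hξw.map hg
  exact (h1.antisymm (h _ h1)).eq

end Groth.Agent.Helper15.MaxPts
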