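import Mathlib
import Groth.Agent.Lib.Helper15.GenFin1
import Groth.Agent.Lib.Helper15.MaxPts

/-!
# Generic finiteness for affine schemes
-/

set_option autoImplicit false
universe u
open CategoryTheory CategoryTheory.Limits AlgebraicGeometry

namespace Groth.Agent.Helper15.GenFin

open Groth.Agent.Helper15.MaxPts

/-- A maximal point of `Spec R` is a minimal prime. -/
theorem mem_minimalPrimes_of_mem_maxPts {R : CommRingCat.{u}} (p : Spec R)
    (hp : p ∈ maxPts (Spec R)) : p.asIdeal ∈ minimalPrimes R := by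
  refine ⟨⟨p.isPrime, bot_le⟩, fun q hq hqp => ?_⟩
  let q' : Spec R := ⟨q, hq.1⟩
  have h1 : q' ⤳ p := (PrimeSpectrum.le_iff_specializes q' p).1 hqp
  exact (PrimeSpectrum.le_iff_specializes p q').2 (hp q' h1)

theorem exists_basicOpen_finite_spec {R B : CommRingCat.{u}} (φ : R ⟶ B)
    (hφ : φ.hom.FiniteType) (p : Spec R) (hp : p ∈ maxPts (Spec R))
    (hfin : ((Spec.map φ) ⁻¹' {p}).Finite) :
    ∃ s : R, p ∈ PrimeSpectrum.basicOpen s ∧
      IsFinite (pullback.snd (Spec.map φ)
        (Spec.map (CommRingCat.ofHom (algebraMap R (Localization.Away s))))) := by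
  algebraize [φ.hom]
  haveI : Ring.KrullDimLE 0 (Localization.AtPrime p.asIdeal) :=
    Ring.KrullDimLE.of_isLocalization p.asIdeal (mem_minimalPrimes_of_mem_maxPts p hp) _
  have hfin' : {q : PrimeSpectrum B | q.asIdeal.comap (algebraMap R B) = p.asIdeal}.Finite := by
    refine hfin.subset ?_
    intro q hq
    change Spec.map φ q = p
    apply PrimeSpectrum.ext
    exact hq
  obtain ⟨s, hs, hfinite⟩ := exists_awayMap_finite p.asIdeal hfin'
  refine ⟨s, hs, ?_⟩
  let ψ : CommRingCat.of (Localization.Away s) ⟶ CommRingCat.of (Localization.Away (φ.hom s)) :=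
    CommRingCat.ofHom (Localization.awayMap φ.hom s)
  have hψ : IsFinite (Spec.map ψ) := (IsFinite.SpecMap_iff ψ).2 hfinite
  have H : Spec.map (CommRingCat.ofHom (algebraMap B (Localization.Away (φ.hom s)))) ≫ Spec.map φ =
      Spec.map ψ ≫ Spec.map (CommRingCat.ofHom (algebraMap R (Localization.Away s))) := by
    rw [← Spec.map_comp, ← Spec.map_comp]
    congr 1
    ext x
    simp only [CommRingCat.hom_comp, CommRingCat.hom_ofHom, RingHom.coe_comp, Function.comp_apply,
      ψ, Localization.awayMap, IsLocalization.Away.map, IsLocalization.map_eq]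
  have H' : (Spec.map φ) ⁻¹ᵁ
      (Spec.map (CommRingCat.ofHom (algebraMap R (Localization.Away s)))).opensRange =
      (Spec.map (CommRingCat.ofHom (algebraMap B (Localization.Away (φ.hom s))))).opensRange := by
    rw [Scheme.Hom.opensRange_localizationAway, Scheme.Hom.opensRange_localizationAway]
    ext x
    simp
  have sq := (IsOpenImmersion.isPullback (Spec.map ψ) _ _ (Spec.map φ) H H').flip
  have e : sq.isoPullback.hom ≫ pullback.snd _ _ = Spec.map ψ := sq.isoPullback_hom_snd
  rw [← e] at hψ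
  exact (MorphismProperty.cancel_left_of_respectsIso @IsFinite sq.isoPullback.hom _).1 hψ

end Groth.Agent.Helper15.GenFin

namespace Groth.Agent.Helper15.GenFin

open Groth.Agent.Helper15.MaxPts

theorem mem_maxPts_of_iso {X Y : Scheme.{u}} (e : X ≅ Y) {x : X} (hx : x ∈ maxPts X) :
    e.hom x ∈ maxPts Y := by
  intro y hy
  have h1 : e.inv y ⤳ x := by
    have := hy.map e.inv.continuous
    rwa [Scheme.hom_inv_apply] at this
  have h2 := (hx _ h1).map e.hom.continuous
  rwa [Scheme.inv_hom_apply] at h2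

/-- **Generic finiteness for affine schemes.** -/
theorem exists_opens_finite_of_isAffine {U V : Scheme.{u}} (g : U ⟶ V) [IsAffine U] [IsAffine V]
    [LocallyOfFiniteType g] (v : V) (hv : v ∈ maxPts V) (hfin : (g ⁻¹' {v}).Finite) :
    ∃ V' : V.Opens, v ∈ V' ∧ IsFinite (g ∣_ V') := by
  set φ := g.appTop with hφ
  have hnat : g ≫ V.isoSpec.hom = U.isoSpec.hom ≫ Spec.map φ :=
    (Scheme.isoSpec_hom_naturality g).symm
  have hφft : φ.hom.FiniteType :=
    (HasRingHomProperty.iff_of_isAffine (P := @LocallyOfFiniteType)).1 inferInstance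
  have hfin' : ((Spec.map φ) ⁻¹' {V.isoSpec.hom v}).Finite := by
    refine (hfin.image U.isoSpec.hom).subset ?_
    intro q hq
    refine ⟨U.isoSpec.inv q, ?_, Scheme.inv_hom_apply _ _⟩
    change g (U.isoSpec.inv q) = v
    have h1 : V.isoSpec.hom (g (U.isoSpec.inv q)) = V.isoSpec.hom v := by
      rw [← Scheme.Hom.comp_apply, hnat, Scheme.Hom.comp_apply, Scheme.inv_hom_apply]
      exact hq
    have := congrArg V.isoSpec.inv h1
    rwa [Scheme.hom_inv_apply, Scheme.hom_inv_apply] at this
  obtain ⟨s, hs, hfinite⟩ := exists_basicOpen_finite_spec φ hφft (V.isoSpec.hom v)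
    (mem_maxPts_of_iso V.isoSpec hv) hfin'
  set j₀ := Spec.map (CommRingCat.ofHom (algebraMap Γ(V, ⊤) (Localization.Away s))) with hj₀
  let j := j₀ ≫ V.isoSpec.inv
  haveI : IsOpenImmersion j := inferInstance
  refine ⟨j.opensRange, ?_, ?_⟩
  · have h1 : V.isoSpec.hom v ∈ j₀.opensRange := by
      have := Scheme.Hom.opensRange_localizationAway (R := Γ(V, ⊤)) s
      rw [this]
      exact hs
    obtain ⟨z, hz⟩ := h1
    refine ⟨z, ?_⟩
    change (j₀ ≫ V.isoSpec.inv) z = v
    rw [Scheme.Hom.comp_apply, hz, Scheme.hom_inv_apply]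
  · rw [MorphismProperty.arrow_mk_iso_iff @IsFinite (morphismRestrictOpensRange g j)]
    have sq₀ : IsPullback (pullback.fst (Spec.map φ) j₀) (pullback.snd (Spec.map φ) j₀)
        (Spec.map φ) j₀ := IsPullback.of_hasPullback _ _
    have sq : IsPullback (pullback.fst (Spec.map φ) j₀ ≫ U.isoSpec.inv)
        (pullback.snd (Spec.map φ) j₀) g j := by
      refine IsPullback.of_iso sq₀ (Iso.refl _) U.isoSpec.symm (Iso.refl _) V.isoSpec.symm
        (by simp) (by simp) ?_ (by simp [j])
      change Spec.map φ ≫ V.isoSpec.inv = U.isoSpec.inv ≫ g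
      rw [Iso.eq_inv_comp, ← Category.assoc, ← hnat, Category.assoc, Iso.hom_inv_id,
        Category.comp_id]
    have e : sq.isoPullback.hom ≫ pullback.snd g j = pullback.snd (Spec.map φ) j₀ :=
      sq.isoPullback_hom_snd
    rw [← e] at hfinite
    exact (MorphismProperty.cancel_left_of_respectsIso @IsFinite sq.isoPullback.hom _).1 hfinite

end Groth.Agent.Helper15.GenFin
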