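import Groth.Agent.Lib.Helper15.Wt10

/-!
# Weightings: the splitting with prescribed neighbourhoods
-/

set_option autoImplicit false
universe u
open CategoryTheory CategoryTheory.Limits AlgebraicGeometry

namespace Groth.Agent.Helper15.Wt

open Groth.Agent.Helper15.QfMulti

theorem exists_nbhd_finset {T₁ : Scheme.{u}} (t₁ : T₁) {ι : Type*} (F : Finset ι)
    (Q : ι → T₁.Opens → Prop) (hmono : ∀ i (N N' : T₁.Opens), N' ≤ N → Q i N → Q i N')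
    (h : ∀ i ∈ F, ∃ N : T₁.Opens, t₁ ∈ N ∧ Q i N) :
    ∃ N : T₁.Opens, t₁ ∈ N ∧ ∀ i ∈ F, Q i N := by
  classical
  induction F using Finset.induction_on with
  | empty => exact ⟨⊤, trivial, by simp⟩
  | insert i F' hi IH =>
    obtain ⟨N', hN', hQ'⟩ := IH (fun j hj => h j (Finset.mem_insert_of_mem hj))
    obtain ⟨Ni, hNi, hQi⟩ := h i (Finset.mem_insert_self _ _)
    refine ⟨N' ⊓ Ni, ⟨hN', hNi⟩, ?_⟩
    intro j hj
    rcases Finset.mem_insert.1 hj with rfl | hj'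
    · exact hmono _ _ _ inf_le_right hQi
    · exact hmono _ _ _ inf_le_left (hQ' j hj')

/-- The family splitting with pieces mapping into prescribed neighbourhoods, and covering when
the morphism is finite and the whole fibre is split. -/
theorem exists_split_family_sub {E T : Scheme.{u}} (φ : E ⟶ T) [IsSeparated φ]
    [LocallyOfFiniteType φ] [LocallyQuasiFinite φ] (t : T) (F : Finset E)
    (hF : ∀ x ∈ F, φ x = t) (O : E → E.Opens) (hO : ∀ x ∈ F, x ∈ O x) :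
    ∃ (T₁ : Scheme.{u}) (g : T₁ ⟶ T) (t₁ : T₁), Etale g ∧ g t₁ = t ∧ FibInj g t₁ ∧
      ∃ (E₁ : Scheme.{u}) (p₁ : E₁ ⟶ E) (p₂ : E₁ ⟶ T₁), IsPullback p₁ p₂ φ g ∧
      ∃ Vs : E → E₁.Opens, (∀ x ∈ F, IsClosed (Vs x : Set E₁) ∧ IsFinite ((Vs x).ι ≫ p₂) ∧
        (∀ p : E₁, p₂ p = t₁ → (p ∈ Vs x ↔ p₁ p = x)) ∧ (∀ p ∈ Vs x, p₁ p ∈ O x)) ∧
        (∀ x ∈ F, ∀ y ∈ F, x ≠ y → Disjoint (Vs x) (Vs y)) ∧
        (IsFinite φ → (∀ x, φ x = t → x ∈ F) → ∀ p : E₁, ∃ x ∈ F, p ∈ Vs x) := by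
  classical
  obtain ⟨T₁, g, t₁, hg, hgt, hfib, E₁, p₁, p₂, sq, Vs, hVs, hdisj⟩ :=
    exists_split_family φ t F hF
  haveI := hg
  -- the neighbourhood for the prescribed opens
  obtain ⟨N₁, ht₁N₁, hN₁⟩ := exists_nbhd_finset t₁ F
    (fun x N => ∀ p ∈ Vs x, p₁ p ∉ O x → p₂ p ∉ N)
    (fun x N N' hle hQ p hp hpO hpN => hQ p hp hpO (hle hpN))
    (by
      intro x hx
      obtain ⟨-, hfin, hfibx⟩ := hVs x hx
      haveI := hfin
      have hZ : IsClosed ((p₁ ⁻¹' (O x : Set E))ᶜ) :=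
        ((O x).2.preimage p₁.continuous).isClosed_compl
      obtain ⟨N, hN, hN'⟩ := exists_nbhd_avoiding p₂ (Vs x) _ hZ t₁ (by
        intro p hp hpZ hpt
        apply hpZ
        change p₁ p ∈ O x
        rw [(hfibx p hpt).1 hp]
        exact hO x hx)
      exact ⟨N, hN, fun p hp hpO => hN' p hp hpO⟩)
  -- the neighbourhood for the covering
  obtain ⟨N₂, ht₁N₂, hN₂⟩ : ∃ N₂ : T₁.Opens, t₁ ∈ N₂ ∧
      (IsFinite φ → (∀ x, φ x = t → x ∈ F) → ∀ p : E₁, p₂ p ∈ N₂ → ∃ x ∈ F, p ∈ Vs x) := by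
    by_cases hcase : IsFinite φ ∧ (∀ x, φ x = t → x ∈ F)
    · obtain ⟨hφ, hall⟩ := hcase
      haveI := hφ
      haveI : IsFinite p₂ := MorphismProperty.of_isPullback (P := @IsFinite) sq inferInstance
      have hRo : IsOpen (⋃ x ∈ F, (Vs x : Set E₁)) :=
        isOpen_biUnion (fun x _ => (Vs x).2)
      have hC : IsClosed (p₂ '' (⋃ x ∈ F, (Vs x : Set E₁))ᶜ) :=
        p₂.isClosedMap _ hRo.isClosed_compl
      refine ⟨⟨_, hC.isOpen_compl⟩, ?_, ?_⟩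
      · rintro ⟨p, hp, hpt⟩
        apply hp
        have hpx : p₁ p ∈ F := by
          apply hall
          rw [← Scheme.Hom.comp_apply, sq.w, Scheme.Hom.comp_apply, hpt, hgt]
        exact Set.mem_biUnion hpx (((hVs _ hpx).2.2 p hpt).2 rfl)
      · intro _ _ p hp
        by_contra hcon
        apply hp
        refine ⟨p, ?_, rfl⟩
        intro hmem
        obtain ⟨x, hx, hpx⟩ := Set.mem_iUnion₂.1 hmem
        exact hcon ⟨x, hx, hpx⟩
    · exact ⟨⊤, trivial, fun h1 h2 => (hcase ⟨h1, h2⟩).elim⟩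
  -- restrict to `N`
  let N : T₁.Opens := N₁ ⊓ N₂
  have ht₁N : t₁ ∈ N := ⟨ht₁N₁, ht₁N₂⟩
  let h : ((p₂ ⁻¹ᵁ N : E₁.Opens) : Scheme.{u}) ⟶ E₁ := (p₂ ⁻¹ᵁ N).ι
  have sq' : IsPullback (h ≫ p₁) (p₂ ∣_ N) φ (N.ι ≫ g) :=
    (isPullback_morphismRestrict p₂ N).flip.paste_horiz sq
  have hp₂' : ∀ p' : ((p₂ ⁻¹ᵁ N : E₁.Opens) : Scheme.{u}), p₂ (h p') = N.ι ((p₂ ∣_ N) p') := by
    intro p'
    rw [← Scheme.Hom.comp_apply, ← Scheme.Hom.comp_apply, morphismRestrict_ι]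
  refine ⟨N, N.ι ≫ g, ⟨t₁, ht₁N⟩, inferInstance, by rw [Scheme.Hom.comp_apply]; exact hgt,
    (fibInj_of_isOpenImmersion N.ι _).comp hfib rfl, (p₂ ⁻¹ᵁ N : E₁.Opens), h ≫ p₁, p₂ ∣_ N, sq',
    fun x => h ⁻¹ᵁ (Vs x), ?_, ?_, ?_⟩
  · intro x hx
    obtain ⟨hc, hfin, hfibx⟩ := hVs x hx
    refine ⟨hc.preimage h.continuous, ?_, ?_, ?_⟩
    · have h1 := (isPullback_morphismRestrict h (Vs x)).paste_vert
        (isPullback_morphismRestrict p₂ N).flip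
      exact MorphismProperty.of_isPullback (P := @IsFinite) h1 hfin
    · intro p' hp'
      have : p₂ (h p') = t₁ := by rw [hp₂', hp']; rfl
      exact hfibx (h p') this
    · intro p' hp'
      by_contra hcon
      have h1 : p₂ (h p') ∉ N₁ := hN₁ x hx (h p') hp' hcon
      apply h1
      have : p₂ (h p') ∈ N := p'.2
      exact this.1
  · intro x hx y hy hne
    have hd := hdisj x hx y hy hne
    rw [disjoint_iff] at hd ⊢
    have : h ⁻¹ᵁ (Vs x) ⊓ h ⁻¹ᵁ (Vs y) ≤ h ⁻¹ᵁ (Vs x ⊓ Vs y) := fun p hp => hp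
    rw [hd] at this
    exact le_bot_iff.1 this
  · intro h1 h2 p'
    have : p₂ (h p') ∈ N := p'.2
    obtain ⟨x, hx, hpx⟩ := hN₂ h1 h2 (h p') this.2
    exact ⟨x, hx, hpx⟩

end Groth.Agent.Helper15.Wt
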