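import Groth.Agent.Lib.Helper15.Wt5
import Mathlib.AlgebraicGeometry.Morphisms.FlatDescent

/-!
# Weightings: finiteness over the maximal locus
-/

set_option autoImplicit false
universe u
open CategoryTheory CategoryTheory.Limits AlgebraicGeometry

namespace Groth.Agent.Helper15.Wt

variable {X Y : Scheme.{u}}

/-- A property local on the target holds for a restriction as soon as it holds for restrictions to
smaller opens covering the open. -/
theorem restrict_of_forall_exists (P : MorphismProperty Scheme.{u}) [IsZariskiLocalAtTarget P]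
    (f : X ⟶ Y) (U : Y.Opens)
    (H : ∀ y ∈ U, ∃ O : Y.Opens, y ∈ O ∧ O ≤ U ∧ P (f ∣_ O)) : P (f ∣_ U) := by
  refine IsZariskiLocalAtTarget.of_forall_exists_morphismRestrict (P := P) ?_
  intro x
  obtain ⟨O, hxO, hOU, hP⟩ := H x.1 x.2
  refine ⟨U.ι ⁻¹ᵁ O, hxO, ?_⟩
  have e : U.ι ''ᵁ (U.ι ⁻¹ᵁ O) = O := by
    ext y
    constructor
    · rintro ⟨z, hz, rfl⟩
      exact hz
    · intro hy
      exact ⟨⟨y, hOU hy⟩, hy, rfl⟩
  exact (P.arrow_mk_iso_iff (morphismRestrictRestrict f U _ ≪≫ morphismRestrictEq f e)).2 hP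

/-- If all points of `E₁` over the open `N` lie in the open `B` which is finite over the base, then
the restriction over `N` is finite. -/
theorem isFinite_restrict_of_subset {E₁ T : Scheme.{u}} (p₂ : E₁ ⟶ T) (B : E₁.Opens)
    [IsFinite (B.ι ≫ p₂)] (N : T.Opens) (hB : ∀ p : E₁, p₂ p ∈ N → p ∈ B) :
    IsFinite (p₂ ∣_ N) := by
  have h1 : IsFinite ((B.ι ≫ p₂) ∣_ N) :=
    IsZariskiLocalAtTarget.restrict (P := @IsFinite) inferInstance N
  rw [morphismRestrict_comp] at h1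
  haveI : Surjective (B.ι ∣_ (p₂ ⁻¹ᵁ N)) := by
    refine ⟨fun x => ?_⟩
    have hx : x.1 ∈ B := hB x.1 x.2
    refine ⟨⟨⟨x.1, hx⟩, x.2⟩, ?_⟩
    apply Subtype.ext
    rw [morphismRestrict_base_coe]
    rfl
  haveI : IsIso (B.ι ∣_ (p₂ ⁻¹ᵁ N)) :=
    (isIso_iff_isOpenImmersion_and_surjective _).2 ⟨inferInstance, inferInstance⟩
  exact (MorphismProperty.cancel_left_of_respectsIso @IsFinite (B.ι ∣_ (p₂ ⁻¹ᵁ N)) (p₂ ∣_ N)).1 h1

/-- Universal closedness of a restriction descends along an étale map hitting the open. -/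
theorem universallyClosed_restrict_of_etale {E₁ T : Scheme.{u}} (f : X ⟶ Y) (g : T ⟶ Y) [Etale g]
    (p₁ : E₁ ⟶ X) (p₂ : E₁ ⟶ T) (sq : IsPullback p₁ p₂ f g) (N : T.Opens) (O : Y.Opens)
    (hNO : g '' (N : Set T) = (O : Set Y)) (h : UniversallyClosed (p₂ ∣_ N)) :
    UniversallyClosed (f ∣_ O) := by
  have hr1 : Set.range (N.ι ≫ g) ⊆ Set.range O.ι := by
    rintro _ ⟨x, rfl⟩
    rw [Scheme.Opens.range_ι, ← hNO]
    exact ⟨x.1, x.2, rfl⟩
  let g' : (N : Scheme.{u}) ⟶ (O : Scheme.{u}) := IsOpenImmersion.lift O.ι (N.ι ≫ g) hr1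
  have hg' : g' ≫ O.ι = N.ι ≫ g := IsOpenImmersion.lift_fac _ _ _
  have hr2 : Set.range ((p₂ ⁻¹ᵁ N).ι ≫ p₁) ⊆ Set.range (f ⁻¹ᵁ O).ι := by
    rintro _ ⟨x, rfl⟩
    rw [Scheme.Opens.range_ι]
    change f (p₁ x.1) ∈ O
    rw [← Scheme.Hom.comp_apply, sq.w, Scheme.Hom.comp_apply]
    have : g (p₂ x.1) ∈ g '' (N : Set T) := ⟨_, x.2, rfl⟩
    rw [hNO] at this
    exact this
  let top : ((p₂ ⁻¹ᵁ N : E₁.Opens) : Scheme.{u}) ⟶ ((f ⁻¹ᵁ O : X.Opens) : Scheme.{u}) :=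
    IsOpenImmersion.lift (f ⁻¹ᵁ O).ι ((p₂ ⁻¹ᵁ N).ι ≫ p₁) hr2
  have htop : top ≫ (f ⁻¹ᵁ O).ι = (p₂ ⁻¹ᵁ N).ι ≫ p₁ := IsOpenImmersion.lift_fac _ _ _
  have big : IsPullback ((p₂ ⁻¹ᵁ N).ι ≫ p₁) (p₂ ∣_ N) f (N.ι ≫ g) :=
    (isPullback_morphismRestrict p₂ N).flip.paste_horiz sq
  have right : IsPullback (f ⁻¹ᵁ O).ι (f ∣_ O) f O.ι := (isPullback_morphismRestrict f O).flip
  have comm : top ≫ f ∣_ O = p₂ ∣_ N ≫ g' := by
    rw [← cancel_mono O.ι, Category.assoc, Category.assoc, hg', morphismRestrict_ι,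
      reassoc_of% htop, sq.w, morphismRestrict_ι_assoc]
  have left : IsPullback top (p₂ ∣_ N) (f ∣_ O) g' := by
    refine IsPullback.of_right ?_ comm right
    rw [htop, hg']
    exact big
  haveI : Etale g' := by
    refine MorphismProperty.of_postcomp (W := @Etale) (W' := @Etale) g' O.ι inferInstance ?_
    rw [hg']
    infer_instance
  haveI : Surjective g' := by
    refine ⟨fun y => ?_⟩
    have hy : y.1 ∈ g '' (N : Set T) := by rw [hNO]; exact y.2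
    obtain ⟨t, ht, hty⟩ := hy
    refine ⟨⟨t, ht⟩, ?_⟩
    apply Subtype.ext
    change (g' ≫ O.ι) ⟨t, ht⟩ = _
    rw [hg']
    exact hty
  exact MorphismProperty.of_isPullback_of_descendsAlong (P := @UniversallyClosed)
    (Q := @Surjective ⊓ @Flat ⊓ @LocallyOfFinitePresentation) left.flip
    ⟨⟨inferInstance, inferInstance⟩, inferInstance⟩ h

end Groth.Agent.Helper15.Wt
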