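import Groth.Agent.Lib.Helper15.WtPi3

/-!
# Étale neighbourhoods over which finitely many fibre points become geometrically unique
-/

set_option autoImplicit false
universe u
open CategoryTheory CategoryTheory.Limits AlgebraicGeometry

namespace Groth.Agent.Helper15.WtPi

open Groth.Agent.Helper15.Wt

variable {U V : Scheme.{u}}

/-- There is at most one geometric point through `p` over any geometric point of the base. -/
def GeomUnique (π : U ⟶ V) (p : U) : Prop :=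
  ∀ (Ω : Type u) [Field Ω] [IsAlgClosed Ω] (ub ub' : Spec (CommRingCat.of Ω) ⟶ U),
    ub ≫ π = ub' ≫ π → ub (pt Ω) = p → ub' (pt Ω) = p → ub = ub'

/-- Finitely many points carry finitely many lifts of a geometric point. -/
theorem finite_lifts_finset (π : U ⟶ V) [LocallyQuasiFinite π] {Ω : Type u} [Field Ω]
    [IsAlgClosed Ω] (vb : Spec (CommRingCat.of Ω) ⟶ V) (F : Finset U) :
    Finite {ub : Lifts π vb // ub.1 (pt Ω) ∈ F} := by
  classical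
  haveI : ∀ x : {x : U // x ∈ F},
      Finite {ub : Spec (CommRingCat.of Ω) ⟶ U // ub ≫ π = vb ∧ ub (pt Ω) = x.1} := by
    intro x
    by_cases hx : π x.1 = vb (pt Ω)
    · apply Nat.finite_of_card_ne_zero
      rw [card_lifts_over π vb x.1 hx]
      letI := (π.residueFieldMap x.1).hom.toAlgebra
      haveI : Module.Finite (V.residueField (π x.1)) (U.residueField x.1) :=
        finite_residueFieldMap π x.1
      exact NeZero.ne _
    · haveI : IsEmpty {ub : Spec (CommRingCat.of Ω) ⟶ U // ub ≫ π = vb ∧ ub (pt Ω) = x.1} := by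
        constructor
        rintro ⟨ub, h1, h2⟩
        apply hx
        rw [← h2, ← h1]
        rfl
      infer_instance
  let f : {ub : Lifts π vb // ub.1 (pt Ω) ∈ F} →
      Σ x : {x : U // x ∈ F},
        {ub : Spec (CommRingCat.of Ω) ⟶ U // ub ≫ π = vb ∧ ub (pt Ω) = x.1} :=
    fun ub => ⟨⟨ub.1.1 (pt Ω), ub.2⟩, ⟨ub.1.1, ub.1.2, rfl⟩⟩
  apply Finite.of_injective f
  intro a b hab
  have := congrArg (fun s => s.2.1) hab
  exact Subtype.ext (Subtype.ext this)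

/-- Etale morphisms are locally quasi-finite. -/
theorem lqf_of_etale {X Y : Scheme.{u}} (f : X ⟶ Y) [Etale f] : LocallyQuasiFinite f := by
  rw [HasRingHomProperty.iff_appLE (P := @LocallyQuasiFinite)]
  intro U V e
  have h1 := HasRingHomProperty.appLE @FormallyUnramified f inferInstance U V e
  have h2 := HasRingHomProperty.appLE @LocallyOfFiniteType f inferInstance U V e
  algebraize [(f.appLE U V e).hom]
  change Algebra.QuasiFinite Γ(Y, U.1) Γ(X, V.1)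
  infer_instance

/-- The points over `t₁` and `F` are the image of the lifts through `F` of a geometric point. -/
theorem exists_surj_lifts {E T T₁ E₁ : Scheme.{u}} (φ : E ⟶ T) [LocallyQuasiFinite φ]
    (g : T₁ ⟶ T) [Etale g] (p₁ : E₁ ⟶ E) (p₂ : E₁ ⟶ T₁) (sq : IsPullback p₁ p₂ φ g)
    (F : Finset E) (t₁ : T₁) {Ω : Type u} [Field Ω] [IsAlgClosed Ω]
    (tb₀ : Spec (CommRingCat.of Ω) ⟶ T) (h : g t₁ = tb₀ (pt Ω)) :
    ∃ f : {ub₀ : Lifts φ tb₀ // ub₀.1 (pt Ω) ∈ F} → {p : E₁ // p₂ p = t₁ ∧ p₁ p ∈ F},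
      Function.Surjective f := by
  haveI := lqf_of_etale g
  haveI : LocallyQuasiFinite p₂ :=
    MorphismProperty.of_isPullback (P := @LocallyQuasiFinite) sq inferInstance
  obtain ⟨tb₁, htb₁⟩ := exists_lift_through g tb₀ t₁ h
  have hcomm : ∀ ub₀ : Lifts φ tb₀, ub₀.1 ≫ φ = tb₁.1 ≫ g := fun ub₀ => ub₀.2.trans tb₁.2.symm
  refine ⟨fun ub₀ => ⟨(sq.lift ub₀.1.1 tb₁.1 (hcomm ub₀.1)) (pt Ω), ?_, ?_⟩, ?_⟩
  · rw [← Scheme.Hom.comp_apply, sq.lift_snd]; exact htb₁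
  · rw [← Scheme.Hom.comp_apply, sq.lift_fst]; exact ub₀.2
  · rintro ⟨p, hp1, hp2⟩
    obtain ⟨ũ, hũ⟩ := exists_lift_through p₂ tb₁.1 p (by rw [hp1, htb₁])
    have h1 : (ũ.1 ≫ p₁) ≫ φ = tb₀ := by
      rw [Category.assoc, sq.w, ← Category.assoc, ũ.2, tb₁.2]
    refine ⟨⟨⟨ũ.1 ≫ p₁, h1⟩, ?_⟩, ?_⟩
    · change (ũ.1 ≫ p₁) (pt Ω) ∈ F
      rw [Scheme.Hom.comp_apply, hũ]; exact hp2
    · apply Subtype.ext
      change (sq.lift (ũ.1 ≫ p₁) tb₁.1 _) (pt Ω) = p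
      have : sq.lift (ũ.1 ≫ p₁) tb₁.1 (hcomm ⟨ũ.1 ≫ p₁, h1⟩) = ũ.1 := by
        apply sq.hom_ext
        · rw [sq.lift_fst]
        · rw [sq.lift_snd, ũ.2]
      rw [this, hũ]

/-- **Stage 1.** After a suitable étale base change around `t`, all points over the new base
point and over a given finite set of points become geometrically unique. -/
theorem exists_etale_geomUnique {E T : Scheme.{u}} (φ : E ⟶ T) [LocallyQuasiFinite φ] (t : T)
    (F : Finset E) :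
    ∃ (T₁ : Scheme.{u}) (g : T₁ ⟶ T) (t₁ : T₁) (E₁ : Scheme.{u}) (p₁ : E₁ ⟶ E) (p₂ : E₁ ⟶ T₁),
      Etale g ∧ g t₁ = t ∧ IsPullback p₁ p₂ φ g ∧
      ∀ p : E₁, p₂ p = t₁ → p₁ p ∈ F → GeomUnique p₂ p := by
  classical
  obtain ⟨Ω₀, _, _, tb₀, htb₀⟩ := exists_geomPt t
  haveI hfinD := finite_lifts_finset φ tb₀ F
  let S : Set ℕ := {n | ∃ (T₁ : Scheme.{u}) (g : T₁ ⟶ T) (t₁ : T₁) (E₁ : Scheme.{u})
    (p₁ : E₁ ⟶ E) (p₂ : E₁ ⟶ T₁), Etale g ∧ g t₁ = t ∧ IsPullback p₁ p₂ φ g ∧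
      n = Nat.card {p : E₁ // p₂ p = t₁ ∧ p₁ p ∈ F}}
  have hS_ne : S.Nonempty :=
    ⟨_, T, 𝟙 T, t, E, 𝟙 E, φ, inferInstance, rfl, IsPullback.id_horiz φ, rfl⟩
  have hS_bdd : BddAbove S := by
    refine ⟨Nat.card {ub₀ : Lifts φ tb₀ // ub₀.1 (pt Ω₀) ∈ F}, ?_⟩
    rintro n ⟨T₁, g, t₁, E₁, p₁, p₂, hg, hgt, sq, rfl⟩
    haveI := hg
    obtain ⟨f, hf⟩ := exists_surj_lifts φ g p₁ p₂ sq F t₁ tb₀ (by rw [hgt, htb₀])
    exact Nat.card_le_card_of_surjective f hf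
  obtain ⟨T₁, g, t₁, E₁, p₁, p₂, hg, hgt, sq, hn⟩ := Nat.sSup_mem hS_ne hS_bdd
  haveI := hg
  refine ⟨T₁, g, t₁, E₁, p₁, p₂, hg, hgt, sq, ?_⟩
  intro p hp1 hp2 Ω _ _ ub ub' hπ hub hub'
  by_contra hne
  haveI : LocallyQuasiFinite p₂ :=
    MorphismProperty.of_isPullback (P := @LocallyQuasiFinite) sq inferInstance
  obtain ⟨T₂, g₂, hg₂, tb₂, h1, h2, hab⟩ :=
    exists_etale_separating p₂ ub ub' hπ (hub'.trans hub.symm) hne
  haveI := hg₂
  have hg₂t : g₂ (tb₂ (pt Ω)) = t₁ := by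
    change (tb₂ ≫ g₂) (pt Ω) = t₁
    rw [← h1, Scheme.Hom.comp_apply, hub, hp1]
  have sq₂ := IsPullback.of_hasPullback p₂ g₂
  have sq₂' := sq₂.paste_horiz sq
  have hmem : Nat.card {q : ↑(pullback p₂ g₂) // pullback.snd p₂ g₂ q = tb₂ (pt Ω) ∧
      (pullback.fst p₂ g₂ ≫ p₁) q ∈ F} ∈ S :=
    ⟨T₂, g₂ ≫ g, tb₂ (pt Ω), pullback p₂ g₂, pullback.fst p₂ g₂ ≫ p₁, pullback.snd p₂ g₂,
      inferInstance, by rw [Scheme.Hom.comp_apply, hg₂t, hgt], sq₂', rfl⟩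
  have hle := le_csSup hS_bdd hmem
  rw [hn] at hle
  haveI : Finite {q : ↑(pullback p₂ g₂) // pullback.snd p₂ g₂ q = tb₂ (pt Ω) ∧
      (pullback.fst p₂ g₂ ≫ p₁) q ∈ F} := by
    obtain ⟨f, hf⟩ := exists_surj_lifts φ (g₂ ≫ g) (pullback.fst p₂ g₂ ≫ p₁)
      (pullback.snd p₂ g₂) sq₂' F (tb₂ (pt Ω)) tb₀
      (by rw [Scheme.Hom.comp_apply, hg₂t, hgt, htb₀])
    exact Finite.of_surjective f hf
  let Φ : {q : ↑(pullback p₂ g₂) // pullback.snd p₂ g₂ q = tb₂ (pt Ω) ∧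
      (pullback.fst p₂ g₂ ≫ p₁) q ∈ F} → {p : E₁ // p₂ p = t₁ ∧ p₁ p ∈ F} :=
    fun q => ⟨pullback.fst p₂ g₂ q.1, by
      rw [← Scheme.Hom.comp_apply, pullback.condition, Scheme.Hom.comp_apply, q.2.1, hg₂t],
      q.2.2⟩
  have hΦs : Function.Surjective Φ := by
    rintro ⟨p', hp'1, hp'2⟩
    obtain ⟨q, hq1, hq2⟩ := Scheme.exists_preimage_of_isPullback sq₂ p' (tb₂ (pt Ω))
      (by rw [hp'1, hg₂t])
    refine ⟨⟨q, hq2, ?_⟩, Subtype.ext hq1⟩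
    change p₁ (pullback.fst p₂ g₂ q) ∈ F
    rw [hq1]; exact hp'2
  have hΦb := hΦs.bijective_of_nat_card_le hle
  have ha1 : pullback.fst p₂ g₂ ((pullback.lift ub tb₂ h1) (pt Ω)) = p := by
    rw [← Scheme.Hom.comp_apply, pullback.lift_fst, hub]
  have hb1 : pullback.fst p₂ g₂ ((pullback.lift ub' tb₂ h2) (pt Ω)) = p := by
    rw [← Scheme.Hom.comp_apply, pullback.lift_fst, hub']
  have ha2 : pullback.snd p₂ g₂ ((pullback.lift ub tb₂ h1) (pt Ω)) = tb₂ (pt Ω) := by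
    rw [← Scheme.Hom.comp_apply, pullback.lift_snd]
  have hb2 : pullback.snd p₂ g₂ ((pullback.lift ub' tb₂ h2) (pt Ω)) = tb₂ (pt Ω) := by
    rw [← Scheme.Hom.comp_apply, pullback.lift_snd]
  have := @hΦb.1 ⟨(pullback.lift ub tb₂ h1) (pt Ω), ha2, by
      change p₁ (pullback.fst p₂ g₂ _) ∈ F; rw [ha1]; exact hp2⟩
    ⟨(pullback.lift ub' tb₂ h2) (pt Ω), hb2, by
      change p₁ (pullback.fst p₂ g₂ _) ∈ F; rw [hb1]; exact hp2⟩
    (Subtype.ext (ha1.trans hb1.symm))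
  exact hab (congrArg Subtype.val this)

end Groth.Agent.Helper15.WtPi
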