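import Groth.Agent.Lib.Helper15.Wt7
import Groth.Agent.Lib.Helper15.WtPi4

/-!
# The étale splitting into geometrically unique pieces
-/

set_option autoImplicit false
universe u
open CategoryTheory CategoryTheory.Limits AlgebraicGeometry

namespace Groth.Agent.Helper15.WtPi

open Groth.Agent.Helper15.Wt Groth.Agent.Helper15.QfMulti

theorem exists_split_pi {E T : Scheme.{u}} (φ : E ⟶ T) [IsSeparated φ] [LocallyOfFiniteType φ]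
    [LocallyQuasiFinite φ] (t : T) (F : Finset E) :
    ∃ (T₁ : Scheme.{u}) (g : T₁ ⟶ T) (t₁ : T₁), Etale g ∧ g t₁ = t ∧
      ∃ (E₁ : Scheme.{u}) (p₁ : E₁ ⟶ E) (p₂ : E₁ ⟶ T₁), IsPullback p₁ p₂ φ g ∧
      ∃ (G : Finset E₁) (Vs : E₁ → E₁.Opens), (∀ p, p ∈ G ↔ p₂ p = t₁ ∧ p₁ p ∈ F) ∧
        (∀ p ∈ G, IsClosed (Vs p : Set E₁) ∧ IsFinite ((Vs p).ι ≫ p₂) ∧
          (∀ q : E₁, p₂ q = t₁ → (q ∈ Vs p ↔ q = p)) ∧ GeomUnique p₂ p) ∧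
        (∀ p ∈ G, ∀ p' ∈ G, p ≠ p' → Disjoint (Vs p) (Vs p')) := by
  classical
  obtain ⟨T₁, g₁, t₁, E₁, p₁, p₂, hg₁, hgt₁, sq₁, hGU⟩ := exists_etale_geomUnique φ t F
  haveI := hg₁
  haveI : IsSeparated p₂ := MorphismProperty.of_isPullback (P := @IsSeparated) sq₁ inferInstance
  haveI : LocallyOfFiniteType p₂ :=
    MorphismProperty.of_isPullback (P := @LocallyOfFiniteType) sq₁ inferInstance
  haveI : LocallyQuasiFinite p₂ :=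
    MorphismProperty.of_isPullback (P := @LocallyQuasiFinite) sq₁ inferInstance
  -- finiteness of the set of points
  obtain ⟨Ω₀, _, _, tb₀, htb₀⟩ := exists_geomPt t
  haveI := finite_lifts_finset φ tb₀ F
  have hfinG : {p : E₁ | p₂ p = t₁ ∧ p₁ p ∈ F}.Finite := by
    obtain ⟨f, hf⟩ := exists_surj_lifts φ g₁ p₁ p₂ sq₁ F t₁ tb₀ (by rw [hgt₁, htb₀])
    haveI : Finite {p : E₁ // p₂ p = t₁ ∧ p₁ p ∈ F} := Finite.of_surjective f hf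
    exact Set.finite_coe_iff.1 (inferInstanceAs (Finite {p : E₁ // p₂ p = t₁ ∧ p₁ p ∈ F}))
  let G₁ : Finset E₁ := hfinG.toFinset
  have hG₁ : ∀ p, p ∈ G₁ ↔ p₂ p = t₁ ∧ p₁ p ∈ F := fun p => hfinG.mem_toFinset
  obtain ⟨T₂, g₂, t₂, hg₂, hgt₂, hfib₂, E₂, r₁, r₂, sq₂, Vs₂, hVs₂, hdisj₂⟩ :=
    exists_split_family p₂ t₁ G₁ (fun p hp => ((hG₁ p).1 hp).1)
  haveI := hg₂
  have hr : ∀ q : E₂, r₂ q = t₂ → p₂ (r₁ q) = t₁ := by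
    intro q hq
    rw [← Scheme.Hom.comp_apply, sq₂.w, Scheme.Hom.comp_apply, hq, hgt₂]
  have hinj : ∀ q q' : E₂, r₂ q = t₂ → r₂ q' = t₂ → r₁ q = r₁ q' → q = q' :=
    fun q q' h h' e => hfib₂ p₂ r₁ r₂ sq₂ q q' h h' e
  have hfinG₂ : {q : E₂ | r₂ q = t₂ ∧ r₁ q ∈ G₁}.Finite := by
    refine Set.Finite.of_finite_image (f := r₁) ?_ ?_
    · refine G₁.finite_toSet.subset ?_
      rintro _ ⟨q, hq, rfl⟩
      exact hq.2
    · intro q hq q' hq' e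
      exact hinj q q' hq.1 hq'.1 e
  let G₂ : Finset E₂ := hfinG₂.toFinset
  have hG₂ : ∀ q, q ∈ G₂ ↔ r₂ q = t₂ ∧ r₁ q ∈ G₁ := fun q => hfinG₂.mem_toFinset
  refine ⟨T₂, g₂ ≫ g₁, t₂, inferInstance, by rw [Scheme.Hom.comp_apply, hgt₂, hgt₁], E₂,
    r₁ ≫ p₁, r₂, sq₂.paste_horiz sq₁, G₂, fun q => Vs₂ (r₁ q), ?_, ?_, ?_⟩
  · intro q
    rw [hG₂, hG₁]
    constructor
    · rintro ⟨h1, -, h3⟩
      exact ⟨h1, h3⟩
    · rintro ⟨h1, h3⟩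
      exact ⟨h1, hr q h1, h3⟩
  · intro q hq
    obtain ⟨hq1, hq2⟩ := (hG₂ q).1 hq
    obtain ⟨hc, hf, hfib⟩ := hVs₂ (r₁ q) hq2
    refine ⟨hc, hf, ?_, ?_⟩
    · intro q' hq'
      rw [hfib q' hq']
      exact ⟨fun e => hinj q' q hq' hq1 e, fun e => by rw [e]⟩
    · intro Ω _ _ ub ub' hπ hub hub'
      have h1 : (ub ≫ r₁) ≫ p₂ = (ub' ≫ r₁) ≫ p₂ := by
        rw [Category.assoc, Category.assoc, sq₂.w, ← Category.assoc, ← Category.assoc, hπ]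
      have h2 := hGU (r₁ q) ((hG₁ _).1 hq2).1 ((hG₁ _).1 hq2).2 Ω (ub ≫ r₁) (ub' ≫ r₁) h1
        (by rw [Scheme.Hom.comp_apply, hub]) (by rw [Scheme.Hom.comp_apply, hub'])
      exact sq₂.hom_ext h2 hπ
  · intro q hq q' hq' hne
    obtain ⟨hq1, hq2⟩ := (hG₂ q).1 hq
    obtain ⟨hq'1, hq'2⟩ := (hG₂ q').1 hq'
    exact hdisj₂ _ hq2 _ hq'2 (fun e => hne (hinj q q' hq1 hq'1 e))

end Groth.Agent.Helper15.WtPi
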