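import Groth.Agent.Lib.Helper15.NGeom1
import Groth.Agent.Lib.Helper15.WtPi5
import Groth.Agent.Lib.Helper15.Wt11
import Groth.Agent.Lib.Helper15.Wt6

/-!
# Lower semicontinuity of the geometric number of points: the étale-local core
-/

set_option autoImplicit false
universe u
open CategoryTheory CategoryTheory.Limits AlgebraicGeometry

namespace Groth.Agent.Helper15.NGeom

open Groth.Agent.Helper15.Wt Groth.Agent.Helper15.WtPi Groth.Agent.Helper15.QfMulti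

/-- A finite union of open subschemes finite over the base is finite over the base. -/
theorem isFinite_finset_sup {Z B : Scheme.{u}} (q : Z ⟶ B) [IsSeparated q] [LocallyOfFiniteType q]
    [LocallyQuasiFinite q] {ι : Type*} (J : Finset ι) (A : ι → Z.Opens)
    (h : ∀ i ∈ J, IsFinite ((A i).ι ≫ q)) : IsFinite ((J.sup A).ι ≫ q) := by
  classical
  induction J using Finset.induction_on with
  | empty =>
    rw [Finset.sup_empty]
    haveI : IsEmpty ((⊥ : Z.Opens) : Scheme.{u}) := by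
      change IsEmpty ((⊥ : Z.Opens) : Set Z)
      simp
    infer_instance
  | insert i J' hi IH =>
    rw [Finset.sup_insert]
    haveI := h i (Finset.mem_insert_self _ _)
    haveI := IH (fun j hj => h j (Finset.mem_insert_of_mem hj))
    exact isFinite_sup q _ _


variable {X Y : Scheme.{u}}

/-- The étale-local core: after an étale base change the fibre over `y₀` splits into pieces each
surjecting onto a neighbourhood. -/
theorem exists_good_split (f : X ⟶ Y) [IsSeparated f] [LocallyOfFiniteType f]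
    [LocallyQuasiFinite f] [QuasiCompact f] (y₀ : Y)
    (H : ∀ (T E : Scheme.{u}) (g : T ⟶ Y) (p₁ : E ⟶ X) (p₂ : E ⟶ T), Etale g →
      IsPullback p₁ p₂ f g → ∀ p : E, g (p₂ p) = y₀ → ∀ U : E.Opens, p ∈ U →
        p₂ '' (U : Set E) ∈ nhds (p₂ p)) :
    ∃ (T₁ : Scheme.{u}) (g : T₁ ⟶ Y) (t₁ : T₁) (E₁ : Scheme.{u}) (p₁ : E₁ ⟶ X) (p₂ : E₁ ⟶ T₁)
      (B : E₁.Opens) (N : T₁.Opens),
      Etale g ∧ g t₁ = y₀ ∧ IsPullback p₁ p₂ f g ∧ t₁ ∈ N ∧ IsFinite (B.ι ≫ p₂) ∧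
      (∀ t ∈ N, MoreMor.nGeomConnComp f y₀ ≤ MoreMor.nGeomConnComp f (g t)) ∧
      (∀ t ∈ N, MoreMor.nGeomConnComp f (g t) = MoreMor.nGeomConnComp f y₀ →
        ∀ q : E₁, p₂ q = t → q ∈ B) := by
  classical
  let F : Finset X := (f.finite_preimage_singleton y₀).toFinset
  have hF : ∀ x, x ∈ F ↔ f x = y₀ := fun x => by
    simp only [F, Set.Finite.mem_toFinset]; rfl
  obtain ⟨T₁, g, t₁, hg, hgt, E₁, p₁, p₂, sq, G, Vs, hG, hVs, hdisj⟩ := exists_split_pi f y₀ F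
  haveI := hg
  haveI : IsSeparated p₂ := MorphismProperty.of_isPullback (P := @IsSeparated) sq inferInstance
  haveI : LocallyOfFiniteType p₂ :=
    MorphismProperty.of_isPullback (P := @LocallyOfFiniteType) sq inferInstance
  haveI : LocallyQuasiFinite p₂ :=
    MorphismProperty.of_isPullback (P := @LocallyQuasiFinite) sq inferInstance
  haveI : QuasiCompact p₂ :=
    MorphismProperty.of_isPullback (P := @QuasiCompact) sq inferInstance
  have hG' : ∀ p, p ∈ G ↔ p₂ p = t₁ := by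
    intro p
    rw [hG]
    refine ⟨fun h => h.1, fun h => ⟨h, ?_⟩⟩
    rw [hF, ← Scheme.Hom.comp_apply, sq.w, Scheme.Hom.comp_apply, h, hgt]
  have hmem : ∀ p ∈ G, p ∈ Vs p := fun p hp =>
    ((hVs p hp).2.2.1 p ((hG' p).1 hp)).2 rfl
  -- the neighbourhood
  obtain ⟨N, ht₁N, hN⟩ := exists_nbhd_finset t₁ G
    (fun p N => (N : Set T₁) ⊆ p₂ '' (Vs p : Set E₁))
    (fun p N N' hNN' hQ => (show (N' : Set T₁) ⊆ N from hNN').trans hQ)
    (fun p hp => by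
      have h1 := H T₁ E₁ g p₁ p₂ hg sq p (by rw [(hG' p).1 hp, hgt]) (Vs p) (hmem p hp)
      rw [(hG' p).1 hp] at h1
      obtain ⟨N₀, hN₀sub, hN₀open, hN₀mem⟩ := mem_nhds_iff.1 h1
      exact ⟨⟨N₀, hN₀open⟩, hN₀mem, hN₀sub⟩)
  have hBfin : IsFinite ((G.sup Vs).ι ≫ p₂) :=
    isFinite_finset_sup p₂ G Vs (fun p hp => (hVs p hp).2.1)
  -- the count at `t₁`
  have hcount : MoreMor.nGeomConnComp f y₀ = (G.card : ℕ∞) := by
    obtain ⟨Ω, _, _, tb, htb⟩ := exists_geomPt t₁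
    have e1 : y₀ = (tb ≫ g) (pt Ω) := by rw [Scheme.Hom.comp_apply, htb, hgt]
    rw [e1, nGeomConnComp_eq_card_lifts f (tb ≫ g),
      ← Nat.card_congr (liftsEquivOfIsPullback sq tb)]
    congr 1
    have hpt : ∀ ub : Lifts p₂ tb, ub.1 (pt Ω) ∈ G := fun ub => by
      rw [hG', ← Scheme.Hom.comp_apply, ub.2, htb]
    rw [← Nat.card_eq_finsetCard G]
    refine Nat.card_congr (Equiv.ofBijective (fun ub => ⟨ub.1 (pt Ω), hpt ub⟩) ⟨?_, ?_⟩)
    · intro a b hab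
      have hab' : a.1 (pt Ω) = b.1 (pt Ω) := congrArg Subtype.val hab
      exact Subtype.ext ((hVs _ (hpt a)).2.2.2 Ω a.1 b.1 (a.2.trans b.2.symm) rfl hab'.symm)
    · rintro ⟨p, hp⟩
      obtain ⟨ub, hub⟩ := exists_lift_through p₂ tb p (by rw [(hG' p).1 hp, htb])
      exact ⟨ub, Subtype.ext hub⟩
  -- the injection at nearby points
  have key : ∀ t ∈ N, ∀ (Ω : Type u) [Field Ω] [IsAlgClosed Ω]
      (tb : Spec (CommRingCat.of Ω) ⟶ T₁), tb (pt Ω) = t →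
      ∃ ψ : {p : E₁ // p ∈ G} → Lifts p₂ tb, Function.Injective ψ ∧
        ∀ p, (ψ p).1 (pt Ω) ∈ Vs p.1 := by
    intro t ht Ω _ _ tb htb
    have h1 : ∀ p : {p : E₁ // p ∈ G}, ∃ ub : Lifts p₂ tb, ub.1 (pt Ω) ∈ Vs p.1 := by
      rintro ⟨p, hp⟩
      obtain ⟨q, hq, hqt⟩ := hN p hp ht
      obtain ⟨ub, hub⟩ := exists_lift_through p₂ tb q (by rw [hqt, htb])
      exact ⟨ub, by rw [hub]; exact hq⟩
    choose ψ hψ using h1
    refine ⟨ψ, ?_, hψ⟩
    intro p p' hpp'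
    by_contra hne
    have hne' : p.1 ≠ p'.1 := fun h => hne (Subtype.ext h)
    have hd := hdisj p.1 p.2 p'.1 p'.2 hne'
    have h2 : (ψ p).1 (pt Ω) ∈ Vs p.1 ⊓ Vs p'.1 := ⟨hψ p, by rw [hpp']; exact hψ p'⟩
    rw [hd.eq_bot] at h2
    exact h2
  have hcard : ∀ t ∈ N, ∀ (Ω : Type u) [Field Ω] [IsAlgClosed Ω]
      (tb : Spec (CommRingCat.of Ω) ⟶ T₁), tb (pt Ω) = t →
      MoreMor.nGeomConnComp f (g t) = (Nat.card (Lifts p₂ tb) : ℕ∞) := by
    intro t ht Ω _ _ tb htb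
    have e1 : g t = (tb ≫ g) (pt Ω) := by rw [Scheme.Hom.comp_apply, htb]
    rw [e1, nGeomConnComp_eq_card_lifts f (tb ≫ g),
      ← Nat.card_congr (liftsEquivOfIsPullback sq tb)]
  refine ⟨T₁, g, t₁, E₁, p₁, p₂, G.sup Vs, N, hg, hgt, sq, ht₁N, hBfin, ?_, ?_⟩
  · intro t ht
    obtain ⟨Ω, _, _, tb, htb⟩ := exists_geomPt t
    obtain ⟨ψ, hψinj, -⟩ := key t ht Ω tb htb
    haveI : Finite (Lifts p₂ tb) := finite_lifts p₂ tb (p₂.finite_preimage_singleton _)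
    rw [hcount, hcard t ht Ω tb htb, Nat.cast_le, ← Nat.card_eq_finsetCard G]
    exact Nat.card_le_card_of_injective ψ hψinj
  · intro t ht heq q hq
    obtain ⟨Ω, _, _, tb, htb⟩ := exists_geomPt t
    obtain ⟨ψ, hψinj, hψmem⟩ := key t ht Ω tb htb
    haveI : Finite (Lifts p₂ tb) := finite_lifts p₂ tb (p₂.finite_preimage_singleton _)
    rw [hcount, hcard t ht Ω tb htb, Nat.cast_inj, ← Nat.card_eq_finsetCard G] at heq
    have hbij : Function.Bijective ψ := hψinj.bijective_of_nat_card_le heq.le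
    obtain ⟨ub, hub⟩ := exists_lift_through p₂ tb q (by rw [hq, htb])
    obtain ⟨p, rfl⟩ := hbij.2 ub
    rw [← hub]
    exact (Finset.le_sup (f := Vs) p.2) (hψmem p)


/-- Lower semicontinuity at a point and properness near a point of local constancy. -/
theorem lsc_and_proper (f : X ⟶ Y) [IsSeparated f] [LocallyOfFiniteType f]
    [LocallyQuasiFinite f] [QuasiCompact f] (y₀ : Y)
    (H : ∀ (T E : Scheme.{u}) (g : T ⟶ Y) (p₁ : E ⟶ X) (p₂ : E ⟶ T), Etale g →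
      IsPullback p₁ p₂ f g → ∀ p : E, g (p₂ p) = y₀ → ∀ U : E.Opens, p ∈ U →
        p₂ '' (U : Set E) ∈ nhds (p₂ p)) :
    (∃ O : Y.Opens, y₀ ∈ O ∧
      ∀ z ∈ O, MoreMor.nGeomConnComp f y₀ ≤ MoreMor.nGeomConnComp f z) ∧
    ((∃ V ∈ nhds y₀, ∀ z ∈ V, MoreMor.nGeomConnComp f z = MoreMor.nGeomConnComp f y₀) →
      ∃ U : Y.Opens, y₀ ∈ U ∧ IsProper (f ∣_ U)) := by
  obtain ⟨T₁, g, t₁, E₁, p₁, p₂, B, N, hg, hgt, sq, ht₁N, hBfin, hle, heq⟩ :=
    exists_good_split f y₀ H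
  haveI := hg
  haveI := hBfin
  constructor
  · refine ⟨⟨g '' (N : Set T₁), g.isOpenMap _ N.2⟩, ⟨t₁, ht₁N, hgt⟩, ?_⟩
    rintro _ ⟨t, ht, rfl⟩
    exact hle t ht
  · rintro ⟨V, hV, hVeq⟩
    obtain ⟨V₀, hV₀sub, hV₀open, hV₀mem⟩ := mem_nhds_iff.1 hV
    let V' : Y.Opens := ⟨V₀, hV₀open⟩
    let N' : T₁.Opens := N ⊓ g ⁻¹ᵁ V'
    have ht₁N' : t₁ ∈ N' := ⟨ht₁N, by change g t₁ ∈ V₀; rw [hgt]; exact hV₀mem⟩
    have hB : ∀ q : E₁, p₂ q ∈ N' → q ∈ B := by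
      intro q hq
      exact heq (p₂ q) hq.1 (hVeq _ (hV₀sub hq.2)) q rfl
    haveI hfin : IsFinite (p₂ ∣_ N') := isFinite_restrict_of_subset p₂ B N' hB
    let O : Y.Opens := ⟨g '' (N' : Set T₁), g.isOpenMap _ N'.2⟩
    have huc : UniversallyClosed (f ∣_ O) :=
      universallyClosed_restrict_of_etale f g p₁ p₂ sq N' O rfl inferInstance
    exact ⟨O, ⟨t₁, ht₁N', hgt⟩, { }⟩

end Groth.Agent.Helper15.NGeom
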