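import Groth.Agent.Lib.Helper15.UoLim5
import Groth.Agent.Lib.Helper15.NGeom2

/-!
# Splitting off the isolated points of a fibre: auxiliary lemmas
-/

set_option autoImplicit false
universe u
open CategoryTheory CategoryTheory.Limits AlgebraicGeometry

namespace Groth.Agent.Helper15.QfSplitA

open Groth.Agent.Helper15.Wt Groth.Agent.Helper15.UoLim

/-- A union of two opens on which a morphism is locally quasi-finite. -/
theorem lqf_sup {Z B : Scheme.{u}} (q : Z ⟶ B) [LocallyOfFiniteType q] (A₁ A₂ : Z.Opens)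
    [LocallyQuasiFinite (A₁.ι ≫ q)] [LocallyQuasiFinite (A₂.ι ≫ q)] :
    LocallyQuasiFinite ((A₁ ⊔ A₂).ι ≫ q) := by
  rw [← Scheme.Hom.quasiFiniteLocus_eq_top_iff]
  refine top_le_iff.mp fun z _ => ?_
  rw [Scheme.Hom.mem_quasiFiniteLocus, Scheme.Hom.quasiFiniteAt_comp_iff_of_isOpenImmersion]
  rcases z.2 with h | h
  · have := (A₁.ι ≫ q).quasiFiniteAt ⟨z.1, h⟩
    rw [Scheme.Hom.quasiFiniteAt_comp_iff_of_isOpenImmersion] at this
    exact this
  · have := (A₂.ι ≫ q).quasiFiniteAt ⟨z.1, h⟩
    rw [Scheme.Hom.quasiFiniteAt_comp_iff_of_isOpenImmersion] at this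
    exact this

/-- A union of two open subschemes finite over the base is finite over the base (for a separated
morphism locally of finite type). -/
theorem isFinite_sup' {Z B : Scheme.{u}} (q : Z ⟶ B) [IsSeparated q] [LocallyOfFiniteType q]
    (A₁ A₂ : Z.Opens) [IsFinite (A₁.ι ≫ q)] [IsFinite (A₂.ι ≫ q)] :
    IsFinite ((A₁ ⊔ A₂).ι ≫ q) := by
  let A := A₁ ⊔ A₂
  let c : (A₁ : Scheme.{u}) ⨿ (A₂ : Scheme.{u}) ⟶ A :=
    coprod.desc (Z.homOfLE le_sup_left) (Z.homOfLE le_sup_right)
  have hc : c ≫ (A.ι ≫ q) = coprod.desc (A₁.ι ≫ q) (A₂.ι ≫ q) := by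
    apply coprod.hom_ext
    · simp [c, A]
    · simp [c, A]
  haveI hfin : IsFinite (c ≫ (A.ι ≫ q)) := by rw [hc]; infer_instance
  haveI : Surjective c := ⟨fun a => by
    rcases a.2 with h | h
    · refine ⟨(coprod.inl : (A₁ : Scheme.{u}) ⟶ _) ⟨a.1, h⟩, ?_⟩
      rw [← Scheme.Hom.comp_apply, coprod.inl_desc]
      apply Subtype.ext
      simp
    · refine ⟨(coprod.inr : (A₂ : Scheme.{u}) ⟶ _) ⟨a.1, h⟩, ?_⟩
      rw [← Scheme.Hom.comp_apply, coprod.inr_desc]
      apply Subtype.ext
      simp⟩
  haveI : UniversallyClosed (A.ι ≫ q) := UniversallyClosed.of_comp_surjective c _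
  haveI : QuasiCompact (A.ι ≫ q) := ⟨fun U hU hU' => by
    have h1 : IsCompact ((c ≫ (A.ι ≫ q)) ⁻¹' U) :=
      (inferInstance : QuasiCompact (c ≫ (A.ι ≫ q))).isCompact_preimage U hU hU'
    have h2 : (A.ι ≫ q) ⁻¹' U = c '' ((c ≫ (A.ι ≫ q)) ⁻¹' U) := by
      ext a
      constructor
      · intro ha
        obtain ⟨b, rfl⟩ := (inferInstance : Surjective c).surj a
        exact ⟨b, by simpa using ha, rfl⟩
      · rintro ⟨b, hb, rfl⟩
        simpa using hb
    rw [h2]
    exact h1.image c.continuous⟩
  haveI : IsProper (A.ι ≫ q) := {}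
  haveI : LocallyQuasiFinite (A.ι ≫ q) := lqf_sup q A₁ A₂
  exact IsFinite.of_isProper_of_locallyQuasiFinite _

/-- A finite union of open subschemes finite over the base is finite over the base. -/
theorem isFinite_finset_sup' {Z B : Scheme.{u}} (q : Z ⟶ B) [IsSeparated q]
    [LocallyOfFiniteType q] {ι : Type*} (J : Finset ι) (A : ι → Z.Opens)
    (h : ∀ i ∈ J, IsFinite ((A i).ι ≫ q)) : IsFinite ((J.sup A).ι ≫ q) := by
  classical
  induction J using Finset.induction_on with
  | empty =>
    rw [Finset.sup_empty]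
    haveI : IsEmpty ((⊥ : Z.Opens) : Scheme.{u}) := by
      change IsEmpty ((⊥ : Z.Opens) : Set Z)
      simp
    infer_instance
  | insert i J' hi IH =>
    rw [Finset.sup_insert]
    haveI := h i (Finset.mem_insert_self _ _)
    haveI := IH (fun j hj => h j (Finset.mem_insert_of_mem hj))
    exact isFinite_sup' q _ _

/-- Two points of a fibre product with the same projections agree when the residue field extension
of the second factor is trivial. -/
theorem eq_of_fst_eq_of_snd_eq {X Y S : Scheme.{u}} (f : X ⟶ S) (g : Y ⟶ S)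
    (a b : ↑(pullback f g)) (h1 : pullback.fst f g a = pullback.fst f g b)
    (h2 : pullback.snd f g a = pullback.snd f g b)
    (hbij : Function.Bijective (g.residueFieldMap (pullback.snd f g b))) : a = b := by
  apply Scheme.Pullback.carrierEquiv.injective
  have e : Scheme.Pullback.Triplet.ofPoint a = Scheme.Pullback.Triplet.ofPoint b :=
    Scheme.Pullback.Triplet.ext h1 h2
  let T := Scheme.Pullback.Triplet.ofPoint b
  have hb : IsIso (g.residueFieldMap T.y) := by
    rw [ConcreteCategory.isIso_iff_bijective]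
    exact hbij
  have hb' : IsIso ((S.residueFieldCongr T.hy).inv ≫ g.residueFieldMap T.y) := inferInstance
  have hinl : IsIso T.tensorInl := by
    unfold Scheme.Pullback.Triplet.tensorInl
    exact pushout_inl_iso_of_right_iso _ _
  have hsub : Subsingleton (Spec T.tensor) := by
    have hinj : Function.Injective (Spec.map T.tensorInl) :=
      (ConcreteCategory.bijective_of_isIso (Spec.map T.tensorInl).base).1
    have : Subsingleton (Spec (X.residueField T.x)) :=
      inferInstanceAs (Subsingleton (PrimeSpectrum (X.residueField T.x)))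
    exact hinj.subsingleton
  rw [Scheme.Pullback.carrierEquiv_eq_iff]
  exact ⟨e, @Subsingleton.elim _ hsub _ _⟩

/-- A point of a fibre at which the morphism is quasi-finite is isolated in the fibre. -/
theorem isOpen_singleton_of_quasiFiniteAt {X Y : Scheme.{u}} (f : X ⟶ Y)
    [LocallyOfFiniteType f] {x : X} {y : Y} (hy : f x = y) (z : f.fiber y)
    (hz : f.fiberι y z = x) (hx : f.QuasiFiniteAt x) : IsOpen ({z} : Set (f.fiber y)) := by
  subst hy
  rw [Scheme.Hom.quasiFiniteAt_iff_isOpen_singleton_asFiber] at hx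
  have : z = f.asFiber x := by
    apply (f.fiberι (f x)).isEmbedding.injective
    rw [hz, Scheme.Hom.fiberι_asFiber]
  rw [this]
  exact hx

end Groth.Agent.Helper15.QfSplitA
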