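import Mathlib
import Groth.Agent.Lib.Helper15.GenFin2
import Groth.Agent.Lib.Helper15.QfSplitA

/-!
# Generic finiteness for quasi-compact separated schemes over an affine base
-/

set_option autoImplicit false
universe u
open CategoryTheory CategoryTheory.Limits AlgebraicGeometry

namespace Groth.Agent.Helper15.GenFin

open Groth.Agent.Helper15.MaxPts

/-- Two open pieces of `W` with the same range, mapping to the same subobject `T` of the base,
are simultaneously finite over `T`. -/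
theorem isFinite_of_range_eq {W V A₁ A₂ T : Scheme.{u}} (r : W ⟶ V) (i₁ : A₁ ⟶ W) (i₂ : A₂ ⟶ W)
    [IsOpenImmersion i₁] [IsOpenImmersion i₂] (hr : Set.range i₁ = Set.range i₂)
    (q₁ : A₁ ⟶ T) (q₂ : A₂ ⟶ T) (m : T ⟶ V) [Mono m] (h₁ : q₁ ≫ m = i₁ ≫ r)
    (h₂ : q₂ ≫ m = i₂ ≫ r) (h : IsFinite q₂) : IsFinite q₁ := by
  let e := IsOpenImmersion.isoOfRangeEq i₁ i₂ hr
  have he : e.hom ≫ i₂ = i₁ := IsOpenImmersion.isoOfRangeEq_hom_fac _ _ _
  have : e.hom ≫ q₂ = q₁ := by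
    rw [← cancel_mono m, Category.assoc, h₂, ← Category.assoc, he, h₁]
  rw [← this]
  infer_instance

theorem isFinite_restrict_of_le {X Y : Scheme.{u}} (f : X ⟶ Y) {V₁ V' : Y.Opens} (hle : V' ≤ V₁)
    (h : IsFinite (f ∣_ V₁)) : IsFinite (f ∣_ V') := by
  have h1 : IsFinite ((f ∣_ V₁) ∣_ (V₁.ι ⁻¹ᵁ V')) := inferInstance
  rw [MorphismProperty.arrow_mk_iso_iff @IsFinite (morphismRestrictRestrict f V₁ _)] at h1
  have e : V₁.ι ''ᵁ (V₁.ι ⁻¹ᵁ V') = V' := by
    rw [Scheme.Hom.image_preimage_eq_opensRange_inf, Scheme.Opens.opensRange_ι]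
    exact inf_eq_right.2 hle
  rwa [MorphismProperty.arrow_mk_iso_iff @IsFinite (morphismRestrictEq f e)] at h1

end Groth.Agent.Helper15.GenFin

namespace Groth.Agent.Helper15.GenFin

open Groth.Agent.Helper15.MaxPts Groth.Agent.Helper15.QfSplitA

/-- **Generic finiteness**, quasi-compact separated source and affine target. -/
theorem exists_opens_finite_of_compactSpace {W V : Scheme.{u}} (r : W ⟶ V) [CompactSpace W]
    [IsAffine V] [LocallyOfFiniteType r] [IsSeparated r] (v : V) (hv : v ∈ maxPts V)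
    (hfin : (r ⁻¹' {v}).Finite) : ∃ V' : V.Opens, v ∈ V' ∧ IsFinite (r ∣_ V') := by
  classical
  obtain ⟨s, hsfin, hs⟩ := (isCompact_iff_finite_and_eq_biUnion_affineOpens
    (U := (⊤ : W.Opens))).1 (by simpa using isCompact_univ)
  have key : ∀ i : W.affineOpens, ∃ V' : V.Opens, v ∈ V' ∧ IsFinite ((i.1.ι ≫ r) ∣_ V') := by
    intro i
    haveI : IsAffine (i.1 : Scheme.{u}) := i.2
    refine exists_opens_finite_of_isAffine (i.1.ι ≫ r) v hv ?_
    refine (hfin.preimage (Set.injOn_of_injective i.1.ι.injective)).subset ?_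
    intro x hx
    exact hx
  choose Vi hvi hfini using key
  let V' : V.Opens := ⟨⋂ i ∈ s, (Vi i : Set V), hsfin.isOpen_biInter (fun i _ => (Vi i).2)⟩
  have hvV' : v ∈ V' := Set.mem_iInter₂.2 (fun i _ => hvi i)
  have hle : ∀ i ∈ s, V' ≤ Vi i := fun i hi => Set.biInter_subset_of_mem hi
  refine ⟨V', hvV', ?_⟩
  set q := r ∣_ V' with hq
  let A : W.affineOpens → (r ⁻¹ᵁ V' : Scheme.{u}).Opens := fun i => (r ⁻¹ᵁ V').ι ⁻¹ᵁ i.1
  have hA : ∀ i ∈ hsfin.toFinset, IsFinite ((A i).ι ≫ q) := by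
    intro i hi
    have hi' : i ∈ s := hsfin.mem_toFinset.1 hi
    have hf : IsFinite ((i.1.ι ≫ r) ∣_ V') := isFinite_restrict_of_le _ (hle i hi') (hfini i)
    refine isFinite_of_range_eq r ((A i).ι ≫ (r ⁻¹ᵁ V').ι) (((i.1.ι ≫ r) ⁻¹ᵁ V').ι ≫ i.1.ι) ?_
      ((A i).ι ≫ q) ((i.1.ι ≫ r) ∣_ V') V'.ι ?_ ?_ hf
    · ext x
      constructor
      · rintro ⟨y, rfl⟩
        exact ⟨⟨⟨y.1.1, y.2⟩, y.1.2⟩, rfl⟩
      · rintro ⟨y, rfl⟩
        exact ⟨⟨⟨y.1.1, y.2⟩, y.1.2⟩, rfl⟩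
    · rw [Category.assoc, hq, morphismRestrict_ι, Category.assoc]
    · rw [morphismRestrict_ι, Category.assoc]
  have hsup := isFinite_finset_sup' q hsfin.toFinset A hA
  have htop : hsfin.toFinset.sup A = ⊤ := by
    rw [eq_top_iff]
    intro x _
    have hx : (x.1 : W) ∈ (⊤ : W.Opens) := trivial
    rw [hs] at hx
    simp only [TopologicalSpace.Opens.mem_iSup] at hx
    obtain ⟨i, hi, hxi⟩ := hx
    have : A i ≤ hsfin.toFinset.sup A := Finset.le_sup (hsfin.mem_toFinset.2 hi)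
    exact this hxi
  rw [htop] at hsup
  have : IsIso (⊤ : (r ⁻¹ᵁ V' : Scheme.{u}).Opens).ι :=
    (inferInstance : IsIso (Scheme.topIso _).hom)
  exact (MorphismProperty.cancel_left_of_respectsIso @IsFinite _ q).1 hsup

end Groth.Agent.Helper15.GenFin
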