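import Groth.Agent.Lib.Helper15.NormQf2

/-!
# Normalization and the quasi-finite locus, III: the global statement
-/

set_option autoImplicit false
universe u w
open CategoryTheory CategoryTheory.Limits AlgebraicGeometry MorphismProperty Opposite
open AlgSp

namespace Groth.Agent.Helper15.Norm

variable {S : Scheme.{u}}

/-- At a quasi-finite point of a separated quasi-compact morphism, there is an étale chart of the
normalization over which the map to the normalization is an isomorphism. -/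
theorem exists_iso_chart {X Y Y' : Sp S} (hX : IsAlgSpace X) (hY : IsAlgSpace Y)
    (hY' : IsAlgSpace Y') (f : X ⟶ Y) (ν : Y' ⟶ Y) (f' : X ⟶ Y') (hqc : IsQuasiCompactMor f)
    (hsep : IsSeparatedMor f) (hn : IsRelNormalization f ν f') (x : Points X)
    (hx : HasAtMor (fun U _ h u => ∃ W : U.Opens, u ∈ W ∧
      (@LocallyQuasiFinite ⊓ @LocallyOfFiniteType : MorphismProperty Scheme.{u}) (W.ι ≫ h)) f x) :
    ∃ (Vo : Over S) (b : (yon S).obj Vo ⟶ X) (d : (yon S).obj Vo ⟶ Y') (v : Vo.left),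
      RepWith @Etale b ∧ RepWith @Etale d ∧ Points.ofPt b v = x ∧ IsPullback b (𝟙 _) f' d ∧
      ∀ v' : Vo.left, HasAtMor (fun U _ h u => ∃ W : U.Opens, u ∈ W ∧
        (@LocallyQuasiFinite ⊓ @LocallyOfFiniteType : MorphismProperty Scheme.{u}) (W.ι ≫ h)) f
          (Points.ofPt b v') := by
  obtain ⟨T₁, Vo, a, ψ, b, v, comm, hae, hfin, hbv, hsplit⟩ := exists_etale_split hX hY f hsep x hx
  have hqs : IsQuasiSeparatedMor f := repWith_mono isClosedImmersion_le_quasiCompact hsep
  have hs := isSNorm_of_isRelNormalization' hY hY' hqc hqs hn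
  have hνrep : RepWith @IsIntegralHom ν :=
    repWith_of_affRep _ ((isIntegralMor_iff_affRep ν).1 hn.2.1)
  obtain ⟨M₁, cN, ν₁, sqN⟩ : ∃ (M₁ : Over S) (cN : (yon S).obj M₁ ⟶ Y') (ν₁ : M₁ ⟶ T₁),
      IsPullback cN ((yon S).map ν₁) ν a :=
    ⟨_, hνrep.rep.fst a, hνrep.rep.snd a, hνrep.rep.isPullback a⟩
  obtain ⟨P, prX, prU, sqG⟩ : ∃ (P : Sp S) (prX : P ⟶ X) (prU : P ⟶ (yon S).obj T₁),
      IsPullback prX prU f a := ⟨_, _, _, IsPullback.of_hasPullback f a⟩
  have hP : IsAlgSpace P := isAlgSpace_of_isPullback hY.diag hX (IsAlgSpace.yon_obj _) sqG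
  obtain ⟨f'₁, h2, h1⟩ : ∃ f'₁ : P ⟶ (yon S).obj M₁, f'₁ ≫ cN = prX ≫ f' ∧
      f'₁ ≫ (yon S).map ν₁ = prU :=
    ⟨sqN.lift (prX ≫ f') prU (by rw [Category.assoc, hn.1, sqG.w]), sqN.lift_fst _ _ _,
      sqN.lift_snd _ _ _⟩
  have hn₁ : IsRelNormalization prU ((yon S).map ν₁) f'₁ :=
    hs.isRelNormalization_baseChange hY (IsAlgSpace.yon_obj T₁)
      (locP_of_repWith etale_le_smooth a (repWith_mono etale_le_smooth hae)) sqG sqN h1 h2
  obtain ⟨hop, hcl⟩ := hsplit P prX prU sqG
  obtain ⟨jV, hjV1, hjV2⟩ : ∃ jV : (yon S).obj Vo ⟶ P, jV ≫ prX = b ∧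
      jV ≫ prU = (yon S).map ψ := ⟨_, sqG.lift_fst _ _ comm, sqG.lift_snd _ _ comm⟩
  have hjV : jV = sqG.lift b ((yon S).map ψ) comm := by
    apply sqG.hom_ext
    · rw [hjV1, sqG.lift_fst]
    · rw [hjV2, sqG.lift_snd]
  rw [← hjV] at hop hcl
  obtain ⟨ρ, hρo, hρ, sqL⟩ := exists_open_of_split hP prU ν₁ f'₁ hn₁ ψ hfin jV hjV2 hop hcl
  have sqR : IsPullback f'₁ prX cN f' := by
    refine IsPullback.of_right ?_ h2 sqN.flip
    rw [h1, hn.1]
    exact sqG.flip
  have big := (sqL.flip.paste_vert sqR).flip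
  rw [hjV1] at big
  have hcN : RepWith @Etale cN := (RepWith @Etale).of_isPullback sqN.flip hae
  have hprX : RepWith @Etale prX := (RepWith @Etale).of_isPullback sqG.flip hae
  have hb : RepWith @Etale b := by
    rw [← hjV1]
    exact (RepWith @Etale).comp_mem _ _ (repWith_mono isOpenImmersion_le_etale hop) hprX
  have hd : RepWith @Etale ((yon S).map ρ ≫ cN) := by
    refine (RepWith @Etale).comp_mem _ _ ((repWith_yon_map_iff _ ρ).2 ?_) hcN
    haveI := hρo
    exact (inferInstance : Etale ρ.left)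
  refine ⟨Vo, b, (yon S).map ρ ≫ cN, v, hb, hd, hbv, big, ?_⟩
  intro v'
  refine ⟨Vo, T₁, b, a, ψ, v', hb, hae, comm, rfl, ⊤, trivial, ?_⟩
  haveI := hfin
  constructor
  · exact (inferInstance : LocallyQuasiFinite ((⊤ : Vo.left.Opens).ι ≫ ψ.left))
  · exact (inferInstance : LocallyOfFiniteType ((⊤ : Vo.left.Opens).ι ≫ ψ.left))


/-- **Zariski's main theorem, the quasi-finite locus**: over an open subspace of the
normalization, the map to the normalization is an isomorphism, and the inverse image of that open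
subspace is the quasi-finite locus. -/
theorem exists_open_iso_over_quasiFiniteLocus {X Y Y' : Sp S} (hX : IsAlgSpace X)
    (hY : IsAlgSpace Y) (hY' : IsAlgSpace Y') (f : X ⟶ Y) (ν : Y' ⟶ Y) (f' : X ⟶ Y')
    (hqc : IsQuasiCompactMor f) (hsep : IsSeparatedMor f) (hn : IsRelNormalization f ν f') :
    ∃ (U' : Sp S) (j : U' ⟶ Y'), IsAlgSpace U' ∧ RepWith @IsOpenImmersion j ∧
      ∀ (P : Sp S) (fst : P ⟶ X) (snd : P ⟶ U'), IsPullback fst snd f' j →
        IsIso snd ∧ Set.range (Points.map fst) = {x | HasAtMor (fun U _ h u => ∃ W : U.Opens,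
          u ∈ W ∧ (@LocallyQuasiFinite ⊓ @LocallyOfFiniteType : MorphismProperty Scheme.{u})
            (W.ι ≫ h)) f x} := by
  set W : Set (Points X) := {x | HasAtMor (fun U _ h u => ∃ W : U.Opens,
    u ∈ W ∧ (@LocallyQuasiFinite ⊓ @LocallyOfFiniteType : MorphismProperty Scheme.{u})
      (W.ι ≫ h)) f x} with hWdef
  choose Vo b d v hb hd hbv sq hW using fun i : W =>
    exists_iso_chart hX hY hY' f ν f' hqc hsep hn i.1 i.2
  have hopen : IsOpen (⋃ i : W, Set.range (Points.ofPt (d i))) := by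
    refine isOpen_iUnion fun i => ?_
    obtain ⟨-, h2, -, -, h5⟩ := openSubspace_of_etale hY' (d i) (hd i)
    rw [← h5]
    exact isOpen_range_of_isOpenImmersion hY' _ h2
  obtain ⟨U', j, hU', hj, hrange⟩ := exists_open_subspace_of_isOpen hY' _ hopen
  haveI : Mono j := mono_of_repWith isOpenImmersion_le_mono j hj
  have hjinj : Function.Injective (Points.map j) :=
    (isEmbedding_points_of_immersion hY' j
      (repWith_mono isOpenImmersion_le_isImmersion hj)).1.injective
  have hfac : ∀ i : W, ∃ d' : (yon S).obj (Vo i) ⟶ U', d' ≫ j = d i := fun i =>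
    (factors_through_open_iff j hj (d i)).2 (by
      rintro _ ⟨p, rfl⟩
      obtain ⟨v', rfl⟩ := (Points.schemeEquiv (Vo i)).surjective p
      rw [hrange]
      refine Set.mem_iUnion.2 ⟨i, v', ?_⟩
      exact Points.ofPt_eq_map_ofScheme _ _)
  choose d' hd' using hfac
  have hd'et : ∀ i, RepWith @Etale (d' i) := fun i => by
    apply repWith_of_comp_mono _ j
    rw [hd' i]; exact hd i
  have hepi : JointlyEpi (fun i : W => (yon S).obj (Vo i)) d' := by
    refine jointlyEpi_of_repWith_etale _ _ hd'et (fun u => ?_)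
    have hu : Points.map j u ∈ ⋃ i : W, Set.range (Points.ofPt (d i)) := by
      rw [← hrange]; exact ⟨u, rfl⟩
    obtain ⟨i, v', hv'⟩ := Set.mem_iUnion.1 hu
    refine ⟨i, Points.ofScheme _ v', hjinj ?_⟩
    rw [← Points.map_comp, hd' i, ← Points.ofPt_eq_map_ofScheme, hv']
  refine ⟨U', j, hU', hj, fun P fst snd sqP => ⟨?_, ?_⟩⟩
  · have hw : ∀ i : W, b i ≫ f' = d' i ≫ j := fun i => by
      rw [hd' i, (sq i).w, Category.id_comp]
    refine isIso_of_jointlyEpi_base snd d' hepi (fun i => sqP.lift (b i) (d' i) (hw i))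
      (fun i => 𝟙 _) (fun i => ?_) (fun i => inferInstance)
    refine IsPullback.of_right ?_ (by rw [sqP.lift_snd, Category.id_comp]) sqP
    rw [sqP.lift_fst, hd' i]
    exact sq i
  · apply Set.Subset.antisymm
    · rintro _ ⟨p, rfl⟩
      have hu : Points.map j (Points.map snd p) ∈ ⋃ i : W, Set.range (Points.ofPt (d i)) := by
        rw [← hrange]; exact ⟨_, rfl⟩
      obtain ⟨i, v', hv'⟩ := Set.mem_iUnion.1 hu
      have h : Points.map f' (Points.map fst p) = Points.map (d i) (Points.ofScheme _ v') := by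
        rw [← Points.ofPt_eq_map_ofScheme, hv', ← Points.map_comp, ← Points.map_comp, sqP.w]
      obtain ⟨q, hq, -⟩ := exists_point_of_isPullback (sq i) _ _ h
      obtain ⟨v'', rfl⟩ := (Points.schemeEquiv (Vo i)).surjective q
      have := hW i v''
      rw [Points.ofPt_eq_map_ofScheme] at this
      change Points.map fst p ∈ W
      rw [← hq]
      exact this
    · intro x hx
      let i : W := ⟨x, hx⟩
      have h0 : Points.ofPt (d i) (v i) ∈ Set.range (Points.map j) := by
        rw [hrange]; exact Set.mem_iUnion.2 ⟨i, v i, rfl⟩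
      obtain ⟨u, hu⟩ := h0
      have h : Points.map f' x = Points.map j u := by
        have hx' : x = Points.ofPt (b i) (v i) := (hbv i).symm
        rw [hu, hx', Points.map_ofPt, (sq i).w, Category.id_comp]
      obtain ⟨p, hp, -⟩ := exists_point_of_isPullback sqP x u h
      exact ⟨p, hp⟩

end Groth.Agent.Helper15.Norm
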