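import Groth.Agent.Lib.Helper15.NormLoc3

/-!
# Local structure of the relative normalization, II
-/

set_option autoImplicit false
universe u
open CategoryTheory CategoryTheory.Limits AlgebraicGeometry MorphismProperty Opposite
open AlgSp

namespace Groth.Agent.Helper15.Norm

variable {S : Scheme.{u}}

/-- Local structure of the relative normalization over an affine étale chart of the base. -/
theorem exists_local_structure' {G H N : Sp S} (hH : IsAlgSpace H) (hN : IsAlgSpace N)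
    {g : G ⟶ H} (hqc : IsQuasiCompactMor g) (hqs : IsQuasiSeparatedMor g) {ν : N ⟶ H}
    {f' : G ⟶ N} (hn : IsRelNormalization g ν f') {T : Over S} (hT : IsAffine T.left)
    (c : (yon S).obj T ⟶ H) (hc : RepWith @Etale c) {G₁ N₁ : Sp S} (cG : G₁ ⟶ G)
    (g₁ : G₁ ⟶ (yon S).obj T) (sqG : IsPullback cG g₁ g c) (cN : N₁ ⟶ N)
    (ν₁ : N₁ ⟶ (yon S).obj T) (sqN : IsPullback cN ν₁ ν c) :
    ∃ (A' B : CommRingCat.{u}) (β : A' ⟶ B) (s : Spec A' ⟶ S)
      (w : (yon S).obj (Over.mk (Spec.map β ≫ s)) ⟶ G₁) (e : (yon S).obj (Over.mk s) ≅ N₁),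
      Function.Injective β.hom ∧ RepWith @Etale w ∧ RepWith @Surjective w ∧
      (yon S).map (Over.homMk (Spec.map β) rfl : Over.mk (Spec.map β ≫ s) ⟶ Over.mk s) ≫
        e.hom ≫ cN = w ≫ cG ≫ f' ∧
      (yon S).map (Over.homMk (Spec.map β) rfl : Over.mk (Spec.map β ≫ s) ⟶ Over.mk s) ≫
        e.hom ≫ ν₁ = w ≫ g₁ := by
  haveI := hT
  have hs := isSNorm_of_isRelNormalization' hH hN hqc hqs hn
  obtain ⟨f'₁, k2, k1⟩ : ∃ f'₁ : G₁ ⟶ N₁, f'₁ ≫ cN = cG ≫ f' ∧ f'₁ ≫ ν₁ = g₁ :=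
    ⟨sqN.lift (cG ≫ f') g₁ (by rw [Category.assoc, hn.1, sqG.w]), sqN.lift_fst _ _ _,
      sqN.lift_snd _ _ _⟩
  have hn₁ : IsRelNormalization g₁ ν₁ f'₁ :=
    hs.2.2 T c hT (repWith_mono etale_le_smooth hc) g₁ ν₁ f'₁ cG cN sqG sqN k1 k2
  have hN₁ : IsAlgSpace N₁ := isAlgSpace_of_isPullback hH.diag hN (IsAlgSpace.yon_obj _) sqN
  have hqc₁ : IsQuasiCompactMor g₁ := isQuasiCompactMor_of_isPullback' sqG hqc
  have hqs₁ : IsQuasiSeparatedMor g₁ := isQuasiSeparatedMor_of_isPullback' sqG hqs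
  have hG := isQuasiCompactSp_of_isQuasiCompactMor_yon hT g₁ hqc₁
  have hqs' := isQuasiCompactSp_pullback_self hT g₁ hqs₁
  let t : Spec (CommRingCat.of ↑Γ(T.left, ⊤)) ⟶ S := T.left.isoSpec.inv ≫ T.hom
  let eT : Over.mk t ≅ T := Over.isoMk T.left.isoSpec.symm rfl
  obtain ⟨A', B, β, s, ν₀, w, f'₀, hinj, hwe, hws, hwf, hn₀⟩ :=
    exists_local_structure_spec t (g₁ ≫ (yon S).map eT.inv) hG hqs'
  haveI : IsIso ((yon S).map eT.inv) := ((yon S).mapIso eT.symm).isIso_hom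
  have hn₀' : IsRelNormalization g₁ ((yon S).map ν₀ ≫ (yon S).map eT.hom) f'₀ := by
    refine isRelNormalization_of_comp_iso ((yon S).map eT.inv) ?_
    have : ((yon S).map ν₀ ≫ (yon S).map eT.hom) ≫ (yon S).map eT.inv = (yon S).map ν₀ := by
      rw [Category.assoc, ← Functor.map_comp, Iso.hom_inv_id, CategoryTheory.Functor.map_id,
        Category.comp_id]
    rw [this]
    exact hn₀
  obtain ⟨e, he1, he2⟩ := norm_exists_iso hn₀' (IsAlgSpace.yon_obj _) hn₁ hN₁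
  refine ⟨A', B, β, s, w, e, hinj, hwe, hws, ?_, ?_⟩
  · rw [← hwf, Category.assoc, ← Category.assoc f'₀, he1, k2]
  · rw [← hwf, Category.assoc, ← Category.assoc f'₀, he1, k1]


/-- The structure of the normalization over an affine open of an étale atlas of the base. -/
theorem exists_local_chart_open {G H N : Sp S} (hH : IsAlgSpace H) (hN : IsAlgSpace N)
    {g : G ⟶ H} (hqc : IsQuasiCompactMor g) (hqs : IsQuasiSeparatedMor g) {ν : N ⟶ H}
    {f' : G ⟶ N} (hn : IsRelNormalization g ν f') {V M : Over S} (q : (yon S).obj V ⟶ H)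
    (hqe : RepWith @Etale q) (μ : M ⟶ V) (a : (yon S).obj M ⟶ N)
    (sqM : IsPullback a ((yon S).map μ) ν q) {R : Scheme.{u}} (fi : R ⟶ V.left)
    [IsOpenImmersion fi] [IsAffine R] :
    ∃ (A' B : CommRingCat.{u}) (β : A' ⟶ B) (s : Spec A' ⟶ S) (ε : Spec A' ≅ pullback μ.left fi)
      (b : (yon S).obj (Over.mk (Spec.map β ≫ s)) ⟶ G)
      (hW : Over.mk (Spec.map β ≫ s) ⟶ Over.mk (fi ≫ V.hom)) (j : Over.mk s ⟶ M),
      Function.Injective β.hom ∧ RepWith @Etale b ∧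
      hW.left = Spec.map β ≫ ε.hom ≫ pullback.snd μ.left fi ∧
      j.left = ε.hom ≫ pullback.fst μ.left fi ∧
      b ≫ g = (yon S).map hW ≫
        (yon S).map (Over.homMk fi rfl : Over.mk (fi ≫ V.hom) ⟶ V) ≫ q ∧
      b ≫ f' = (yon S).map
        ((Over.homMk (Spec.map β) rfl : Over.mk (Spec.map β ≫ s) ⟶ Over.mk s) ≫ j) ≫ a := by
  let Ti : Over S := Over.mk (fi ≫ V.hom)
  let ιi : Ti ⟶ V := Over.homMk fi rfl
  let Mi : Over S := Over.mk (pullback.fst μ.left fi ≫ M.hom)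
  let ji : Mi ⟶ M := Over.homMk (pullback.fst μ.left fi) rfl
  let μi : Mi ⟶ Ti := Over.homMk (pullback.snd μ.left fi) (by
    change pullback.snd μ.left fi ≫ fi ≫ V.hom = pullback.fst μ.left fi ≫ M.hom
    rw [← Category.assoc, ← pullback.condition, Category.assoc, Over.w μ])
  have sqi : IsPullback ji μi μ ιi :=
    IsPullback.of_map_of_faithful (Over.forget S) (IsPullback.of_hasPullback μ.left fi)
  have hTi : IsAffine Ti.left := (inferInstance : IsAffine R)
  have hci : RepWith @Etale ((yon S).map ιi ≫ q) :=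
    (RepWith @Etale).comp_mem _ _ ((repWith_yon_map_iff _ _).2 (inferInstance : Etale fi)) hqe
  have sqN : IsPullback ((yon S).map ji ≫ a) ((yon S).map μi) ν ((yon S).map ιi ≫ q) :=
    (sqi.map (yon S)).paste_horiz sqM
  have sqG := IsPullback.of_hasPullback g ((yon S).map ιi ≫ q)
  obtain ⟨A', B, β, s, w, e, hinj, hwe, hws, hcomm, hcomm2⟩ :=
    exists_local_structure' hH hN hqc hqs hn hTi _ hci _ _ sqG _ _ sqN
  let ε : Over.mk s ≅ Mi := (yon S).preimageIso e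
  have hε : (yon S).map ε.hom = e.hom := Functor.map_preimage _ _
  refine ⟨A', B, β, s, (Over.forget S).mapIso ε, w ≫ pullback.fst g ((yon S).map ιi ≫ q),
    (Over.homMk (Spec.map β) rfl : Over.mk (Spec.map β ≫ s) ⟶ Over.mk s) ≫ ε.hom ≫ μi,
    ε.hom ≫ ji, hinj, ?_, rfl, rfl, ?_, ?_⟩
  · exact (RepWith @Etale).comp_mem _ _ hwe ((RepWith @Etale).of_isPullback sqG.flip hci)
  · rw [Category.assoc, sqG.w, ← Category.assoc w, ← hcomm2, Functor.map_comp, Functor.map_comp,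
      hε]
  · rw [Category.assoc, ← hcomm, Functor.map_comp, Functor.map_comp, hε]
    simp only [Category.assoc]

end Groth.Agent.Helper15.Norm
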