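import Groth.Agent.Lib.Helper15.QfSplit
import Groth.Agent.Lib.Helper15.NormLoc4
import Groth.Agent.Lib.Helper15.AlgSpImm

/-!
# Normalization and the quasi-finite locus, I: jointly epimorphic étale families, clopen gluing
-/

set_option autoImplicit false
universe u w
open CategoryTheory CategoryTheory.Limits AlgebraicGeometry MorphismProperty Opposite
open AlgSp

namespace Groth.Agent.Helper15.Norm

variable {S : Scheme.{u}}

/-- A family of representable étale maps which is jointly surjective on points is jointly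
epimorphic. -/
theorem jointlyEpi_of_repWith_etale {ι : Type w} {F : Sp S} (Fi : ι → Sp S) (e : ∀ i, Fi i ⟶ F)
    (he : ∀ i, RepWith @Etale (e i))
    (hsurj : ∀ x : Points F, ∃ i, x ∈ Set.range (Points.map (e i))) : JointlyEpi Fi e := by
  intro T x
  have hcov : Sieve.ofArrows (fun i => (he i).rep.pullback x) (fun i => (he i).rep.snd x) ∈
      (J S) T := by
    refine ofArrows_mem_J _ _ (fun i => ?_) (fun i => ?_) (fun t => ?_)
    · haveI : Etale ((he i).rep.snd x).left := (he i).property_snd x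
      infer_instance
    · haveI : Etale ((he i).rep.snd x).left := (he i).property_snd x
      infer_instance
    · obtain ⟨i, z, hz⟩ := hsurj (Points.ofPt x t)
      have sq := (he i).rep.isPullback x
      obtain ⟨q, -, hq⟩ := exists_point_of_isPullback sq z (Points.ofScheme T t)
        (by rw [hz, Points.ofPt_eq_map_ofScheme])
      obtain ⟨a, rfl⟩ := (Points.schemeEquiv ((he i).rep.pullback x)).surjective q
      refine ⟨i, a, ?_⟩
      apply (Points.schemeEquiv T).injective
      change Points.ofScheme T _ = Points.ofScheme T t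
      rw [← hq, ← ofPt_yon_map, Points.ofPt_eq_map_ofScheme]
      rfl
  refine (J S).superset_covering ?_ hcov
  rw [Sieve.ofArrows, Sieve.generate_le_iff]
  rintro _ _ ⟨i⟩
  exact ⟨i, (he i).rep.fst x, (he i).rep.w x⟩

/-- Two maps out of the sheaf of an empty scheme agree. -/
theorem yon_hom_ext_of_isEmpty {T : Over S} (hT : IsEmpty T.left) {F : Sp S}
    (a b : (yon S).obj T ⟶ F) : a = b := by
  have hcov : Sieve.ofArrows (fun i : PEmpty.{1} => (PEmpty.elim i : Over S))
      (fun i => PEmpty.elim i) ∈ (J S) T :=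
    ofArrows_mem_J _ _ (fun i => i.elim) (fun i => i.elim) (fun x => (hT.false x).elim)
  apply yon_hom_ext_of_cover a b _ hcov
  rintro T' k ⟨_, _, _, ⟨i⟩, _⟩
  exact i.elim

/-- Being an isomorphism descends along a jointly epimorphic family. -/
theorem isIso_of_jointlyEpi_base {F G : Sp S} (a : F ⟶ G)
    {ι : Type w} {Hi Qi : ι → Sp S} (b : ∀ i, Hi i ⟶ G) (hb : JointlyEpi Hi b)
    (b' : ∀ i, Qi i ⟶ F) (a' : ∀ i, Qi i ⟶ Hi i) (sq : ∀ i, IsPullback (b' i) (a' i) a (b i))
    (h : ∀ i, IsIso (a' i)) : IsIso a := by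
  haveI : Mono a := by
    apply mono_of_yon
    intro T x y hxy
    apply yon_hom_ext_of_cover _ _ _ (hb T (x ≫ a))
    rintro T' k ⟨i, z, hz⟩
    have h1 : ((yon S).map k ≫ x) ≫ a = z ≫ b i := by rw [Category.assoc, hz]
    have h2 : ((yon S).map k ≫ y) ≫ a = z ≫ b i := by rw [Category.assoc, ← hxy, hz]
    have e1 : (sq i).lift _ _ h1 = (sq i).lift _ _ h2 := by
      haveI := h i
      rw [← cancel_mono (a' i), (sq i).lift_snd, (sq i).lift_snd]
    rw [← (sq i).lift_fst _ _ h1, e1, (sq i).lift_fst]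
  haveI : Epi a := by
    refine ⟨fun {Z} u v huv => ?_⟩
    apply hb.hom_ext
    intro i
    haveI := h i
    have : b i = inv (a' i) ≫ b' i ≫ a := by rw [(sq i).w, IsIso.inv_hom_id_assoc]
    rw [this]
    simp only [Category.assoc]
    rw [huv]
  exact isIso_of_mono_of_epi a


section Clopen

variable {P : Sp S} {Vo : Over S} {Vc : Sp S} (jV : (yon S).obj Vo ⟶ P) (jc : Vc ⟶ P)

/-- The two-member family of a clopen decomposition. -/
def clopenFam (Vo : Over S) (Vc : Sp S) : PUnit.{u + 1} ⊕ PUnit.{u + 1} → Sp S :=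
  Sum.elim (fun _ => (yon S).obj Vo) (fun _ => Vc)

/-- The two inclusions of a clopen decomposition. -/
def clopenMap : ∀ i, clopenFam Vo Vc i ⟶ P
  | .inl _ => jV
  | .inr _ => jc

theorem jointlyEpi_clopen (hV : RepWith @IsOpenImmersion jV) (hc : RepWith @IsOpenImmersion jc)
    (hcompl : Set.range (Points.map jc) = (Set.range (Points.map jV))ᶜ) :
    JointlyEpi (clopenFam Vo Vc) (clopenMap jV jc) := by
  refine jointlyEpi_of_repWith_etale _ _ ?_ ?_
  · rintro (_ | _)
    · exact repWith_mono isOpenImmersion_le_etale hV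
    · exact repWith_mono isOpenImmersion_le_etale hc
  · intro x
    by_cases hx : x ∈ Set.range (Points.map jV)
    · exact ⟨.inl PUnit.unit, hx⟩
    · refine ⟨.inr PUnit.unit, ?_⟩
      change x ∈ Set.range (Points.map jc)
      rw [hcompl]; exact hx

theorem clopen_hom_ext (hV : RepWith @IsOpenImmersion jV) (hc : RepWith @IsOpenImmersion jc)
    (hcompl : Set.range (Points.map jc) = (Set.range (Points.map jV))ᶜ) {Z : Sp S}
    {a b : P ⟶ Z} (h1 : jV ≫ a = jV ≫ b) (h2 : jc ≫ a = jc ≫ b) : a = b := by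
  apply (jointlyEpi_clopen jV jc hV hc hcompl).hom_ext
  rintro (_ | _)
  · exact h1
  · exact h2

theorem clopen_exists_desc (hV : RepWith @IsOpenImmersion jV) (hc : RepWith @IsOpenImmersion jc)
    (hcompl : Set.range (Points.map jc) = (Set.range (Points.map jV))ᶜ) {Z : Sp S}
    (l₁ : (yon S).obj Vo ⟶ Z) (l₂ : Vc ⟶ Z) :
    ∃ χ : P ⟶ Z, jV ≫ χ = l₁ ∧ jc ≫ χ = l₂ := by
  haveI : Mono jV := mono_of_repWith isOpenImmersion_le_mono jV hV
  haveI : Mono jc := mono_of_repWith isOpenImmersion_le_mono jc hc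
  let l : ∀ i, clopenFam Vo Vc i ⟶ Z := fun i => match i with
    | .inl _ => l₁
    | .inr _ => l₂
  have hempty : ∀ (T : Over S) (y : (yon S).obj T ⟶ (yon S).obj Vo) (y' : (yon S).obj T ⟶ Vc),
      y ≫ jV = y' ≫ jc → IsEmpty T.left := by
    intro T y y' hyy'
    refine ⟨fun t => ?_⟩
    have h1 : Points.ofPt (y ≫ jV) t ∈ Set.range (Points.map jV) :=
      ⟨Points.ofPt y t, Points.map_ofPt _ _ _⟩
    have h2 : Points.ofPt (y ≫ jV) t ∈ Set.range (Points.map jc) := by
      rw [hyy']; exact ⟨Points.ofPt y' t, Points.map_ofPt _ _ _⟩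
    rw [hcompl] at h2
    exact h2 h1
  obtain ⟨χ, hχ⟩ := (jointlyEpi_clopen jV jc hV hc hcompl).exists_desc l (by
    rintro T (_ | _) (_ | _) y y' hyy'
    · have : y = y' := (cancel_mono jV).1 hyy'
      subst this; rfl
    · exact yon_hom_ext_of_isEmpty (hempty T y y' hyy') _ _
    · exact yon_hom_ext_of_isEmpty (hempty T y' y hyy'.symm) _ _
    · have : y = y' := (cancel_mono jc).1 hyy'
      subst this; rfl)
  exact ⟨χ, hχ (.inl PUnit.unit), hχ (.inr PUnit.unit)⟩

end Clopen

end Groth.Agent.Helper15.Norm
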