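import Mathlib
import Groth.Agent.Lib.Helper15.Strat9

/-!
# The induction principle for a family of spaces etale over a qcqs algebraic space
-/

set_option autoImplicit false
universe u
open CategoryTheory CategoryTheory.Limits AlgebraicGeometry MorphismProperty Opposite
open AlgSp

namespace Groth.Agent.Helper15.Strat

open Groth.Agent.Helper15

variable {S : Scheme.{u}}

/-- `P` for quasi-compact open subschemes of an affine scheme etale over `X`. -/
theorem stageA' {X : AlgSp.Space S} (B P : AlgSp.EtSpOver X → Prop)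
    (h2 : ∀ (W U : AlgSp.EtSpOver X) (j : U ⟶ W), B W →
      AlgSp.RepWith @IsOpenImmersion j.hom.left.hom →
      AlgSp.IsQuasiCompactSp U.obj.left.obj → B U)
    (h3 : ∀ (V : AlgSp.EtSpOver X) (T : Over S), IsAffine T.left →
      Nonempty ((AlgSp.yon S).obj T ≅ V.obj.left.obj) → B V ∧ P V)
    (h4 : ∀ (W U V UV : AlgSp.EtSpOver X) (j : U ⟶ W) (f : V ⟶ W) (p : UV ⟶ U) (q : UV ⟶ V),
      B W → AlgSp.IsQuasiCompactSp U.obj.left.obj →
      (∃ T : Over S, IsAffine T.left ∧ Nonempty ((AlgSp.yon S).obj T ≅ V.obj.left.obj)) →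
      AlgSp.IsElemDistSq j.hom.left.hom f.hom.left.hom →
      IsPullback p.hom.left.hom q.hom.left.hom j.hom.left.hom f.hom.left.hom →
      P U → P V → P UV → P W)
    (A₀ : Over S) [IsAffine A₀.left] (a₀ : (yon S).obj A₀ ⟶ X.obj) (ha₀ : IsEtaleMor a₀)
    (Z : Over S) (g : Z ⟶ A₀) (hg : IsOpenImmersion g.left) [CompactSpace Z.left]
    (ha : IsEtaleMor ((yon S).map g ≫ a₀)) :
    P (schObj X Z ((yon S).map g ≫ a₀) ha) := by
  classical
  obtain ⟨t, ht⟩ := isCompact_univ.elim_finite_subcover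
    (fun Uo : Z.left.affineOpens => ((Uo.1 : Z.left.Opens) : Set Z.left))
    (fun Uo => Uo.1.2) (by
      intro x _
      obtain ⟨_, ⟨Uo, hUo, rfl⟩, hxU, -⟩ :=
        Z.left.isBasis_affineOpens.exists_subset_of_mem_open (Set.mem_univ x) isOpen_univ
      exact Set.mem_iUnion.2 ⟨⟨Uo, hUo⟩, hxU⟩)
  let e := t.equivFin
  refine stageA B P h2 h3 h4 A₀ a₀ ha₀ t.card Z g hg (fun i => (e.symm i).1.1)
    (fun i => (e.symm i).1.2) ?_ ha
  intro z
  obtain ⟨Uo, hUo, hz⟩ := Set.mem_iUnion₂.1 (ht (Set.mem_univ z))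
  refine ⟨e ⟨Uo, hUo⟩, ?_⟩
  rw [Equiv.symm_apply_apply]
  exact hz


/-- **The induction principle for a family of spaces etale over a quasi-compact quasi-separated
algebraic space.** -/
theorem etSpOver_induction_family [QuasiSeparatedSpace ↥S] (X : AlgSp.Space S)
    (B P : AlgSp.EtSpOver X → Prop)
    (h1 : ∀ W, B W → AlgSp.IsQuasiCompactSp W.obj.left.obj ∧ AlgSp.IsQuasiSeparatedSp W.obj.left.obj)
    (h2 : ∀ (W U : AlgSp.EtSpOver X) (j : U ⟶ W), B W →
      AlgSp.RepWith @IsOpenImmersion j.hom.left.hom →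
      AlgSp.IsQuasiCompactSp U.obj.left.obj → B U)
    (h3 : ∀ (V : AlgSp.EtSpOver X) (T : Over S), IsAffine T.left →
      Nonempty ((AlgSp.yon S).obj T ≅ V.obj.left.obj) → B V ∧ P V)
    (h4 : ∀ (W U V UV : AlgSp.EtSpOver X) (j : U ⟶ W) (f : V ⟶ W) (p : UV ⟶ U) (q : UV ⟶ V),
      B W → AlgSp.IsQuasiCompactSp U.obj.left.obj →
      (∃ T : Over S, IsAffine T.left ∧ Nonempty ((AlgSp.yon S).obj T ≅ V.obj.left.obj)) →
      AlgSp.IsElemDistSq j.hom.left.hom f.hom.left.hom →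
      IsPullback p.hom.left.hom q.hom.left.hom j.hom.left.hom f.hom.left.hom →
      P U → P V → P UV → P W) :
    ∀ W : AlgSp.EtSpOver X, B W → P W := by
  intro W₀ hBW₀
  obtain ⟨hYc, hYs⟩ := h1 W₀ hBW₀
  have hY := W₀.obj.left.property
  -- the property of open subspaces of `W₀`
  let Q : ∀ U : AlgSp.Space S, (U ⟶ W₀.obj.left) → Prop := fun U j =>
    ∀ h : IsEtaleMor (j ≫ W₀.obj.hom).hom, P ⟨Over.mk (j ≫ W₀.obj.hom), h⟩
  -- the empty open subspace
  obtain ⟨A, a, hA, hAe, hae⟩ := exists_empty_affine_chart hY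
  haveI := hA
  haveI : Mono a := by
    apply mono_of_yon
    intro T α β _
    obtain ⟨α', rfl⟩ := (yon S).map_surjective α
    obtain ⟨β', rfl⟩ := (yon S).map_surjective β
    haveI : IsEmpty T.left := ⟨fun t => hAe.false (α'.left t)⟩
    rw [over_hom_ext_of_isEmpty α' β']
  have hao : RepWith @IsOpenImmersion a := repWith_isOpenImmersion_of_etale_mono a hae
  have hfinal : Q W₀.obj.left (𝟙 _) := by
    refine openSubspace_induction (X := W₀.obj.left) (P := Q) (W := (AlgSp.ofScheme S).obj A)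
      (jW := ObjectProperty.homMk a) hYc hYs hao ((isQuasiCompactSp_yon_iff A).2 inferInstance)
      ?_ ?_
    · intro h
      exact (h3 _ A hA ⟨Iso.refl _⟩).2
    · intro W₁ W₂ V j₁ j₂ k m f hj₁ hj₂ hk hm hc₁ hc₂ hV heds hQ₁ h
      obtain ⟨T, hT, ⟨eV⟩⟩ := hV
      haveI := hT
      haveI : Mono j₂.hom := mono_of_repWith isOpenImmersion_le_mono _ hj₂
      have hW₂s : IsQuasiSeparatedSp W₂.obj := isQuasiSeparatedSp_of_mono j₂.hom hYs
      have h₁ : IsEtaleMor (j₁ ≫ W₀.obj.hom).hom :=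
        isEtaleMor_comp _ _ (isEtaleMor_of_isOpenImmersion _ hj₁) W₀.property
      have hVe : IsEtaleMor (f ≫ j₂ ≫ W₀.obj.hom).hom := isEtaleMor_comp _ _ heds.2.1 h
      -- the fibre product
      have hko := heds.1
      have hrep := hko.rep
      let φ : (yon S).obj T ⟶ W₂.obj := eV.hom ≫ f.hom
      let Z := hrep.pullback φ
      let g : Z ⟶ T := hrep.snd φ
      let fst : (yon S).obj Z ⟶ W₁.obj := hrep.fst φ
      have sq : IsPullback fst ((yon S).map g) k.hom φ := hrep.isPullback φ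
      have hg : IsOpenImmersion g.left := hko.property_snd φ
      have hZc : CompactSpace Z.left := by
        rw [← isQuasiCompactSp_yon_iff]
        exact isQuasiCompactSp_of_isPullback sq hc₁ ((isQuasiCompactSp_yon_iff T).2 inferInstance)
          hW₂s
      let a₀ : (yon S).obj T ⟶ X.obj := eV.hom ≫ (f ≫ j₂ ≫ W₀.obj.hom).hom
      have ha₀ : IsEtaleMor a₀ :=
        isEtaleMor_comp _ _ (isEtaleMor_of_repWith_etale _ (repWith_of_isIso _ eV.hom)) hVe
      have haUV : IsEtaleMor ((yon S).map g ≫ a₀) :=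
        isEtaleMor_comp _ _ (isEtaleMor_of_isOpenImmersion _ ((repWith_yon_map_iff _ g).2 hg)) ha₀
      have hPUV := stageA' B P h2 h3 h4 T a₀ ha₀ Z g hg haUV
      -- the objects and morphisms of the site
      let Wobj : AlgSp.EtSpOver X := ⟨Over.mk (j₂ ≫ W₀.obj.hom), h⟩
      let Uobj : AlgSp.EtSpOver X := ⟨Over.mk (j₁ ≫ W₀.obj.hom), h₁⟩
      let Vobj : AlgSp.EtSpOver X := ⟨Over.mk (f ≫ j₂ ≫ W₀.obj.hom), hVe⟩
      let UVobj : AlgSp.EtSpOver X := schObj X Z ((yon S).map g ≫ a₀) haUV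
      let jm : Uobj ⟶ Wobj := ObjectProperty.homMk (Over.homMk k (by
        change k ≫ j₂ ≫ W₀.obj.hom = j₁ ≫ W₀.obj.hom
        rw [← hk, Category.assoc]))
      let fm : Vobj ⟶ Wobj := ObjectProperty.homMk (Over.homMk f rfl)
      let pm : UVobj ⟶ Uobj := ObjectProperty.homMk (Over.homMk
        (ObjectProperty.homMk fst : (AlgSp.ofScheme S).obj Z ⟶ W₁) (by
          apply ObjectProperty.hom_ext
          change fst ≫ (j₁ ≫ W₀.obj.hom).hom = (yon S).map g ≫ a₀
          have hw := sq.w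
          have hk' : k.hom ≫ j₂.hom = j₁.hom := congrArg (fun t => t.hom) hk
          change fst ≫ j₁.hom ≫ W₀.obj.hom.hom = (yon S).map g ≫ eV.hom ≫ f.hom ≫ j₂.hom ≫ W₀.obj.hom.hom
          rw [← hk', Category.assoc, ← Category.assoc fst, hw]
          simp only [φ, Category.assoc]))
      let qm : UVobj ⟶ Vobj := ObjectProperty.homMk (Over.homMk
        (ObjectProperty.homMk ((yon S).map g ≫ eV.hom) : (AlgSp.ofScheme S).obj Z ⟶ V) (by
          apply ObjectProperty.hom_ext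
          change ((yon S).map g ≫ eV.hom) ≫ (f ≫ j₂ ≫ W₀.obj.hom).hom = (yon S).map g ≫ a₀
          simp only [a₀, Category.assoc]))
      have hBW : B Wobj :=
        h2 W₀ Wobj (ObjectProperty.homMk (Over.homMk j₂ rfl)) hBW₀ hj₂ hc₂
      have sq' : IsPullback fst ((yon S).map g ≫ eV.hom) k.hom f.hom := by
        refine sq.of_iso (Iso.refl _) (Iso.refl _) eV (Iso.refl _) ?_ ?_ ?_ ?_
        · simp
        · simp
        · simp
        · simp [φ]
      exact h4 Wobj Uobj Vobj UVobj jm fm pm qm hBW hc₁ ⟨T, hT, ⟨eV⟩⟩ heds sq' (hQ₁ h₁)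
        (h3 Vobj T hT ⟨eV⟩).2 hPUV
  have key : ∀ (g : W₀.obj.left ⟶ X) (_ : g = W₀.obj.hom) (h : IsEtaleMor g.hom),
      P ⟨Over.mk g, h⟩ → P W₀ := by
    rintro g rfl h hp
    exact hp
  have hid : IsEtaleMor (𝟙 W₀.obj.left ≫ W₀.obj.hom).hom := by
    rw [Category.id_comp]; exact W₀.property
  exact key _ (Category.id_comp _) hid (hfinal hid)

end Groth.Agent.Helper15.Strat
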