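import Mathlib
import Groth.Agent.Lib.Helper15.Strat10
import Groth.Agent.Lib.Helper15.NormQf1
import Groth.Agent.Lib.Helper15.AlgSpCoprod2

/-!
# Charts from a coproduct of two schemes
-/

set_option autoImplicit false
universe u
open CategoryTheory CategoryTheory.Limits AlgebraicGeometry MorphismProperty Opposite
open AlgSp

namespace Groth.Agent.Helper15.Strat

open Groth.Agent.Helper15

variable {S : Scheme.{u}}

/-- The points of `h_V` in the image of `h_A` for an open immersion `A ⟶ V`. -/
theorem range_map_yon_map {A V : Over S} (i : A ⟶ V) :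
    Set.range (Points.map ((yon S).map i)) = Points.ofScheme V '' Set.range i.left := by
  rw [range_map_yon]
  ext x
  constructor
  · rintro ⟨u, rfl⟩
    exact ⟨i.left u, ⟨u, rfl⟩, (ofPt_yon_map i u).symm⟩
  · rintro ⟨_, ⟨u, rfl⟩, rfl⟩
    exact ⟨u, ofPt_yon_map i u⟩

/-- **A chart from the disjoint union of two schemes.** -/
theorem exists_coprod_chart {X : Sp S} (hX : IsAlgSpace X) (A A' : Over S)
    (a : (yon S).obj A ⟶ X) (a' : (yon S).obj A' ⟶ X) :
    ∃ (V : Over S) (inl : A ⟶ V) (inr : A' ⟶ V) (c : (yon S).obj V ⟶ X),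
      IsOpenImmersion inl.left ∧ IsOpenImmersion inr.left ∧
      IsCompl (Set.range inl.left) (Set.range inr.left) ∧
      (yon S).map inl ≫ c = a ∧ (yon S).map inr ≫ c = a' ∧
      (IsAffine A.left → IsAffine A'.left → IsAffine V.left) ∧
      (RepWith @Etale a → RepWith @Etale a' → RepWith @Etale c) := by
  let V : Over S := Over.mk (coprod.desc A.hom A'.hom)
  let inl : A ⟶ V := Over.homMk coprod.inl (coprod.inl_desc _ _)
  let inr : A' ⟶ V := Over.homMk coprod.inr (coprod.inr_desc _ _)
  have hl : IsOpenImmersion inl.left := (inferInstance : IsOpenImmersion (coprod.inl : A.left ⟶ _))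
  have hr : IsOpenImmersion inr.left := (inferInstance : IsOpenImmersion (coprod.inr : A'.left ⟶ _))
  have hcompl : IsCompl (Set.range inl.left) (Set.range inr.left) :=
    isCompl_range_inl_inr A.left A'.left
  have hlo : RepWith @IsOpenImmersion ((yon S).map inl) := (repWith_yon_map_iff _ _).2 hl
  have hro : RepWith @IsOpenImmersion ((yon S).map inr) := (repWith_yon_map_iff _ _).2 hr
  obtain ⟨c, hc1, hc2⟩ := Norm.clopen_exists_desc ((yon S).map inl) ((yon S).map inr) hlo hro (by
    rw [range_map_yon_map, range_map_yon_map]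
    have h1 : Points.ofScheme V '' (Set.range inl.left)ᶜ =
        (Points.ofScheme V '' Set.range inl.left)ᶜ :=
      Set.image_compl_eq (Points.schemeEquiv V).bijective
    rw [h1.symm, hcompl.compl_eq]) a a'
  refine ⟨V, inl, inr, c, hl, hr, hcompl, hc1, hc2, ?_, ?_⟩
  · intro h1 h2
    exact (inferInstance : IsAffine (A.left ⨿ A'.left))
  · intro h1 h2
    refine repWith_of_source_openCover c (hX.representable_from_yon c)
      (fun b : ULift.{u} Bool => if b.down then A else A')
      (fun b => by
        rcases b with ⟨_ | _⟩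
        · exact inr
        · exact inl) ?_ ?_ ?_
    · rintro ⟨_ | _⟩
      · exact hr
      · exact hl
    · intro v
      have hv : v ∈ Set.range inl.left ∪ Set.range inr.left := by
        have := hcompl.sup_eq_top
        change Set.range inl.left ∪ Set.range inr.left = Set.univ at this
        rw [this]
        trivial
      rcases hv with ⟨u, hu⟩ | ⟨u, hu⟩
      · exact ⟨⟨true⟩, u, hu⟩
      · exact ⟨⟨false⟩, u, hu⟩
    · rintro ⟨_ | _⟩
      · change RepWith @Etale ((yon S).map inr ≫ c)
        rw [hc2]; exact h2
      · change RepWith @Etale ((yon S).map inl ≫ c)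
        rw [hc1]; exact h1

end Groth.Agent.Helper15.Strat
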