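import Mathlib
import Groth.Agent.Lib.Helper15.Strat11
import Groth.Agent.Lib.Helper15.NormQf3

/-!
# Integral covers by schemes, I: clopen subsets of scheme-level normalizations
-/

set_option autoImplicit false
universe u
open CategoryTheory CategoryTheory.Limits AlgebraicGeometry MorphismProperty Opposite
open AlgSp

namespace Groth.Agent.Helper15.IntCov

open Groth.Agent.Helper15 Groth.Agent.Helper15.Strat Groth.Agent.Helper15.Norm

variable {S : Scheme.{u}}

theorem isOpenImmersion_opι (Q : Over S) (O : Q.left.Opens) : IsOpenImmersion (opι Q O).left :=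
  (inferInstance : IsOpenImmersion O.ι)

theorem range_opι (Q : Over S) (O : Q.left.Opens) : Set.range (opι Q O).left = (O : Set Q.left) :=
  Scheme.Opens.range_ι O

theorem range_map_opι_compl (Q : Over S) (O O' : Q.left.Opens)
    (h : (O' : Set Q.left) = (O : Set Q.left)ᶜ) :
    Set.range (Points.map ((yon S).map (opι Q O'))) =
      (Set.range (Points.map ((yon S).map (opι Q O))))ᶜ := by
  rw [range_map_yon_map, range_map_yon_map]
  have h1 : Points.ofScheme Q '' (Set.range (opι Q O).left)ᶜ =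
      (Points.ofScheme Q '' Set.range (opι Q O).left)ᶜ :=
    Set.image_compl_eq (Points.schemeEquiv Q).bijective
  rw [← h1, range_opι, range_opι, h]

theorem clopen_desc (Q : Over S) (O O' : Q.left.Opens) (h : (O' : Set Q.left) = (O : Set Q.left)ᶜ)
    {Z : Sp S} (l₁ : (yon S).obj (opSub Q O) ⟶ Z) (l₂ : (yon S).obj (opSub Q O') ⟶ Z) :
    ∃ χ : (yon S).obj Q ⟶ Z, (yon S).map (opι Q O) ≫ χ = l₁ ∧ (yon S).map (opι Q O') ≫ χ = l₂ :=
  clopen_exists_desc _ _ ((repWith_yon_map_iff _ _).2 (isOpenImmersion_opι Q O))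
    ((repWith_yon_map_iff _ _).2 (isOpenImmersion_opι Q O')) (range_map_opι_compl Q O O' h) l₁ l₂

theorem clopen_ext (Q : Over S) (O O' : Q.left.Opens) (h : (O' : Set Q.left) = (O : Set Q.left)ᶜ)
    {Z : Sp S} {a b : (yon S).obj Q ⟶ Z}
    (h1 : (yon S).map (opι Q O) ≫ a = (yon S).map (opι Q O) ≫ b)
    (h2 : (yon S).map (opι Q O') ≫ a = (yon S).map (opι Q O') ≫ b) : a = b :=
  clopen_hom_ext _ _ ((repWith_yon_map_iff _ _).2 (isOpenImmersion_opι Q O))
    ((repWith_yon_map_iff _ _).2 (isOpenImmersion_opι Q O')) (range_map_opι_compl Q O O' h) h1 h2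

/-- Lift of a morphism through an open subscheme containing its range. -/
theorem exists_lift_opι {T Q : Over S} (a : T ⟶ Q) (O : Q.left.Opens)
    (h : ∀ t, a.left t ∈ O) : ∃ a' : T ⟶ opSub Q O, a' ≫ opι Q O = a := by
  have hr : Set.range a.left ⊆ Set.range O.ι := by
    rintro _ ⟨t, rfl⟩
    rw [Scheme.Opens.range_ι]
    exact h t
  refine ⟨Over.homMk (IsOpenImmersion.lift O.ι a.left hr) ?_, ?_⟩
  · change IsOpenImmersion.lift O.ι a.left hr ≫ O.ι ≫ Q.hom = T.hom
    rw [← Category.assoc, IsOpenImmersion.lift_fac, CategoryTheory.Over.w]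
  · apply Over.OverMorphism.ext
    change IsOpenImmersion.lift O.ι a.left hr ≫ O.ι = a.left
    exact IsOpenImmersion.lift_fac _ _ _

section Double

variable (M T : Over S) (ν₁ : M ⟶ T)

/-- Two copies of `M`. -/
noncomputable def dbl : Over S := Over.mk (coprod.desc M.hom M.hom)

noncomputable def dinl : M ⟶ dbl M := Over.homMk coprod.inl (coprod.inl_desc _ _)

noncomputable def dinr : M ⟶ dbl M := Over.homMk coprod.inr (coprod.inr_desc _ _)

variable {M T}

noncomputable def dζ : dbl M ⟶ T := Over.homMk (coprod.desc ν₁.left ν₁.left) (by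
  apply coprod.hom_ext
  · change coprod.inl ≫ coprod.desc ν₁.left ν₁.left ≫ T.hom = coprod.inl ≫ coprod.desc _ _
    rw [← Category.assoc, coprod.inl_desc, coprod.inl_desc, CategoryTheory.Over.w]
  · change coprod.inr ≫ coprod.desc ν₁.left ν₁.left ≫ T.hom = coprod.inr ≫ coprod.desc _ _
    rw [← Category.assoc, coprod.inr_desc, coprod.inr_desc, CategoryTheory.Over.w])

theorem dinl_ζ : dinl M ≫ dζ ν₁ = ν₁ := by
  ext : 1
  exact coprod.inl_desc _ _

theorem dinr_ζ : dinr M ≫ dζ ν₁ = ν₁ := by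
  ext : 1
  exact coprod.inr_desc _ _

theorem isIntegralMor_dζ (hν : IsIntegralHom ν₁.left) : IsIntegralMor ((yon S).map (dζ ν₁)) := by
  haveI := hν
  have : IsIntegralHom (dζ ν₁).left := by
    change IsIntegralHom (coprod.desc ν₁.left ν₁.left)
    infer_instance
  exact (isIntegralMor_iff_affRep _).2 (affRep_of_repWith ((repWith_yon_map_iff _ (dζ ν₁)).2 this))

theorem dinl_ne_dinr (x y : M.left) : (dinl M).left x ≠ (dinr M).left y :=
  inl_ne_inr _ _ x y

theorem isOpen_range_dinl : IsOpen (Set.range (dinl M).left) :=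
  (inferInstance : IsOpenImmersion (coprod.inl : M.left ⟶ _)).base_open.isOpen_range

theorem isClosed_range_dinl : IsClosed (Set.range (dinl M).left) := by
  have h := isCompl_range_inl_inr M.left M.left
  rw [← isOpen_compl_iff]
  have : (Set.range (dinl M).left)ᶜ = Set.range (coprod.inr : M.left ⟶ M.left ⨿ M.left) :=
    h.compl_eq
  rw [this]
  exact (inferInstance : IsOpenImmersion (coprod.inr : M.left ⟶ _)).base_open.isOpen_range

end Double

section Clopen

variable {T Q M : Over S} (g₁ : Q ⟶ T) (ν₁ : M ⟶ T) (φ : Q ⟶ M)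
  (hn : IsRelNormalization ((yon S).map g₁) ((yon S).map ν₁) ((yon S).map φ))

include hn in
/-- **Clopen subsets of the source extend to the normalization.** -/
theorem exists_clopen_extension (C : Set Q.left) (hCo : IsOpen C) (hCc : IsClosed C) :
    ∃ D : Set M.left, IsOpen D ∧ IsClosed D ∧ φ.left ⁻¹' D = C := by
  have hν₁ : IsIntegralHom ν₁.left := isIntegralHom_of_isIntegralMor_yon ν₁ hn.2.1
  have hfac : φ ≫ ν₁ = g₁ := (yon S).map_injective (by rw [Functor.map_comp]; exact hn.1)
  let O : Q.left.Opens := ⟨C, hCo⟩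
  let O' : Q.left.Opens := ⟨Cᶜ, hCc.isOpen_compl⟩
  obtain ⟨χ, hχ1, hχ2⟩ := clopen_desc Q O O' rfl ((yon S).map (opι Q O ≫ φ ≫ dinl M))
    ((yon S).map (opι Q O' ≫ φ ≫ dinr M))
  have hχζ : χ ≫ (yon S).map (dζ ν₁) = (yon S).map g₁ := by
    refine clopen_ext Q O O' rfl ?_ ?_
    · rw [← Category.assoc, hχ1, ← Functor.map_comp, ← Functor.map_comp, Category.assoc,
        Category.assoc, dinl_ζ, hfac]
    · rw [← Category.assoc, hχ2, ← Functor.map_comp, ← Functor.map_comp, Category.assoc,
        Category.assoc, dinr_ζ, hfac]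
  obtain ⟨h, ⟨hh1, hh2⟩, -⟩ := hn.2.2 (IsAlgSpace.yon_obj (dbl M)) ((yon S).map (dζ ν₁)) χ
    (isIntegralMor_dζ ν₁ hν₁) hχζ
  obtain ⟨h₀, rfl⟩ : ∃ h₀ : M ⟶ dbl M, (yon S).map h₀ = h :=
    ⟨(yon S).preimage h, Functor.map_preimage _ _⟩
  have e1 : opι Q O ≫ φ ≫ h₀ = opι Q O ≫ φ ≫ dinl M := (yon S).map_injective (by
    rw [← hχ1, ← hh1, Functor.map_comp, Functor.map_comp])
  have e2 : opι Q O' ≫ φ ≫ h₀ = opι Q O' ≫ φ ≫ dinr M := (yon S).map_injective (by
    rw [← hχ2, ← hh1, Functor.map_comp, Functor.map_comp])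
  refine ⟨h₀.left ⁻¹' Set.range (dinl M).left, isOpen_range_dinl.preimage h₀.left.continuous,
    isClosed_range_dinl.preimage h₀.left.continuous, ?_⟩
  ext q
  constructor
  · intro hq
    by_contra hqC
    have hq' : q ∈ O' := hqC
    have := congrArg (fun f => f.left (⟨q, hq'⟩ : O')) e2
    simp only [Over.comp_left, Scheme.Hom.comp_apply] at this
    change h₀.left (φ.left q) = (dinr M).left (φ.left q) at this
    obtain ⟨m, hm⟩ := hq
    exact dinl_ne_dinr m (φ.left q) (hm.trans this)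
  · intro hq
    have hq' : q ∈ O := hq
    have := congrArg (fun f => f.left (⟨q, hq'⟩ : O)) e1
    simp only [Over.comp_left, Scheme.Hom.comp_apply] at this
    change h₀.left (φ.left q) = (dinl M).left (φ.left q) at this
    exact ⟨φ.left q, this.symm⟩

include hn in
/-- **A clopen subset of the normalization with empty inverse image is empty.** -/
theorem eq_empty_of_preimage_eq_empty (D : Set M.left) (hDo : IsOpen D) (hDc : IsClosed D)
    (hD : φ.left ⁻¹' D = ∅) : D = ∅ := by
  have hν₁ : IsIntegralHom ν₁.left := isIntegralHom_of_isIntegralMor_yon ν₁ hn.2.1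
  let O : M.left.Opens := ⟨D, hDo⟩
  let O' : M.left.Opens := ⟨Dᶜ, hDc.isOpen_compl⟩
  obtain ⟨h₁, hh1, hh2⟩ := clopen_desc M O O' rfl ((yon S).map (opι M O ≫ dinl M))
    ((yon S).map (opι M O' ≫ dinr M))
  obtain ⟨φ', hφ'⟩ := exists_lift_opι φ O' (fun t ht => by
    have : t ∈ φ.left ⁻¹' D := ht
    rw [hD] at this
    exact this)
  have key : h₁ = (yon S).map (dinr M) := by
    refine norm_hom_ext hn (IsAlgSpace.yon_obj (dbl M)) (isIntegralMor_dζ ν₁ hν₁) ?_ ?_ ?_
    · rw [← hφ', Functor.map_comp, Category.assoc, hh2, Category.assoc, ← Functor.map_comp]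
      simp only [Functor.map_comp]
    · refine clopen_ext M O O' rfl ?_ ?_
      · rw [← Category.assoc, hh1, ← Functor.map_comp, Category.assoc, dinl_ζ, Functor.map_comp]
      · rw [← Category.assoc, hh2, ← Functor.map_comp, Category.assoc, dinr_ζ, Functor.map_comp]
    · rw [← Functor.map_comp, dinr_ζ]
  apply Set.eq_empty_of_forall_notMem
  intro d hd
  have hd' : d ∈ O := hd
  have e : opι M O ≫ dinl M = opι M O ≫ dinr M := (yon S).map_injective (by
    rw [← hh1, key, Functor.map_comp])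
  have := congrArg (fun f => f.left (⟨d, hd'⟩ : O)) e
  simp only [Over.comp_left, Scheme.Hom.comp_apply] at this
  exact dinl_ne_dinr _ _ this

end Clopen

end Groth.Agent.Helper15.IntCov
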