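import Groth.Agent.Lib.Helper15.NormExist2
import Groth.Agent.Lib.Helper15.AffDesc6
import Groth.Agent.Lib.Helper15.AlgSpGlue
import Groth.Agent.Lib.Helper15.AlgSpRepSrc

/-!
# Existence of relative normalizations: the glued normalization
-/

set_option autoImplicit false
universe u
open CategoryTheory CategoryTheory.Limits AlgebraicGeometry MorphismProperty Opposite
open AlgSp

namespace Groth.Agent.Helper15.Norm

variable {S : Scheme.{u}}

theorem isIntegralHom_of_isIntegralMor_yon {N T : Over S} (ν : N ⟶ T)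
    (h : IsIntegralMor ((yon S).map ν)) : IsIntegralHom ν.left := by
  rw [isIntegralMor_iff_affRep] at h
  exact (repWith_yon_map_iff _ ν).1 (repWith_of_affRep _ h)

section Glue

variable {G H : Sp S} {g : G ⟶ H} (L : LocNorm g)

/-- The glued structure map is integral. -/
theorem LocNorm.isIntegralMor_νg (hH : IsAlgSpace H) : IsIntegralMor L.νg := by
  obtain ⟨V, p, hpe, hps⟩ := hH.atlas
  rw [isIntegralMor_iff_affRep]
  refine AffDesc.affRep_of_chart (Q := @IsIntegralHom) (fun _ _ f hf => by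
      haveI : IsIntegralHom f := hf; infer_instance) AffDesc.descAff_isIntegralHom L.νg p
    (repWith_mono (fun _ _ f hf => by haveI : Etale f := hf; infer_instance) hpe)
    (repWith_mono (fun _ _ f hf => by haveI : Etale f := hf; infer_instance) hpe) hps
    (pullback.fst L.νg p) (pullback.snd L.νg p) (IsPullback.of_hasPullback _ _) ?_
  intro T hT t
  haveI := hT
  obtain ⟨t₀, rfl⟩ := (yon S).map_surjective t
  -- the index set: affine opens of `T` mapping into affine opens of `V`
  let K : Type u := Σ W : V.left.affineOpens,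
    {U : T.left.affineOpens // (U.1 : T.left.Opens) ≤ t₀.left ⁻¹ᵁ W.1}
  have key : ∀ k : K, ∃ (Wk : Over S) (i : Wk ⟶ openOver (Q := T) k.2.1.1)
      (fstW : (yon S).obj Wk ⟶ pullback L.νg p),
      IsPullback fstW ((yon S).map i) (pullback.snd L.νg p)
        ((yon S).map (openOverι (Q := T) k.2.1.1) ≫ (yon S).map t₀) ∧ IsIntegralHom i.left := by
    rintro ⟨W, U, hU⟩
    -- the chart on `W`
    have hι : Etale (openOverι (Q := V) W.1).left := by
      change Etale (W.1 : V.left.Opens).ι; infer_instance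
    let o : Chart H := ⟨openOver (Q := V) W.1, (yon S).map (openOverι (Q := V) W.1) ≫ p, W.2,
      (RepWith @Etale).comp_mem _ _ ((repWith_yon_map_iff _ _).2 hι) hpe⟩
    -- the map `U ⟶ W`
    have hrange : Set.range (U.1.ι ≫ t₀.left) ⊆ Set.range W.1.ι := by
      rintro _ ⟨z, rfl⟩
      rw [Scheme.Opens.range_ι]
      exact hU z.2
    let r₀ : (U.1 : Scheme.{u}) ⟶ W.1 := IsOpenImmersion.lift W.1.ι (U.1.ι ≫ t₀.left) hrange
    have hr₀ : r₀ ≫ W.1.ι = U.1.ι ≫ t₀.left := IsOpenImmersion.lift_fac _ _ _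
    let r : openOver (Q := T) U.1 ⟶ openOver (Q := V) W.1 := Over.homMk r₀ (by
      change r₀ ≫ W.1.ι ≫ V.hom = U.1.ι ≫ T.hom
      rw [← Category.assoc, hr₀, Category.assoc, Over.w t₀])
    have hr : r ≫ openOverι (Q := V) W.1 = openOverι (Q := T) U.1 ≫ t₀ := by
      apply Over.OverMorphism.ext
      exact hr₀
    have sqP := IsPullback.of_hasPullback (L.ν o) r
    have hint : IsIntegralHom (pullback.snd (L.ν o) r).left := by
      have h1 : IsIntegralHom (L.ν o).left := isIntegralHom_of_isIntegralMor_yon _ (L.sn o).2.1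
      exact MorphismProperty.of_isPullback (P := @IsIntegralHom) (sqP.map (Over.forget S)) h1
    have big : IsPullback ((yon S).map (pullback.fst (L.ν o) r) ≫ L.q o)
        ((yon S).map (pullback.snd (L.ν o) r)) L.νg ((yon S).map r ≫ o.c) :=
      (sqP.map (yon S)).paste_horiz (L.isPullback_q hH o)
    have e : (yon S).map r ≫ o.c =
        ((yon S).map (openOverι (Q := T) U.1) ≫ (yon S).map t₀) ≫ p := by
      change (yon S).map r ≫ (yon S).map (openOverι (Q := V) W.1) ≫ p = _
      rw [← Category.assoc, ← Functor.map_comp, hr, Functor.map_comp]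
    rw [e] at big
    have pb := IsPullback.of_hasPullback L.νg p
    have hw : ((yon S).map (pullback.fst (L.ν o) r) ≫ L.q o) ≫ L.νg =
        ((yon S).map (pullback.snd (L.ν o) r) ≫
          ((yon S).map (openOverι (Q := T) U.1) ≫ (yon S).map t₀)) ≫ p := by
      rw [big.w]
      simp only [Category.assoc]
    refine ⟨pullback (L.ν o) r, pullback.snd (L.ν o) r, pb.lift _ _ hw, ?_, hint⟩
    refine IsPullback.of_right ?_ (pb.lift_snd _ _ _) pb
    rw [pb.lift_fst]
    exact big
  choose Wk i fstW sqW hQ using key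
  have hcov : ∀ x : T.left, ∃ (k : K) (tk : (openOver (Q := T) k.2.1.1).left),
      (openOverι (Q := T) k.2.1.1).left tk = x := by
    intro x
    obtain ⟨_, ⟨W, hW, rfl⟩, hxW, -⟩ := V.left.isBasis_affineOpens.exists_subset_of_mem_open
      (Set.mem_univ (t₀.left x)) isOpen_univ
    obtain ⟨_, ⟨U, hU, rfl⟩, hxU, hUW⟩ := T.left.isBasis_affineOpens.exists_subset_of_mem_open
      (show x ∈ ((t₀.left ⁻¹ᵁ W : T.left.Opens) : Set T.left) from hxW) (t₀.left ⁻¹ᵁ W).2
    exact ⟨⟨⟨W, hW⟩, ⟨⟨U, hU⟩, hUW⟩⟩, ⟨x, hxU⟩, rfl⟩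
  obtain ⟨V', fst, snd, sq, hsnd⟩ := exists_rep_pullback_of_cover (Q := @IsIntegralHom)
    (pullback.snd L.νg p) ((yon S).map t₀) (fun k : K => openOver (Q := T) k.2.1.1)
    (fun k => openOverι (Q := T) k.2.1.1) (fun k => by
      change IsOpenImmersion (k.2.1.1 : T.left.Opens).ι; infer_instance) hcov Wk i fstW sqW hQ
  exact ⟨V', snd, fst, sq, hsnd⟩

/-- **The glued triple is a smooth-universal normalization.** -/
theorem LocNorm.isSNorm (hH : IsAlgSpace H) (f' : G ⟶ L.X')
    (hf' : ∀ o : Chart H, pullback.fst g o.c ≫ f' = L.f' o ≫ L.q o) (hfac : f' ≫ L.νg = g) :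
    IsSNorm g L.νg f' := by
  refine ⟨hfac, L.isIntegralMor_νg hH, ?_⟩
  intro T₁ c hT₁ hc
  obtain ⟨ι₀, o, ho⟩ := exists_chart_family hH
  -- the canonical base change
  have sqG := IsPullback.of_hasPullback g c
  have sqN := IsPullback.of_hasPullback L.νg c
  let f'₁ : pullback g c ⟶ pullback L.νg c := pullback.lift (pullback.fst g c ≫ f')
    (pullback.snd g c) (by rw [Category.assoc, hfac, pullback.condition])
  have h1 : f'₁ ≫ pullback.snd L.νg c = pullback.snd g c := pullback.lift_snd _ _ _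
  have h2 : f'₁ ≫ pullback.fst L.νg c = pullback.fst g c ≫ f' := pullback.lift_fst _ _ _
  refine bcNorm_of_one sqG sqN h2 ?_
  -- the fibre products with the charts
  have sqP : ∀ i, IsPullback ((yon S).map ((o i).et.rep.fst' c)) ((yon S).map ((o i).et.rep.snd c))
      (o i).c c := fun i => (o i).et.rep.isPullback' c
  have hfstP : ∀ i, Smooth ((o i).et.rep.fst' c).left := fun i =>
    hc.2 (o i).c ((yon S).map ((o i).et.rep.snd c)) _ (sqP i).flip
  have hsndP : ∀ i, Etale ((o i).et.rep.snd c).left := fun i =>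
    (o i).et.2 c ((yon S).map ((o i).et.rep.fst' c)) _ (sqP i)
  let K : Type u := Σ i : ι₀, ((o i).et.rep.pullback c).left.affineOpens
  let TK : K → Over S := fun k => openOver (Q := (o k.1).et.rep.pullback c) k.2.1
  let ιK : ∀ k : K, TK k ⟶ (o k.1).et.rep.pullback c := fun k => openOverι k.2.1
  have hιK : ∀ k, IsOpenImmersion (ιK k).left := fun k => by
    change IsOpenImmersion (k.2.1 : ((o k.1).et.rep.pullback c).left.Opens).ι; infer_instance
  refine isRelNormalization_of_local (IsAlgSpace.yon_obj T₁) h1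
    (isIntegralMor_of_isPullback sqN (L.isIntegralMor_νg hH)) TK
    (fun k => (yon S).map (ιK k ≫ (o k.1).et.rep.snd c)) ?_ ?_ ?_
  · intro k
    rw [repWith_yon_map_iff]
    haveI := hιK k
    haveI := hsndP k.1
    change Etale ((ιK k).left ≫ ((o k.1).et.rep.snd c).left)
    infer_instance
  · -- jointly epimorphic
    intro T x
    obtain ⟨x₀, rfl⟩ := (yon S).map_surjective x
    refine (J S).transitive (ho T ((yon S).map x₀ ≫ c)) _ ?_
    rintro T' k ⟨i, y, hy⟩
    obtain ⟨y₀, hy₀⟩ := (yon S).map_surjective ((sqP i).lift y ((yon S).map (k ≫ x₀)) (by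
      rw [hy, Functor.map_comp, Category.assoc]))
    have hy₀2 : y₀ ≫ (o i).et.rep.snd c = k ≫ x₀ := by
      apply (yon S).map_injective
      rw [Functor.map_comp, hy₀, (sqP i).lift_snd]
    refine (J S).superset_covering ?_ (preOver_mem_J y₀)
    rintro T'' m ⟨Y, hh, _, ⟨W⟩, rfl⟩
    refine ⟨⟨i, W⟩, (yon S).map (hh ≫ preOverRes y₀ W.1), ?_⟩
    rw [← Functor.map_comp, ← Functor.map_comp]
    congr 1
    change (hh ≫ preOverRes y₀ W.1) ≫ openOverι W.1 ≫ (o i).et.rep.snd c = _
    rw [Category.assoc, ← Category.assoc (preOverRes y₀ W.1), preOverRes_ι, Category.assoc, hy₀2]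
    simp only [Category.assoc]
  · -- local normalizations
    intro k T₂ c₁ hT₂ hc₁
    rw [bcNorm_comp_iff sqG sqN h1 h2]
    have e : ((yon S).map c₁ ≫ (yon S).map (ιK k ≫ (o k.1).et.rep.snd c)) ≫ c =
        (yon S).map (c₁ ≫ ιK k ≫ (o k.1).et.rep.fst' c) ≫ (o k.1).c := by
      simp only [Functor.map_comp, Category.assoc]
      rw [(sqP k.1).w]
    rw [e, ← bcNorm_comp_iff (IsPullback.of_hasPullback g (o k.1).c) (L.isPullback_q hH (o k.1))
      (L.sn (o k.1)).1 (hf' (o k.1)).symm]
    refine (L.sn (o k.1)).2.2 T₂ _ hT₂ ?_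
    rw [repWith_yon_map_iff]
    haveI := hc₁
    haveI := hιK k
    haveI := hfstP k.1
    change Smooth (c₁.left ≫ (ιK k).left ≫ ((o k.1).et.rep.fst' c).left)
    infer_instance

end Glue

/-- **Existence of smooth-universal relative normalizations.** -/
theorem exists_isSNorm {G H : Sp S} (hH : IsAlgSpace H) (g : G ⟶ H) (hqc : IsQuasiCompactMor g)
    (hqs : IsQuasiSeparatedMor g) :
    ∃ (N : Sp S) (ν : N ⟶ H) (f' : G ⟶ N), IsAlgSpace N ∧ IsSNorm g ν f' := by
  obtain ⟨L⟩ := nonempty_locNorm (g := g) hqc hqs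
  obtain ⟨f', hf', hfac⟩ := L.exists_f' hH
  have hs := L.isSNorm hH f' hf' hfac
  refine ⟨L.X', L.νg, f', ?_, hs⟩
  have hint := hs.2.1
  rw [isIntegralMor_iff_affRep] at hint
  exact isAlgSpace_of_representable L.νg (repWith_of_affRep _ hint).rep hH

/-- Every normalization (through an algebraic space) of a quasi-compact quasi-separated morphism
is smooth-universal. -/
theorem isSNorm_of_isRelNormalization' {G H N : Sp S} (hH : IsAlgSpace H) (hN : IsAlgSpace N)
    {g : G ⟶ H} (hqc : IsQuasiCompactMor g) (hqs : IsQuasiSeparatedMor g) {ν : N ⟶ H}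
    {f' : G ⟶ N} (hn : IsRelNormalization g ν f') : IsSNorm g ν f' := by
  obtain ⟨N₀, ν₀, f'₀, hN₀, hs⟩ := exists_isSNorm hH g hqc hqs
  exact isSNorm_of_isRelNormalization hn hN hH hN₀ hs

end Groth.Agent.Helper15.Norm
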