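import Mathlib
import Groth.Agent.Lib.Helper15.IntCov1
import Groth.Agent.Lib.Helper15.NormExist3
import Groth.Agent.Lib.Helper15.AlgSpUnram
import Groth.Agent.Lib.Helper15.AlgSpEtCl

/-!
# Integral covers by schemes, II: sheets of the normalization are open subspaces
-/

set_option autoImplicit false
universe u
open CategoryTheory CategoryTheory.Limits AlgebraicGeometry MorphismProperty Opposite
open AlgSp

namespace Groth.Agent.Helper15.IntCov

open Groth.Agent.Helper15 Groth.Agent.Helper15.Strat Groth.Agent.Helper15.Norm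

variable {S : Scheme.{u}}

/-- The normalization is its own normalization in the source. -/
theorem isRelNormalization_self_of {G H N : Sp S} {g : G ⟶ H} {ν : N ⟶ H} {f' : G ⟶ N}
    (hn : IsRelNormalization g ν f') (hN : IsAlgSpace N) :
    IsRelNormalization f' (𝟙 N) f' := by
  refine ⟨Category.comp_id _, isIntegralMor_of_iso (𝟙 N), ?_⟩
  intro Z hZ π k hπ hk
  have hπν : IsIntegralMor (π ≫ ν) := isIntegralMor_comp π ν hπ hn.2.1
  obtain ⟨h, ⟨hh1, hh2⟩, huniq⟩ := hn.2.2 hZ (π ≫ ν) k hπν (by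
    rw [← Category.assoc, hk, hn.1])
  have hid : h ≫ π = 𝟙 N := by
    refine norm_hom_ext hn hN hn.2.1 ?_ ?_ ?_
    · rw [← Category.assoc, hh1, hk, Category.comp_id]
    · rw [Category.assoc, hh2]
    · rw [Category.id_comp]
  refine ⟨h, ⟨hh1, hid⟩, ?_⟩
  rintro h' ⟨h1', h2'⟩
  exact huniq h' ⟨h1', by rw [← Category.assoc, h2', Category.id_comp]⟩

section Sheet

variable {X : Sp S} (hX : IsAlgSpace X) {U : Over S} (p : (yon S).obj U ⟶ X)
  (hpe : RepWith @Etale p) (hpsep : RepWith @IsSeparated p)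
  {Z : Over S} (w : (yon S).obj Z ⟶ X)
  {Y : Sp S} (hY : IsAlgSpace Y) (ν : Y ⟶ X) (f' : (yon S).obj Z ⟶ Y) (hs : IsSNorm w ν f')
  (hf'qc : IsQuasiCompactMor f') (hf'qs : IsQuasiSeparatedMor f')
  {Q : Over S} (q₁ : Q ⟶ Z) (q₂ : Q ⟶ U)
  (sq : IsPullback ((yon S).map q₂) ((yon S).map q₁) p w)
  {E : Over S} (e₁ : E ⟶ U) (e₂ : (yon S).obj E ⟶ Y) (sqE : IsPullback e₂ ((yon S).map e₁) ν p)
  (φ : Q ⟶ E) (hφ1 : (yon S).map φ ≫ e₂ = (yon S).map q₁ ≫ f') (hφ2 : φ ≫ e₁ = q₂)

include hX hpe hpsep hY hs hf'qc hf'qs sq sqE hφ1 hφ2 in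
/-- **A sheet of the normalization is a subobject.** -/
theorem mono_of_sheet (O : E.left.Opens)
    (hmono : ∀ (T : Over S) (a b : T ⟶ Q), (∀ t, φ.left (a.left t) ∈ O) →
      (∀ t, φ.left (b.left t) ∈ O) → a ≫ q₁ = b ≫ q₁ → a = b) :
    Mono ((yon S).map (opι E O) ≫ e₂) := by
  set ε : (yon S).obj (opSub E O) ⟶ Y := (yon S).map (opι E O) ≫ e₂ with hε
  have he₂e : RepWith @Etale e₂ := (RepWith @Etale).of_isPullback sqE.flip hpe
  have he₂s : RepWith @IsSeparated e₂ := (RepWith @IsSeparated).of_isPullback sqE.flip hpsep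
  have hιo : IsOpenImmersion (opι E O).left := isOpenImmersion_opι E O
  have hεe : RepWith @Etale ε :=
    (RepWith @Etale).comp_mem _ _ ((repWith_yon_map_iff _ _).2 inferInstance) he₂e
  have hεs : RepWith @IsSeparated ε :=
    (RepWith @IsSeparated).comp_mem _ _ ((repWith_yon_map_iff _ _).2 inferInstance) he₂s
  -- the self fibre product
  let P₂ : Over S := hεe.rep.pullback ε
  let a₁ : P₂ ⟶ opSub E O := hεe.rep.snd ε
  let a₂ : P₂ ⟶ opSub E O := hεe.rep.fst' ε
  have sq₂ : IsPullback ((yon S).map a₂) ((yon S).map a₁) ε ε := hεe.rep.isPullback' ε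
  haveI ha₁e : Etale a₁.left := hεe.property_snd ε
  haveI ha₁s : IsSeparated a₁.left := hεs.property _ _ _ sq₂
  obtain ⟨δ, hδ⟩ : ∃ δ : opSub E O ⟶ P₂, (yon S).map δ = sq₂.lift (𝟙 _) (𝟙 _) rfl :=
    ⟨(yon S).preimage _, Functor.map_preimage _ _⟩
  have hδ1 : δ ≫ a₁ = 𝟙 _ := (yon S).map_injective (by
    rw [Functor.map_comp, hδ, sq₂.lift_snd, CategoryTheory.Functor.map_id])
  have hδ2 : δ ≫ a₂ = 𝟙 _ := (yon S).map_injective (by
    rw [Functor.map_comp, hδ, sq₂.lift_fst, CategoryTheory.Functor.map_id])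
  have hδ1' : δ.left ≫ a₁.left = 𝟙 _ := by rw [← Over.comp_left, hδ1]; rfl
  haveI hδc : IsClosedImmersion δ.left := by
    haveI : IsClosedImmersion (δ.left ≫ a₁.left) := by rw [hδ1']; infer_instance
    exact IsClosedImmersion.of_comp δ.left a₁.left
  -- a T-point of `P₂` equalizing `a₁` and `a₂` factors through the diagonal
  have hdiag : ∀ (T : Over S) (x : T ⟶ P₂), x ≫ a₁ = x ≫ a₂ → x = (x ≫ a₁) ≫ δ := by
    intro T x hx
    apply (yon S).map_injective
    apply sq₂.hom_ext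
    · rw [← Functor.map_comp, ← Functor.map_comp, Category.assoc, hδ2, Category.comp_id, hx]
    · rw [← Functor.map_comp, ← Functor.map_comp, Category.assoc, hδ1, Category.comp_id]
  -- the complement of the diagonal
  let OR : P₂.left.Opens := ⟨(Set.range δ.left)ᶜ, δ.left.isClosedEmbedding.isClosed_range.isOpen_compl⟩
  let R : Over S := opSub P₂ OR
  set r : (yon S).obj R ⟶ Y := (yon S).map (opι P₂ OR ≫ a₁) ≫ ε with hr
  have hre : RepWith @Etale r := by
    refine (RepWith @Etale).comp_mem _ _ ((repWith_yon_map_iff _ _).2 ?_) hεe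
    haveI : IsOpenImmersion (opι P₂ OR).left := isOpenImmersion_opι P₂ OR
    rw [Over.comp_left]
    infer_instance
  have hr2 : r = (yon S).map (opι P₂ OR ≫ a₂) ≫ ε := by
    rw [hr, Functor.map_comp, Functor.map_comp, Category.assoc, Category.assoc, sq₂.w]
  let G₀ : Over S := hre.rep.pullback f'
  let tZ : G₀ ⟶ Z := hre.rep.snd f'
  let tR : G₀ ⟶ R := hre.rep.fst' f'
  have sqG₀ : IsPullback ((yon S).map tR) ((yon S).map tZ) r f' := hre.rep.isPullback' f'
  -- `G₀` is empty
  have hG₀ : IsEmpty G₀.left := by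
    refine ⟨fun t => ?_⟩
    let α : Fin 2 → (G₀ ⟶ opSub E O) := ![tR ≫ opι P₂ OR ≫ a₁, tR ≫ opι P₂ OR ≫ a₂]
    have hα : ∀ k, (yon S).map (α k) ≫ ε = (yon S).map tR ≫ r := by
      intro k
      fin_cases k
      · change (yon S).map (tR ≫ opι P₂ OR ≫ a₁) ≫ ε = _
        rw [hr, Functor.map_comp, Category.assoc]
      · change (yon S).map (tR ≫ opι P₂ OR ≫ a₂) ≫ ε = _
        rw [hr2, Functor.map_comp, Category.assoc]
    have hu : ∀ k, (yon S).map (α k ≫ opι E O ≫ e₁) ≫ p = (yon S).map tZ ≫ w := by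
      intro k
      rw [Functor.map_comp, Functor.map_comp, Category.assoc, Category.assoc, ← sqE.w,
        ← Category.assoc ((yon S).map (opι E O)), ← hε, ← Category.assoc, hα k, sqG₀.w,
        Category.assoc, hs.1]
    have hc : ∀ k, ∃ c : G₀ ⟶ Q, c ≫ q₂ = α k ≫ opι E O ≫ e₁ ∧ c ≫ q₁ = tZ := by
      intro k
      refine ⟨(yon S).preimage (sq.lift _ _ (hu k)), ?_, ?_⟩
      · apply (yon S).map_injective
        rw [Functor.map_comp, Functor.map_preimage, sq.lift_fst]
      · apply (yon S).map_injective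
        rw [Functor.map_comp, Functor.map_preimage, sq.lift_snd]
    choose c hc1 hc2 using hc
    have hcφ : ∀ k, c k ≫ φ = α k ≫ opι E O := by
      intro k
      apply (yon S).map_injective
      apply sqE.hom_ext
      · rw [Functor.map_comp, Category.assoc, hφ1, ← Category.assoc, ← Functor.map_comp, hc2,
          Functor.map_comp, Category.assoc, ← hε, hα k, sqG₀.w]
      · rw [← Functor.map_comp, ← Functor.map_comp, Category.assoc, hφ2, hc1, Category.assoc]
    have hmem : ∀ k t', φ.left ((c k).left t') ∈ O := by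
      intro k t'
      have := congrArg (fun f => f.left t') (hcφ k)
      simp only [Over.comp_left, Scheme.Hom.comp_apply] at this
      rw [this]
      exact ((α k).left t').2
    have hcc : c 0 = c 1 := hmono G₀ (c 0) (c 1) (hmem 0) (hmem 1) (by rw [hc2, hc2])
    have hαα : α 0 = α 1 := by
      have h1 : α 0 ≫ opι E O = α 1 ≫ opι E O := by rw [← hcφ, ← hcφ, hcc]
      exact (cancel_mono (opι E O)).1 h1
    have hx : (tR ≫ opι P₂ OR) ≫ a₁ = (tR ≫ opι P₂ OR) ≫ a₂ := by
      have := hαα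
      change tR ≫ opι P₂ OR ≫ a₁ = tR ≫ opι P₂ OR ≫ a₂ at this
      simpa only [Category.assoc] using this
    have hfac := hdiag G₀ (tR ≫ opι P₂ OR) hx
    have hin : (tR ≫ opι P₂ OR).left t ∈ Set.range δ.left := by
      rw [hfac]
      exact ⟨_, rfl⟩
    have hout : (tR ≫ opι P₂ OR).left t ∈ (Set.range δ.left)ᶜ := (tR.left t).2
    exact hout hin
  -- the normalization of `R` in the empty scheme
  have hnself : IsRelNormalization f' (𝟙 Y) f' := isRelNormalization_self_of (hs.isRelNormalization hX) hY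
  have hs' : IsSNorm f' (𝟙 Y) f' := isSNorm_of_isRelNormalization' hY hY hf'qc hf'qs hnself
  have hrsm : LocP @Smooth r :=
    locP_smooth_of_isEtaleMor hY r (isEtaleMor_of_repWith_etale r hre)
  have sqN : IsPullback r (𝟙 ((yon S).obj R)) (𝟙 Y) r := IsPullback.of_vert_isIso ⟨by simp⟩
  have hnR : IsRelNormalization ((yon S).map tR) (𝟙 ((yon S).obj R)) ((yon S).map tR) :=
    hs'.isRelNormalization_baseChange hY (IsAlgSpace.yon_obj R) hrsm sqG₀.flip sqN
      (Category.comp_id _) sqG₀.w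
  have hnR' : IsRelNormalization ((yon S).map tR) ((yon S).map (𝟙 R)) ((yon S).map tR) := by
    rw [CategoryTheory.Functor.map_id]; exact hnR
  have hRempty : (Set.univ : Set R.left) = ∅ :=
    eq_empty_of_preimage_eq_empty tR (𝟙 R) tR hnR' Set.univ isOpen_univ isClosed_univ (by
      apply Set.eq_empty_of_forall_notMem
      intro t _
      exact hG₀.false t)
  have hsurj : Function.Surjective δ.left := by
    intro x
    by_contra hx
    have hxR : x ∈ OR := hx
    have : (⟨x, hxR⟩ : R.left) ∈ (Set.univ : Set R.left) := trivial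
    rw [hRempty] at this
    exact this
  -- so the diagonal is an isomorphism
  haveI : Etale δ.left := by
    haveI : Etale (δ.left ≫ a₁.left) := by rw [hδ1']; infer_instance
    exact Etale.of_comp δ.left a₁.left
  haveI : Mono δ.left := mono_of_mono_fac hδ1'
  haveI : IsOpenImmersion δ.left := IsOpenImmersion.of_flat_of_mono δ.left
  haveI : IsIso δ.left := by
    apply isIso_of_isOpenImmersion_of_opensRange_eq_top
    rw [eq_top_iff]
    intro x _
    exact hsurj x
  have ha₁₂ : a₁ = a₂ := by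
    apply Over.OverMorphism.ext
    have h1 : δ.left ≫ a₂.left = 𝟙 _ := by rw [← Over.comp_left, hδ2]; rfl
    rw [← cancel_epi δ.left, hδ1', h1]
  apply mono_of_yon
  intro T x y hxy
  have h1 : sq₂.lift x y hxy ≫ (yon S).map a₂ = x := sq₂.lift_fst _ _ _
  have h2 : sq₂.lift x y hxy ≫ (yon S).map a₁ = y := sq₂.lift_snd _ _ _
  calc x = sq₂.lift x y hxy ≫ (yon S).map a₂ := h1.symm
    _ = sq₂.lift x y hxy ≫ (yon S).map a₁ := congrArg (fun a => sq₂.lift x y hxy ≫ (yon S).map a) ha₁₂.symm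
    _ = y := h2

end Sheet

section Sheets

variable {X : Sp S} (hX : IsAlgSpace X) {U : Over S} (p : (yon S).obj U ⟶ X)
  (hpe : RepWith @Etale p) (hpsep : RepWith @IsSeparated p)
  {Z : Over S} (w : (yon S).obj Z ⟶ X)
  {Y : Sp S} (hY : IsAlgSpace Y) (ν : Y ⟶ X) (f' : (yon S).obj Z ⟶ Y) (hs : IsSNorm w ν f')
  (hf'qc : IsQuasiCompactMor f') (hf'qs : IsQuasiSeparatedMor f')
  {Q : Over S} (q₁ : Q ⟶ Z) (q₂ : Q ⟶ U)
  (sq : IsPullback ((yon S).map q₂) ((yon S).map q₁) p w)

include hX hpe hpsep hY hs hf'qc hf'qs sq in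
/-- **The normalization is covered by open subspaces which are schemes mapping to the chart**, as
soon as the base change of the source to the chart is covered by finitely many clopen pieces
on which the projection is a monomorphism. -/
theorem exists_open_sheets {ι : Type u} [Finite ι] (C : ι → Set Q.left)
    (hCo : ∀ i, IsOpen (C i)) (hCc : ∀ i, IsClosed (C i)) (hcov : ∀ z, ∃ i, z ∈ C i)
    (hmono : ∀ i (T : Over S) (a b : T ⟶ Q), (∀ t, a.left t ∈ C i) → (∀ t, b.left t ∈ C i) →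
      a ≫ q₁ = b ≫ q₁ → a = b) :
    ∃ (E' : ι → Over S) (ε : ∀ i, (yon S).obj (E' i) ⟶ Y) (c : ∀ i, E' i ⟶ U),
      (∀ i, RepWith @IsOpenImmersion (ε i)) ∧ (∀ i, (yon S).map (c i) ≫ p = ε i ≫ ν) ∧
      ∀ y : Points Y, Points.map ν y ∈ Set.range (Points.ofPt p) →
        ∃ i, y ∈ Set.range (Points.ofPt (ε i)) := by
  have hνr : RepWith @IsIntegralHom ν :=
    repWith_of_affRep ν ((isIntegralMor_iff_affRep ν).1 hs.2.1)
  let E : Over S := hνr.rep.pullback p
  let e₁ : E ⟶ U := hνr.rep.snd p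
  let e₂ : (yon S).obj E ⟶ Y := hνr.rep.fst p
  have sqE : IsPullback e₂ ((yon S).map e₁) ν p := hνr.rep.isPullback p
  have hw : ((yon S).map q₁ ≫ f') ≫ ν = (yon S).map q₂ ≫ p := by
    rw [Category.assoc, hs.1, sq.w]
  obtain ⟨φ, hφ⟩ : ∃ φ : Q ⟶ E, (yon S).map φ = sqE.lift _ _ hw :=
    ⟨(yon S).preimage _, Functor.map_preimage _ _⟩
  have hφ1 : (yon S).map φ ≫ e₂ = (yon S).map q₁ ≫ f' := by rw [hφ, sqE.lift_fst]
  have hφ2 : φ ≫ e₁ = q₂ := (yon S).map_injective (by
    rw [Functor.map_comp, hφ, sqE.lift_snd])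
  have hpsm : LocP @Smooth p :=
    locP_smooth_of_isEtaleMor hX p (isEtaleMor_of_repWith_etale p hpe)
  have hnU : IsRelNormalization ((yon S).map q₂) ((yon S).map e₁) ((yon S).map φ) :=
    hs.isRelNormalization_baseChange hX (IsAlgSpace.yon_obj U) hpsm sq.flip sqE
      (by rw [← Functor.map_comp, hφ2]) hφ1
  choose D hDo hDc hD using fun i => exists_clopen_extension q₂ e₁ φ hnU (C i) (hCo i) (hCc i)
  have hDcov : ∀ e : E.left, ∃ i, e ∈ D i := by
    have hempty := eq_empty_of_preimage_eq_empty q₂ e₁ φ hnU (⋃ i, D i)ᶜ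
      (isClosed_iUnion_of_finite hDc).isOpen_compl (isOpen_iUnion hDo).isClosed_compl (by
        apply Set.eq_empty_of_forall_notMem
        intro z hz
        obtain ⟨i, hi⟩ := hcov z
        apply hz
        refine Set.mem_iUnion.2 ⟨i, ?_⟩
        have : z ∈ φ.left ⁻¹' D i := by rw [hD i]; exact hi
        exact this)
    intro e
    by_contra hne
    have : e ∈ (⋃ i, D i)ᶜ := fun h => hne (Set.mem_iUnion.1 h)
    rw [hempty] at this
    exact this
  have he₂e : RepWith @Etale e₂ := (RepWith @Etale).of_isPullback sqE.flip hpe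
  refine ⟨fun i => opSub E ⟨D i, hDo i⟩, fun i => (yon S).map (opι E ⟨D i, hDo i⟩) ≫ e₂,
    fun i => opι E ⟨D i, hDo i⟩ ≫ e₁, ?_, ?_, ?_⟩
  · intro i
    haveI := mono_of_sheet hX p hpe hpsep w hY ν f' hs hf'qc hf'qs q₁ q₂ sq e₁ e₂ sqE φ hφ1 hφ2
      ⟨D i, hDo i⟩ (fun T a b ha hb hab => hmono i T a b
        (fun t => by
          have : a.left t ∈ φ.left ⁻¹' D i := ha t
          rwa [hD i] at this)
        (fun t => by
          have : b.left t ∈ φ.left ⁻¹' D i := hb t
          rwa [hD i] at this) hab)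
    refine repWith_isOpenImmersion_of_etale_mono _ ?_
    haveI : IsOpenImmersion (opι E ⟨D i, hDo i⟩).left := isOpenImmersion_opι E _
    exact (RepWith @Etale).comp_mem _ _ ((repWith_yon_map_iff _ _).2 inferInstance) he₂e
  · intro i
    rw [Functor.map_comp, Category.assoc, Category.assoc, sqE.w]
  · intro y hy
    obtain ⟨u, hu⟩ := hy
    rw [Points.ofPt_eq_map_ofScheme] at hu
    obtain ⟨e, he1, -⟩ := exists_point_of_isPullback sqE y (Points.ofScheme U u) hu.symm
    obtain ⟨e₀, rfl⟩ := (Points.schemeEquiv E).surjective e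
    obtain ⟨i, hi⟩ := hDcov e₀
    refine ⟨i, ⟨e₀, hi⟩, ?_⟩
    rw [ofPt_comp_yon_map, Points.ofPt_eq_map_ofScheme]
    exact he1

end Sheets

end Groth.Agent.Helper15.IntCov
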