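import Mathlib
import Groth.Agent.Lib.Helper15.IntCov2
import Groth.Agent.Lib.Helper15.AlgSpGlue
import Groth.Agent.Lib.Helper15.AlgSpQc
import Groth.Agent.Lib.Helper15.AlgSpDiagMor
import Groth.Agent.Lib.Helper15.Strat8

/-!
# Integral covers by schemes, III: the normalization in a split source is a scheme
-/

set_option autoImplicit false
universe u
open CategoryTheory CategoryTheory.Limits AlgebraicGeometry MorphismProperty Opposite
open AlgSp

namespace Groth.Agent.Helper15.IntCov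

open Groth.Agent.Helper15 Groth.Agent.Helper15.Strat Groth.Agent.Helper15.Norm

variable {S : Scheme.{u}}

theorem isIntegralHom_le_quasiSeparated :
    (@IsIntegralHom : MorphismProperty Scheme.{u}) ≤ @QuasiSeparated :=
  fun _ _ g hg => by haveI : IsIntegralHom g := hg; exact inferInstance

/-- The pieces of a family of schemes over `S` which a chart dominates locally. -/
def Good {X : Sp S} {U : Over S} (p : (yon S).obj U ⟶ X) (Ω : Set (Points X)) : Prop :=
  ∃ (Y₀ : Over S) (g : (yon S).obj Y₀ ⟶ X), RepWith @IsIntegralHom g ∧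
    Ω ⊆ Set.range (Points.ofPt g) ∧
    ∀ y : Y₀.left, ∃ (W : Y₀.left.Opens) (c : opSub Y₀ W ⟶ U), y ∈ W ∧
      (yon S).map c ≫ p = (yon S).map (opι Y₀ W) ≫ g

variable {X : Sp S} (hX : IsAlgSpace X) {U : Over S} (p : (yon S).obj U ⟶ X)
  (hpe : RepWith @Etale p) (hpsurj : RepWith @Surjective p) (hpsep : RepWith @IsSeparated p)
  {Z : Over S} (w : (yon S).obj Z ⟶ X) (hwqc : IsQuasiCompactMor w)
  (hZqs : IsQuasiSeparatedSp ((yon S).obj Z))
  {Q : Over S} (q₁ : Q ⟶ Z) (q₂ : Q ⟶ U)
  (sq : IsPullback ((yon S).map q₂) ((yon S).map q₁) p w)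

include hX hpe hpsurj hpsep hwqc hZqs sq in
theorem good_of_sheets {ι : Type u} [Finite ι] (C : ι → Set Q.left)
    (hCo : ∀ i, IsOpen (C i)) (hCc : ∀ i, IsClosed (C i)) (hcov : ∀ z, ∃ i, z ∈ C i)
    (hmono : ∀ i (T : Over S) (a b : T ⟶ Q), (∀ t, a.left t ∈ C i) → (∀ t, b.left t ∈ C i) →
      a ≫ q₁ = b ≫ q₁ → a = b) :
    Good p (Set.range (Points.ofPt w)) := by
  have hwqs : IsQuasiSeparatedMor w := repWith_diagonal_of_repWith_diag w hZqs
  obtain ⟨Y, ν, f', hY, hs⟩ := exists_isSNorm hX w hwqc hwqs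
  have hνr : RepWith @IsIntegralHom ν :=
    repWith_of_affRep ν ((isIntegralMor_iff_affRep ν).1 hs.2.1)
  have hνqs : IsQuasiSeparatedMor ν :=
    (isQuasiSeparatedMor_iff_repWith hY hX ν hνr.rep).2
      (repWith_mono isIntegralHom_le_quasiSeparated hνr)
  have hf'qc : IsQuasiCompactMor f' :=
    isQuasiCompactMor_of_comp f' ν (by rw [hs.1]; exact hwqc) hνqs
  have hf'qs : IsQuasiSeparatedMor f' := repWith_diagonal_of_repWith_diag f' hZqs
  obtain ⟨E', ε, c, hεo, hcε, hεcov⟩ := exists_open_sheets hX p hpe hpsep w hY ν f' hs hf'qc hf'qs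
    q₁ q₂ sq C hCo hCc hcov hmono
  have hcov' : ∀ y : Points Y, ∃ i, y ∈ Set.range (Points.map (ε i)) := by
    intro y
    obtain ⟨i, hi⟩ := hεcov y (surjective_ofPt p hpsurj _)
    exact ⟨i, by rw [range_map_yon]; exact hi⟩
  obtain ⟨V, e, j, hjo, hje, hjcov⟩ := exists_rep_of_openCover hεo hcov'
  refine ⟨V, e.hom ≫ ν, ?_, ?_, ?_⟩
  · exact (RepWith @IsIntegralHom).comp_mem _ _ (repWith_of_isIso _ e.hom) hνr
  · rintro _ ⟨z, rfl⟩
    obtain ⟨v, hv⟩ := (Points.schemeEquiv V).surjective (Points.map e.inv (Points.ofPt f' z))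
    refine ⟨v, ?_⟩
    rw [Points.ofPt_eq_map_ofScheme]
    change Points.map (e.hom ≫ ν) (Points.schemeEquiv V v) = _
    rw [hv, ← hs.1, ← Points.map_ofPt, Points.map_comp]
    change Points.map ν (Points.map e.hom (Points.map e.inv (Points.ofPt f' z))) = _
    rw [← Points.map_comp e.inv e.hom, e.inv_hom_id, Points.map_id]
  · intro y
    obtain ⟨i, u, hu⟩ := hjcov y
    haveI := hjo i
    let W : V.left.Opens := (j i).left.opensRange
    have hr : Set.range W.ι ⊆ Set.range (j i).left := by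
      rw [Scheme.Opens.range_ι]
      exact subset_rfl
    let κ : opSub V W ⟶ E' i := Over.homMk (IsOpenImmersion.lift (j i).left W.ι hr) (by
      change IsOpenImmersion.lift (j i).left W.ι hr ≫ (E' i).hom = W.ι ≫ V.hom
      rw [← CategoryTheory.Over.w (j i), ← Category.assoc, IsOpenImmersion.lift_fac])
    have hκ : κ ≫ j i = opι V W := by
      apply Over.OverMorphism.ext
      change IsOpenImmersion.lift (j i).left W.ι hr ≫ (j i).left = W.ι
      exact IsOpenImmersion.lift_fac _ _ _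
    refine ⟨W, κ ≫ c i, ⟨u, hu⟩, ?_⟩
    rw [Functor.map_comp, Category.assoc, hcε i, ← hje i, ← hκ, Functor.map_comp]
    simp only [Category.assoc]

end Groth.Agent.Helper15.IntCov
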