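import Mathlib
import Groth.Agent.Lib.Helper15.IntCov3
import Groth.Agent.Lib.Helper15.Strat6

/-!
# Integral covers by schemes, IV: the strata of the configuration spaces
-/

set_option autoImplicit false
universe u
open CategoryTheory CategoryTheory.Limits AlgebraicGeometry MorphismProperty Opposite
open AlgSp

namespace Groth.Agent.Helper15.IntCov

open Groth.Agent.Helper15 Groth.Agent.Helper15.Strat Groth.Agent.Helper15.Norm

variable {S : Scheme.{u}}

theorem Good.mono {X : Sp S} {U : Over S} {p : (yon S).obj U ⟶ X} {Ω Ω' : Set (Points X)}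
    (h : Good p Ω) (hΩ : Ω' ⊆ Ω) : Good p Ω' := by
  obtain ⟨Y₀, g, h1, h2, h3⟩ := h
  exact ⟨Y₀, g, h1, hΩ.trans h2, h3⟩

variable [QuasiSeparatedSpace ↥S] {X : Sp S} (hX : IsAlgSpace X) (hqs : IsQuasiSeparatedSp X)
  {U : Over S} (p : (yon S).obj U ⟶ X)
  (hpe : RepWith @Etale p) (hpsurj : RepWith @Surjective p) (hU : IsSeparated U.hom)
  {n : ℕ} {W : Over S} {pr : Fin (n + 1) → (W ⟶ U)} (hW : IsConf p n W pr)
  {W' : Over S} {pr' : Fin (n + 2) → (W' ⟶ U)} (hW' : IsConf p (n + 1) W' pr')

include hX hqs hpe hpsurj hU hW hW' in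
/-- **The stratum of points with exactly `n + 1` geometric preimages is dominated by a scheme,
integral over `X`, which factors through the chart Zariski locally.** -/
theorem good_stratum :
    Good p (Set.range (Points.ofPt hW.g) \ Set.range (Points.ofPt hW'.g)) := by
  classical
  have hpsep := repWith_isSeparated_chart p hX hpe hU
  obtain ⟨m, hm⟩ := hW.exists_forget hW'
  haveI := hW.etale
  haveI := hW.sep
  haveI := hW.compact
  haveI : Etale m.left := by
    haveI : Etale (m.left ≫ (pr 0).left) := by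
      rw [← Over.comp_left, hm 0, Fin.castSucc_zero]; exact hW'.etale
    exact Etale.of_comp m.left (pr 0).left
  have hmo : IsOpen (Set.range m.left) := m.left.isOpenMap.isOpen_range
  -- the closed stratum
  let Zc : TopologicalSpace.Closeds W.left := ⟨(Set.range m.left)ᶜ, hmo.isClosed_compl⟩
  let I := Scheme.IdealSheafData.vanishingIdeal Zc
  let ι₀ : I.subscheme ⟶ W.left := I.subschemeι
  have hι₀r : Set.range ι₀ = (Set.range m.left)ᶜ := by
    rw [Scheme.IdealSheafData.range_subschemeι, Scheme.IdealSheafData.coe_support_vanishingIdeal]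
    rfl
  let Z : Over S := Over.mk (ι₀ ≫ W.hom)
  let ι : Z ⟶ W := Over.homMk ι₀ rfl
  have hιr : Set.range ι.left = (Set.range m.left)ᶜ := hι₀r
  haveI hιc : IsClosedImmersion ι.left := (inferInstance : IsClosedImmersion I.subschemeι)
  haveI : CompactSpace Z.left := ι.left.isClosedEmbedding.compactSpace
  let w : (yon S).obj Z ⟶ X := (yon S).map ι ≫ hW.g
  have hZqc : IsQuasiCompactSp ((yon S).obj Z) := (isQuasiCompactSp_yon_iff Z).2 inferInstance
  have hwqc : IsQuasiCompactMor w := isQuasiCompactMor_of_quasiCompact_of_quasiSeparated w hZqc hqs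
  have hZqs : IsQuasiSeparatedSp ((yon S).obj Z) := by
    unfold IsQuasiSeparatedSp
    rw [repWith_diag_yon_iff]
    haveI : IsSeparated Z.hom := by
      change IsSeparated (ι₀ ≫ W.hom)
      rw [← CategoryTheory.Over.w (pr 0)]
      haveI := hU
      infer_instance
    infer_instance
  -- the pullback of the chart
  have hrep := hpe.rep
  let Q := hrep.pullback w
  let q₁ : Q ⟶ Z := hrep.snd w
  let q₂ : Q ⟶ U := hrep.fst' w
  have sq : IsPullback ((yon S).map q₂) ((yon S).map q₁) p w := hrep.isPullback' w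
  haveI hq₁e : Etale q₁.left := hpe.property_snd w
  haveI hq₁s : IsSeparated q₁.left := hpsep.property_snd w
  -- the sheets
  have hcomp : ∀ i, (yon S).map (ι ≫ pr i) ≫ p = 𝟙 _ ≫ w := by
    intro i
    rw [Category.id_comp, Functor.map_comp, Category.assoc, hW.compat i 0]
    rfl
  have hs : ∀ i, ∃ s : Z ⟶ Q, s ≫ q₂ = ι ≫ pr i ∧ s ≫ q₁ = 𝟙 Z := by
    intro i
    refine ⟨(yon S).preimage (sq.lift _ _ (hcomp i)), ?_, ?_⟩
    · apply (yon S).map_injective
      rw [Functor.map_comp, Functor.map_preimage, sq.lift_fst]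
    · apply (yon S).map_injective
      rw [Functor.map_comp, Functor.map_preimage, sq.lift_snd, CategoryTheory.Functor.map_id]
  choose s hs2 hs1 using hs
  have hs1' : ∀ i, (s i).left ≫ q₁.left = 𝟙 _ := fun i => by
    rw [← Over.comp_left, hs1]; rfl
  have hse : ∀ i, Etale (s i).left := fun i => by
    haveI : Etale ((s i).left ≫ q₁.left) := by rw [hs1']; infer_instance
    exact Etale.of_comp (s i).left q₁.left
  have hsm : ∀ i, Mono (s i).left := fun i => mono_of_mono_fac (hs1' i)
  have hso : ∀ i, IsOpenImmersion (s i).left := fun i => by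
    haveI := hse i
    haveI := hsm i
    exact IsOpenImmersion.of_flat_of_mono (s i).left
  have hsc : ∀ i, IsClosedImmersion (s i).left := fun i => by
    haveI : IsClosedImmersion ((s i).left ≫ q₁.left) := by rw [hs1']; infer_instance
    exact IsClosedImmersion.of_comp (s i).left q₁.left
  -- a point of `Q` whose two coordinates agree lies on the sheet
  have hsheet : ∀ (i : Fin (n + 1)) (T : Over S) (x : T ⟶ Q), x ≫ q₂ = x ≫ q₁ ≫ ι ≫ pr i →
      x = (x ≫ q₁) ≫ s i := by
    intro i T x hx
    apply (yon S).map_injective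
    apply sq.hom_ext
    · rw [← Functor.map_comp, ← Functor.map_comp, Category.assoc, hs2, hx, Category.assoc]
    · rw [← Functor.map_comp, ← Functor.map_comp, Category.assoc, hs1, Category.comp_id]
  let C : ULift.{u} (Fin (n + 1)) → Set Q.left := fun i => Set.range (s i.down).left
  have hCo : ∀ i, IsOpen (C i) := fun i => (hso i.down).base_open.isOpen_range
  have hCc : ∀ i, IsClosed (C i) := fun i => (s i.down).left.isClosedEmbedding.isClosed_range
  -- the sheets cover
  have hcov : ∀ z : Q.left, ∃ i, z ∈ C i := by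
    by_contra hne
    push Not at hne
    obtain ⟨z₀, hz₀⟩ := hne
    let O : Q.left.Opens := ⟨(⋃ i, C i)ᶜ, (isClosed_iUnion_of_finite hCc).isOpen_compl⟩
    have hz₀O : z₀ ∈ O := fun h => by
      obtain ⟨i, hi⟩ := Set.mem_iUnion.1 h
      exact hz₀ i hi
    let T : Over S := opSub Q O
    let incl : T ⟶ Q := opι Q O
    have hincl : ∀ (t : T.left) (i : Fin (n + 1)), incl.left t ∉ Set.range (s i).left := by
      intro t i hti
      exact t.2 (Set.mem_iUnion.2 ⟨⟨i⟩, hti⟩)
    let a : Fin (n + 2) → (T ⟶ U) :=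
      Fin.snoc (α := fun _ => T ⟶ U) (fun i => incl ≫ q₁ ≫ ι ≫ pr i) (incl ≫ q₂)
    have ha1 : ∀ i : Fin (n + 1), a (Fin.castSucc i) = incl ≫ q₁ ≫ ι ≫ pr i := fun i =>
      Fin.snoc_castSucc (α := fun _ => T ⟶ U) _ _ i
    have ha2 : a (Fin.last (n + 1)) = incl ≫ q₂ := Fin.snoc_last (α := fun _ => T ⟶ U) _ _
    have hcommon : ∀ k, (yon S).map (a k) ≫ p = (yon S).map (incl ≫ q₁) ≫ w := by
      intro k
      refine Fin.lastCases ?_ (fun i => ?_) k
      · rw [ha2, Functor.map_comp, Category.assoc, sq.w, Functor.map_comp, Category.assoc]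
      · rw [ha1, ← Category.assoc, ← Category.assoc, Functor.map_comp, Functor.map_comp,
          Category.assoc, Category.assoc, hW.compat i 0]
        rfl
    have havoid : ∀ (i : Fin (n + 1)) (T' : Over S) (c : T' ⟶ T),
        c ≫ incl ≫ q₁ ≫ ι ≫ pr i = c ≫ incl ≫ q₂ → IsEmpty T'.left := by
      intro i T' c hc
      refine ⟨fun t' => ?_⟩
      have hx := hsheet i T' (c ≫ incl) (by simpa only [Category.assoc] using hc.symm)
      apply hincl (c.left t') i
      have : (c ≫ incl).left t' ∈ Set.range (s i).left := by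
        rw [hx]; exact ⟨_, rfl⟩
      exact this
    obtain ⟨l, hl⟩ := hW'.lift T a (fun i j => (hcommon i).trans (hcommon j).symm) (by
      intro i j
      refine Fin.lastCases ?_ (fun i => ?_) i
      · refine Fin.lastCases ?_ (fun j => ?_) j
        · intro h; exact absurd rfl h
        · intro _ T' c hc
          rw [ha1, ha2] at hc
          exact havoid j T' c hc.symm
      · refine Fin.lastCases ?_ (fun j => ?_) j
        · intro _ T' c hc
          rw [ha1, ha2] at hc
          exact havoid i T' c hc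
        · intro hij T' c hc
          rw [ha1, ha1] at hc
          refine hW.distinct i j (fun h => hij (by rw [h])) T' (c ≫ incl ≫ q₁ ≫ ι) ?_
          simpa only [Category.assoc] using hc)
    have hlm : l ≫ m = incl ≫ q₁ ≫ ι := by
      apply hW.ext
      intro i
      rw [Category.assoc, hm i, hl, ha1]
      simp only [Category.assoc]
    have h1 : (incl ≫ q₁ ≫ ι).left ⟨z₀, hz₀O⟩ ∈ Set.range m.left := by
      rw [← hlm]; exact ⟨_, rfl⟩
    have h2 : (incl ≫ q₁ ≫ ι).left ⟨z₀, hz₀O⟩ ∈ (Set.range m.left)ᶜ := by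
      rw [← hιr]; exact ⟨_, rfl⟩
    exact h2 h1
  -- monomorphy on the sheets
  have hmono : ∀ i (T : Over S) (a b : T ⟶ Q), (∀ t, a.left t ∈ C i) → (∀ t, b.left t ∈ C i) →
      a ≫ q₁ = b ≫ q₁ → a = b := by
    intro i T a b ha hb hab
    have key : ∀ x : T ⟶ Q, (∀ t, x.left t ∈ C i) → x = (x ≫ q₁) ≫ s i.down := by
      intro x hx
      haveI := hso i.down
      have hr : Set.range x.left ⊆ Set.range (s i.down).left := by
        rintro _ ⟨t, rfl⟩; exact hx t
      have hfac : IsOpenImmersion.lift (s i.down).left x.left hr ≫ (s i.down).left = x.left :=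
        IsOpenImmersion.lift_fac _ _ _
      apply Over.OverMorphism.ext
      rw [Over.comp_left, Over.comp_left]
      calc x.left = IsOpenImmersion.lift (s i.down).left x.left hr ≫ (s i.down).left := hfac.symm
        _ = (IsOpenImmersion.lift (s i.down).left x.left hr ≫ (s i.down).left ≫ q₁.left) ≫
            (s i.down).left := by rw [hs1' i.down, Category.comp_id]
        _ = (x.left ≫ q₁.left) ≫ (s i.down).left := by rw [← Category.assoc, hfac]
    rw [key a ha, key b hb, hab]
  have hgood := good_of_sheets hX p hpe hpsurj hpsep w hwqc hZqs q₁ q₂ sq C hCo hCc hcov hmono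
  refine hgood.mono ?_
  rintro x ⟨⟨w₀, rfl⟩, hx⟩
  have hw₀ : w₀ ∈ Set.range ι.left := by
    rw [hιr]
    rintro ⟨w', rfl⟩
    apply hx
    refine ⟨w', ?_⟩
    rw [← ofPt_comp_yon_map]
    congr 1
    unfold IsConf.g
    rw [← Category.assoc, ← Functor.map_comp, hm 0, Fin.castSucc_zero]
  obtain ⟨z, rfl⟩ := hw₀
  exact ⟨z, ofPt_comp_yon_map _ _ _⟩

end Groth.Agent.Helper15.IntCov
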