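import Mathlib
import Groth.Agent.Lib.Helper15.IntCov4

/-!
# Integral covers by schemes, V: unions of pieces, and the cover
-/

set_option autoImplicit false
universe u
open CategoryTheory CategoryTheory.Limits AlgebraicGeometry MorphismProperty Opposite
open AlgSp

namespace Groth.Agent.Helper15.IntCov

open Groth.Agent.Helper15 Groth.Agent.Helper15.Strat Groth.Agent.Helper15.Norm

variable {S : Scheme.{u}}

/-- A morphism which is integral on two complementary open subschemes is integral. -/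
theorem isIntegralHom_of_isCompl {V' T : Scheme.{u}} (h : V' ⟶ T) (O₁ O₂ : V'.Opens)
    (hc : IsCompl O₁ O₂) (h1 : IsIntegralHom (O₁.ι ≫ h)) (h2 : IsIntegralHom (O₂.ι ≫ h)) :
    IsIntegralHom h := by
  have hc' : IsCompl O₁.ι.opensRange O₂.ι.opensRange := by
    rw [Scheme.Opens.opensRange_ι, Scheme.Opens.opensRange_ι]; exact hc
  obtain ⟨hcol⟩ := nonempty_isColimit_binaryCofanMk_of_isCompl O₁.ι O₂.ι hc'
  haveI := h1
  haveI := h2
  let e : ((O₁ : Scheme.{u}) ⨿ (O₂ : Scheme.{u})) ≅ V' :=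
    (coprodIsCoprod (O₁ : Scheme.{u}) (O₂ : Scheme.{u})).coconePointUniqueUpToIso hcol
  have he1 : coprod.inl ≫ e.hom = O₁.ι :=
    (coprodIsCoprod (O₁ : Scheme.{u}) (O₂ : Scheme.{u})).comp_coconePointUniqueUpToIso_hom hcol
      ⟨WalkingPair.left⟩
  have he2 : coprod.inr ≫ e.hom = O₂.ι :=
    (coprodIsCoprod (O₁ : Scheme.{u}) (O₂ : Scheme.{u})).comp_coconePointUniqueUpToIso_hom hcol
      ⟨WalkingPair.right⟩
  have heq : e.hom ≫ h = coprod.desc (O₁.ι ≫ h) (O₂.ι ≫ h) := by
    apply coprod.hom_ext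
    · rw [← Category.assoc, he1, coprod.inl_desc]
    · rw [← Category.assoc, he2, coprod.inr_desc]
  have : IsIntegralHom (e.hom ≫ h) := by
    rw [heq]; infer_instance
  exact (MorphismProperty.cancel_left_of_respectsIso @IsIntegralHom e.hom h).1 this

/-- Open subschemes of an open subscheme. -/
theorem exists_factor_open {A V : Over S} (j : A ⟶ V) (hj : IsOpenImmersion j.left)
    (W₁ : A.left.Opens) :
    ∃ (W : V.left.Opens) (κ : opSub V W ⟶ opSub A W₁), (∀ a ∈ W₁, j.left a ∈ W) ∧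
      κ ≫ opι A W₁ ≫ j = opι V W := by
  haveI := hj
  let W : V.left.Opens := j.left ''ᵁ W₁
  haveI : IsOpenImmersion (W₁.ι ≫ j.left) := inferInstance
  have hr : Set.range W.ι ⊆ Set.range (W₁.ι ≫ j.left) := by
    rw [Scheme.Opens.range_ι]
    rintro _ ⟨a, ha, rfl⟩
    exact ⟨⟨a, ha⟩, rfl⟩
  refine ⟨W, Over.homMk (IsOpenImmersion.lift (W₁.ι ≫ j.left) W.ι hr) ?_, ?_, ?_⟩
  · change IsOpenImmersion.lift (W₁.ι ≫ j.left) W.ι hr ≫ W₁.ι ≫ A.hom = W.ι ≫ V.hom
    rw [← CategoryTheory.Over.w j, ← Category.assoc, ← Category.assoc, Category.assoc _ W₁.ι,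
      IsOpenImmersion.lift_fac]
  · intro a ha
    exact ⟨a, ha, rfl⟩
  · apply Over.OverMorphism.ext
    change IsOpenImmersion.lift (W₁.ι ≫ j.left) W.ι hr ≫ W₁.ι ≫ j.left = W.ι
    exact IsOpenImmersion.lift_fac _ _ _

/-- The base change of a piece of a chart `c` on a clopen piece. -/
theorem isIntegralHom_piece {X : Sp S} {V A : Over S} (c : (yon S).obj V ⟶ X) (j : A ⟶ V)
    (hj : IsOpenImmersion j.left) (hg : RepWith @IsIntegralHom ((yon S).map j ≫ c))
    {T VT : Over S} (b : (yon S).obj T ⟶ X) (f₀ : VT ⟶ V) (snd : VT ⟶ T)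
    (sqT : IsPullback ((yon S).map f₀) ((yon S).map snd) c b) :
    IsIntegralHom ((f₀.left ⁻¹ᵁ j.left.opensRange).ι ≫ snd.left) := by
  haveI := hj
  let O : VT.left.Opens := f₀.left ⁻¹ᵁ j.left.opensRange
  have hr : Set.range (O.ι ≫ f₀.left) ⊆ Set.range j.left := by
    rintro _ ⟨x, rfl⟩
    exact x.2
  let κ₀ : (O : Scheme.{u}) ⟶ A.left := IsOpenImmersion.lift j.left (O.ι ≫ f₀.left) hr
  have hκ₀ : κ₀ ≫ j.left = O.ι ≫ f₀.left := IsOpenImmersion.lift_fac _ _ _
  let κ : opSub VT O ⟶ A := Over.homMk κ₀ (by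
    change κ₀ ≫ A.hom = O.ι ≫ VT.hom
    rw [← CategoryTheory.Over.w j, ← Category.assoc, hκ₀, Category.assoc, CategoryTheory.Over.w])
  have h0 : IsPullback κ₀ O.ι j.left f₀.left :=
    IsOpenImmersion.isPullback κ₀ O.ι j.left f₀.left hκ₀.symm (by
      rw [Scheme.Opens.opensRange_ι])
  have h1 : IsPullback κ (opι VT O) j f₀ :=
    IsPullback.of_map_of_faithful (Over.forget S) h0
  have h2 := (h1.map (yon S)).paste_vert sqT
  rw [← Functor.map_comp] at h2
  have := hg.property b _ _ h2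
  exact this

theorem Good.union {X : Sp S} (hX : IsAlgSpace X) {U : Over S} {p : (yon S).obj U ⟶ X}
    {Ω₁ Ω₂ : Set (Points X)} (h₁ : Good p Ω₁) (h₂ : Good p Ω₂) : Good p (Ω₁ ∪ Ω₂) := by
  obtain ⟨Y₁, g₁, hg₁, hΩ₁, hl₁⟩ := h₁
  obtain ⟨Y₂, g₂, hg₂, hΩ₂, hl₂⟩ := h₂
  obtain ⟨V, inl, inr, c, hl, hr, hcompl, hc1, hc2, -, -⟩ := exists_coprod_chart hX Y₁ Y₂ g₁ g₂
  haveI := hl
  haveI := hr
  refine ⟨V, c, ?_, ?_, ?_⟩
  · have hrep : Representable c := hX.representable_from_yon c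
    refine ⟨hrep, fun T VT b fst snd sqT => ?_⟩
    obtain ⟨f₀, rfl⟩ : ∃ f₀ : VT ⟶ V, (yon S).map f₀ = fst :=
      ⟨(yon S).preimage fst, Functor.map_preimage _ _⟩
    have i1 := isIntegralHom_piece c inl hl (by rw [hc1]; exact hg₁) b f₀ snd sqT
    have i2 := isIntegralHom_piece c inr hr (by rw [hc2]; exact hg₂) b f₀ snd sqT
    refine isIntegralHom_of_isCompl snd.left _ _ ?_ i1 i2
    have hd := hcompl.disjoint
    have hcd := hcompl.codisjoint
    rw [isCompl_iff]
    constructor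
    · rw [disjoint_iff]
      ext x
      simp only [TopologicalSpace.Opens.coe_inf, Scheme.Hom.coe_preimage, Set.mem_inter_iff,
        Set.mem_preimage, Scheme.Hom.coe_opensRange, TopologicalSpace.Opens.coe_bot,
        Set.mem_empty_iff_false, iff_false, not_and]
      intro hx1 hx2
      exact Set.disjoint_left.1 hd hx1 hx2
    · rw [codisjoint_iff]
      ext x
      simp only [TopologicalSpace.Opens.coe_sup, Scheme.Hom.coe_preimage, Set.mem_union,
        Set.mem_preimage, Scheme.Hom.coe_opensRange, TopologicalSpace.Opens.coe_top, Set.mem_univ,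
        iff_true]
      have : f₀.left x ∈ Set.range inl.left ∪ Set.range inr.left := by
        have h := hcompl.sup_eq_top
        change Set.range inl.left ∪ Set.range inr.left = Set.univ at h
        rw [h]; trivial
      exact this
  · rintro x (hx | hx)
    · obtain ⟨y, rfl⟩ := hΩ₁ hx
      exact ⟨inl.left y, by rw [← ofPt_comp_yon_map, hc1]⟩
    · obtain ⟨y, rfl⟩ := hΩ₂ hx
      exact ⟨inr.left y, by rw [← ofPt_comp_yon_map, hc2]⟩
  · intro y
    have hy : y ∈ Set.range inl.left ∪ Set.range inr.left := by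
      have h := hcompl.sup_eq_top
      change Set.range inl.left ∪ Set.range inr.left = Set.univ at h
      rw [h]; trivial
    rcases hy with ⟨y₁, rfl⟩ | ⟨y₂, rfl⟩
    · obtain ⟨W₁, c₁, hy₁, hc₁⟩ := hl₁ y₁
      obtain ⟨W, κ, hW, hκ⟩ := exists_factor_open inl hl W₁
      refine ⟨W, κ ≫ c₁, hW y₁ hy₁, ?_⟩
      rw [Functor.map_comp, Category.assoc, hc₁, ← hκ, ← hc1]
      simp only [Functor.map_comp, Category.assoc]
    · obtain ⟨W₂, c₂, hy₂, hc₂⟩ := hl₂ y₂
      obtain ⟨W, κ, hW, hκ⟩ := exists_factor_open inr hr W₂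
      refine ⟨W, κ ≫ c₂, hW y₂ hy₂, ?_⟩
      rw [Functor.map_comp, Category.assoc, hc₂, ← hκ, ← hc2]
      simp only [Functor.map_comp, Category.assoc]

/-- An etale surjective chart of a quasi-compact sheaf can be refined to an affine one. -/
theorem exists_affine_chart_through {X : Sp S} (hqc : IsQuasiCompactSp X) {U : Over S}
    (b : (yon S).obj U ⟶ X) (hb : RepWith @Etale b) (hbs : RepWith @Surjective b) :
    ∃ (U₀ : Over S) (i : U₀ ⟶ U), IsAffine U₀.left ∧ RepWith @Etale ((yon S).map i ≫ b) ∧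
      RepWith @Surjective ((yon S).map i ≫ b) := by
  haveI := compactSpace_points_of_isQuasiCompactSp hqc
  have hopen := isOpenMap_ofPt_of_etale b hb
  have hsurj := surjective_ofPt b hbs
  let I := U.left.affineOpens
  have hcover : (Set.univ : Set (Points X)) ⊆ ⋃ O : I, Points.ofPt b '' (O.1 : Set U.left) := by
    intro x _
    obtain ⟨v, rfl⟩ := hsurj x
    obtain ⟨_, ⟨O, hO, rfl⟩, hvO, -⟩ :=
      (U.left.isBasis_affineOpens).exists_subset_of_mem_open (Set.mem_univ v) isOpen_univ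
    exact Set.mem_iUnion.2 ⟨⟨O, hO⟩, ⟨v, hvO, rfl⟩⟩
  obtain ⟨t, ht⟩ := isCompact_univ.elim_finite_subcover
    (fun O : I => Points.ofPt b '' (O.1 : Set U.left)) (fun O => hopen _ O.1.isOpen) hcover
  let V' : U.left.Opens := ⨆ O ∈ t, (O : I).1
  have hV'c : IsCompact (V' : Set U.left) := by
    have : (V' : Set U.left) = ⋃ O ∈ t, ((O : I).1 : Set U.left) := by
      simp [V']
    rw [this]
    exact t.isCompact_biUnion (fun O _ => O.2.isCompact)
  haveI : CompactSpace (opSub U V').left := isCompact_iff_compactSpace.1 hV'c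
  obtain ⟨A, j, hA, hje, hjs⟩ := exists_affine_etale_surjective_of_compactSpace (opSub U V').left
  let U₀ : Over S := Over.mk (j ≫ (opSub U V').hom)
  let j' : U₀ ⟶ opSub U V' := Over.homMk j rfl
  have hie : Etale (j' ≫ opι U V').left := by
    rw [Over.comp_left]
    haveI : Etale j'.left := hje
    haveI : IsOpenImmersion (opι U V').left := isOpenImmersion_opι U V'
    infer_instance
  have he : RepWith @Etale ((yon S).map (j' ≫ opι U V') ≫ b) :=
    (RepWith @Etale).comp_mem _ _ ((repWith_yon_map_iff _ _).2 hie) hb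
  refine ⟨U₀, j' ≫ opι U V', hA, he, ?_⟩
  refine repWith_surjective_of_isSurjectiveMor _ he.rep (fun x => ?_)
  have hx := ht (Set.mem_univ x)
  simp only [Set.mem_iUnion] at hx
  obtain ⟨O, hOt, v, hvO, rfl⟩ := hx
  have hvV' : v ∈ V' := by
    simp only [V', TopologicalSpace.Opens.mem_iSup]
    exact ⟨O, hOt, hvO⟩
  obtain ⟨a, ha⟩ := hjs.surj (⟨v, hvV'⟩ : (opSub U V').left)
  refine ⟨Points.ofScheme U₀ a, ?_⟩
  rw [← Points.ofPt_eq_map_ofScheme, ofPt_comp_yon_map]
  congr 1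
  change (opι U V').left (j a) = v
  rw [ha]
  rfl

/-- **Integral surjective covers by schemes** factoring Zariski locally through a given chart. -/
theorem exists_integral_cover [QuasiSeparatedSpace ↥S] {X : Sp S} (hX : IsAlgSpace X)
    (hqc : IsQuasiCompactSp X) (hqs : IsQuasiSeparatedSp X) {U : Over S}
    (b : (yon S).obj U ⟶ X) (hb : RepWith @Etale b) (hbs : RepWith @Surjective b) :
    ∃ (Y : Over S) (g : (yon S).obj Y ⟶ X), RepWith @IsIntegralHom g ∧ RepWith @Surjective g ∧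
      ∀ y : Y.left, ∃ (W : Y.left.Opens) (c : opSub Y W ⟶ U), y ∈ W ∧
        (yon S).map c ≫ b = (yon S).map (opι Y W) ≫ g := by
  obtain ⟨U₀, i, hU₀, hpe, hps⟩ := exists_affine_chart_through hqc b hb hbs
  haveI := hU₀
  set p : (yon S).obj U₀ ⟶ X := (yon S).map i ≫ b with hp
  have hU : IsSeparated U₀.hom := inferInstance
  have hUq : QuasiCompact U₀.hom := quasiCompact_of_compactSpace _
  choose W pr hW using fun n => exists_isConf p hX hqs hpe hU hUq n
  obtain ⟨N, hN⟩ := exists_isEmpty_conf hX hqs hpe hU hUq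
  let Ω : ℕ → Set (Points X) := fun n => Set.range (Points.ofPt (hW n).g)
  have hΩ0 : Ω 0 = Set.univ := by
    apply Set.eq_univ_of_forall
    intro x
    obtain ⟨u, rfl⟩ := surjective_ofPt p hps x
    obtain ⟨l, hl⟩ := (hW 0).lift U₀ (fun _ => 𝟙 U₀) (fun _ _ => rfl)
      (fun a b hab => absurd ((Fin.eq_zero a).trans (Fin.eq_zero b).symm) hab)
    refine ⟨l.left u, ?_⟩
    rw [← ofPt_comp_yon_map]
    congr 1
    unfold IsConf.g
    rw [← Category.assoc, ← Functor.map_comp, hl 0, CategoryTheory.Functor.map_id,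
      Category.id_comp]
  have hΩN : Ω N = ∅ := by
    apply Set.eq_empty_of_forall_notMem
    rintro _ ⟨w, -⟩
    exact (hN (W N) (pr N) (hW N)).false w
  have hstr : ∀ n, Good p (Ω n \ Ω (n + 1)) := fun n =>
    good_stratum hX hqs p hpe hps hU (hW n) (hW (n + 1))
  have hk : ∀ k, Good p (Ω 0 \ Ω k) := by
    intro k
    induction k with
    | zero => exact (hstr 0).mono (by rw [Set.diff_self]; exact Set.empty_subset _)
    | succ k ih =>
      refine (ih.union hX (hstr k)).mono ?_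
      rintro x ⟨hx0, hxk⟩
      by_cases hx : x ∈ Ω k
      · exact Or.inr ⟨hx, hxk⟩
      · exact Or.inl ⟨hx0, hx⟩
  obtain ⟨Y₀, g, hint, hsurj, hloc⟩ := hk N
  rw [hΩ0, hΩN, Set.diff_empty] at hsurj
  refine ⟨Y₀, g, hint, ?_, ?_⟩
  · refine repWith_surjective_of_isSurjectiveMor g hint.rep (fun x => ?_)
    obtain ⟨y, hy⟩ := hsurj (Set.mem_univ x)
    exact ⟨Points.ofScheme Y₀ y, by rw [← Points.ofPt_eq_map_ofScheme]; exact hy⟩
  · intro y
    obtain ⟨W', c, hy, hc⟩ := hloc y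
    refine ⟨W', c ≫ i, hy, ?_⟩
    rw [Functor.map_comp, Category.assoc, ← hp, hc]

end Groth.Agent.Helper15.IntCov
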