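import Mathlib
import Groth.Agent.Lib.Helper15.IntCov5

/-!
# Integral covers, finite étale over a dense open, II: pieces with their normalization data
-/

set_option autoImplicit false
universe u
open CategoryTheory CategoryTheory.Limits AlgebraicGeometry MorphismProperty Opposite
open AlgSp

namespace Groth.Agent.Helper15.IntCovFE

open Groth.Agent.Helper15 Groth.Agent.Helper15.Strat Groth.Agent.Helper15.Norm
  Groth.Agent.Helper15.IntCov

variable {S : Scheme.{u}}

section sheets

variable {X : Sp S} (hX : IsAlgSpace X) {U : Over S} (p : (yon S).obj U ⟶ X)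
  (hpe : RepWith @Etale p) (hpsurj : RepWith @Surjective p) (hpsep : RepWith @IsSeparated p)
  {Z : Over S} (w : (yon S).obj Z ⟶ X) (hwqc : IsQuasiCompactMor w)
  (hZqs : IsQuasiSeparatedSp ((yon S).obj Z))
  {Q : Over S} (q₁ : Q ⟶ Z) (q₂ : Q ⟶ U)
  (sq : IsPullback ((yon S).map q₂) ((yon S).map q₁) p w)

include hX hpe hpsurj hpsep hwqc hZqs sq in
/-- Variant of `good_of_sheets` which remembers that the cover is a normalization. -/
theorem ngood_of_sheets {ι : Type u} [Finite ι] (C : ι → Set Q.left)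
    (hCo : ∀ i, IsOpen (C i)) (hCc : ∀ i, IsClosed (C i)) (hcov : ∀ z, ∃ i, z ∈ C i)
    (hmono : ∀ i (T : Over S) (a b : T ⟶ Q), (∀ t, a.left t ∈ C i) → (∀ t, b.left t ∈ C i) →
      a ≫ q₁ = b ≫ q₁ → a = b) :
    ∃ (Y₀ : Over S) (g : (yon S).obj Y₀ ⟶ X) (f'' : (yon S).obj Z ⟶ (yon S).obj Y₀),
      RepWith @IsIntegralHom g ∧ IsSNorm w g f'' ∧
      ∀ y : Y₀.left, ∃ (W : Y₀.left.Opens) (c : opSub Y₀ W ⟶ U), y ∈ W ∧
        (yon S).map c ≫ p = (yon S).map (opι Y₀ W) ≫ g := by
  have hwqs : IsQuasiSeparatedMor w := repWith_diagonal_of_repWith_diag w hZqs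
  obtain ⟨Y, ν, f', hY, hs⟩ := exists_isSNorm hX w hwqc hwqs
  have hνr : RepWith @IsIntegralHom ν :=
    repWith_of_affRep ν ((isIntegralMor_iff_affRep ν).1 hs.2.1)
  have hνqs : IsQuasiSeparatedMor ν :=
    (isQuasiSeparatedMor_iff_repWith hY hX ν hνr.rep).2
      (repWith_mono isIntegralHom_le_quasiSeparated hνr)
  have hf'qc : IsQuasiCompactMor f' :=
    isQuasiCompactMor_of_comp f' ν (by rw [hs.1]; exact hwqc) hνqs
  have hf'qs : IsQuasiSeparatedMor f' := repWith_diagonal_of_repWith_diag f' hZqs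
  obtain ⟨E', ε, c, hεo, hcε, hεcov⟩ := exists_open_sheets hX p hpe hpsep w hY ν f' hs hf'qc hf'qs
    q₁ q₂ sq C hCo hCc hcov hmono
  have hcov' : ∀ y : Points Y, ∃ i, y ∈ Set.range (Points.map (ε i)) := by
    intro y
    obtain ⟨i, hi⟩ := hεcov y (surjective_ofPt p hpsurj _)
    exact ⟨i, by rw [range_map_yon]; exact hi⟩
  obtain ⟨V, e, j, hjo, hje, hjcov⟩ := exists_rep_of_openCover hεo hcov'
  refine ⟨V, e.hom ≫ ν, f' ≫ e.inv, ?_, ?_, ?_⟩
  · exact (RepWith @IsIntegralHom).comp_mem _ _ (repWith_of_isIso _ e.hom) hνr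
  · exact hs.of_iso e rfl (by rw [Category.assoc, e.inv_hom_id, Category.comp_id])
  · intro y
    obtain ⟨i, u, hu⟩ := hjcov y
    haveI := hjo i
    let W : V.left.Opens := (j i).left.opensRange
    have hr : Set.range W.ι ⊆ Set.range (j i).left := by
      rw [Scheme.Opens.range_ι]
      exact subset_rfl
    let κ : opSub V W ⟶ E' i := Over.homMk (IsOpenImmersion.lift (j i).left W.ι hr) (by
      change IsOpenImmersion.lift (j i).left W.ι hr ≫ (E' i).hom = W.ι ≫ V.hom
      rw [← CategoryTheory.Over.w (j i), ← Category.assoc, IsOpenImmersion.lift_fac])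
    have hκ : κ ≫ j i = opι V W := by
      apply Over.OverMorphism.ext
      change IsOpenImmersion.lift (j i).left W.ι hr ≫ (j i).left = W.ι
      exact IsOpenImmersion.lift_fac _ _ _
    refine ⟨W, κ ≫ c i, ⟨u, hu⟩, ?_⟩
    rw [Functor.map_comp, Category.assoc, hcε i, ← hje i, ← hκ, Functor.map_comp]
    simp only [Category.assoc]

end sheets

section piece

variable [QuasiSeparatedSpace ↥S] {X : Sp S} (hX : IsAlgSpace X) (hqs : IsQuasiSeparatedSp X)
  {U : Over S} (p : (yon S).obj U ⟶ X)
  (hpe : RepWith @Etale p) (hpsurj : RepWith @Surjective p) (hU : IsSeparated U.hom)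
  {n : ℕ} {W : Over S} {pr : Fin (n + 1) → (W ⟶ U)} (hW : IsConf p n W pr)
  {W' : Over S} {pr' : Fin (n + 2) → (W' ⟶ U)} (hW' : IsConf p (n + 1) W' pr')

include hX hqs hpe hpsurj hU hW hW' in
/-- **A quasi-compact piece of a configuration space which avoids the next configuration space
is dominated by its normalization, a scheme factoring through the chart Zariski locally.** -/
theorem ngood_piece (m : W' ⟶ W) (hm : ∀ i, m ≫ pr i = pr' (Fin.castSucc i)) {Z : Over S}
    (ι : Z ⟶ W) (hdisj : ∀ z, ι.left z ∉ Set.range m.left) [CompactSpace Z.left]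
    (hZsep : IsSeparated Z.hom) :
    ∃ (Y₀ : Over S) (g : (yon S).obj Y₀ ⟶ X) (f'' : (yon S).obj Z ⟶ (yon S).obj Y₀),
      RepWith @IsIntegralHom g ∧ IsSNorm ((yon S).map ι ≫ hW.g) g f'' ∧
      ∀ y : Y₀.left, ∃ (W₁ : Y₀.left.Opens) (c : opSub Y₀ W₁ ⟶ U), y ∈ W₁ ∧
        (yon S).map c ≫ p = (yon S).map (opι Y₀ W₁) ≫ g := by
  classical
  have hpsep := repWith_isSeparated_chart p hX hpe hU
  haveI := hW.etale
  haveI := hW.sep
  haveI := hW.compact
  let w : (yon S).obj Z ⟶ X := (yon S).map ι ≫ hW.g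
  have hZqc : IsQuasiCompactSp ((yon S).obj Z) := (isQuasiCompactSp_yon_iff Z).2 inferInstance
  have hwqc : IsQuasiCompactMor w := isQuasiCompactMor_of_quasiCompact_of_quasiSeparated w hZqc hqs
  have hZqs : IsQuasiSeparatedSp ((yon S).obj Z) := by
    unfold IsQuasiSeparatedSp
    rw [repWith_diag_yon_iff]
    haveI := hZsep
    infer_instance
  -- the pullback of the chart
  have hrep := hpe.rep
  let Q := hrep.pullback w
  let q₁ : Q ⟶ Z := hrep.snd w
  let q₂ : Q ⟶ U := hrep.fst' w
  have sq : IsPullback ((yon S).map q₂) ((yon S).map q₁) p w := hrep.isPullback' w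
  haveI hq₁e : Etale q₁.left := hpe.property_snd w
  haveI hq₁s : IsSeparated q₁.left := hpsep.property_snd w
  -- the sheets
  have hcomp : ∀ i, (yon S).map (ι ≫ pr i) ≫ p = 𝟙 _ ≫ w := by
    intro i
    rw [Category.id_comp, Functor.map_comp, Category.assoc, hW.compat i 0]
    rfl
  have hs : ∀ i, ∃ s : Z ⟶ Q, s ≫ q₂ = ι ≫ pr i ∧ s ≫ q₁ = 𝟙 Z := by
    intro i
    refine ⟨(yon S).preimage (sq.lift _ _ (hcomp i)), ?_, ?_⟩
    · apply (yon S).map_injective
      rw [Functor.map_comp, Functor.map_preimage, sq.lift_fst]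
    · apply (yon S).map_injective
      rw [Functor.map_comp, Functor.map_preimage, sq.lift_snd, CategoryTheory.Functor.map_id]
  choose s hs2 hs1 using hs
  have hs1' : ∀ i, (s i).left ≫ q₁.left = 𝟙 _ := fun i => by
    rw [← Over.comp_left, hs1]; rfl
  have hse : ∀ i, Etale (s i).left := fun i => by
    haveI : Etale ((s i).left ≫ q₁.left) := by rw [hs1']; infer_instance
    exact Etale.of_comp (s i).left q₁.left
  have hsm : ∀ i, Mono (s i).left := fun i => mono_of_mono_fac (hs1' i)
  have hso : ∀ i, IsOpenImmersion (s i).left := fun i => by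
    haveI := hse i
    haveI := hsm i
    exact IsOpenImmersion.of_flat_of_mono (s i).left
  have hsc : ∀ i, IsClosedImmersion (s i).left := fun i => by
    haveI : IsClosedImmersion ((s i).left ≫ q₁.left) := by rw [hs1']; infer_instance
    exact IsClosedImmersion.of_comp (s i).left q₁.left
  -- a point of `Q` whose two coordinates agree lies on the sheet
  have hsheet : ∀ (i : Fin (n + 1)) (T : Over S) (x : T ⟶ Q), x ≫ q₂ = x ≫ q₁ ≫ ι ≫ pr i →
      x = (x ≫ q₁) ≫ s i := by
    intro i T x hx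
    apply (yon S).map_injective
    apply sq.hom_ext
    · rw [← Functor.map_comp, ← Functor.map_comp, Category.assoc, hs2, hx, Category.assoc]
    · rw [← Functor.map_comp, ← Functor.map_comp, Category.assoc, hs1, Category.comp_id]
  let C : ULift.{u} (Fin (n + 1)) → Set Q.left := fun i => Set.range (s i.down).left
  have hCo : ∀ i, IsOpen (C i) := fun i => (hso i.down).base_open.isOpen_range
  have hCc : ∀ i, IsClosed (C i) := fun i => (s i.down).left.isClosedEmbedding.isClosed_range
  -- the sheets cover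
  have hcov : ∀ z : Q.left, ∃ i, z ∈ C i := by
    by_contra hne
    push Not at hne
    obtain ⟨z₀, hz₀⟩ := hne
    let O : Q.left.Opens := ⟨(⋃ i, C i)ᶜ, (isClosed_iUnion_of_finite hCc).isOpen_compl⟩
    have hz₀O : z₀ ∈ O := fun h => by
      obtain ⟨i, hi⟩ := Set.mem_iUnion.1 h
      exact hz₀ i hi
    let T : Over S := opSub Q O
    let incl : T ⟶ Q := opι Q O
    have hincl : ∀ (t : T.left) (i : Fin (n + 1)), incl.left t ∉ Set.range (s i).left := by
      intro t i hti
      exact t.2 (Set.mem_iUnion.2 ⟨⟨i⟩, hti⟩)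
    let a : Fin (n + 2) → (T ⟶ U) :=
      Fin.snoc (α := fun _ => T ⟶ U) (fun i => incl ≫ q₁ ≫ ι ≫ pr i) (incl ≫ q₂)
    have ha1 : ∀ i : Fin (n + 1), a (Fin.castSucc i) = incl ≫ q₁ ≫ ι ≫ pr i := fun i =>
      Fin.snoc_castSucc (α := fun _ => T ⟶ U) _ _ i
    have ha2 : a (Fin.last (n + 1)) = incl ≫ q₂ := Fin.snoc_last (α := fun _ => T ⟶ U) _ _
    have hcommon : ∀ k, (yon S).map (a k) ≫ p = (yon S).map (incl ≫ q₁) ≫ w := by
      intro k
      refine Fin.lastCases ?_ (fun i => ?_) k
      · rw [ha2, Functor.map_comp, Category.assoc, sq.w, Functor.map_comp, Category.assoc]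
      · rw [ha1, ← Category.assoc, ← Category.assoc, Functor.map_comp, Functor.map_comp,
          Category.assoc, Category.assoc, hW.compat i 0]
        rfl
    have havoid : ∀ (i : Fin (n + 1)) (T' : Over S) (c : T' ⟶ T),
        c ≫ incl ≫ q₁ ≫ ι ≫ pr i = c ≫ incl ≫ q₂ → IsEmpty T'.left := by
      intro i T' c hc
      refine ⟨fun t' => ?_⟩
      have hx := hsheet i T' (c ≫ incl) (by simpa only [Category.assoc] using hc.symm)
      apply hincl (c.left t') i
      have : (c ≫ incl).left t' ∈ Set.range (s i).left := by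
        rw [hx]; exact ⟨_, rfl⟩
      exact this
    obtain ⟨l, hl⟩ := hW'.lift T a (fun i j => (hcommon i).trans (hcommon j).symm) (by
      intro i j
      refine Fin.lastCases ?_ (fun i => ?_) i
      · refine Fin.lastCases ?_ (fun j => ?_) j
        · intro h; exact absurd rfl h
        · intro _ T' c hc
          rw [ha1, ha2] at hc
          exact havoid j T' c hc.symm
      · refine Fin.lastCases ?_ (fun j => ?_) j
        · intro _ T' c hc
          rw [ha1, ha2] at hc
          exact havoid i T' c hc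
        · intro hij T' c hc
          rw [ha1, ha1] at hc
          refine hW.distinct i j (fun h => hij (by rw [h])) T' (c ≫ incl ≫ q₁ ≫ ι) ?_
          simpa only [Category.assoc] using hc)
    have hlm : l ≫ m = incl ≫ q₁ ≫ ι := by
      apply hW.ext
      intro i
      rw [Category.assoc, hm i, hl, ha1]
      simp only [Category.assoc]
    have h1 : (incl ≫ q₁ ≫ ι).left ⟨z₀, hz₀O⟩ ∈ Set.range m.left := by
      rw [← hlm]; exact ⟨_, rfl⟩
    exact hdisj _ h1
  -- monomorphy on the sheets
  have hmono : ∀ i (T : Over S) (a b : T ⟶ Q), (∀ t, a.left t ∈ C i) → (∀ t, b.left t ∈ C i) →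
      a ≫ q₁ = b ≫ q₁ → a = b := by
    intro i T a b ha hb hab
    have key : ∀ x : T ⟶ Q, (∀ t, x.left t ∈ C i) → x = (x ≫ q₁) ≫ s i.down := by
      intro x hx
      haveI := hso i.down
      have hr : Set.range x.left ⊆ Set.range (s i.down).left := by
        rintro _ ⟨t, rfl⟩; exact hx t
      have hfac : IsOpenImmersion.lift (s i.down).left x.left hr ≫ (s i.down).left = x.left :=
        IsOpenImmersion.lift_fac _ _ _
      apply Over.OverMorphism.ext
      rw [Over.comp_left, Over.comp_left]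
      calc x.left = IsOpenImmersion.lift (s i.down).left x.left hr ≫ (s i.down).left := hfac.symm
        _ = (IsOpenImmersion.lift (s i.down).left x.left hr ≫ (s i.down).left ≫ q₁.left) ≫
            (s i.down).left := by rw [hs1' i.down, Category.comp_id]
        _ = (x.left ≫ q₁.left) ≫ (s i.down).left := by rw [← Category.assoc, hfac]
    rw [key a ha, key b hb, hab]
  exact ngood_of_sheets hX p hpe hpsurj hpsep w hwqc hZqs q₁ q₂ sq C hCo hCc hcov hmono

end piece

end Groth.Agent.Helper15.IntCovFE
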