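import Groth.Agent.Lib.Helper15.NormExist3
import Groth.Agent.Lib.Helper15.AlgSpUnivClosed
import Groth.Agent.Lib.Helper15.AlgSpLim16

/-!
# Extending integral morphisms over quasi-compact opens via normalization
-/

set_option autoImplicit false
universe u
open CategoryTheory CategoryTheory.Limits AlgebraicGeometry MorphismProperty Opposite
open AlgSp

namespace Groth.Agent.Helper15.Norm

variable {S : Scheme.{u}}

theorem isPullback_id_of_mono {C : Type*} [Category C] {Z V Y : C} (π : Z ⟶ V) (j : V ⟶ Y)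
    [Mono j] : IsPullback (𝟙 Z) π (π ≫ j) j := by
  have h1 : IsPullback (𝟙 Z) π π (𝟙 V) := IsPullback.of_horiz_isIso ⟨by simp⟩
  have h2 : IsPullback (𝟙 V) (𝟙 V) j j := (IsKernelPair.id_of_mono j)
  have := h1.paste_vert h2
  simpa using this

/-- An integral morphism is its own relative normalization. -/
theorem isRelNormalization_self {Z V : Sp S} (π : Z ⟶ V) (hπ : IsIntegralMor π) :
    IsRelNormalization π π (𝟙 Z) := by
  refine ⟨Category.id_comp _, hπ, ?_⟩
  intro Z' hZ' π' g' hπ' hg'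
  refine ⟨g', ⟨Category.id_comp _, hg'⟩, ?_⟩
  rintro h ⟨h1, -⟩
  rw [← h1, Category.id_comp]

theorem isAffineMor_of_isIntegralMor {X Y : Sp S} (f : X ⟶ Y) (hf : IsIntegralMor f) :
    IsAffineMor f :=
  (isAffineMor_iff_affRep f).2 (AffRep.mono (fun _ _ g hg => by
    haveI : IsIntegralHom g := hg
    exact (inferInstance : IsAffineHom g)) ((isIntegralMor_iff_affRep f).1 hf))

/-- Extension of an integral morphism over a quasi-compact open subspace. -/
theorem exists_integral_extension {V Y Z : Sp S} (hV : IsAlgSpace V) (hY : IsAlgSpace Y)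
    (hZ : IsAlgSpace Z) (j : V ⟶ Y) (hj : RepWith @IsOpenImmersion j) (hjq : IsQuasiCompactMor j)
    (π : Z ⟶ V) (hπ : IsIntegralMor π) :
    ∃ (Y' : Sp S) (ν : Y' ⟶ Y) (j' : Z ⟶ Y'), IsAlgSpace Y' ∧ IsIntegralMor ν ∧
      IsPullback j' π ν j ∧ IsRelNormalization (π ≫ j) ν j' := by
  haveI : Mono j := mono_of_repWith isOpenImmersion_le_mono _ hj
  have hπaff := isAffineMor_of_isIntegralMor π hπ
  have hπqc : IsQuasiCompactMor π := AlgSpLim.isQuasiCompactMor_of_isAffineMor π hπaff
  have hπqs : IsQuasiSeparatedMor π :=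
    repWith_mono isClosedImmersion_le_quasiCompact (AlgSpLim.isSeparatedMor_of_isAffineMor hZ hV π hπaff)
  have hjqs : IsQuasiSeparatedMor j := isQuasiSeparatedMor_of_mono j
  have hqc : IsQuasiCompactMor (π ≫ j) := isQuasiCompactMor_comp hV hY.diag π j hπqc hjq
  have hqs : IsQuasiSeparatedMor (π ≫ j) :=
    (RepWith (S := S) @QuasiCompact).diagonal.comp_mem _ _ hπqs hjqs
  obtain ⟨N, ν, f', hN, hs⟩ := exists_isSNorm hY (π ≫ j) hqc hqs
  have hjsm : LocP @Smooth j :=
    locP_of_repWith etale_le_smooth j (repWith_mono (fun _ _ g hg => by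
      haveI : IsOpenImmersion g := hg
      exact (inferInstance : Smooth g)) hj)
  have sqG : IsPullback (𝟙 Z) π (π ≫ j) j := isPullback_id_of_mono π j
  have sqN := IsPullback.of_hasPullback ν j
  obtain ⟨f'₁, k2, k1⟩ : ∃ f'₁ : Z ⟶ pullback ν j, f'₁ ≫ pullback.fst ν j = 𝟙 Z ≫ f' ∧
      f'₁ ≫ pullback.snd ν j = π :=
    ⟨pullback.lift f' π hs.1, by rw [pullback.lift_fst, Category.id_comp], pullback.lift_snd _ _ _⟩
  have hn₁ : IsRelNormalization π (pullback.snd ν j) f'₁ :=
    hs.isRelNormalization_baseChange hY hV hjsm sqG sqN k1 k2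
  have hN₁ : IsAlgSpace (pullback ν j) := isAlgSpace_of_isPullback hY.diag hN hV sqN
  obtain ⟨e, he1, he2⟩ := norm_exists_iso (isRelNormalization_self π hπ) hZ hn₁ hN₁
  rw [Category.id_comp] at he1
  haveI : IsIso f'₁ := he1 ▸ e.isIso_hom
  refine ⟨N, ν, f', hN, hs.2.1, ?_, hs.isRelNormalization hY⟩
  have h1 : IsPullback f'₁ π (pullback.snd ν j) (𝟙 V) :=
    IsPullback.of_horiz_isIso ⟨by rw [k1, Category.comp_id]⟩
  have := h1.paste_horiz sqN
  rw [k2, Category.id_comp, Category.id_comp] at this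
  exact this

end Groth.Agent.Helper15.Norm
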