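import Mathlib
import Groth.Agent.Lib.Helper15.IntCovFE2
import Groth.Agent.Lib.Helper15.NormExt
import Groth.Agent.Lib.Helper15.Strat9

/-!
# Integral covers, finite étale over a dense open, III: the finite étale condition
-/

set_option autoImplicit false
universe u
open CategoryTheory CategoryTheory.Limits AlgebraicGeometry MorphismProperty Opposite
open AlgSp

namespace Groth.Agent.Helper15.IntCovFE

open Groth.Agent.Helper15 Groth.Agent.Helper15.Strat Groth.Agent.Helper15.Norm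
  Groth.Agent.Helper15.IntCov

variable {S : Scheme.{u}}

theorem isFinite_le_isIntegralHom :
    (@IsFinite : MorphismProperty Scheme.{u}) ≤ @IsIntegralHom :=
  fun _ _ g hg => by haveI : IsFinite g := hg; exact inferInstance

/-- **The normalization in a source which is finite étale over an open subspace is finite étale
over this open subspace.** -/
theorem fe_core {X : Sp S} (hX : IsAlgSpace X) {G N : Sp S} (hN : IsAlgSpace N) (w : G ⟶ X)
    (ν : N ⟶ X) (f' : G ⟶ N) (hs : IsSNorm w ν f')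
    {U : Sp S} (jU : U ⟶ X) (hj : RepWith @IsOpenImmersion jU)
    {G₂ : Sp S} (hG₂ : IsAlgSpace G₂) (c : G₂ ⟶ G) (z : G₂ ⟶ U) (sqG : IsPullback c z w jU)
    (hzf : RepWith @IsFinite z) (hze : RepWith @Etale z)
    {P : Sp S} (fst : P ⟶ N) (snd : P ⟶ U) (sq : IsPullback fst snd ν jU) :
    RepWith @IsFinite snd ∧ RepWith @Etale snd := by
  have hU : IsAlgSpace U := isAlgSpace_of_isOpenImmersion hX jU hj
  have he : LocP @Smooth jU :=
    locP_smooth_of_isEtaleMor hX jU (isEtaleMor_of_isOpenImmersion jU hj)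
  let f'₂ : G₂ ⟶ P := sq.lift (c ≫ f') z (by rw [Category.assoc, hs.1, sqG.w])
  have h1 : f'₂ ≫ snd = z := sq.lift_snd _ _ _
  have h2 : f'₂ ≫ fst = c ≫ f' := sq.lift_fst _ _ _
  have hn₂ : IsRelNormalization z snd f'₂ :=
    hs.isRelNormalization_baseChange hX hU he sqG sq h1 h2
  have hzi : IsIntegralMor z :=
    (isIntegralMor_iff_affRep z).2 (affRep_of_repWith (repWith_mono isFinite_le_isIntegralHom hzf))
  have hfst : RepWith @IsOpenImmersion fst := (RepWith @IsOpenImmersion).of_isPullback sq.flip hj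
  have hP : IsAlgSpace P := isAlgSpace_of_representable fst hfst.rep hN
  obtain ⟨e, -, e2⟩ := norm_exists_iso hn₂ hP (isRelNormalization_self z hzi) hG₂
  rw [← e2]
  exact ⟨(RepWith @IsFinite).comp_mem _ _ (repWith_of_isIso _ e.hom) hzf,
    (RepWith @Etale).comp_mem _ _ (repWith_of_isIso _ e.hom) hze⟩

/-- The base change of `g` to any scheme over the open subspace `U` is finite étale. -/
def FEOver {X U : Sp S} {Y : Over S} (g : (yon S).obj Y ⟶ X) (jU : U ⟶ X) : Prop :=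
  ∀ (T VT : Over S) (t : (yon S).obj T ⟶ U) (fst : VT ⟶ Y) (snd : VT ⟶ T),
    IsPullback ((yon S).map fst) ((yon S).map snd) g (t ≫ jU) → IsFinite snd.left ∧ Etale snd.left

theorem feOver_of_forall {X U : Sp S} {Y : Over S} {g : (yon S).obj Y ⟶ X} {jU : U ⟶ X}
    (h : ∀ (P : Sp S) (fst : P ⟶ (yon S).obj Y) (snd : P ⟶ U), IsPullback fst snd g jU →
      RepWith @IsFinite snd ∧ RepWith @Etale snd) : FEOver g jU := by
  intro T VT t fst snd sq
  have sqP := IsPullback.of_hasPullback g jU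
  obtain ⟨hf, he⟩ := h _ _ _ sqP
  let l : (yon S).obj VT ⟶ pullback g jU :=
    pullback.lift ((yon S).map fst) ((yon S).map snd ≫ t) (by rw [sq.w, Category.assoc])
  have hl1 : l ≫ pullback.fst g jU = (yon S).map fst := pullback.lift_fst _ _ _
  have hl2 : l ≫ pullback.snd g jU = (yon S).map snd ≫ t := pullback.lift_snd _ _ _
  have sql : IsPullback l ((yon S).map snd) (pullback.snd g jU) t :=
    IsPullback.of_right (by rw [hl1]; exact sq) hl2 sqP
  exact ⟨hf.property t l snd sql, he.property t l snd sql⟩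

theorem FEOver.forall {X U : Sp S} {Y : Over S} {g : (yon S).obj Y ⟶ X} {jU : U ⟶ X}
    (h : FEOver g jU) (hg : Representable g) (P : Sp S) (fst : P ⟶ (yon S).obj Y) (snd : P ⟶ U)
    (sq : IsPullback fst snd g jU) : RepWith @IsFinite snd ∧ RepWith @Etale snd := by
  have hrep : Representable snd := MorphismProperty.of_isPullback (P := Representable) sq hg
  have key : ∀ (T VT : Over S) (t : (yon S).obj T ⟶ U) (fst' : (yon S).obj VT ⟶ P)
      (snd' : VT ⟶ T), IsPullback fst' ((yon S).map snd') snd t →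
      IsFinite snd'.left ∧ Etale snd'.left := by
    intro T VT t fst' snd' sq'
    have hp := sq'.paste_horiz sq
    obtain ⟨f₀, hf₀⟩ := (yon S).map_surjective (fst' ≫ fst)
    exact h T VT t f₀ snd' (by rw [hf₀]; exact hp)
  exact ⟨⟨hrep, fun T VT t fst' snd' sq' => (key T VT t fst' snd' sq').1⟩,
    ⟨hrep, fun T VT t fst' snd' sq' => (key T VT t fst' snd' sq').2⟩⟩

/-- A morphism which is finite on two complementary open subschemes is finite. -/
theorem isFinite_of_isCompl {V' T : Scheme.{u}} (h : V' ⟶ T) (O₁ O₂ : V'.Opens)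
    (hc : IsCompl O₁ O₂) (h1 : IsFinite (O₁.ι ≫ h)) (h2 : IsFinite (O₂.ι ≫ h)) :
    IsFinite h := by
  have hc' : IsCompl O₁.ι.opensRange O₂.ι.opensRange := by
    rw [Scheme.Opens.opensRange_ι, Scheme.Opens.opensRange_ι]; exact hc
  obtain ⟨hcol⟩ := nonempty_isColimit_binaryCofanMk_of_isCompl O₁.ι O₂.ι hc'
  haveI := h1
  haveI := h2
  let e : ((O₁ : Scheme.{u}) ⨿ (O₂ : Scheme.{u})) ≅ V' :=
    (coprodIsCoprod (O₁ : Scheme.{u}) (O₂ : Scheme.{u})).coconePointUniqueUpToIso hcol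
  have he1 : coprod.inl ≫ e.hom = O₁.ι :=
    (coprodIsCoprod (O₁ : Scheme.{u}) (O₂ : Scheme.{u})).comp_coconePointUniqueUpToIso_hom hcol
      ⟨WalkingPair.left⟩
  have he2 : coprod.inr ≫ e.hom = O₂.ι :=
    (coprodIsCoprod (O₁ : Scheme.{u}) (O₂ : Scheme.{u})).comp_coconePointUniqueUpToIso_hom hcol
      ⟨WalkingPair.right⟩
  have heq : e.hom ≫ h = coprod.desc (O₁.ι ≫ h) (O₂.ι ≫ h) := by
    apply coprod.hom_ext
    · rw [← Category.assoc, he1, coprod.inl_desc]
    · rw [← Category.assoc, he2, coprod.inr_desc]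
  have : IsFinite (e.hom ≫ h) := by
    rw [heq]; infer_instance
  exact (MorphismProperty.cancel_left_of_respectsIso @IsFinite e.hom h).1 this

/-- A morphism which is étale on two open subschemes covering the source is étale. -/
theorem etale_of_sup_eq_top {V' T : Scheme.{u}} (h : V' ⟶ T) (O₁ O₂ : V'.Opens)
    (hc : O₁ ⊔ O₂ = ⊤) (h1 : Etale (O₁.ι ≫ h)) (h2 : Etale (O₂.ι ≫ h)) : Etale h := by
  refine IsZariskiLocalAtSource.of_iSup_eq_top (P := @Etale) (fun b : Bool => cond b O₁ O₂) ?_ ?_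
  · rw [iSup_bool_eq]; exact hc
  · rintro (_ | _)
    · exact h2
    · exact h1

/-- The base change of a clopen piece of a chart `c`, as a pullback square. -/
theorem exists_isPullback_piece {X : Sp S} {V A : Over S} (c : (yon S).obj V ⟶ X) (j : A ⟶ V)
    (hj : IsOpenImmersion j.left) {T VT : Over S} (b : (yon S).obj T ⟶ X) (f₀ : VT ⟶ V)
    (snd : VT ⟶ T) (sqT : IsPullback ((yon S).map f₀) ((yon S).map snd) c b) :
    ∃ κ : opSub VT (f₀.left ⁻¹ᵁ j.left.opensRange) ⟶ A,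
      IsPullback ((yon S).map κ) ((yon S).map (opι VT (f₀.left ⁻¹ᵁ j.left.opensRange) ≫ snd))
        ((yon S).map j ≫ c) b := by
  haveI := hj
  let O : VT.left.Opens := f₀.left ⁻¹ᵁ j.left.opensRange
  have hr : Set.range (O.ι ≫ f₀.left) ⊆ Set.range j.left := by
    rintro _ ⟨x, rfl⟩
    exact x.2
  let κ₀ : (O : Scheme.{u}) ⟶ A.left := IsOpenImmersion.lift j.left (O.ι ≫ f₀.left) hr
  have hκ₀ : κ₀ ≫ j.left = O.ι ≫ f₀.left := IsOpenImmersion.lift_fac _ _ _
  let κ : opSub VT O ⟶ A := Over.homMk κ₀ (by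
    change κ₀ ≫ A.hom = O.ι ≫ VT.hom
    rw [← CategoryTheory.Over.w j, ← Category.assoc, hκ₀, Category.assoc, CategoryTheory.Over.w])
  have h0 : IsPullback κ₀ O.ι j.left f₀.left :=
    IsOpenImmersion.isPullback κ₀ O.ι j.left f₀.left hκ₀.symm (by
      rw [Scheme.Opens.opensRange_ι])
  have h1 : IsPullback κ (opι VT O) j f₀ :=
    IsPullback.of_map_of_faithful (Over.forget S) h0
  have h2 := (h1.map (yon S)).paste_vert sqT
  rw [← Functor.map_comp] at h2
  exact ⟨κ, h2⟩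

/-- Pieces dominated by schemes integral over `X`, finite étale over `U`, factoring through the
chart Zariski locally. -/
def Good2 {X U : Sp S} {U₀ : Over S} (p : (yon S).obj U₀ ⟶ X) (jU : U ⟶ X)
    (Ω : Set (Points X)) : Prop :=
  ∃ (Y₀ : Over S) (g : (yon S).obj Y₀ ⟶ X), RepWith @IsIntegralHom g ∧
    Ω ⊆ Set.range (Points.ofPt g) ∧ FEOver g jU ∧
    ∀ y : Y₀.left, ∃ (W : Y₀.left.Opens) (c : opSub Y₀ W ⟶ U₀), y ∈ W ∧
      (yon S).map c ≫ p = (yon S).map (opι Y₀ W) ≫ g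

theorem Good2.mono {X U : Sp S} {U₀ : Over S} {p : (yon S).obj U₀ ⟶ X} {jU : U ⟶ X}
    {Ω Ω' : Set (Points X)} (h : Good2 p jU Ω) (hΩ : Ω' ⊆ Ω) : Good2 p jU Ω' := by
  obtain ⟨Y₀, g, h1, h2, h3, h4⟩ := h
  exact ⟨Y₀, g, h1, hΩ.trans h2, h3, h4⟩

theorem Good2.union {X U : Sp S} (hX : IsAlgSpace X) {U₀ : Over S} {p : (yon S).obj U₀ ⟶ X}
    {jU : U ⟶ X} {Ω₁ Ω₂ : Set (Points X)} (h₁ : Good2 p jU Ω₁) (h₂ : Good2 p jU Ω₂) :
    Good2 p jU (Ω₁ ∪ Ω₂) := by
  obtain ⟨Y₁, g₁, hg₁, hΩ₁, hfe₁, hl₁⟩ := h₁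
  obtain ⟨Y₂, g₂, hg₂, hΩ₂, hfe₂, hl₂⟩ := h₂
  obtain ⟨V, inl, inr, c, hl, hr, hcompl, hc1, hc2, -, -⟩ := exists_coprod_chart hX Y₁ Y₂ g₁ g₂
  haveI := hl
  haveI := hr
  have hcomplT : ∀ {VT : Over S} (f₀ : VT ⟶ V),
      IsCompl (f₀.left ⁻¹ᵁ inl.left.opensRange) (f₀.left ⁻¹ᵁ inr.left.opensRange) := by
    intro VT f₀
    have hd := hcompl.disjoint
    rw [isCompl_iff]
    constructor
    · rw [disjoint_iff]
      ext x
      simp only [TopologicalSpace.Opens.coe_inf, Scheme.Hom.coe_preimage, Set.mem_inter_iff,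
        Set.mem_preimage, Scheme.Hom.coe_opensRange, TopologicalSpace.Opens.coe_bot,
        Set.mem_empty_iff_false, iff_false, not_and]
      intro hx1 hx2
      exact Set.disjoint_left.1 hd hx1 hx2
    · rw [codisjoint_iff]
      ext x
      simp only [TopologicalSpace.Opens.coe_sup, Scheme.Hom.coe_preimage, Set.mem_union,
        Set.mem_preimage, Scheme.Hom.coe_opensRange, TopologicalSpace.Opens.coe_top, Set.mem_univ,
        iff_true]
      have : f₀.left x ∈ Set.range inl.left ∪ Set.range inr.left := by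
        have h := hcompl.sup_eq_top
        change Set.range inl.left ∪ Set.range inr.left = Set.univ at h
        rw [h]; trivial
      exact this
  refine ⟨V, c, ?_, ?_, ?_, ?_⟩
  · have hrep : Representable c := hX.representable_from_yon c
    refine ⟨hrep, fun T VT b fst snd sqT => ?_⟩
    obtain ⟨f₀, rfl⟩ : ∃ f₀ : VT ⟶ V, (yon S).map f₀ = fst :=
      ⟨(yon S).preimage fst, Functor.map_preimage _ _⟩
    have i1 := isIntegralHom_piece c inl hl (by rw [hc1]; exact hg₁) b f₀ snd sqT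
    have i2 := isIntegralHom_piece c inr hr (by rw [hc2]; exact hg₂) b f₀ snd sqT
    exact isIntegralHom_of_isCompl snd.left _ _ (hcomplT f₀) i1 i2
  · rintro x (hx | hx)
    · obtain ⟨y, rfl⟩ := hΩ₁ hx
      exact ⟨inl.left y, by rw [← ofPt_comp_yon_map, hc1]⟩
    · obtain ⟨y, rfl⟩ := hΩ₂ hx
      exact ⟨inr.left y, by rw [← ofPt_comp_yon_map, hc2]⟩
  · intro T VT t f₀ snd sqT
    obtain ⟨κ₁, sq₁⟩ := exists_isPullback_piece c inl hl (t ≫ jU) f₀ snd sqT
    obtain ⟨κ₂, sq₂⟩ := exists_isPullback_piece c inr hr (t ≫ jU) f₀ snd sqT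
    rw [hc1] at sq₁
    rw [hc2] at sq₂
    obtain ⟨a1, a2⟩ := hfe₁ T _ t κ₁ _ sq₁
    obtain ⟨b1, b2⟩ := hfe₂ T _ t κ₂ _ sq₂
    exact ⟨isFinite_of_isCompl snd.left _ _ (hcomplT f₀) a1 b1,
      etale_of_sup_eq_top snd.left _ _ (hcomplT f₀).sup_eq_top a2 b2⟩
  · intro y
    have hy : y ∈ Set.range inl.left ∪ Set.range inr.left := by
      have h := hcompl.sup_eq_top
      change Set.range inl.left ∪ Set.range inr.left = Set.univ at h
      rw [h]; trivial
    rcases hy with ⟨y₁, rfl⟩ | ⟨y₂, rfl⟩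
    · obtain ⟨W₁, c₁, hy₁, hc₁⟩ := hl₁ y₁
      obtain ⟨W, κ, hW, hκ⟩ := exists_factor_open inl hl W₁
      refine ⟨W, κ ≫ c₁, hW y₁ hy₁, ?_⟩
      rw [Functor.map_comp, Category.assoc, hc₁, ← hκ, ← hc1]
      simp only [Functor.map_comp, Category.assoc]
    · obtain ⟨W₂, c₂, hy₂, hc₂⟩ := hl₂ y₂
      obtain ⟨W, κ, hW, hκ⟩ := exists_factor_open inr hr W₂
      refine ⟨W, κ ≫ c₂, hW y₂ hy₂, ?_⟩
      rw [Functor.map_comp, Category.assoc, hc₂, ← hκ, ← hc2]
      simp only [Functor.map_comp, Category.assoc]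

end Groth.Agent.Helper15.IntCovFE
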