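import Mathlib
import Groth.Prelude
import Groth.Agent.Lib.Helper15.GenFin3
import Groth.Agent.Lib.Helper15.FiniteTFAE
import Groth.Agent.Lib.Helper15.IntCovFE3
import Groth.Agent.Lib.Helper15.AlgSpLocPListed2
import Groth.Agent.Lib.Helper15.AlgSpGlue
import Groth.Agent.Lib.Helper15.CatLemmas

/-!
# Generic finiteness: the chart-level statement for algebraic spaces
-/

set_option autoImplicit false
universe u
open CategoryTheory CategoryTheory.Limits AlgebraicGeometry MorphismProperty Opposite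
open AlgSp

namespace Groth.Agent.Helper15.GenFin

open Groth.Agent.Helper15 Groth.Agent.Helper15.Strat Groth.Agent.Helper15.Norm

variable {S : Scheme.{u}}

/-- An algebraic space over a scheme `V'` with an étale surjective chart `U'` finite over `V'`
whose "relation" `U' ×_{P'} U'` is universally closed over `U'` is finite over `V'`. -/
theorem isFiniteMor_of_chart {P' : Sp S} (hP' : IsAlgSpace P') {V' U' R' : Over S}
    (q' : P' ⟶ (yon S).obj V') (a' : (yon S).obj U' ⟶ P') (hae : RepWith @Etale a')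
    (has : RepWith @Surjective a') (g' : U' ⟶ V') (comm : a' ≫ q' = (yon S).map g')
    (hg' : IsFinite g'.left) (q₁ q₂ : R' ⟶ U')
    (sqR : IsPullback ((yon S).map q₁) ((yon S).map q₂) a' a')
    (hq₂ : UniversallyClosed q₂.left) : IsFiniteMor q' := by
  have hU' : IsAlgSpace ((yon S).obj U') := IsAlgSpace.yon_obj U'
  have hV' : IsAlgSpace ((yon S).obj V') := IsAlgSpace.yon_obj V'
  have hsurj : IsSurjectiveMor a' := isSurjectiveMor_of_repWith_surjective a' has
  have hUCa : IsUnivClosedMor a' :=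
    univSp_of_chart (Q := IsClosedMor)
      (fun sq' hq h' => isClosedMor_of_quotient_base_change sq' hq h') hP' a' a' hae has
      ((yon S).map q₁) ((yon S).map q₂) sqR
      (isUnivClosedMor_of_repWith _ ((repWith_yon_map_iff _ q₂).2 hq₂))
  have hsepg : IsSeparatedMor (a' ≫ q') := by
    rw [comm, isSeparatedMor_yon_map_iff]
    infer_instance
  have hsep : IsSeparatedMor q' :=
    (separation_of_surjective_univClosed hU' hP' hV' a' q' hsurj hUCa).2 hsepg
  have hUCg : IsUnivClosedMor ((yon S).map g') :=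
    isUnivClosedMor_of_repWith _ ((repWith_yon_map_iff _ g').2 (inferInstance :
      UniversallyClosed g'.left))
  have hUC : IsUnivClosedMor q' :=
    isUnivClosedMor_of_surjective_over a' ((yon S).map g') q' comm hUCg hsurj
  have hP₀ : ∀ ⦃A B : Scheme.{u}⦄ (g : A ⟶ B),
      (@LocallyQuasiFinite ⊓ @LocallyOfFiniteType : MorphismProperty Scheme.{u}) g ↔
        (LocallyQuasiFinite g ∧ LocallyOfFiniteType g) := fun A B g => Iff.rfl
  have hloc : LocP (@LocallyQuasiFinite ⊓ @LocallyOfFiniteType) q' :=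
    locP_listed_of_one_chart _ (Or.inr (Or.inr (Or.inr (Or.inr (Or.inr (Or.inl hP₀))))))
      hP' hV' q' a' (𝟙 _) g' hae has (repWith_id _ V') (by rw [comm, Category.comp_id])
      ⟨inferInstance, inferInstance⟩
  exact isFiniteMor_of_univClosed_separated_lqf hP' hV' q' hUC hsep hloc

end Groth.Agent.Helper15.GenFin

namespace Groth.Agent.Helper15.GenFin

open Groth.Agent.Helper15 Groth.Agent.Helper15.Strat Groth.Agent.Helper15.Norm

variable {S : Scheme.{u}}

/-- The base change of an open piece of a chart `c`, as a pullback square, with the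
factorisation. -/
theorem exists_piece {X : Sp S} {V A : Over S} (c : (yon S).obj V ⟶ X) (j : A ⟶ V)
    (hj : IsOpenImmersion j.left) {T VT : Over S} (b : (yon S).obj T ⟶ X) (f₀ : VT ⟶ V)
    (snd : VT ⟶ T) (sqT : IsPullback ((yon S).map f₀) ((yon S).map snd) c b) :
    ∃ κ : opSub VT (f₀.left ⁻¹ᵁ j.left.opensRange) ⟶ A,
      κ ≫ j = opι VT (f₀.left ⁻¹ᵁ j.left.opensRange) ≫ f₀ ∧
      IsPullback ((yon S).map κ) ((yon S).map (opι VT (f₀.left ⁻¹ᵁ j.left.opensRange) ≫ snd))
        ((yon S).map j ≫ c) b := by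
  haveI := hj
  let O : VT.left.Opens := f₀.left ⁻¹ᵁ j.left.opensRange
  have hr : Set.range (O.ι ≫ f₀.left) ⊆ Set.range j.left := by
    rintro _ ⟨x, rfl⟩
    exact x.2
  let κ₀ : (O : Scheme.{u}) ⟶ A.left := IsOpenImmersion.lift j.left (O.ι ≫ f₀.left) hr
  have hκ₀ : κ₀ ≫ j.left = O.ι ≫ f₀.left := IsOpenImmersion.lift_fac _ _ _
  let κ : opSub VT O ⟶ A := Over.homMk κ₀ (by
    change κ₀ ≫ A.hom = O.ι ≫ VT.hom
    rw [← CategoryTheory.Over.w j, ← Category.assoc, hκ₀, Category.assoc, CategoryTheory.Over.w])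
  have h0 : IsPullback κ₀ O.ι j.left f₀.left :=
    IsOpenImmersion.isPullback κ₀ O.ι j.left f₀.left hκ₀.symm (by
      rw [Scheme.Opens.opensRange_ι])
  have h1 : IsPullback κ (opι VT O) j f₀ :=
    IsPullback.of_map_of_faithful (Over.forget S) h0
  have h2 := (h1.map (yon S)).paste_vert sqT
  rw [← Functor.map_comp] at h2
  exact ⟨κ, h1.w, h2⟩

end Groth.Agent.Helper15.GenFin

namespace Groth.Agent.Helper15.GenFin

open Groth.Agent.Helper15 Groth.Agent.Helper15.Strat Groth.Agent.Helper15.Norm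

variable {S : Scheme.{u}}

/-- Restriction of chart data over an open `V'` of the base scheme: if the chart `U` and the
relation `R = U ×_P U` are finite over `V'`, then the restriction of `P` over `V'` is finite. -/
theorem isFiniteMor_restrict {P : Sp S} (hP : IsAlgSpace P) {V U R : Over S}
    (q : P ⟶ (yon S).obj V) (a : (yon S).obj U ⟶ P) (hae : RepWith @Etale a)
    (has : RepWith @Surjective a) (g : U ⟶ V) (comm : a ≫ q = (yon S).map g)
    (p₁ p₂ : R ⟶ U) (sqR : IsPullback ((yon S).map p₁) ((yon S).map p₂) a a)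
    (V' : V.left.Opens) (hgV' : IsFinite (g.left ∣_ V'))
    (hrV' : IsFinite ((p₁.left ≫ g.left) ∣_ V'))
    {P' : Sp S} (m : P' ⟶ P) (q' : P' ⟶ (yon S).obj (opSub V V'))
    (sq : IsPullback m q' q ((yon S).map (opι V V'))) : IsFiniteMor q' := by
  have hP' : IsAlgSpace P' :=
    isAlgSpace_of_isPullback (IsAlgSpace.yon_obj V).diag hP (IsAlgSpace.yon_obj _) sq
  let O : U.left.Opens := g.left ⁻¹ᵁ V'
  let ι : opSub U O ⟶ U := opι U O
  let g' : opSub U O ⟶ opSub V V' := Over.homMk (g.left ∣_ V') (by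
    change (g.left ∣_ V') ≫ (V'.ι ≫ V.hom) = O.ι ≫ U.hom
    rw [morphismRestrict_ι_assoc, CategoryTheory.Over.w g])
  have hg'ι : g' ≫ opι V V' = ι ≫ g := by
    apply Over.OverMorphism.ext
    exact morphismRestrict_ι _ _
  have sqU : IsPullback ι g' g (opι V V') :=
    IsPullback.of_map_of_faithful (Over.forget S) (isPullback_morphismRestrict g.left V').flip
  have hw : ((yon S).map ι ≫ a) ≫ q = (yon S).map g' ≫ (yon S).map (opι V V') := by
    rw [Category.assoc, comm, ← Functor.map_comp, ← Functor.map_comp, hg'ι]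
  let a' : (yon S).obj (opSub U O) ⟶ P' := sq.lift ((yon S).map ι ≫ a) ((yon S).map g') hw
  have ha'm : a' ≫ m = (yon S).map ι ≫ a := sq.lift_fst _ _ _
  have ha'q : a' ≫ q' = (yon S).map g' := sq.lift_snd _ _ _
  have sqa : IsPullback a' ((yon S).map ι) m a := by
    refine IsPullback.of_right ?_ ha'm sq.flip
    rw [ha'q, comm]
    exact (sqU.flip).map (yon S)
  have hae' : RepWith @Etale a' := (RepWith @Etale).of_isPullback sqa.flip hae
  have has' : RepWith @Surjective a' := (RepWith @Surjective).of_isPullback sqa.flip has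
  have hιoi : IsOpenImmersion ι.left := (inferInstance : IsOpenImmersion O.ι)
  have hOr : ι.left.opensRange = O := Scheme.Opens.opensRange_ι O
  have hmem : ∀ z : U.left, z ∈ ι.left.opensRange ↔ z ∈ O := fun z => by rw [hOr]
  obtain ⟨κ₁, hκ₁, h₁⟩ := exists_piece a ι hιoi a p₁ p₂ sqR
  obtain ⟨κ₂, hκ₂, h₂⟩ := exists_piece a ι hιoi ((yon S).map ι ≫ a)
    (opι R (p₁.left ⁻¹ᵁ ι.left.opensRange) ≫ p₂) κ₁ h₁.flip
  haveI : Mono m := mono_of_repWith_isOpenImmersion m
    ((RepWith @IsOpenImmersion).of_isPullback sq.flip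
      ((repWith_yon_map_iff _ _).2 (inferInstance : IsOpenImmersion V'.ι)))
  have sqR' : IsPullback ((yon S).map κ₂)
      ((yon S).map (opι _ ((opι R (p₁.left ⁻¹ᵁ ι.left.opensRange) ≫ p₂).left ⁻¹ᵁ
        ι.left.opensRange) ≫ κ₁)) a' a' := by
    apply isPullback_of_comp_mono m
    rw [ha'm]
    exact h₂
  have hpg : p₁ ≫ g = p₂ ≫ g := by
    apply (yon S).map_injective
    rw [Functor.map_comp, Functor.map_comp, ← comm, ← Category.assoc, ← Category.assoc, sqR.w]
  have hpg' : ∀ x : R.left, g.left (p₂.left x) = g.left (p₁.left x) := by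
    intro x
    have := congrArg (fun φ => (Over.forget S).map φ) hpg
    have h := congrArg (fun φ : R.left ⟶ V.left => φ x) this
    exact h.symm
  haveI : IsFinite g'.left := hgV'
  have hfin : IsFinite ((opι _ ((opι R (p₁.left ⁻¹ᵁ ι.left.opensRange) ≫ p₂).left ⁻¹ᵁ
        ι.left.opensRange) ≫ κ₁).left ≫ g'.left) := by
    refine isFinite_of_range_eq (p₁.left ≫ g.left)
      (((opι R (p₁.left ⁻¹ᵁ ι.left.opensRange) ≫ p₂).left ⁻¹ᵁ ι.left.opensRange).ι ≫
        (p₁.left ⁻¹ᵁ ι.left.opensRange).ι)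
      ((p₁.left ≫ g.left) ⁻¹ᵁ V').ι ?_ _ ((p₁.left ≫ g.left) ∣_ V') V'.ι ?_ ?_ hrV'
    · ext x
      constructor
      · rintro ⟨y, rfl⟩
        have h1 : p₁.left y.1.1 ∈ ι.left.opensRange := y.1.2
        exact ⟨⟨y.1.1, (hmem _).1 h1⟩, rfl⟩
      · rintro ⟨y, rfl⟩
        have h1 : p₁.left y.1 ∈ O := y.2
        have h2 : p₂.left y.1 ∈ O := by
          change g.left (p₂.left y.1) ∈ V'
          rw [hpg']
          exact h1
        exact ⟨⟨⟨y.1, (hmem _).2 h1⟩, (hmem _).2 h2⟩, rfl⟩
    · have e1 : κ₁.left ≫ O.ι = (p₁.left ⁻¹ᵁ ι.left.opensRange).ι ≫ p₁.left :=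
        congrArg (fun φ => (Over.forget S).map φ) hκ₁
      change ((_ ≫ κ₁.left) ≫ (g.left ∣_ V')) ≫ V'.ι = _
      rw [Category.assoc, Category.assoc, morphismRestrict_ι, ← Category.assoc κ₁.left, e1]
      simp only [Category.assoc]
      rfl
    · rw [morphismRestrict_ι]
  haveI := hfin
  have hq₂ : IsFinite (opι _ ((opι R (p₁.left ⁻¹ᵁ ι.left.opensRange) ≫ p₂).left ⁻¹ᵁ
        ι.left.opensRange) ≫ κ₁).left := IsFinite.of_comp _ g'.left
  exact isFiniteMor_of_chart hP' q' a' hae' has' g' ha'q hgV' κ₂ _ sqR' inferInstance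

end Groth.Agent.Helper15.GenFin
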