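import Mathlib
import Groth.Prelude
import Groth.Agent.Lib.Helper15.GenFin4
import Groth.Agent.Lib.Helper15.AlgSpQc
import Groth.Agent.Lib.Helper15.AlgSpTop
import Groth.Agent.Lib.Helper15.AlgSpDescent

/-!
# Generic finiteness: the chart-level statement for algebraic spaces (II)
-/

set_option autoImplicit false
universe u
open CategoryTheory CategoryTheory.Limits AlgebraicGeometry MorphismProperty Opposite
open AlgSp

namespace Groth.Agent.Helper15.GenFin

open Groth.Agent.Helper15 Groth.Agent.Helper15.Strat Groth.Agent.Helper15.Norm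
  Groth.Agent.Helper15.MaxPts Groth.Agent.Helper15.QfSplitA

variable {S : Scheme.{u}}

/-- A fibre all of whose points are quasi-finite points of a quasi-compact morphism is finite. -/
theorem finite_fibre_of_quasiFiniteAt {U V : Scheme.{u}} (g : U ⟶ V) [LocallyOfFiniteType g]
    [QuasiCompact g] (v : V) (h : ∀ u : U, g u = v → g.QuasiFiniteAt u) :
    (g ⁻¹' {v}).Finite := by
  haveI : DiscreteTopology (g.fiber v) := by
    rw [discreteTopology_iff_isOpen_singleton]
    intro z
    have hz : g (g.fiberι v z) = v := by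
      have : g.fiberι v z ∈ Set.range (g.fiberι v) := ⟨z, rfl⟩
      rw [g.range_fiberι v] at this
      exact this
    exact isOpen_singleton_of_quasiFiniteAt g hz z rfl (h _ hz)
  haveI : Finite (g.fiber v) := finite_of_compact_of_discrete
  rw [← g.range_fiberι v]
  exact Set.finite_range _

end Groth.Agent.Helper15.GenFin

namespace Groth.Agent.Helper15.GenFin

open Groth.Agent.Helper15 Groth.Agent.Helper15.Strat Groth.Agent.Helper15.Norm
  Groth.Agent.Helper15.MaxPts Groth.Agent.Helper15.QfSplitA

variable {S : Scheme.{u}}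

/-- **Generic finiteness over an affine chart.** -/
theorem exists_opens_isFiniteMor {P : Sp S} (hP : IsAlgSpace P) {V : Over S} [IsAffine V.left]
    (q : P ⟶ (yon S).obj V) (hft : IsFiniteTypeMor q) (hqs : IsQuasiSeparatedMor q)
    (v : V.left) (hv : v ∈ maxPts V.left)
    (hqf : ∀ {U : Over S} (a : (yon S).obj U ⟶ P) (g : U ⟶ V), RepWith @Etale a →
      a ≫ q = (yon S).map g → ∀ u : U.left, g.left u = v → g.left.QuasiFiniteAt u) :
    ∃ V' : V.left.Opens, v ∈ V' ∧ IsAffineOpen V' ∧
      ∀ {P' : Sp S} (m : P' ⟶ P) (q' : P' ⟶ (yon S).obj (opSub V V')),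
        IsPullback m q' q ((yon S).map (opι V V')) → IsFiniteMor q' := by
  have hPqc : IsQuasiCompactSp P :=
    hft.2 (IsAlgSpace.yon_obj V) ((isQuasiCompactSp_yon_iff V).2 inferInstance) (𝟙 _) (𝟙 P) q
      IsPullback.of_id_fst
  obtain ⟨U, a, hUaff, hae, has⟩ := exists_affine_chart_of_isQuasiCompactSp hPqc
  haveI := hUaff
  let g : U ⟶ V := (yon S).preimage (a ≫ q)
  have comm : a ≫ q = (yon S).map g := ((yon S).map_preimage _).symm
  haveI hlft : LocallyOfFiniteType g.left :=
    hft.1 a (𝟙 _) g hae (repWith_id _ V) (by rw [comm, Category.comp_id])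
  haveI : IsAffineHom g.left := isAffineHom_of_isAffine _
  have hfib : (g.left ⁻¹' {v}).Finite :=
    finite_fibre_of_quasiFiniteAt g.left v (fun u hu => hqf a g hae comm u hu)
  obtain ⟨V₁, hvV₁, hfin₁⟩ := exists_opens_finite_of_isAffine g.left v hv hfib
  -- the relation
  have hrep := hae.rep
  let R : Over S := hrep.pullback a
  let p₁ : R ⟶ U := hrep.fst' a
  let p₂ : R ⟶ U := hrep.snd a
  have sqR : IsPullback ((yon S).map p₁) ((yon S).map p₂) a a := hrep.isPullback' a
  have hqca : IsQuasiCompactMor a := by
    refine isQuasiCompactMor_of_comp a q ?_ hqs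
    rw [comm]
    exact isQuasiCompactMor_of_repWith _ ((repWith_yon_map_iff _ g).2
      (inferInstance : QuasiCompact g.left))
  have hqcR : RepWith @QuasiCompact a := repWith_quasiCompact_of_isQuasiCompactMor a hrep hqca
  haveI hp₁e : Etale p₁.left := hae.property a _ p₁ sqR.flip
  haveI hp₁qc : QuasiCompact p₁.left := hqcR.property a _ p₁ sqR.flip
  haveI : LocallyQuasiFinite p₁.left := locallyQuasiFinite_of_etale p₁.left
  haveI : CompactSpace R.left := by
    have := hp₁qc.isCompact_preimage (Set.univ) isOpen_univ isCompact_univ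
    rw [Set.preimage_univ] at this
    exact isCompact_univ_iff.1 this
  have hpg : p₁ ≫ g = p₂ ≫ g := by
    apply (yon S).map_injective
    rw [Functor.map_comp, Functor.map_comp, ← comm, ← Category.assoc, ← Category.assoc, sqR.w]
  have hpgl : p₁.left ≫ g.left = p₂.left ≫ g.left :=
    congrArg (fun φ => (Over.forget S).map φ) hpg
  let δ : R.left ⟶ pullback g.left g.left := pullback.lift p₁.left p₂.left hpgl
  haveI : Mono δ := by
    constructor
    intro T x y hxy
    have h1 : x ≫ p₁.left = y ≫ p₁.left := by
      have := congrArg (· ≫ pullback.fst g.left g.left) hxy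
      simpa only [Category.assoc, δ, pullback.lift_fst] using this
    have h2 : x ≫ p₂.left = y ≫ p₂.left := by
      have := congrArg (· ≫ pullback.snd g.left g.left) hxy
      simpa only [Category.assoc, δ, pullback.lift_snd] using this
    have hxy' : x ≫ R.hom = y ≫ R.hom := by
      rw [← CategoryTheory.Over.w p₁, ← Category.assoc, h1, Category.assoc]
    let To : Over S := Over.mk (x ≫ R.hom)
    let x' : To ⟶ R := Over.homMk x rfl
    let y' : To ⟶ R := Over.homMk y hxy'.symm
    have : (yon S).map x' = (yon S).map y' := by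
      apply sqR.hom_ext
      · rw [← Functor.map_comp, ← Functor.map_comp]
        congr 1
        ext1
        exact h1
      · rw [← Functor.map_comp, ← Functor.map_comp]
        congr 1
        ext1
        exact h2
    exact congrArg (fun φ => (Over.forget S).map φ) ((yon S).map_injective this)
  haveI : IsSeparated (p₁.left ≫ g.left) := by
    have e : p₁.left ≫ g.left = δ ≫ pullback.fst g.left g.left ≫ g.left := by
      rw [← Category.assoc, pullback.lift_fst]
    rw [e]
    infer_instance
  have hrfib : ((p₁.left ≫ g.left) ⁻¹' {v}).Finite := by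
    have : (p₁.left ≫ g.left) ⁻¹' {v} = p₁.left ⁻¹' (g.left ⁻¹' {v}) := by
      ext x; simp
    rw [this]
    exact p₁.left.finite_preimage hfib
  obtain ⟨V₂, hvV₂, hfin₂⟩ :=
    exists_opens_finite_of_compactSpace (p₁.left ≫ g.left) v hv hrfib
  obtain ⟨V', hV'aff, hvV', hV'le⟩ := exists_isAffineOpen_mem_and_subset (X := V.left)
    (x := v) (U := V₁ ⊓ V₂) ⟨hvV₁, hvV₂⟩
  refine ⟨V', hvV', hV'aff, fun m q' sq => ?_⟩
  exact isFiniteMor_restrict hP q a hae has g comm p₁ p₂ sqR V'
    (isFinite_restrict_of_le _ (hV'le.trans inf_le_left) hfin₁)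
    (isFinite_restrict_of_le _ (hV'le.trans inf_le_right) hfin₂) m q' sq

end Groth.Agent.Helper15.GenFin
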