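import Mathlib
import Groth.Agent.Lib.Helper15.MaxPts

/-!
# Schemes with locally finitely many irreducible components
-/

set_option autoImplicit false
set_option linter.style.haveILetI false
universe u
open CategoryTheory AlgebraicGeometry TopologicalSpace

namespace Groth.Agent.Helper15.LocFinIrr

open Groth.Agent.Helper15.MaxPts

/-- Quasi-compact opens have finitely many irreducible components. -/
def LocFin (U : Scheme.{u}) : Prop :=
  ∀ W : U.Opens, IsCompact (W : Set ↥U) → (irreducibleComponents ↥W).Finite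

theorem finite_irreducibleComponents_opens_iff {U : Scheme.{u}} (W : U.Opens) :
    (irreducibleComponents ↥W).Finite ↔ ((W : Set U) ∩ maxPts U).Finite := by
  haveI : QuasiSober ↥W := W.isOpenEmbedding'.quasiSober
  rw [finite_irreducibleComponents_iff]
  have : (W : Set U) ∩ maxPts U = Subtype.val '' (maxPts ↥W) := by
    ext x
    constructor
    · rintro ⟨hxW, hx⟩
      exact ⟨⟨x, hxW⟩, (mem_maxPts_subtype_iff W.2 ⟨x, hxW⟩).2 hx, rfl⟩
    · rintro ⟨w, hw, rfl⟩
      exact ⟨w.2, (mem_maxPts_subtype_iff W.2 w).1 hw⟩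
  rw [this]
  exact (Set.finite_image_iff Subtype.val_injective.injOn).symm

theorem locFin_iff {U : Scheme.{u}} :
    LocFin U ↔ ∀ W : U.Opens, IsCompact (W : Set ↥U) → ((W : Set U) ∩ maxPts U).Finite := by
  unfold LocFin
  simp only [finite_irreducibleComponents_opens_iff]


/-- Ascent along a flat morphism whose fibres (between affine opens) contain finitely many
maximal points. -/
theorem locFin_of_flat {U' U : Scheme.{u}} (g : U' ⟶ U) [Flat g]
    (hfib : ∀ (W' : U'.Opens) (V : U.Opens), IsAffineOpen W' → IsAffineOpen V → W' ≤ g ⁻¹ᵁ V →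
      ∀ η : U, ((W' : Set U') ∩ g ⁻¹' {η} ∩ maxPts U').Finite)
    (hU : LocFin U) : LocFin U' := by
  rw [locFin_iff] at hU ⊢
  intro W' hW'
  -- local data
  have hloc : ∀ w' : U', w' ∈ W' → ∃ (W₁ : U'.Opens) (V₁ : U.Opens), w' ∈ W₁ ∧ IsAffineOpen W₁ ∧
      IsAffineOpen V₁ ∧ W₁ ≤ g ⁻¹ᵁ V₁ := by
    intro w' _
    obtain ⟨_, ⟨V₁, hV₁, rfl⟩, hgV₁, -⟩ := (U.isBasis_affineOpens).exists_subset_of_mem_open
      (Set.mem_univ (g w')) isOpen_univ
    let V₁' : U.Opens := V₁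
    obtain ⟨_, ⟨W₁, hW₁, rfl⟩, hwW₁, hW₁le⟩ := (U'.isBasis_affineOpens).exists_subset_of_mem_open
      (show w' ∈ ((g ⁻¹ᵁ V₁' : U'.Opens) : Set U') from hgV₁) (g ⁻¹ᵁ V₁').2
    exact ⟨W₁, V₁', hwW₁, hW₁, hV₁, hW₁le⟩
  choose! W₁ V₁ h1 h2 h3 h4 using hloc
  obtain ⟨t, ht⟩ := hW'.elim_nhds_subcover' (fun w' hw' => (W₁ w' : Set U'))
    (fun w' hw' => (W₁ w').2.mem_nhds (h1 w' hw'))
  refine Set.Finite.subset (Set.Finite.biUnion t.finite_toSet (fun w' hw' =>
    Set.Finite.biUnion (hU (V₁ w'.1) (h3 w'.1 w'.2).isCompact) (fun η _ =>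
      hfib (W₁ w'.1) (V₁ w'.1) (h2 w'.1 w'.2) (h3 w'.1 w'.2) (h4 w'.1 w'.2) η))) ?_
  rintro x ⟨hxW', hx⟩
  obtain ⟨w', hw't, hxw'⟩ := Set.mem_iUnion₂.1 (ht hxW')
  refine Set.mem_iUnion₂.2 ⟨w', hw't, Set.mem_iUnion₂.2 ⟨g x, ⟨?_, ?_⟩, ⟨hxw', rfl⟩, hx⟩⟩
  · exact h4 w'.1 w'.2 hxw'
  · exact map_mem_maxPts g.continuous (Flat.generalizingMap g) hx

/-- Ascent along flat locally quasi-finite (e.g. etale) morphisms. -/
theorem locFin_of_flat_lqf {U' U : Scheme.{u}} (g : U' ⟶ U) [Flat g] [LocallyQuasiFinite g]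
    (hU : LocFin U) : LocFin U' := by
  refine locFin_of_flat g ?_ hU
  intro W' V hW' hV hle η
  by_cases hη : η ∈ V
  · let g' : W'.toScheme ⟶ V.toScheme := g.resLE V W' hle
    haveI : IsAffine W'.toScheme := hW'
    haveI : IsAffine V.toScheme := hV
    haveI : QuasiCompact g' := by
      haveI : IsAffineHom g' := isAffineHom_of_isAffine g'
      infer_instance
    have hfin := g'.finite_preimage_singleton ⟨η, hη⟩
    refine (hfin.image W'.ι).subset ?_
    rintro x ⟨⟨hxW', hxη⟩, -⟩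
    refine ⟨⟨x, hxW'⟩, ?_, rfl⟩
    change g' ⟨x, hxW'⟩ = ⟨η, hη⟩
    apply Subtype.ext
    have : (g' ≫ V.ι) ⟨x, hxW'⟩ = (W'.ι ≫ g) ⟨x, hxW'⟩ := by
      rw [Scheme.Hom.resLE_comp_ι]
    exact this.trans hxη
  · convert Set.finite_empty
    ext x
    simp only [Set.mem_inter_iff, Set.mem_preimage, Set.mem_singleton_iff, Set.mem_empty_iff_false,
      iff_false, not_and]
    rintro ⟨hxW', hxη⟩
    exact absurd (hxη ▸ hle hxW') hη

/-- Descent along open surjective morphisms. -/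
theorem locFin_of_isOpenMap_surjective {U' U : Scheme.{u}} (g : U' ⟶ U) (hopen : IsOpenMap g)
    (hsurj : Function.Surjective g) (hU' : LocFin U') : LocFin U := by
  rw [locFin_iff] at hU' ⊢
  intro W hW
  -- cover `W` by images of affine opens of `g⁻¹ W`
  have hloc : ∀ w : U, w ∈ W → ∃ W₁ : U'.Opens, IsAffineOpen W₁ ∧ W₁ ≤ g ⁻¹ᵁ W ∧
      w ∈ g '' (W₁ : Set U') := by
    intro w hw
    obtain ⟨w', rfl⟩ := hsurj w
    obtain ⟨_, ⟨W₁, hW₁, rfl⟩, hwW₁, hW₁le⟩ := (U'.isBasis_affineOpens).exists_subset_of_mem_open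
      (show w' ∈ ((g ⁻¹ᵁ W : U'.Opens) : Set U') from hw) (g ⁻¹ᵁ W).2
    exact ⟨W₁, hW₁, hW₁le, ⟨w', hwW₁, rfl⟩⟩
  choose! W₁ h1 h2 h3 using hloc
  obtain ⟨t, ht⟩ := hW.elim_nhds_subcover' (fun w hw => g '' (W₁ w : Set U'))
    (fun w hw => (hopen _ (W₁ w).2).mem_nhds (h3 w hw))
  refine Set.Finite.subset (Set.Finite.biUnion t.finite_toSet (fun w hw =>
    (hU' (W₁ w.1) (h1 w.1 w.2).isCompact).image g)) ?_
  rintro η ⟨hηW, hη⟩
  obtain ⟨w, hwt, w', hw'W₁, rfl⟩ := Set.mem_iUnion₂.1 (ht hηW)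
  obtain ⟨x, hx, hxw', hgx⟩ := exists_maxPts_map_eq g.continuous w' hη
  refine Set.mem_iUnion₂.2 ⟨w, hwt, x, ⟨?_, hx⟩, hgx⟩
  exact hxw'.mem_open (W₁ w.1).2 hw'W₁


/-- Ascent along flat morphisms locally of finite type. -/
theorem locFin_of_flat_lft {U' U : Scheme.{u}} (g : U' ⟶ U) [Flat g] [LocallyOfFiniteType g]
    (hU : LocFin U) : LocFin U' := by
  refine locFin_of_flat g ?_ hU
  intro W' V hW' hV hle η
  by_cases hη : η ∈ V
  · let g' : W'.toScheme ⟶ V.toScheme := g.resLE V W' hle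
    haveI : IsAffine W'.toScheme := hW'
    haveI : IsAffine V.toScheme := hV
    haveI : IsAffineHom g' := isAffineHom_of_isAffine g'
    haveI : QuasiCompact g' := inferInstance
    haveI : LocallyOfFiniteType g' := by
      change LocallyOfFiniteType (g.resLE V W' hle); infer_instance
    let η' : V.toScheme := ⟨η, hη⟩
    haveI : LocallyOfFiniteType (g'.fiberToSpecResidueField η') :=
      MorphismProperty.pullback_snd _ _ inferInstance
    haveI : IsLocallyNoetherian (g'.fiber η') :=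
      LocallyOfFiniteType.isLocallyNoetherian (g'.fiberToSpecResidueField η')
    haveI : IsNoetherian (g'.fiber η') := ⟨⟩
    have hfin : (maxPts (g'.fiber η')).Finite :=
      finite_irreducibleComponents_iff.1 NoetherianSpace.finite_irreducibleComponents
    have hind : Topology.IsInducing (fun z : g'.fiber η' => W'.ι (g'.fiberι η' z)) :=
      W'.ι.isOpenEmbedding.isInducing.comp (g'.fiberι η').isEmbedding.isInducing
    refine (hfin.image (fun z => W'.ι (g'.fiberι η' z))).subset ?_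
    rintro x ⟨⟨hxW', hxη⟩, hx⟩
    have hx' : (⟨x, hxW'⟩ : W'.toScheme) ∈ Set.range (g'.fiberι η') := by
      rw [g'.range_fiberι η']
      change g' ⟨x, hxW'⟩ = ⟨η, hη⟩
      apply Subtype.ext
      have : (g' ≫ V.ι) ⟨x, hxW'⟩ = (W'.ι ≫ g) ⟨x, hxW'⟩ := by
        rw [Scheme.Hom.resLE_comp_ι]
      exact this.trans hxη
    obtain ⟨z, hz⟩ := hx'
    have hzx : W'.ι (g'.fiberι η' z) = x := by rw [hz]; rfl
    refine ⟨z, ?_, hzx⟩
    intro y hy
    rw [← hind.specializes_iff] at hy ⊢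
    change W'.ι (g'.fiberι η' y) ⤳ W'.ι (g'.fiberι η' z) at hy
    change W'.ι (g'.fiberι η' z) ⤳ W'.ι (g'.fiberι η' y)
    rw [hzx] at hy ⊢
    exact hx _ hy
  · convert Set.finite_empty
    ext x
    simp only [Set.mem_inter_iff, Set.mem_preimage, Set.mem_singleton_iff, Set.mem_empty_iff_false,
      iff_false, not_and]
    rintro ⟨hxW', hxη⟩
    exact absurd (hxη ▸ hle hxW') hη


/-- The points with zero-dimensional local ring are the maximal points. -/
theorem ringKrullDim_stalk_eq_zero_iff {U : Scheme.{u}} (x : U) :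
    ringKrullDim ↥(U.presheaf.stalk x) = 0 ↔ x ∈ maxPts U := by
  rw [ringKrullDim_stalk_eq_coheight, WithBot.coe_eq_zero, Order.coheight_eq_zero]
  rfl

end Groth.Agent.Helper15.LocFinIrr
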