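import Groth.Agent.Lib.Helper15.NormAff2
import Groth.Agent.Lib.Helper15.NormSN
import Groth.Agent.Lib.Helper15.AlgSpUniv
import Groth.Agent.Lib.Helper15.AlgSpDiagMor

/-!
# Local existence of relative normalizations (over an affine base)
-/

set_option autoImplicit false
universe u
open CategoryTheory CategoryTheory.Limits AlgebraicGeometry MorphismProperty Opposite TensorProduct
open AlgSp

namespace Groth.Agent.Helper15.Norm

variable {S : Scheme.{u}}

/-! ## Invariance under isomorphisms of the base -/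

theorem isRelNormalization_of_comp_iso {G H H' N : Sp S} {g : G ⟶ H} {ν : N ⟶ H} {f' : G ⟶ N}
    (θ : H ⟶ H') [IsIso θ] (hn : IsRelNormalization (g ≫ θ) (ν ≫ θ) f') :
    IsRelNormalization g ν f' := by
  obtain ⟨hfac, hint, hu⟩ := hn
  refine ⟨?_, ?_, ?_⟩
  · rw [← cancel_mono θ, Category.assoc, hfac]
  · have : ν = (ν ≫ θ) ≫ inv θ := by rw [Category.assoc, IsIso.hom_inv_id, Category.comp_id]
    rw [this]
    exact isIntegralMor_comp _ _ hint (isIntegralMor_of_iso (inv θ))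
  · intro Z hZ π k hπ hk
    obtain ⟨h, ⟨h1, h2⟩, huniq⟩ := hu hZ (π ≫ θ) k
      (isIntegralMor_comp _ _ hπ (isIntegralMor_of_iso θ)) (by rw [← Category.assoc, hk])
    refine ⟨h, ⟨h1, ?_⟩, ?_⟩
    · rw [← cancel_mono θ, Category.assoc, h2]
    · rintro h' ⟨a1, a2⟩
      exact huniq h' ⟨a1, by rw [← Category.assoc, a2]⟩

theorem bcNorm_precomp_iso {G H N H₁ H₂ : Sp S} {g : G ⟶ H} {ν : N ⟶ H} {f' : G ⟶ N}
    {c : H₁ ⟶ H} (hbc : BCNorm g ν f' c) (θ : H₂ ⟶ H₁) [IsIso θ] : BCNorm g ν f' (θ ≫ c) := by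
  intro G₂ N₂ g₂ ν₂ f'₂ cG cN sqG sqN k1 k2
  have sqG' : IsPullback cG (g₂ ≫ θ) g c :=
    IsPullback.of_iso sqG (Iso.refl _) (Iso.refl _) (asIso θ) (Iso.refl _) (by simp) (by simp)
      (by simp) (by simp)
  have sqN' : IsPullback cN (ν₂ ≫ θ) ν c :=
    IsPullback.of_iso sqN (Iso.refl _) (Iso.refl _) (asIso θ) (Iso.refl _) (by simp) (by simp)
      (by simp) (by simp)
  exact isRelNormalization_of_comp_iso θ
    (hbc (g₂ ≫ θ) (ν₂ ≫ θ) f'₂ cG cN sqG' sqN' (by rw [← Category.assoc, k1]) k2)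

/-! ## Spec form of affine schemes over a spectrum -/

section SpecForm

variable {B : CommRingCat.{u}} (s : Spec B ⟶ S) {W : Over S} [IsAffine W.left]
  (x : W ⟶ Over.mk s)

/-- The ring map of a morphism from an affine scheme to a spectrum. -/
noncomputable def sfRing : B ⟶ Γ(W.left, ⊤) := Spec.preimage (W.left.isoSpec.inv ≫ x.left)

theorem sfRing_map : Spec.map (sfRing s x) = W.left.isoSpec.inv ≫ x.left := Spec.map_preimage _

/-- The Spec form of `W`. -/
noncomputable def sfIso : Over.mk (Spec.map (sfRing s x) ≫ s) ≅ W :=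
  Over.isoMk W.left.isoSpec.symm (by
    change W.left.isoSpec.inv ≫ W.hom = Spec.map (sfRing s x) ≫ s
    rw [sfRing_map, Category.assoc]
    congr 1
    exact (Over.w x).symm)

theorem sfIso_hom_left : (sfIso s x).hom.left = W.left.isoSpec.inv := rfl

theorem sfIso_hom_comp : (sfIso s x).hom ≫ x =
    (Over.homMk (Spec.map (sfRing s x)) rfl : Over.mk (Spec.map (sfRing s x) ≫ s) ⟶ Over.mk s) := by
  apply Over.OverMorphism.ext
  change W.left.isoSpec.inv ≫ x.left = Spec.map (sfRing s x)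
  rw [sfRing_map]

end SpecForm

/-! ## Existence of a ring-level presentation -/

theorem exists_covers {A : Type u} [CommRing A] (t : Spec (CommRingCat.of A) ⟶ S) {G : Sp S}
    (g : G ⟶ (yon S).obj (Over.mk t)) (hqc : IsQuasiCompactSp G)
    (hqs : ∀ (W : Over S) (w : (yon S).obj W ⟶ G), IsAffine W.left →
      IsQuasiCompactSp (pullback w w)) :
    ∃ (B₁ B₂ : Type u) (_ : CommRing B₁) (_ : CommRing B₂) (_ : Algebra A B₁) (_ : Algebra A B₂)
      (π₁ π₂ : B₁ →ₐ[A] B₂) (w : (yon S).obj (presOf π₁ π₂ t).W ⟶ G),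
      (presOf π₁ π₂ t).Covers g w := by
  obtain ⟨W, w₀, hW, hw₀e, hw₀s⟩ := exists_affine_chart_of_isQuasiCompactSp hqc
  haveI := hW
  haveI : Epi w₀ := epi_of_etale_surjective w₀ hw₀e hw₀s
  obtain ⟨x, hx⟩ := (yon S).map_surjective (w₀ ≫ g)
  obtain ⟨φ, eW, heW⟩ : ∃ (φ : CommRingCat.of A ⟶ Γ(W.left, ⊤))
      (eW : Over.mk (Spec.map φ ≫ t) ≅ W), eW.hom ≫ x =
        (Over.homMk (Spec.map φ) rfl : Over.mk (Spec.map φ ≫ t) ⟶ Over.mk t) :=
    ⟨sfRing t x, sfIso t x, sfIso_hom_comp t x⟩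
  obtain ⟨w, hwdef⟩ : ∃ w : (yon S).obj (Over.mk (Spec.map φ ≫ t)) ⟶ G,
      w = (yon S).map eW.hom ≫ w₀ := ⟨_, rfl⟩
  have hwepi : Epi w := by rw [hwdef]; exact epi_comp _ _
  have hW₁ : IsAffine (Over.mk (Spec.map φ ≫ t)).left := by
    change IsAffine (Spec Γ(W.left, ⊤)); infer_instance
  obtain ⟨W₂, r, hW₂, hre, hrs⟩ := exists_affine_chart_of_isQuasiCompactSp (hqs _ w hW₁)
  haveI := hW₂
  haveI : Epi r := epi_of_etale_surjective r hre hrs
  obtain ⟨x₁, hx₁⟩ := (yon S).map_surjective (r ≫ pullback.fst w w)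
  obtain ⟨x₂, hx₂⟩ := (yon S).map_surjective (r ≫ pullback.snd w w)
  have hwg : w ≫ g = (yon S).map
      (Over.homMk (Spec.map φ) rfl : Over.mk (Spec.map φ ≫ t) ⟶ Over.mk t) := by
    rw [hwdef, Category.assoc, ← hx, ← Functor.map_comp, heW]
  have hx12 : x₁ ≫ (Over.homMk (Spec.map φ) rfl : Over.mk (Spec.map φ ≫ t) ⟶ Over.mk t) =
      x₂ ≫ (Over.homMk (Spec.map φ) rfl : Over.mk (Spec.map φ ≫ t) ⟶ Over.mk t) := by
    apply (yon S).map_injective
    rw [Functor.map_comp, Functor.map_comp, ← hwg, hx₁, hx₂, Category.assoc, Category.assoc,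
      ← Category.assoc (pullback.fst w w), ← Category.assoc (pullback.snd w w), pullback.condition]
  obtain ⟨π₁, hπ₁⟩ : ∃ π₁ : Γ(W.left, ⊤) ⟶ Γ(W₂.left, ⊤),
      Spec.map π₁ = W₂.left.isoSpec.inv ≫ x₁.left := ⟨_, sfRing_map (Spec.map φ ≫ t) x₁⟩
  obtain ⟨π₂, hπ₂⟩ : ∃ π₂ : Γ(W.left, ⊤) ⟶ Γ(W₂.left, ⊤),
      Spec.map π₂ = W₂.left.isoSpec.inv ≫ x₂.left := ⟨_, sfRing_map (Spec.map φ ≫ t) x₂⟩
  have hφπ : φ ≫ π₁ = φ ≫ π₂ := by
    apply Spec.map_injective
    rw [Spec.map_comp, Spec.map_comp, hπ₁, hπ₂, Category.assoc, Category.assoc]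
    congr 1
    exact congrArg (fun m => m.left) hx12
  letI alg₁ : Algebra A ↑Γ(W.left, ⊤) := φ.hom.toAlgebra
  letI alg₂ : Algebra A ↑Γ(W₂.left, ⊤) := (φ ≫ π₁).hom.toAlgebra
  let π₁' : ↑Γ(W.left, ⊤) →ₐ[A] ↑Γ(W₂.left, ⊤) := { π₁.hom with commutes' := fun a => rfl }
  let π₂' : ↑Γ(W.left, ⊤) →ₐ[A] ↑Γ(W₂.left, ⊤) :=
    { π₂.hom with commutes' := fun a => (congrArg (fun m => m.hom a) hφπ).symm }
  refine ⟨↑Γ(W.left, ⊤), ↑Γ(W₂.left, ⊤), inferInstance, inferInstance, alg₁, alg₂, π₁', π₂', w, ?_⟩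
  -- the Spec form of `W₂`
  have hs₂ : W₂.left.isoSpec.inv ≫ W₂.hom = Spec.map (φ ≫ π₁) ≫ t := by
    rw [Spec.map_comp, hπ₁, Category.assoc, Category.assoc]
    congr 1
    exact (Over.w x₁).symm
  obtain ⟨eW₂, he₁, he₂⟩ : ∃ eW₂ : (presOf π₁' π₂' t).W₂ ≅ W₂,
      eW₂.hom ≫ x₁ = (presOf π₁' π₂' t).p₁ ∧ eW₂.hom ≫ x₂ = (presOf π₁' π₂' t).p₂ := by
    refine ⟨Over.isoMk W₂.left.isoSpec.symm hs₂, ?_, ?_⟩
    · apply Over.OverMorphism.ext
      change W₂.left.isoSpec.inv ≫ x₁.left = Spec.map π₁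
      rw [hπ₁]
    · apply Over.OverMorphism.ext
      change W₂.left.isoSpec.inv ≫ x₂.left = Spec.map π₂
      rw [hπ₂]
  have hp₁ : (yon S).map (presOf π₁' π₂' t).p₁ =
      ((yon S).map eW₂.hom ≫ r) ≫ pullback.fst w w := by
    have := congrArg (fun m => (yon S).map m) he₁
    simp only [Functor.map_comp] at this
    rw [hx₁] at this
    exact this.symm.trans (Category.assoc _ _ _).symm
  have hp₂ : (yon S).map (presOf π₁' π₂' t).p₂ =
      ((yon S).map eW₂.hom ≫ r) ≫ pullback.snd w w := by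
    have := congrArg (fun m => (yon S).map m) he₂
    simp only [Functor.map_comp] at this
    rw [hx₂] at this
    exact this.symm.trans (Category.assoc _ _ _).symm
  refine ⟨hwepi, hwg, ?_, ?_⟩
  · exact (congrArg (· ≫ w) hp₁).trans (((Category.assoc _ _ _).trans
      ((congrArg (((yon S).map eW₂.hom ≫ r) ≫ ·) pullback.condition).trans
        (Category.assoc _ _ _).symm)).trans (congrArg (· ≫ w) hp₂).symm)
  · intro T' a b hab
    obtain ⟨ρ, hρ₁, hρ₂⟩ : ∃ ρ : (yon S).obj T' ⟶ pullback w w,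
        ρ ≫ pullback.fst w w = (yon S).map a ∧ ρ ≫ pullback.snd w w = (yon S).map b :=
      ⟨pullback.lift ((yon S).map a) ((yon S).map b) hab, pullback.lift_fst _ _ _,
        pullback.lift_snd _ _ _⟩
    haveI : Epi ((yon S).map eW₂.hom ≫ r) := epi_comp _ _
    obtain ⟨R, hR, h⟩ := exists_local_lift_of_epi' ((yon S).map eW₂.hom ≫ r) ρ
    refine ⟨R, hR, fun T'' k hk => ?_⟩
    obtain ⟨τ, hτ⟩ := h k hk
    obtain ⟨z, rfl⟩ := (yon S).map_surjective τ
    refine ⟨z, ?_, ?_⟩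
    · apply (yon S).map_injective
      have e1 : (yon S).map (z ≫ (presOf π₁' π₂' t).p₁) =
          ((yon S).map z ≫ ((yon S).map eW₂.hom ≫ r)) ≫ pullback.fst w w := by
        rw [Functor.map_comp, hp₁]
        simp only [Category.assoc]
        rfl
      rw [e1, hτ, Category.assoc, hρ₁, Functor.map_comp]
      rfl
    · apply (yon S).map_injective
      have e1 : (yon S).map (z ≫ (presOf π₁' π₂' t).p₂) =
          ((yon S).map z ≫ ((yon S).map eW₂.hom ≫ r)) ≫ pullback.snd w w := by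
        rw [Functor.map_comp, hp₂]
        simp only [Category.assoc]
        rfl
      rw [e1, hτ, Category.assoc, hρ₂, Functor.map_comp]
      rfl

/-! ## Local existence in Spec form -/

theorem exists_isSNorm_spec {A : Type u} [CommRing A] (t : Spec (CommRingCat.of A) ⟶ S)
    {G : Sp S} (g : G ⟶ (yon S).obj (Over.mk t)) (hqc : IsQuasiCompactSp G)
    (hqs : ∀ (W : Over S) (w : (yon S).obj W ⟶ G), IsAffine W.left →
      IsQuasiCompactSp (pullback w w)) :
    ∃ (N : Over S) (ν : N ⟶ Over.mk t) (f' : G ⟶ (yon S).obj N),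
      IsAffine N.left ∧ IsSNorm g ((yon S).map ν) f' := by
  obtain ⟨B₁, B₂, _, _, _, _, π₁, π₂, w, hc⟩ := exists_covers t g hqc hqs
  obtain ⟨f', hf', hfac⟩ := hc.exists_desc (candOf π₁ π₂ t)
  have hn := hc.isRelNormalization _ (candOf_isNorm π₁ π₂ t) f' hf' hfac
  refine ⟨(candOf π₁ π₂ t).N, (candOf π₁ π₂ t).ν, f', ?_, hfac, hn.2.1, ?_⟩
  · change IsAffine (Spec _); infer_instance
  · intro T₁ c hT₁ hc₁
    haveI := hT₁
    obtain ⟨c₀, rfl⟩ := (yon S).map_surjective c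
    have hc₀ : Smooth c₀.left := (repWith_yon_map_iff _ c₀).1 hc₁
    obtain ⟨χ, hχ, θ, hθ⟩ : ∃ (χ : CommRingCat.of A ⟶ Γ(T₁.left, ⊤))
        (_ : Spec.map χ = T₁.left.isoSpec.inv ≫ c₀.left)
        (θ : Over.mk (Spec.map χ ≫ t) ≅ T₁), θ.hom ≫ c₀ =
          (Over.homMk (Spec.map χ) rfl : Over.mk (Spec.map χ ≫ t) ⟶ Over.mk t) :=
      ⟨sfRing t c₀, sfRing_map t c₀, sfIso t c₀, sfIso_hom_comp t c₀⟩
    letI : Algebra A ↑Γ(T₁.left, ⊤) := χ.hom.toAlgebra
    haveI hsm : Algebra.Smooth A ↑Γ(T₁.left, ⊤) := by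
      have : Smooth (Spec.map χ) := by rw [hχ]; infer_instance
      exact (HasRingHomProperty.Spec_iff (P := @Smooth)).1 this
    have key := bcNorm_candOf (↑Γ(T₁.left, ⊤)) π₁ π₂ t hc f' hf'
    have := bcNorm_precomp_iso key ((yon S).map θ.inv)
    have e : (yon S).map θ.inv ≫ (yon S).map (bcT (↑Γ(T₁.left, ⊤)) π₁ π₂ t) = (yon S).map c₀ := by
      rw [← Functor.map_comp]
      congr 1
      rw [Iso.inv_comp_eq]
      exact hθ.symm
    exact e ▸ this

/-! ## Local existence over an affine scheme -/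

instance smooth_isMultiplicative :
    MorphismProperty.IsMultiplicative (@Smooth : MorphismProperty Scheme.{u}) where
  id_mem _ := inferInstance
  comp_mem _ _ hf hg := by
    haveI := hf
    haveI := hg
    infer_instance

theorem isQuasiCompactSp_of_isQuasiCompactMor_yon {T : Over S} (hT : IsAffine T.left) {G : Sp S}
    (g : G ⟶ (yon S).obj T) (hqc : IsQuasiCompactMor g) : IsQuasiCompactSp G := by
  haveI := hT
  have hc : CompactSpace T.left := inferInstance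
  exact hqc (IsAlgSpace.yon_obj T) ((isQuasiCompactSp_yon_iff T).2 hc) (𝟙 _) (𝟙 G) g
    (IsPullback.of_horiz_isIso ⟨by simp⟩)

theorem isQuasiCompactSp_pullback_self {T : Over S} (hT : IsAffine T.left) {G : Sp S}
    (g : G ⟶ (yon S).obj T) (hqs : IsQuasiSeparatedMor g) (W : Over S)
    (w : (yon S).obj W ⟶ G) (hW : IsAffine W.left) : IsQuasiCompactSp (pullback w w) := by
  haveI := hT
  haveI := hW
  refine isQuasiCompactSp_of_repWith_quasiCompact _ (repWith_mapDesc w w g hqs) ?_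
  suffices key : ∀ m : (yon S).obj W ⟶ (yon S).obj T, IsQuasiCompactSp (pullback m m) from
    key (w ≫ g)
  intro m
  obtain ⟨x, rfl⟩ := (yon S).map_surjective m
  refine isQuasiCompactSp_of_iso (PreservesPullback.iso (yon S) x x).symm ?_
  rw [isQuasiCompactSp_yon_iff]
  have sq := (IsPullback.of_hasPullback x x).map (Over.forget S)
  haveI : IsAffineHom ((Over.forget S).map x) := by
    change IsAffineHom x.left
    exact isAffineHom_of_isAffine _
  haveI : IsAffine ((Over.forget S).obj W) := hW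
  haveI : IsAffine ((Over.forget S).obj (pullback x x)) := IsAffine.of_isPullback sq
  change CompactSpace ((Over.forget S).obj (pullback x x))
  infer_instance

theorem exists_isSNorm_affine {T : Over S} (hT : IsAffine T.left) {G : Sp S}
    (g : G ⟶ (yon S).obj T) (hqc : IsQuasiCompactMor g) (hqs : IsQuasiSeparatedMor g) :
    ∃ (N : Over S) (ν : N ⟶ T) (f' : G ⟶ (yon S).obj N),
      IsAffine N.left ∧ IsSNorm g ((yon S).map ν) f' := by
  haveI := hT
  have hG := isQuasiCompactSp_of_isQuasiCompactMor_yon hT g hqc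
  have hqs' := isQuasiCompactSp_pullback_self hT g hqs
  let t : Spec (CommRingCat.of ↑Γ(T.left, ⊤)) ⟶ S := T.left.isoSpec.inv ≫ T.hom
  let eT : Over.mk t ≅ T := Over.isoMk T.left.isoSpec.symm rfl
  obtain ⟨N, ν₀, f', hN, hs⟩ := exists_isSNorm_spec t (g ≫ (yon S).map eT.inv) hG hqs'
  refine ⟨N, ν₀ ≫ eT.hom, f', hN, ?_⟩
  refine hs.baseChange (e := (yon S).map eT.inv) (cG := 𝟙 G) (cN := 𝟙 _) ?_ ?_ ?_ ?_ ?_
  · intro T₁ c _ hc
    exact (RepWith @Smooth).comp_mem _ _ hc (repWith_of_isIso _ _)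
  · exact IsPullback.of_horiz_isIso ⟨by simp⟩
  · refine IsPullback.of_horiz_isIso ⟨?_⟩
    rw [Category.id_comp, ← Functor.map_comp, Category.assoc, Iso.hom_inv_id, Category.comp_id]
  · have := hs.1
    rw [Functor.map_comp, ← Category.assoc, this, Category.assoc, ← Functor.map_comp,
      Iso.inv_hom_id, CategoryTheory.Functor.map_id, Category.comp_id]
  · rw [Category.comp_id, Category.id_comp]

end Groth.Agent.Helper15.Norm
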