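import Groth.Agent.Lib.Helper15.NormDesc2
import Groth.Agent.Lib.Helper15.NormAff3

/-!
# Existence of relative normalizations: the gluing data
-/

set_option autoImplicit false
universe u
open CategoryTheory CategoryTheory.Limits AlgebraicGeometry MorphismProperty Opposite
open AlgSp

namespace Groth.Agent.Helper15.Norm

variable {S : Scheme.{u}}

theorem isQuasiCompactMor_of_isPullback' {X Y X' Y' : Sp S} {f : X ⟶ Y} {g : Y' ⟶ Y}
    {fst : X' ⟶ X} {snd : X' ⟶ Y'} (sq : IsPullback fst snd f g) (hf : IsQuasiCompactMor f) :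
    IsQuasiCompactMor snd := by
  intro Z Z' hZ hZq h fst' snd' sq'
  exact hf hZ hZq (h ≫ g) (fst' ≫ fst) snd' (sq'.paste_horiz sq)

theorem isQuasiSeparatedMor_of_isPullback' {X Y X' Y' : Sp S} {f : X ⟶ Y} {g : Y' ⟶ Y}
    {fst : X' ⟶ X} {snd : X' ⟶ Y'} (sq : IsPullback fst snd f g) (hf : IsQuasiSeparatedMor f) :
    IsQuasiSeparatedMor snd := by
  have : (RepWith (S := S) @QuasiCompact).diagonal f := hf
  exact MorphismProperty.of_isPullback (P := (RepWith (S := S) @QuasiCompact).diagonal) sq this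

/-- Both directions of transitivity of base change data. -/
theorem bcNorm_comp_iff {G H N G₁ H₁ N₁ H₂ : Sp S} {g : G ⟶ H} {ν : N ⟶ H} {f' : G ⟶ N}
    {e : H₁ ⟶ H} {g₁ : G₁ ⟶ H₁} {ν₁ : N₁ ⟶ H₁} {f'₁ : G₁ ⟶ N₁} {cG : G₁ ⟶ G} {cN : N₁ ⟶ N}
    (sqG : IsPullback cG g₁ g e) (sqN : IsPullback cN ν₁ ν e) (h1 : f'₁ ≫ ν₁ = g₁)
    (h2 : f'₁ ≫ cN = cG ≫ f') (c₁ : H₂ ⟶ H₁) :
    BCNorm g₁ ν₁ f'₁ c₁ ↔ BCNorm g ν f' (c₁ ≫ e) := by
  constructor
  · intro h G₂ N₂ g₂ ν₂ f'₂ dG dN sqG' sqN' k1 k2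
    have wG : dG ≫ g = (g₂ ≫ c₁) ≫ e := by rw [sqG'.w, Category.assoc]
    have wN : dN ≫ ν = (ν₂ ≫ c₁) ≫ e := by rw [sqN'.w, Category.assoc]
    have sqG₁ : IsPullback (sqG.lift dG (g₂ ≫ c₁) wG) g₂ g₁ c₁ := by
      refine IsPullback.of_right ?_ (sqG.lift_snd _ _ _) sqG
      rw [sqG.lift_fst]
      exact sqG'
    have sqN₁ : IsPullback (sqN.lift dN (ν₂ ≫ c₁) wN) ν₂ ν₁ c₁ := by
      refine IsPullback.of_right ?_ (sqN.lift_snd _ _ _) sqN
      rw [sqN.lift_fst]
      exact sqN'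
    refine h g₂ ν₂ f'₂ _ _ sqG₁ sqN₁ k1 ?_
    apply sqN.hom_ext
    · rw [Category.assoc, sqN.lift_fst, k2, Category.assoc, h2, ← Category.assoc, sqG.lift_fst]
    · rw [Category.assoc, sqN.lift_snd, ← Category.assoc, k1, Category.assoc, h1, sqG.lift_snd]
  · intro h G₂ N₂ g₂ ν₂ f'₂ dG dN sqG' sqN' k1 k2
    refine h g₂ ν₂ f'₂ (dG ≫ cG) (dN ≫ cN) (sqG'.paste_horiz sqG) (sqN'.paste_horiz sqN) k1 ?_
    rw [← Category.assoc, k2, Category.assoc, h2, Category.assoc]

/-! ## Local normalizations on all charts -/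

section Loc

variable {G H : Sp S} (g : G ⟶ H)

/-- Transition maps between the base changes of `g` to charts. -/
noncomputable def Gmap {o' o : Chart H} (f : o' ⟶ o) : pullback g o'.c ⟶ pullback g o.c :=
  pullback.lift (pullback.fst g o'.c) (pullback.snd g o'.c ≫ (yon S).map f.u)
    (by rw [Category.assoc, f.comm, pullback.condition])

@[simp] theorem Gmap_fst {o' o : Chart H} (f : o' ⟶ o) :
    Gmap g f ≫ pullback.fst g o.c = pullback.fst g o'.c := pullback.lift_fst _ _ _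

@[simp] theorem Gmap_snd {o' o : Chart H} (f : o' ⟶ o) :
    Gmap g f ≫ pullback.snd g o.c = pullback.snd g o'.c ≫ (yon S).map f.u :=
  pullback.lift_snd _ _ _

theorem Gmap_id (o : Chart H) : Gmap g (𝟙 o) = 𝟙 _ := by
  apply pullback.hom_ext
  · rw [Gmap_fst, Category.id_comp]
  · rw [Gmap_snd, Category.id_comp, Chart.id_u, CategoryTheory.Functor.map_id, Category.comp_id]

theorem Gmap_comp {o₁ o₂ o₃ : Chart H} (f : o₁ ⟶ o₂) (f' : o₂ ⟶ o₃) :
    Gmap g (f ≫ f') = Gmap g f ≫ Gmap g f' := by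
  apply pullback.hom_ext
  · rw [Gmap_fst, Category.assoc, Gmap_fst, Gmap_fst]
  · rw [Gmap_snd, Category.assoc, Gmap_snd, ← Category.assoc, Gmap_snd, Category.assoc,
      Chart.comp_u, Functor.map_comp]

theorem isPullback_Gmap {o' o : Chart H} (f : o' ⟶ o) :
    IsPullback (Gmap g f) (pullback.snd g o'.c) (pullback.snd g o.c) ((yon S).map f.u) := by
  refine IsPullback.of_right ?_ (Gmap_snd g f) (IsPullback.of_hasPullback g o.c)
  rw [Gmap_fst, f.comm]
  exact IsPullback.of_hasPullback g o'.c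

/-- A choice of smooth-universal normalizations over all charts. -/
structure LocNorm where
  N : Chart H → Over S
  ν : ∀ o, N o ⟶ o.T
  f' : ∀ o, pullback g o.c ⟶ (yon S).obj (N o)
  sn : ∀ o, IsSNorm (pullback.snd g o.c) ((yon S).map (ν o)) (f' o)

variable {g}

namespace LocNorm

variable (L : LocNorm g)

theorem isRelNormalization (o : Chart H) :
    IsRelNormalization (pullback.snd g o.c) ((yon S).map (L.ν o)) (L.f' o) :=
  (L.sn o).isRelNormalization (IsAlgSpace.yon_obj _)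

/-- Uniqueness of transition maps. -/
theorem map_unique {o' o : Chart H} (f : o' ⟶ o) (n₁ n₂ : L.N o' ⟶ L.N o)
    (h₁ : n₁ ≫ L.ν o = L.ν o' ≫ f.u) (h₂ : n₂ ≫ L.ν o = L.ν o' ≫ f.u)
    (k₁ : L.f' o' ≫ (yon S).map n₁ = Gmap g f ≫ L.f' o)
    (k₂ : L.f' o' ≫ (yon S).map n₂ = Gmap g f ≫ L.f' o) : n₁ = n₂ := by
  have sqP := IsPullback.of_hasPullback (L.ν o) f.u
  have sqN := sqP.map (yon S)
  have hint : IsIntegralMor ((yon S).map (pullback.snd (L.ν o) f.u)) :=
    isIntegralMor_of_isPullback sqN (L.sn o).2.1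
  have e : (yon S).map (sqP.lift n₁ (L.ν o') h₁) = (yon S).map (sqP.lift n₂ (L.ν o') h₂) := by
    refine norm_hom_ext (L.isRelNormalization o') (IsAlgSpace.yon_obj _) hint ?_ ?_ ?_
    · apply sqN.hom_ext
      · rw [Category.assoc, Category.assoc, ← Functor.map_comp, ← Functor.map_comp, sqP.lift_fst,
          sqP.lift_fst, k₁, k₂]
      · rw [Category.assoc, Category.assoc, ← Functor.map_comp, ← Functor.map_comp, sqP.lift_snd,
          sqP.lift_snd]
    · rw [← Functor.map_comp, sqP.lift_snd]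
    · rw [← Functor.map_comp, sqP.lift_snd]
  have e' := (yon S).map_injective e
  rw [← sqP.lift_fst n₁ (L.ν o') h₁, ← sqP.lift_fst n₂ (L.ν o') h₂, e']

/-- Existence of cartesian transition maps. -/
theorem exists_map {o' o : Chart H} (f : o' ⟶ o) :
    ∃ n : L.N o' ⟶ L.N o, L.f' o' ≫ (yon S).map n = Gmap g f ≫ L.f' o ∧
      IsPullback n (L.ν o') (L.ν o) f.u := by
  have sqP := IsPullback.of_hasPullback (L.ν o) f.u
  have sqN := sqP.map (yon S)
  have sqG := isPullback_Gmap g f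
  have hfac := (L.sn o).1
  let f'₁ : pullback g o'.c ⟶ (yon S).obj (pullback (L.ν o) f.u) :=
    sqN.lift (Gmap g f ≫ L.f' o) (pullback.snd g o'.c) (by rw [Category.assoc, hfac, Gmap_snd])
  have h1 : f'₁ ≫ (yon S).map (pullback.snd (L.ν o) f.u) = pullback.snd g o'.c :=
    sqN.lift_snd _ _ _
  have h2 : f'₁ ≫ (yon S).map (pullback.fst (L.ν o) f.u) = Gmap g f ≫ L.f' o :=
    sqN.lift_fst _ _ _
  have hsm : RepWith @Smooth ((yon S).map f.u) :=
    (repWith_yon_map_iff _ f.u).2 (by haveI := f.et; infer_instance)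
  have hn₁ : IsRelNormalization (pullback.snd g o'.c)
      ((yon S).map (pullback.snd (L.ν o) f.u)) f'₁ :=
    (L.sn o).2.2 o'.T _ o'.aff hsm _ _ _ _ _ sqG sqN h1 h2
  obtain ⟨e, he1, he2⟩ := norm_exists_iso (L.isRelNormalization o') (IsAlgSpace.yon_obj _) hn₁
    (IsAlgSpace.yon_obj _)
  let e₀ : L.N o' ≅ pullback (L.ν o) f.u := (yon S).preimageIso e
  have he₀ : (yon S).map e₀.hom = e.hom := Functor.map_preimage _ _
  refine ⟨e₀.hom ≫ pullback.fst (L.ν o) f.u, ?_, ?_⟩
  · rw [Functor.map_comp, he₀, ← Category.assoc, he1, h2]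
  · refine IsPullback.of_iso sqP e₀.symm (Iso.refl _) (Iso.refl _) (Iso.refl _) ?_ ?_ ?_ ?_
    · simp
    · apply (yon S).map_injective
      simp only [Iso.symm_hom, Iso.refl_hom, Category.comp_id, Functor.map_comp]
      rw [← he2, ← he₀, ← Functor.map_comp, ← Functor.map_comp, Iso.inv_hom_id_assoc]
    · simp
    · simp

/-- The transition maps. -/
noncomputable def map {o' o : Chart H} (f : o' ⟶ o) : L.N o' ⟶ L.N o := (L.exists_map f).choose

theorem f'_map {o' o : Chart H} (f : o' ⟶ o) :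
    L.f' o' ≫ (yon S).map (L.map f) = Gmap g f ≫ L.f' o := (L.exists_map f).choose_spec.1

theorem isPullback_map {o' o : Chart H} (f : o' ⟶ o) :
    IsPullback (L.map f) (L.ν o') (L.ν o) f.u := (L.exists_map f).choose_spec.2

theorem map_id (o : Chart H) : L.map (𝟙 o) = 𝟙 _ := by
  refine L.map_unique (𝟙 o) _ _ (L.isPullback_map _).w ?_ (L.f'_map _) ?_
  · rw [Category.id_comp, Chart.id_u, Category.comp_id]
  · rw [CategoryTheory.Functor.map_id, Category.comp_id, Gmap_id, Category.id_comp]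

theorem map_comp {o₁ o₂ o₃ : Chart H} (f : o₁ ⟶ o₂) (f' : o₂ ⟶ o₃) :
    L.map (f ≫ f') = L.map f ≫ L.map f' := by
  refine L.map_unique (f ≫ f') _ _ (L.isPullback_map _).w ?_ (L.f'_map _) ?_
  · rw [Category.assoc, (L.isPullback_map f').w, ← Category.assoc, (L.isPullback_map f).w,
      Category.assoc, Chart.comp_u]
  · rw [Functor.map_comp, ← Category.assoc, L.f'_map, Category.assoc, L.f'_map, ← Category.assoc,
      Gmap_comp]

/-- The gluing data defined by local normalizations. -/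
noncomputable def glueData : GlueData H where
  N := { obj := L.N, map := L.map, map_id := L.map_id, map_comp := L.map_comp }
  ν := L.ν
  cart := L.isPullback_map

end LocNorm

/-- Local normalizations exist on all charts. -/
theorem nonempty_locNorm (hqc : IsQuasiCompactMor g) (hqs : IsQuasiSeparatedMor g) :
    Nonempty (LocNorm g) := by
  have h : ∀ o : Chart H, ∃ (N : Over S) (ν : N ⟶ o.T)
      (f' : pullback g o.c ⟶ (yon S).obj N), IsSNorm (pullback.snd g o.c) ((yon S).map ν) f' := by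
    intro o
    have sq := IsPullback.of_hasPullback g o.c
    obtain ⟨N, ν, f', -, h⟩ := exists_isSNorm_affine o.aff (pullback.snd g o.c)
      (isQuasiCompactMor_of_isPullback' sq hqc) (isQuasiSeparatedMor_of_isPullback' sq hqs)
    exact ⟨N, ν, f', h⟩
  choose N ν f' h using h
  exact ⟨⟨N, ν, f', h⟩⟩

end Loc

end Groth.Agent.Helper15.Norm
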