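import Mathlib
import Groth.Prelude
import Groth.Agent.Lib.Helper15.GenFin5
import Groth.Agent.Lib.Helper15.QFLocusSp
import Groth.Agent.Lib.Helper15.AlgSpAtNbhd
import Groth.Agent.Lib.Helper15.LocFinIrr
import Groth.Agent.Lib.Helper15.NormExist1
import Groth.Agent.Lib.Helper15.AlgSpOpen
import Groth.Agent.Lib.Helper15.AlgSpProper

/-!
# Generic finiteness for algebraic spaces: finite over a neighbourhood of a codimension 0 point
-/

set_option autoImplicit false
universe u
open CategoryTheory CategoryTheory.Limits AlgebraicGeometry MorphismProperty Opposite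
open AlgSp Groth.Agent.Helper16.AS

namespace Groth.Agent.Helper15.GenFin

open Groth.Agent.Helper15 Groth.Agent.Helper15.Strat Groth.Agent.Helper15.Norm
  Groth.Agent.Helper15.MaxPts Groth.Agent.Helper15.ChartBC

variable {S : Scheme.{u}}

theorem mem_maxPts_opens {Z : Scheme.{u}} (W : Z.Opens) (z : Z) (hz : z ∈ W)
    (h : z ∈ maxPts Z) : (⟨z, hz⟩ : (W : Scheme.{u})) ∈ maxPts (W : Scheme.{u}) := by
  intro y hy
  have h1 : W.ι y ⤳ z := hy.map W.ι.continuous
  have h2 : z ⤳ W.ι y := h _ h1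
  exact (W.ι.isOpenEmbedding.isInducing.specializes_iff).1 h2

theorem exists_open_finite {X Y : Sp S} (hX : IsAlgSpace X) (hY : IsAlgSpace Y) (f : X ⟶ Y)
    (hqs : IsQuasiSeparatedMor f) (hft : IsFiniteTypeMor f) (y : Points Y)
    (hy : HasAt (fun U u => ringKrullDim ↥(U.presheaf.stalk u) = 0) Y y)
    (hqf : ∀ x : Points X, Points.map f x = y →
      HasAtMor (fun U _ h u => ∃ W : U.Opens, u ∈ W ∧
        (@LocallyQuasiFinite ⊓ @LocallyOfFiniteType : MorphismProperty Scheme.{u}) (W.ι ≫ h)) f x) :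
    ∃ (Y' : Sp S) (j : Y' ⟶ Y), IsAlgSpace Y' ∧ RepWith @IsOpenImmersion j ∧
      y ∈ Set.range (Points.map j) ∧
      ∀ (P : Sp S) (fst : P ⟶ Y') (snd : P ⟶ X), IsPullback fst snd j f → IsFiniteMor fst := by
  have hP₀ : ∀ ⦃A B : Scheme.{u}⦄ (g : A ⟶ B),
      (@LocallyQuasiFinite ⊓ @LocallyOfFiniteType : MorphismProperty Scheme.{u}) g ↔
        (LocallyQuasiFinite g ∧ LocallyOfFiniteType g) := fun A B g => Iff.rfl
  have hL := (Or.inr (Or.inr (Or.inr (Or.inr (Or.inr (Or.inl hP₀))))) :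
    (@LocallyQuasiFinite ⊓ @LocallyOfFiniteType : MorphismProperty Scheme.{u}) =
        @LocallyOfFiniteType ∨
      (@LocallyQuasiFinite ⊓ @LocallyOfFiniteType : MorphismProperty Scheme.{u}) =
        @LocallyOfFinitePresentation ∨
      (@LocallyQuasiFinite ⊓ @LocallyOfFiniteType : MorphismProperty Scheme.{u}) = @Flat ∨
      (@LocallyQuasiFinite ⊓ @LocallyOfFiniteType : MorphismProperty Scheme.{u}) = @Smooth ∨
      (@LocallyQuasiFinite ⊓ @LocallyOfFiniteType : MorphismProperty Scheme.{u}) = @Etale ∨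
      (∀ ⦃A B : Scheme.{u}⦄ (g : A ⟶ B),
        (@LocallyQuasiFinite ⊓ @LocallyOfFiniteType : MorphismProperty Scheme.{u}) g ↔
          (LocallyQuasiFinite g ∧ LocallyOfFiniteType g)) ∨
      (∀ ⦃A B : Scheme.{u}⦄ (g : A ⟶ B),
        (@LocallyQuasiFinite ⊓ @LocallyOfFiniteType : MorphismProperty Scheme.{u}) g ↔
          (LocallyOfFiniteType g ∧ FormallyUnramified g)))
  obtain ⟨V₀, b₀, v₀, hb₀, hv₀y, hdim⟩ := hy
  have hv₀max : v₀ ∈ maxPts V₀.left := (LocFinIrr.ringKrullDim_stalk_eq_zero_iff v₀).1 hdim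
  obtain ⟨W, hWaff, hv₀W, -⟩ := exists_isAffineOpen_mem_and_subset (X := V₀.left) (x := v₀)
    (U := ⊤) trivial
  let V : Over S := opSub V₀ W
  haveI : IsAffine V.left := hWaff
  let b : (yon S).obj V ⟶ Y := (yon S).map (opι V₀ W) ≫ b₀
  have hb : RepWith @Etale b :=
    (RepWith @Etale).comp_mem _ _ ((repWith_yon_map_iff _ _).2 (inferInstance : Etale W.ι)) hb₀
  let v : V.left := ⟨v₀, hv₀W⟩
  have hvy : Points.ofPt b v = y := by
    rw [ofPt_comp_yon_map]
    exact hv₀y
  have hv : v ∈ maxPts V.left := mem_maxPts_opens W v₀ hv₀W hv₀max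
  -- the base change to `V`
  have sqP : IsPullback (pullback.fst f b) (pullback.snd f b) f b := IsPullback.of_hasPullback _ _
  set m₀ := pullback.fst f b with hm₀
  set q := pullback.snd f b with hq
  have hP : IsAlgSpace (pullback f b) :=
    isAlgSpace_of_isPullback hY.diag hX (IsAlgSpace.yon_obj V) sqP
  have hV : IsAlgSpace ((yon S).obj V) := IsAlgSpace.yon_obj V
  have hftq : IsFiniteTypeMor q :=
    ⟨locP_of_isPullback goodP_lft srcEtLoc_lft hX hY hV sqP hft.1,
      isQuasiCompactMor_of_isPullback' sqP hft.2⟩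
  have hqsq : IsQuasiSeparatedMor q := isQuasiSeparatedMor_of_isPullback' sqP hqs
  have hm₀e : RepWith @Etale m₀ := (RepWith @Etale).of_isPullback sqP.flip hb
  have hqfq : ∀ {U : Over S} (a : (yon S).obj U ⟶ pullback f b) (g : U ⟶ V), RepWith @Etale a →
      a ≫ q = (yon S).map g → ∀ u : U.left, g.left u = v → g.left.QuasiFiniteAt u := by
    intro U a g hae comm u hu
    have hx : Points.map f (Points.ofPt (a ≫ m₀) u) = y := by
      rw [Points.map_ofPt, Category.assoc, sqP.w, ← Category.assoc, comm, ofPt_comp_yon_map, hu]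
      exact hvy
    obtain ⟨X₁, j₁, hX₁, hj₁, hxr, hloc⟩ :=
      (hasAtMor_nbhd_iff_exists_open_subspace _ hL hX hY f _).1 (hqf _ hx)
    have comm' : (a ≫ m₀) ≫ f = (yon S).map g ≫ b := by
      rw [Category.assoc, sqP.w, ← Category.assoc, comm]
    obtain ⟨W', huW', hW'⟩ := exists_nbhd_of_open_subspace f j₁ hj₁ hloc (a ≫ m₀) b g
      ((RepWith @Etale).comp_mem _ _ hae hm₀e) hb comm' u hxr
    exact quasiFiniteAt_of_nbhd g.left u W' huW' hW'.1
  obtain ⟨V', hvV', hV'aff, hfinV'⟩ := exists_opens_isFiniteMor hP q hftq hqsq v hv hqfq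
  -- the open image of `V'`
  let b' : (yon S).obj (opSub V V') ⟶ Y := (yon S).map (opι V V') ≫ b
  have hb' : RepWith @Etale b' :=
    (RepWith @Etale).comp_mem _ _ ((repWith_yon_map_iff _ _).2 (inferInstance : Etale V'.ι)) hb
  obtain ⟨hY', hj, hp'e, hp's, hrange⟩ := openSubspace_of_etale hY b' hb'
  have hfac : Sheaf.toImage b' ≫ Sheaf.imageι b' = b' := Sheaf.toImage_ι b'
  refine ⟨Sheaf.image b', Sheaf.imageι b', hY', hj, ?_, ?_⟩
  · rw [hrange]
    refine ⟨⟨v, hvV'⟩, ?_⟩
    rw [ofPt_comp_yon_map]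
    exact hvy
  · intro X' fst snd sq
    have hX' : IsAlgSpace X' := isAlgSpace_of_isPullback hY.diag hY' hX sq
    have hV'o : IsAlgSpace ((yon S).obj (opSub V V')) := IsAlgSpace.yon_obj _
    have sq'' : IsPullback (pullback.fst fst (Sheaf.toImage b'))
        (pullback.snd fst (Sheaf.toImage b')) fst (Sheaf.toImage b') := IsPullback.of_hasPullback _ _
    set π₁ := pullback.fst fst (Sheaf.toImage b') with hπ₁
    set π₂ := pullback.snd fst (Sheaf.toImage b') with hπ₂
    have hP'' : IsAlgSpace (pullback fst (Sheaf.toImage b')) :=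
      isAlgSpace_of_isPullback hY'.diag hX' hV'o sq''
    have outer : IsPullback (π₁ ≫ snd) π₂ f ((yon S).map (opι V V') ≫ b) := by
      have := sq''.flip.paste_vert sq
      rw [hfac] at this
      exact this.flip
    have hw : (π₁ ≫ snd) ≫ f = (π₂ ≫ (yon S).map (opι V V')) ≫ b := by
      rw [Category.assoc]; exact outer.w
    let m : pullback fst (Sheaf.toImage b') ⟶ pullback f b := sqP.lift _ _ hw
    have hm1 : m ≫ m₀ = π₁ ≫ snd := sqP.lift_fst _ _ _
    have hm2 : m ≫ q = π₂ ≫ (yon S).map (opι V V') := sqP.lift_snd _ _ _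
    have left : IsPullback m π₂ q ((yon S).map (opι V V')) := by
      refine IsPullback.of_right ?_ hm2 sqP
      rw [hm1]
      exact outer
    have hfin : IsFiniteMor π₂ := hfinV' m π₂ left
    have h12 := (((finite_tfae hP'' hV'o π₂).out 0 1).1 hfin)
    have hprop : IsProperMor fst :=
      isProperMor_of_etale_cover hX' hY' fst (Sheaf.toImage b') hp'e hp's π₁ π₂ sq'' h12.1
    have hG := goodP_lqf_lft
    haveI := hG.bc
    haveI := hG.loc
    have hloc : LocP (@LocallyQuasiFinite ⊓ @LocallyOfFiniteType) fst :=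
      locP_of_target_cover _ fst (Sheaf.toImage b') hp'e hp's π₁ π₂ sq'' h12.2
    have h21 := (finite_tfae hX' hY' fst).out 1 0
    exact h21.1 ⟨hprop, hloc⟩

end Groth.Agent.Helper15.GenFin
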