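import Mathlib
import Groth.Prelude
import Groth.Agent.Lib.Helper15.GenFin6
import Groth.Agent.Lib.Helper15.MaxPts

/-!
# Generic finiteness: scheme-level lemmas for all maximal points at once
-/

set_option autoImplicit false
universe u
open CategoryTheory CategoryTheory.Limits AlgebraicGeometry MorphismProperty Opposite

namespace Groth.Agent.Helper15.GenFin

open Groth.Agent.Helper15.MaxPts

theorem isFinite_restrict_restrict_iff {X Y : Scheme.{u}} (f : X ⟶ Y) {V' W : Y.Opens}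
    (hle : V' ≤ W) : IsFinite ((f ∣_ W) ∣_ (W.ι ⁻¹ᵁ V')) ↔ IsFinite (f ∣_ V') := by
  rw [MorphismProperty.arrow_mk_iso_iff @IsFinite (morphismRestrictRestrict f W _)]
  have e : W.ι ''ᵁ (W.ι ⁻¹ᵁ V') = V' := by
    rw [Scheme.Hom.image_preimage_eq_opensRange_inf, Scheme.Opens.opensRange_ι]
    exact inf_eq_right.2 hle
  rw [MorphismProperty.arrow_mk_iso_iff @IsFinite (morphismRestrictEq f e)]

/-- Finiteness of the restrictions over a family of opens gives finiteness over the union. -/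
theorem isFinite_restrict_iSup {X Y : Scheme.{u}} (f : X ⟶ Y) {ι : Type*} (V : ι → Y.Opens)
    (h : ∀ i, IsFinite (f ∣_ V i)) : IsFinite (f ∣_ (⨆ i, V i)) := by
  apply IsZariskiLocalAtTarget.of_forall_exists_morphismRestrict (P := @IsFinite)
  intro x
  have hx : x.1 ∈ ⨆ i, V i := x.2
  obtain ⟨i, hi⟩ := TopologicalSpace.Opens.mem_iSup.1 hx
  exact ⟨(⨆ i, V i).ι ⁻¹ᵁ V i, hi, (isFinite_restrict_restrict_iff f (le_iSup V i)).2 (h i)⟩

/-- A finite set of points of a scheme lies in a quasi-compact open. -/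
theorem exists_isCompact_opens_of_finite (Z : Scheme.{u}) {F : Set Z} (hF : F.Finite) :
    ∃ W : Z.Opens, IsCompact (W : Set Z) ∧ F ⊆ W := by
  classical
  have key : ∀ z : Z, ∃ O : Z.Opens, IsAffineOpen O ∧ z ∈ O := fun z => by
    obtain ⟨O, hO, hz, -⟩ := exists_isAffineOpen_mem_and_subset (X := Z) (x := z) (U := ⊤) trivial
    exact ⟨O, hO, hz⟩
  choose O hO hz using key
  refine ⟨⨆ z ∈ F, O z, ?_, ?_⟩
  · have : ((⨆ z ∈ F, O z : Z.Opens) : Set Z) = ⋃ z ∈ F, (O z : Set Z) := by simp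
    rw [this]
    exact hF.isCompact_biUnion (fun z _ => (hO z).isCompact)
  · intro z hzF
    exact TopologicalSpace.Opens.mem_iSup.2 ⟨z, TopologicalSpace.Opens.mem_iSup.2 ⟨hzF, hz z⟩⟩

/-- Flat morphisms send maximal points to maximal points. -/
theorem map_mem_maxPts_of_flat {W U : Scheme.{u}} (g : W ⟶ U) [Flat g] {w : W}
    (hw : w ∈ maxPts W) : g w ∈ maxPts U :=
  map_mem_maxPts g.continuous (Flat.generalizingMap g) hw

/-- **Generic finiteness, separated case, for schemes.** -/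
theorem exists_opens_finite_of_separated {R V : Scheme.{u}} (r : R ⟶ V) [IsAffine V]
    [LocallyOfFiniteType r] [IsSeparated r]
    (hpre : ∀ w ∈ maxPts R, r w ∈ maxPts V) (hfib : (r ⁻¹' maxPts V).Finite) :
    ∃ V' : V.Opens, maxPts V ⊆ V' ∧ IsFinite (r ∣_ V') := by
  obtain ⟨R₁, hR₁c, hFR₁⟩ := exists_isCompact_opens_of_finite R hfib
  haveI : CompactSpace (R₁ : Scheme.{u}) := isCompact_iff_compactSpace.1 hR₁c
  set r₁ := R₁.ι ≫ r with hr₁
  have key : ∀ v : V, v ∈ maxPts V → ∃ V' : V.Opens, v ∈ V' ∧ IsFinite (r₁ ∣_ V') := by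
    intro v hv
    refine exists_opens_finite_of_compactSpace r₁ v hv ?_
    refine (hfib.preimage (Set.injOn_of_injective R₁.ι.injective)).subset ?_
    intro x hx
    change r (R₁.ι x) ∈ maxPts V
    have : r (R₁.ι x) = v := hx
    rw [this]
    exact hv
  choose! Vv hvV hfinV using key
  let V'' : V.Opens := ⨆ v : maxPts V, Vv v.1
  have hV'' : maxPts V ⊆ V'' := fun v hv =>
    TopologicalSpace.Opens.mem_iSup.2 ⟨⟨v, hv⟩, hvV v hv⟩
  have hfin₁ : IsFinite (r₁ ∣_ V'') := isFinite_restrict_iSup r₁ _ (fun v => hfinV v.1 v.2)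
  refine ⟨V'', hV'', ?_⟩
  set b := r ∣_ V'' with hb
  let A : (r ⁻¹ᵁ V'' : Scheme.{u}).Opens := (r ⁻¹ᵁ V'').ι ⁻¹ᵁ R₁
  have hA : IsFinite (A.ι ≫ b) := by
    refine isFinite_of_range_eq r (A.ι ≫ (r ⁻¹ᵁ V'').ι) ((r₁ ⁻¹ᵁ V'').ι ≫ R₁.ι) ?_
      (A.ι ≫ b) (r₁ ∣_ V'') V''.ι ?_ ?_ hfin₁
    · ext x
      constructor
      · rintro ⟨y, rfl⟩
        exact ⟨⟨⟨y.1.1, y.2⟩, y.1.2⟩, rfl⟩
      · rintro ⟨y, rfl⟩
        exact ⟨⟨⟨y.1.1, y.2⟩, y.1.2⟩, rfl⟩
    · rw [Category.assoc, hb, morphismRestrict_ι, Category.assoc]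
    · rw [morphismRestrict_ι, Category.assoc]
  haveI : IsSeparated b := inferInstance
  haveI : UniversallyClosed (A.ι ≫ b) := inferInstance
  haveI : UniversallyClosed A.ι := UniversallyClosed.of_comp_of_isSeparated A.ι b
  have hAcl : IsClosed (A : Set (r ⁻¹ᵁ V'' : Scheme.{u})) := by
    have := A.ι.isClosedMap _ isClosed_univ
    rwa [Set.image_univ, Scheme.Opens.range_ι] at this
  have hAtop : A = ⊤ := by
    rw [eq_top_iff]
    intro z _
    by_contra hz
    let Zs : Set R := (r ⁻¹ᵁ V'').ι '' ((A : Set (r ⁻¹ᵁ V'' : Scheme.{u}))ᶜ)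
    have hZo : IsOpen Zs := (r ⁻¹ᵁ V'').ι.isOpenEmbedding.isOpenMap _ hAcl.isOpen_compl
    obtain ⟨η, hη, hηz⟩ := exists_maxPts_specializes ((r ⁻¹ᵁ V'').ι z)
    have hηZ : η ∈ Zs := hηz.mem_open hZo ⟨z, hz, rfl⟩
    obtain ⟨z', hz', rfl⟩ := hηZ
    have : (r ⁻¹ᵁ V'').ι z' ∈ R₁ := hFR₁ (hpre _ hη)
    exact hz' this
  rw [hAtop] at hA
  have : IsIso (⊤ : (r ⁻¹ᵁ V'' : Scheme.{u}).Opens).ι :=
    (inferInstance : IsIso (Scheme.topIso _).hom)
  exact (MorphismProperty.cancel_left_of_respectsIso @IsFinite _ b).1 hA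

/-- In a scheme with finitely many maximal points, every open containing them contains an
affine open containing them. -/
theorem exists_isAffineOpen_maxPts_subset (T : Scheme.{u}) (hT : (maxPts T).Finite)
    (O : T.Opens) (hO : maxPts T ⊆ O) :
    ∃ W : T.Opens, IsAffineOpen W ∧ maxPts T ⊆ W ∧ W ≤ O := by
  classical
  have hC : ∀ t : T, IsClosed (⋃ t' ∈ (maxPts T \ {t}), closure ({t'} : Set T)) := fun t =>
    (hT.subset Set.sdiff_subset).isClosed_biUnion (fun _ _ => isClosed_closure)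
  have key : ∀ t : T, t ∈ maxPts T → ∃ W : T.Opens, IsAffineOpen W ∧ t ∈ W ∧ W ≤ O ∧
      ∀ t' ∈ maxPts T, t' ≠ t → Disjoint (W : Set T) (closure {t'}) := by
    intro t ht
    let Ot : T.Opens := O ⊓ ⟨_, (hC t).isOpen_compl⟩
    have htO : t ∈ Ot := by
      refine ⟨hO ht, ?_⟩
      intro hmem
      simp only [Set.mem_iUnion] at hmem
      obtain ⟨t', ⟨ht', hne⟩, htc⟩ := hmem
      have h1 : t' ⤳ t := specializes_iff_mem_closure.2 htc
      have h2 : t ⤳ t' := ht t' h1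
      exact hne (h1.antisymm h2).eq
    obtain ⟨W, hW, htW, hWle⟩ :=
      exists_isAffineOpen_mem_and_subset (X := T) (x := t) (U := Ot) htO
    refine ⟨W, hW, htW, hWle.trans inf_le_left, ?_⟩
    intro t' ht' hne
    rw [Set.disjoint_left]
    intro x hxW hxc
    have := (hWle hxW).2
    apply this
    exact Set.mem_biUnion (⟨ht', hne⟩ : t' ∈ maxPts T \ {t}) hxc
  choose! W hWaff htW hWO hWdisj using key
  refine ⟨⨆ t ∈ maxPts T, W t,
    IsAffineOpen.biSup_of_disjoint hT (fun t ht => hWaff t ht) ?_, ?_, ?_⟩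
  · intro t ht t' ht' hne
    change Disjoint (W t) (W t')
    rw [← TopologicalSpace.Opens.coe_disjoint, Set.disjoint_left]
    intro x hx hx'
    obtain ⟨η, hη, hηx⟩ := exists_maxPts_specializes x
    have h1 : η ∈ W t := hηx.mem_open (W t).2 hx
    have h2 : η ∈ W t' := hηx.mem_open (W t').2 hx'
    have e1 : η = t := by
      by_contra hne'
      exact Set.disjoint_left.1 (hWdisj t ht η hη hne') h1 (subset_closure rfl)
    have e2 : η = t' := by
      by_contra hne'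
      exact Set.disjoint_left.1 (hWdisj t' ht' η hη hne') h2 (subset_closure rfl)
    exact hne (e1.symm.trans e2)
  · intro t ht
    exact TopologicalSpace.Opens.mem_iSup.2 ⟨t, TopologicalSpace.Opens.mem_iSup.2 ⟨ht, htW t ht⟩⟩
  · exact iSup₂_le (fun t ht => hWO t ht)

end Groth.Agent.Helper15.GenFin
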