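import Mathlib
import Groth.Prelude
import Groth.Agent.Lib.Helper15.GenFin7

/-!
# Generic finiteness: chart-level statements over all maximal points of an affine base
-/

set_option autoImplicit false
universe u
open CategoryTheory CategoryTheory.Limits AlgebraicGeometry MorphismProperty Opposite
open AlgSp Groth.Agent.Helper16.AS

namespace Groth.Agent.Helper15.GenFin

open Groth.Agent.Helper15 Groth.Agent.Helper15.Strat Groth.Agent.Helper15.Norm
  Groth.Agent.Helper15.MaxPts Groth.Agent.Helper15.QfSplitA Groth.Agent.Helper15.ChartBC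

variable {S : Scheme.{u}}

/-- Quasi-finiteness at a point of an algebraic space, read on a chart. -/
theorem quasiFiniteAt_chart_of_hasAtMor {X Y : Sp S} (hX : IsAlgSpace X) (hY : IsAlgSpace Y)
    (f : X ⟶ Y) {U V : Over S} (a : (yon S).obj U ⟶ X) (b : (yon S).obj V ⟶ Y) (g : U ⟶ V)
    (hae : RepWith @Etale a) (hbe : RepWith @Etale b) (comm : a ≫ f = (yon S).map g ≫ b)
    (u : U.left)
    (hqf : HasAtMor (fun U _ h u => ∃ W : U.Opens, u ∈ W ∧
        (@LocallyQuasiFinite ⊓ @LocallyOfFiniteType : MorphismProperty Scheme.{u}) (W.ι ≫ h)) f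
          (Points.ofPt a u)) :
    g.left.QuasiFiniteAt u := by
  have hP₀ : ∀ ⦃A B : Scheme.{u}⦄ (g : A ⟶ B),
      (@LocallyQuasiFinite ⊓ @LocallyOfFiniteType : MorphismProperty Scheme.{u}) g ↔
        (LocallyQuasiFinite g ∧ LocallyOfFiniteType g) := fun A B g => Iff.rfl
  have hL := (Or.inr (Or.inr (Or.inr (Or.inr (Or.inr (Or.inl hP₀))))) :
    (@LocallyQuasiFinite ⊓ @LocallyOfFiniteType : MorphismProperty Scheme.{u}) =
        @LocallyOfFiniteType ∨
      (@LocallyQuasiFinite ⊓ @LocallyOfFiniteType : MorphismProperty Scheme.{u}) =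
        @LocallyOfFinitePresentation ∨
      (@LocallyQuasiFinite ⊓ @LocallyOfFiniteType : MorphismProperty Scheme.{u}) = @Flat ∨
      (@LocallyQuasiFinite ⊓ @LocallyOfFiniteType : MorphismProperty Scheme.{u}) = @Smooth ∨
      (@LocallyQuasiFinite ⊓ @LocallyOfFiniteType : MorphismProperty Scheme.{u}) = @Etale ∨
      (∀ ⦃A B : Scheme.{u}⦄ (g : A ⟶ B),
        (@LocallyQuasiFinite ⊓ @LocallyOfFiniteType : MorphismProperty Scheme.{u}) g ↔
          (LocallyQuasiFinite g ∧ LocallyOfFiniteType g)) ∨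
      (∀ ⦃A B : Scheme.{u}⦄ (g : A ⟶ B),
        (@LocallyQuasiFinite ⊓ @LocallyOfFiniteType : MorphismProperty Scheme.{u}) g ↔
          (LocallyOfFiniteType g ∧ FormallyUnramified g)))
  obtain ⟨X₁, j₁, hX₁, hj₁, hxr, hloc⟩ :=
    (hasAtMor_nbhd_iff_exists_open_subspace _ hL hX hY f _).1 hqf
  obtain ⟨W', huW', hW'⟩ := exists_nbhd_of_open_subspace f j₁ hj₁ hloc a b g hae hbe comm u hxr
  exact quasiFiniteAt_of_nbhd g.left u W' huW' hW'.1

theorem relation_comm {P : Sp S} {V U R : Over S} (q : P ⟶ (yon S).obj V)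
    (a : (yon S).obj U ⟶ P) (g : U ⟶ V) (comm : a ≫ q = (yon S).map g) (p₁ p₂ : R ⟶ U)
    (sqR : IsPullback ((yon S).map p₁) ((yon S).map p₂) a a) :
    p₁.left ≫ g.left = p₂.left ≫ g.left := by
  have hpg : p₁ ≫ g = p₂ ≫ g := by
    apply (yon S).map_injective
    rw [Functor.map_comp, Functor.map_comp, ← comm, ← Category.assoc, ← Category.assoc, sqR.w]
  exact congrArg (fun φ => (Over.forget S).map φ) hpg

/-- The relation of a chart maps by a monomorphism to the fibre square of the chart over the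
base. -/
theorem mono_relation {P : Sp S} {U R : Over S} {V₀ : Scheme.{u}} (g₀ : U.left ⟶ V₀)
    (a : (yon S).obj U ⟶ P) (p₁ p₂ : R ⟶ U)
    (sqR : IsPullback ((yon S).map p₁) ((yon S).map p₂) a a)
    (hpgl : p₁.left ≫ g₀ = p₂.left ≫ g₀) :
    Mono (pullback.lift p₁.left p₂.left hpgl) := by
  constructor
  intro T x y hxy
  have h1 : x ≫ p₁.left = y ≫ p₁.left := by
    have := congrArg (· ≫ pullback.fst g₀ g₀) hxy
    simpa only [Category.assoc, pullback.lift_fst] using this
  have h2 : x ≫ p₂.left = y ≫ p₂.left := by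
    have := congrArg (· ≫ pullback.snd g₀ g₀) hxy
    simpa only [Category.assoc, pullback.lift_snd] using this
  have hxy' : x ≫ R.hom = y ≫ R.hom := by
    rw [← CategoryTheory.Over.w p₁, ← Category.assoc, h1, Category.assoc]
  let To : Over S := Over.mk (x ≫ R.hom)
  let x' : To ⟶ R := Over.homMk x rfl
  let y' : To ⟶ R := Over.homMk y hxy'.symm
  have : (yon S).map x' = (yon S).map y' := by
    apply sqR.hom_ext
    · rw [← Functor.map_comp, ← Functor.map_comp]
      congr 1
      ext1
      exact h1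
    · rw [← Functor.map_comp, ← Functor.map_comp]
      congr 1
      ext1
      exact h2
  exact congrArg (fun φ => (Over.forget S).map φ) ((yon S).map_injective this)

/-- Restriction of a chart over an open of the base. -/
theorem exists_restricted_chart {P : Sp S} {V U : Over S}
    (q : P ⟶ (yon S).obj V) (a : (yon S).obj U ⟶ P) (hae : RepWith @Etale a)
    (has : RepWith @Surjective a) (g : U ⟶ V) (comm : a ≫ q = (yon S).map g)
    (V' : V.left.Opens) {P' : Sp S} (m : P' ⟶ P) (q' : P' ⟶ (yon S).obj (opSub V V'))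
    (sq : IsPullback m q' q ((yon S).map (opι V V'))) :
    ∃ (a' : (yon S).obj (opSub U (g.left ⁻¹ᵁ V')) ⟶ P')
      (g' : opSub U (g.left ⁻¹ᵁ V') ⟶ opSub V V'),
      g'.left = g.left ∣_ V' ∧ a' ≫ m = (yon S).map (opι U (g.left ⁻¹ᵁ V')) ≫ a ∧
      a' ≫ q' = (yon S).map g' ∧ RepWith @Etale a' ∧ RepWith @Surjective a' := by
  let O : U.left.Opens := g.left ⁻¹ᵁ V'
  let ι : opSub U O ⟶ U := opι U O
  let g' : opSub U O ⟶ opSub V V' := Over.homMk (g.left ∣_ V') (by
    change (g.left ∣_ V') ≫ (V'.ι ≫ V.hom) = O.ι ≫ U.hom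
    rw [morphismRestrict_ι_assoc, CategoryTheory.Over.w g])
  have hg'ι : g' ≫ opι V V' = ι ≫ g := by
    apply Over.OverMorphism.ext
    exact morphismRestrict_ι _ _
  have sqU : IsPullback ι g' g (opι V V') :=
    IsPullback.of_map_of_faithful (Over.forget S) (isPullback_morphismRestrict g.left V').flip
  have hw : ((yon S).map ι ≫ a) ≫ q = (yon S).map g' ≫ (yon S).map (opι V V') := by
    rw [Category.assoc, comm, ← Functor.map_comp, ← Functor.map_comp, hg'ι]
  let a' : (yon S).obj (opSub U O) ⟶ P' := sq.lift ((yon S).map ι ≫ a) ((yon S).map g') hw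
  have ha'm : a' ≫ m = (yon S).map ι ≫ a := sq.lift_fst _ _ _
  have ha'q : a' ≫ q' = (yon S).map g' := sq.lift_snd _ _ _
  have sqa : IsPullback a' ((yon S).map ι) m a := by
    refine IsPullback.of_right ?_ ha'm sq.flip
    rw [ha'q, comm]
    exact (sqU.flip).map (yon S)
  exact ⟨a', g', rfl, ha'm, ha'q, (RepWith @Etale).of_isPullback sqa.flip hae,
    (RepWith @Surjective).of_isPullback sqa.flip has⟩

/-- **Generic finiteness over an affine chart, around all maximal points**
(quasi-separated case). -/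
theorem exists_opens_isFiniteMor_maxPts {P : Sp S} (hP : IsAlgSpace P) {V : Over S}
    [IsAffine V.left] (q : P ⟶ (yon S).obj V) (hft : IsFiniteTypeMor q)
    (hqs : IsQuasiSeparatedMor q)
    (hqf : ∀ {U : Over S} (a : (yon S).obj U ⟶ P) (g : U ⟶ V), RepWith @Etale a →
      a ≫ q = (yon S).map g → ∀ u : U.left, g.left u ∈ maxPts V.left →
        g.left.QuasiFiniteAt u) :
    ∃ V' : V.left.Opens, maxPts V.left ⊆ V' ∧
      ∀ {P' : Sp S} (m : P' ⟶ P) (q' : P' ⟶ (yon S).obj (opSub V V')),
        IsPullback m q' q ((yon S).map (opι V V')) → IsFiniteMor q' := by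
  have hPqc : IsQuasiCompactSp P :=
    hft.2 (IsAlgSpace.yon_obj V) ((isQuasiCompactSp_yon_iff V).2 inferInstance) (𝟙 _) (𝟙 P) q
      IsPullback.of_id_fst
  obtain ⟨U, a, hUaff, hae, has⟩ := exists_affine_chart_of_isQuasiCompactSp hPqc
  haveI := hUaff
  let g : U ⟶ V := (yon S).preimage (a ≫ q)
  have comm : a ≫ q = (yon S).map g := ((yon S).map_preimage _).symm
  haveI hlft : LocallyOfFiniteType g.left :=
    hft.1 a (𝟙 _) g hae (repWith_id _ V) (by rw [comm, Category.comp_id])
  haveI : IsAffineHom g.left := isAffineHom_of_isAffine _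
  have hrep := hae.rep
  let R : Over S := hrep.pullback a
  let p₁ : R ⟶ U := hrep.fst' a
  let p₂ : R ⟶ U := hrep.snd a
  have sqR : IsPullback ((yon S).map p₁) ((yon S).map p₂) a a := hrep.isPullback' a
  have hqca : IsQuasiCompactMor a := by
    refine isQuasiCompactMor_of_comp a q ?_ hqs
    rw [comm]
    exact isQuasiCompactMor_of_repWith _ ((repWith_yon_map_iff _ g).2
      (inferInstance : QuasiCompact g.left))
  have hqcR : RepWith @QuasiCompact a := repWith_quasiCompact_of_isQuasiCompactMor a hrep hqca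
  haveI hp₁e : Etale p₁.left := hae.property a _ p₁ sqR.flip
  haveI hp₁qc : QuasiCompact p₁.left := hqcR.property a _ p₁ sqR.flip
  haveI : LocallyQuasiFinite p₁.left := locallyQuasiFinite_of_etale p₁.left
  haveI : CompactSpace R.left := by
    have := hp₁qc.isCompact_preimage (Set.univ) isOpen_univ isCompact_univ
    rw [Set.preimage_univ] at this
    exact isCompact_univ_iff.1 this
  have hpgl : p₁.left ≫ g.left = p₂.left ≫ g.left := relation_comm q a g comm p₁ p₂ sqR
  haveI : Mono (pullback.lift p₁.left p₂.left hpgl) := mono_relation g.left a p₁ p₂ sqR hpgl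
  haveI : IsSeparated (p₁.left ≫ g.left) := by
    have e : p₁.left ≫ g.left =
        pullback.lift p₁.left p₂.left hpgl ≫ pullback.fst g.left g.left ≫ g.left := by
      rw [← Category.assoc, pullback.lift_fst]
    rw [e]
    infer_instance
  have key : ∀ v : V.left, v ∈ maxPts V.left → ∃ V' : V.left.Opens, v ∈ V' ∧
      IsFinite (g.left ∣_ V') ∧ IsFinite ((p₁.left ≫ g.left) ∣_ V') := by
    intro v hv
    have hfib : (g.left ⁻¹' {v}).Finite :=
      finite_fibre_of_quasiFiniteAt g.left v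
        (fun u hu => hqf a g hae comm u (by rw [hu]; exact hv))
    obtain ⟨V₁, hvV₁, hfin₁⟩ := exists_opens_finite_of_isAffine g.left v hv hfib
    have hrfib : ((p₁.left ≫ g.left) ⁻¹' {v}).Finite := by
      have : (p₁.left ≫ g.left) ⁻¹' {v} = p₁.left ⁻¹' (g.left ⁻¹' {v}) := by
        ext x; simp
      rw [this]
      exact p₁.left.finite_preimage hfib
    obtain ⟨V₂, hvV₂, hfin₂⟩ :=
      exists_opens_finite_of_compactSpace (p₁.left ≫ g.left) v hv hrfib
    exact ⟨V₁ ⊓ V₂, ⟨hvV₁, hvV₂⟩, isFinite_restrict_of_le _ inf_le_left hfin₁,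
      isFinite_restrict_of_le _ inf_le_right hfin₂⟩
  choose! Vv hvV hf1 hf2 using key
  refine ⟨⨆ v : maxPts V.left, Vv v.1, fun v hv =>
    TopologicalSpace.Opens.mem_iSup.2 ⟨⟨v, hv⟩, hvV v hv⟩, fun m q' sq => ?_⟩
  exact isFiniteMor_restrict hP q a hae has g comm p₁ p₂ sqR _
    (isFinite_restrict_iSup _ _ (fun v => hf1 v.1 v.2))
    (isFinite_restrict_iSup _ _ (fun v => hf2 v.1 v.2)) m q' sq

/-- **Generic finiteness over an affine base with a finite chart** (no quasi-separatedness). -/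
theorem exists_opens_isFiniteMor_of_finite_chart {P : Sp S} (hP : IsAlgSpace P) {V U : Over S}
    [IsAffine V.left] (q : P ⟶ (yon S).obj V) (a : (yon S).obj U ⟶ P) (hae : RepWith @Etale a)
    (has : RepWith @Surjective a) (g : U ⟶ V) (comm : a ≫ q = (yon S).map g)
    (hg : IsFinite g.left) (hV0 : (maxPts V.left).Finite)
    (hpreU : ∀ u ∈ maxPts U.left, g.left u ∈ maxPts V.left) :
    ∃ V' : V.left.Opens, maxPts V.left ⊆ V' ∧
      ∀ {P' : Sp S} (m : P' ⟶ P) (q' : P' ⟶ (yon S).obj (opSub V V')),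
        IsPullback m q' q ((yon S).map (opι V V')) → IsFiniteMor q' := by
  haveI := hg
  have hrep := hae.rep
  let R : Over S := hrep.pullback a
  let p₁ : R ⟶ U := hrep.fst' a
  let p₂ : R ⟶ U := hrep.snd a
  have sqR : IsPullback ((yon S).map p₁) ((yon S).map p₂) a a := hrep.isPullback' a
  haveI hp₁e : Etale p₁.left := hae.property a _ p₁ sqR.flip
  have hpgl : p₁.left ≫ g.left = p₂.left ≫ g.left := relation_comm q a g comm p₁ p₂ sqR
  set δ := pullback.lift p₁.left p₂.left hpgl with hδ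
  haveI : Mono δ := mono_relation g.left a p₁ p₂ sqR hpgl
  have e : p₁.left ≫ g.left = δ ≫ pullback.fst g.left g.left ≫ g.left := by
    rw [← Category.assoc, pullback.lift_fst]
  haveI : IsSeparated (p₁.left ≫ g.left) := by
    rw [e]
    infer_instance
  have hpre : ∀ w ∈ maxPts R.left, (p₁.left ≫ g.left) w ∈ maxPts V.left := by
    intro w hw
    exact hpreU _ (map_mem_maxPts_of_flat p₁.left hw)
  have hfib : ((p₁.left ≫ g.left) ⁻¹' maxPts V.left).Finite := by
    have h1 : ((pullback.fst g.left g.left ≫ g.left) ⁻¹' maxPts V.left).Finite :=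
      (pullback.fst g.left g.left ≫ g.left).finite_preimage hV0
    have h2 : (p₁.left ≫ g.left) ⁻¹' maxPts V.left =
        δ ⁻¹' ((pullback.fst g.left g.left ≫ g.left) ⁻¹' maxPts V.left) := by
      rw [e]
      rfl
    rw [h2]
    exact h1.preimage (Set.injOn_of_injective δ.injective)
  obtain ⟨V₂, hV₂, hfin₂⟩ := exists_opens_finite_of_separated (p₁.left ≫ g.left) hpre hfib
  refine ⟨V₂, hV₂, fun m q' sq => ?_⟩
  exact isFiniteMor_restrict hP q a hae has g comm p₁ p₂ sqR V₂ inferInstance hfin₂ m q' sq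

end Groth.Agent.Helper15.GenFin
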