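import Mathlib
import Groth.Prelude
import Groth.Agent.Lib.Helper15.GenFin8

/-!
# Generic finiteness: the quasi-compact case over an affine base (chart level)
-/

set_option autoImplicit false
universe u
open CategoryTheory CategoryTheory.Limits AlgebraicGeometry MorphismProperty Opposite
open AlgSp Groth.Agent.Helper16.AS

namespace Groth.Agent.Helper15.GenFin

open Groth.Agent.Helper15 Groth.Agent.Helper15.Strat Groth.Agent.Helper15.Norm
  Groth.Agent.Helper15.MaxPts Groth.Agent.Helper15.QfSplitA Groth.Agent.Helper15.ChartBC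

variable {S : Scheme.{u}}

/-- Reformulation of the conclusion with an abstract open immersion. -/
theorem exists_open_of_opens {P : Sp S} {V : Over S} (q : P ⟶ (yon S).obj V)
    (h : ∃ V' : V.left.Opens, maxPts V.left ⊆ V' ∧
      ∀ {P' : Sp S} (m : P' ⟶ P) (q' : P' ⟶ (yon S).obj (opSub V V')),
        IsPullback m q' q ((yon S).map (opι V V')) → IsFiniteMor q') :
    ∃ (V' : Over S) (ι : V' ⟶ V), IsOpenImmersion ι.left ∧ maxPts V.left ⊆ Set.range ι.left ∧
      ∀ {P' : Sp S} (m : P' ⟶ P) (q' : P' ⟶ (yon S).obj V'),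
        IsPullback m q' q ((yon S).map ι) → IsFiniteMor q' := by
  obtain ⟨V', hV', hfin⟩ := h
  refine ⟨opSub V V', opι V V', (inferInstance : IsOpenImmersion V'.ι), ?_, hfin⟩
  intro v hv
  exact ⟨⟨v, hV' hv⟩, rfl⟩

/-- **Generic finiteness over an affine base, quasi-compact case.** -/
theorem exists_open_isFiniteMor_of_qc {P : Sp S} (hP : IsAlgSpace P) {V : Over S}
    [IsAffine V.left] (q : P ⟶ (yon S).obj V) (hft : IsFiniteTypeMor q)
    (hV0 : (maxPts V.left).Finite)
    (hqf : ∀ {U : Over S} (a : (yon S).obj U ⟶ P) (g : U ⟶ V), RepWith @Etale a →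
      a ≫ q = (yon S).map g → ∀ u : U.left, g.left u ∈ maxPts V.left →
        g.left.QuasiFiniteAt u)
    (hpre : ∀ {U : Over S} (a : (yon S).obj U ⟶ P) (g : U ⟶ V), RepWith @Etale a →
      a ≫ q = (yon S).map g → ∀ u ∈ maxPts U.left, g.left u ∈ maxPts V.left) :
    ∃ (V' : Over S) (ι : V' ⟶ V), IsOpenImmersion ι.left ∧ maxPts V.left ⊆ Set.range ι.left ∧
      ∀ {P' : Sp S} (m : P' ⟶ P) (q' : P' ⟶ (yon S).obj V'),
        IsPullback m q' q ((yon S).map ι) → IsFiniteMor q' := by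
  have hPqc : IsQuasiCompactSp P :=
    hft.2 (IsAlgSpace.yon_obj V) ((isQuasiCompactSp_yon_iff V).2 inferInstance) (𝟙 _) (𝟙 P) q
      IsPullback.of_id_fst
  obtain ⟨U, a, hUaff, hae, has⟩ := exists_affine_chart_of_isQuasiCompactSp hPqc
  haveI := hUaff
  let g : U ⟶ V := (yon S).preimage (a ≫ q)
  have comm : a ≫ q = (yon S).map g := ((yon S).map_preimage _).symm
  haveI hlft : LocallyOfFiniteType g.left :=
    hft.1 a (𝟙 _) g hae (repWith_id _ V) (by rw [comm, Category.comp_id])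
  haveI : IsAffineHom g.left := isAffineHom_of_isAffine _
  have key : ∀ v : V.left, v ∈ maxPts V.left → ∃ V' : V.left.Opens, v ∈ V' ∧
      IsFinite (g.left ∣_ V') := by
    intro v hv
    have hfib : (g.left ⁻¹' {v}).Finite :=
      finite_fibre_of_quasiFiniteAt g.left v
        (fun u hu => hqf a g hae comm u (by rw [hu]; exact hv))
    exact exists_opens_finite_of_isAffine g.left v hv hfib
  choose! Vv hvV hf1 using key
  let V₁ : V.left.Opens := ⨆ v : maxPts V.left, Vv v.1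
  have hV₁ : maxPts V.left ⊆ V₁ := fun v hv =>
    TopologicalSpace.Opens.mem_iSup.2 ⟨⟨v, hv⟩, hvV v hv⟩
  have hfinV₁ : IsFinite (g.left ∣_ V₁) := isFinite_restrict_iSup _ _ (fun v => hf1 v.1 v.2)
  obtain ⟨W, hWaff, hWmax, hWle⟩ := exists_isAffineOpen_maxPts_subset V.left hV0 V₁ hV₁
  have hfinW : IsFinite (g.left ∣_ W) := isFinite_restrict_of_le _ hWle hfinV₁
  -- the restricted space
  have sq₁ : IsPullback (pullback.fst q ((yon S).map (opι V W)))
      (pullback.snd q ((yon S).map (opι V W))) q ((yon S).map (opι V W)) :=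
    IsPullback.of_hasPullback _ _
  set m₁ := pullback.fst q ((yon S).map (opι V W)) with hm₁
  set q₁ := pullback.snd q ((yon S).map (opι V W)) with hq₁
  have hP₁ : IsAlgSpace (pullback q ((yon S).map (opι V W))) :=
    isAlgSpace_of_isPullback (IsAlgSpace.yon_obj V).diag hP (IsAlgSpace.yon_obj _) sq₁
  obtain ⟨a', g', hg'l, ha'm, ha'q, hae', has'⟩ :=
    exists_restricted_chart q a hae has g comm W m₁ q₁ sq₁
  haveI : IsAffine (opSub V W).left := hWaff
  have hg'fin : IsFinite g'.left := by rw [hg'l]; exact hfinW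
  have hV0' : (maxPts (opSub V W).left).Finite := by
    refine (hV0.preimage (Set.injOn_of_injective W.ι.injective)).subset ?_
    intro w hw
    exact map_mem_maxPts_of_flat W.ι hw
  have hpreU' : ∀ u ∈ maxPts (opSub U (g.left ⁻¹ᵁ W)).left,
      g'.left u ∈ maxPts (opSub V W).left := by
    intro u hu
    have h1 : (g.left ⁻¹ᵁ W).ι u ∈ maxPts U.left :=
      map_mem_maxPts_of_flat (g.left ⁻¹ᵁ W).ι hu
    have h2 : g.left ((g.left ⁻¹ᵁ W).ι u) ∈ maxPts V.left := hpre a g hae comm _ h1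
    have h3 : W.ι (g'.left u) = g.left ((g.left ⁻¹ᵁ W).ι u) := by
      rw [hg'l, ← Scheme.Hom.comp_apply, morphismRestrict_ι]
      rfl
    have hmem : g.left ((g.left ⁻¹ᵁ W).ι u) ∈ W := by rw [← h3]; exact (g'.left u).2
    have h4 := mem_maxPts_opens W _ hmem h2
    have h5 : g'.left u = ⟨g.left ((g.left ⁻¹ᵁ W).ι u), hmem⟩ := Subtype.ext h3
    rw [h5]
    exact h4
  obtain ⟨V₂, hV₂, hfin₂⟩ := exists_opens_isFiniteMor_of_finite_chart hP₁ q₁ a' hae' has' g'
    ha'q hg'fin hV0' hpreU'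
  refine ⟨opSub (opSub V W) V₂, opι (opSub V W) V₂ ≫ opι V W, ?_, ?_, ?_⟩
  · change IsOpenImmersion (V₂.ι ≫ W.ι)
    infer_instance
  · intro v hv
    have hvW : v ∈ W := hWmax hv
    have h1 : (⟨v, hvW⟩ : (W : Scheme.{u})) ∈ maxPts (W : Scheme.{u}) :=
      mem_maxPts_opens W v hvW hv
    exact ⟨⟨⟨v, hvW⟩, hV₂ h1⟩, rfl⟩
  · intro P' m q' sq
    rw [Functor.map_comp] at sq
    have hw : m ≫ q = (q' ≫ (yon S).map (opι (opSub V W) V₂)) ≫ (yon S).map (opι V W) := by
      rw [Category.assoc]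
      exact sq.w
    have hl1 : sq₁.lift m _ hw ≫ m₁ = m := sq₁.lift_fst _ _ _
    have hl2 : sq₁.lift m _ hw ≫ q₁ = q' ≫ (yon S).map (opι (opSub V W) V₂) :=
      sq₁.lift_snd _ _ _
    have left : IsPullback (sq₁.lift m _ hw) q' q₁ ((yon S).map (opι (opSub V W) V₂)) := by
      refine IsPullback.of_right ?_ hl2 sq₁
      rw [hl1]
      exact sq
    exact hfin₂ _ q' left

end Groth.Agent.Helper15.GenFin
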