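import Groth.Agent.Lib.Helper15.FppfBridge4
import Groth.Agent.Lib.Helper15.AlgSpFibre
import Groth.Agent.Lib.Helper15.AlgSpLocPListed
import Groth.Agent.Lib.Helper15.AlgSpUnram

/-!
# Lemmas for Zariski's main theorem for algebraic spaces (Stacks 0417)
-/

set_option autoImplicit false
set_option linter.style.haveILetI false
universe u
open CategoryTheory CategoryTheory.Limits AlgebraicGeometry MorphismProperty Opposite
open AlgSp

namespace Groth.Agent.Helper15.Zmt

variable {S : Scheme.{u}}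

/-- Separated morphisms of sheaves are stable under base change. -/
theorem isSeparatedMor_of_isPullback {X Y X' Y' : Sp S} {f : X ⟶ Y} {g : Y' ⟶ Y} {f' : X' ⟶ Y'}
    {g' : X' ⟶ X} (sq : IsPullback g' f' f g) (hf : IsSeparatedMor f) : IsSeparatedMor f' :=
  (RepWith @IsClosedImmersion).of_isPullback (isPullback_diagonal_of_isPullback sq) hf

/-- For a monomorphism `ι`, the diagonal of `ι ≫ f` is a base change of the diagonal of `f`. -/
theorem isPullback_diagonal_mono_comp {C : Type*} [Category C] [HasPullbacks C] {I X Y : C}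
    (ι : I ⟶ X) [Mono ι] (f : X ⟶ Y) :
    IsPullback ι (pullback.diagonal (ι ≫ f)) (pullback.diagonal f)
      (pullback.lift (pullback.fst (ι ≫ f) (ι ≫ f) ≫ ι) (pullback.snd (ι ≫ f) (ι ≫ f) ≫ ι)
        (by rw [Category.assoc, Category.assoc, pullback.condition])) := by
  set m : pullback (ι ≫ f) (ι ≫ f) ⟶ pullback f f :=
    pullback.lift (pullback.fst (ι ≫ f) (ι ≫ f) ≫ ι) (pullback.snd (ι ≫ f) (ι ≫ f) ≫ ι)
      (by rw [Category.assoc, Category.assoc, pullback.condition]) with hm
  have hm1 : m ≫ pullback.fst f f = pullback.fst (ι ≫ f) (ι ≫ f) ≫ ι := pullback.lift_fst _ _ _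
  have hm2 : m ≫ pullback.snd f f = pullback.snd (ι ≫ f) (ι ≫ f) ≫ ι := pullback.lift_snd _ _ _
  have w : ι ≫ pullback.diagonal f = pullback.diagonal (ι ≫ f) ≫ m := by
    apply pullback.hom_ext
    · rw [Category.assoc, Category.assoc, pullback.diagonal_fst, hm1, ← Category.assoc,
        pullback.diagonal_fst, Category.comp_id, Category.id_comp]
    · rw [Category.assoc, Category.assoc, pullback.diagonal_snd, hm2, ← Category.assoc,
        pullback.diagonal_snd, Category.comp_id, Category.id_comp]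
  have key : ∀ s : PullbackCone (pullback.diagonal f) m,
      s.fst = (s.snd ≫ pullback.fst (ι ≫ f) (ι ≫ f)) ≫ ι ∧
      s.fst = (s.snd ≫ pullback.snd (ι ≫ f) (ι ≫ f)) ≫ ι := fun s => by
    have h1 := s.condition =≫ pullback.fst f f
    have h2 := s.condition =≫ pullback.snd f f
    rw [Category.assoc, pullback.diagonal_fst, Category.comp_id, Category.assoc, hm1,
      ← Category.assoc] at h1
    rw [Category.assoc, pullback.diagonal_snd, Category.comp_id, Category.assoc, hm2,
      ← Category.assoc] at h2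
    exact ⟨h1, h2⟩
  refine ⟨⟨w⟩, ⟨PullbackCone.IsLimit.mk w (fun s => s.snd ≫ pullback.fst (ι ≫ f) (ι ≫ f))
    (fun s => (key s).1.symm) (fun s => ?_) (fun s m' hm1' hm2' => ?_)⟩⟩
  · apply pullback.hom_ext
    · rw [Category.assoc, pullback.diagonal_fst, Category.comp_id]
    · rw [Category.assoc, pullback.diagonal_snd, Category.comp_id, ← cancel_mono ι,
        ← (key s).1, ← (key s).2]
  · have := hm2' =≫ pullback.fst (ι ≫ f) (ι ≫ f)
    rw [Category.assoc, pullback.diagonal_fst, Category.comp_id] at this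
    exact this

/-- Precomposing a separated morphism with a monomorphism gives a separated morphism. -/
theorem isSeparatedMor_mono_comp {I X Y : Sp S} (ι : I ⟶ X) [Mono ι] (f : X ⟶ Y)
    (hf : IsSeparatedMor f) : IsSeparatedMor (ι ≫ f) :=
  (RepWith @IsClosedImmersion).of_isPullback (isPullback_diagonal_mono_comp ι f) hf

/-- Precomposing with a representable etale morphism preserves `LocP`. -/
theorem locP_etale_comp {Q : MorphismProperty Scheme.{u}} {I X Y : Sp S} (ι : I ⟶ X)
    (hι : RepWith @Etale ι) (f : X ⟶ Y) (hf : LocP Q f) : LocP Q (ι ≫ f) := by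
  intro U' V a b ψ ha hb comm
  exact hf (a ≫ ι) b ψ ((RepWith @Etale).comp_mem _ _ ha hι) hb (by rw [Category.assoc, comm])

/-- Restricting an open subscheme of `U ×_T T'` to `I ×_T T'` for a subsheaf `I ⊆ U` through which
it factors. -/
theorem exists_restrict {U I P : Sp S} {T T' V' : Over S} {f : U ⟶ (yon S).obj T} {e : T' ⟶ T}
    {p1 : P ⟶ (yon S).obj T'} {p2 : P ⟶ U} (sq : IsPullback p2 p1 f ((yon S).map e))
    (j : (yon S).obj V' ⟶ P) (hj : RepWith @IsOpenImmersion j) (ι : I ⟶ U) [Mono ι]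
    (a' : (yon S).obj V' ⟶ I) (ha' : a' ≫ ι = j ≫ p2) :
    ∃ jI : (yon S).obj V' ⟶ pullback (ι ≫ f) ((yon S).map e),
      RepWith @IsOpenImmersion jI ∧ jI ≫ pullback.fst _ _ = a' ∧
      jI ≫ pullback.snd _ _ = j ≫ p1 := by
  let ιP : pullback (ι ≫ f) ((yon S).map e) ⟶ P :=
    sq.lift (pullback.fst _ _ ≫ ι) (pullback.snd _ _) (by
      rw [Category.assoc]; exact pullback.condition)
  have hιP1 : ιP ≫ p2 = pullback.fst _ _ ≫ ι := sq.lift_fst _ _ _
  have hιP2 : ιP ≫ p1 = pullback.snd _ _ := sq.lift_snd _ _ _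
  haveI : Mono ιP := ⟨fun {Z} x y hxy => by
    apply pullback.hom_ext
    · rw [← cancel_mono ι, Category.assoc, Category.assoc, ← hιP1, ← Category.assoc,
        ← Category.assoc, hxy]
    · rw [← hιP2, ← Category.assoc, ← Category.assoc, hxy]⟩
  let jI : (yon S).obj V' ⟶ pullback (ι ≫ f) ((yon S).map e) :=
    pullback.lift a' (j ≫ p1) (by
      rw [← Category.assoc, ha', Category.assoc, Category.assoc, sq.w])
  have hjI : jI ≫ ιP = j := by
    apply sq.hom_ext
    · rw [Category.assoc, hιP1, ← Category.assoc, pullback.lift_fst, ha']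
    · rw [Category.assoc, hιP2, pullback.lift_snd]
  refine ⟨jI, ?_, pullback.lift_fst _ _ _, pullback.lift_snd _ _ _⟩
  apply repWith_of_comp_mono jI ιP
  rw [hjI]; exact hj

/-- The two descriptions of `U ×_T T''` as a base change of `P = U ×_T T'` along the two maps
`e₁, e₂ : T'' ⟶ T'`. -/
theorem exists_swap {U P P'' : Sp S} {T T' T'' : Over S} {f : U ⟶ (yon S).obj T} {e : T' ⟶ T}
    {p1 : P ⟶ (yon S).obj T'} {p2 : P ⟶ U} (sq : IsPullback p2 p1 f ((yon S).map e))
    (e₁ e₂ : T'' ⟶ T') (he : e₁ ≫ e = e₂ ≫ e) {r1 : P'' ⟶ P} {r2 : P'' ⟶ (yon S).obj T''}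
    (sqr : IsPullback r1 r2 p1 ((yon S).map e₁)) :
    ∃ σ : P'' ⟶ P, σ ≫ p2 = r1 ≫ p2 ∧ IsPullback σ r2 p1 ((yon S).map e₂) := by
  have hw : (r1 ≫ p2) ≫ f = (r2 ≫ (yon S).map e₂) ≫ (yon S).map e := by
    rw [Category.assoc, sq.w, ← Category.assoc, sqr.w, Category.assoc, Category.assoc,
      ← Functor.map_comp, ← Functor.map_comp, he]
  refine ⟨sq.lift _ _ hw, sq.lift_fst _ _ _, ?_⟩
  have big : IsPullback (r1 ≫ p2) r2 f ((yon S).map e₁ ≫ (yon S).map e) := sqr.paste_horiz sq
  have big' : IsPullback (sq.lift _ _ hw ≫ p2) r2 f ((yon S).map e₂ ≫ (yon S).map e) := by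
    rw [sq.lift_fst, ← Functor.map_comp, ← he, Functor.map_comp]
    exact big
  exact IsPullback.of_right big' (sq.lift_snd _ _ hw) sq

end Groth.Agent.Helper15.Zmt
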