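import Mathlib
import Groth.Prelude
import Groth.Agent.Lib.Helper15.GenFin9
import Groth.Agent.Lib.Helper16.AlgSp.QFAtSp
import Groth.Agent.Lib.Helper15.ZmtSp1

/-!
# Generic finiteness over an affine base: from points of algebraic spaces to charts
-/

set_option autoImplicit false
universe u
open CategoryTheory CategoryTheory.Limits AlgebraicGeometry MorphismProperty Opposite
open AlgSp Groth.Agent.Helper16.AS

namespace Groth.Agent.Helper15.GenFin

open Groth.Agent.Helper15 Groth.Agent.Helper15.Strat Groth.Agent.Helper15.Norm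
  Groth.Agent.Helper15.MaxPts

variable {S : Scheme.{u}}

theorem hasAt_c0_chart_iff {X : Sp S} {U : Over S} (a : (yon S).obj U ⟶ X)
    (ha : RepWith @Etale a) (u : U.left) :
    HasAt (fun U u => ringKrullDim ↥(U.presheaf.stalk u) = 0) X (Points.ofPt a u) ↔
      u ∈ maxPts U.left := by
  rw [← LocFinIrr.ringKrullDim_stalk_eq_zero_iff]
  constructor
  · intro h
    exact hasAt_forall_chart (etInv_ringKrullDim_stalk 0) _ h U a u ha rfl
  · intro h
    exact ⟨U, a, u, ha, rfl, h⟩

theorem hasAt_c0_yon_iff (V : Over S) (v : V.left) :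
    HasAt (fun U u => ringKrullDim ↥(U.presheaf.stalk u) = 0) ((yon S).obj V)
      (Points.ofScheme V v) ↔ v ∈ maxPts V.left :=
  hasAt_c0_chart_iff (𝟙 _) (repWith_id _ V) v

theorem finite_maxPts_of_finite_c0 (V : Over S)
    (h : {y : Points ((yon S).obj V) |
      HasAt (fun U u => ringKrullDim ↥(U.presheaf.stalk u) = 0) ((yon S).obj V) y}.Finite) :
    (maxPts V.left).Finite := by
  refine (h.preimage (Set.injOn_of_injective (Points.schemeEquiv V).injective)).subset ?_
  intro v hv
  exact (hasAt_c0_yon_iff V v).2 hv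

theorem map_ofPt_chart {X : Sp S} {V U : Over S} (f : X ⟶ (yon S).obj V)
    (a : (yon S).obj U ⟶ X) (g : U ⟶ V) (comm : a ≫ f = (yon S).map g) (u : U.left) :
    Points.map f (Points.ofPt a u) = Points.ofScheme V (g.left u) := by
  rw [Points.map_ofPt, comm, ofPt_yon_map]

theorem chart_maxPts_iff {X : Sp S} {V : Over S} (f : X ⟶ (yon S).obj V)
    (hpre : ∀ x : Points X, HasAt (fun U u => ringKrullDim ↥(U.presheaf.stalk u) = 0) X x ↔
      HasAt (fun U u => ringKrullDim ↥(U.presheaf.stalk u) = 0) ((yon S).obj V)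
        (Points.map f x))
    {U : Over S} (a : (yon S).obj U ⟶ X) (g : U ⟶ V) (hae : RepWith @Etale a)
    (comm : a ≫ f = (yon S).map g) (u : U.left) :
    u ∈ maxPts U.left ↔ g.left u ∈ maxPts V.left := by
  rw [← hasAt_c0_chart_iff a hae u, hpre, map_ofPt_chart f a g comm u, hasAt_c0_yon_iff]

theorem chart_quasiFiniteAt {X : Sp S} (hX : IsAlgSpace X) {V : Over S}
    (f : X ⟶ (yon S).obj V) (hf : LocP @LocallyOfFiniteType f)
    (hpre : ∀ x : Points X, HasAt (fun U u => ringKrullDim ↥(U.presheaf.stalk u) = 0) X x ↔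
      HasAt (fun U u => ringKrullDim ↥(U.presheaf.stalk u) = 0) ((yon S).obj V)
        (Points.map f x))
    {U : Over S} (a : (yon S).obj U ⟶ X) (g : U ⟶ V) (hae : RepWith @Etale a)
    (comm : a ≫ f = (yon S).map g) (u : U.left) (hu : g.left u ∈ maxPts V.left) :
    g.left.QuasiFiniteAt u := by
  have hy : HasAt (fun U u => ringKrullDim ↥(U.presheaf.stalk u) = 0) ((yon S).obj V)
      (Points.ofScheme V (g.left u)) := (hasAt_c0_yon_iff V _).2 hu
  have h1 := (codim0_fibre_iff_qf hX (IsAlgSpace.yon_obj V) f hf _ hy).1.1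
    (fun x hx => (hpre x).2 (by rw [hx]; exact hy)) (Points.ofPt a u)
    (map_ofPt_chart f a g comm u)
  exact (hasAtMor_qf_iff_chart hX (IsAlgSpace.yon_obj V) f hf a (𝟙 _) g hae (repWith_id _ V)
    (by rw [comm, Category.comp_id]) u).1 h1

/-- **Generic finiteness over an affine base, quasi-compact case.** -/
theorem exists_open_finite_affine_of_qc {X : Sp S} (hX : IsAlgSpace X) {V : Over S}
    [IsAffine V.left] (f : X ⟶ (yon S).obj V) (hf : LocP @LocallyOfFiniteType f)
    (hqc : IsQuasiCompactMor f)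
    (hV0 : {y : Points ((yon S).obj V) |
      HasAt (fun U u => ringKrullDim ↥(U.presheaf.stalk u) = 0) ((yon S).obj V) y}.Finite)
    (hpre : ∀ x : Points X, HasAt (fun U u => ringKrullDim ↥(U.presheaf.stalk u) = 0) X x ↔
      HasAt (fun U u => ringKrullDim ↥(U.presheaf.stalk u) = 0) ((yon S).obj V)
        (Points.map f x)) :
    ∃ (V' : Over S) (ι : V' ⟶ V), IsOpenImmersion ι.left ∧ maxPts V.left ⊆ Set.range ι.left ∧
      ∀ {P' : Sp S} (m : P' ⟶ X) (q' : P' ⟶ (yon S).obj V'),
        IsPullback m q' f ((yon S).map ι) → IsFiniteMor q' :=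
  exists_open_isFiniteMor_of_qc hX f ⟨hf, hqc⟩ (finite_maxPts_of_finite_c0 V hV0)
    (fun a g hae comm u hu => chart_quasiFiniteAt hX f hf hpre a g hae comm u hu)
    (fun a g hae comm u hu => (chart_maxPts_iff f hpre a g hae comm u).1 hu)

/-- **Generic finiteness over an affine base, quasi-compact quasi-separated case.** -/
theorem exists_opens_finite_affine_of_qcqs {X : Sp S} (hX : IsAlgSpace X) {V : Over S}
    [IsAffine V.left] (f : X ⟶ (yon S).obj V) (hf : LocP @LocallyOfFiniteType f)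
    (hqc : IsQuasiCompactMor f) (hqs : IsQuasiSeparatedMor f)
    (hqf : ∀ {U : Over S} (a : (yon S).obj U ⟶ X) (g : U ⟶ V), RepWith @Etale a →
      a ≫ f = (yon S).map g → ∀ u : U.left, g.left u ∈ maxPts V.left →
        g.left.QuasiFiniteAt u) :
    ∃ V' : V.left.Opens, maxPts V.left ⊆ V' ∧
      ∀ {P' : Sp S} (m : P' ⟶ X) (q' : P' ⟶ (yon S).obj (opSub V V')),
        IsPullback m q' f ((yon S).map (opι V V')) → IsFiniteMor q' :=
  exists_opens_isFiniteMor_maxPts hX f ⟨hf, hqc⟩ hqs hqf

end Groth.Agent.Helper15.GenFin
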