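import Mathlib
import Groth.Prelude
import Groth.Agent.Lib.Helper15.GenFin10
import Groth.Agent.Lib.Helper15.FiniteEtSrc
import Groth.Agent.Lib.Helper15.AlgSpProper2
import Groth.Agent.Lib.Helper15.AlgSpCodim0
import Groth.Agent.Lib.Helper16.AlgSp.ProperSp2

/-!
# Generic finiteness over an affine base: the separated case
-/

set_option autoImplicit false
universe u
open CategoryTheory CategoryTheory.Limits AlgebraicGeometry MorphismProperty Opposite
open AlgSp Groth.Agent.Helper16.AS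

namespace Groth.Agent.Helper15.GenFin

open Groth.Agent.Helper15 Groth.Agent.Helper15.Strat Groth.Agent.Helper15.Norm
  Groth.Agent.Helper15.MaxPts

variable {S : Scheme.{u}}

/-- **Generic finiteness over an affine base, separated case.** -/
theorem exists_opens_finite_affine_of_separated {X : Sp S} (hX : IsAlgSpace X) {V : Over S}
    [IsAffine V.left] (f : X ⟶ (yon S).obj V) (hf : LocP @LocallyOfFiniteType f)
    (hsep : IsSeparatedMor f)
    (hX0 : {x : Points X |
      HasAt (fun U u => ringKrullDim ↥(U.presheaf.stalk u) = 0) X x}.Finite)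
    (hpre : ∀ x : Points X, HasAt (fun U u => ringKrullDim ↥(U.presheaf.stalk u) = 0) X x ↔
      HasAt (fun U u => ringKrullDim ↥(U.presheaf.stalk u) = 0) ((yon S).obj V)
        (Points.map f x)) :
    ∃ V' : V.left.Opens, maxPts V.left ⊆ V' ∧
      ∀ {P' : Sp S} (m : P' ⟶ X) (q' : P' ⟶ (yon S).obj (opSub V V')),
        IsPullback m q' f ((yon S).map (opι V V')) → IsFiniteMor q' := by
  classical
  -- a quasi-compact open subspace containing the codimension zero points
  choose Wx hWo hWc hxW using fun x : Points X => exists_isOpen_isCompact_mem hX x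
  let W : Set (Points X) := ⋃ x ∈ {x : Points X |
      HasAt (fun U u => ringKrullDim ↥(U.presheaf.stalk u) = 0) X x}, Wx x
  have hWopen : IsOpen W := isOpen_biUnion (fun x _ => hWo x)
  have hWcomp : IsCompact W := hX0.isCompact_biUnion (fun x _ => hWc x)
  have hX0W : ∀ x : Points X,
      HasAt (fun U u => ringKrullDim ↥(U.presheaf.stalk u) = 0) X x → x ∈ W :=
    fun x hx => Set.mem_biUnion hx (hxW x)
  obtain ⟨X₁, j₁, hX₁, hj₁, hrange⟩ := exists_open_subspace_of_isOpen hX W hWopen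
  haveI : Mono j₁ := mono_of_repWith_isOpenImmersion j₁ hj₁
  have hemb := (isEmbedding_points_of_immersion hX j₁
    (repWith_mono isOpenImmersion_le_isImmersion hj₁)).1
  haveI : CompactSpace (Points X₁) := by
    rw [← isCompact_univ_iff, hemb.isCompact_iff, Set.image_univ, hrange]
    exact hWcomp
  have hX₁qc : IsQuasiCompactSp X₁ := isQuasiCompactSp_of_compactSpace_points hX₁
  -- the restriction of `f`
  have hj₁e : RepWith @Etale j₁ := repWith_mono isOpenImmersion_le_etale hj₁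
  have hlft₁ : LocP @LocallyOfFiniteType (j₁ ≫ f) := Zmt.locP_etale_comp j₁ hj₁e f hf
  have hsep₁ : IsSeparatedMor (j₁ ≫ f) := Zmt.isSeparatedMor_mono_comp j₁ f hsep
  have hqs₁ : IsQuasiSeparatedMor (j₁ ≫ f) :=
    repWith_mono isClosedImmersion_le_quasiCompact hsep₁
  have hqc₁ : IsQuasiCompactMor (j₁ ≫ f) := by
    obtain ⟨U₁, a₁, hU₁aff, ha₁e, ha₁s⟩ := exists_affine_chart_of_isQuasiCompactSp hX₁qc
    haveI := hU₁aff
    refine isQuasiCompactMor_of_surjective_comp hX₁ (IsAlgSpace.yon_obj V) a₁ (j₁ ≫ f)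
      (isSurjectiveMor_of_repWith_surjective a₁ ha₁s) ?_
    let h₁ : U₁ ⟶ V := (yon S).preimage (a₁ ≫ j₁ ≫ f)
    have e : a₁ ≫ j₁ ≫ f = (yon S).map h₁ := ((yon S).map_preimage _).symm
    rw [e]
    haveI : IsAffineHom h₁.left := isAffineHom_of_isAffine _
    exact isQuasiCompactMor_of_repWith _ ((repWith_yon_map_iff _ h₁).2
      (inferInstance : QuasiCompact h₁.left))
  obtain ⟨V', hV', hfin₁⟩ := exists_opens_finite_affine_of_qcqs hX₁ (j₁ ≫ f) hlft₁ hqc₁ hqs₁
    (fun a g hae comm u hu => chart_quasiFiniteAt hX f hf hpre (a ≫ j₁) g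
      ((RepWith @Etale).comp_mem _ _ hae hj₁e) (by rw [Category.assoc]; exact comm) u hu)
  refine ⟨V', hV', fun {P'} m q' sq => ?_⟩
  have hV'sp : IsAlgSpace ((yon S).obj (opSub V V')) := IsAlgSpace.yon_obj _
  have hP' : IsAlgSpace P' :=
    isAlgSpace_of_isPullback (IsAlgSpace.yon_obj V).diag hX hV'sp sq
  have sq₁ : IsPullback (pullback.fst (j₁ ≫ f) ((yon S).map (opι V V')))
      (pullback.snd (j₁ ≫ f) ((yon S).map (opι V V'))) (j₁ ≫ f) ((yon S).map (opι V V')) :=
    IsPullback.of_hasPullback _ _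
  set m₁ := pullback.fst (j₁ ≫ f) ((yon S).map (opι V V')) with hm₁
  set q₁ := pullback.snd (j₁ ≫ f) ((yon S).map (opι V V')) with hq₁
  have hP₁ : IsAlgSpace (pullback (j₁ ≫ f) ((yon S).map (opι V V'))) :=
    isAlgSpace_of_isPullback (IsAlgSpace.yon_obj V).diag hX₁ hV'sp sq₁
  have hfinq₁ : IsFiniteMor q₁ := hfin₁ m₁ q₁ sq₁
  have hw : (m₁ ≫ j₁) ≫ f = q₁ ≫ (yon S).map (opι V V') := by
    rw [Category.assoc]
    exact sq₁.w
  have hpm : sq.lift (m₁ ≫ j₁) q₁ hw ≫ m = m₁ ≫ j₁ := sq.lift_fst _ _ _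
  have hpq : sq.lift (m₁ ≫ j₁) q₁ hw ≫ q' = q₁ := sq.lift_snd _ _ _
  set p := sq.lift (m₁ ≫ j₁) q₁ hw with hp
  have top : IsPullback m₁ p j₁ m := by
    refine IsPullback.of_bot ?_ hpm.symm sq
    rw [hpq]
    exact sq₁
  have hpo : RepWith @IsOpenImmersion p := (RepWith @IsOpenImmersion).of_isPullback top hj₁
  have hmo : RepWith @IsOpenImmersion m :=
    (RepWith @IsOpenImmersion).of_isPullback sq.flip
      ((repWith_yon_map_iff _ _).2 (inferInstance : IsOpenImmersion V'.ι))
  have hsepq' : IsSeparatedMor q' := Zmt.isSeparatedMor_of_isPullback sq hsep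
  have h12 := ((finite_tfae hP₁ hV'sp q₁).out 0 1).1 hfinq₁
  have hucp : IsUnivClosedMor p :=
    isUnivClosedMor_of_comp_separated hP₁ hP' hV'sp.diag p q₁ q' hpq hsepq' h12.1.2.2
  have hclosed : IsClosed (Set.range (Points.map p)) := by
    have := isClosedMor_of_isUnivClosedMor hP' p hucp _ isClosed_univ
    rwa [Set.image_univ] at this
  have hsurj : IsSurjectiveMor p := by
    intro z
    by_contra hz
    have hO : IsOpen (Set.range (Points.map p))ᶜ := hclosed.isOpen_compl
    obtain ⟨η, hηO, hη⟩ := (dense_codimZero_points hP').inter_open_nonempty _ hO ⟨z, hz⟩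
    have hmη : HasAt (fun U u => ringKrullDim ↥(U.presheaf.stalk u) = 0) X (Points.map m η) :=
      (hasAt_iff_of_isEtaleMor (etInv_ringKrullDim_stalk 0) hP' m
        (isEtaleMor_of_isOpenImmersion m hmo) η).1 hη
    have hmem : Points.map m η ∈ W := hX0W _ hmη
    rw [← hrange] at hmem
    obtain ⟨x₁, hx₁⟩ := hmem
    obtain ⟨p₀, -, hp2⟩ := exists_point_of_isPullback top x₁ η hx₁
    exact hηO ⟨p₀, hp2⟩
  exact isFiniteMor_of_etale_surjective_precomp hP₁ hP' hV'sp p q'
    (isEtaleMor_of_isOpenImmersion p hpo) hsurj hsepq' (by rw [hpq]; exact hfinq₁)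

end Groth.Agent.Helper15.GenFin
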