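import Mathlib
import Groth.Prelude
import Groth.Agent.Lib.Helper15.GenFin11
import Groth.Agent.Lib.Helper15.DenseSch1

/-!
# Generic finiteness: a dense open of the base over which the morphism is finite
-/

set_option autoImplicit false
universe u
open CategoryTheory CategoryTheory.Limits AlgebraicGeometry MorphismProperty Opposite
open AlgSp Groth.Agent.Helper16.AS

namespace Groth.Agent.Helper15.GenFin

open Groth.Agent.Helper15 Groth.Agent.Helper15.Strat Groth.Agent.Helper15.Norm
  Groth.Agent.Helper15.MaxPts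

variable {S : Scheme.{u}}

/-- The hypotheses on codimension zero points restrict to open subspaces of the base. -/
theorem restrict_hyps {X Y X' Y' : Sp S} (hX : IsAlgSpace X) (hY : IsAlgSpace Y)
    (hX' : IsAlgSpace X') (hY' : IsAlgSpace Y')
    (f : X ⟶ Y) (j : Y' ⟶ Y) (hj : RepWith @IsOpenImmersion j) (i : X' ⟶ X) (f' : X' ⟶ Y')
    (sq : IsPullback i f' f j)
    (hX0 : {x : Points X |
      HasAt (fun U u => ringKrullDim ↥(U.presheaf.stalk u) = 0) X x}.Finite)
    (hY0 : {y : Points Y |
      HasAt (fun U u => ringKrullDim ↥(U.presheaf.stalk u) = 0) Y y}.Finite)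
    (hpre : ∀ x : Points X, HasAt (fun U u => ringKrullDim ↥(U.presheaf.stalk u) = 0) X x ↔
      HasAt (fun U u => ringKrullDim ↥(U.presheaf.stalk u) = 0) Y (Points.map f x)) :
    {x : Points X' | HasAt (fun U u => ringKrullDim ↥(U.presheaf.stalk u) = 0) X' x}.Finite ∧
    {y : Points Y' | HasAt (fun U u => ringKrullDim ↥(U.presheaf.stalk u) = 0) Y' y}.Finite ∧
    ∀ x : Points X', HasAt (fun U u => ringKrullDim ↥(U.presheaf.stalk u) = 0) X' x ↔
      HasAt (fun U u => ringKrullDim ↥(U.presheaf.stalk u) = 0) Y' (Points.map f' x) := by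
  have hi : RepWith @IsOpenImmersion i := (RepWith @IsOpenImmersion).of_isPullback sq.flip hj
  have hie := isEtaleMor_of_isOpenImmersion i hi
  have hje := isEtaleMor_of_isOpenImmersion j hj
  have hiX : ∀ x : Points X', HasAt (fun U u => ringKrullDim ↥(U.presheaf.stalk u) = 0) X' x ↔
      HasAt (fun U u => ringKrullDim ↥(U.presheaf.stalk u) = 0) X (Points.map i x) :=
    fun x => hasAt_iff_of_isEtaleMor (etInv_ringKrullDim_stalk 0) hX' i hie x
  have hjY : ∀ y : Points Y', HasAt (fun U u => ringKrullDim ↥(U.presheaf.stalk u) = 0) Y' y ↔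
      HasAt (fun U u => ringKrullDim ↥(U.presheaf.stalk u) = 0) Y (Points.map j y) :=
    fun y => hasAt_iff_of_isEtaleMor (etInv_ringKrullDim_stalk 0) hY' j hje y
  refine ⟨?_, ?_, ?_⟩
  · refine (hX0.preimage (Set.injOn_of_injective
      (points_map_injective_of_isOpenImmersion hX i hi))).subset ?_
    intro x hx
    exact (hiX x).1 hx
  · refine (hY0.preimage (Set.injOn_of_injective
      (points_map_injective_of_isOpenImmersion hY j hj))).subset ?_
    intro y hy
    exact (hjY y).1 hy
  · intro x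
    rw [hiX, hpre, hjY, ← Points.map_comp, ← Points.map_comp, sq.w]

/-- **Generic finiteness**: a dense open subspace of a decent base over which a morphism,
locally of finite type and quasi-compact or separated, with finitely many codimension zero
points matching those of the base, is finite. -/
theorem exists_dense_open_finite {X Y : Sp S} (hX : IsAlgSpace X) (hY : IsAlgSpace Y)
    (f : X ⟶ Y) (hf : LocP @LocallyOfFiniteType f) (hYd : IsDecent Y)
    (hX0 : {x : Points X |
      HasAt (fun U u => ringKrullDim ↥(U.presheaf.stalk u) = 0) X x}.Finite)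
    (hY0 : {y : Points Y |
      HasAt (fun U u => ringKrullDim ↥(U.presheaf.stalk u) = 0) Y y}.Finite)
    (hpre : ∀ x : Points X, HasAt (fun U u => ringKrullDim ↥(U.presheaf.stalk u) = 0) X x ↔
      HasAt (fun U u => ringKrullDim ↥(U.presheaf.stalk u) = 0) Y (Points.map f x))
    (hqs : IsQuasiCompactMor f ∨ IsSeparatedMor f) :
    ∃ (Y' : Sp S) (j : Y' ⟶ Y), IsAlgSpace Y' ∧ RepWith @IsOpenImmersion j ∧
      Dense (Set.range (Points.map j)) ∧
      ∀ (P : Sp S) (fst : P ⟶ Y') (snd : P ⟶ X), IsPullback fst snd j f → IsFiniteMor fst := by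
  -- a dense open subscheme
  obtain ⟨Y₁, j₁, hY₁, hj₁, hrep, hdense⟩ :=
    DenseSch.exists_dense_open_subscheme hY (DenseSch.hasQcPts_of_isDecent hYd)
  obtain ⟨T, ⟨r⟩⟩ := hrep.has_representation
  let e : (yon S).obj T ≅ Y₁ := isoOfRepresentableBy r
  have he : RepWith @IsOpenImmersion (e.hom ≫ j₁) :=
    (RepWith @IsOpenImmersion).comp_mem _ _ (repWith_of_isIso _ e.hom) hj₁
  have hee : RepWith @Etale (e.hom ≫ j₁) := repWith_mono isOpenImmersion_le_etale he
  -- finitely many maximal points
  have hTfin : (maxPts T.left).Finite := by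
    have hinj : Function.Injective (fun t : T.left => Points.ofPt (e.hom ≫ j₁) t) := by
      intro t t' htt'
      have h1 : Points.map (e.hom ≫ j₁) (Points.ofScheme T t) =
          Points.map (e.hom ≫ j₁) (Points.ofScheme T t') := by
        rw [← Points.ofPt_eq_map_ofScheme, ← Points.ofPt_eq_map_ofScheme]
        exact htt'
      exact (Points.schemeEquiv T).injective
        (points_map_injective_of_isOpenImmersion hY _ he h1)
    refine (hY0.preimage (Set.injOn_of_injective hinj)).subset ?_
    intro t ht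
    exact (hasAt_c0_chart_iff (e.hom ≫ j₁) hee t).2 ht
  obtain ⟨W, hWaff, hWmax, -⟩ :=
    exists_isAffineOpen_maxPts_subset T.left hTfin ⊤ (fun _ _ => trivial)
  haveI : IsAffine (opSub T W).left := hWaff
  set j₀ : (yon S).obj (opSub T W) ⟶ Y := (yon S).map (opι T W) ≫ e.hom ≫ j₁ with hj₀def
  have hj₀ : RepWith @IsOpenImmersion j₀ :=
    (RepWith @IsOpenImmersion).comp_mem _ _
      ((repWith_yon_map_iff _ _).2 (inferInstance : IsOpenImmersion W.ι)) he
  have hV₀ : IsAlgSpace ((yon S).obj (opSub T W)) := IsAlgSpace.yon_obj _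
  -- base change
  have sq₀ : IsPullback (pullback.fst f j₀) (pullback.snd f j₀) f j₀ :=
    IsPullback.of_hasPullback _ _
  set i₀ := pullback.fst f j₀ with hi₀
  set f₀ := pullback.snd f j₀ with hf₀
  have hX₀ : IsAlgSpace (pullback f j₀) := isAlgSpace_of_isPullback hY.diag hX hV₀ sq₀
  have hlft₀ : LocP @LocallyOfFiniteType f₀ :=
    locP_of_isPullback goodP_lft srcEtLoc_lft hX hY hV₀ sq₀ hf
  obtain ⟨hX0₀, hV0₀, hpre₀⟩ := restrict_hyps hX hY hX₀ hV₀ f j₀ hj₀ i₀ f₀ sq₀ hX0 hY0 hpre
  -- the open of the affine base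
  obtain ⟨V', ι, hι, hιmax, hfin⟩ : ∃ (V' : Over S) (ι : V' ⟶ opSub T W),
      IsOpenImmersion ι.left ∧ maxPts (opSub T W).left ⊆ Set.range ι.left ∧
      ∀ {P' : Sp S} (m : P' ⟶ pullback f j₀) (q' : P' ⟶ (yon S).obj V'),
        IsPullback m q' f₀ ((yon S).map ι) → IsFiniteMor q' := by
    rcases hqs with hqc | hsep
    · exact exists_open_finite_affine_of_qc hX₀ f₀ hlft₀
        (isQuasiCompactMor_of_isPullback' sq₀ hqc) hV0₀ hpre₀
    · exact exists_open_of_opens f₀ (exists_opens_finite_affine_of_separated hX₀ f₀ hlft₀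
        (Zmt.isSeparatedMor_of_isPullback sq₀ hsep) hX0₀ hpre₀)
  refine ⟨(yon S).obj V', (yon S).map ι ≫ j₀, IsAlgSpace.yon_obj V',
    (RepWith @IsOpenImmersion).comp_mem _ _ ((repWith_yon_map_iff _ _).2 hι) hj₀, ?_, ?_⟩
  · -- density
    have hsub : Points.map j₁ '' {y : Points Y₁ |
        HasAt (fun U u => ringKrullDim ↥(U.presheaf.stalk u) = 0) Y₁ y} ⊆
        Set.range (Points.map ((yon S).map ι ≫ j₀)) := by
      rintro _ ⟨y₁, hy₁, rfl⟩
      obtain ⟨t, ht⟩ := (Points.schemeEquiv T).surjective (Points.map e.inv y₁)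
      have hy₁t : y₁ = Points.ofPt e.hom t := by
        rw [Points.ofPt_eq_map_ofScheme]
        change y₁ = Points.map e.hom (Points.schemeEquiv T t)
        rw [ht, ← Points.map_comp, e.inv_hom_id, Points.map_id]
      have htmax : t ∈ maxPts T.left := by
        rw [hy₁t] at hy₁
        exact (hasAt_c0_chart_iff e.hom (repWith_of_isIso _ e.hom) t).1 hy₁
      have htW : t ∈ W := hWmax htmax
      have hwmax : (⟨t, htW⟩ : (W : Scheme.{u})) ∈ maxPts (W : Scheme.{u}) :=
        mem_maxPts_opens W t htW htmax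
      obtain ⟨v', hv'⟩ := hιmax hwmax
      refine ⟨Points.ofScheme V' v', ?_⟩
      rw [← Points.ofPt_eq_map_ofScheme, ofPt_comp_yon_map, hv', hj₀def, ofPt_comp_yon_map,
        hy₁t, Points.map_ofPt]
      rfl
    have h1 : Set.range (Points.map j₁) ⊆
        closure (Set.range (Points.map ((yon S).map ι ≫ j₀))) := by
      rintro _ ⟨y₁, rfl⟩
      have hy₁ : y₁ ∈ closure {y : Points Y₁ |
          HasAt (fun U u => ringKrullDim ↥(U.presheaf.stalk u) = 0) Y₁ y} :=
        (dense_codimZero_points hY₁) y₁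
      exact closure_mono hsub
        (image_closure_subset_closure_image (Points.continuous_map j₁) ⟨y₁, hy₁, rfl⟩)
    exact fun y => closure_minimal h1 isClosed_closure (hdense y)
  · intro P fst snd sq
    have hw : snd ≫ f = (fst ≫ (yon S).map ι) ≫ j₀ := by
      rw [Category.assoc]
      exact sq.w.symm
    have hl1 : sq₀.lift snd (fst ≫ (yon S).map ι) hw ≫ i₀ = snd := sq₀.lift_fst _ _ _
    have hl2 : sq₀.lift snd (fst ≫ (yon S).map ι) hw ≫ f₀ = fst ≫ (yon S).map ι :=
      sq₀.lift_snd _ _ _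
    have left : IsPullback (sq₀.lift snd (fst ≫ (yon S).map ι) hw) fst f₀ ((yon S).map ι) := by
      refine IsPullback.of_right ?_ hl2 sq₀
      rw [hl1]
      exact sq.flip
    exact hfin _ fst left

end Groth.Agent.Helper15.GenFin
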