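import Mathlib
import Groth.Agent.Lib.Helper15.GenFin12
import Groth.Agent.Lib.Helper16.AlgSp.QFAtSp

set_option autoImplicit false
set_option linter.unusedSectionVars false
set_option linter.unusedVariables false
set_option linter.style.haveILetI false
universe u

open CategoryTheory CategoryTheory.Limits AlgebraicGeometry MorphismProperty Opposite
open AlgSp
open Groth.Agent.Helper15 Groth.Agent.Helper15.Strat Groth.Agent.Helper15.Norm
  Groth.Agent.Helper15.MaxPts

namespace Groth.Agent.Helper15.GenFinInt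

variable {S : Scheme.{u}}

/-- An affine open subscheme around the generic point, inside a given open neighbourhood. -/
theorem exists_affine_open_chart {X : Sp S} (hX : IsAlgSpace X) (hXd : IsDecent X)
    (W : Set (Points X)) (hW : IsOpen W) (x : Points X) (hxW : x ∈ W)
    (hx : IsGenericPoint x (Set.univ : Set (Points X))) :
    ∃ (U : Over S) (a : (yon S).obj U ⟶ X) (u : U.left), IsAffine U.left ∧
      RepWith @IsOpenImmersion a ∧ Points.ofPt a u = x ∧ Set.range (Points.ofPt a) ⊆ W := by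
  obtain ⟨X₁, j₁, hX₁, hj₁, hrep, hdense⟩ :=
    DenseSch.exists_dense_open_subscheme hX (DenseSch.hasQcPts_of_isDecent hXd)
  obtain ⟨T, ⟨r⟩⟩ := hrep.has_representation
  let e : (yon S).obj T ≅ X₁ := isoOfRepresentableBy r
  have he : RepWith @IsOpenImmersion (e.hom ≫ j₁) :=
    (RepWith @IsOpenImmersion).comp_mem _ _ (repWith_of_isIso _ e.hom) hj₁
  have hee : RepWith @Etale (e.hom ≫ j₁) := repWith_mono isOpenImmersion_le_etale he
  have hopen : IsOpen (Set.range (Points.ofPt (e.hom ≫ j₁))) :=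
    (isOpenMap_ofPt_of_etale _ hee).isOpen_range
  haveI : Nonempty (Points X) := ⟨x⟩
  obtain ⟨_, ⟨p, rfl⟩⟩ := hdense.nonempty
  obtain ⟨t₀, ht₀⟩ := (Points.schemeEquiv T).surjective (Points.map e.inv p)
  have hne : Points.map j₁ p ∈ Set.range (Points.ofPt (e.hom ≫ j₁)) := by
    refine ⟨t₀, ?_⟩
    rw [Points.ofPt_eq_map_ofScheme]
    change Points.map (e.hom ≫ j₁) (Points.schemeEquiv T t₀) = _
    rw [ht₀, ← Points.map_comp, ← Category.assoc, e.inv_hom_id, Category.id_comp]
  obtain ⟨t, ht⟩ : x ∈ Set.range (Points.ofPt (e.hom ≫ j₁)) :=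
    (hx.mem_open_set_iff hopen).2 ⟨_, Set.mem_univ _, hne⟩
  have hO' : IsOpen (Points.ofPt (e.hom ≫ j₁) ⁻¹' W) := hW.preimage (Points.continuous_ofPt _)
  obtain ⟨_, ⟨O₀, hO, rfl⟩, htO, hOW⟩ :=
    (T.left.isBasis_affineOpens).exists_subset_of_mem_open
      (show t ∈ Points.ofPt (e.hom ≫ j₁) ⁻¹' W by rw [Set.mem_preimage, ht]; exact hxW) hO'
  let O : T.left.Opens := O₀
  refine ⟨opSub T O, (yon S).map (opι T O) ≫ e.hom ≫ j₁, ⟨t, htO⟩, hO,
    (RepWith @IsOpenImmersion).comp_mem _ _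
      ((repWith_yon_map_iff _ _).2 (inferInstance : IsOpenImmersion O.ι)) he, ?_, ?_⟩
  · rw [ofPt_comp_yon_map]
    exact ht
  · rintro _ ⟨u', rfl⟩
    rw [ofPt_comp_yon_map]
    exact hOW u'.2

/-- A morphism from a scheme whose points land in an open subscheme factors through it. -/
theorem exists_factor_openImmersion {Y : Sp S} {U V : Over S} (b : (yon S).obj V ⟶ Y)
    (hb : RepWith @IsOpenImmersion b) (φ : (yon S).obj U ⟶ Y)
    (h : ∀ u : U.left, Points.ofPt φ u ∈ Set.range (Points.ofPt b)) :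
    ∃ g : U ⟶ V, φ = (yon S).map g ≫ b := by
  have sq := hb.rep.isPullback φ
  have hsnd : RepWith @IsOpenImmersion ((yon S).map (hb.rep.snd φ)) :=
    (RepWith @IsOpenImmersion).of_isPullback sq hb
  have hsurj : IsSurjectiveMor ((yon S).map (hb.rep.snd φ)) := by
    intro p
    obtain ⟨u, rfl⟩ := (Points.schemeEquiv U).surjective p
    obtain ⟨u', hu'⟩ := Groth.Agent.Helper16.AS.exists_lift_of_mem_range b φ _ _ sq u (by
      rw [range_map_yon]; exact h u)
    refine ⟨Points.ofScheme _ u', ?_⟩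
    rw [← Points.ofPt_eq_map_ofScheme, ofPt_yon_map, hu']
    rfl
  haveI : IsIso ((yon S).map (hb.rep.snd φ)) :=
    isIso_of_repWith_isOpenImmersion_surjective _ hsnd
      (repWith_surjective_of_isSurjectiveMor _ hsnd.rep hsurj)
  obtain ⟨g, hg⟩ := (yon S).map_surjective (inv ((yon S).map (hb.rep.snd φ)) ≫ hb.rep.fst φ)
  refine ⟨g, ?_⟩
  rw [hg, Category.assoc, sq.w, IsIso.inv_hom_id_assoc]

end Groth.Agent.Helper15.GenFinInt
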