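import Mathlib
import Groth.Agent.Lib.Helper15.GenFinInt1

set_option autoImplicit false
set_option linter.unusedSectionVars false
set_option linter.unusedVariables false
set_option linter.style.haveILetI false
universe u

open CategoryTheory CategoryTheory.Limits AlgebraicGeometry MorphismProperty Opposite
open AlgSp
open Groth.Agent.Helper15 Groth.Agent.Helper15.Strat Groth.Agent.Helper15.Norm
  Groth.Agent.Helper15.MaxPts

namespace Groth.Agent.Helper15.GenFinInt

variable {S : Scheme.{u}}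

theorem injective_ofPt_of_isOpenImmersion {Y : Sp S} (hY : IsAlgSpace Y) {V : Over S}
    (b : (yon S).obj V ⟶ Y) (hb : RepWith @IsOpenImmersion b) :
    Function.Injective (Points.ofPt b) := by
  intro v v' h
  refine (Points.schemeEquiv V).injective
    (points_map_injective_of_isOpenImmersion hY b hb ?_)
  change Points.map b (Points.ofScheme V v) = Points.map b (Points.ofScheme V v')
  rw [← Points.ofPt_eq_map_ofScheme, ← Points.ofPt_eq_map_ofScheme]
  exact h

theorem isInducing_ofPt_of_isOpenImmersion {Y : Sp S} (hY : IsAlgSpace Y) {V : Over S}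
    (b : (yon S).obj V ⟶ Y) (hb : RepWith @IsOpenImmersion b) :
    Topology.IsInducing (Points.ofPt b) := by
  have h1 := (isEmbedding_points_of_immersion hY b
    (repWith_mono isOpenImmersion_le_isImmersion hb)).1.isInducing
  have h2 := (Points.schemeHomeo V).isInducing
  have h3 := h1.comp h2
  have e : Points.ofPt b = Points.map b ∘ (Points.schemeHomeo V) :=
    funext (fun v => Points.ofPt_eq_map_ofScheme b v)
  rw [e]
  exact h3

/-- If the generic point is the only point over the generic point, there are affine open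
subschemes with finite restriction. -/
theorem exists_affine_finite_of_unique {X Y : Sp S} (hXa : IsAlgSpace X) (hYa : IsAlgSpace Y)
    (hXd : IsDecent X) (hYd : IsDecent Y) (f : X ⟶ Y) (hft : LocP @LocallyOfFiniteType f)
    (x : Points X) (hx : IsGenericPoint x (Set.univ : Set (Points X)))
    (y : Points Y) (hy : IsGenericPoint y (Set.univ : Set (Points Y)))
    (hfx : Points.map f x = y) (huniq : ∀ x' : Points X, Points.map f x' = y → x' = x) :
    ∃ (U V : Over S) (a : (yon S).obj U ⟶ X) (b : (yon S).obj V ⟶ Y) (g : U ⟶ V),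
      IsAffine U.left ∧ IsAffine V.left ∧ Nonempty ↥U.left ∧
        RepWith @IsOpenImmersion a ∧ RepWith @IsOpenImmersion b ∧
          a ≫ f = (yon S).map g ≫ b ∧ IsFinite g.left := by
  obtain ⟨V₀, b₀, v₀, hV₀, hb₀, hv₀, -⟩ :=
    exists_affine_open_chart hYa hYd Set.univ isOpen_univ y (Set.mem_univ _) hy
  have hb₀e : RepWith @Etale b₀ := repWith_mono isOpenImmersion_le_etale hb₀
  have hWopen : IsOpen (Points.map f ⁻¹' Set.range (Points.ofPt b₀)) :=
    ((isOpenMap_ofPt_of_etale b₀ hb₀e).isOpen_range).preimage (Points.continuous_map f)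
  have hxW : x ∈ Points.map f ⁻¹' Set.range (Points.ofPt b₀) := ⟨v₀, hv₀.trans hfx.symm⟩
  obtain ⟨U₀, a₀, u₀, hU₀, ha₀, hu₀, hrange⟩ :=
    exists_affine_open_chart hXa hXd _ hWopen x hxW hx
  have ha₀e : RepWith @Etale a₀ := repWith_mono isOpenImmersion_le_etale ha₀
  obtain ⟨g₀, hg₀⟩ := exists_factor_openImmersion b₀ hb₀ (a₀ ≫ f) (fun u => by
    rw [← Points.map_ofPt]; exact hrange ⟨u, rfl⟩)
  haveI := hU₀
  haveI := hV₀
  haveI : LocallyOfFiniteType g₀.left := hft a₀ b₀ g₀ ha₀e hb₀e hg₀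
  have hinjY := injective_ofPt_of_isOpenImmersion hYa b₀ hb₀
  have hinjX := injective_ofPt_of_isOpenImmersion hXa a₀ ha₀
  have hv₀max : v₀ ∈ maxPts V₀.left := by
    intro v' _
    have h1 : Points.ofPt b₀ v₀ ⤳ Points.ofPt b₀ v' := by
      rw [hv₀]; exact hy.specializes (Set.mem_univ _)
    exact (isInducing_ofPt_of_isOpenImmersion hYa b₀ hb₀).specializes_iff.1 h1
  have hfib : g₀.left ⁻¹' {v₀} ⊆ {u₀} := by
    intro u hu
    have hu' : g₀.left u = v₀ := hu
    have h1 : Points.map f (Points.ofPt a₀ u) = y := by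
      rw [Points.map_ofPt, hg₀, ofPt_comp_yon_map, hu', hv₀]
    exact hinjX ((huniq _ h1).trans hu₀.symm)
  obtain ⟨V', hvV', hfin⟩ := GenFin.exists_opens_finite_of_isAffine g₀.left v₀ hv₀max
    ((Set.finite_singleton u₀).subset hfib)
  obtain ⟨_, ⟨V''₀, hV'', rfl⟩, hvV'', hV''le⟩ :=
    (V₀.left.isBasis_affineOpens).exists_subset_of_mem_open hvV' V'.2
  let V'' : V₀.left.Opens := V''₀
  have hfin' : IsFinite (g₀.left ∣_ V'') := GenFin.isFinite_restrict_of_le g₀.left hV''le hfin
  let U'' : U₀.left.Opens := g₀.left ⁻¹ᵁ V''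
  let g : opSub U₀ U'' ⟶ opSub V₀ V'' := Over.homMk (g₀.left ∣_ V'') (by
    change (g₀.left ∣_ V'') ≫ (V''.ι ≫ V₀.hom) = U''.ι ≫ U₀.hom
    rw [← Category.assoc, morphismRestrict_ι, Category.assoc, Over.w g₀])
  have hgι : g ≫ opι V₀ V'' = opι U₀ U'' ≫ g₀ :=
    Over.OverMorphism.ext (morphismRestrict_ι _ _)
  have hg₀u₀ : g₀.left u₀ = v₀ := hinjY (by
    rw [← ofPt_comp_yon_map, ← hg₀, ← Points.map_ofPt, hu₀, hfx, hv₀])
  refine ⟨opSub U₀ U'', opSub V₀ V'', (yon S).map (opι U₀ U'') ≫ a₀,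
    (yon S).map (opι V₀ V'') ≫ b₀, g, ?_, hV'', ⟨⟨u₀, ?_⟩⟩, ?_, ?_, ?_, hfin'⟩
  · haveI : IsAffine (↑V'' : Scheme.{u}) := hV''
    exact isAffine_of_isAffineHom (g₀.left ∣_ V'')
  · change g₀.left u₀ ∈ V''
    rw [hg₀u₀]; exact hvV''
  · exact (RepWith @IsOpenImmersion).comp_mem _ _
      ((repWith_yon_map_iff _ _).2 (inferInstance : IsOpenImmersion U''.ι)) ha₀
  · exact (RepWith @IsOpenImmersion).comp_mem _ _
      ((repWith_yon_map_iff _ _).2 (inferInstance : IsOpenImmersion V''.ι)) hb₀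
  · rw [Category.assoc, hg₀, ← Category.assoc, ← Functor.map_comp, ← hgι, Functor.map_comp,
      Category.assoc]

end Groth.Agent.Helper15.GenFinInt
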