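import Mathlib
import Groth.Agent.Lib.Helper15.GenFinInt2
import Groth.Agent.Lib.Helper19.GenFib.Finite

set_option autoImplicit false
set_option linter.unusedSectionVars false
set_option linter.unusedVariables false
set_option linter.style.haveILetI false
universe u

open CategoryTheory CategoryTheory.Limits AlgebraicGeometry MorphismProperty Opposite
open AlgSp
open Groth.Agent.Helper15 Groth.Agent.Helper15.Strat Groth.Agent.Helper15.Norm
  Groth.Agent.Helper15.MaxPts

namespace Groth.Agent.Helper15.GenFinInt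

variable {S : Scheme.{u}}

/-- a finite restriction to affine opens forces the generic fibre to be one point -/
theorem unique_of_exists_affine_finite {X Y : Sp S} (hXa : IsAlgSpace X) (hYa : IsAlgSpace Y)
    (hXd : IsDecent X) (hYd : IsDecent Y) (f : X ⟶ Y) (hft : LocP @LocallyOfFiniteType f)
    (x : Points X) (hx : IsGenericPoint x (Set.univ : Set (Points X)))
    (y : Points Y) (hfx : Points.map f x = y)
    (h : ∃ (U V : Over S) (a : (yon S).obj U ⟶ X) (b : (yon S).obj V ⟶ Y) (g : U ⟶ V),
      IsAffine U.left ∧ IsAffine V.left ∧ Nonempty ↥U.left ∧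
        RepWith @IsOpenImmersion a ∧ RepWith @IsOpenImmersion b ∧
          a ≫ f = (yon S).map g ≫ b ∧ IsFinite g.left) :
    ∀ x' : Points X, Points.map f x' = y → x' = x := by
  obtain ⟨U, V, a, b, g, hU, hV, ⟨u₁⟩, ha, hb, comm, hg⟩ := h
  intro x' hx'
  have hae : RepWith @Etale a := repWith_mono isOpenImmersion_le_etale ha
  have hbe : RepWith @Etale b := repWith_mono isOpenImmersion_le_etale hb
  have hxU : x ∈ Set.range (Points.ofPt a) := by
    rw [hx.mem_open_set_iff (isOpenMap_ofPt_of_etale a hae).isOpen_range]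
    exact ⟨_, Set.mem_univ _, ⟨u₁, rfl⟩⟩
  obtain ⟨u, hu⟩ := hxU
  haveI : IsFinite g.left := hg
  have h0 : HasAtMor (fun _ _ h u => Dual3.resTrdeg h u = 0) f x :=
    ⟨U, V, a, b, g, u, hae, hbe, comm, hu,
      Trdeg.resTrdeg_eq_zero_of_locallyQuasiFinite g.left u⟩
  exact Groth.Agent.Helper19.GenFib.unique_of_trdeg_zero hXa hYa hXd hYd f hft x
    (fun x' => hx.specializes (Set.mem_univ _)) h0 x' (hx'.trans hfx.symm)

end Groth.Agent.Helper15.GenFinInt
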