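import Mathlib
import Groth.Agent.Lib.Helper15.GenFinInt3
import Groth.Agent.Lib.Helper15.GenFin12
import Groth.Agent.Lib.Helper15.DecentCodim

set_option autoImplicit false
set_option linter.unusedSectionVars false
set_option linter.unusedVariables false
set_option linter.style.haveILetI false
universe u

open CategoryTheory CategoryTheory.Limits AlgebraicGeometry MorphismProperty Opposite
open AlgSp
open Groth.Agent.Helper15 Groth.Agent.Helper15.Strat Groth.Agent.Helper15.Norm
  Groth.Agent.Helper15.MaxPts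

namespace Groth.Agent.Helper15.GenFinInt

variable {S : Scheme.{u}}

/-- A morphism from a scheme whose points land in an open subspace factors through it. -/
theorem exists_factor_openImmersion_sp {Y Y' : Sp S} (j : Y' ⟶ Y)
    (hj : RepWith @IsOpenImmersion j) {U : Over S} (φ : (yon S).obj U ⟶ Y)
    (h : ∀ u : U.left, Points.ofPt φ u ∈ Set.range (Points.map j)) :
    ∃ c : (yon S).obj U ⟶ Y', φ = c ≫ j := by
  have sq := hj.rep.isPullback φ
  have hsnd : RepWith @IsOpenImmersion ((yon S).map (hj.rep.snd φ)) :=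
    (RepWith @IsOpenImmersion).of_isPullback sq hj
  have hsurj : IsSurjectiveMor ((yon S).map (hj.rep.snd φ)) := by
    intro p
    obtain ⟨u, rfl⟩ := (Points.schemeEquiv U).surjective p
    obtain ⟨u', hu'⟩ := Groth.Agent.Helper16.AS.exists_lift_of_mem_range j φ _ _ sq u (h u)
    refine ⟨Points.ofScheme _ u', ?_⟩
    rw [← Points.ofPt_eq_map_ofScheme, ofPt_yon_map, hu']
    rfl
  haveI : IsIso ((yon S).map (hj.rep.snd φ)) :=
    isIso_of_repWith_isOpenImmersion_surjective _ hsnd
      (repWith_surjective_of_isSurjectiveMor _ hsnd.rep hsurj)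
  refine ⟨inv ((yon S).map (hj.rep.snd φ)) ≫ hj.rep.fst φ, ?_⟩
  rw [Category.assoc, sq.w, IsIso.inv_hom_id_assoc]

/-- In an integral decent space the only codimension zero point is the generic point. -/
theorem hasAt_c0_iff_eq_generic {X : Sp S} (hXa : IsAlgSpace X) (hXd : IsDecent X)
    (x : Points X) (hx : IsGenericPoint x (Set.univ : Set (Points X))) (x' : Points X) :
    HasAt (fun U u => ringKrullDim ↥(U.presheaf.stalk u) = 0) X x' ↔ x' = x := by
  haveI := t0Space_points_of_isDecent hXa hXd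
  rw [← DecentCodim.exists_component_iff_hasAt hXa hXd]
  have hirr : IsIrreducible (Set.univ : Set (Points X)) := by
    have := (isIrreducible_singleton (x := x)).closure
    rwa [hx.def] at this
  constructor
  · rintro ⟨T, hT, hgen⟩
    have hTu : T = Set.univ := Set.eq_univ_of_univ_subset (hT.2 hirr (Set.subset_univ _))
    rw [hTu] at hgen
    exact hgen.eq hx
  · rintro rfl
    exact ⟨Set.univ, ⟨hirr, fun s _ _ => Set.subset_univ _⟩, hx⟩

/-- (5) ⇒ (6). -/
theorem exists_affine_pullback_finite_of_unique {X Y : Sp S} (hXa : IsAlgSpace X)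
    (hYa : IsAlgSpace Y) (hXd : IsDecent X) (hYd : IsDecent Y) (f : X ⟶ Y)
    (hft : LocP @LocallyOfFiniteType f)
    (x : Points X) (hx : IsGenericPoint x (Set.univ : Set (Points X)))
    (y : Points Y) (hy : IsGenericPoint y (Set.univ : Set (Points Y)))
    (hfx : Points.map f x = y) (huniq : ∀ x' : Points X, Points.map f x' = y → x' = x)
    (hsq : IsSeparatedMor f ∨ IsQuasiCompactMor f) :
    ∃ (V : Over S) (b : (yon S).obj V ⟶ Y) (U : Over S) (g : U ⟶ V)
      (a : (yon S).obj U ⟶ X),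
        IsAffine V.left ∧ Nonempty ↥V.left ∧ RepWith @IsOpenImmersion b ∧
          IsPullback a ((yon S).map g) f b ∧ IsAffine U.left ∧ IsFinite g.left := by
  have hX0 : {x' : Points X |
      HasAt (fun U u => ringKrullDim ↥(U.presheaf.stalk u) = 0) X x'}.Finite := by
    refine (Set.finite_singleton x).subset ?_
    intro x' hx'
    exact (hasAt_c0_iff_eq_generic hXa hXd x hx x').1 hx'
  have hY0 : {y' : Points Y |
      HasAt (fun U u => ringKrullDim ↥(U.presheaf.stalk u) = 0) Y y'}.Finite := by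
    refine (Set.finite_singleton y).subset ?_
    intro y' hy'
    exact (hasAt_c0_iff_eq_generic hYa hYd y hy y').1 hy'
  have hpre : ∀ x' : Points X,
      HasAt (fun U u => ringKrullDim ↥(U.presheaf.stalk u) = 0) X x' ↔
      HasAt (fun U u => ringKrullDim ↥(U.presheaf.stalk u) = 0) Y (Points.map f x') := by
    intro x'
    rw [hasAt_c0_iff_eq_generic hXa hXd x hx, hasAt_c0_iff_eq_generic hYa hYd y hy]
    exact ⟨fun h => by rw [h]; exact hfx, huniq x'⟩
  obtain ⟨Y', j, hY', hj, hdense, hfin⟩ :=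
    GenFin.exists_dense_open_finite hXa hYa f hft hYd hX0 hY0 hpre hsq.symm
  have hopen := isOpen_range_of_isOpenImmersion hYa j hj
  haveI : Nonempty (Points Y) := ⟨y⟩
  obtain ⟨_, ⟨p, rfl⟩⟩ := hdense.nonempty
  have hyW : y ∈ Set.range (Points.map j) :=
    (hy.mem_open_set_iff hopen).2 ⟨_, Set.mem_univ _, ⟨p, rfl⟩⟩
  obtain ⟨V₀, b₀, v₀, hV₀, hb₀, hv₀, hrange⟩ :=
    exists_affine_open_chart hYa hYd _ hopen y hyW hy
  obtain ⟨c, hc⟩ := exists_factor_openImmersion_sp j hj b₀ (fun v => hrange ⟨v, rfl⟩)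
  have sqP : IsPullback (pullback.fst j f) (pullback.snd j f) j f :=
    IsPullback.of_hasPullback _ _
  have hF : IsFiniteMor (pullback.fst j f) := hfin _ _ _ sqP
  obtain ⟨W', i, fst₂, sq₂, hW', hi⟩ := hF hV₀ c
  refine ⟨V₀, b₀, W', i, fst₂ ≫ pullback.snd j f, hV₀, ⟨v₀⟩, hb₀, ?_, hW', hi⟩
  rw [hc]
  exact sq₂.paste_horiz sqP.flip

/-- (6) ⇒ (5). -/
theorem unique_of_exists_affine_pullback_finite {X Y : Sp S} (hXa : IsAlgSpace X)
    (hYa : IsAlgSpace Y) (hXd : IsDecent X) (hYd : IsDecent Y) (f : X ⟶ Y)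
    (hft : LocP @LocallyOfFiniteType f)
    (x : Points X) (hx : IsGenericPoint x (Set.univ : Set (Points X)))
    (y : Points Y) (hy : IsGenericPoint y (Set.univ : Set (Points Y)))
    (hfx : Points.map f x = y)
    (h : ∃ (V : Over S) (b : (yon S).obj V ⟶ Y) (U : Over S) (g : U ⟶ V)
      (a : (yon S).obj U ⟶ X),
        IsAffine V.left ∧ Nonempty ↥V.left ∧ RepWith @IsOpenImmersion b ∧
          IsPullback a ((yon S).map g) f b ∧ IsAffine U.left ∧ IsFinite g.left) :
    ∀ x' : Points X, Points.map f x' = y → x' = x := by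
  obtain ⟨V, b, U, g, a, hV, ⟨v₁⟩, hb, sq, hU, hg⟩ := h
  intro x' hx'
  have hbe : RepWith @Etale b := repWith_mono isOpenImmersion_le_etale hb
  have hae : RepWith @Etale a := (RepWith @Etale).of_isPullback sq.flip hbe
  have hyV : y ∈ Set.range (Points.ofPt b) := by
    rw [hy.mem_open_set_iff (isOpenMap_ofPt_of_etale b hbe).isOpen_range]
    exact ⟨_, Set.mem_univ _, ⟨v₁, rfl⟩⟩
  obtain ⟨v, hv⟩ := hyV
  have hv' : Points.map f x = Points.map b (Points.ofScheme V v) := by
    rw [← Points.ofPt_eq_map_ofScheme, hv, hfx]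
  obtain ⟨p, hp1, hp2⟩ := exists_point_of_isPullback sq x (Points.ofScheme V v) hv'
  obtain ⟨u, rfl⟩ := (Points.schemeEquiv U).surjective p
  have hu : Points.ofPt a u = x := by
    rw [Points.ofPt_eq_map_ofScheme]; exact hp1
  haveI : IsFinite g.left := hg
  have h0 : HasAtMor (fun _ _ h u => Dual3.resTrdeg h u = 0) f x :=
    ⟨U, V, a, b, g, u, hae, hbe, sq.w, hu,
      Trdeg.resTrdeg_eq_zero_of_locallyQuasiFinite g.left u⟩
  exact Groth.Agent.Helper19.GenFib.unique_of_trdeg_zero hXa hYa hXd hYd f hft x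
    (fun x' => hx.specializes (Set.mem_univ _)) h0 x' (hx'.trans hfx.symm)

end Groth.Agent.Helper15.GenFinInt
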