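import Mathlib
import Groth.Agent.Lib.Helper15.GenFinInt4
import Groth.Agent.Lib.Helper15.AlgSpTop
import Groth.Agent.Lib.Helper15.AlgSpDecent2

set_option autoImplicit false
set_option linter.unusedSectionVars false
set_option linter.unusedVariables false
set_option linter.style.haveILetI false
universe u

open CategoryTheory CategoryTheory.Limits AlgebraicGeometry MorphismProperty Opposite
open AlgSp
open Groth.Agent.Helper15

namespace Groth.Agent.Helper15.AltExist

variable {S : Scheme.{u}}

/-- the fibre of a quasi-compact morphism over a point is quasi-compact -/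
theorem isCompact_fibre {X Y : Sp S} (f : X ⟶ Y) (hqc : IsQuasiCompactMor f) (y : Points Y) :
    IsCompact (Points.map f ⁻¹' {y}) := by
  obtain ⟨k, rfl⟩ := Points.mk_surjective y
  have sq : IsPullback (pullback.fst f k.toHom) (pullback.snd f k.toHom) f k.toHom :=
    IsPullback.of_hasPullback _ _
  have hZ : IsQuasiCompactSp ((yon S).obj k.pt) :=
    ⟨k.pt, 𝟙 _, repWith_id _ k.pt, repWith_id _ k.pt,
      (inferInstance : CompactSpace (Spec (CommRingCat.of k.K)))⟩
  have hZ' := hqc (IsAlgSpace.yon_obj k.pt) hZ k.toHom _ _ sq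
  haveI := compactSpace_points_of_isQuasiCompactSp hZ'
  have hF : Points.map f ⁻¹' {Points.mk k} =
      Set.range (Points.map (pullback.fst f k.toHom)) := by
    ext x
    constructor
    · intro hx
      have hx' : Points.map f x = Points.mk k := hx
      have h1 : Points.map f x =
          Points.map k.toHom (Points.ofScheme k.pt (IsLocalRing.closedPoint k.K)) := by
        rw [← Points.ofPt_eq_map_ofScheme, Points.ofPt_toHom, hx']
      obtain ⟨p, hp, -⟩ := exists_point_of_isPullback sq x _ h1
      exact ⟨p, hp⟩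
    · rintro ⟨p, rfl⟩
      change Points.map f (Points.map _ p) = Points.mk k
      rw [← Points.map_comp, sq.w, Points.map_comp]
      obtain ⟨t, ht⟩ := (Points.schemeEquiv k.pt).surjective (Points.map (pullback.snd f k.toHom) p)
      have ht' : Points.map (pullback.snd f k.toHom) p = Points.ofScheme k.pt t := ht.symm
      rw [ht', ← Points.ofPt_eq_map_ofScheme, Points.ofPt_toHom]
  rw [hF]
  exact isCompact_range (Points.continuous_map _)

/-- a point of a nonempty fibre of a quasi-compact morphism which is closed in the fibre -/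
theorem exists_closed_point_fibre {X Y : Sp S} (hXa : IsAlgSpace X) (hXd : IsDecent X)
    (f : X ⟶ Y) (hqc : IsQuasiCompactMor f) (y : Points Y)
    (hne : ∃ x, Points.map f x = y) :
    ∃ x, Points.map f x = y ∧ ∀ x', x ⤳ x' → Points.map f x' = y → x' = x := by
  haveI := t0Space_points_of_isDecent hXa hXd
  have hFc := isCompact_fibre f hqc y
  haveI : CompactSpace ↥(Points.map f ⁻¹' {y}) := isCompact_iff_compactSpace.1 hFc
  obtain ⟨x₀, hx₀⟩ := hne
  haveI : Nonempty ↥(Points.map f ⁻¹' {y}) := ⟨⟨x₀, hx₀⟩⟩
  obtain ⟨⟨x, hxF⟩, -, hcl⟩ := IsClosed.exists_closed_singleton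
    (isClosed_univ : IsClosed (Set.univ : Set ↥(Points.map f ⁻¹' {y}))) Set.univ_nonempty
  refine ⟨x, hxF, fun x' hsp hx' => ?_⟩
  have h1 : (⟨x, hxF⟩ : ↥(Points.map f ⁻¹' {y})) ⤳ ⟨x', hx'⟩ :=
    (subtype_specializes_iff _ _).2 hsp
  have hmem := h1.mem_closed hcl (Set.mem_singleton _)
  exact congrArg Subtype.val (Set.mem_singleton_iff.1 hmem)

end Groth.Agent.Helper15.AltExist
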