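import Mathlib
import Groth.Agent.Lib.Helper15.AltExist1
import Groth.Agent.Lib.Helper15.SoberDecent
import Groth.Agent.Lib.Helper15.AlgSpOpen
import Groth.Agent.Lib.Helper16.AlgSp.ProperSp2
import Groth.Agent.S10381
import Groth.Agent.S10423
import Groth.Agent.S10496
import Groth.Agent.S10500

set_option autoImplicit false
set_option linter.unusedSectionVars false
set_option linter.unusedVariables false
set_option linter.style.haveILetI false
universe u

open CategoryTheory CategoryTheory.Limits AlgebraicGeometry MorphismProperty Opposite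
open AlgSp
open Groth.Agent.Helper15 Groth.Agent.Helper15.SoberDecent

namespace Groth.Agent.Helper15.AltExist

variable {S : Scheme.{u}}

/-- existence of alterations inside a proper surjective morphism onto an integral space -/
theorem exists_alteration {X Y : AlgSp.Space S} (f : X ⟶ Y)
    (hf : AlgSp.IsProperMor f.hom) (hs : AlgSp.IsSurjectiveMor f.hom)
    (hY : AlgSp.IsIntegralSp Y.obj) :
    ∃ (X' : AlgSp.Space S) (i : X' ⟶ X), AlgSp.RepWith @IsClosedImmersion i.hom ∧
      AlgSp.IsIntegralSp X'.obj ∧
      AlgSp.IsProperMor (i ≫ f).hom ∧ AlgSp.IsDominantMor (i ≫ f).hom ∧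
      ∃ (V : AlgSp.Space S) (j : V ⟶ Y), AlgSp.RepWith @IsOpenImmersion j.hom ∧
        Nonempty (AlgSp.Points V.obj) ∧
        ∀ (P : AlgSp.Space S) (fst : P ⟶ V) (snd : P ⟶ X'),
          IsPullback fst.hom snd.hom j.hom (i ≫ f).hom → AlgSp.IsFiniteMor fst.hom := by
  have hXa := X.property
  have hYa := Y.property
  have hYd : IsDecent Y.obj := hY.2.1
  have hqs : IsQuasiSeparatedMor f.hom := repWith_mono isClosedImmersion_le_quasiCompact hf.1
  have hXd : IsDecent X.obj :=
    Groth.Agent.S10381.result f ((Groth.Agent.S10423.result f).2 hqs) hYd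
  -- the generic point of `Y`
  haveI : IrreducibleSpace (Points Y.obj) := hY.2.2
  haveI := quasiSober_points_of_isDecent hYa hYd
  have hy : IsGenericPoint (genericPoint (Points Y.obj)) Set.univ := genericPoint_spec _
  set y := genericPoint (Points Y.obj) with hydef
  obtain ⟨x, hxy, hxcl⟩ := exists_closed_point_fibre hXa hXd f.hom hf.2.1.2 y (hs y)
  -- the integral closed subspace
  obtain ⟨X', i, hi, hX'i, hrange⟩ := Groth.Agent.S10496.result X hXd (closure {x})
    isClosed_closure isIrreducible_singleton.closure
  have hX'a := X'.property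
  have hX'd : IsDecent X'.obj := hX'i.2.1
  haveI : IrreducibleSpace (Points X'.obj) := hX'i.2.2
  haveI := quasiSober_points_of_isDecent hX'a hX'd
  haveI := t0Space_points_of_isDecent hXa hXd
  have hxg : IsGenericPoint (genericPoint (Points X'.obj)) Set.univ := genericPoint_spec _
  set xg := genericPoint (Points X'.obj) with hxgdef
  have hemb := (isEmbedding_points_of_immersion hXa i.hom
    (repWith_mono isClosedImmersion_le_isImmersion hi)).1
  have hixg : Points.map i.hom xg = x := by
    have h1 := hxg.image (Points.continuous_map i.hom)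
    rw [Set.image_univ, hrange, closure_closure] at h1
    exact h1.eq isGenericPoint_closure
  have hcomp : (i ≫ f).hom = i.hom ≫ f.hom := rfl
  have hproper : IsProperMor (i ≫ f).hom := by
    rw [hcomp]
    exact Groth.Agent.Helper16.AS.isProperMor_comp hX'a hXa hYa i.hom f.hom
      (Groth.Agent.Helper16.AS.isProperMor_of_closedImmersion i.hom hi) hf
  have hxgy : Points.map (i ≫ f).hom xg = y := by
    rw [hcomp, Points.map_comp, hixg, hxy]
  have hdom : IsDominantMor (i ≫ f).hom := by
    change Dense (Set.range (Points.map (i ≫ f).hom))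
    rw [dense_iff_closure_eq]
    apply Set.eq_univ_of_univ_subset
    rw [← hy.def]
    exact closure_mono (Set.singleton_subset_iff.2 ⟨xg, hxgy⟩)
  refine ⟨X', i, hi, hX'i, hproper, hdom, ?_⟩
  refine (Groth.Agent.S10500.result hX'i hY (i ≫ f) hproper hdom xg hxg y hy).2 ?_
  intro x'' hx''
  rw [hcomp, Points.map_comp] at hx''
  have hmem : Points.map i.hom x'' ∈ closure {x} := by
    rw [← hrange]; exact ⟨x'', rfl⟩
  have hsp : x ⤳ Points.map i.hom x'' := specializes_iff_mem_closure.2 hmem
  have heq : Points.map i.hom x'' = x := hxcl _ hsp hx''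
  exact hemb.injective (heq.trans hixg.symm)

end Groth.Agent.Helper15.AltExist
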