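import Mathlib
import Groth.Prelude
import Groth.Agent.Lib.Helper15.AlgSpDiag
import Groth.Agent.Lib.Helper15.AlgSpDescent
import Groth.Agent.Lib.Helper21.AffDesc

set_option autoImplicit false
set_option backward.isDefEq.respectTransparency false
universe u
open CategoryTheory CategoryTheory.Limits AlgebraicGeometry MorphismProperty Opposite
open AlgSp

namespace Groth.Agent.Helper15.ArtAff


/-- A quasi-compact scheme etale over an Artinian ring is affine. -/
theorem isAffine_of_etale_artinian {V : Scheme.{u}} (A : Type u) [CommRing A] [IsArtinianRing A]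
    (f : V ⟶ Spec (CommRingCat.of A)) [Etale f] [CompactSpace V] : IsAffine V := by
  haveI : QuasiCompact f := inferInstance
  haveI : IsLocallyArtinian (Spec (CommRingCat.of A)) := by
    rw [Scheme.isLocallyArtinianScheme_Spec]
    infer_instance
  haveI : LocallyQuasiFinite f := etale_le_lqf _ _ f inferInstance
  haveI : IsFinite f := IsFinite.of_locallyQuasiFinite f
  exact isAffine_of_isAffineHom f

theorem isLocalAtTarget_isAffineHom :
    MorphismProperty.IsLocalAtTarget (@IsAffineHom : MorphismProperty Scheme.{u})
      Scheme.fppfPrecoverage := by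
  haveI := Groth.Agent.Helper21.AffDesc.affine.{u}
  exact isLocalAtTarget_fppf_of_descendsAlong _

variable {S : Scheme.{u}}

/-- A representable affine map of sheaves is affine in the sense of the prelude. -/
theorem isAffineMor_of_repWith {F G : Sp S} (f : F ⟶ G) (h : RepWith @IsAffineHom f) :
    IsAffineMor f := by
  intro Z hZ g
  have hrep := h.rep
  refine ⟨hrep.pullback g, hrep.snd g, hrep.fst g, hrep.isPullback g, ?_⟩
  haveI : IsAffine Z.left := hZ
  haveI : IsAffineHom (hrep.snd g).left := h.property_snd g
  exact isAffine_of_isAffineHom (hrep.snd g).left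

/-- Every map from the spectrum of an Artinian ring to a quasi-separated algebraic space over a
quasi-separated base is affine. -/
theorem repWith_isAffineHom_of_artinian [QuasiSeparatedSpace ↥S] {X : Sp S} (hXa : IsAlgSpace X)
    (hX : IsQuasiSeparatedSp X) (A : Type u) [CommRing A] [IsArtinianRing A]
    (str : Spec (CommRingCat.of A) ⟶ S) (a : (yon S).obj (Over.mk str) ⟶ X) :
    RepWith @IsAffineHom a := by
  haveI := isLocalAtTarget_isAffineHom.{u}
  obtain ⟨U, q, hqe, hqs⟩ := hXa.atlas
  have hrepa : Representable a := hXa.representable_from_yon a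
  have hrepq := hqe.rep
  -- V = Spec A ×_X U
  have sq : IsPullback ((yon S).map (hrepq.snd a)) ((yon S).map (hrepq.fst' a)) a q :=
    (hrepq.isPullback' a).flip
  rw [repWith_iff_of_chart a hrepa q hqe hqs _ _ sq @IsAffineHom]
  set fstV := hrepq.snd a with hfstV
  set sndV := hrepq.fst' a with hsndV
  haveI hfe : Etale fstV.left := hqe.property_snd a
  -- quasi-compactness of `V ⟶ U`
  have hc : QuasiCompact (prod.lift fstV sndV).left := prod_lift_of_repWith_diag hX sq
  haveI : QuasiCompact (Over.mk str).hom := by
    change QuasiCompact str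
    infer_instance
  have hp : QuasiCompact (prod.snd : Over.mk str ⨯ U ⟶ U).left :=
    prod_snd_left_of @QuasiCompact _ _ inferInstance
  haveI hqc : QuasiCompact sndV.left := by
    have e : sndV.left = (prod.lift fstV sndV).left ≫ (prod.snd : Over.mk str ⨯ U ⟶ U).left := by
      rw [← Over.comp_left, prod.lift_snd]
    rw [e]
    exact MorphismProperty.comp_mem _ _ _ hc hp
  refine ⟨fun O hO => ?_⟩
  haveI : CompactSpace ((sndV.left ⁻¹ᵁ O : Scheme.Opens _) : Scheme.{u}) :=
    isCompact_iff_compactSpace.1 (QuasiCompact.isCompact_preimage (f := sndV.left) _ O.isOpen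
      hO.isCompact)
  exact isAffine_of_etale_artinian A ((sndV.left ⁻¹ᵁ O).ι ≫ fstV.left)

end Groth.Agent.Helper15.ArtAff
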