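import Mathlib
import Groth.Prelude
import Groth.Agent.Lib.Helper15.AlgSpBasic

set_option autoImplicit false
set_option backward.isDefEq.respectTransparency false
universe u w
open CategoryTheory CategoryTheory.Limits AlgebraicGeometry MorphismProperty Opposite
open AlgSp

namespace Groth.Agent.Helper15.BaseChg

/-- A commutative square of sheaves of types is a pullback if it is so on sections. -/
theorem isPullback_of_sections {C : Type*} [Category C] {J : GrothendieckTopology C}
    {P X Y Z : Sheaf J (Type w)}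
    (fst : P ⟶ X) (snd : P ⟶ Y) (f : X ⟶ Z) (g : Y ⟶ Z) (hw : fst ≫ f = snd ≫ g)
    (hinj : ∀ (T : Cᵒᵖ) (p p' : P.obj.obj T), fst.hom.app T p = fst.hom.app T p' →
      snd.hom.app T p = snd.hom.app T p' → p = p')
    (hsurj : ∀ (T : Cᵒᵖ) (x : X.obj.obj T) (y : Y.obj.obj T),
      f.hom.app T x = g.hom.app T y → ∃ p, fst.hom.app T p = x ∧ snd.hom.app T p = y) :
    IsPullback fst snd f g := by
  refine IsPullback.of_map (sheafToPresheaf J _) hw ?_
  apply IsPullback.of_forall_isPullback_app
  intro T
  rw [Types.isPullback_iff]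
  refine ⟨?_, fun p p' ⟨h1, h2⟩ => hinj T p p' h1 h2, fun x y h => hsurj T x y h⟩
  exact congrArg (fun z => z.hom.app T) hw

variable {S S' : Scheme.{u}} (g : S ⟶ S')

/-- The restriction functor `j⁻¹` from sheaves over `S'` to sheaves over `S`. -/
noncomputable abbrev jinv : Sp S' ⥤ Sp S :=
  Scheme.fppfTopology.overMapPullback (Type (u + 1)) g

theorem jinv_obj_obj (F' : Sp S') (T : Over S) :
    ((jinv g).obj F').obj.obj (op T) = F'.obj.obj (op ((Over.map g).obj T)) := rfl

theorem jinv_obj_map (F' : Sp S') {T T₂ : Over S} (a : T ⟶ T₂) :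
    ((jinv g).obj F').obj.map a.op = F'.obj.map ((Over.map g).map a).op := rfl

theorem jinv_map_app {F' G' : Sp S'} (f : F' ⟶ G') (T : Over S) :
    ((jinv g).map f).hom.app (op T) = f.hom.app (op ((Over.map g).obj T)) := rfl

/-- The map `h_X ⟶ j⁻¹ h_{X'}` attached to a morphism `φ : X ⟶ X'` over `S'`. -/
noncomputable def eta {X : Over S} {X' : Over S'} (φ : (Over.map g).obj X ⟶ X') :
    (yon S).obj X ⟶ (jinv g).obj ((yon S').obj X') :=
  ObjectProperty.homMk
    { app := fun W => ↾fun (x : ULift (W.unop ⟶ X)) =>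
        (ULift.up ((Over.map g).map x.down ≫ φ) : ULift ((Over.map g).obj W.unop ⟶ X'))
      naturality := by
        intro W W₂ a
        ext ⟨x⟩
        apply ULift.ext
        change (Over.map g).map (a.unop ≫ x) ≫ φ =
          (Over.map g).map a.unop ≫ (Over.map g).map x ≫ φ
        rw [Functor.map_comp, Category.assoc] }

theorem eta_app {X : Over S} {X' : Over S'} (φ : (Over.map g).obj X ⟶ X') (W : Over S)
    (x : W ⟶ X) :
    (eta g φ).hom.app (op W) (ULift.up x) = ULift.up ((Over.map g).map x ≫ φ) := rfl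

theorem eta_comp_jinv_map {X : Over S} {X' X'' : Over S'} (φ : (Over.map g).obj X ⟶ X')
    (ψ : X' ⟶ X'') : eta g φ ≫ (jinv g).map ((yon S').map ψ) = eta g (φ ≫ ψ) := by
  apply Sheaf.hom_ext
  ext ⟨W⟩ ⟨x⟩
  apply ULift.ext
  change ((Over.map g).map x ≫ φ) ≫ ψ = (Over.map g).map x ≫ φ ≫ ψ
  rw [Category.assoc]

theorem yon_map_comp_eta {X₀ X : Over S} {X' : Over S'} (a : X₀ ⟶ X)
    (φ : (Over.map g).obj X ⟶ X') :
    (yon S).map a ≫ eta g φ = eta g ((Over.map g).map a ≫ φ) := by
  apply Sheaf.hom_ext
  ext ⟨W⟩ ⟨x⟩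
  apply ULift.ext
  change (Over.map g).map (x ≫ a) ≫ φ = (Over.map g).map x ≫ (Over.map g).map a ≫ φ
  rw [Functor.map_comp, Category.assoc]

/-- The map `h_{jT} ⟶ H'` over `S'` corresponding to `ξ : h_T ⟶ j⁻¹ H'`. -/
noncomputable def adj {T : Over S} {H' : Sp S'} (ξ : (yon S).obj T ⟶ (jinv g).obj H') :
    (yon S').obj ((Over.map g).obj T) ⟶ H' :=
  yonEquiv.symm (yonEquiv (T := T) (F := (jinv g).obj H') ξ)

theorem eta_id_comp_adj {T : Over S} {H' : Sp S'} (ξ : (yon S).obj T ⟶ (jinv g).obj H') :
    eta g (𝟙 ((Over.map g).obj T)) ≫ (jinv g).map (adj g ξ) = ξ := by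
  apply yonEquiv.injective
  rw [GrothendieckTopology.uliftYonedaEquiv_comp]
  have h1 : yonEquiv (eta g (𝟙 ((Over.map g).obj T))) =
      (ULift.up (𝟙 ((Over.map g).obj T)) :
        ULift ((Over.map g).obj T ⟶ (Over.map g).obj T)) := by
    apply ULift.ext
    change (Over.map g).map (𝟙 T) ≫ 𝟙 _ = 𝟙 _
    rw [(Over.map g).map_id, Category.id_comp]
  rw [h1]
  exact (yonEquiv (F := H')).apply_symm_apply _

section OverT

variable {g} {T : Over S} {V' : Over S'} (snd' : V' ⟶ (Over.map g).obj T)

/-- A scheme over `jT` viewed over `S` through `T`. -/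
abbrev overT : Over S := Over.mk (snd'.left ≫ T.hom)

/-- Its structure map to `T`. -/
def overTSnd : overT snd' ⟶ T := Over.homMk snd'.left rfl

/-- `j` of it is the original scheme over `S'`. -/
def overTι : (Over.map g).obj (overT snd') ⟶ V' := Over.homMk (𝟙 V'.left) (by
  have := Over.w snd'
  simp only [CategoryTheory.Over.map_obj_hom] at this
  simp [overT, this])

@[simp] theorem overTι_left : (overTι snd').left = 𝟙 V'.left := rfl
@[simp] theorem overTSnd_left : (overTSnd snd').left = snd'.left := rfl

theorem overTι_comp : overTι snd' ≫ snd' = (Over.map g).map (overTSnd snd') := by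
  ext
  simp

theorem isPullback_eta :
    IsPullback (eta g (overTι snd')) ((yon S).map (overTSnd snd'))
      ((jinv g).map ((yon S').map snd')) (eta g (𝟙 ((Over.map g).obj T))) := by
  refine isPullback_of_sections _ _ _ _ ?_ ?_ ?_
  · rw [eta_comp_jinv_map, yon_map_comp_eta, overTι_comp, Category.comp_id]
  · rintro ⟨W⟩ ⟨p⟩ ⟨p'⟩ h1 h2
    have h1' : (Over.map g).map p ≫ overTι snd' = (Over.map g).map p' ≫ overTι snd' :=
      congrArg ULift.down h1
    apply ULift.ext
    change (p : W ⟶ overT snd') = p'
    apply Over.OverMorphism.ext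
    have := congrArg (fun z => z.left) h1'
    simpa using this
  · rintro ⟨W⟩ ⟨x⟩ ⟨y⟩ h
    have h' : x ≫ snd' = (Over.map g).map y ≫ 𝟙 _ := congrArg ULift.down h
    rw [Category.comp_id] at h'
    have hl : x.left ≫ snd'.left = y.left := congrArg (fun z => z.left) h'
    refine ⟨ULift.up (Over.homMk x.left (by
      change x.left ≫ snd'.left ≫ T.hom = W.hom
      rw [← Category.assoc, hl, Over.w y])), ?_, ?_⟩
    · apply ULift.ext
      change (Over.map g).map _ ≫ overTι snd' = x
      ext
      simp
    · apply ULift.ext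
      change _ ≫ overTSnd snd' = y
      ext
      simpa using hl

end OverT

/-- Transfer of represented pullback squares along `j⁻¹`. -/
theorem isPullback_jinv {G' H' : Sp S'} {f' : G' ⟶ H'} {T : Over S}
    (ξ : (yon S).obj T ⟶ (jinv g).obj H') {V' : Over S'} {snd' : V' ⟶ (Over.map g).obj T}
    {fst' : (yon S').obj V' ⟶ G'} (sq : IsPullback fst' ((yon S').map snd') f' (adj g ξ)) :
    IsPullback (eta g (overTι snd') ≫ (jinv g).map fst') ((yon S).map (overTSnd snd'))
      ((jinv g).map f') ξ := by
  have h1 := (isPullback_eta snd').paste_horiz (sq.map (jinv g))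
  rwa [eta_id_comp_adj] at h1

theorem representable_jinv_map {G' H' : Sp S'} (f' : G' ⟶ H') (hf' : Representable f') :
    Representable ((jinv g).map f') :=
  fun T ξ => ⟨overT (hf'.snd (adj g ξ)), overTSnd _, _,
    isPullback_jinv g ξ (hf'.isPullback (adj g ξ))⟩

theorem repWith_jinv_map (P : MorphismProperty Scheme.{u}) [P.RespectsIso] {G' H' : Sp S'}
    (f' : G' ⟶ H') (hf' : RepWith P f') : RepWith P ((jinv g).map f') := by
  haveI : (P.inverseImage (Over.forget S)).RespectsIso :=
    MorphismProperty.RespectsIso.inverseImage P _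
  apply MorphismProperty.relative.of_exists
  intro T ξ
  exact ⟨overT (hf'.rep.snd (adj g ξ)), _, overTSnd _,
    isPullback_jinv g ξ (hf'.rep.isPullback (adj g ξ)), hf'.property_snd (adj g ξ)⟩

section Part1

variable (X' : Over S')

/-- `X' ×_{S'} S` as a scheme over `S`. -/
noncomputable abbrev bc : Over S := Over.mk (pullback.snd X'.hom g)

/-- The projection `j (X' ×_{S'} S) ⟶ X'` over `S'`. -/
noncomputable def bcφ : (Over.map g).obj (bc g X') ⟶ X' :=
  Over.homMk (pullback.fst X'.hom g) (by
    simp only [CategoryTheory.Over.map_obj_hom]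
    exact pullback.condition)

@[simp] theorem bcφ_left : (bcφ g X').left = pullback.fst X'.hom g := rfl

variable {g X'}

/-- The morphism to `X' ×_{S'} S` over `S` defined by a morphism to `X'` over `S'`. -/
noncomputable def bcLift {W : Over S} (b : (Over.map g).obj W ⟶ X') : W ⟶ bc g X' :=
  Over.homMk (pullback.lift b.left W.hom (by
    have := Over.w b
    simpa only [CategoryTheory.Over.map_obj_hom] using this)) (by simp)

@[simp] theorem bcLift_left {W : Over S} (b : (Over.map g).obj W ⟶ X') :
    (bcLift b).left = pullback.lift b.left W.hom (by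
      have := Over.w b
      simpa only [CategoryTheory.Over.map_obj_hom] using this) := rfl

theorem map_bcLift_comp {W : Over S} (b : (Over.map g).obj W ⟶ X') :
    (Over.map g).map (bcLift b) ≫ bcφ g X' = b := by
  ext
  simp

theorem bcLift_map_comp {W : Over S} (c : W ⟶ bc g X') :
    bcLift ((Over.map g).map c ≫ bcφ g X') = c := by
  ext
  apply pullback.hom_ext
  · simp
  · simpa using (Over.w c).symm

variable (g X')

/-- `j⁻¹ h_{X'}` is represented by `X' ×_{S'} S`. -/
noncomputable def representableBy :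
    ((jinv g).obj ((yon S').obj X')).obj.RepresentableBy (bc g X') where
  homEquiv {W} :=
    { toFun := fun c => (ULift.up ((Over.map g).map c ≫ bcφ g X') :
        ULift ((Over.map g).obj W ⟶ X'))
      invFun := fun b => bcLift (ULift.down b)
      left_inv := fun c => bcLift_map_comp c
      right_inv := fun b => ULift.ext _ _ (map_bcLift_comp b.down) }
  homEquiv_comp {W W₂} a c := by
    apply ULift.ext
    change (Over.map g).map (a ≫ c) ≫ bcφ g X' =
      (Over.map g).map a ≫ (Over.map g).map c ≫ bcφ g X'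
    rw [(Over.map g).map_comp, Category.assoc]

/-- The isomorphism `h_{X' ×_{S'} S} ≅ j⁻¹ h_{X'}`. -/
theorem isIso_eta_bcφ : IsIso (eta g (bcφ g X')) := by
  haveI : IsIso ((sheafToPresheaf (J S) (Type (u + 1))).map (eta g (bcφ g X'))) := by
    change IsIso (eta g (bcφ g X')).hom
    apply (config := { allowSynthFailures := true }) NatIso.isIso_of_isIso_app
    rintro ⟨W⟩
    rw [isIso_iff_bijective]
    constructor
    · rintro ⟨c⟩ ⟨c'⟩ h
      have h' : (Over.map g).map c ≫ bcφ g X' = (Over.map g).map c' ≫ bcφ g X' :=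
        congrArg ULift.down h
      apply ULift.ext
      change (c : W ⟶ bc g X') = c'
      rw [← bcLift_map_comp c, h', bcLift_map_comp]
    · rintro ⟨b⟩
      exact ⟨ULift.up (bcLift b), ULift.ext _ _ (map_bcLift_comp b)⟩
  exact isIso_of_reflects_iso (eta g (bcφ g X')) (sheafToPresheaf (J S) (Type (u + 1)))

end Part1

/-- The restriction of an algebraic space over `S'` to schemes over `S` is an algebraic space. -/
theorem isAlgSpace_jinv {F' : Sp S'} (hF' : IsAlgSpace F') : IsAlgSpace ((jinv g).obj F') := by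
  refine ⟨?_, ?_⟩
  · have h1 : Representable ((jinv g).map (Limits.diag F')) :=
      representable_jinv_map g _ hF'.diag
    have h2 : Limits.diag ((jinv g).obj F') =
        (jinv g).map (Limits.diag F') ≫ prodComparison (jinv g) F' F' := by
      simp only [Limits.diag, prodComparison, prod.comp_lift, ← Functor.map_comp, prod.lift_fst,
        prod.lift_snd]
      erw [(jinv g).map_id F']
    rw [h2]
    exact (Representable (S := S)).comp_mem _ _ h1
      (Functor.relativelyRepresentable.of_isIso _ _)
  · obtain ⟨U', q', hqe, hqs⟩ := hF'.atlas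
    haveI := isIso_eta_bcφ g U'
    refine ⟨bc g U', eta g (bcφ g U') ≫ (jinv g).map q', ?_, ?_⟩
    · exact ((RepWith (S := S) @Etale).cancel_left_of_respectsIso _ _).2
        (repWith_jinv_map g @Etale q' hqe)
    · exact ((RepWith (S := S) @Surjective).cancel_left_of_respectsIso _ _).2
        (repWith_jinv_map g @Surjective q' hqs)

end Groth.Agent.Helper15.BaseChg
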