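import Mathlib
import Groth.Prelude
import Groth.Agent.Lib.Helper15.QuotShBridge
import Groth.Agent.Lib.Helper15.FppfBridge4

set_option autoImplicit false
set_option backward.isDefEq.respectTransparency false
universe u
open CategoryTheory CategoryTheory.Limits AlgebraicGeometry MorphismProperty Opposite
open AlgSp

namespace Groth.Agent.Helper15.EtSheaf

variable {S : Scheme.{u}}

/-- The big etale topology on schemes over `S`. -/
abbrev Jet (S : Scheme.{u}) : GrothendieckTopology (Over S) :=
  QuotSh.J Scheme.etalePrecoverage S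

theorem jet_le_J : Jet S ≤ J S :=
  BigSite.J_mono BigSite.etalePrecoverage_le_fppfPrecoverage S

/-- An fppf sheaf is an etale sheaf. -/
theorem isSheaf_jet_of_isSheaf_J {P : PSp S} (h : Presheaf.IsSheaf (J S) P) :
    Presheaf.IsSheaf (Jet S) P :=
  (isSheaf_iff_isSheaf_of_type _ _).2
    (Presieve.isSheaf_of_le P jet_le_J ((isSheaf_iff_isSheaf_of_type _ _).1 h))

/-- An etale surjective morphism over `S` generates a covering sieve of the etale topology. -/
theorem singleton_mem_jet {T V : Over S} (g : V ⟶ T) (het : Etale g.left)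
    (hsurj : Surjective g.left) :
    Sieve.ofArrows (fun _ : PUnit.{1} => V) (fun _ => g) ∈ (Jet S) T := by
  rw [GrothendieckTopology.mem_over_iff, Sieve.overEquiv_ofArrows]
  let 𝒰 : T.left.Cover (Scheme.precoverage @Etale) :=
    Scheme.Cover.mkOfCovers PUnit.{1} (fun _ => V.left) (fun _ => g.left)
      (fun x => ⟨PUnit.unit, hsurj.surj x⟩) (fun _ => het)
  exact Precoverage.generate_mem_toGrothendieck 𝒰.mem₀

/-- A map from a representable presheaf to a presheaf `G`, such that every section of `G` over `T`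
lifts after an etale surjective base change, is locally surjective for the etale topology. -/
theorem isLocallySurjective_of_etale_lifts {G : PSp S} {U : Over S} (q : (pyon S).obj U ⟶ G)
    (h : ∀ (T : Over S) (ξ : (pyon S).obj T ⟶ G), ∃ (V : Over S) (snd : V ⟶ T) (fst : V ⟶ U),
      (pyon S).map fst ≫ q = (pyon S).map snd ≫ ξ ∧ Etale snd.left ∧ Surjective snd.left) :
    Presheaf.IsLocallySurjective (Jet S) q := by
  constructor
  intro T x
  obtain ⟨ξ, rfl⟩ := (uliftYonedaEquiv.{u + 1} (X := T) (F := G)).surjective x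
  obtain ⟨V, snd, fst, hw, het, hsurj⟩ := h T ξ
  refine (Jet S).superset_covering ?_ (singleton_mem_jet snd het hsurj)
  rw [Sieve.ofArrows, Sieve.generate_le_iff]
  rintro _ _ ⟨i⟩
  refine ⟨uliftYonedaEquiv.{u + 1} ((pyon S).map fst), ?_⟩
  have h1 := uliftYonedaEquiv_comp.{u + 1} ((pyon S).map fst) q
  have h2 : G.map snd.op (uliftYonedaEquiv.{u + 1} ξ) =
      uliftYonedaEquiv.{u + 1} ((pyon S).map snd ≫ ξ) :=
    uliftYonedaEquiv_naturality.{u + 1} (X := op T) ξ snd.op
  rw [← hw] at h2
  exact h1.symm.trans h2.symm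

/-- In a regular epi category, two epimorphisms with the same kernel pair have isomorphic
targets, compatibly with the maps. -/
theorem exists_iso_of_isKernelPair {C : Type*} [Category C] [IsRegularEpiCategory C]
    {X Y Y' Z : C} (f : X ⟶ Y) (g : X ⟶ Y') [Epi f] [Epi g] {a b : Z ⟶ X}
    (hf : IsKernelPair f a b) (hg : IsKernelPair g a b) : ∃ e : Y ≅ Y', f ≫ e.hom = g := by
  haveI := IsRegularEpiCategory.regularEpiOfEpi f
  haveI := IsRegularEpiCategory.regularEpiOfEpi g
  obtain ⟨φ, hφ⟩ := IsRegularEpi.exists_of_isKernelPair f hf g hg.w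
  obtain ⟨ψ, hψ⟩ := IsRegularEpi.exists_of_isKernelPair g hg f hf.w
  refine ⟨⟨φ, ψ, ?_, ?_⟩, hφ⟩
  · rw [← cancel_epi f, ← Category.assoc, hφ, hψ, Category.comp_id]
  · rw [← cancel_epi g, ← Category.assoc, hψ, hφ, Category.comp_id]

/-- The kernel pair of a map from a representable presheaf, when representable, is an equivalence
relation. -/
theorem isEqvRel_of_isPullback {F : PSp S} {R U : Over S} (s t : R ⟶ U)
    (p : (pyon S).obj U ⟶ F) (hpb : IsPullback ((pyon S).map t) ((pyon S).map s) p p) :
    IsEqvRel s t := by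
  have key : ∀ (T : Over S) (a b : T ⟶ U),
      (∃ r : T ⟶ R, r ≫ t = a ∧ r ≫ s = b) ↔ (pyon S).map a ≫ p = (pyon S).map b ≫ p := by
    intro T a b
    constructor
    · rintro ⟨r, rfl, rfl⟩
      rw [Functor.map_comp, Functor.map_comp, Category.assoc, Category.assoc, hpb.w]
    · intro h
      refine ⟨(pyon S).preimage (hpb.lift _ _ h), ?_, ?_⟩
      · apply (pyon S).map_injective
        rw [Functor.map_comp, Functor.map_preimage, hpb.lift_fst]
      · apply (pyon S).map_injective
        rw [Functor.map_comp, Functor.map_preimage, hpb.lift_snd]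
  refine ⟨fun T r r' h1 h2 => ?_, fun T => ?_⟩
  · apply (pyon S).map_injective
    apply hpb.hom_ext
    · rw [← Functor.map_comp, ← Functor.map_comp, h1]
    · rw [← Functor.map_comp, ← Functor.map_comp, h2]
  · refine ⟨fun a => (key T a a).2 rfl, fun {a b} hab => (key T b a).2 ((key T a b).1 hab).symm,
      fun {a b c} hab hbc => (key T a c).2 (((key T a b).1 hab).trans ((key T b c).1 hbc))⟩

/-- The quotient sheaf of an etale equivalence relation is an algebraic space. -/
theorem isAlgSpace_quot {R U : Over S} (s t : R ⟶ U) (h : IsEtaleEqvRel s t) :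
    IsAlgSpace (QuotSh.quot Scheme.fppfPrecoverage s t) := by
  have hpb := isPullback_quotShπ s t h.toIsEqvRel
  have het : Etale s.left := h.etale_left
  have e : (prod.lift t s).left ≫ (prod.snd : U ⨯ U ⟶ U).left = s.left := by
    rw [← Over.comp_left, prod.lift_snd]
  haveI : LocallyOfFiniteType ((prod.lift t s).left ≫ (prod.snd : U ⨯ U ⟶ U).left) := by
    rw [e]; infer_instance
  have hlft : LocallyOfFiniteType (prod.lift t s).left :=
    locallyOfFiniteType_of_comp _ (prod.snd : U ⨯ U ⟶ U).left
  have hdiag : Representable (Limits.diag (QuotSh.quot Scheme.fppfPrecoverage s t)) :=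
    Bridge.representable_diag_of_chart (quotShπ s t) t s hpb hlft
  have hrep : Representable (quotShπ s t) :=
    Functor.relativelyRepresentable.of_diag hdiag _
  haveI : Sheaf.IsLocallySurjective (quotShπ s t) :=
    (Sheaf.isLocallySurjective_iff_epi _).2 inferInstance
  refine ⟨hdiag, U, quotShπ s t, ?_, ?_⟩
  · exact repWith_of_isLocallySurjective_base (quotShπ s t) hrep (quotShπ s t) _ _ hpb @Etale
      ((repWith_yon_map_iff _ _).2 h.etale_left)
  · exact repWith_surjective_of_isSurjectiveMor _ hrep (isSurjectiveMor_of_epi _)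

/-- A presheaf which is an etale sheaf and admits a representable etale surjective map from a
scheme is an algebraic space (in particular an fppf sheaf). -/
theorem isAlgSpaceP_of_etale_chart (F : PSp S) (h1 : Presheaf.IsSheaf (Jet S) F)
    (U : Over S) (p : (pyon S).obj U ⟶ F)
    (hEt : (MorphismProperty.inverseImage @Etale (Over.forget S)).relative (pyon S) p)
    (hSurj : (MorphismProperty.inverseImage @Surjective (Over.forget S)).relative (pyon S) p) :
    IsAlgSpaceP F := by
  have hrep := hEt.rep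
  let R : Over S := hrep.pullback p
  let s : R ⟶ U := hrep.snd p
  let t : R ⟶ U := hrep.fst' p
  have hpb : IsPullback ((pyon S).map t) ((pyon S).map s) p p := hrep.isPullback' p
  have hE : IsEtaleEqvRel s t :=
    ⟨isEqvRel_of_isPullback s t p hpb, hEt.2 p _ s hpb, hEt.2 p _ t hpb.flip⟩
  have hF' : IsAlgSpace (QuotSh.quot Scheme.fppfPrecoverage s t) := isAlgSpace_quot s t hE
  have pres := isPresentation_quotShπ s t hE hF'
  let hUe : Sheaf (Jet S) (Type (u + 1)) :=
    ⟨(pyon S).obj U, isSheaf_jet_of_isSheaf_J ((yon S).obj U).property⟩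
  let hRe : Sheaf (Jet S) (Type (u + 1)) :=
    ⟨(pyon S).obj R, isSheaf_jet_of_isSheaf_J ((yon S).obj R).property⟩
  let Fe : Sheaf (Jet S) (Type (u + 1)) := ⟨F, h1⟩
  let F'e : Sheaf (Jet S) (Type (u + 1)) :=
    ⟨(QuotSh.quot Scheme.fppfPrecoverage s t).obj, isSheaf_jet_of_isSheaf_J
      (QuotSh.quot Scheme.fppfPrecoverage s t).property⟩
  let pe : hUe ⟶ Fe := ObjectProperty.homMk p
  let πe : hUe ⟶ F'e := ObjectProperty.homMk (quotShπ s t).hom
  let se : hRe ⟶ hUe := ObjectProperty.homMk ((pyon S).map s)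
  let te : hRe ⟶ hUe := ObjectProperty.homMk ((pyon S).map t)
  have k1 : IsKernelPair pe te se := by
    refine IsPullback.of_map (sheafToPresheaf (Jet S) (Type (u + 1))) ?_ hpb
    apply ObjectProperty.hom_ext
    exact hpb.w
  have hpb2 : IsPullback ((pyon S).map t) ((pyon S).map s) (quotShπ s t).hom (quotShπ s t).hom :=
    pres.isPullback.map (sheafToPresheaf (J S) (Type (u + 1)))
  have k2 : IsKernelPair πe te se := by
    refine IsPullback.of_map (sheafToPresheaf (Jet S) (Type (u + 1))) ?_ hpb2
    apply ObjectProperty.hom_ext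
    exact hpb2.w
  haveI : Epi pe := by
    refine (Sheaf.isLocallySurjective_iff_epi pe).1 ?_
    refine isLocallySurjective_of_etale_lifts p (fun T ξ => ?_)
    exact ⟨hrep.pullback ξ, hrep.snd ξ, hrep.fst' ξ, (hrep.isPullback' ξ).w,
      hEt.2 ξ _ _ (hrep.isPullback' ξ), hSurj.2 ξ _ _ (hrep.isPullback' ξ)⟩
  haveI : Epi πe := by
    refine (Sheaf.isLocallySurjective_iff_epi πe).1 ?_
    refine isLocallySurjective_of_etale_lifts (quotShπ s t).hom (fun T ξ => ?_)
    have hr := pres.etale.rep
    let ξ' : (yon S).obj T ⟶ QuotSh.quot Scheme.fppfPrecoverage s t := ObjectProperty.homMk ξ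
    refine ⟨hr.pullback ξ', hr.snd ξ', hr.fst' ξ', ?_,
      pres.etale.2 ξ' _ _ (hr.isPullback' ξ'), pres.surjective.2 ξ' _ _ (hr.isPullback' ξ')⟩
    exact congrArg (fun z => z.hom) (hr.isPullback' ξ').w
  obtain ⟨e, -⟩ := exists_iso_of_isKernelPair pe πe k1 k2
  exact IsAlgSpaceP.of_iso ((isAlgSpaceP_obj_iff _).2 hF')
    ((sheafToPresheaf (Jet S) (Type (u + 1))).mapIso e).symm

end Groth.Agent.Helper15.EtSheaf
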