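import Mathlib
import Groth.Prelude
import Groth.Agent.Lib.Helper15.BaseChg1
import Groth.Agent.Lib.Helper15.EtSheaf1
import Groth.Agent.Lib.Helper15.NormSN

set_option autoImplicit false
set_option backward.isDefEq.respectTransparency false
universe u w
open CategoryTheory CategoryTheory.Limits AlgebraicGeometry MorphismProperty Opposite
open AlgSp

namespace Groth.Agent.Helper15.BaseChg

variable {S S' : Scheme.{u}} (g : S ⟶ S')

/-- The left adjoint `j_!` of restriction. -/
noncomputable abbrev jsh : Sp S ⥤ Sp S' :=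
  (Over.map g).sheafPullback (Type (u + 1)) (J S) (J S')

/-- The adjunction `j_! ⊣ j⁻¹`. -/
noncomputable abbrev jadj : jsh g ⊣ jinv g :=
  (Over.map g).sheafAdjunctionContinuous (Type (u + 1)) (J S) (J S')

theorem adj_comp {T : Over S} {H' K' : Sp S'} (ξ : (yon S).obj T ⟶ (jinv g).obj H')
    (m : H' ⟶ K') : adj g ξ ≫ m = adj g (ξ ≫ (jinv g).map m) := by
  apply yonEquiv.injective
  rw [GrothendieckTopology.uliftYonedaEquiv_comp]
  unfold adj
  rw [Equiv.apply_symm_apply, Equiv.apply_symm_apply, GrothendieckTopology.uliftYonedaEquiv_comp]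
  rfl

theorem adj_eta_id (X : Over S) :
    adj g (eta g (𝟙 ((Over.map g).obj X))) = 𝟙 ((yon S').obj ((Over.map g).obj X)) := by
  apply yonEquiv.injective
  unfold adj
  rw [Equiv.apply_symm_apply]
  apply ULift.ext
  change (Over.map g).map (𝟙 X) ≫ 𝟙 _ = 𝟙 _
  rw [(Over.map g).map_id, Category.id_comp]

/-- `j_! h_X ⟶ h_{jX}`. -/
noncomputable def alphaHom (X : Over S) :
    (jsh g).obj ((yon S).obj X) ⟶ (yon S').obj ((Over.map g).obj X) :=
  ((jadj g).homEquiv _ _).symm (eta g (𝟙 _))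

/-- `h_{jX} ⟶ j_! h_X`. -/
noncomputable def alphaInv (X : Over S) :
    (yon S').obj ((Over.map g).obj X) ⟶ (jsh g).obj ((yon S).obj X) :=
  adj g ((jadj g).unit.app ((yon S).obj X))

theorem homEquiv_alphaHom (X : Over S) :
    (jadj g).homEquiv _ _ (alphaHom g X) = eta g (𝟙 _) :=
  Equiv.apply_symm_apply _ _

theorem alphaInv_alphaHom (X : Over S) : alphaInv g X ≫ alphaHom g X = 𝟙 _ := by
  unfold alphaInv
  rw [adj_comp, ← Adjunction.homEquiv_unit, homEquiv_alphaHom, adj_eta_id]

theorem alphaHom_alphaInv (X : Over S) : alphaHom g X ≫ alphaInv g X = 𝟙 _ := by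
  apply ((jadj g).homEquiv _ _).injective
  rw [Adjunction.homEquiv_naturality_right, homEquiv_alphaHom, Adjunction.homEquiv_id]
  exact eta_id_comp_adj g _

/-- `j_! h_X ≅ h_{jX}`. -/
noncomputable def alpha (X : Over S) :
    (jsh g).obj ((yon S).obj X) ≅ (yon S').obj ((Over.map g).obj X) where
  hom := alphaHom g X
  inv := alphaInv g X
  hom_inv_id := alphaHom_alphaInv g X
  inv_hom_id := alphaInv_alphaHom g X

theorem alphaHom_naturality {X Y : Over S} (a : X ⟶ Y) :
    (jsh g).map ((yon S).map a) ≫ alphaHom g Y =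
      alphaHom g X ≫ (yon S').map ((Over.map g).map a) := by
  apply ((jadj g).homEquiv _ _).injective
  rw [Adjunction.homEquiv_naturality_left, Adjunction.homEquiv_naturality_right,
    homEquiv_alphaHom, homEquiv_alphaHom, yon_map_comp_eta, eta_comp_jinv_map, Category.comp_id,
    Category.id_comp]

theorem alphaInv_naturality {X Y : Over S} (a : X ⟶ Y) :
    (yon S').map ((Over.map g).map a) ≫ alphaInv g Y =
      alphaInv g X ≫ (jsh g).map ((yon S).map a) := by
  have h := alphaHom_naturality g a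
  have h2 := congrArg (fun z => alphaInv g X ≫ z ≫ alphaInv g Y) h
  simp only [Category.assoc, alphaHom_alphaInv, Category.comp_id] at h2
  rw [← Category.assoc, ← Category.assoc, alphaInv_alphaHom, Category.id_comp] at h2
  exact h2.symm

/-- `j_! h_X` is represented by `X` viewed over `S'`. -/
noncomputable def jshRepresentableBy (X : Over S) :
    ((jsh g).obj ((yon S).obj X)).obj.RepresentableBy ((Over.map g).obj X) :=
  (Functor.RepresentableBy.equivUliftYonedaIso.{u + 1} _ _).symm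
    ((sheafToPresheaf (J S') (Type (u + 1))).mapIso (alpha g X).symm)

section EqvRel

variable {g} {R U : Over S} {s t : R ⟶ U}

/-- The relation defined by `js, jt` in terms of the relation defined by `s, t`. -/
theorem rel_map_iff {T' : Over S'} (a b : T' ⟶ (Over.map g).obj U) :
    (∃ r : T' ⟶ (Over.map g).obj R, r ≫ (Over.map g).map t = a ∧ r ≫ (Over.map g).map s = b) ↔
      ∃ (σ : T'.left ⟶ S) (ha : a.left ≫ U.hom = σ) (hb : b.left ≫ U.hom = σ)
        (r₀ : Over.mk σ ⟶ R), r₀ ≫ t = (Over.homMk a.left ha : Over.mk σ ⟶ U) ∧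
          r₀ ≫ s = (Over.homMk b.left hb : Over.mk σ ⟶ U) := by
  constructor
  · rintro ⟨r, rfl, rfl⟩
    refine ⟨r.left ≫ R.hom, ?_, ?_, Over.homMk r.left rfl, ?_, ?_⟩
    · change (r.left ≫ t.left) ≫ U.hom = _
      rw [Category.assoc, Over.w t]
    · change (r.left ≫ s.left) ≫ U.hom = _
      rw [Category.assoc, Over.w s]
    · ext; rfl
    · ext; rfl
  · rintro ⟨σ, ha, hb, r₀, h1, h2⟩
    have hw : r₀.left ≫ ((Over.map g).obj R).hom = T'.hom := by
      have h3 := Over.w r₀
      have h4 := Over.w a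
      simp only [CategoryTheory.Over.map_obj_hom] at h4 ⊢
      change r₀.left ≫ R.hom = σ at h3
      rw [← Category.assoc, h3, ← ha, Category.assoc, h4]
    refine ⟨Over.homMk r₀.left hw, ?_, ?_⟩
    · ext
      exact congrArg (fun z => z.left) h1
    · ext
      exact congrArg (fun z => z.left) h2

theorem isEqvRel_map (h : IsEqvRel s t) :
    IsEqvRel ((Over.map g).map s) ((Over.map g).map t) := by
  refine ⟨fun T' r r' h1 h2 => ?_, fun T' => ⟨fun a => ?_, fun {a b} hab => ?_,
    fun {a b c} hab hbc => ?_⟩⟩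
  · have h1' : r.left ≫ t.left = r'.left ≫ t.left := congrArg (fun z => z.left) h1
    have h2' : r.left ≫ s.left = r'.left ≫ s.left := congrArg (fun z => z.left) h2
    have hr' : r'.left ≫ R.hom = r.left ≫ R.hom := by
      rw [← Over.w t, ← Category.assoc, ← Category.assoc, h1']
    have := h.injective (Over.mk (r.left ≫ R.hom)) (Over.homMk r.left rfl)
      (Over.homMk r'.left hr') (by ext; exact h1') (by ext; exact h2')
    ext
    exact congrArg (fun z => z.left) this
  · rw [rel_map_iff]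
    obtain ⟨r₀, h1, h2⟩ := (h.equivalence (Over.mk (a.left ≫ U.hom))).refl
      (Over.homMk a.left rfl)
    exact ⟨_, rfl, rfl, r₀, h1, h2⟩
  · rw [rel_map_iff] at hab ⊢
    obtain ⟨σ, ha, hb, r₀, h1, h2⟩ := hab
    obtain ⟨r₁, h3, h4⟩ := (h.equivalence (Over.mk σ)).symm ⟨r₀, h1, h2⟩
    exact ⟨σ, hb, ha, r₁, h3, h4⟩
  · rw [rel_map_iff] at hab hbc ⊢
    obtain ⟨σ, ha, hb, r₀, h1, h2⟩ := hab
    obtain ⟨σ', hb', hc, r₁, h3, h4⟩ := hbc
    obtain rfl : σ = σ' := hb.symm.trans hb'
    obtain ⟨r₂, h5, h6⟩ := (h.equivalence (Over.mk σ)).trans ⟨r₀, h1, h2⟩ ⟨r₁, h3, h4⟩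
    exact ⟨σ, ha, hc, r₂, h5, h6⟩

theorem isEtaleEqvRel_map (h : IsEtaleEqvRel s t) :
    IsEtaleEqvRel ((Over.map g).map s) ((Over.map g).map t) :=
  ⟨isEqvRel_map h.toIsEqvRel, h.etale_left, h.etale_right⟩

end EqvRel

section Quot

variable {g} {F : Sp S} {R U : Over S} {s t : R ⟶ U} (q : (yon S).obj U ⟶ F)

/-- The chart `h_{jU} ⟶ j_! F` induced by a chart `h_U ⟶ F`. -/
noncomputable def jq : (yon S').obj ((Over.map g).obj U) ⟶ (jsh g).obj F :=
  alphaInv g U ≫ (jsh g).map q

instance [Epi q] : Epi (jq (g := g) q) := by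
  unfold jq
  haveI : IsIso (alphaInv g U) := ⟨alphaHom g U, alphaInv_alphaHom g U, alphaHom_alphaInv g U⟩
  haveI := Functor.preservesEpimorphisms_of_adjunction (jadj g)
  haveI : Epi ((jsh g).map q) := (jsh g).map_epi q
  exact epi_comp _ _

theorem yon_map_comp_jq {X : Over S} (a : X ⟶ U) :
    (yon S').map ((Over.map g).map a) ≫ jq (g := g) q = jq (g := g) ((yon S).map a ≫ q) := by
  unfold jq
  rw [← Category.assoc, alphaInv_naturality, Category.assoc, ← (jsh g).map_comp]

/-- `j_!` of a quotient `U/R` over `S` is the quotient `jU/jR` over `S'`. -/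
theorem exists_iso_quot [Epi q] (hpb : IsPullback ((yon S).map t) ((yon S).map s) q q) :
    ∃ e : (jsh g).obj F ≅
        QuotSh.quot Scheme.fppfPrecoverage ((Over.map g).map s) ((Over.map g).map t),
      jq (g := g) q ≫ e.hom = quotShπ ((Over.map g).map s) ((Over.map g).map t) := by
  set π' := quotShπ ((Over.map g).map s) ((Over.map g).map t) with hπ'
  have hcond : (yon S').map ((Over.map g).map s) ≫ π' = (yon S').map ((Over.map g).map t) ≫ π' :=
    quotShπ_condition _ _
  let k₀ : (yon S).obj U ⟶ (jinv g).obj _ := eta g (𝟙 ((Over.map g).obj U)) ≫ (jinv g).map π'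
  have hk : ∀ {X : Over S} (a : X ⟶ U), (yon S).map a ≫ k₀ =
      eta g (𝟙 ((Over.map g).obj X)) ≫ (jinv g).map ((yon S').map ((Over.map g).map a) ≫ π') := by
    intro X a
    change (yon S).map a ≫ eta g (𝟙 _) ≫ (jinv g).map π' = _
    rw [← Category.assoc, yon_map_comp_eta, Category.comp_id, (jinv g).map_comp, ← Category.assoc,
      eta_comp_jinv_map, Category.id_comp]
  have hk₀ : (yon S).map t ≫ k₀ = (yon S).map s ≫ k₀ := by
    rw [hk, hk, hcond]
  haveI := IsRegularEpiCategory.regularEpiOfEpi q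
  obtain ⟨d₀, hd₀⟩ := IsRegularEpi.exists_of_isKernelPair q hpb k₀ hk₀
  let d₁ := ((jadj g).homEquiv _ _).symm d₀
  have h1 : jq (g := g) q ≫ d₁ = π' := by
    change (alphaInv g U ≫ (jsh g).map q) ≫ ((jadj g).homEquiv _ _).symm d₀ = π'
    rw [Category.assoc, ← Adjunction.homEquiv_naturality_left_symm, hd₀]
    change alphaInv g U ≫ ((jadj g).homEquiv _ _).symm (eta g (𝟙 _) ≫ (jinv g).map π') = π'
    rw [Adjunction.homEquiv_naturality_right_symm, ← Category.assoc]
    change (alphaInv g U ≫ alphaHom g U) ≫ π' = π'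
    rw [alphaInv_alphaHom, Category.id_comp]
  have hk2 : (yon S').map ((Over.map g).map s) ≫ jq (g := g) q =
      (yon S').map ((Over.map g).map t) ≫ jq (g := g) q := by
    rw [yon_map_comp_jq, yon_map_comp_jq, hpb.w]
  obtain ⟨d₂, hd₂⟩ := exists_quotSh_desc ((Over.map g).map s) ((Over.map g).map t)
    (jq (g := g) q) hk2
  refine ⟨⟨d₁, d₂, ?_, ?_⟩, h1⟩
  · rw [← cancel_epi (jq (g := g) q), ← Category.assoc, h1, hd₂, Category.comp_id]
  · rw [← cancel_epi π', ← Category.assoc, hd₂, h1, Category.comp_id]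

/-- `j_!` of an algebraic space is an algebraic space. -/
theorem isAlgSpace_jsh (hF : IsAlgSpace F) : IsAlgSpace ((jsh g).obj F) := by
  obtain ⟨U, q, hqe, hqs⟩ := hF.atlas
  have hrep := hqe.rep
  let R : Over S := hrep.pullback q
  let s : R ⟶ U := hrep.snd q
  let t : R ⟶ U := hrep.fst' q
  have hpb : IsPullback ((yon S).map t) ((yon S).map s) q q := hrep.isPullback' q
  have hpb' : IsPullback ((pyon S).map t) ((pyon S).map s) q.hom q.hom :=
    hpb.map (sheafToPresheaf (J S) (Type (u + 1)))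
  have hE : IsEtaleEqvRel s t :=
    ⟨EtSheaf.isEqvRel_of_isPullback s t q.hom hpb', hqe.2 q _ s hpb, hqe.2 q _ t hpb.flip⟩
  haveI : Epi q := Norm.epi_of_etale_surjective q hqe hqs
  obtain ⟨e, -⟩ := exists_iso_quot (g := g) q hpb
  exact (EtSheaf.isAlgSpace_quot _ _ (isEtaleEqvRel_map hE)).of_iso e.symm

end Quot

end Groth.Agent.Helper15.BaseChg
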