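import Mathlib
import Groth.Prelude
import Groth.Agent.Lib.Helper15.BaseChg2
import Groth.Agent.Lib.Helper15.AlgSpFibre
import Groth.Agent.Lib.Helper15.AlgSpQuotEff

set_option autoImplicit false
set_option backward.isDefEq.respectTransparency false
universe u w
open CategoryTheory CategoryTheory.Limits AlgebraicGeometry MorphismProperty Opposite
open AlgSp

namespace Groth.Agent.Helper15.BaseChg

section General

variable {S : Scheme.{u}}

theorem app_up_eq {X : Over S} {Z : Sp S} (f : (yon S).obj X ⟶ Z) {W : Over S} (x : W ⟶ X) :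
    f.hom.app (op W) (ULift.up x) = yonEquiv ((yon S).map x ≫ f) := by
  rw [GrothendieckTopology.uliftYonedaEquiv_comp]
  rfl

/-- A square with representable corner and legs is a pullback if it has the universal property
against schemes. -/
theorem isPullback_yon_of_forall {P X Y : Over S} {Z : Sp S} (a : P ⟶ X) (b : P ⟶ Y)
    (f : (yon S).obj X ⟶ Z) (f' : (yon S).obj Y ⟶ Z)
    (hw : (yon S).map a ≫ f = (yon S).map b ≫ f')
    (hinj : ∀ (W : Over S) (r r' : W ⟶ P), r ≫ a = r' ≫ a → r ≫ b = r' ≫ b → r = r')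
    (hex : ∀ (W : Over S) (x : W ⟶ X) (y : W ⟶ Y), (yon S).map x ≫ f = (yon S).map y ≫ f' →
      ∃ r : W ⟶ P, r ≫ a = x ∧ r ≫ b = y) :
    IsPullback ((yon S).map a) ((yon S).map b) f f' := by
  refine isPullback_of_sections _ _ _ _ hw ?_ ?_
  · rintro ⟨W⟩ ⟨r⟩ ⟨r'⟩ h1 h2
    apply ULift.ext
    exact hinj W r r' (congrArg ULift.down h1) (congrArg ULift.down h2)
  · rintro ⟨W⟩ ⟨x⟩ ⟨y⟩ h
    rw [app_up_eq, app_up_eq] at h
    obtain ⟨r, h1, h2⟩ := hex W x y (yonEquiv.injective h)
    exact ⟨ULift.up r, ULift.ext _ _ h1, ULift.ext _ _ h2⟩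

/-- `B` is the fibre of `A ⨯ B ⟶ A` over a point of `A`. -/
theorem isPullback_prod_point {C : Type*} [Category C] [HasBinaryProducts C] {A B T : C}
    (hT : IsTerminal T) (δ : T ⟶ A) :
    IsPullback (prod.lift (hT.from B ≫ δ) (𝟙 B)) (hT.from B) (prod.fst : A ⨯ B ⟶ A) δ := by
  refine ⟨⟨by simp⟩, ⟨PullbackCone.IsLimit.mk _ (fun c => c.fst ≫ prod.snd) ?_ ?_ ?_⟩⟩
  · intro c
    apply Limits.prod.hom_ext
    · simp only [Category.assoc, prod.lift_fst]
      rw [c.condition, ← Category.assoc, ← Category.assoc]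
      congr 1
      exact hT.hom_ext _ _
    · simp
  · intro c
    exact hT.hom_ext _ _
  · intro c m h1 _
    rw [← h1]
    simp

end General

variable {S S' : Scheme.{u}} (g : S ⟶ S')

/-- If `h_S × F'` is an algebraic space over `S'`, the restriction of `F'` to `S` is an algebraic
space. -/
theorem isAlgSpace_jinv_of_prod {F' : Sp S'}
    (h : IsAlgSpace ((yon S').obj (Over.mk g) ⨯ F')) : IsAlgSpace ((jinv g).obj F') := by
  have h1 : IsAlgSpace ((jinv g).obj ((yon S').obj (Over.mk g) ⨯ F')) := isAlgSpace_jinv g h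
  have h2 := h1.of_iso (PreservesLimitPair.iso (jinv g) ((yon S').obj (Over.mk g)) F')
  have hT : IsTerminal ((yon S).obj (Over.mk (𝟙 S))) :=
    IsTerminal.isTerminalObj (yon S) _ Over.mkIdTerminal
  let τ : (Over.map g).obj (Over.mk (𝟙 S)) ⟶ Over.mk g := Over.homMk (𝟙 S) (by simp)
  have sq := isPullback_prod_point (A := (jinv g).obj ((yon S').obj (Over.mk g)))
    (B := (jinv g).obj F') hT (eta g τ)
  have hH : IsAlgSpace ((jinv g).obj ((yon S').obj (Over.mk g))) := by
    haveI := isIso_eta_bcφ g (Over.mk g)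
    exact (IsAlgSpace.yon_obj (bc g (Over.mk g))).of_iso (asIso (eta g (bcφ g (Over.mk g))))
  exact isAlgSpace_of_isPullback hH.diag h2 (IsAlgSpace.yon_obj _) sq

theorem adj_precomp {X Y : Over S} {H' : Sp S'} (a : X ⟶ Y)
    (ξ : (yon S).obj Y ⟶ (jinv g).obj H') :
    (yon S').map ((Over.map g).map a) ≫ adj g ξ = adj g ((yon S).map a ≫ ξ) := by
  apply yonEquiv.injective
  unfold adj
  rw [Equiv.apply_symm_apply, ← GrothendieckTopology.uliftYonedaEquiv_naturality,
    ← GrothendieckTopology.uliftYonedaEquiv_naturality, Equiv.apply_symm_apply]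
  rfl

theorem adj_eta {X : Over S} {X' : Over S'} (φ : (Over.map g).obj X ⟶ X') :
    adj g (eta g φ) = (yon S').map φ := by
  apply yonEquiv.injective
  unfold adj
  rw [Equiv.apply_symm_apply]
  apply ULift.ext
  change (Over.map g).map (𝟙 X) ≫ φ = 𝟙 _ ≫ φ
  rw [(Over.map g).map_id]

theorem adj_eta_comp {X : Over S} {X' : Over S'} {H' : Sp S'} (φ : (Over.map g).obj X ⟶ X')
    (m : (yon S').obj X' ⟶ H') :
    adj g (eta g φ ≫ (jinv g).map m) = (yon S').map φ ≫ m := by
  rw [← adj_comp, adj_eta]

theorem adj_injective {T : Over S} {H' : Sp S'} {ξ ξ' : (yon S).obj T ⟶ (jinv g).obj H'}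
    (h : adj g ξ = adj g ξ') : ξ = ξ' := by
  rw [← eta_id_comp_adj g ξ, ← eta_id_comp_adj g ξ', h]

section Prod

variable {g}

/-- The structure map `jU ⟶ S` over `S'`. -/
def strMap (U : Over S) : (Over.map g).obj U ⟶ Over.mk g := Over.homMk U.hom (by simp)

@[simp] theorem strMap_left (U : Over S) : (strMap (g := g) U).left = U.hom := rfl

theorem map_comp_strMap {X Y : Over S} (a : X ⟶ Y) :
    (Over.map g).map a ≫ strMap Y = strMap (g := g) X := by
  ext
  simp

variable {F' : Sp S'} {R U : Over S} {s t : R ⟶ U} (u : (yon S).obj U ⟶ (jinv g).obj F')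

/-- The chart of `h_S × F'` defined by a chart of `j⁻¹ F'`. -/
noncomputable def cmap : (yon S').obj ((Over.map g).obj U) ⟶ (yon S').obj (Over.mk g) ⨯ F' :=
  prod.lift ((yon S').map (strMap U)) (adj g u)

theorem isPullback_cmap (hpb : IsPullback ((yon S).map t) ((yon S).map s) u u)
    (hE : IsEqvRel s t) :
    IsPullback ((yon S').map ((Over.map g).map t)) ((yon S').map ((Over.map g).map s))
      (cmap u) (cmap u) := by
  refine isPullback_yon_of_forall _ _ _ _ ?_ ?_ ?_
  · apply Limits.prod.hom_ext
    · simp only [cmap, Category.assoc, prod.lift_fst]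
      rw [← (yon S').map_comp, ← (yon S').map_comp, map_comp_strMap, map_comp_strMap]
    · simp only [cmap, Category.assoc, prod.lift_snd]
      rw [adj_precomp, adj_precomp, hpb.w]
  · exact fun W r r' h1 h2 => (isEqvRel_map (g := g) hE).injective W r r' h1 h2
  · intro W' x y h
    have hfst := congrArg (fun z => z ≫ prod.fst) h
    have hsnd := congrArg (fun z => z ≫ prod.snd) h
    simp only [cmap, Category.assoc, prod.lift_fst, prod.lift_snd] at hfst hsnd
    rw [← (yon S').map_comp, ← (yon S').map_comp] at hfst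
    have hσ : x.left ≫ U.hom = y.left ≫ U.hom :=
      congrArg (fun z => z.left) ((yon S').map_injective hfst)
    let W : Over S := Over.mk (x.left ≫ U.hom)
    let x₀ : W ⟶ U := Over.homMk x.left rfl
    let y₀ : W ⟶ U := Over.homMk y.left hσ.symm
    have hW : (𝟙 W'.left) ≫ W'.hom = ((Over.map g).obj W).hom := by
      have := Over.w x
      simp only [CategoryTheory.Over.map_obj_hom] at this
      simp [W, ← this]
    let ιW : (Over.map g).obj W ⟶ W' := Over.homMk (𝟙 W'.left) hW
    have hx : (Over.map g).map x₀ = ιW ≫ x := by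
      ext
      simp only [x₀, ιW, CategoryTheory.Over.map_map_left, CategoryTheory.Over.homMk_left, CategoryTheory.Over.comp_left]
      exact (Category.id_comp _).symm
    have hy : (Over.map g).map y₀ = ιW ≫ y := by
      ext
      simp only [y₀, ιW, CategoryTheory.Over.map_map_left, CategoryTheory.Over.homMk_left, CategoryTheory.Over.comp_left]
      exact (Category.id_comp _).symm
    have key : (yon S).map x₀ ≫ u = (yon S).map y₀ ≫ u := by
      apply adj_injective
      rw [← adj_precomp, ← adj_precomp, hx, hy, (yon S').map_comp, (yon S').map_comp,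
        Category.assoc, Category.assoc, hsnd]
    let r₀ : W ⟶ R := (yon S).preimage (hpb.lift _ _ key)
    have hr1 : r₀ ≫ t = x₀ := by
      apply (yon S).map_injective
      rw [(yon S).map_comp, Functor.map_preimage, hpb.lift_fst]
    have hr2 : r₀ ≫ s = y₀ := by
      apply (yon S).map_injective
      rw [(yon S).map_comp, Functor.map_preimage, hpb.lift_snd]
    have hrw : r₀.left ≫ ((Over.map g).obj R).hom = W'.hom := by
      have h1 := Over.w r₀
      have h2 := Over.w x
      simp only [CategoryTheory.Over.map_obj_hom] at h2 ⊢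
      change r₀.left ≫ R.hom = x.left ≫ U.hom at h1
      rw [← Category.assoc, h1, Category.assoc, h2]
    refine ⟨Over.homMk r₀.left hrw, ?_, ?_⟩
    · ext
      exact congrArg (fun z => z.left) hr1
    · ext
      exact congrArg (fun z => z.left) hr2

theorem epi_cmap [Epi u] : Epi (cmap u) := by
  haveI : Sheaf.IsLocallySurjective (cmap u) := by
    apply isLocallySurjective_of_local_lift
    intro T' z
    let ψ : T' ⟶ Over.mk g := (yon S').preimage (z ≫ prod.fst)
    have hψ : (yon S').map ψ = z ≫ prod.fst := Functor.map_preimage _ _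
    let T : Over S := Over.mk ψ.left
    have hT1 : (𝟙 T'.left) ≫ T'.hom = ((Over.map g).obj T).hom := by
      have := Over.w ψ
      simp only [CategoryTheory.Over.map_obj_hom]
      rw [Category.id_comp, ← this]
      rfl
    let ιT : (Over.map g).obj T ⟶ T' := Over.homMk (𝟙 T'.left) hT1
    let ιT' : T' ⟶ (Over.map g).obj T := Over.homMk (𝟙 T'.left) (by
      rw [Category.id_comp] at hT1 ⊢
      exact hT1.symm)
    have hι : ιT' ≫ ιT = 𝟙 T' := by
      ext
      simp only [ιT, ιT', CategoryTheory.Over.comp_left, CategoryTheory.Over.homMk_left,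
        CategoryTheory.Over.id_left]
      exact Category.id_comp _
    let ξ : (yon S).obj T ⟶ (jinv g).obj F' := eta g ιT ≫ (jinv g).map (z ≫ prod.snd)
    obtain ⟨R₀, hR₀, hl⟩ := exists_local_lift_of_epi' u ξ
    refine ⟨Sieve.pullback ιT' (R₀.functorPushforward (Over.map g)),
      (J S').pullback_stable ιT'
        ((GrothendieckTopology.over_map_coverPreserving _ g).cover_preserve hR₀), ?_⟩
    rintro T'₁ k' ⟨T₁, k, m, hk, hkm⟩
    obtain ⟨τ, hτ⟩ := hl k hk
    let τ₀ : T₁ ⟶ U := (yon S).preimage τ
    have hτ₀ : (yon S).map τ₀ = τ := Functor.map_preimage _ _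
    have hk' : k' = m ≫ (Over.map g).map k ≫ ιT := by
      rw [← Category.assoc, ← hkm, Category.assoc, hι, Category.comp_id]
    refine ⟨(yon S').map (m ≫ (Over.map g).map τ₀), ?_⟩
    apply Limits.prod.hom_ext
    · simp only [cmap, Category.assoc, prod.lift_fst]
      rw [← hψ, ← (yon S').map_comp, ← (yon S').map_comp]
      congr 1
      rw [Category.assoc, map_comp_strMap, hk', Category.assoc, Category.assoc]
      congr 1
      ext
      simp only [ιT, CategoryTheory.Over.comp_left, CategoryTheory.Over.homMk_left,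
        CategoryTheory.Over.map_map_left, strMap_left]
      rw [Category.id_comp ψ.left]
      exact (Over.w k).symm
    · simp only [cmap, Category.assoc, prod.lift_snd]
      rw [(yon S').map_comp, Category.assoc, adj_precomp, hτ₀, hτ, ← adj_precomp, adj_eta_comp,
        hk', (yon S').map_comp, (yon S').map_comp, Category.assoc, Category.assoc]
  exact (Sheaf.isLocallySurjective_iff_epi _).1 inferInstance

end Prod

/-- If the restriction of `F'` to `S` is an algebraic space, `h_S × F'` is an algebraic space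
over `S'`. -/
theorem isAlgSpace_prod_of_jinv {F' : Sp S'} (hA : IsAlgSpace ((jinv g).obj F')) :
    IsAlgSpace ((yon S').obj (Over.mk g) ⨯ F') := by
  obtain ⟨U, u, hue, hus⟩ := hA.atlas
  have hrep := hue.rep
  let R : Over S := hrep.pullback u
  let s : R ⟶ U := hrep.snd u
  let t : R ⟶ U := hrep.fst' u
  have hpb : IsPullback ((yon S).map t) ((yon S).map s) u u := hrep.isPullback' u
  have hpb' : IsPullback ((pyon S).map t) ((pyon S).map s) u.hom u.hom :=
    hpb.map (sheafToPresheaf (J S) (Type (u + 1)))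
  have hE : IsEtaleEqvRel s t :=
    ⟨EtSheaf.isEqvRel_of_isPullback s t u.hom hpb', hue.2 u _ s hpb, hue.2 u _ t hpb.flip⟩
  haveI : Epi u := Norm.epi_of_etale_surjective u hue hus
  have hE' := isEtaleEqvRel_map (g := g) hE
  have k1 := isPullback_quotShπ _ _ hE'.toIsEqvRel
  have k2 := isPullback_cmap u hpb hE.toIsEqvRel
  haveI : Epi (cmap u) := epi_cmap u
  obtain ⟨e, -⟩ := EtSheaf.exists_iso_of_isKernelPair
    (quotShπ ((Over.map g).map s) ((Over.map g).map t)) (cmap u) k1 k2
  exact (EtSheaf.isAlgSpace_quot _ _ hE').of_iso e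

end Groth.Agent.Helper15.BaseChg
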