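import Mathlib
import Groth.Prelude
import Groth.Agent.Lib.Helper15.BaseChg3
import Groth.Agent.Lib.Helper15.AlgSpQuotEff

set_option autoImplicit false
set_option backward.isDefEq.respectTransparency false
universe u w
open CategoryTheory CategoryTheory.Limits AlgebraicGeometry MorphismProperty Opposite
open AlgSp

namespace Groth.Agent.Helper15.BaseChg

variable {S S' : Scheme.{u}} {g : S ⟶ S'}

/-- The canonical section of `j⁻¹ h_S`, as a map from any sheaf. -/
noncomputable def cpt (F : Sp S) : F ⟶ (jinv g).obj ((yon S').obj (Over.mk g)) :=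
  ObjectProperty.homMk
    { app := fun W => ↾fun (_ : F.obj.obj W) =>
        (ULift.up (strMap (g := g) W.unop) : ULift ((Over.map g).obj W.unop ⟶ Over.mk g))
      naturality := by
        intro W W₂ a
        ext x
        apply ULift.ext
        change strMap (g := g) W₂.unop = (Over.map g).map a.unop ≫ strMap W.unop
        rw [map_comp_strMap] }

theorem comp_cpt {F G : Sp S} (m : F ⟶ G) : m ≫ cpt (g := g) G = cpt F := by
  apply Sheaf.hom_ext
  ext W x
  rfl

theorem cpt_yon (T : Over S) : cpt (g := g) ((yon S).obj T) = eta g (strMap T) := by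
  apply Sheaf.hom_ext
  ext ⟨W⟩ ⟨x⟩
  apply ULift.ext
  change strMap (g := g) W = (Over.map g).map x ≫ strMap T
  rw [map_comp_strMap]

/-- The structure map `j_! F ⟶ h_S`. -/
noncomputable def strF (F : Sp S) : (jsh g).obj F ⟶ (yon S').obj (Over.mk g) :=
  ((jadj g).homEquiv _ _).symm (cpt F)

theorem jsh_map_comp_strF {F G : Sp S} (m : F ⟶ G) :
    (jsh g).map m ≫ strF G = strF (g := g) F := by
  unfold strF
  rw [← Adjunction.homEquiv_naturality_left_symm, comp_cpt]

theorem jq_comp_strF {F : Sp S} {T : Over S} (f : (yon S).obj T ⟶ F) :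
    jq (g := g) f ≫ strF F = (yon S').map (strMap T) := by
  unfold jq alphaInv
  rw [Category.assoc, jsh_map_comp_strF, adj_comp]
  have h1 : (jadj g).unit.app ((yon S).obj T) ≫ (jinv g).map (strF ((yon S).obj T)) =
      cpt (g := g) ((yon S).obj T) := by
    exact ((jadj g).homEquiv_unit _ _ _).symm.trans (Equiv.apply_symm_apply _ _)
  rw [h1, cpt_yon, adj_eta]

theorem jq_comp {F G : Sp S} {T : Over S} (f : (yon S).obj T ⟶ F) (m : F ⟶ G) :
    jq (g := g) f ≫ (jsh g).map m = jq (g := g) (f ≫ m) := by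
  unfold jq
  rw [Category.assoc, ← (jsh g).map_comp]

theorem jsh_map_eq {F : Sp S} {T : Over S} (f : (yon S).obj T ⟶ F) :
    (jsh g).map f = alphaHom g T ≫ jq (g := g) f := by
  unfold jq
  rw [← Category.assoc, alphaHom_alphaInv, Category.id_comp]

/-- `jq ξ` is the adjoint of `ξ ≫ unit`. -/
theorem jq_eq_adj {F : Sp S} {T : Over S} (f : (yon S).obj T ⟶ F) :
    jq (g := g) f = adj g (f ≫ (jadj g).unit.app F) := by
  unfold jq alphaInv
  rw [adj_comp]
  congr 1
  exact ((jadj g).unit.naturality f).symm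

/-- Two points of `jU` over `S'` with the same structure map to `S` come from points over `S`. -/
theorem left_comp_hom_eq {U T : Over S} {W' : Over S'} {F : Sp S}
    (f : (yon S).obj T ⟶ F) (q : (yon S).obj U ⟶ F)
    (x' : W' ⟶ (Over.map g).obj T) (y' : W' ⟶ (Over.map g).obj U)
    (h : (yon S').map x' ≫ jq (g := g) f = (yon S').map y' ≫ jq (g := g) q) :
    x'.left ≫ T.hom = y'.left ≫ U.hom := by
  have h1 := congrArg (fun z => z ≫ strF F) h
  simp only [Category.assoc, jq_comp_strF] at h1
  rw [← (yon S').map_comp, ← (yon S').map_comp] at h1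
  have h2 := (yon S').map_injective h1
  exact congrArg (fun z => z.left) h2

section Inj

variable {F : Sp S} {R U : Over S} {s t : R ⟶ U} (q : (yon S).obj U ⟶ F)

/-- A morphism over `S'` between images of `S`-schemes that respects the structure maps to `S`
comes from a morphism over `S`. -/
def descHom {X Y : Over S} (a' : (Over.map g).obj X ⟶ (Over.map g).obj Y)
    (h : a'.left ≫ Y.hom = X.hom) : X ⟶ Y := Over.homMk a'.left h

theorem map_descHom {X Y : Over S} (a' : (Over.map g).obj X ⟶ (Over.map g).obj Y)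
    (h : a'.left ≫ Y.hom = X.hom) : (Over.map g).map (descHom a' h) = a' := by
  ext
  rfl

/-- `jq` is injective on sections of a sheaf presented by an equivalence relation. -/
theorem jq_injective [Epi q] (hpb : IsPullback ((yon S).map t) ((yon S).map s) q q)
    (hE : IsEqvRel s t) {W : Over S} (ξ₁ ξ₂ : (yon S).obj W ⟶ F)
    (h : jq (g := g) ξ₁ = jq (g := g) ξ₂) : ξ₁ = ξ₂ := by
  obtain ⟨e, he⟩ := exists_iso_quot (g := g) q hpb
  obtain ⟨R₁, hR₁, l₁⟩ := exists_local_lift_of_epi' q ξ₁
  obtain ⟨R₂, hR₂, l₂⟩ := exists_local_lift_of_epi' q ξ₂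
  apply yon_hom_ext_of_cover ξ₁ ξ₂ (R₁ ⊓ R₂) ((J S).intersection_covering hR₁ hR₂)
  intro T k hk
  obtain ⟨τ₁, hτ₁⟩ := l₁ k hk.1
  obtain ⟨τ₂, hτ₂⟩ := l₂ k hk.2
  obtain ⟨u₁, rfl⟩ := (yon S).map_surjective τ₁
  obtain ⟨u₂, rfl⟩ := (yon S).map_surjective τ₂
  rw [← hτ₁, ← hτ₂]
  have h3 : (yon S').map ((Over.map g).map u₁) ≫ jq (g := g) q =
      (yon S').map ((Over.map g).map u₂) ≫ jq (g := g) q := by
    rw [yon_map_comp_jq, yon_map_comp_jq, hτ₁, hτ₂, ← yon_map_comp_jq, ← yon_map_comp_jq, h]
  have h4 : (yon S').map ((Over.map g).map u₁) ≫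
        quotShπ ((Over.map g).map s) ((Over.map g).map t) =
      (yon S').map ((Over.map g).map u₂) ≫
        quotShπ ((Over.map g).map s) ((Over.map g).map t) := by
    rw [← he, ← Category.assoc, ← Category.assoc, h3]
  obtain ⟨Rv', hRv', hrel⟩ := exists_local_rel_of_quotShπ_eq _ _ (isEqvRel_map (g := g) hE) _ _ h4
  have hcov : Sieve.functorPullback (Over.map g) Rv' ∈ (J S) T :=
    Functor.cover_lift (Over.map g) (J S) (J S') hRv'
  apply yon_hom_ext_of_cover _ _ _ hcov
  intro T₀ k₀ hk₀
  obtain ⟨r, hr1, hr2⟩ := hrel ((Over.map g).map k₀) hk₀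
  obtain ⟨r', rfl⟩ := (yon S').map_surjective r
  rw [← (yon S').map_comp, ← (yon S').map_comp] at hr1 hr2
  have hr1' := (yon S').map_injective hr1
  have hr2' := (yon S').map_injective hr2
  have hl1 : r'.left ≫ t.left = k₀.left ≫ u₁.left := congrArg (fun z => z.left) hr1'
  have hl2 : r'.left ≫ s.left = k₀.left ≫ u₂.left := congrArg (fun z => z.left) hr2'
  have hw : r'.left ≫ R.hom = T₀.hom := by
    rw [← Over.w t, ← Category.assoc, hl1, Category.assoc, Over.w u₁, Over.w k₀]
  let r₀ : T₀ ⟶ R := descHom r' hw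
  have e1 : r₀ ≫ t = k₀ ≫ u₁ := by
    ext
    exact hl1
  have e2 : r₀ ≫ s = k₀ ≫ u₂ := by
    ext
    exact hl2
  rw [← Category.assoc, ← Category.assoc, ← (yon S).map_comp, ← (yon S).map_comp, ← e1, ← e2,
    (yon S).map_comp, (yon S).map_comp, Category.assoc, Category.assoc, hpb.w]

/-- The image under `j_!` of a chart-pullback square is a pullback square. -/
theorem isPullback_jq [Epi q] (hpb : IsPullback ((yon S).map t) ((yon S).map s) q q)
    (hE : IsEqvRel s t) {T V : Over S} (f : (yon S).obj T ⟶ F) (fst' : V ⟶ T) (snd : V ⟶ U)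
    (sq : IsPullback ((yon S).map fst') ((yon S).map snd) f q) :
    IsPullback ((yon S').map ((Over.map g).map fst')) ((yon S').map ((Over.map g).map snd))
      (jq (g := g) f) (jq (g := g) q) := by
  refine isPullback_yon_of_forall _ _ _ _ ?_ ?_ ?_
  · rw [yon_map_comp_jq, yon_map_comp_jq, sq.w]
  · intro W' r r' h1 h2
    have h1' : r.left ≫ fst'.left = r'.left ≫ fst'.left := congrArg (fun z => z.left) h1
    have h2' : r.left ≫ snd.left = r'.left ≫ snd.left := congrArg (fun z => z.left) h2
    have hr' : r'.left ≫ V.hom = r.left ≫ V.hom := by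
      rw [← Over.w fst', ← Category.assoc, ← Category.assoc, h1']
    let a : Over.mk (r.left ≫ V.hom) ⟶ V := Over.homMk r.left rfl
    let a' : Over.mk (r.left ≫ V.hom) ⟶ V := Over.homMk r'.left hr'
    have haa' : a = a' := by
      apply (yon S).map_injective
      apply sq.hom_ext
      · rw [← (yon S).map_comp, ← (yon S).map_comp]
        congr 1
        ext
        exact h1'
      · rw [← (yon S).map_comp, ← (yon S).map_comp]
        congr 1
        ext
        exact h2'
    ext
    exact congrArg (fun z => z.left) haa'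
  · intro W' x' y' h
    have hσ := left_comp_hom_eq f q x' y' h
    let y₀ : overT x' ⟶ U := Over.homMk y'.left hσ.symm
    have hy₀ : overTι x' ≫ y' = (Over.map g).map y₀ := by
      ext
      simp [y₀]
    have h5 : jq (g := g) ((yon S).map (overTSnd x') ≫ f) = jq (g := g) ((yon S).map y₀ ≫ q) := by
      rw [← yon_map_comp_jq, ← yon_map_comp_jq, ← overTι_comp, ← hy₀, (yon S').map_comp,
        (yon S').map_comp, Category.assoc, Category.assoc, h]
    have h6 := jq_injective (g := g) q hpb hE _ _ h5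
    obtain ⟨r₀, hr₀⟩ := (yon S).map_surjective (sq.lift _ _ h6)
    have e1 : r₀ ≫ fst' = overTSnd x' := by
      apply (yon S).map_injective
      rw [(yon S).map_comp, hr₀, sq.lift_fst]
    have e2 : r₀ ≫ snd = y₀ := by
      apply (yon S).map_injective
      rw [(yon S).map_comp, hr₀, sq.lift_snd]
    have hw : r₀.left ≫ ((Over.map g).obj V).hom = W'.hom := by
      have h7 := Over.w r₀
      have h8 := Over.w x'
      simp only [CategoryTheory.Over.map_obj_hom] at h8 ⊢
      change r₀.left ≫ V.hom = x'.left ≫ T.hom at h7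
      rw [← Category.assoc, h7, Category.assoc, h8]
    refine ⟨Over.homMk r₀.left hw, ?_, ?_⟩
    · ext
      exact congrArg (fun z => z.left) e1
    · ext
      exact congrArg (fun z => z.left) e2

end Inj

/-- Presentation data of an algebraic space. -/
theorem exists_presentation {F : Sp S} (hF : IsAlgSpace F) :
    ∃ (R U : Over S) (s t : R ⟶ U) (q : (yon S).obj U ⟶ F),
      RepWith @Etale q ∧ RepWith @Surjective q ∧ Epi q ∧
        IsPullback ((yon S).map t) ((yon S).map s) q q ∧ IsEtaleEqvRel s t := by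
  obtain ⟨U, q, hqe, hqs⟩ := hF.atlas
  have hrep := hqe.rep
  have hpb : IsPullback ((yon S).map (hrep.fst' q)) ((yon S).map (hrep.snd q)) q q :=
    hrep.isPullback' q
  have hpb' := hpb.map (sheafToPresheaf (J S) (Type (u + 1)))
  exact ⟨_, U, hrep.snd q, hrep.fst' q, q, hqe, hqs, Norm.epi_of_etale_surjective q hqe hqs, hpb,
    ⟨EtSheaf.isEqvRel_of_isPullback _ _ q.hom hpb', hqe.2 q _ _ hpb, hqe.2 q _ _ hpb.flip⟩⟩

/-- The chart `jq q` of `j_! F` is etale and surjective. -/
theorem repWith_jq {F : Sp S} {R U : Over S} {s t : R ⟶ U} (q : (yon S).obj U ⟶ F) [Epi q]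
    (hpb : IsPullback ((yon S).map t) ((yon S).map s) q q) (hE : IsEtaleEqvRel s t) :
    RepWith @Etale (jq (g := g) q) ∧ RepWith @Surjective (jq (g := g) q) := by
  obtain ⟨e, he⟩ := exists_iso_quot (g := g) q hpb
  have hAq := EtSheaf.isAlgSpace_quot _ _ (isEtaleEqvRel_map (g := g) hE)
  have pres := isPresentation_quotShπ _ _ (isEtaleEqvRel_map (g := g) hE) hAq
  constructor
  · refine (MorphismProperty.cancel_right_of_respectsIso (RepWith @Etale) (jq (g := g) q)
      e.hom).1 ?_
    rw [he]
    exact pres.etale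
  · refine (MorphismProperty.cancel_right_of_respectsIso (RepWith @Surjective) (jq (g := g) q)
      e.hom).1 ?_
    rw [he]
    exact pres.surjective

/-- `j_!` preserves and reflects properties of maps from schemes to algebraic spaces. -/
theorem repWith_jsh_map_iff {F : Sp S} (hF : IsAlgSpace F) {T : Over S}
    (f : (yon S).obj T ⟶ F) (P : MorphismProperty Scheme.{u}) [P.IsStableUnderBaseChange]
    [P.IsLocalAtTarget Scheme.fppfPrecoverage] :
    RepWith (S := S') P ((jsh g).map f) ↔ RepWith P f := by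
  obtain ⟨R, U, s, t, q, hqe, hqs, hepi, hpb, hE⟩ := exists_presentation hF
  haveI := hepi
  obtain ⟨hjqe, hjqs⟩ := repWith_jq (g := g) q hpb hE
  have hrep := hqe.rep
  have sq : IsPullback ((yon S).map (hrep.snd f)) ((yon S).map (hrep.fst' f)) f q :=
    (hrep.isPullback' f).flip
  have h1 := repWith_iff_of_chart f (hF.representable_from_yon f) q hqe hqs _ _ sq P
  have hjF : IsAlgSpace ((jsh g).obj F) := isAlgSpace_jsh hF
  have h2 := repWith_iff_of_chart (jq (g := g) f) (hjF.representable_from_yon _) (jq (g := g) q)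
    hjqe hjqs _ _ (isPullback_jq (g := g) q hpb hE.toIsEqvRel f _ _ sq) P
  rw [h1]
  rw [jsh_map_eq]
  haveI : IsIso (alphaHom g T) := (alpha g T).isIso_hom
  rw [MorphismProperty.cancel_left_of_respectsIso (RepWith (S := S') P), h2]
  rfl

end Groth.Agent.Helper15.BaseChg
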