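import Mathlib
import Groth.Prelude
import Groth.Agent.Lib.Helper15.BaseChg4

set_option autoImplicit false
set_option backward.isDefEq.respectTransparency false
universe u w
open CategoryTheory CategoryTheory.Limits AlgebraicGeometry MorphismProperty Opposite
open AlgSp

namespace Groth.Agent.Helper15.BaseChg

variable {S S' : Scheme.{u}} {g : S ⟶ S'}

section Surj

variable {F : Sp S} {R U : Over S} {s t : R ⟶ U} (q : (yon S).obj U ⟶ F)

/-- The sieve of arrows over which a section of `j_! F` comes from `F`. -/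
def liftSieve {W : Over S} (ζ' : (yon S').obj ((Over.map g).obj W) ⟶ (jsh g).obj F) : Sieve W where
  arrows T k := ∃ ξ : (yon S).obj T ⟶ F,
    jq (g := g) ξ = (yon S').map ((Over.map g).map k) ≫ ζ'
  downward_closed := by
    rintro T T₂ k ⟨ξ, hξ⟩ a
    refine ⟨(yon S).map a ≫ ξ, ?_⟩
    rw [← yon_map_comp_jq, hξ, ← Category.assoc, ← (yon S').map_comp, ← (Over.map g).map_comp]

theorem liftSieve_mem [Epi q] {W : Over S}
    (ζ' : (yon S').obj ((Over.map g).obj W) ⟶ (jsh g).obj F)
    (hζ : ζ' ≫ strF F = (yon S').map (strMap W)) : liftSieve ζ' ∈ (J S) W := by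
  obtain ⟨Rv', hRv', l⟩ := exists_local_lift_of_epi' (jq (g := g) q) ζ'
  have hcov : Sieve.functorPullback (Over.map g) Rv' ∈ (J S) W :=
    Functor.cover_lift (Over.map g) (J S) (J S') hRv'
  refine (J S).superset_covering ?_ hcov
  intro T k₀ hk₀
  obtain ⟨τ, hτ⟩ := l ((Over.map g).map k₀) hk₀
  obtain ⟨u', rfl⟩ := (yon S').map_surjective τ
  have h1 := congrArg (fun z => z ≫ strF F) hτ
  simp only [Category.assoc, jq_comp_strF, hζ] at h1
  rw [← (yon S').map_comp, ← (yon S').map_comp, map_comp_strMap] at h1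
  have h2 : u'.left ≫ U.hom = T.hom := congrArg (fun z => z.left) ((yon S').map_injective h1)
  refine ⟨(yon S).map (descHom u' h2) ≫ q, ?_⟩
  rw [← yon_map_comp_jq, map_descHom, hτ]

/-- A section of `j_! F` over `jW` lying over the canonical point of `h_S` comes from `F`. -/
theorem exists_jq_eq [Epi q] (hpb : IsPullback ((yon S).map t) ((yon S).map s) q q)
    (hE : IsEqvRel s t) {W : Over S}
    (ζ' : (yon S').obj ((Over.map g).obj W) ⟶ (jsh g).obj F)
    (hζ : ζ' ≫ strF F = (yon S').map (strMap W)) :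
    ∃ ξ : (yon S).obj W ⟶ F, jq (g := g) ξ = ζ' := by
  have hRv := liftSieve_mem q ζ' hζ
  have hY : Presieve.IsSheaf (J S) F.obj := (isSheaf_iff_isSheaf_of_type _ _).1 F.property
  let x : Presieve.FamilyOfElements F.obj (liftSieve ζ').arrows :=
    fun T k hk => yonEquiv hk.choose
  have hx : x.Compatible := by
    rw [Presieve.compatible_iff_sieveCompatible]
    intro T T₂ k a hk
    change yonEquiv _ = F.obj.map a.op (yonEquiv _)
    rw [GrothendieckTopology.uliftYonedaEquiv_naturality]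
    congr 1
    apply jq_injective (g := g) q hpb hE
    rw [((liftSieve ζ').downward_closed hk a).choose_spec, ← yon_map_comp_jq, hk.choose_spec,
      ← Category.assoc, ← (yon S').map_comp, ← (Over.map g).map_comp]
  obtain ⟨y, hy, -⟩ := hY _ hRv x hx
  refine ⟨yonEquiv.symm y, ?_⟩
  have hpush := (GrothendieckTopology.over_map_coverPreserving Scheme.fppfTopology g).cover_preserve
    hRv
  apply yon_hom_ext_of_cover _ _ _ hpush
  rintro T' k' ⟨T, k₀, a, hk₀, rfl⟩
  rw [(yon S').map_comp, Category.assoc, Category.assoc, yon_map_comp_jq]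
  congr 1
  rw [← hk₀.choose_spec]
  congr 1
  apply yonEquiv.injective
  rw [← GrothendieckTopology.uliftYonedaEquiv_naturality, Equiv.apply_symm_apply]
  exact hy k₀ hk₀

end Surj

section FF

theorem jsh_map_injective {F G : Sp S} (hG : IsAlgSpace G) (m₁ m₂ : F ⟶ G)
    (h : (jsh g).map m₁ = (jsh g).map m₂) : m₁ = m₂ := by
  obtain ⟨R, U, s, t, q, hqe, hqs, hepi, hpb, hE⟩ := exists_presentation hG
  haveI := hepi
  apply hom_ext_yon
  intro T ξ
  apply jq_injective (g := g) q hpb hE.toIsEqvRel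
  rw [← jq_comp, ← jq_comp, h]

theorem jsh_map_surjective {F G : Sp S} (hF : IsAlgSpace F) (hG : IsAlgSpace G)
    (m' : (jsh g).obj F ⟶ (jsh g).obj G) (hm' : m' ≫ strF G = strF F) :
    ∃ m : F ⟶ G, (jsh g).map m = m' := by
  obtain ⟨R, U, s, t, q, hqe, hqs, hepi, hpb, hE⟩ := exists_presentation hG
  obtain ⟨R₁, U₁, s₁, t₁, q₁, hqe₁, hqs₁, hepi₁, hpb₁, hE₁⟩ := exists_presentation hF
  haveI := hepi
  haveI := hepi₁
  have hζ : (jq (g := g) q₁ ≫ m') ≫ strF G = (yon S').map (strMap U₁) := by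
    rw [Category.assoc, hm', jq_comp_strF]
  obtain ⟨ξ, hξ⟩ := exists_jq_eq (g := g) q hpb hE.toIsEqvRel _ hζ
  have h1 : (yon S).map t₁ ≫ ξ = (yon S).map s₁ ≫ ξ := by
    apply jq_injective (g := g) q hpb hE.toIsEqvRel
    rw [← yon_map_comp_jq, ← yon_map_comp_jq, hξ, ← Category.assoc, ← Category.assoc,
      yon_map_comp_jq, yon_map_comp_jq, hpb₁.w]
  haveI := IsRegularEpiCategory.regularEpiOfEpi q₁
  obtain ⟨m, hm⟩ := IsRegularEpi.exists_of_isKernelPair q₁ hpb₁ ξ h1
  refine ⟨m, ?_⟩
  rw [← cancel_epi (jq (g := g) q₁), jq_comp, hm, hξ]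

end FF

section Str

/-- An `S'`-scheme with a map to `S` over `S'`, viewed as an `S`-scheme. -/
abbrev ofStr {T' : Over S'} (σ' : T' ⟶ Over.mk g) : Over S := Over.mk σ'.left

/-- `j` of it is the original scheme. -/
def ofStrι {T' : Over S'} (σ' : T' ⟶ Over.mk g) : (Over.map g).obj (ofStr σ') ⟶ T' :=
  Over.homMk (𝟙 T'.left) (by
    have := Over.w σ'
    simp only [CategoryTheory.Over.mk_hom] at this
    simp [ofStr, this])

/-- The inverse of `ofStrι`. -/
def ofStrInv {T' : Over S'} (σ' : T' ⟶ Over.mk g) : T' ⟶ (Over.map g).obj (ofStr σ') :=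
  Over.homMk (𝟙 T'.left) (by
    have := Over.w σ'
    simp only [CategoryTheory.Over.mk_hom] at this
    simp [ofStr, this])

theorem ofStrInv_ι {T' : Over S'} (σ' : T' ⟶ Over.mk g) : ofStrInv σ' ≫ ofStrι σ' = 𝟙 T' := by
  ext
  simp [ofStrInv, ofStrι]

theorem ofStrι_inv {T' : Over S'} (σ' : T' ⟶ Over.mk g) : ofStrι σ' ≫ ofStrInv σ' = 𝟙 _ := by
  ext
  simp [ofStrInv, ofStrι]

theorem ofStrι_comp {T' : Over S'} (σ' : T' ⟶ Over.mk g) :
    ofStrι σ' ≫ σ' = strMap (ofStr σ') := by
  ext
  simp [ofStrι]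

end Str

section Ess

variable (g) {F' : Sp S'} (p : F' ⟶ (yon S').obj (Over.mk g))

/-- The terminal sheaf over `S`. -/
noncomputable abbrev oneS (S : Scheme.{u}) : Sp S := (yon S).obj (Over.mk (𝟙 S))

/-- `h_S` is terminal over `S`. -/
noncomputable def oneSIsTerminal (S : Scheme.{u}) : IsTerminal (oneS S) :=
  IsTerminal.isTerminalObj (yon S) _ Over.mkIdTerminal

instance mono_cpt_oneS : Mono (cpt (g := g) (oneS S)) := (oneSIsTerminal S).mono_from _

/-- The fibre of `j⁻¹ F'` over the canonical point of `j⁻¹ h_S`. -/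
noncomputable abbrev fib : Sp S := pullback ((jinv g).map p) (cpt (g := g) (oneS S))

/-- The inclusion of the fibre. -/
noncomputable abbrev fibFst : fib g p ⟶ (jinv g).obj F' := pullback.fst _ _

theorem fibFst_comp : fibFst g p ≫ (jinv g).map p = cpt (fib g p) := by
  rw [pullback.condition, comp_cpt]

instance mono_fibFst : Mono (fibFst g p) := pullback.fst_of_mono

theorem isAlgSpace_fib (hF' : IsAlgSpace F') : IsAlgSpace (fib g p) := by
  have hH : IsAlgSpace ((jinv g).obj ((yon S').obj (Over.mk g))) := by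
    haveI := isIso_eta_bcφ g (Over.mk g)
    exact (IsAlgSpace.yon_obj (bc g (Over.mk g))).of_iso (asIso (eta g (bcφ g (Over.mk g))))
  exact isAlgSpace_of_isPullback hH.diag (isAlgSpace_jinv g hF') (IsAlgSpace.yon_obj _)
    (IsPullback.of_hasPullback _ _)

/-- The counit-like map `j_! (fibre) ⟶ F'`. -/
noncomputable def eps : (jsh g).obj (fib g p) ⟶ F' :=
  ((jadj g).homEquiv _ _).symm (fibFst g p)

theorem homEquiv_eps : (jadj g).homEquiv _ _ (eps g p) = fibFst g p :=
  Equiv.apply_symm_apply _ _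

theorem eps_comp : eps g p ≫ p = strF (fib g p) := by
  apply ((jadj g).homEquiv _ _).injective
  rw [Adjunction.homEquiv_naturality_right, homEquiv_eps, fibFst_comp]
  exact (Equiv.apply_symm_apply _ _).symm

theorem jq_comp_eps {T : Over S} (ξ : (yon S).obj T ⟶ fib g p) :
    jq (g := g) ξ ≫ eps g p = adj g (ξ ≫ fibFst g p) := by
  rw [jq_eq_adj, adj_comp, Category.assoc]
  congr 2
  exact ((jadj g).homEquiv_unit _ _ _).symm.trans (homEquiv_eps g p)

theorem exists_fib_lift {T : Over S} (ζ₀ : (yon S).obj T ⟶ (jinv g).obj F')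
    (h : ζ₀ ≫ (jinv g).map p = cpt ((yon S).obj T)) :
    ∃ ζ₁ : (yon S).obj T ⟶ fib g p, ζ₁ ≫ fibFst g p = ζ₀ :=
  ⟨pullback.lift ζ₀ ((oneSIsTerminal S).from _) (by rw [h, comp_cpt]), pullback.lift_fst _ _ _⟩

theorem isIso_eps (hF' : IsAlgSpace F') : IsIso (eps g p) := by
  have hF := isAlgSpace_fib g p hF'
  obtain ⟨R, U, s, t, q, hqe, hqs, hepi, hpb, hE⟩ := exists_presentation hF
  haveI := hepi
  apply isIso_of_yon_bijective
  · intro T' a b hab
    obtain ⟨σ', hσ'⟩ := (yon S').map_surjective (a ≫ strF (fib g p))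
    have hb : b ≫ strF (fib g p) = (yon S').map σ' := by
      rw [hσ', ← eps_comp, ← Category.assoc, ← hab, Category.assoc]
    have ha' : ((yon S').map (ofStrι σ') ≫ a) ≫ strF (fib g p) =
        (yon S').map (strMap (ofStr σ')) := by
      rw [Category.assoc, ← hσ', ← (yon S').map_comp, ofStrι_comp]
    have hb' : ((yon S').map (ofStrι σ') ≫ b) ≫ strF (fib g p) =
        (yon S').map (strMap (ofStr σ')) := by
      rw [Category.assoc, hb, ← (yon S').map_comp, ofStrι_comp]
    obtain ⟨ξa, hξa⟩ := exists_jq_eq (g := g) q hpb hE.toIsEqvRel _ ha'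
    obtain ⟨ξb, hξb⟩ := exists_jq_eq (g := g) q hpb hE.toIsEqvRel _ hb'
    have h1 : ξa = ξb := by
      rw [← cancel_mono (fibFst g p)]
      apply adj_injective g
      rw [← jq_comp_eps, ← jq_comp_eps, hξa, hξb, Category.assoc, Category.assoc, hab]
    have h2 : (yon S').map (ofStrι σ') ≫ a = (yon S').map (ofStrι σ') ≫ b := by
      rw [← hξa, ← hξb, h1]
    have h3 := congrArg (fun z => (yon S').map (ofStrInv σ') ≫ z) h2
    simp only [← Category.assoc, ← (yon S').map_comp, ofStrInv_ι, (yon S').map_id,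
      Category.id_comp] at h3
    exact h3
  · intro T' ζ'
    obtain ⟨σ', hσ'⟩ := (yon S').map_surjective (ζ' ≫ p)
    let ζ'' : (yon S').obj ((Over.map g).obj (ofStr σ')) ⟶ F' := (yon S').map (ofStrι σ') ≫ ζ'
    let ζ₀ : (yon S).obj (ofStr σ') ⟶ (jinv g).obj F' :=
      eta g (𝟙 ((Over.map g).obj (ofStr σ'))) ≫ (jinv g).map ζ''
    have hζ₀ : adj g ζ₀ = ζ'' := by
      rw [adj_eta_comp, (yon S').map_id, Category.id_comp]
    have h1 : ζ₀ ≫ (jinv g).map p = cpt ((yon S).obj (ofStr σ')) := by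
      apply adj_injective g
      rw [← adj_comp, hζ₀, cpt_yon, adj_eta, Category.assoc, ← hσ', ← (yon S').map_comp,
        ofStrι_comp]
    obtain ⟨ζ₁, hζ₁⟩ := exists_fib_lift g p ζ₀ h1
    refine ⟨(yon S').map (ofStrInv σ') ≫ jq (g := g) ζ₁, ?_⟩
    rw [Category.assoc, jq_comp_eps, hζ₁, hζ₀, ← Category.assoc, ← (yon S').map_comp, ofStrInv_ι,
      (yon S').map_id, Category.id_comp]

end Ess

section Equiv

variable (g)

/-- `j_!` as a functor from algebraic spaces over `S` to algebraic spaces over `S'` over `h_S`. -/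
noncomputable def Phi : Space S ⥤ Over ((ofScheme S').obj (Over.mk g)) where
  obj F := Over.mk (Y := (⟨(jsh g).obj F.obj, isAlgSpace_jsh F.property⟩ : Space S'))
    (ObjectProperty.homMk (strF (g := g) F.obj))
  map {F G} m := Over.homMk (ObjectProperty.homMk ((jsh g).map m.hom)) (by
    apply ObjectProperty.hom_ext
    exact jsh_map_comp_strF (g := g) m.hom)
  map_id F := by
    apply Over.OverMorphism.ext
    apply ObjectProperty.hom_ext
    exact (jsh g).map_id F.obj
  map_comp {F G H} m n := by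
    apply Over.OverMorphism.ext
    apply ObjectProperty.hom_ext
    exact (jsh g).map_comp m.hom n.hom

instance : (Phi g).Faithful where
  map_injective {F G} m₁ m₂ h := by
    apply ObjectProperty.hom_ext
    apply jsh_map_injective (g := g) G.property
    have h1 := congrArg (fun z => z.left.hom) h
    exact h1

instance : (Phi g).Full where
  map_surjective {F G} m' := by
    have hm' : m'.left.hom ≫ strF (g := g) G.obj = strF F.obj := by
      have := Over.w m'
      exact congrArg (fun z => z.hom) this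
    obtain ⟨m, hm⟩ := jsh_map_surjective (g := g) F.property G.property m'.left.hom hm'
    refine ⟨ObjectProperty.homMk m, ?_⟩
    apply Over.OverMorphism.ext
    apply ObjectProperty.hom_ext
    exact hm

instance : (Phi g).EssSurj where
  mem_essImage Y := by
    let p : Y.left.obj ⟶ (yon S').obj (Over.mk g) := Y.hom.hom
    have hF' : IsAlgSpace Y.left.obj := Y.left.property
    haveI := isIso_eps g p hF'
    let F : Space S := ⟨fib g p, isAlgSpace_fib g p hF'⟩
    let e : ((Phi g).obj F).left ≅ Y.left := ObjectProperty.isoMk _ (asIso (eps g p))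
    refine ⟨F, ⟨Over.isoMk e ?_⟩⟩
    apply ObjectProperty.hom_ext
    exact eps_comp g p

instance : (Phi g).IsEquivalence where

/-- Algebraic spaces over `S` are algebraic spaces over `S'` with a map to `h_S`. -/
theorem exists_equivalence_space_over :
    ∃ E : Space S ≌ Over ((ofScheme S').obj (Over.mk g)),
      Nonempty (E.functor ⋙ Over.forget _ ⋙ ObjectProperty.ι (IsAlgSpace (S := S')) ≅
        ObjectProperty.ι (IsAlgSpace (S := S)) ⋙ jsh g) :=
  ⟨(Phi g).asEquivalence, ⟨NatIso.ofComponents (fun F => Iso.refl _) (by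
    intro F G m
    simp only [Iso.refl_hom, Category.comp_id, Category.id_comp]
    rfl)⟩⟩

end Equiv

end Groth.Agent.Helper15.BaseChg
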