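import Mathlib
import Groth.Prelude
import Groth.Agent.Lib.Helper15.GenFin12
import Groth.Agent.Lib.Helper15.DecentCodim
import Groth.Agent.Lib.Helper15.SoberDecent

/-!
# Birational morphisms of decent spaces: generic points
-/

set_option autoImplicit false
universe u
open CategoryTheory CategoryTheory.Limits AlgebraicGeometry MorphismProperty Opposite
open AlgSp Groth.Agent.Helper16.AS

namespace Groth.Agent.Helper15.Bir

open Groth.Agent.Helper15 Groth.Agent.Helper15.Strat Groth.Agent.Helper15.Norm
  Groth.Agent.Helper15.MaxPts

variable {S : Scheme.{u}}

/-- In a space with finitely many irreducible components, a dense open subset contains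
every generic point of an irreducible component. -/
theorem mem_of_dense_of_isOpen_of_mem_genericPoints {α : Type*} [TopologicalSpace α]
    (hfin : (irreducibleComponents α).Finite) {O : Set α} (hO : IsOpen O) (hd : Dense O)
    {x : α} (hx : x ∈ genericPoints α) : x ∈ O := by
  set Z : Set α := closure {x} with hZ
  have hZc : Z ∈ irreducibleComponents α := hx
  have hcl := closure_sUnion_irreducibleComponents_sdiff_singleton hfin Z hZc
  have hofin : (irreducibleComponents α \ {Z}).Finite := hfin.subset Set.sdiff_subset
  have hclosed : IsClosed (⋃₀ (irreducibleComponents α \ {Z})) := by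
    rw [Set.sUnion_eq_biUnion]
    refine hofin.isClosed_biUnion ?_
    intro T hT
    exact isClosed_of_mem_irreducibleComponents T hT.1
  have hne : (⋃₀ (irreducibleComponents α \ {Z}))ᶜ.Nonempty := by
    by_contra hcon
    rw [Set.not_nonempty_iff_eq_empty] at hcon
    rw [hcon, closure_empty] at hcl
    have : x ∈ Z := subset_closure rfl
    rw [← hcl] at this
    exact this
  obtain ⟨o, ho1, ho2⟩ := hd.inter_open_nonempty _ hclosed.isOpen_compl hne
  have hoZ : o ∈ Z := by
    rw [← hcl]
    exact subset_closure ho1
  have hsp : x ⤳ o := specializes_iff_mem_closure.2 hoZ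
  exact hsp.mem_open hO ho2

/-- For a decent algebraic space, the generic points of irreducible components are the
points of codimension zero. -/
theorem mem_genericPoints_iff {X : Sp S} (hXa : IsAlgSpace X) (hX : IsDecent X)
    (x : Points X) :
    x ∈ genericPoints (Points X) ↔
      HasAt (fun U u => ringKrullDim ↥(U.presheaf.stalk u) = 0) X x := by
  rw [← DecentCodim.exists_component_iff_hasAt hXa hX x]
  constructor
  · intro h
    exact ⟨_, h, rfl⟩
  · rintro ⟨T, hT, hg⟩
    have : closure {x} = T := hg
    change closure {x} ∈ irreducibleComponents (Points X)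
    rw [this]
    exact hT

theorem finite_c0 {X : Sp S} (hXa : IsAlgSpace X) (hX : IsDecent X)
    (hXf : (irreducibleComponents (Points X)).Finite) :
    {x : Points X | HasAt (fun U u => ringKrullDim ↥(U.presheaf.stalk u) = 0) X x}.Finite := by
  haveI := t0Space_points_of_isDecent hXa hX
  refine (genericPoints.finite hXf).subset ?_
  intro x hx
  exact (mem_genericPoints_iff hXa hX x).2 hx

/-- A set of points containing all points of codimension zero is dense. -/
theorem dense_of_c0_subset {X : Sp S} (hXa : IsAlgSpace X) {A : Set (Points X)}
    (h : ∀ x : Points X, HasAt (fun U u => ringKrullDim ↥(U.presheaf.stalk u) = 0) X x → x ∈ A) :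
    Dense A :=
  (dense_codimZero_points hXa).mono h

/-- A dense open subset of the points of a decent space with finitely many irreducible
components contains all points of codimension zero. -/
theorem c0_mem_of_dense_of_isOpen {X : Sp S} (hXa : IsAlgSpace X) (hX : IsDecent X)
    (hXf : (irreducibleComponents (Points X)).Finite) {O : Set (Points X)} (hO : IsOpen O)
    (hd : Dense O) {x : Points X}
    (hx : HasAt (fun U u => ringKrullDim ↥(U.presheaf.stalk u) = 0) X x) : x ∈ O :=
  mem_of_dense_of_isOpen_of_mem_genericPoints hXf hO hd ((mem_genericPoints_iff hXa hX x).2 hx)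

end Groth.Agent.Helper15.Bir
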