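import Mathlib
import Groth.Prelude
import Groth.Agent.Lib.Helper15.Bir1

/-!
# Birational morphisms: quasi-finiteness at a generization forces equality in a fibre
-/

set_option autoImplicit false
universe u
open CategoryTheory CategoryTheory.Limits AlgebraicGeometry MorphismProperty Opposite

namespace Groth.Agent.Helper15.Bir

section Alg

variable {R S : Type*} [CommRing R] [CommRing S] [Algebra R S]

/-- If `S` is quasi-finite over `R` at the prime `P`, then every element of `S ⧸ P` is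
algebraic over `R ⧸ (P ∩ R)`. -/
theorem isAlgebraic_quotient_of_quasiFiniteAt (P : Ideal S) [P.IsPrime]
    [Algebra.QuasiFiniteAt R P] (x : S ⧸ P) :
    IsAlgebraic (R ⧸ P.comap (algebraMap R S)) x := by
  set p : Ideal R := P.comap (algebraMap R S) with hp
  haveI : p.IsPrime := Ideal.comap_isPrime _ _
  haveI : P.LiesOver p := ⟨rfl⟩
  letI := Localization.AtPrime.algebraOfLiesOver p P
  haveI : Module.Finite p.ResidueField P.ResidueField := inferInstance
  haveI : Algebra.IsAlgebraic p.ResidueField P.ResidueField := Algebra.IsAlgebraic.of_finite _ _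
  letI alg : Algebra (R ⧸ p) P.ResidueField :=
    ((algebraMap p.ResidueField P.ResidueField).comp (algebraMap (R ⧸ p) p.ResidueField)).toAlgebra
  haveI : IsScalarTower (R ⧸ p) p.ResidueField P.ResidueField := .of_algebraMap_eq' rfl
  haveI : IsScalarTower (R ⧸ p) (S ⧸ P) P.ResidueField := by
    refine .of_algebraMap_eq ?_
    intro r
    obtain ⟨r, rfl⟩ := Ideal.Quotient.mk_surjective r
    change algebraMap p.ResidueField P.ResidueField (algebraMap (R ⧸ p) p.ResidueField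
      (Ideal.Quotient.mk p r)) = algebraMap (S ⧸ P) P.ResidueField
        (algebraMap (R ⧸ p) (S ⧸ P) (Ideal.Quotient.mk p r))
    rw [Ideal.algebraMap_quotient_residueField_mk]
    change _ = algebraMap (S ⧸ P) P.ResidueField (Ideal.Quotient.mk P (algebraMap R S r))
    rw [Ideal.algebraMap_quotient_residueField_mk]
    rw [← IsScalarTower.algebraMap_apply R p.ResidueField P.ResidueField,
      ← IsScalarTower.algebraMap_apply R S P.ResidueField]
  have h1 : IsAlgebraic p.ResidueField (algebraMap (S ⧸ P) P.ResidueField x) :=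
    Algebra.IsAlgebraic.isAlgebraic _
  have h2 : IsAlgebraic (R ⧸ p) (algebraMap (S ⧸ P) P.ResidueField x) :=
    (IsFractionRing.isAlgebraic_iff (R ⧸ p) p.ResidueField P.ResidueField).2 h1
  exact (isAlgebraic_algebraMap_iff P.injective_algebraMap_quotient_residueField).1 h2

/-- If `P ≤ Q` are primes of `S` over the same prime of `R` and `S` is quasi-finite over `R`
at the smaller prime `P`, then `P = Q`. -/
theorem eq_of_le_of_comap_eq_of_quasiFiniteAt {P Q : Ideal S} [P.IsPrime] [Q.IsPrime]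
    (h₁ : P ≤ Q) (h₂ : P.comap (algebraMap R S) = Q.comap (algebraMap R S))
    [Algebra.QuasiFiniteAt R P] : P = Q := by
  by_contra hne
  obtain ⟨s, hsQ, hsP⟩ : ∃ s, s ∈ Q ∧ s ∉ P := by
    by_contra hcon
    refine hne (le_antisymm h₁ ?_)
    intro s hs
    by_contra hsP
    exact hcon ⟨s, hs, hsP⟩
  have hx0 : (Ideal.Quotient.mk P s) ≠ 0 := by
    rwa [Ne, Ideal.Quotient.eq_zero_iff_mem]
  have hxmem : Ideal.Quotient.mk P s ∈ Q.map (Ideal.Quotient.mk P) := Ideal.mem_map_of_mem _ hsQ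
  have halg := isAlgebraic_quotient_of_quasiFiniteAt (R := R) P (Ideal.Quotient.mk P s)
  have hne' := Ideal.comap_ne_bot_of_algebraic_mem hx0 hxmem halg
  apply hne'
  rw [eq_bot_iff]
  intro r hr
  obtain ⟨r, rfl⟩ := Ideal.Quotient.mk_surjective r
  rw [Ideal.mem_comap] at hr
  change Ideal.Quotient.mk P (algebraMap R S r) ∈ _ at hr
  rw [Ideal.mem_quotient_iff_mem h₁] at hr
  have : r ∈ Q.comap (algebraMap R S) := hr
  rw [← h₂] at this
  rw [Ideal.mem_bot, Ideal.Quotient.eq_zero_iff_mem]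
  exact this

end Alg

end Groth.Agent.Helper15.Bir

namespace Groth.Agent.Helper15.Bir

/-- If `w₀` specializes to `w` in the same fibre of `h` and `h` is quasi-finite at `w₀`,
then `w₀ = w`. -/
theorem eq_of_specializes_of_quasiFiniteAt {W V : Scheme.{u}} (h : W ⟶ V) {w₀ w : W}
    (hs : w₀ ⤳ w) (he : h w₀ = h w) (hq : h.QuasiFiniteAt w₀) : w₀ = w := by
  obtain ⟨_, ⟨V₀, hV₀, rfl⟩, hvV₀, -⟩ :=
    V.isBasis_affineOpens.exists_subset_of_mem_open (Set.mem_univ (h w)) isOpen_univ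
  obtain ⟨_, ⟨W₀, hW₀, rfl⟩, hwW₀, hle⟩ :=
    W.isBasis_affineOpens.exists_subset_of_mem_open (show w ∈ (h ⁻¹ᵁ V₀ : Set W) from hvV₀)
      (h ⁻¹ᵁ V₀).isOpen
  have hw₀W₀ : w₀ ∈ W₀ := hs.mem_open W₀.isOpen hwW₀
  have hle' : W₀ ≤ h ⁻¹ᵁ V₀ := hle
  have hqf := hq.quasiFiniteAt hW₀ hV₀ hle' hw₀W₀
  algebraize [(h.appLE V₀ W₀ hle').hom]
  set P := (hW₀.primeIdealOf ⟨w₀, hw₀W₀⟩).asIdeal with hP
  set Q := (hW₀.primeIdealOf ⟨w, hwW₀⟩).asIdeal with hQ
  haveI : Algebra.QuasiFiniteAt Γ(V, V₀) P := hqf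
  have hPQ : P ≤ Q := by
    have h1 : (⟨w₀, hw₀W₀⟩ : W₀) ⤳ ⟨w, hwW₀⟩ := (subtype_specializes_iff _ _).2 hs
    have h2 : hW₀.primeIdealOf ⟨w₀, hw₀W₀⟩ ⤳ hW₀.primeIdealOf ⟨w, hwW₀⟩ :=
      h1.map hW₀.isoSpec.hom.continuous
    exact (PrimeSpectrum.le_iff_specializes _ _).2 h2
  have hc1 := IsAffineOpen.comap_primeIdealOf_appLE V₀ hV₀ W₀ hW₀ hle' hw₀W₀
  have hc2 := IsAffineOpen.comap_primeIdealOf_appLE V₀ hV₀ W₀ hW₀ hle' hwW₀
  have hcomap : P.comap (algebraMap Γ(V, V₀) Γ(W, W₀)) = Q.comap (algebraMap Γ(V, V₀) Γ(W, W₀)) := by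
    have e1 := congrArg PrimeSpectrum.asIdeal hc1
    have e2 := congrArg PrimeSpectrum.asIdeal hc2
    have e3 : (hV₀.primeIdealOf ⟨h w₀, hle' hw₀W₀⟩) = hV₀.primeIdealOf ⟨h w, hle' hwW₀⟩ := by
      congr 1
      exact Subtype.ext he
    rw [e3] at e1
    exact e1.trans e2.symm
  have hPQeq : P = Q := eq_of_le_of_comap_eq_of_quasiFiniteAt hPQ hcomap
  have h3 : hW₀.primeIdealOf ⟨w₀, hw₀W₀⟩ = hW₀.primeIdealOf ⟨w, hwW₀⟩ := PrimeSpectrum.ext hPQeq
  have h4 := hW₀.fromSpec_primeIdealOf ⟨w₀, hw₀W₀⟩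
  have h5 := hW₀.fromSpec_primeIdealOf ⟨w, hwW₀⟩
  rw [h3] at h4
  exact h4.symm.trans h5

end Groth.Agent.Helper15.Bir
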