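import Mathlib
import Groth.Prelude
import Groth.Agent.Lib.Helper15.Bir2
import Groth.Agent.Lib.Helper15.AlgSpGlue
import Groth.Agent.Lib.Helper15.AlgSpDescent

/-!
# Birational morphisms of decent spaces: points over generic points are generic
-/

set_option autoImplicit false
universe u
open CategoryTheory CategoryTheory.Limits AlgebraicGeometry MorphismProperty Opposite
open AlgSp Groth.Agent.Helper16.AS

namespace Groth.Agent.Helper15.Bir

open Groth.Agent.Helper15 Groth.Agent.Helper15.Strat Groth.Agent.Helper15.Norm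
  Groth.Agent.Helper15.MaxPts Groth.Agent.Helper15.GenFin

variable {S : Scheme.{u}}

/-- The chart of the target of a birational chart datum hits a maximal point. -/
theorem chart_target_mem_maxPts {X Y : Sp S} (hY : IsAlgSpace Y) (hYd : IsDecent Y)
    (f : X ⟶ Y) {U V₁ : Over S} (a : (yon S).obj U ⟶ X) (b : (yon S).obj V₁ ⟶ Y) (g : U ⟶ V₁)
    (hb : RepWith @IsOpenImmersion b) (comm : a ≫ f = (yon S).map g ≫ b) (u : U.left)
    (hy : Points.map f (Points.ofPt a u) ∈ genericPoints (Points Y)) :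
    g.left u ∈ maxPts V₁.left := by
  have hbe : RepWith @Etale b := repWith_mono isOpenImmersion_le_etale hb
  rw [← hasAt_c0_chart_iff b hbe, ← ofPt_comp_yon_map, ← comm, ← Points.map_ofPt]
  exact (mem_genericPoints_iff hY hYd _).1 hy

/-- For a birational morphism of decent spaces, every point lying over a generic point of
the target is a generic point of the source. -/
theorem c0_of_map_c0 {X Y : Sp S} (hX : IsAlgSpace X) (hY : IsAlgSpace Y) (hXd : IsDecent X)
    (hYd : IsDecent Y) (f : X ⟶ Y) (hf : W4stk3decentspacesp2.IsBirational f) (x' : Points X)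
    (h : HasAt (fun U u => ringKrullDim ↥(U.presheaf.stalk u) = 0) Y (Points.map f x')) :
    HasAt (fun U u => ringKrullDim ↥(U.presheaf.stalk u) = 0) X x' := by
  have hy : Points.map f x' ∈ genericPoints (Points Y) := (mem_genericPoints_iff hY hYd _).2 h
  obtain ⟨x₀, hx₀, hx₀y⟩ := hf.bijOn.surjOn hy
  obtain ⟨U, V₁, a, b, g, u, ha, hb, comm, hu, hiso⟩ := hf.stalkIso x₀ hx₀
  haveI := hiso
  have hbe : RepWith @Etale b := repWith_mono isOpenImmersion_le_etale hb
  have hae : RepWith @Etale a := repWith_mono isOpenImmersion_le_etale ha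
  haveI : Mono b := mono_of_repWith_isOpenImmersion b hb
  obtain ⟨W, p, hpe, hps⟩ := hX.atlas
  obtain ⟨w, rfl⟩ := surjective_ofPt p hps x'
  -- `W₁ = W ×_Y V₁`
  have sq1 := hb.rep.isPullback' (p ≫ f)
  set W₁ := hb.rep.pullback (p ≫ f) with hW₁
  set h₁ : W₁ ⟶ V₁ := hb.rep.fst' (p ≫ f) with hh₁
  set j : W₁ ⟶ W := hb.rep.snd (p ≫ f) with hj
  haveI hjo : IsOpenImmersion j.left := hb.property_snd (p ≫ f)
  have hpt : Points.ofPt b (g.left u) = Points.ofPt (p ≫ f) w := by
    rw [← ofPt_comp_yon_map, ← comm, ← Points.map_ofPt, ← Points.map_ofPt, hu, hx₀y]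
  obtain ⟨w₁, hw₁v, hw₁w⟩ := exists_of_ofPt_eq sq1 (g.left u) w hpt
  have hv₁max : g.left u ∈ maxPts V₁.left := by
    refine chart_target_mem_maxPts hY hYd f a b g hb comm u ?_
    rw [hu, hx₀y]
    exact hy
  obtain ⟨w₀, hw₀max, hw₀sp, hw₀v⟩ :=
    exists_maxPts_map_eq h₁.left.continuous w₁ (by rw [hw₁v]; exact hv₁max)
  rw [hw₁v] at hw₀v
  -- the étale chart `W₁ → X`
  have hq : RepWith @Etale ((yon S).map j ≫ p) :=
    (RepWith @Etale).comp_mem _ _ ((repWith_yon_map_iff _ _).2 (inferInstance : Etale j.left)) hpe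
  have hw₀c0 : HasAt (fun U u => ringKrullDim ↥(U.presheaf.stalk u) = 0) X
      (Points.ofPt ((yon S).map j ≫ p) w₀) := (hasAt_c0_chart_iff _ hq w₀).2 hw₀max
  have hw₀gen : Points.ofPt ((yon S).map j ≫ p) w₀ ∈ genericPoints (Points X) :=
    (mem_genericPoints_iff hX hXd _).2 hw₀c0
  have hw₀f : Points.map f (Points.ofPt ((yon S).map j ≫ p) w₀) = Points.map f x₀ := by
    rw [Points.map_ofPt, Category.assoc, ← sq1.w, ofPt_comp_yon_map, hw₀v, hx₀y, hpt,
      Points.map_ofPt]
  have hw₀x₀ : Points.ofPt a u = Points.ofPt ((yon S).map j ≫ p) w₀ := by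
    rw [hu]
    exact (hf.bijOn.injOn hw₀gen hx₀ hw₀f).symm
  -- `U₁ = U ×_X W₁`
  have sq2 := ha.rep.isPullback' ((yon S).map j ≫ p)
  set U₁ := ha.rep.pullback ((yon S).map j ≫ p) with hU₁
  set e' : U₁ ⟶ U := ha.rep.fst' ((yon S).map j ≫ p) with he'
  set k : U₁ ⟶ W₁ := ha.rep.snd ((yon S).map j ≫ p) with hk
  haveI hko : IsOpenImmersion k.left := ha.property_snd ((yon S).map j ≫ p)
  haveI hee : Etale e'.left := hq.property a _ _ sq2.flip
  obtain ⟨u₁, hu₁u, hu₁w⟩ := exists_of_ofPt_eq sq2 u w₀ hw₀x₀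
  have hcomm : e' ≫ g = k ≫ h₁ := by
    apply (yon S).map_injective
    rw [← cancel_mono b, Functor.map_comp, Functor.map_comp, Category.assoc, Category.assoc,
      ← comm, sq1.w, ← Category.assoc, sq2.w]
    simp only [Category.assoc]
  have hcomm' : e'.left ≫ g.left = k.left ≫ h₁.left := by
    have := congrArg (fun φ => φ.left) hcomm
    simpa using this
  -- quasi-finiteness at `w₀`
  have hqf : h₁.left.QuasiFiniteAt w₀ := by
    rw [← hu₁w, ← Scheme.Hom.quasiFiniteAt_comp_iff_of_isOpenImmersion (f := k.left), ← hcomm']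
    haveI : LocallyQuasiFinite e'.left := locallyQuasiFinite_of_etale _
    have h1 : e'.left.QuasiFiniteAt u₁ := Scheme.Hom.quasiFiniteAt _ u₁
    have h2 : (g.left.stalkMap (e'.left u₁)).hom.QuasiFinite := by
      rw [hu₁u]
      exact RingHom.QuasiFinite.of_finite
        (RingHom.Finite.of_surjective _ (ConcreteCategory.bijective_of_isIso
          (g.left.stalkMap u)).surjective)
    simp only [Scheme.Hom.QuasiFiniteAt, Scheme.Hom.stalkMap_comp]
    exact RingHom.QuasiFinite.comp h1 h2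
  have hw₀w₁ : w₀ = w₁ :=
    eq_of_specializes_of_quasiFiniteAt h₁.left hw₀sp (by rw [hw₀v, hw₁v]) hqf
  have : Points.ofPt p w = Points.ofPt ((yon S).map j ≫ p) w₀ := by
    rw [ofPt_comp_yon_map, hw₀w₁, hw₁w]
  rw [this]
  exact hw₀c0

end Groth.Agent.Helper15.Bir
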