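import Mathlib
import Groth.Prelude
import Groth.Agent.Lib.Helper15.Bir3

/-!
# Birational morphisms: spreading out an isomorphism of local rings for a finite algebra
-/

set_option autoImplicit false
universe u
open CategoryTheory CategoryTheory.Limits AlgebraicGeometry MorphismProperty Opposite

namespace Groth.Agent.Helper15.Bir

section Alg2

variable {A B : Type u} [CommRing A] [CommRing B] [Algebra A B]

/-- If `q` is the only prime of the integral `A`-algebra `B` over `p = q ∩ A`, then every
element outside `q` divides the image of an element outside `p`. -/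
theorem exists_mul_eq_algebraMap [Algebra.IsIntegral A B] (q : Ideal B) [q.IsPrime]
    (huniq : ∀ q' : Ideal B, q'.IsPrime →
      q'.comap (algebraMap A B) = q.comap (algebraMap A B) → q' = q)
    (t : B) (ht : t ∉ q) :
    ∃ s : A, s ∉ q.comap (algebraMap A B) ∧ ∃ b' : B, algebraMap A B s = t * b' := by
  by_contra hcon
  have hle : (Ideal.span {t}).comap (algebraMap A B) ≤ q.comap (algebraMap A B) := by
    intro s hs
    by_contra hsp
    apply hcon
    rw [Ideal.mem_comap, Ideal.mem_span_singleton'] at hs
    obtain ⟨b', hb'⟩ := hs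
    exact ⟨s, hsp, b', by rw [← hb', mul_comm]⟩
  haveI : (q.comap (algebraMap A B)).IsPrime := Ideal.comap_isPrime _ _
  obtain ⟨Q, hQge, hQp, hQc⟩ :=
    Ideal.exists_ideal_over_prime_of_isIntegral (q.comap (algebraMap A B)) (Ideal.span {t}) hle
  have := huniq Q hQp hQc
  apply ht
  rw [← this]
  exact hQge (Ideal.mem_span_singleton_self t)

/-- Under the uniqueness of the prime over `p`, the local ring `B_q` is the localization of
the `A`-module `B` at `p`. -/
theorem isLocalizedModule_atPrime [Algebra.IsIntegral A B] (q : Ideal B) [q.IsPrime]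
    (huniq : ∀ q' : Ideal B, q'.IsPrime →
      q'.comap (algebraMap A B) = q.comap (algebraMap A B) → q' = q) :
    haveI : (q.comap (algebraMap A B)).IsPrime := Ideal.comap_isPrime _ _
    IsLocalizedModule (q.comap (algebraMap A B)).primeCompl
      (IsScalarTower.toAlgHom A B (Localization.AtPrime q)).toLinearMap := by
  haveI : (q.comap (algebraMap A B)).IsPrime := Ideal.comap_isPrime _ _
  rw [isLocalizedModule_iff_isLocalization]
  have h₁ : Algebra.algebraMapSubmonoid B (q.comap (algebraMap A B)).primeCompl ≤ q.primeCompl := by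
    rintro _ ⟨s, hs, rfl⟩
    exact hs
  have h₂ : ∀ n ∈ q.primeCompl,
      ∃ m ∈ Algebra.algebraMapSubmonoid B (q.comap (algebraMap A B)).primeCompl, n ∣ m := by
    intro t ht
    obtain ⟨s, hs, b', hb'⟩ := exists_mul_eq_algebraMap q huniq t ht
    exact ⟨algebraMap A B s, ⟨s, hs, rfl⟩, ⟨b', hb'⟩⟩
  exact (IsLocalization.iff_of_le_of_exists_dvd _ _ h₁ h₂).2 inferInstance

/-- The map on localized modules induced by `A → B` is the local ring homomorphism. -/
theorem bijective_map_of_bijective_localRingHom [Algebra.IsIntegral A B] (q : Ideal B) [q.IsPrime]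
    (huniq : ∀ q' : Ideal B, q'.IsPrime →
      q'.comap (algebraMap A B) = q.comap (algebraMap A B) → q' = q)
    (hbij : haveI : (q.comap (algebraMap A B)).IsPrime := Ideal.comap_isPrime _ _
      Function.Bijective (Localization.localRingHom (q.comap (algebraMap A B)) q
        (algebraMap A B) rfl)) :
    haveI : (q.comap (algebraMap A B)).IsPrime := Ideal.comap_isPrime _ _
    haveI := isLocalizedModule_atPrime q huniq
    Function.Bijective (IsLocalizedModule.map (q.comap (algebraMap A B)).primeCompl
      (Algebra.linearMap A (Localization.AtPrime (q.comap (algebraMap A B))))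
      (IsScalarTower.toAlgHom A B (Localization.AtPrime q)).toLinearMap
      (Algebra.linearMap A B)) := by
  haveI : (q.comap (algebraMap A B)).IsPrime := Ideal.comap_isPrime _ _
  haveI := isLocalizedModule_atPrime q huniq
  set p := q.comap (algebraMap A B) with hp
  let ψ : Localization.AtPrime p →ₗ[A] Localization.AtPrime q :=
    { toFun := Localization.localRingHom p q (algebraMap A B) rfl
      map_add' := fun x y => map_add _ x y
      map_smul' := fun a x => by
        simp only [RingHom.id_apply]
        rw [Algebra.smul_def, map_mul, Localization.localRingHom_to_map, Algebra.smul_def,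
          IsScalarTower.algebraMap_apply A B (Localization.AtPrime q)] }
  have hψ : IsLocalizedModule.map p.primeCompl
      (Algebra.linearMap A (Localization.AtPrime p))
      (IsScalarTower.toAlgHom A B (Localization.AtPrime q)).toLinearMap
      (Algebra.linearMap A B) = ψ := by
    apply IsLocalizedModule.ext p.primeCompl (Algebra.linearMap A (Localization.AtPrime p))
      (IsLocalizedModule.map_units (IsScalarTower.toAlgHom A B (Localization.AtPrime q)).toLinearMap)
    rw [IsLocalizedModule.map_comp]
    ext
    simp [ψ]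
  rw [hψ]
  exact hbij

/-- Spreading out, finitely presented case. -/
theorem exists_away_of_finitePresentation [Module.Finite A B] [Module.FinitePresentation A B]
    (q : Ideal B) [q.IsPrime]
    (huniq : ∀ q' : Ideal B, q'.IsPrime →
      q'.comap (algebraMap A B) = q.comap (algebraMap A B) → q' = q)
    (hbij : haveI : (q.comap (algebraMap A B)).IsPrime := Ideal.comap_isPrime _ _
      Function.Bijective (Localization.localRingHom (q.comap (algebraMap A B)) q
        (algebraMap A B) rfl)) :
    ∃ r : A, r ∉ q.comap (algebraMap A B) ∧ (∀ a, algebraMap A B a = 0 → ∃ n, r ^ n * a = 0) ∧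
      (∀ b, ∃ a m, algebraMap A B a = algebraMap A B r ^ m * b) := by
  haveI : (q.comap (algebraMap A B)).IsPrime := Ideal.comap_isPrime _ _
  haveI := isLocalizedModule_atPrime q huniq
  have hb := bijective_map_of_bijective_localRingHom q huniq hbij
  obtain ⟨r, hr, hrb⟩ := Module.FinitePresentation.exists_notMem_bijective
    (Algebra.linearMap A B) (q.comap (algebraMap A B))
    (Algebra.linearMap A (Localization.AtPrime (q.comap (algebraMap A B))))
    (IsScalarTower.toAlgHom A B (Localization.AtPrime q)).toLinearMap hb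
  refine ⟨r, hr, ?_, ?_⟩
  · intro a ha
    have h1 : LocalizedModule.map (Submonoid.powers r) (Algebra.linearMap A B)
        (LocalizedModule.mk a 1) = LocalizedModule.map (Submonoid.powers r)
          (Algebra.linearMap A B) (LocalizedModule.mk 0 1) := by
      rw [LocalizedModule.map_mk, LocalizedModule.map_mk, Algebra.linearMap_apply, ha, map_zero]
    have h2 := hrb.1 h1
    rw [LocalizedModule.mk_eq] at h2
    obtain ⟨⟨u, n, rfl⟩, hu⟩ := h2
    refine ⟨n, ?_⟩
    simpa [Submonoid.smul_def] using hu
  · intro b
    obtain ⟨x, hx⟩ := hrb.2 (LocalizedModule.mk b 1)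
    induction x using LocalizedModule.induction_on with
    | h a s =>
      rw [LocalizedModule.map_mk, LocalizedModule.mk_eq] at hx
      obtain ⟨⟨u, k, rfl⟩, hu⟩ := hx
      obtain ⟨s, m, rfl⟩ := s
      refine ⟨r ^ k * a, k + m, ?_⟩
      simp only [Submonoid.smul_def, one_smul, Algebra.linearMap_apply] at hu
      rw [map_mul, map_pow, pow_add, mul_assoc]
      simpa [Algebra.smul_def] using hu

/-- In a reduced ring with finitely many minimal primes, there is an element outside a given
minimal prime and inside all the others. -/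
theorem exists_mem_other_minimalPrimes (hmin : (minimalPrimes A).Finite) (p : Ideal A)
    (hp : p ∈ minimalPrimes A) :
    ∃ g : A, g ∉ p ∧ ∀ p' ∈ minimalPrimes A, p' ≠ p → g ∈ p' := by
  classical
  have hpp : p.IsPrime := hp.1.1
  by_contra hcon
  have hle : (hmin.toFinset.erase p).inf id ≤ p := by
    intro g hg
    by_contra hgp
    apply hcon
    refine ⟨g, hgp, ?_⟩
    intro p' hp' hne
    have h1 : (hmin.toFinset.erase p).inf id ≤ id p' :=
      Finset.inf_le (by simp [hp', hne])
    exact h1 hg
  obtain ⟨p', hp'T, hp'le⟩ := (Ideal.IsPrime.inf_le' hpp).1 hle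
  rw [Finset.mem_erase, Set.Finite.mem_toFinset] at hp'T
  have h2 : p ≤ p' := hp.2 ⟨hp'T.2.1.1, bot_le⟩ hp'le
  exact hp'T.1 (le_antisymm hp'le h2)

/-- Spreading out, reduced case. -/
theorem exists_away_of_isReduced [Module.Finite A B] [IsReduced A]
    (q : Ideal B) [q.IsPrime]
    (huniq : ∀ q' : Ideal B, q'.IsPrime →
      q'.comap (algebraMap A B) = q.comap (algebraMap A B) → q' = q)
    (hbij : haveI : (q.comap (algebraMap A B)).IsPrime := Ideal.comap_isPrime _ _
      Function.Bijective (Localization.localRingHom (q.comap (algebraMap A B)) q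
        (algebraMap A B) rfl))
    (hmin : (minimalPrimes A).Finite) (hp : q.comap (algebraMap A B) ∈ minimalPrimes A) :
    ∃ r : A, r ∉ q.comap (algebraMap A B) ∧ (∀ a, algebraMap A B a = 0 → ∃ n, r ^ n * a = 0) ∧
      (∀ b, ∃ a m, algebraMap A B a = algebraMap A B r ^ m * b) := by
  classical
  haveI hpp : (q.comap (algebraMap A B)).IsPrime := Ideal.comap_isPrime _ _
  set p := q.comap (algebraMap A B) with hpdef
  obtain ⟨g₁, hg₁p, hg₁⟩ := exists_mem_other_minimalPrimes hmin p hp
  -- kernel
  have hker : ∀ a, algebraMap A B a = 0 → g₁ * a = 0 := by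
    intro a ha
    have h1 : algebraMap A (Localization.AtPrime p) a = 0 := by
      apply hbij.1
      rw [Localization.localRingHom_to_map, ha, map_zero, map_zero]
    obtain ⟨s, hs⟩ := (IsLocalization.map_eq_zero_iff p.primeCompl _ a).1 h1
    have hap : a ∈ p := by
      have : (s : A) * a ∈ p := by rw [hs]; exact p.zero_mem
      exact (hpp.mem_or_mem this).resolve_left s.2
    have hnil : g₁ * a ∈ sInf (minimalPrimes A) := by
      rw [Ideal.mem_sInf]
      intro p' hp'
      by_cases hne : p' = p
      · rw [hne]; exact p.mul_mem_left _ hap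
      · exact p'.mul_mem_right _ (hg₁ p' hp' hne)
    have h0 : sInf (minimalPrimes A) = ⊥ := by
      change sInf (⊥ : Ideal A).minimalPrimes = ⊥
      rw [Ideal.sInf_minimalPrimes]
      exact nilradical_eq_zero A
    rw [h0] at hnil
    exact hnil
  -- cokernel
  have hcok1 : ∀ b : B, ∃ s : A, s ∉ p ∧ ∃ a, algebraMap A B a = algebraMap A B s * b := by
    intro b
    obtain ⟨x, hx⟩ := hbij.2 (algebraMap B (Localization.AtPrime q) b)
    obtain ⟨a, s, rfl⟩ := IsLocalization.exists_mk'_eq p.primeCompl x
    rw [Localization.localRingHom_mk'] at hx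
    rw [IsLocalization.mk'_eq_iff_eq_mul, ← map_mul, IsLocalization.eq_iff_exists q.primeCompl] at hx
    obtain ⟨t, ht⟩ := hx
    obtain ⟨s', hs', b', hb'⟩ := exists_mul_eq_algebraMap q huniq t.1 t.2
    refine ⟨s' * s, ?_, s' * a, ?_⟩
    · exact fun h => (hpp.mem_or_mem h).elim hs' s.2
    · rw [map_mul, map_mul, hb']
      have : (t : B) * algebraMap A B a = t * (b * algebraMap A B s) := ht
      calc (t : B) * b' * algebraMap A B a = b' * (t * algebraMap A B a) := by ring
        _ = b' * (t * (b * algebraMap A B s)) := by rw [this]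
        _ = (t : B) * b' * algebraMap A B s * b := by ring
  obtain ⟨σ, hσ⟩ := (Module.Finite.fg_top : (⊤ : Submodule A B).FG)
  choose sb hsbp ab hab using hcok1
  set g₂ : A := ∏ b ∈ σ, sb b with hg₂
  have hg₂p : g₂ ∉ p := by
    intro h
    obtain ⟨b, -, hb⟩ := (hpp.prod_mem_iff).1 h
    exact hsbp b hb
  have hcok : ∀ b : B, ∃ a, algebraMap A B a = algebraMap A B g₂ * b := by
    intro b
    have hb : b ∈ Submodule.span A (σ : Set B) := by rw [hσ]; trivial
    induction hb using Submodule.span_induction with
    | mem x hx =>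
      refine ⟨(∏ b ∈ σ.erase x, sb b) * ab x, ?_⟩
      rw [map_mul, hab x, ← mul_assoc, ← map_mul, Finset.prod_erase_mul σ sb hx]
    | zero => exact ⟨0, by simp⟩
    | add x y _ _ hx hy =>
      obtain ⟨a₁, h₁⟩ := hx
      obtain ⟨a₂, h₂⟩ := hy
      exact ⟨a₁ + a₂, by rw [map_add, h₁, h₂, mul_add]⟩
    | smul c x _ hx =>
      obtain ⟨a₁, h₁⟩ := hx
      exact ⟨c * a₁, by rw [map_mul, h₁, Algebra.smul_def]; ring⟩
  refine ⟨g₁ * g₂, fun h => (hpp.mem_or_mem h).elim hg₁p hg₂p, ?_, ?_⟩
  · intro a ha
    refine ⟨1, ?_⟩
    rw [pow_one, mul_comm g₁ g₂, mul_assoc, hker a ha, mul_zero]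
  · intro b
    obtain ⟨a, ha⟩ := hcok b
    refine ⟨g₁ * a, 1, ?_⟩
    rw [pow_one, map_mul, ha, map_mul, mul_assoc]

end Alg2

end Groth.Agent.Helper15.Bir
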