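import Mathlib
import Groth.Prelude
import Groth.Agent.Lib.Helper15.Bir4

/-!
# Birational finite morphisms of schemes are isomorphisms over a dense open
-/

set_option autoImplicit false
universe u
open CategoryTheory CategoryTheory.Limits AlgebraicGeometry MorphismProperty Opposite

namespace Groth.Agent.Helper15.Bir

open Groth.Agent.Helper15.MaxPts

/-- Birational morphisms of schemes: a bijection on maximal points inducing isomorphisms of
the local rings there. -/
structure SchBir {W V : Scheme.{u}} (i : W ⟶ V) : Prop where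
  bijOn : Set.BijOn i (maxPts W) (maxPts V)
  stalkIso : ∀ w ∈ maxPts W, IsIso (i.stalkMap w)

theorem quasiFiniteAt_of_isIso_stalkMap {W V : Scheme.{u}} (i : W ⟶ V) (w : W)
    [IsIso (i.stalkMap w)] : i.QuasiFiniteAt w :=
  RingHom.QuasiFinite.of_finite
    (RingHom.Finite.of_surjective _ (ConcreteCategory.bijective_of_isIso (i.stalkMap w)).surjective)

theorem SchBir.mem_maxPts_of_map_mem {W V : Scheme.{u}} {i : W ⟶ V} (hb : SchBir i) {w : W}
    (h : i w ∈ maxPts V) : w ∈ maxPts W := by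
  obtain ⟨w₀, hw₀, hsp, he⟩ := exists_maxPts_map_eq i.continuous w h
  haveI := hb.stalkIso w₀ hw₀
  have := eq_of_specializes_of_quasiFiniteAt i hsp he (quasiFiniteAt_of_isIso_stalkMap i w₀)
  rw [← this]
  exact hw₀

section Dict

variable {X : Scheme.{u}} {U : X.Opens} (hU : IsAffineOpen U)

include hU in
theorem exists_primeIdealOf_eq (p : PrimeSpectrum Γ(X, U)) : ∃ x : U, hU.primeIdealOf x = p := by
  refine ⟨hU.isoSpec.inv p, ?_⟩
  simp [IsAffineOpen.primeIdealOf]

include hU in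
theorem primeIdealOf_injective : Function.Injective hU.primeIdealOf := by
  intro x y hxy
  have h1 := hU.fromSpec_primeIdealOf x
  have h2 := hU.fromSpec_primeIdealOf y
  rw [hxy] at h1
  exact Subtype.ext (h1.symm.trans h2)

include hU in
theorem specializes_iff_primeIdealOf_le (x y : U) :
    x.1 ⤳ y.1 ↔ (hU.primeIdealOf x).asIdeal ≤ (hU.primeIdealOf y).asIdeal := by
  change _ ↔ hU.primeIdealOf x ≤ hU.primeIdealOf y
  rw [PrimeSpectrum.le_iff_specializes, ← subtype_specializes_iff]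
  constructor
  · intro h
    exact h.map hU.isoSpec.hom.continuous
  · intro h
    have h1 := h.map hU.isoSpec.inv.continuous
    have e : ∀ z : U, hU.isoSpec.inv (hU.primeIdealOf z) = z := fun z => by
      simp [IsAffineOpen.primeIdealOf]
    rw [e, e] at h1
    exact h1

include hU in
theorem mem_basicOpen_iff_notMem_primeIdealOf (x : U) (r : Γ(X, U)) :
    x.1 ∈ X.basicOpen r ↔ r ∉ (hU.primeIdealOf x).asIdeal := by
  rw [← PrimeSpectrum.mem_basicOpen]
  have h1 := hU.fromSpec_preimage_basicOpen r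
  have h2 := hU.fromSpec_primeIdealOf x
  constructor
  · intro h
    have : hU.primeIdealOf x ∈ hU.fromSpec ⁻¹ᵁ X.basicOpen r := by
      change hU.fromSpec (hU.primeIdealOf x) ∈ X.basicOpen r
      rw [h2]; exact h
    rw [h1] at this
    exact this
  · intro h
    have : hU.primeIdealOf x ∈ hU.fromSpec ⁻¹ᵁ X.basicOpen r := by
      rw [h1]; exact h
    have h3 : hU.fromSpec (hU.primeIdealOf x) ∈ X.basicOpen r := this
    rwa [h2] at h3

end Dict

/-- Maximal points of an affine scheme correspond to minimal primes. -/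
theorem primeIdealOf_mem_minimalPrimes (V : Scheme.{u}) [IsAffine V] (v : V) (hv : v ∈ maxPts V) :
    ((isAffineOpen_top V).primeIdealOf ⟨v, trivial⟩).asIdeal ∈ minimalPrimes Γ(V, ⊤) := by
  refine ⟨⟨((isAffineOpen_top V).primeIdealOf ⟨v, trivial⟩).isPrime, bot_le⟩, ?_⟩
  intro p' hp' hle
  obtain ⟨y, hy⟩ := exists_primeIdealOf_eq (isAffineOpen_top V) ⟨p', hp'.1⟩
  have h1 : (y : V) ⤳ v := by
    have := (specializes_iff_primeIdealOf_le (isAffineOpen_top V) y ⟨v, trivial⟩).2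
      (by rw [hy]; exact hle)
    exact this
  have h2 : v ⤳ (y : V) := hv _ h1
  have := (specializes_iff_primeIdealOf_le (isAffineOpen_top V) ⟨v, trivial⟩ y).1 h2
  rw [hy] at this
  exact this

theorem finite_minimalPrimes_of_finite_maxPts (V : Scheme.{u}) [IsAffine V]
    (h : (maxPts V).Finite) : (minimalPrimes Γ(V, ⊤)).Finite := by
  refine (h.image (fun v => ((isAffineOpen_top V).primeIdealOf ⟨v, trivial⟩).asIdeal)).subset ?_
  intro p' hp'
  obtain ⟨y, hy⟩ := exists_primeIdealOf_eq (isAffineOpen_top V) ⟨p', hp'.1.1⟩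
  refine ⟨y.1, ?_, ?_⟩
  · intro z hz
    have hz' : (⟨z, trivial⟩ : (⊤ : V.Opens)).1 ⤳ y.1 := hz
    have h1 := (specializes_iff_primeIdealOf_le (isAffineOpen_top V) ⟨z, trivial⟩ y).1 hz'
    rw [hy] at h1
    have h2 := hp'.2 ⟨((isAffineOpen_top V).primeIdealOf ⟨z, trivial⟩).isPrime, bot_le⟩ h1
    have h3 : y.1 ⤳ (⟨z, trivial⟩ : (⊤ : V.Opens)).1 :=
      (specializes_iff_primeIdealOf_le (isAffineOpen_top V) y ⟨z, trivial⟩).2
        (by rw [hy]; exact h2)
    exact h3
  · change ((isAffineOpen_top V).primeIdealOf ⟨y.1, trivial⟩).asIdeal = p'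
    have : (⟨y.1, trivial⟩ : (⊤ : V.Opens)) = y := Subtype.ext rfl
    rw [this, hy]

/-- Spreading out an isomorphism of local rings, both cases. -/
theorem exists_away {A B : Type u} [CommRing A] [CommRing B] [Algebra A B] [Module.Finite A B]
    (q : Ideal B) [q.IsPrime] (p : Ideal A) [p.IsPrime] (hpq : p = q.comap (algebraMap A B))
    (huniq : ∀ q' : Ideal B, q'.IsPrime → q'.comap (algebraMap A B) = p → q' = q)
    (hbij : Function.Bijective (Localization.localRingHom p q (algebraMap A B) hpq))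
    (h : Algebra.FinitePresentation A B ∨
      (IsReduced A ∧ (minimalPrimes A).Finite ∧ p ∈ minimalPrimes A)) :
    ∃ r : A, r ∉ p ∧ (∀ a, algebraMap A B a = 0 → ∃ n, r ^ n * a = 0) ∧
      (∀ b, ∃ a m, algebraMap A B a = algebraMap A B r ^ m * b) := by
  subst hpq
  rcases h with h | ⟨h1, h2, h3⟩
  · haveI := h
    haveI : Module.FinitePresentation A B :=
      Module.FinitePresentation.of_finite_of_finitePresentation A B
    exact exists_away_of_finitePresentation q huniq hbij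
  · haveI := h1
    exact exists_away_of_isReduced q huniq hbij h2 h3

/-- Transport of bijectivity of local ring homomorphisms along an equality of ring maps. -/
theorem bijective_localRingHom_congr {A B : Type u} [CommRing A] [CommRing B] (p : Ideal A)
    [p.IsPrime] (q : Ideal B) [q.IsPrime] (ψ φ : A →+* B) (hψ : ψ = φ) (hp : p = q.comap ψ)
    (hp' : p = q.comap φ) (h : Function.Bijective (Localization.localRingHom p q ψ hp)) :
    Function.Bijective (Localization.localRingHom p q φ hp') := by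
  subst hψ
  exact h

theorem isIso_restrict_basicOpen_of_away {W V : Scheme.{u}} (i : W ⟶ V) [IsAffineHom i]
    [IsAffine V] (r : Γ(V, ⊤))
    (hinj : ∀ a : Γ(V, ⊤), (i.app ⊤).hom a = 0 → ∃ n : ℕ, r ^ n * a = 0)
    (hsurj : ∀ b : Γ(W, i ⁻¹ᵁ ⊤), ∃ (a : Γ(V, ⊤)) (m : ℕ), (i.app ⊤).hom a = (i.app ⊤).hom r ^ m * b) :
    IsIso (i ∣_ V.basicOpen r) := by
  have hU : IsAffineOpen (⊤ : V.Opens) := isAffineOpen_top V
  have hW₀ : IsAffineOpen (i ⁻¹ᵁ ⊤) := hU.preimage i
  refine (isIso_morphismRestrict_iff_isIso_app (f := i) (hU.basicOpen r)).2 ?_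
  have e := hU.appBasicOpenIsoAwayMap i hW₀ r
  refine ((MorphismProperty.isomorphisms CommRingCat).arrow_mk_iso_iff e).2 ?_
  change IsIso _
  rw [ConcreteCategory.isIso_iff_bijective]
  haveI := hU.isLocalization_basicOpen r
  haveI := hW₀.isLocalization_basicOpen (i.app ⊤ r)
  exact ⟨(IsLocalization.Away.map_injective_iff _ _ _).2 hinj,
    (IsLocalization.Away.map_surjective_iff _ _ _ _).2 hsurj⟩

/-- A finite birational morphism to an affine scheme is an isomorphism over a basic open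
neighbourhood of each maximal point. -/
theorem exists_basicOpen_isIso {W V : Scheme.{u}} (i : W ⟶ V) [IsFinite i] [IsAffine V]
    (hb : SchBir i) (v : V) (hv : v ∈ maxPts V)
    (h : (IsReduced V ∧ (maxPts V).Finite) ∨ LocallyOfFinitePresentation i) :
    ∃ r : Γ(V, ⊤), v ∈ V.basicOpen r ∧ IsIso (i ∣_ V.basicOpen r) := by
  have hU : IsAffineOpen (⊤ : V.Opens) := isAffineOpen_top V
  have hW₀ : IsAffineOpen (i ⁻¹ᵁ ⊤) := hU.preimage i
  obtain ⟨w, hw, rfl⟩ := hb.bijOn.surjOn hv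
  have hwW₀ : w ∈ i ⁻¹ᵁ (⊤ : V.Opens) := trivial
  have hfin : (i.app ⊤).hom.Finite := IsFinite.finite_app i ⊤ hU
  algebraize [(i.app ⊤).hom]
  set q := (hW₀.primeIdealOf ⟨w, hwW₀⟩).asIdeal with hq
  set p := (hU.primeIdealOf ⟨i w, trivial⟩).asIdeal with hp
  have hcomapLE := IsAffineOpen.comap_primeIdealOf_appLE ⊤ hU (i ⁻¹ᵁ ⊤) hW₀ le_rfl hwW₀
  have hpq : p = q.comap (algebraMap Γ(V, ⊤) Γ(W, i ⁻¹ᵁ ⊤)) := by
    have := congrArg PrimeSpectrum.asIdeal hcomapLE
    rw [← Scheme.Hom.app_eq_appLE] at this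
    exact this.symm
  have huniq : ∀ q' : Ideal Γ(W, i ⁻¹ᵁ ⊤), q'.IsPrime →
      q'.comap (algebraMap Γ(V, ⊤) Γ(W, i ⁻¹ᵁ ⊤)) = p → q' = q := by
    intro q' hq' hqq'
    obtain ⟨x, hx⟩ := exists_primeIdealOf_eq hW₀ ⟨q', hq'⟩
    have hc := IsAffineOpen.comap_primeIdealOf_appLE ⊤ hU (i ⁻¹ᵁ ⊤) hW₀ le_rfl x.2
    rw [← Scheme.Hom.app_eq_appLE] at hc
    have hix : i x.1 = i w := by
      have h1 : hU.primeIdealOf ⟨i x.1, trivial⟩ = hU.primeIdealOf ⟨i w, trivial⟩ := by
        apply PrimeSpectrum.ext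
        rw [← hc]
        have : (⟨x.1, x.2⟩ : (i ⁻¹ᵁ (⊤ : V.Opens) : W.Opens)) = x := Subtype.ext rfl
        rw [this, hx]
        exact hqq'
      have := primeIdealOf_injective hU h1
      exact congrArg Subtype.val this
    have hxmax : x.1 ∈ maxPts W := hb.mem_maxPts_of_map_mem (by rw [hix]; exact hv)
    have hxw : x.1 = w := hb.bijOn.injOn hxmax hw hix
    have : x = ⟨w, hwW₀⟩ := Subtype.ext hxw
    rw [this] at hx
    exact (congrArg PrimeSpectrum.asIdeal hx).symm
  have hbij : Function.Bijective (Localization.localRingHom p q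
      (algebraMap Γ(V, ⊤) Γ(W, i ⁻¹ᵁ ⊤)) hpq) := by
    have e := IsAffineOpen.arrowStalkMapIso i ⊤ hU (i ⁻¹ᵁ ⊤) hW₀ le_rfl hwW₀
    haveI : IsIso (i.stalkMap w) := hb.stalkIso w hw
    have h2 : IsIso (CommRingCat.ofHom (Localization.localRingHom p q
        (i.appLE ⊤ (i ⁻¹ᵁ ⊤) le_rfl).hom
        congr($(IsAffineOpen.comap_primeIdealOf_appLE ⊤ hU (i ⁻¹ᵁ ⊤) hW₀ le_rfl hwW₀).1).symm)) :=
      ((MorphismProperty.isomorphisms CommRingCat).arrow_mk_iso_iff e).1
        (inferInstanceAs (IsIso (i.stalkMap w)))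
    have h3 := (ConcreteCategory.isIso_iff_bijective _).1 h2
    exact bijective_localRingHom_congr p q _ _
      (congrArg CommRingCat.Hom.hom (Scheme.Hom.app_eq_appLE (f := i) (U := ⊤)).symm)
      congr($(IsAffineOpen.comap_primeIdealOf_appLE ⊤ hU (i ⁻¹ᵁ ⊤) hW₀ le_rfl hwW₀).1).symm hpq h3
  have hcase : Algebra.FinitePresentation Γ(V, ⊤) Γ(W, i ⁻¹ᵁ ⊤) ∨
      (IsReduced Γ(V, ⊤) ∧ (minimalPrimes Γ(V, ⊤)).Finite ∧ p ∈ minimalPrimes Γ(V, ⊤)) := by
    rcases h with ⟨hred, hfinmax⟩ | hlfp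
    · right
      exact ⟨inferInstance, finite_minimalPrimes_of_finite_maxPts V hfinmax,
        primeIdealOf_mem_minimalPrimes V (i w) hv⟩
    · left
      have := i.finitePresentation_appLE hU hW₀ le_rfl
      rw [← Scheme.Hom.app_eq_appLE] at this
      exact this
  obtain ⟨r, hrp, hinj, hsurj⟩ := exists_away q p hpq huniq hbij hcase
  refine ⟨r, (mem_basicOpen_iff_notMem_primeIdealOf hU ⟨i w, trivial⟩ r).2 hrp, ?_⟩
  exact isIso_restrict_basicOpen_of_away i r hinj hsurj

theorem restrict_restrict_iff (P : MorphismProperty Scheme.{u}) [P.RespectsIso]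
    {X Y : Scheme.{u}} (f : X ⟶ Y) {V' W : Y.Opens}
    (hle : V' ≤ W) : P ((f ∣_ W) ∣_ (W.ι ⁻¹ᵁ V')) ↔ P (f ∣_ V') := by
  rw [MorphismProperty.arrow_mk_iso_iff P (morphismRestrictRestrict f W _)]
  have e : W.ι ''ᵁ (W.ι ⁻¹ᵁ V') = V' := by
    rw [Scheme.Hom.image_preimage_eq_opensRange_inf, Scheme.Opens.opensRange_ι]
    exact inf_eq_right.2 hle
  rw [MorphismProperty.arrow_mk_iso_iff P (morphismRestrictEq f e)]

theorem restrict_iSup (P : MorphismProperty Scheme.{u}) [IsZariskiLocalAtTarget P]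
    {X Y : Scheme.{u}} (f : X ⟶ Y) {ι : Type*} (V : ι → Y.Opens)
    (h : ∀ i, P (f ∣_ V i)) : P (f ∣_ (⨆ i, V i)) := by
  apply IsZariskiLocalAtTarget.of_forall_exists_morphismRestrict (P := P)
  intro x
  have hx : x.1 ∈ ⨆ i, V i := x.2
  obtain ⟨i, hi⟩ := TopologicalSpace.Opens.mem_iSup.1 hx
  exact ⟨(⨆ i, V i).ι ⁻¹ᵁ V i, hi, (restrict_restrict_iff P f (le_iSup V i)).2 (h i)⟩

/-- **A finite birational morphism to an affine scheme is an isomorphism over an open
containing all maximal points.** -/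
theorem exists_opens_isIso {W V : Scheme.{u}} (i : W ⟶ V) [IsFinite i] [IsAffine V]
    (hb : SchBir i)
    (h : (IsReduced V ∧ (maxPts V).Finite) ∨ LocallyOfFinitePresentation i) :
    ∃ V' : V.Opens, maxPts V ⊆ V' ∧ IsIso (i ∣_ V') := by
  have key : ∀ v : V, v ∈ maxPts V → ∃ V' : V.Opens, v ∈ V' ∧ IsIso (i ∣_ V') := by
    intro v hv
    obtain ⟨r, hr, hiso⟩ := exists_basicOpen_isIso i hb v hv h
    exact ⟨V.basicOpen r, hr, hiso⟩
  choose! Vv hvV hisoV using key
  refine ⟨⨆ v : maxPts V, Vv v.1, fun v hv =>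
    TopologicalSpace.Opens.mem_iSup.2 ⟨⟨v, hv⟩, hvV v hv⟩, ?_⟩
  exact restrict_iSup (MorphismProperty.isomorphisms Scheme.{u}) i _
    (fun v => hisoV v.1 v.2)

end Groth.Agent.Helper15.Bir
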