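import Mathlib
import Groth.Prelude
import Groth.Agent.Lib.Helper15.Bir5

/-!
# Birational morphisms of decent spaces: independence of charts, restriction to open subschemes
-/

set_option autoImplicit false
universe u
open CategoryTheory CategoryTheory.Limits AlgebraicGeometry MorphismProperty Opposite
open AlgSp Groth.Agent.Helper16.AS

namespace Groth.Agent.Helper15.Bir

open Groth.Agent.Helper15 Groth.Agent.Helper15.Strat Groth.Agent.Helper15.Norm
  Groth.Agent.Helper15.MaxPts Groth.Agent.Helper15.GenFin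

variable {S : Scheme.{u}}

theorem isIso_stalkMap_comp_left_iff {A B C : Scheme.{u}} (j : A ⟶ B) [IsOpenImmersion j]
    (g : B ⟶ C) (x : A) : IsIso ((j ≫ g).stalkMap x) ↔ IsIso (g.stalkMap (j x)) := by
  rw [Scheme.Hom.stalkMap_comp]
  exact isIso_comp_right_iff _ _

theorem isIso_stalkMap_comp_right_iff {A B C : Scheme.{u}} (g : A ⟶ B) (j : B ⟶ C)
    [IsOpenImmersion j] (x : A) : IsIso ((g ≫ j).stalkMap x) ↔ IsIso (g.stalkMap x) := by
  have e := Scheme.Hom.stalkMap_comp g j x
  haveI : IsIso (j.stalkMap (g x)) := inferInstance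
  constructor
  · intro h
    rw [e] at h
    exact @IsIso.of_isIso_comp_left _ _ _ _ _ (j.stalkMap (g x)) (g.stalkMap x) _ h
  · intro h
    rw [e]
    exact @IsIso.comp_isIso _ _ _ _ _ (j.stalkMap (g x)) (g.stalkMap x) _ h

/-- The isomorphism of local rings in the definition of birational morphisms does not depend
on the chosen open subschemes. -/
theorem isIso_stalkMap_of_chart {X Y : Sp S} (f : X ⟶ Y)
    {U V : Over S} (a : (yon S).obj U ⟶ X) (b : (yon S).obj V ⟶ Y) (g : U ⟶ V)
    (ha : RepWith @IsOpenImmersion a) (hb : RepWith @IsOpenImmersion b)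
    (comm : a ≫ f = (yon S).map g ≫ b) (u : U.left) (hiso : IsIso (g.left.stalkMap u))
    {U' V' : Over S} (a' : (yon S).obj U' ⟶ X) (b' : (yon S).obj V' ⟶ Y) (g' : U' ⟶ V')
    (ha' : RepWith @IsOpenImmersion a') (hb' : RepWith @IsOpenImmersion b')
    (comm' : a' ≫ f = (yon S).map g' ≫ b') (u' : U'.left)
    (hpt : Points.ofPt a u = Points.ofPt a' u') : IsIso (g'.left.stalkMap u') := by
  have sq := ha.rep.isPullback' a'
  set φ := ha.rep.fst' a' with hφ
  set ψ := ha.rep.snd a' with hψ
  haveI hψo : IsOpenImmersion ψ.left := ha.property_snd a'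
  haveI hφo : IsOpenImmersion φ.left := ha'.property a _ _ sq.flip
  obtain ⟨u₂, rfl, rfl⟩ := exists_of_ofPt_eq sq u u' hpt
  have sq' := hb.rep.isPullback' b'
  set φ' := hb.rep.fst' b' with hφ'
  set ψ' := hb.rep.snd b' with hψ'
  haveI hψ'o : IsOpenImmersion ψ'.left := hb.property_snd b'
  haveI hφ'o : IsOpenImmersion φ'.left := hb'.property b _ _ sq'.flip
  have hcompat : (yon S).map (φ ≫ g) ≫ b = (yon S).map (ψ ≫ g') ≫ b' := by
    rw [Functor.map_comp, Functor.map_comp, Category.assoc, Category.assoc, ← comm, ← comm',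
      ← Category.assoc, ← Category.assoc, sq.w]
  set g₂ := (yon S).preimage (sq'.lift _ _ hcompat) with hg₂
  have h1 : g₂ ≫ φ' = φ ≫ g := by
    apply (yon S).map_injective
    rw [Functor.map_comp, hg₂, Functor.map_preimage, sq'.lift_fst]
  have h2 : g₂ ≫ ψ' = ψ ≫ g' := by
    apply (yon S).map_injective
    rw [Functor.map_comp, hg₂, Functor.map_preimage, sq'.lift_snd]
  have h1' : g₂.left ≫ φ'.left = φ.left ≫ g.left := by
    simpa using congrArg (fun k => k.left) h1
  have h2' : g₂.left ≫ ψ'.left = ψ.left ≫ g'.left := by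
    simpa using congrArg (fun k => k.left) h2
  have s1 : IsIso ((φ.left ≫ g.left).stalkMap u₂) :=
    (isIso_stalkMap_comp_left_iff φ.left g.left u₂).2 hiso
  rw [← h1'] at s1
  have s2 : IsIso (g₂.left.stalkMap u₂) :=
    (isIso_stalkMap_comp_right_iff g₂.left φ'.left u₂).1 s1
  have s3 : IsIso ((g₂.left ≫ ψ'.left).stalkMap u₂) :=
    (isIso_stalkMap_comp_right_iff g₂.left ψ'.left u₂).2 s2
  rw [h2'] at s3
  exact (isIso_stalkMap_comp_left_iff ψ.left g'.left u₂).1 s3

theorem ofPt_injective_of_isOpenImmersion {X : Sp S} (hX : IsAlgSpace X) {T : Over S}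
    (a : (yon S).obj T ⟶ X) (ha : RepWith @IsOpenImmersion a) :
    Function.Injective (Points.ofPt a) := by
  intro t t' htt'
  have h1 : Points.map a (Points.ofScheme T t) = Points.map a (Points.ofScheme T t') := by
    rw [← Points.ofPt_eq_map_ofScheme, ← Points.ofPt_eq_map_ofScheme]
    exact htt'
  exact (Points.schemeEquiv T).injective (points_map_injective_of_isOpenImmersion hX _ ha h1)

/-- Generic points in an open subscheme are its maximal points. -/
theorem ofPt_mem_genericPoints_iff {X : Sp S} (hX : IsAlgSpace X) (hXd : IsDecent X)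
    {T : Over S} (a : (yon S).obj T ⟶ X) (ha : RepWith @IsOpenImmersion a) (t : T.left) :
    Points.ofPt a t ∈ genericPoints (Points X) ↔ t ∈ maxPts T.left := by
  rw [mem_genericPoints_iff hX hXd,
    hasAt_c0_chart_iff a (repWith_mono isOpenImmersion_le_etale ha) t]

/-- The restriction of a birational morphism to open subschemes is birational as a morphism
of schemes, provided the source contains all generic points over the target. -/
theorem schBir_of_chart {X Y : Sp S} (hX : IsAlgSpace X) (hY : IsAlgSpace Y) (hXd : IsDecent X)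
    (hYd : IsDecent Y) (f : X ⟶ Y) (hf : W4stk3decentspacesp2.IsBirational f)
    {W₀ V₀ : Over S} (a' : (yon S).obj W₀ ⟶ X) (j₀ : (yon S).obj V₀ ⟶ Y) (i : W₀ ⟶ V₀)
    (ha' : RepWith @IsOpenImmersion a') (hj₀ : RepWith @IsOpenImmersion j₀)
    (comm : a' ≫ f = (yon S).map i ≫ j₀)
    (hsurj : ∀ x ∈ genericPoints (Points X), Points.map f x ∈ Set.range (Points.ofPt j₀) →
      x ∈ Set.range (Points.ofPt a')) : SchBir i.left := by
  have hfa : ∀ w : W₀.left, Points.map f (Points.ofPt a' w) = Points.ofPt j₀ (i.left w) := by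
    intro w
    rw [Points.map_ofPt, comm, ofPt_comp_yon_map]
  refine ⟨⟨?_, ?_, ?_⟩, ?_⟩
  · intro w hw
    have h1 := (ofPt_mem_genericPoints_iff hX hXd a' ha' w).2 hw
    have h2 := hf.bijOn.mapsTo h1
    rw [hfa] at h2
    exact (ofPt_mem_genericPoints_iff hY hYd j₀ hj₀ _).1 h2
  · intro w hw w' hw' hww'
    have h1 := (ofPt_mem_genericPoints_iff hX hXd a' ha' w).2 hw
    have h1' := (ofPt_mem_genericPoints_iff hX hXd a' ha' w').2 hw'
    have h2 : Points.map f (Points.ofPt a' w) = Points.map f (Points.ofPt a' w') := by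
      rw [hfa, hfa]
      exact congrArg _ hww'
    exact ofPt_injective_of_isOpenImmersion hX a' ha' (hf.bijOn.injOn h1 h1' h2)
  · intro v hv
    have h1 := (ofPt_mem_genericPoints_iff hY hYd j₀ hj₀ v).2 hv
    obtain ⟨x, hx, hxv⟩ := hf.bijOn.surjOn h1
    obtain ⟨w, rfl⟩ := hsurj x hx (by rw [hxv]; exact ⟨v, rfl⟩)
    refine ⟨w, (ofPt_mem_genericPoints_iff hX hXd a' ha' w).1 hx, ?_⟩
    rw [hfa] at hxv
    exact ofPt_injective_of_isOpenImmersion hY j₀ hj₀ hxv
  · intro w hw
    have h1 := (ofPt_mem_genericPoints_iff hX hXd a' ha' w).2 hw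
    obtain ⟨U, V, a, b, g, u, ha, hb, comm₀, hu, hiso⟩ := hf.stalkIso _ h1
    exact isIso_stalkMap_of_chart f a b g ha hb comm₀ u hiso a' j₀ i ha' hj₀ comm w hu

end Groth.Agent.Helper15.Bir
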