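import Mathlib
import Groth.Prelude
import Groth.Agent.Lib.Helper15.Bir6
import Groth.Agent.Lib.Helper15.AlgSpLim4

/-!
# Birational morphisms of decent spaces: an isomorphism over a dense open of the target
-/

set_option autoImplicit false
universe u
open CategoryTheory CategoryTheory.Limits AlgebraicGeometry MorphismProperty Opposite
open AlgSp Groth.Agent.Helper16.AS

namespace Groth.Agent.Helper15.Bir

open Groth.Agent.Helper15 Groth.Agent.Helper15.Strat Groth.Agent.Helper15.Norm
  Groth.Agent.Helper15.MaxPts Groth.Agent.Helper15.GenFin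

variable {S : Scheme.{u}}

theorem finite_irreducibleComponents_of_finite_c0 {Y : Sp S} (hY : IsAlgSpace Y)
    (hYd : IsDecent Y)
    (hY0 : {y : Points Y |
      HasAt (fun U u => ringKrullDim ↥(U.presheaf.stalk u) = 0) Y y}.Finite) :
    (irreducibleComponents (Points Y)).Finite := by
  haveI := t0Space_points_of_isDecent hY hYd
  haveI := SoberDecent.quasiSober_points_of_isDecent hY hYd
  have hgen : (genericPoints (Points Y)).Finite :=
    hY0.subset (fun y hy => (mem_genericPoints_iff hY hYd y).1 hy)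
  exact Set.finite_coe_iff.1 ((genericPoints.equiv (α := Points Y)).finite_iff.1
    (Set.finite_coe_iff.2 hgen))

/-- A decent space with finitely many irreducible components has an affine open subscheme
containing all points of codimension zero. -/
theorem exists_affine_open_c0 {Y : Sp S} (hY : IsAlgSpace Y) (hYd : IsDecent Y)
    (hYf : (irreducibleComponents (Points Y)).Finite) :
    ∃ (V₀ : Over S) (_ : IsAffine V₀.left) (j₀ : (yon S).obj V₀ ⟶ Y),
      RepWith @IsOpenImmersion j₀ ∧
      ∀ y : Points Y, HasAt (fun U u => ringKrullDim ↥(U.presheaf.stalk u) = 0) Y y →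
        y ∈ Set.range (Points.ofPt j₀) := by
  have hY0 := finite_c0 hY hYd hYf
  obtain ⟨Y₁, j₁, hY₁, hj₁, hrep, hdense⟩ :=
    DenseSch.exists_dense_open_subscheme hY (DenseSch.hasQcPts_of_isDecent hYd)
  obtain ⟨T, ⟨r⟩⟩ := hrep.has_representation
  let e : (yon S).obj T ≅ Y₁ := isoOfRepresentableBy r
  have he : RepWith @IsOpenImmersion (e.hom ≫ j₁) :=
    (RepWith @IsOpenImmersion).comp_mem _ _ (repWith_of_isIso _ e.hom) hj₁
  have hTfin : (maxPts T.left).Finite := by
    refine (hY0.preimage (Set.injOn_of_injective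
      (ofPt_injective_of_isOpenImmersion hY _ he))).subset ?_
    intro t ht
    exact (mem_genericPoints_iff hY hYd _).1 ((ofPt_mem_genericPoints_iff hY hYd _ he t).2 ht)
  obtain ⟨W, hWaff, hWmax, -⟩ :=
    exists_isAffineOpen_maxPts_subset T.left hTfin ⊤ (fun _ _ => trivial)
  refine ⟨opSub T W, hWaff, (yon S).map (opι T W) ≫ e.hom ≫ j₁,
    (RepWith @IsOpenImmersion).comp_mem _ _
      ((repWith_yon_map_iff _ _).2 (inferInstance : IsOpenImmersion W.ι)) he, ?_⟩
  intro y hy
  have hy₁ : y ∈ Set.range (Points.map j₁) :=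
    c0_mem_of_dense_of_isOpen hY hYd hYf (isOpen_range_of_isOpenImmersion hY j₁ hj₁) hdense hy
  obtain ⟨y₁, rfl⟩ := hy₁
  obtain ⟨t, ht⟩ := (Points.schemeEquiv T).surjective (Points.map e.inv y₁)
  have hy₁t : y₁ = Points.ofPt e.hom t := by
    rw [Points.ofPt_eq_map_ofScheme]
    change y₁ = Points.map e.hom (Points.schemeEquiv T t)
    rw [ht, ← Points.map_comp, e.inv_hom_id, Points.map_id]
  have hyt : Points.map j₁ y₁ = Points.ofPt (e.hom ≫ j₁) t := by
    rw [hy₁t, Points.map_ofPt]
  have htmax : t ∈ maxPts T.left := by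
    rw [hyt] at hy
    exact (ofPt_mem_genericPoints_iff hY hYd _ he t).1 ((mem_genericPoints_iff hY hYd _).2 hy)
  refine ⟨⟨t, hWmax htmax⟩, ?_⟩
  rw [ofPt_comp_yon_map, hyt]
  rfl

/-- The base change of a morphism over the open where a chart of it is an isomorphism. -/
theorem isIso_snd_of_restrict {X Y : Sp S} (f : X ⟶ Y) {W V₀ : Over S}
    (a' : (yon S).obj W ⟶ X) (j₀ : (yon S).obj V₀ ⟶ Y) (i : W ⟶ V₀)
    (sq : IsPullback a' ((yon S).map i) f j₀) (V' : V₀.left.Opens)
    (hiso : IsIso (i.left ∣_ V'))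
    {P : Sp S} (fst : P ⟶ X) (snd : P ⟶ (yon S).obj (opSub V₀ V'))
    (sqP : IsPullback fst snd f ((yon S).map (opι V₀ V') ≫ j₀)) : IsIso snd := by
  let O : W.left.Opens := i.left ⁻¹ᵁ V'
  let ι : opSub W O ⟶ W := opι W O
  let i' : opSub W O ⟶ opSub V₀ V' := Over.homMk (i.left ∣_ V') (by
    change (i.left ∣_ V') ≫ (V'.ι ≫ V₀.hom) = O.ι ≫ W.hom
    rw [morphismRestrict_ι_assoc, CategoryTheory.Over.w i])
  have sqU : IsPullback ι i' i (opι V₀ V') :=
    IsPullback.of_map_of_faithful (Over.forget S) (isPullback_morphismRestrict i.left V').flip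
  have big : IsPullback ((yon S).map ι ≫ a') ((yon S).map i') f
      ((yon S).map (opι V₀ V') ≫ j₀) := (sqU.map (yon S)).paste_horiz sq
  haveI : IsIso ((Over.forget S).map i') := hiso
  haveI : IsIso i' := isIso_of_reflects_iso i' (Over.forget S)
  have e : (sqP.isoIsPullback _ _ big).hom ≫ (yon S).map i' = snd :=
    IsPullback.isoIsPullback_hom_snd _ _ sqP big
  rw [← e]
  infer_instance

theorem hpre_of_isBirational {X Y : Sp S} (hX : IsAlgSpace X) (hY : IsAlgSpace Y)
    (hXd : IsDecent X) (hYd : IsDecent Y) (f : X ⟶ Y)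
    (hf : W4stk3decentspacesp2.IsBirational f) (x : Points X) :
    HasAt (fun U u => ringKrullDim ↥(U.presheaf.stalk u) = 0) X x ↔
      HasAt (fun U u => ringKrullDim ↥(U.presheaf.stalk u) = 0) Y (Points.map f x) :=
  ⟨fun hx => (mem_genericPoints_iff hY hYd _).1
    (hf.bijOn.mapsTo ((mem_genericPoints_iff hX hXd x).2 hx)),
    c0_of_map_c0 hX hY hXd hYd f hf x⟩

theorem lfp_le_lft : (@LocallyOfFinitePresentation : MorphismProperty Scheme.{u}) ≤
    @LocallyOfFiniteType :=
  fun _ _ φ hφ => by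
    haveI : LocallyOfFinitePresentation φ := hφ
    exact (inferInstance : LocallyOfFiniteType φ)

/-- The source of a pullback chart contains all points over the target chart. -/
theorem mem_range_ofPt_of_isPullback {X Y : Sp S} (f : X ⟶ Y) {W V₀ : Over S}
    (a' : (yon S).obj W ⟶ X) (j₀ : (yon S).obj V₀ ⟶ Y) (i : W ⟶ V₀)
    (sq : IsPullback a' ((yon S).map i) f j₀) (x : Points X)
    (hx : Points.map f x ∈ Set.range (Points.ofPt j₀)) : x ∈ Set.range (Points.ofPt a') := by
  obtain ⟨v, hv⟩ := hx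
  rw [Points.ofPt_eq_map_ofScheme] at hv
  obtain ⟨p, hp, -⟩ := exists_point_of_isPullback sq x (Points.ofScheme V₀ v) hv.symm
  obtain ⟨w, rfl⟩ := (Points.schemeEquiv W).surjective p
  refine ⟨w, ?_⟩
  rw [Points.ofPt_eq_map_ofScheme]
  exact hp

/-- **Birational morphisms restrict to isomorphisms over a dense open of the target.** -/
theorem exists_dense_open_isIso {X Y : Sp S} (hX : IsAlgSpace X) (hY : IsAlgSpace Y)
    (hXd : IsDecent X) (hYd : IsDecent Y)
    (hXf : (irreducibleComponents (Points X)).Finite)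
    (hYf : (irreducibleComponents (Points Y)).Finite)
    (f : X ⟶ Y) (hf : W4stk3decentspacesp2.IsBirational f)
    (h₁ : IsQuasiCompactMor f ∨ IsSeparatedMor f)
    (h₂ : (LocP @LocallyOfFiniteType f ∧ EtaleLocally (fun T => IsReduced T) Y) ∨
      LocP @LocallyOfFinitePresentation f) :
    ∃ (V : Over S) (b : (yon S).obj V ⟶ Y), RepWith @IsOpenImmersion b ∧
      Dense (Set.range (Points.ofPt b)) ∧
        ∀ ⦃P : Sp S⦄ (fst : P ⟶ X) (snd : P ⟶ (yon S).obj V),
          IsPullback fst snd f b → IsIso snd := by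
  have hlft : LocP @LocallyOfFiniteType f := by
    rcases h₂ with ⟨h, -⟩ | h
    · exact h
    · exact locP_mono lfp_le_lft h
  have hX0 := finite_c0 hX hXd hXf
  have hY0 := finite_c0 hY hYd hYf
  have hpre := hpre_of_isBirational hX hY hXd hYd f hf
  obtain ⟨Y', j, hY', hj, hdense, hfin⟩ :=
    exists_dense_open_finite hX hY f hlft hYd hX0 hY0 hpre h₁
  have hje := isEtaleMor_of_isOpenImmersion j hj
  have hY'd : IsDecent Y' := QcLocal.isDecent_of_isEtaleMor hY' hY j hje hYd
  have hY'0 : {y : Points Y' |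
      HasAt (fun U u => ringKrullDim ↥(U.presheaf.stalk u) = 0) Y' y}.Finite := by
    refine (hY0.preimage (Set.injOn_of_injective
      (points_map_injective_of_isOpenImmersion hY j hj))).subset ?_
    intro y hy
    exact (hasAt_iff_of_isEtaleMor (etInv_ringKrullDim_stalk 0) hY' j hje y).1 hy
  have hY'f := finite_irreducibleComponents_of_finite_c0 hY' hY'd hY'0
  obtain ⟨V₀, hV₀aff, j₀', hj₀', hc0⟩ := exists_affine_open_c0 hY' hY'd hY'f
  haveI := hV₀aff
  set j₀ : (yon S).obj V₀ ⟶ Y := j₀' ≫ j with hj₀def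
  have hj₀ : RepWith @IsOpenImmersion j₀ := (RepWith @IsOpenImmersion).comp_mem _ _ hj₀' hj
  have hj₀e : RepWith @Etale j₀ := repWith_mono isOpenImmersion_le_etale hj₀
  have hc0Y : ∀ y : Points Y, HasAt (fun U u => ringKrullDim ↥(U.presheaf.stalk u) = 0) Y y →
      y ∈ Set.range (Points.ofPt j₀) := by
    intro y hy
    have hyr : y ∈ Set.range (Points.map j) :=
      c0_mem_of_dense_of_isOpen hY hYd hYf (isOpen_range_of_isOpenImmersion hY j hj) hdense hy
    obtain ⟨y', rfl⟩ := hyr
    have hy' := (hasAt_iff_of_isEtaleMor (etInv_ringKrullDim_stalk 0) hY' j hje y').2 hy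
    obtain ⟨v, rfl⟩ := hc0 y' hy'
    exact ⟨v, by rw [hj₀def, Points.map_ofPt]⟩
  -- the finite chart
  have sqY' : IsPullback (pullback.fst j f) (pullback.snd j f) j f := IsPullback.of_hasPullback _ _
  obtain ⟨W, i, fst', sqW, hWaff, hifin⟩ := hfin _ _ _ sqY' hV₀aff j₀'
  haveI := hifin
  have big : IsPullback (fst' ≫ pullback.snd j f) ((yon S).map i) f j₀ :=
    sqW.paste_horiz sqY'.flip
  set a' := fst' ≫ pullback.snd j f with ha'def
  have ha' : RepWith @IsOpenImmersion a' := (RepWith @IsOpenImmersion).of_isPullback big.flip hj₀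
  have hb : SchBir i.left := schBir_of_chart hX hY hXd hYd f hf a' j₀ i ha' hj₀ big.w
    (fun x _ hx => mem_range_ofPt_of_isPullback f a' j₀ i big x hx)
  have hV₀fin : (maxPts V₀.left).Finite := by
    refine (hY0.preimage (Set.injOn_of_injective
      (ofPt_injective_of_isOpenImmersion hY _ hj₀))).subset ?_
    intro t ht
    exact (mem_genericPoints_iff hY hYd _).1 ((ofPt_mem_genericPoints_iff hY hYd _ hj₀ t).2 ht)
  have hcase : (IsReduced V₀.left ∧ (maxPts V₀.left).Finite) ∨
      LocallyOfFinitePresentation i.left := by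
    rcases h₂ with ⟨-, hred⟩ | hlfp
    · exact Or.inl ⟨AlgSpLim.isReduced_of_etale_chart hY hred j₀ hj₀e, hV₀fin⟩
    · exact Or.inr (hlfp a' j₀ i (repWith_mono isOpenImmersion_le_etale ha') hj₀e big.w)
  obtain ⟨V', hV'max, hiso⟩ := exists_opens_isIso i.left hb hcase
  refine ⟨opSub V₀ V', (yon S).map (opι V₀ V') ≫ j₀,
    (RepWith @IsOpenImmersion).comp_mem _ _
      ((repWith_yon_map_iff _ _).2 (inferInstance : IsOpenImmersion V'.ι)) hj₀, ?_, ?_⟩
  · refine dense_of_c0_subset hY ?_
    intro y hy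
    obtain ⟨v, rfl⟩ := hc0Y y hy
    have hvmax : v ∈ maxPts V₀.left :=
      (ofPt_mem_genericPoints_iff hY hYd _ hj₀ v).1 ((mem_genericPoints_iff hY hYd _).2 hy)
    refine ⟨⟨v, hV'max hvmax⟩, ?_⟩
    rw [ofPt_comp_yon_map]
    rfl
  · intro P fst snd sqP
    exact isIso_snd_of_restrict f a' j₀ i big V' hiso fst snd sqP

end Groth.Agent.Helper15.Bir
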