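import Mathlib
import Groth.Prelude
import Groth.Agent.Lib.Helper15.Bir7

/-!
# Birational morphisms of schemes: restriction to opens, the separated finite type case
-/

set_option autoImplicit false
universe u
open CategoryTheory CategoryTheory.Limits AlgebraicGeometry MorphismProperty Opposite

namespace Groth.Agent.Helper15.Bir

open Groth.Agent.Helper15.MaxPts Groth.Agent.Helper15.GenFin

theorem mem_maxPts_opens_iff {Z : Scheme.{u}} (W : Z.Opens) (w : (W : Scheme.{u})) :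
    w ∈ maxPts (W : Scheme.{u}) ↔ W.ι w ∈ maxPts Z := by
  constructor
  · intro h y hy
    have hyW : y ∈ W := hy.mem_open W.isOpen w.2
    have h1 : (⟨y, hyW⟩ : (W : Scheme.{u})) ⤳ w :=
      (W.ι.isOpenEmbedding.isInducing.specializes_iff).1 hy
    exact (h _ h1).map W.ι.continuous
  · intro h
    exact mem_maxPts_opens W (W.ι w) w.2 h

theorem SchBir.restrict {R V : Scheme.{u}} {r : R ⟶ V} (hb : SchBir r) (V' : V.Opens) :
    SchBir (r ∣_ V') := by
  have hcoe : ∀ x : (r ⁻¹ᵁ V' : Scheme.{u}), V'.ι ((r ∣_ V') x) = r ((r ⁻¹ᵁ V').ι x) := by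
    intro x
    rw [← Scheme.Hom.comp_apply, morphismRestrict_ι, Scheme.Hom.comp_apply]
  refine ⟨⟨?_, ?_, ?_⟩, ?_⟩
  · intro x hx
    rw [mem_maxPts_opens_iff, hcoe]
    exact hb.bijOn.mapsTo ((mem_maxPts_opens_iff _ x).1 hx)
  · intro x hx x' hx' hxx'
    have h1 : r ((r ⁻¹ᵁ V').ι x) = r ((r ⁻¹ᵁ V').ι x') := by
      rw [← hcoe, ← hcoe, hxx']
    have h2 := hb.bijOn.injOn ((mem_maxPts_opens_iff _ x).1 hx)
      ((mem_maxPts_opens_iff _ x').1 hx') h1
    exact (r ⁻¹ᵁ V').ι.injective h2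
  · intro v hv
    obtain ⟨x, hx, hxv⟩ := hb.bijOn.surjOn ((mem_maxPts_opens_iff _ v).1 hv)
    have hxV' : x ∈ r ⁻¹ᵁ V' := by
      change r x ∈ V'
      rw [hxv]
      exact v.2
    refine ⟨⟨x, hxV'⟩, (mem_maxPts_opens_iff _ _).2 hx, ?_⟩
    apply V'.ι.injective
    rw [hcoe]
    exact hxv
  · intro x hx
    haveI : IsIso (r.stalkMap x.1) := hb.stalkIso _ ((mem_maxPts_opens_iff _ x).1 hx)
    exact ((MorphismProperty.isomorphisms CommRingCat).arrow_mk_iso_iff
      (morphismRestrictStalkMap r V' x)).2 (inferInstanceAs (IsIso (r.stalkMap x.1)))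

/-- **Birational morphisms of finite type to an affine scheme are isomorphisms over an open
containing all maximal points** (separated case). -/
theorem exists_opens_isIso_of_separated {R V : Scheme.{u}} (r : R ⟶ V) [IsAffine V]
    [LocallyOfFiniteType r] [IsSeparated r] (hb : SchBir r) (hRfin : (maxPts R).Finite)
    (h : IsReduced V ∨ LocallyOfFinitePresentation r) :
    ∃ V' : V.Opens, maxPts V ⊆ V' ∧ IsIso (r ∣_ V') := by
  have hVfin : (maxPts V).Finite := by
    have := hRfin.image r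
    rwa [hb.bijOn.image_eq] at this
  have hfib : (r ⁻¹' maxPts V).Finite := by
    refine hRfin.subset ?_
    intro x hx
    exact hb.mem_maxPts_of_map_mem hx
  obtain ⟨V₁, hV₁max, hV₁fin⟩ :=
    exists_opens_finite_of_separated r (fun w hw => hb.bijOn.mapsTo hw) hfib
  obtain ⟨V₂, hV₂aff, hV₂max, hV₂le⟩ := exists_isAffineOpen_maxPts_subset V hVfin V₁ hV₁max
  haveI : IsAffine (V₂ : Scheme.{u}) := hV₂aff
  haveI : IsFinite (r ∣_ V₂) := by
    have h1 : IsFinite ((r ∣_ V₁) ∣_ (V₁.ι ⁻¹ᵁ V₂)) := inferInstance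
    exact (isFinite_restrict_restrict_iff r hV₂le).1 h1
  have hb₂ : SchBir (r ∣_ V₂) := hb.restrict V₂
  have hV₂maxfin : (maxPts (V₂ : Scheme.{u})).Finite := by
    refine (hVfin.preimage (Set.injOn_of_injective V₂.ι.injective)).subset ?_
    intro v hv
    exact (mem_maxPts_opens_iff V₂ v).1 hv
  have hcase : (IsReduced (V₂ : Scheme.{u}) ∧ (maxPts (V₂ : Scheme.{u})).Finite) ∨
      LocallyOfFinitePresentation (r ∣_ V₂) := by
    rcases h with hred | hlfp
    · exact Or.inl ⟨inferInstance, hV₂maxfin⟩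
    · exact Or.inr inferInstance
  obtain ⟨V₃, hV₃max, hV₃iso⟩ := exists_opens_isIso (r ∣_ V₂) hb₂ hcase
  refine ⟨V₂.ι ''ᵁ V₃, ?_, ?_⟩
  · intro v hv
    have hvV₂ : v ∈ V₂ := hV₂max hv
    refine ⟨⟨v, hvV₂⟩, hV₃max ((mem_maxPts_opens_iff V₂ ⟨v, hvV₂⟩).2 hv), rfl⟩
  · exact ((MorphismProperty.isomorphisms Scheme.{u}).arrow_mk_iso_iff
      (morphismRestrictRestrict r V₂ V₃)).1 hV₃iso

end Groth.Agent.Helper15.Bir
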