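import Mathlib
import Groth.Prelude
import Groth.Agent.Lib.Helper15.Bir8

/-!
# Birational morphisms of decent spaces: isomorphic dense opens
-/

set_option autoImplicit false
universe u
open CategoryTheory CategoryTheory.Limits AlgebraicGeometry MorphismProperty Opposite
open AlgSp Groth.Agent.Helper16.AS

namespace Groth.Agent.Helper15.Bir

open Groth.Agent.Helper15 Groth.Agent.Helper15.Strat Groth.Agent.Helper15.Norm
  Groth.Agent.Helper15.MaxPts Groth.Agent.Helper15.GenFin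

variable {S : Scheme.{u}}

/-- An open subscheme chart has finitely many maximal points. -/
theorem finite_maxPts_of_chart {X : Sp S} (hX : IsAlgSpace X) (hXd : IsDecent X)
    (hXf : (irreducibleComponents (Points X)).Finite) {T : Over S} (a : (yon S).obj T ⟶ X)
    (ha : RepWith @IsOpenImmersion a) : (maxPts T.left).Finite := by
  refine ((finite_c0 hX hXd hXf).preimage (Set.injOn_of_injective
    (ofPt_injective_of_isOpenImmersion hX _ ha))).subset ?_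
  intro t ht
  exact (mem_genericPoints_iff hX hXd _).1 ((ofPt_mem_genericPoints_iff hX hXd _ ha t).2 ht)

/-- **Birational morphisms induce isomorphisms between dense open subschemes.** -/
theorem exists_dense_opens_isIso {X Y : Sp S} (hX : IsAlgSpace X) (hY : IsAlgSpace Y)
    (hXd : IsDecent X) (hYd : IsDecent Y)
    (hXf : (irreducibleComponents (Points X)).Finite)
    (hYf : (irreducibleComponents (Points Y)).Finite)
    (f : X ⟶ Y) (hf : W4stk3decentspacesp2.IsBirational f)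
    (h : (LocP @LocallyOfFiniteType f ∧ EtaleLocally (fun T => IsReduced T) Y) ∨
      LocP @LocallyOfFinitePresentation f) :
    ∃ (U V : Over S) (a : (yon S).obj U ⟶ X) (b : (yon S).obj V ⟶ Y) (g : U ⟶ V),
      RepWith @IsOpenImmersion a ∧ RepWith @IsOpenImmersion b ∧
        Dense (Set.range (Points.ofPt a)) ∧ Dense (Set.range (Points.ofPt b)) ∧
          a ≫ f = (yon S).map g ≫ b ∧ IsIso g.left := by
  have hlft : LocP @LocallyOfFiniteType f := by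
    rcases h with ⟨h, -⟩ | h
    · exact h
    · exact locP_mono lfp_le_lft h
  obtain ⟨V₀, hV₀aff, j₀, hj₀, hc0Y⟩ := exists_affine_open_c0 hY hYd hYf
  obtain ⟨U₀, hU₀aff, a₀, ha₀, hc0X⟩ := exists_affine_open_c0 hX hXd hXf
  haveI := hV₀aff
  have hj₀e : RepWith @Etale j₀ := repWith_mono isOpenImmersion_le_etale hj₀
  -- `U₁ = U₀ ×_Y V₀`
  have sq1 := hj₀.rep.isPullback' (a₀ ≫ f)
  set U₁ := hj₀.rep.pullback (a₀ ≫ f) with hU₁
  set g₁ : U₁ ⟶ V₀ := hj₀.rep.fst' (a₀ ≫ f) with hg₁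
  set ι₁ : U₁ ⟶ U₀ := hj₀.rep.snd (a₀ ≫ f) with hι₁
  haveI hι₁o : IsOpenImmersion ι₁.left := hj₀.property_snd (a₀ ≫ f)
  set a₁ : (yon S).obj U₁ ⟶ X := (yon S).map ι₁ ≫ a₀ with ha₁def
  have ha₁ : RepWith @IsOpenImmersion a₁ :=
    (RepWith @IsOpenImmersion).comp_mem _ _ ((repWith_yon_map_iff _ _).2 hι₁o) ha₀
  have hcomm₁ : a₁ ≫ f = (yon S).map g₁ ≫ j₀ := by
    rw [ha₁def, Category.assoc]
    exact sq1.w.symm
  have hgen₁ : ∀ x ∈ genericPoints (Points X), x ∈ Set.range (Points.ofPt a₁) := by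
    intro x hx
    obtain ⟨u₀, rfl⟩ := hc0X x ((mem_genericPoints_iff hX hXd x).1 hx)
    have hfx := hf.bijOn.mapsTo hx
    obtain ⟨v₀, hv₀⟩ := hc0Y _ ((mem_genericPoints_iff hY hYd _).1 hfx)
    rw [Points.map_ofPt] at hv₀
    obtain ⟨u₁, -, hu₁⟩ := exists_of_ofPt_eq sq1 v₀ u₀ hv₀
    exact ⟨u₁, by rw [ha₁def, ofPt_comp_yon_map, hu₁]⟩
  have hU₁fin : (maxPts U₁.left).Finite := finite_maxPts_of_chart hX hXd hXf a₁ ha₁
  obtain ⟨W₂, hW₂aff, hW₂max, -⟩ :=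
    exists_isAffineOpen_maxPts_subset U₁.left hU₁fin ⊤ (fun _ _ => trivial)
  haveI : IsAffine (opSub U₁ W₂).left := hW₂aff
  set a₂ : (yon S).obj (opSub U₁ W₂) ⟶ X := (yon S).map (opι U₁ W₂) ≫ a₁ with ha₂def
  have ha₂ : RepWith @IsOpenImmersion a₂ :=
    (RepWith @IsOpenImmersion).comp_mem _ _
      ((repWith_yon_map_iff _ _).2 (inferInstance : IsOpenImmersion W₂.ι)) ha₁
  set g₂ : opSub U₁ W₂ ⟶ V₀ := opι U₁ W₂ ≫ g₁ with hg₂def
  have hcomm₂ : a₂ ≫ f = (yon S).map g₂ ≫ j₀ := by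
    rw [ha₂def, Category.assoc, hcomm₁, hg₂def, Functor.map_comp, Category.assoc]
  have hgen₂ : ∀ x ∈ genericPoints (Points X), ∃ u₂ : (opSub U₁ W₂).left,
      u₂ ∈ maxPts (opSub U₁ W₂).left ∧ Points.ofPt a₂ u₂ = x := by
    intro x hx
    obtain ⟨u₁, rfl⟩ := hgen₁ x hx
    have hu₁max : u₁ ∈ maxPts U₁.left := (ofPt_mem_genericPoints_iff hX hXd a₁ ha₁ u₁).1 hx
    have hpt : Points.ofPt a₂ (⟨u₁, hW₂max hu₁max⟩ : (W₂ : Scheme.{u})) = Points.ofPt a₁ u₁ := by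
      rw [ha₂def, ofPt_comp_yon_map]
      rfl
    refine ⟨⟨u₁, hW₂max hu₁max⟩, ?_, hpt⟩
    rw [← hpt] at hx
    exact (ofPt_mem_genericPoints_iff hX hXd a₂ ha₂ _).1 hx
  have hb : SchBir g₂.left := schBir_of_chart hX hY hXd hYd f hf a₂ j₀ g₂ ha₂ hj₀ hcomm₂
    (fun x hx _ => by
      obtain ⟨u₂, -, hu₂⟩ := hgen₂ x hx
      exact ⟨u₂, hu₂⟩)
  haveI : LocallyOfFiniteType g₂.left :=
    hlft a₂ j₀ g₂ (repWith_mono isOpenImmersion_le_etale ha₂) hj₀e hcomm₂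
  have hU₂fin : (maxPts (opSub U₁ W₂).left).Finite := finite_maxPts_of_chart hX hXd hXf a₂ ha₂
  have hcase : IsReduced V₀.left ∨ LocallyOfFinitePresentation g₂.left := by
    rcases h with ⟨-, hred⟩ | hlfp
    · exact Or.inl (AlgSpLim.isReduced_of_etale_chart hY hred j₀ hj₀e)
    · exact Or.inr (hlfp a₂ j₀ g₂ (repWith_mono isOpenImmersion_le_etale ha₂) hj₀e hcomm₂)
  obtain ⟨V', hV'max, hiso⟩ := exists_opens_isIso_of_separated g₂.left hb hU₂fin hcase
  -- the final charts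
  let O : (opSub U₁ W₂).left.Opens := g₂.left ⁻¹ᵁ V'
  let g : opSub (opSub U₁ W₂) O ⟶ opSub V₀ V' := Over.homMk (g₂.left ∣_ V') (by
    change (g₂.left ∣_ V') ≫ (V'.ι ≫ V₀.hom) = O.ι ≫ (opSub U₁ W₂).hom
    rw [morphismRestrict_ι_assoc, CategoryTheory.Over.w g₂])
  have hgι : g ≫ opι V₀ V' = opι (opSub U₁ W₂) O ≫ g₂ := by
    apply Over.OverMorphism.ext
    exact morphismRestrict_ι _ _
  refine ⟨opSub (opSub U₁ W₂) O, opSub V₀ V', (yon S).map (opι (opSub U₁ W₂) O) ≫ a₂,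
    (yon S).map (opι V₀ V') ≫ j₀, g, ?_, ?_, ?_, ?_, ?_, hiso⟩
  · exact (RepWith @IsOpenImmersion).comp_mem _ _
      ((repWith_yon_map_iff _ _).2 (inferInstance : IsOpenImmersion O.ι)) ha₂
  · exact (RepWith @IsOpenImmersion).comp_mem _ _
      ((repWith_yon_map_iff _ _).2 (inferInstance : IsOpenImmersion V'.ι)) hj₀
  · refine dense_of_c0_subset hX ?_
    intro x hx
    obtain ⟨u₂, hu₂max, rfl⟩ := hgen₂ x ((mem_genericPoints_iff hX hXd x).2 hx)
    have hu₂O : u₂ ∈ O := hV'max (hb.bijOn.mapsTo hu₂max)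
    refine ⟨⟨u₂, hu₂O⟩, ?_⟩
    rw [ofPt_comp_yon_map]
    rfl
  · refine dense_of_c0_subset hY ?_
    intro y hy
    obtain ⟨v, rfl⟩ := hc0Y y hy
    have hvmax : v ∈ maxPts V₀.left :=
      (ofPt_mem_genericPoints_iff hY hYd _ hj₀ v).1 ((mem_genericPoints_iff hY hYd _).2 hy)
    refine ⟨⟨v, hV'max hvmax⟩, ?_⟩
    rw [ofPt_comp_yon_map]
    rfl
  · rw [Category.assoc, hcomm₂, ← Category.assoc, ← Functor.map_comp, ← hgι, Functor.map_comp,
      Category.assoc]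

end Groth.Agent.Helper15.Bir
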