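import Mathlib
import Groth.Prelude
import Groth.Agent.Lib.Helper15.Bir9

/-!
# Birational morphisms: base change to the local ring of a generic point (schemes)
-/

set_option autoImplicit false
universe u
open CategoryTheory CategoryTheory.Limits AlgebraicGeometry MorphismProperty Opposite

namespace Groth.Agent.Helper15.Bir

open Groth.Agent.Helper15.MaxPts

/-- A morphism to an affine scheme all of whose points map to `u` factors through the
spectrum of the local ring at `u`. -/
theorem exists_lift_fromSpecStalk {Z U : Scheme.{u}} [IsAffine U] (h : Z ⟶ U) (u : U)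
    (hh : ∀ z : Z, h z = u) :
    ∃ l : Z ⟶ Spec (U.presheaf.stalk u), l ≫ U.fromSpecStalk u = h := by
  have hU : IsAffineOpen (⊤ : U.Opens) := isAffineOpen_top U
  letI := U.presheaf.algebra_section_stalk (⟨u, trivial⟩ : (⊤ : U.Opens))
  haveI := hU.isLocalization_stalk ⟨u, trivial⟩
  have hunit : ∀ s : (hU.primeIdealOf ⟨u, trivial⟩).asIdeal.primeCompl,
      IsUnit (h.appTop.hom (s : Γ(U, ⊤))) := by
    intro s
    have hs : u ∈ U.basicOpen (s : Γ(U, ⊤)) :=
      (mem_basicOpen_iff_notMem_primeIdealOf hU ⟨u, trivial⟩ _).2 s.2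
    apply Z.toRingedSpace.isUnit_of_isUnit_germ ⊤
    intro z hz
    have hz' : z ∈ Z.basicOpen (h.appTop (s : Γ(U, ⊤))) := by
      rw [← Scheme.preimage_basicOpen_top]
      change h z ∈ U.basicOpen (s : Γ(U, ⊤))
      rw [hh z]
      exact hs
    exact (Z.toRingedSpace.mem_basicOpen _ z hz).1 hz'
  let lam : U.presheaf.stalk u →+* Γ(Z, ⊤) :=
    IsLocalization.lift (M := (hU.primeIdealOf ⟨u, trivial⟩).asIdeal.primeCompl) hunit
  have hlam : (U.presheaf.germ ⊤ u trivial) ≫ CommRingCat.ofHom lam = h.appTop := by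
    ext s
    exact IsLocalization.lift_eq hunit s
  refine ⟨Z.toSpecΓ ≫ Spec.map (CommRingCat.ofHom lam), ?_⟩
  rw [← hU.fromSpecStalk_eq_fromSpecStalk (x := u) trivial, IsAffineOpen.fromSpecStalk,
    IsAffineOpen.fromSpec_top, Category.assoc, ← Category.assoc (Spec.map _), ← Spec.map_comp,
    hlam, ← Category.assoc, ← Scheme.toSpecΓ_naturality, Category.assoc, ← Scheme.isoSpec_hom,
    Iso.hom_inv_id, Category.comp_id]

/-- If `u` is the only point of the affine scheme `U` over the generizations of `g u` and `g`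
induces an isomorphism of local rings at `u`, then the base change of `g` to the spectrum of
the local ring at `g u` is an isomorphism. -/
theorem isIso_pullback_snd_fromSpecStalk {U V : Scheme.{u}} [IsAffine U] (g : U ⟶ V) (u : U)
    (hfib : ∀ u' : U, g u' ⤳ g u → u' = u) [IsIso (g.stalkMap u)] :
    IsIso (pullback.snd g (V.fromSpecStalk (g u))) := by
  set τ := V.fromSpecStalk (g u) with hτ
  have hz : ∀ z : ↥(pullback g τ), (pullback.fst g τ) z = u := by
    intro z
    apply hfib
    have h1 : g ((pullback.fst g τ) z) = τ ((pullback.snd g τ) z) := by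
      rw [← Scheme.Hom.comp_apply, ← Scheme.Hom.comp_apply, pullback.condition]
    rw [h1]
    have h2 : ∀ t, τ t ∈ {y | y ⤳ g u} := by
      intro t
      rw [← Scheme.range_fromSpecStalk]
      exact ⟨t, rfl⟩
    exact h2 _
  obtain ⟨l, hl⟩ := exists_lift_fromSpecStalk (pullback.fst g τ) u hz
  set θ := Spec.map (g.stalkMap u) with hθdef
  have hθ : θ ≫ τ = U.fromSpecStalk u ≫ g := Scheme.SpecMap_stalkMap_fromSpecStalk g
  have hsnd : pullback.snd g τ = l ≫ θ := by
    rw [← cancel_mono τ, Category.assoc, hθ, ← Category.assoc, hl, pullback.condition]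
  have hσ : (inv θ ≫ U.fromSpecStalk u) ≫ g = 𝟙 _ ≫ τ := by
    rw [Category.assoc, ← hθ, IsIso.inv_hom_id_assoc, Category.id_comp]
  refine ⟨pullback.lift (inv θ ≫ U.fromSpecStalk u) (𝟙 _) hσ, ?_, ?_⟩
  · apply pullback.hom_ext
    · rw [Category.assoc, pullback.lift_fst, Category.id_comp, hsnd, Category.assoc,
        IsIso.hom_inv_id_assoc, hl]
    · rw [Category.assoc, pullback.lift_snd, Category.id_comp, Category.comp_id]
  · exact pullback.lift_snd _ _ _

theorem isIso_pullback_snd_fromSpecStalk' {U V : Scheme.{u}} [IsAffine U] (g : U ⟶ V) (u : U)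
    (v : V) (hv : g u = v) (hfib : ∀ u' : U, g u' ⤳ v → u' = u) (hiso : IsIso (g.stalkMap u)) :
    IsIso (pullback.snd g (V.fromSpecStalk v)) := by
  subst hv
  exact isIso_pullback_snd_fromSpecStalk g u hfib

/-- A pullback square whose first projection factors through a monomorphism. -/
theorem isPullback_of_mono_factor {C : Type*} [Category C] {P A X T V Y : C} {fst : P ⟶ X}
    {snd : P ⟶ T} {f : X ⟶ Y} {k : T ⟶ V} {b : V ⟶ Y} (hP : IsPullback fst snd f (k ≫ b))
    (a : A ⟶ X) [Mono a] [Mono b] (g : A ⟶ V) (comm : a ≫ f = g ≫ b) (l : P ⟶ A)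
    (hl : l ≫ a = fst) : IsPullback l snd g k := by
  have w : l ≫ g = snd ≫ k := by
    rw [← cancel_mono b, Category.assoc, ← comm, ← Category.assoc, hl, hP.w, Category.assoc]
  refine ⟨⟨w⟩, ⟨PullbackCone.IsLimit.mk w
    (fun s => hP.lift (s.fst ≫ a) s.snd (by
      rw [Category.assoc, comm, ← Category.assoc, s.condition, Category.assoc])) ?_ ?_ ?_⟩⟩
  · intro s
    rw [← cancel_mono a, Category.assoc, hl, hP.lift_fst]
  · intro s
    exact hP.lift_snd _ _ _
  · intro s m hm1 hm2
    apply hP.hom_ext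
    · rw [hP.lift_fst, ← hl, ← Category.assoc, hm1]
    · rw [hP.lift_snd, hm2]

end Groth.Agent.Helper15.Bir
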