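import Mathlib
import Groth.Prelude
import Groth.Agent.Lib.Helper15.Bir10
import Groth.Agent.Lib.Helper15.AlgSpUnram

/-!
# Birational morphisms of decent spaces: base change to the local ring of a generic point
-/

set_option autoImplicit false
universe u
open CategoryTheory CategoryTheory.Limits AlgebraicGeometry MorphismProperty Opposite
open AlgSp Groth.Agent.Helper16.AS

namespace Groth.Agent.Helper15.Bir

open Groth.Agent.Helper15 Groth.Agent.Helper15.Strat Groth.Agent.Helper15.Norm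
  Groth.Agent.Helper15.MaxPts Groth.Agent.Helper15.GenFin

variable {S : Scheme.{u}}

/-- **The base change of a birational morphism to the local ring of a generic point of the
target is an isomorphism.** -/
theorem isIso_snd_specStalk {X Y : Sp S} (hX : IsAlgSpace X) (hY : IsAlgSpace Y)
    (hXd : IsDecent X) (hYd : IsDecent Y) (f : X ⟶ Y)
    (hf : W4stk3decentspacesp2.IsBirational f)
    {V : Over S} (b : (yon S).obj V ⟶ Y) (hb : RepWith @IsOpenImmersion b) (v : V.left)
    (hv : Points.ofPt b v ∈ genericPoints (Points Y)) {P : Sp S} (fst : P ⟶ X)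
    (snd : P ⟶ (yon S).obj (Over.mk (V.left.fromSpecStalk v ≫ V.hom)))
    (hP : IsPullback fst snd f
      ((yon S).map (Over.homMk (V.left.fromSpecStalk v) rfl) ≫ b)) : IsIso snd := by
  let T : Over S := Over.mk (V.left.fromSpecStalk v ≫ V.hom)
  let τ : T ⟶ V := Over.homMk (V.left.fromSpecStalk v) rfl
  haveI : Mono b := mono_of_repWith_isOpenImmersion b hb
  obtain ⟨x₀, hx₀, hx₀y⟩ := hf.bijOn.surjOn hv
  obtain ⟨U, V₁, a, b₁, g, u, ha, hb₁, comm, hu, hiso⟩ := hf.stalkIso x₀ hx₀
  -- `U₁ = U ×_Y V`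
  have sq1 := hb.rep.isPullback' (a ≫ f)
  set U₁ := hb.rep.pullback (a ≫ f) with hU₁
  set g₁ : U₁ ⟶ V := hb.rep.fst' (a ≫ f) with hg₁
  set ι₁ : U₁ ⟶ U := hb.rep.snd (a ≫ f) with hι₁
  haveI hι₁o : IsOpenImmersion ι₁.left := hb.property_snd (a ≫ f)
  have hpt : Points.ofPt b v = Points.ofPt (a ≫ f) u := by
    rw [← Points.map_ofPt, hu, hx₀y]
  obtain ⟨u₁, hu₁v, hu₁u⟩ := exists_of_ofPt_eq sq1 v u hpt
  obtain ⟨_, ⟨W₂, hW₂, rfl⟩, hu₁W₂, -⟩ :=
    U₁.left.isBasis_affineOpens.exists_subset_of_mem_open (Set.mem_univ u₁) isOpen_univ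
  let W₂' : U₁.left.Opens := W₂
  haveI : IsAffine (opSub U₁ W₂').left := (show IsAffineOpen W₂' from hW₂)
  set a₂ : (yon S).obj (opSub U₁ W₂') ⟶ X :=
    (yon S).map (opι U₁ W₂') ≫ (yon S).map ι₁ ≫ a with ha₂def
  have ha₂ : RepWith @IsOpenImmersion a₂ :=
    (RepWith @IsOpenImmersion).comp_mem _ _
      ((repWith_yon_map_iff _ _).2 (inferInstance : IsOpenImmersion W₂'.ι))
      ((RepWith @IsOpenImmersion).comp_mem _ _ ((repWith_yon_map_iff _ _).2 hι₁o) ha)
  set g₂ : opSub U₁ W₂' ⟶ V := opι U₁ W₂' ≫ g₁ with hg₂def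
  have hcomm₂ : a₂ ≫ f = (yon S).map g₂ ≫ b := by
    rw [ha₂def, Category.assoc, Category.assoc, ← sq1.w, hg₂def, Functor.map_comp,
      Category.assoc]
  let u_a : (opSub U₁ W₂').left := (⟨u₁, hu₁W₂⟩ : (W₂' : Scheme.{u}))
  have hua : Points.ofPt a₂ u_a = x₀ := by
    rw [ha₂def, ofPt_comp_yon_map, ofPt_comp_yon_map]
    change Points.ofPt a (ι₁.left u₁) = x₀
    rw [hu₁u, hu]
  have hgu : g₂.left u_a = v := hu₁v
  have hiso₂ : IsIso (g₂.left.stalkMap u_a) :=
    isIso_stalkMap_of_chart f a b₁ g ha hb₁ comm u hiso a₂ b g₂ ha₂ hb hcomm₂ u_a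
      (hu.trans hua.symm)
  have hvmax : v ∈ maxPts V.left := (ofPt_mem_genericPoints_iff hY hYd b hb v).1 hv
  have hc0y : HasAt (fun U u => ringKrullDim ↥(U.presheaf.stalk u) = 0) Y (Points.ofPt b v) :=
    (mem_genericPoints_iff hY hYd _).1 hv
  have hfib : ∀ u' : (opSub U₁ W₂').left, g₂.left u' ⤳ v → u' = u_a := by
    intro u' hsp
    have h1 : g₂.left u' = v := (hsp.antisymm (hvmax _ hsp)).eq
    have h2 : Points.map f (Points.ofPt a₂ u') = Points.ofPt b v := by
      rw [Points.map_ofPt, hcomm₂, ofPt_comp_yon_map, h1]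
    have h3 : Points.ofPt a₂ u' ∈ genericPoints (Points X) :=
      (mem_genericPoints_iff hX hXd _).2
        (c0_of_map_c0 hX hY hXd hYd f hf _ (by rw [h2]; exact hc0y))
    have h4 : Points.ofPt a₂ u' = x₀ := hf.bijOn.injOn h3 hx₀ (h2.trans hx₀y.symm)
    exact ofPt_injective_of_isOpenImmersion hX a₂ ha₂ (h4.trans hua.symm)
  -- all points of `P` map to `x₀`
  have hPx₀ : ∀ p : Points P, Points.map fst p = x₀ := by
    intro p
    obtain ⟨t, ht⟩ := (Points.schemeEquiv T).surjective (Points.map snd p)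
    have ht' : Points.map snd p = Points.ofScheme T t := ht.symm
    have h1 : Points.map f (Points.map fst p) = Points.ofPt b (τ.left t) := by
      rw [← Points.map_comp, hP.w, Points.map_comp, ht', ← Points.ofPt_eq_map_ofScheme,
        ofPt_comp_yon_map]
    have h2 : τ.left t = v := by
      have hsp : τ.left t ⤳ v := by
        have h2' : ∀ t', V.left.fromSpecStalk v t' ∈ {y | y ⤳ v} := by
          intro t'
          rw [← Scheme.range_fromSpecStalk]
          exact ⟨t', rfl⟩
        exact h2' t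
      exact (hsp.antisymm (hvmax _ hsp)).eq
    rw [h2] at h1
    have h3 : Points.map fst p ∈ genericPoints (Points X) :=
      (mem_genericPoints_iff hX hXd _).2
        (c0_of_map_c0 hX hY hXd hYd f hf _ (by rw [h1]; exact hc0y))
    exact hf.bijOn.injOn h3 hx₀ (h1.trans hx₀y.symm)
  -- `fst` factors through the affine chart
  have sqA := IsPullback.of_hasPullback a₂ fst
  have hsndA : RepWith @IsOpenImmersion (pullback.snd a₂ fst) :=
    (RepWith @IsOpenImmersion).of_isPullback sqA ha₂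
  have hsurjA : IsSurjectiveMor (pullback.snd a₂ fst) := by
    intro p
    obtain ⟨r, -, hr⟩ := exists_point_of_isPullback sqA (Points.ofScheme _ u_a) p
      (by rw [← Points.ofPt_eq_map_ofScheme, hua, hPx₀])
    exact ⟨r, hr⟩
  haveI : IsIso (pullback.snd a₂ fst) := isIso_of_repWith_isOpenImmersion_surjective _ hsndA
    (repWith_surjective_of_isSurjectiveMor _ hsndA.rep hsurjA)
  set lP : P ⟶ (yon S).obj (opSub U₁ W₂') :=
    inv (pullback.snd a₂ fst) ≫ pullback.fst a₂ fst with hlPdef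
  have hlP : lP ≫ a₂ = fst := by
    rw [hlPdef, Category.assoc, pullback.condition, IsIso.inv_hom_id_assoc]
  haveI : Mono a₂ := mono_of_repWith_isOpenImmersion a₂ ha₂
  have sqB : IsPullback lP snd ((yon S).map g₂) ((yon S).map τ) :=
    isPullback_of_mono_factor hP a₂ ((yon S).map g₂) hcomm₂ lP hlP
  -- the pullback of schemes
  let Zo : Over S := Over.mk (pullback.fst g₂.left τ.left ≫ (opSub U₁ W₂').hom)
  let pfst : Zo ⟶ opSub U₁ W₂' := Over.homMk (pullback.fst g₂.left τ.left) rfl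
  let psnd : Zo ⟶ T := Over.homMk (pullback.snd g₂.left τ.left) (by
    change pullback.snd g₂.left τ.left ≫ T.hom =
      pullback.fst g₂.left τ.left ≫ (opSub U₁ W₂').hom
    rw [← CategoryTheory.Over.w g₂, ← Category.assoc, pullback.condition, Category.assoc,
      CategoryTheory.Over.w τ])
  have sqZ : IsPullback pfst psnd g₂ τ :=
    IsPullback.of_map_of_faithful (Over.forget S) (IsPullback.of_hasPullback g₂.left τ.left)
  have sqZ' := sqZ.map (yon S)
  have e : (sqB.isoIsPullback _ _ sqZ').hom ≫ (yon S).map psnd = snd :=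
    IsPullback.isoIsPullback_hom_snd _ _ sqB sqZ'
  haveI : IsIso ((Over.forget S).map psnd) :=
    isIso_pullback_snd_fromSpecStalk' g₂.left u_a v hgu hfib hiso₂
  haveI : IsIso psnd := isIso_of_reflects_iso psnd (Over.forget S)
  rw [← e]
  infer_instance

end Groth.Agent.Helper15.Bir
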