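import Mathlib
import Groth.Prelude
import Groth.Agent.Lib.Helper15.Bir11

/-!
# Integral birational morphisms onto normal schemes: the ring-theoretic core
-/

set_option autoImplicit false
universe u
open CategoryTheory CategoryTheory.Limits AlgebraicGeometry MorphismProperty Opposite

namespace Groth.Agent.Helper15.Bir

section Alg3

variable {A B : Type u} [CommRing A] [CommRing B] [Algebra A B]

/-- If `q` is the only prime over `p = q ∩ A` and `A_p → B_q` is bijective, every element of
`B` becomes an element of `A` after multiplication by some element outside `p`. -/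
theorem exists_mul_eq_of_bijective_localRingHom [Algebra.IsIntegral A B] (q : Ideal B) [q.IsPrime]
    (huniq : ∀ q' : Ideal B, q'.IsPrime →
      q'.comap (algebraMap A B) = q.comap (algebraMap A B) → q' = q)
    (hbij : haveI : (q.comap (algebraMap A B)).IsPrime := Ideal.comap_isPrime _ _
      Function.Bijective (Localization.localRingHom (q.comap (algebraMap A B)) q
        (algebraMap A B) rfl)) (b : B) :
    ∃ s : A, s ∉ q.comap (algebraMap A B) ∧ ∃ a, algebraMap A B a = algebraMap A B s * b := by
  haveI hpp : (q.comap (algebraMap A B)).IsPrime := Ideal.comap_isPrime _ _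
  set p := q.comap (algebraMap A B) with hpdef
  obtain ⟨x, hx⟩ := hbij.2 (algebraMap B (Localization.AtPrime q) b)
  obtain ⟨a, s, rfl⟩ := IsLocalization.exists_mk'_eq p.primeCompl x
  rw [Localization.localRingHom_mk'] at hx
  rw [IsLocalization.mk'_eq_iff_eq_mul, ← map_mul, IsLocalization.eq_iff_exists q.primeCompl] at hx
  obtain ⟨t, ht⟩ := hx
  obtain ⟨s', hs', b', hb'⟩ := exists_mul_eq_algebraMap q huniq t.1 t.2
  refine ⟨s' * s, ?_, s' * a, ?_⟩
  · exact fun h => (hpp.mem_or_mem h).elim hs' s.2
  · rw [map_mul, map_mul, hb']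
    have : (t : B) * algebraMap A B a = t * (b * algebraMap A B s) := ht
    calc (t : B) * b' * algebraMap A B a = b' * (t * algebraMap A B a) := by ring
      _ = b' * (t * (b * algebraMap A B s)) := by rw [this]
      _ = (t : B) * b' * algebraMap A B s * b := by ring

/-- The ideal of elements of `A` multiplying `b` into the image of `A`. -/
def conductor (b : B) : Ideal A where
  carrier := {s | ∃ a, algebraMap A B a = algebraMap A B s * b}
  add_mem' := by
    rintro s₁ s₂ ⟨a₁, h₁⟩ ⟨a₂, h₂⟩
    exact ⟨a₁ + a₂, by rw [map_add, map_add, h₁, h₂, add_mul]⟩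
  zero_mem' := ⟨0, by simp⟩
  smul_mem' := by
    rintro c s ⟨a, h⟩
    exact ⟨c * a, by rw [smul_eq_mul, map_mul, map_mul, h, mul_assoc]⟩

theorem mem_conductor (b : B) (s : A) :
    s ∈ conductor (A := A) b ↔ ∃ a, algebraMap A B a = algebraMap A B s * b := Iff.rfl

/-- If the localization at `m` is a domain, the only minimal prime contained in `m` is the
kernel of the localization map. -/
theorem eq_ker_of_minimalPrimes_le (m : Ideal A) [m.IsPrime] [IsDomain (Localization.AtPrime m)]
    (η : Ideal A) (hη : η ∈ minimalPrimes A) (hle : η ≤ m) :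
    η = RingHom.ker (algebraMap A (Localization.AtPrime m)) := by
  haveI hηp : η.IsPrime := hη.1.1
  have h1 : RingHom.ker (algebraMap A (Localization.AtPrime m)) ≤ η := by
    intro a ha
    rw [RingHom.mem_ker] at ha
    obtain ⟨t, ht⟩ := (IsLocalization.map_eq_zero_iff m.primeCompl _ a).1 ha
    have : (t : A) * a ∈ η := by rw [ht]; exact η.zero_mem
    exact (hηp.mem_or_mem this).resolve_left (fun h => t.2 (hle h))
  haveI : (RingHom.ker (algebraMap A (Localization.AtPrime m))).IsPrime := RingHom.ker_isPrime _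
  exact le_antisymm (hη.2 ⟨inferInstance, bot_le⟩ h1) h1

/-- **An integral, birational extension of a normal ring by a reduced ring is trivial.** -/
theorem bijective_of_integral_of_normal [Algebra.IsIntegral A B] [IsReduced A] [IsReduced B]
    (hnorm : ∀ m : Ideal A, ∀ [m.IsMaximal],
      IsDomain (Localization.AtPrime m) ∧ IsIntegrallyClosed (Localization.AtPrime m))
    (hmin : ∀ q' ∈ minimalPrimes B, q'.comap (algebraMap A B) ∈ minimalPrimes A)
    (hgen : ∀ (η : Ideal A) [η.IsPrime], η ∈ minimalPrimes A →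
      ∃ (q : Ideal B) (_ : q.IsPrime) (hpq : η = q.comap (algebraMap A B)),
        (∀ q' : Ideal B, q'.IsPrime → q'.comap (algebraMap A B) = η → q' = q) ∧
        Function.Bijective (Localization.localRingHom η q (algebraMap A B) hpq)) :
    Function.Bijective (algebraMap A B) := by
  have hinj : Function.Injective (algebraMap A B) := by
    rw [injective_iff_map_eq_zero]
    intro a ha
    have hnil : a ∈ sInf (minimalPrimes A) := by
      rw [Ideal.mem_sInf]
      intro η hη
      haveI : η.IsPrime := hη.1.1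
      obtain ⟨q, hq, hpq, -, -⟩ := hgen η hη
      rw [hpq, Ideal.mem_comap, ha]
      exact q.zero_mem
    have h0 : sInf (minimalPrimes A) = ⊥ := by
      change sInf (⊥ : Ideal A).minimalPrimes = ⊥
      rw [Ideal.sInf_minimalPrimes]
      exact nilradical_eq_zero A
    rw [h0] at hnil
    exact hnil
  refine ⟨hinj, ?_⟩
  intro b
  by_contra hb
  have hI : conductor (A := A) b ≠ ⊤ := by
    intro h
    have h1 : (1 : A) ∈ conductor (A := A) b := by rw [h]; trivial
    obtain ⟨a, ha⟩ := h1
    exact hb ⟨a, by rw [ha, map_one, one_mul]⟩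
  obtain ⟨m, hm, hIm⟩ := Ideal.exists_le_maximal _ hI
  haveI := hm
  obtain ⟨hdom, hic⟩ := hnorm m
  haveI := hdom; haveI := hic
  obtain ⟨η, hη, hηm⟩ := Ideal.exists_minimalPrimes_le (I := ⊥) (J := m) bot_le
  haveI hηp : η.IsPrime := hη.1.1
  obtain ⟨q, hq, hpq, huniq, hbij⟩ := hgen η hη
  haveI := hq
  subst hpq
  obtain ⟨s₁, hs₁, a₁, ha₁⟩ := exists_mul_eq_of_bijective_localRingHom q huniq hbij b
  -- integrality
  obtain ⟨P, hPm, hP⟩ := Algebra.IsIntegral.isIntegral (R := A) b
  have hQ : Polynomial.eval a₁ (Polynomial.scaleRoots P s₁) = 0 := by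
    apply hinj
    rw [map_zero, ← Polynomial.eval₂_hom, ha₁, Polynomial.scaleRoots_eval₂_mul, hP, mul_zero]
  have hιs : algebraMap A (Localization.AtPrime m) s₁ ≠ 0 := by
    intro h0
    obtain ⟨t, ht⟩ := (IsLocalization.map_eq_zero_iff m.primeCompl _ s₁).1 h0
    have : (t : A) * s₁ ∈ q.comap (algebraMap A B) := by rw [ht]; exact Ideal.zero_mem _
    rcases hηp.mem_or_mem this with h | h
    · exact t.2 (hηm h)
    · exact hs₁ h
  let K := FractionRing (Localization.AtPrime m)
  let f : A →+* K :=
    (algebraMap (Localization.AtPrime m) K).comp (algebraMap A (Localization.AtPrime m))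
  have hfs : f s₁ ≠ 0 := by
    intro h
    exact hιs ((IsFractionRing.injective (Localization.AtPrime m) K) (by rw [map_zero]; exact h))
  have hx : Polynomial.eval₂ f (f a₁ / f s₁) P = 0 := by
    have h1 := Polynomial.scaleRoots_eval₂_mul (p := P) f (f a₁ / f s₁) s₁
    rw [mul_div_cancel₀ _ hfs, Polynomial.eval₂_hom, hQ, map_zero] at h1
    exact (mul_eq_zero.1 h1.symm).resolve_left (pow_ne_zero _ hfs)
  have hint : IsIntegral (Localization.AtPrime m) (f a₁ / f s₁) := by
    refine ⟨P.map (algebraMap A (Localization.AtPrime m)), hPm.map _, ?_⟩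
    rw [Polynomial.eval₂_map]
    exact hx
  obtain ⟨y, hy⟩ := IsIntegrallyClosed.algebraMap_eq_of_integral hint
  have hy2 : y * algebraMap A (Localization.AtPrime m) s₁ =
      algebraMap A (Localization.AtPrime m) a₁ := by
    apply IsFractionRing.injective (Localization.AtPrime m) K
    rw [map_mul, hy]
    exact div_mul_cancel₀ _ hfs
  obtain ⟨a₂, t₂, rfl⟩ := IsLocalization.exists_mk'_eq m.primeCompl y
  have h2 : algebraMap A (Localization.AtPrime m) (a₂ * s₁) =
      algebraMap A (Localization.AtPrime m) (t₂ * a₁) := by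
    rw [map_mul, map_mul, ← hy2, ← mul_assoc, IsLocalization.mk'_spec']
  obtain ⟨t₃, ht₃⟩ := (IsLocalization.eq_iff_exists m.primeCompl _).1 h2
  set d : B := algebraMap A B (t₃ * t₂) * b - algebraMap A B (t₃ * a₂) with hddef
  have hd : algebraMap A B s₁ * d = 0 := by
    have e1 : algebraMap A B (t₃ * (a₂ * s₁)) = algebraMap A B (t₃ * (t₂ * a₁)) := by rw [ht₃]
    simp only [map_mul] at e1
    simp only [hddef, map_mul]
    linear_combination (-(algebraMap A B t₃ * algebraMap A B t₂)) * ha₁ - e1
  have hclaim : ∃ t₄ : A, t₄ ∉ m ∧ algebraMap A B t₄ * d = 0 := by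
    by_contra hno
    push Not at hno
    let M' : Submonoid B := Submonoid.powers d ⊔ Algebra.algebraMapSubmonoid B m.primeCompl
    have hdisj : Disjoint (((⊥ : Ideal B) : Set B)) (M' : Set B) := by
      rw [Set.disjoint_left]
      intro x hx hxM
      have hx0 : x = 0 := hx
      subst hx0
      obtain ⟨y, ⟨k, rfl⟩, z, ⟨t, ht, rfl⟩, hyz⟩ := Submonoid.mem_sup.1 hxM
      have hpow : (algebraMap A B t * d) ^ (k + 1) = 0 := by
        have : (algebraMap A B t * d) ^ (k + 1) =
            algebraMap A B t ^ k * d * (d ^ k * algebraMap A B t) := by ring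
        rw [this]
        have hyz' : d ^ k * algebraMap A B t = 0 := hyz
        rw [hyz', mul_zero]
      exact hno t ht (IsReduced.eq_zero _ ⟨k + 1, hpow⟩)
    obtain ⟨Q, hQp, -, hQd⟩ := Ideal.exists_le_prime_disjoint (⊥ : Ideal B) M' hdisj
    haveI := hQp
    obtain ⟨q', hq', hq'Q⟩ := Ideal.exists_minimalPrimes_le (I := ⊥) (J := Q) bot_le
    haveI hq'p : q'.IsPrime := hq'.1.1
    have hdq' : d ∉ q' := by
      intro h
      refine Set.disjoint_left.1 hQd (hq'Q h) ?_
      exact (le_sup_left : Submonoid.powers d ≤ M') (Submonoid.mem_powers d)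
    have htq' : ∀ t : A, t ∉ m → algebraMap A B t ∉ q' := by
      intro t ht h
      refine Set.disjoint_left.1 hQd (hq'Q h) ?_
      exact (le_sup_right : Algebra.algebraMapSubmonoid B m.primeCompl ≤ M') ⟨t, ht, rfl⟩
    have hs₁q' : algebraMap A B s₁ ∈ q' := by
      have : algebraMap A B s₁ * d ∈ q' := by rw [hd]; exact q'.zero_mem
      exact (hq'p.mem_or_mem this).resolve_right hdq'
    have hη' := hmin q' hq'
    have hη'm : q'.comap (algebraMap A B) ≤ m := by
      intro a ha
      by_contra ham
      exact htq' a ham ha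
    have e1 := eq_ker_of_minimalPrimes_le m _ hη' hη'm
    have e2 := eq_ker_of_minimalPrimes_le m _ hη hηm
    apply hs₁
    rw [e2, ← e1]
    exact hs₁q'
  obtain ⟨t₄, ht₄, ht₄d⟩ := hclaim
  have hmem : t₄ * (t₃ * t₂) ∈ conductor (A := A) b := by
    refine ⟨t₄ * (t₃ * a₂), ?_⟩
    rw [map_mul, map_mul (algebraMap A B) t₄ (t₃ * t₂)]
    rw [hddef] at ht₄d
    linear_combination (-1 : B) * ht₄d
  have hmem' := hIm hmem
  rcases hm.isPrime.mem_or_mem hmem' with h | h
  · exact ht₄ h
  · rcases hm.isPrime.mem_or_mem h with h | h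
    · exact t₃.2 h
    · exact t₂.2 h

end Alg3

end Groth.Agent.Helper15.Bir
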