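import Mathlib
import Groth.Prelude
import Groth.Agent.Lib.Helper15.Bir12

/-!
# Integral birational morphisms onto normal affine schemes are isomorphisms
-/

set_option autoImplicit false
universe u
open CategoryTheory CategoryTheory.Limits AlgebraicGeometry MorphismProperty Opposite

namespace Groth.Agent.Helper15.Bir

open Groth.Agent.Helper15.MaxPts

theorem primeIdealOf_mem_minimalPrimes_iff {X : Scheme.{u}} {U : X.Opens} (hU : IsAffineOpen U)
    (x : U) : (hU.primeIdealOf x).asIdeal ∈ minimalPrimes Γ(X, U) ↔ x.1 ∈ maxPts X := by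
  constructor
  · intro h z hz
    have hzU : z ∈ U := hz.mem_open U.isOpen x.2
    have h1 := (specializes_iff_primeIdealOf_le hU ⟨z, hzU⟩ x).1 hz
    have h2 := h.2 ⟨(hU.primeIdealOf ⟨z, hzU⟩).isPrime, bot_le⟩ h1
    exact (specializes_iff_primeIdealOf_le hU x ⟨z, hzU⟩).2 h2
  · intro hv
    refine ⟨⟨(hU.primeIdealOf x).isPrime, bot_le⟩, ?_⟩
    intro p' hp' hle
    obtain ⟨y, hy⟩ := exists_primeIdealOf_eq hU ⟨p', hp'.1⟩
    have h1 : (y : X) ⤳ x.1 :=
      (specializes_iff_primeIdealOf_le hU y x).2 (by rw [hy]; exact hle)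
    have h2 : x.1 ⤳ (y : X) := hv _ h1
    have := (specializes_iff_primeIdealOf_le hU x y).1 h2
    rw [hy] at this
    exact this

theorem localization_atPrime_normal {X : Scheme.{u}} {U : X.Opens} (hU : IsAffineOpen U)
    (hn : ∀ v : X, IsDomain (X.presheaf.stalk v) ∧ IsIntegrallyClosed (X.presheaf.stalk v))
    (m : Ideal Γ(X, U)) [hmp : m.IsPrime] :
    IsDomain (Localization.AtPrime m) ∧ IsIntegrallyClosed (Localization.AtPrime m) := by
  obtain ⟨x, hx⟩ := exists_primeIdealOf_eq hU ⟨m, hmp⟩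
  letI := X.presheaf.algebra_section_stalk x
  haveI h1 := hU.isLocalization_stalk x
  rw [hx] at h1
  change IsLocalization.AtPrime (X.presheaf.stalk x.1) m at h1
  obtain ⟨hd, hic⟩ := hn x.1
  let e : Localization.AtPrime m ≃ₐ[Γ(X, U)] X.presheaf.stalk x.1 :=
    IsLocalization.algEquiv m.primeCompl _ _
  exact ⟨e.toRingEquiv.toMulEquiv.isDomain _, IsIntegrallyClosed.of_equiv e.symm.toRingEquiv⟩

/-- The prime-ideal data attached to a maximal point of the source of a birational affine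
morphism to an affine scheme. -/
theorem SchBir.prime_data {W V : Scheme.{u}} (i : W ⟶ V) [IsAffineHom i] [IsAffine V]
    (hb : SchBir i) (w : W) (hw : w ∈ maxPts W) :
    letI := (i.app ⊤).hom.toAlgebra
    ∃ (hpq : ((isAffineOpen_top V).primeIdealOf ⟨i w, trivial⟩).asIdeal =
        ((((isAffineOpen_top V).preimage i).primeIdealOf ⟨w, trivial⟩).asIdeal).comap
          (algebraMap Γ(V, ⊤) Γ(W, i ⁻¹ᵁ ⊤))),
      (∀ q' : Ideal Γ(W, i ⁻¹ᵁ ⊤), q'.IsPrime →
        q'.comap (algebraMap Γ(V, ⊤) Γ(W, i ⁻¹ᵁ ⊤)) =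
          ((isAffineOpen_top V).primeIdealOf ⟨i w, trivial⟩).asIdeal →
        q' = (((isAffineOpen_top V).preimage i).primeIdealOf ⟨w, trivial⟩).asIdeal) ∧
      Function.Bijective (Localization.localRingHom
        ((isAffineOpen_top V).primeIdealOf ⟨i w, trivial⟩).asIdeal
        (((isAffineOpen_top V).preimage i).primeIdealOf ⟨w, trivial⟩).asIdeal
        (algebraMap Γ(V, ⊤) Γ(W, i ⁻¹ᵁ ⊤)) hpq) := by
  have hU : IsAffineOpen (⊤ : V.Opens) := isAffineOpen_top V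
  have hW₀ : IsAffineOpen (i ⁻¹ᵁ ⊤) := hU.preimage i
  have hv : i w ∈ maxPts V := hb.bijOn.mapsTo hw
  have hwW₀ : w ∈ i ⁻¹ᵁ (⊤ : V.Opens) := trivial
  algebraize [(i.app ⊤).hom]
  set q := (hW₀.primeIdealOf ⟨w, hwW₀⟩).asIdeal with hq
  set p := (hU.primeIdealOf ⟨i w, trivial⟩).asIdeal with hp
  have hcomapLE := IsAffineOpen.comap_primeIdealOf_appLE ⊤ hU (i ⁻¹ᵁ ⊤) hW₀ le_rfl hwW₀
  have hpq : p = q.comap (algebraMap Γ(V, ⊤) Γ(W, i ⁻¹ᵁ ⊤)) := by
    have := congrArg PrimeSpectrum.asIdeal hcomapLE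
    rw [← Scheme.Hom.app_eq_appLE] at this
    exact this.symm
  have huniq : ∀ q' : Ideal Γ(W, i ⁻¹ᵁ ⊤), q'.IsPrime →
      q'.comap (algebraMap Γ(V, ⊤) Γ(W, i ⁻¹ᵁ ⊤)) = p → q' = q := by
    intro q' hq' hqq'
    obtain ⟨x, hx⟩ := exists_primeIdealOf_eq hW₀ ⟨q', hq'⟩
    have hc := IsAffineOpen.comap_primeIdealOf_appLE ⊤ hU (i ⁻¹ᵁ ⊤) hW₀ le_rfl x.2
    rw [← Scheme.Hom.app_eq_appLE] at hc
    have hix : i x.1 = i w := by
      have h1 : hU.primeIdealOf ⟨i x.1, trivial⟩ = hU.primeIdealOf ⟨i w, trivial⟩ := by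
        apply PrimeSpectrum.ext
        rw [← hc]
        have : (⟨x.1, x.2⟩ : (i ⁻¹ᵁ (⊤ : V.Opens) : W.Opens)) = x := Subtype.ext rfl
        rw [this, hx]
        exact hqq'
      have := primeIdealOf_injective hU h1
      exact congrArg Subtype.val this
    have hxmax : x.1 ∈ maxPts W := hb.mem_maxPts_of_map_mem (by rw [hix]; exact hv)
    have hxw : x.1 = w := hb.bijOn.injOn hxmax hw hix
    have : x = ⟨w, hwW₀⟩ := Subtype.ext hxw
    rw [this] at hx
    exact (congrArg PrimeSpectrum.asIdeal hx).symm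
  have hbij : Function.Bijective (Localization.localRingHom p q
      (algebraMap Γ(V, ⊤) Γ(W, i ⁻¹ᵁ ⊤)) hpq) := by
    have e := IsAffineOpen.arrowStalkMapIso i ⊤ hU (i ⁻¹ᵁ ⊤) hW₀ le_rfl hwW₀
    haveI : IsIso (i.stalkMap w) := hb.stalkIso w hw
    have h2 : IsIso (CommRingCat.ofHom (Localization.localRingHom p q
        (i.appLE ⊤ (i ⁻¹ᵁ ⊤) le_rfl).hom
        congr($(IsAffineOpen.comap_primeIdealOf_appLE ⊤ hU (i ⁻¹ᵁ ⊤) hW₀ le_rfl hwW₀).1).symm)) :=
      ((MorphismProperty.isomorphisms CommRingCat).arrow_mk_iso_iff e).1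
        (inferInstanceAs (IsIso (i.stalkMap w)))
    have h3 := (ConcreteCategory.isIso_iff_bijective _).1 h2
    exact bijective_localRingHom_congr p q _ _
      (congrArg CommRingCat.Hom.hom (Scheme.Hom.app_eq_appLE (f := i) (U := ⊤)).symm)
      congr($(IsAffineOpen.comap_primeIdealOf_appLE ⊤ hU (i ⁻¹ᵁ ⊤) hW₀ le_rfl hwW₀).1).symm hpq h3
  exact ⟨hpq, huniq, hbij⟩

/-- **An integral birational morphism from a reduced scheme to a normal affine scheme is an
isomorphism.** -/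
theorem isIso_of_isIntegralHom_of_normal {W V : Scheme.{u}} (i : W ⟶ V) [IsIntegralHom i]
    [IsAffine V] [IsReduced W]
    (hn : ∀ v : V, IsDomain (V.presheaf.stalk v) ∧ IsIntegrallyClosed (V.presheaf.stalk v))
    (hb : SchBir i) : IsIso i := by
  have hU : IsAffineOpen (⊤ : V.Opens) := isAffineOpen_top V
  have hW₀ : IsAffineOpen (i ⁻¹ᵁ ⊤) := hU.preimage i
  haveI : IsAffine W := isAffine_of_isAffineHom i
  haveI : IsReduced V := by
    haveI : ∀ x : V, _root_.IsReduced (V.presheaf.stalk x) := fun x => by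
      haveI := (hn x).1
      infer_instance
    exact isReduced_of_isReduced_stalk V
  have hint : (i.app ⊤).hom.IsIntegral := IsIntegralHom.isIntegral_app i ⊤ hU
  change (MorphismProperty.isomorphisms Scheme.{u}) i
  rw [HasAffineProperty.iff_of_isAffine (P := MorphismProperty.isomorphisms Scheme.{u})]
  refine ⟨inferInstance, ?_⟩
  change IsIso (i.app ⊤)
  rw [ConcreteCategory.isIso_iff_bijective]
  letI := (i.app ⊤).hom.toAlgebra
  haveI : Algebra.IsIntegral Γ(V, ⊤) Γ(W, i ⁻¹ᵁ ⊤) := ⟨hint⟩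
  change Function.Bijective (algebraMap Γ(V, ⊤) Γ(W, i ⁻¹ᵁ ⊤))
  refine bijective_of_integral_of_normal ?_ ?_ ?_
  · intro m hm
    exact localization_atPrime_normal hU hn m
  · intro q' hq'
    haveI hq'p : q'.IsPrime := hq'.1.1
    obtain ⟨x, hx⟩ := exists_primeIdealOf_eq hW₀ ⟨q', hq'p⟩
    have hxq : (hW₀.primeIdealOf x).asIdeal = q' := congrArg PrimeSpectrum.asIdeal hx
    have hxmax : x.1 ∈ maxPts W := (primeIdealOf_mem_minimalPrimes_iff hW₀ x).1 (by rw [hxq]; exact hq')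
    have hv : i x.1 ∈ maxPts V := hb.bijOn.mapsTo hxmax
    have h1 := (primeIdealOf_mem_minimalPrimes_iff hU ⟨i x.1, trivial⟩).2 hv
    have hc := IsAffineOpen.comap_primeIdealOf_appLE ⊤ hU (i ⁻¹ᵁ ⊤) hW₀ le_rfl x.2
    rw [← Scheme.Hom.app_eq_appLE] at hc
    have hc' := congrArg PrimeSpectrum.asIdeal hc
    have : (⟨x.1, x.2⟩ : (i ⁻¹ᵁ (⊤ : V.Opens) : W.Opens)) = x := Subtype.ext rfl
    rw [this] at hc'
    rw [← hxq]
    rw [← hc'] at h1
    exact h1
  · intro η hηp hη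
    obtain ⟨v, hv⟩ := exists_primeIdealOf_eq hU ⟨η, hηp⟩
    have hvη : (hU.primeIdealOf v).asIdeal = η := congrArg PrimeSpectrum.asIdeal hv
    have hvmax : v.1 ∈ maxPts V := (primeIdealOf_mem_minimalPrimes_iff hU v).1 (by rw [hvη]; exact hη)
    obtain ⟨w, hw, hwv⟩ := hb.bijOn.surjOn hvmax
    obtain ⟨hpq, huniq, hbij⟩ := SchBir.prime_data i hb w hw
    have hvv : v = (⟨i w, trivial⟩ : (⊤ : V.Opens)) := Subtype.ext hwv.symm
    subst hvv
    subst hvη
    exact ⟨_, inferInstance, hpq, huniq, hbij⟩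

end Groth.Agent.Helper15.Bir
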