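import Mathlib
import Groth.Prelude
import Groth.Agent.Lib.Helper15.Bir13

/-!
# From an isomorphism after base change to a local ring back to the local rings
-/

set_option autoImplicit false
universe u
open CategoryTheory CategoryTheory.Limits AlgebraicGeometry MorphismProperty Opposite

namespace Groth.Agent.Helper15.Bir

/-- If a base change has invertible second projection, so has every further base change. -/
theorem isIso_snd_of_factor {C : Type*} [Category C] {P X Y T T₀ P₀ : C} {fst : P ⟶ X}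
    {snd : P ⟶ T} {f : X ⟶ Y} {c : T ⟶ Y} (hP : IsPullback fst snd f c) (k : T ⟶ T₀)
    {c₀ : T₀ ⟶ Y} (hc : c = k ≫ c₀) {fst₀ : P₀ ⟶ X} {snd₀ : P₀ ⟶ T₀}
    (hP₀ : IsPullback fst₀ snd₀ f c₀) [IsIso snd₀] : IsIso snd := by
  have hw : (k ≫ inv snd₀ ≫ fst₀) ≫ f = 𝟙 T ≫ c := by
    rw [Category.assoc, Category.assoc, hP₀.w, IsIso.inv_hom_id_assoc, Category.id_comp, hc]
  have hm : fst ≫ f = (snd ≫ k) ≫ c₀ := by rw [hP.w, hc, Category.assoc]
  have h1 : hP₀.lift fst (snd ≫ k) hm = snd ≫ k ≫ inv snd₀ := by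
    rw [← Category.assoc, ← cancel_mono snd₀, Category.assoc (snd ≫ k), IsIso.inv_hom_id,
      Category.comp_id, hP₀.lift_snd]
  have h2 : snd ≫ k ≫ inv snd₀ ≫ fst₀ = fst := by
    have := hP₀.lift_fst fst (snd ≫ k) hm
    rw [h1] at this
    simpa only [Category.assoc] using this
  refine ⟨hP.lift (k ≫ inv snd₀ ≫ fst₀) (𝟙 T) hw, ?_, hP.lift_snd _ _ _⟩
  apply hP.hom_ext
  · rw [Category.assoc, hP.lift_fst, Category.id_comp, h2]
  · rw [Category.assoc, hP.lift_snd, Category.id_comp, Category.comp_id]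

/-- A morphism from the spectrum of a local ring factors through the spectrum of the local
ring of the image of the closed point. -/
theorem exists_SpecMap_comp_fromSpecStalk {U : Scheme.{u}} {R : CommRingCat.{u}} [IsLocalRing R]
    (σ : Spec R ⟶ U) (u : U) (hu : σ (IsLocalRing.closedPoint R) = u) :
    ∃ ψ : U.presheaf.stalk u ⟶ R, Spec.map ψ ≫ U.fromSpecStalk u = σ := by
  subst hu
  exact ⟨Scheme.stalkClosedPointTo σ, Scheme.Spec_stalkClosedPointTo_fromSpecStalk σ⟩

/-- If the base change of `g` to the local ring at `g u` is an isomorphism, then `g` induces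
an isomorphism of local rings at `u`. -/
theorem isIso_stalkMap_of_isIso_pullback_snd {U V : Scheme.{u}} (g : U ⟶ V) (u : U)
    [IsIso (pullback.snd g (V.fromSpecStalk (g u)))] : IsIso (g.stalkMap u) := by
  set τ := V.fromSpecStalk (g u) with hτ
  set σ : Spec (V.presheaf.stalk (g u)) ⟶ U := inv (pullback.snd g τ) ≫ pullback.fst g τ with hσ
  have hσg : σ ≫ g = τ := by
    rw [hσ, Category.assoc, pullback.condition, IsIso.inv_hom_id_assoc]
  set θ := Spec.map (g.stalkMap u) with hθdef
  have hθ : θ ≫ τ = U.fromSpecStalk u ≫ g := Scheme.SpecMap_stalkMap_fromSpecStalk g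
  have h1 : U.fromSpecStalk u = θ ≫ σ := by
    have e : pullback.lift (U.fromSpecStalk u) θ hθ.symm = θ ≫ inv (pullback.snd g τ) := by
      rw [← cancel_mono (pullback.snd g τ), Category.assoc, IsIso.inv_hom_id, Category.comp_id,
        pullback.lift_snd]
    have := pullback.lift_fst (U.fromSpecStalk u) θ hθ.symm
    rw [e] at this
    rw [hσ, ← Category.assoc]
    exact this.symm
  have hc : σ (IsLocalRing.closedPoint (V.presheaf.stalk (g u))) = u := by
    have h2 : (U.fromSpecStalk u) (IsLocalRing.closedPoint (U.presheaf.stalk u)) = u :=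
      Scheme.fromSpecStalk_closedPoint
    rw [h1, Scheme.Hom.comp_apply] at h2
    have h3 : θ (IsLocalRing.closedPoint (U.presheaf.stalk u)) =
        IsLocalRing.closedPoint (V.presheaf.stalk (g u)) := Spec_closedPoint
    rw [h3] at h2
    exact h2
  obtain ⟨ψ, hψ⟩ := exists_SpecMap_comp_fromSpecStalk σ u hc
  have e1 : θ ≫ Spec.map ψ = 𝟙 _ := by
    rw [← cancel_mono (U.fromSpecStalk u), Category.assoc, hψ, ← h1, Category.id_comp]
  have e2 : Spec.map ψ ≫ θ = 𝟙 _ := by
    rw [← cancel_mono τ, Category.assoc, hθ, ← Category.assoc, hψ, hσg, Category.id_comp]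
  haveI : IsIso θ := ⟨Spec.map ψ, e1, e2⟩
  exact (ConcreteCategory.isIso_iff_bijective _).2
    (isIso_SpecMap_iff.1 (show IsIso (Spec.map (g.stalkMap u)) from ‹IsIso θ›))

theorem isIso_stalkMap_of_isIso_pullback_snd' {U V : Scheme.{u}} (g : U ⟶ V) (u : U) (v : V)
    (hv : g u = v) (h : IsIso (pullback.snd g (V.fromSpecStalk v))) : IsIso (g.stalkMap u) := by
  subst hv
  exact isIso_stalkMap_of_isIso_pullback_snd g u

end Groth.Agent.Helper15.Bir
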