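import Mathlib
import Groth.Prelude
import Groth.Agent.Lib.Helper15.Bir14

/-!
# Birational morphisms: base change to the local ring of a maximal point of an étale chart
-/

set_option autoImplicit false
universe u
open CategoryTheory CategoryTheory.Limits AlgebraicGeometry MorphismProperty Opposite
open AlgSp Groth.Agent.Helper16.AS

namespace Groth.Agent.Helper15.Bir

open Groth.Agent.Helper15 Groth.Agent.Helper15.Strat Groth.Agent.Helper15.Norm
  Groth.Agent.Helper15.MaxPts Groth.Agent.Helper15.GenFin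

variable {S : Scheme.{u}}

/-- **The base change of a birational morphism to the local ring of a maximal point of an
étale chart of the target is an isomorphism.** -/
theorem isIso_snd_specStalk_etale {X Y : Sp S} (hX : IsAlgSpace X) (hY : IsAlgSpace Y)
    (hXd : IsDecent X) (hYd : IsDecent Y)
    (hYf : (irreducibleComponents (Points Y)).Finite)
    (f : X ⟶ Y) (hf : W4stk3decentspacesp2.IsBirational f)
    {V : Over S} (b : (yon S).obj V ⟶ Y) (hb : RepWith @Etale b) (v : V.left)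
    (hv : v ∈ maxPts V.left) {P : Sp S} (fst : P ⟶ X)
    (snd : P ⟶ (yon S).obj (Over.mk (V.left.fromSpecStalk v ≫ V.hom)))
    (hP : IsPullback fst snd f
      ((yon S).map (Over.homMk (V.left.fromSpecStalk v) rfl) ≫ b)) : IsIso snd := by
  have hc0 : HasAt (fun U u => ringKrullDim ↥(U.presheaf.stalk u) = 0) Y (Points.ofPt b v) :=
    (hasAt_c0_chart_iff b hb v).2 hv
  obtain ⟨V₀, hV₀aff, j₀, hj₀, hc0V₀⟩ := exists_affine_open_c0 hY hYd hYf
  obtain ⟨v₀, hv₀⟩ := hc0V₀ _ hc0
  have sq1 := hj₀.rep.isPullback' b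
  set V' := hj₀.rep.pullback b with hV'
  set π₀ : V' ⟶ V₀ := hj₀.rep.fst' b with hπ₀
  set π : V' ⟶ V := hj₀.rep.snd b with hπ
  haveI hπo : IsOpenImmersion π.left := hj₀.property_snd b
  obtain ⟨v', hv'₀, hv'⟩ := exists_of_ofPt_eq sq1 v₀ v hv₀
  subst hv'
  subst hv'₀
  have hgen₀ : Points.ofPt j₀ (π₀.left v') ∈ genericPoints (Points Y) :=
    (mem_genericPoints_iff hY hYd _).2 (by rw [hv₀]; exact hc0)
  -- the three local schemes
  let T : Over S := Over.mk (V.left.fromSpecStalk (π.left v') ≫ V.hom)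
  let T₀ : Over S := Over.mk (V₀.left.fromSpecStalk (π₀.left v') ≫ V₀.hom)
  let T' : Over S := Over.mk (V'.left.fromSpecStalk v' ≫ V'.hom)
  let τ : T ⟶ V := Over.homMk (V.left.fromSpecStalk (π.left v')) rfl
  let τ₀ : T₀ ⟶ V₀ := Over.homMk (V₀.left.fromSpecStalk (π₀.left v')) rfl
  let τ' : T' ⟶ V' := Over.homMk (V'.left.fromSpecStalk v') rfl
  have hθ : Spec.map (π.left.stalkMap v') ≫ V.left.fromSpecStalk (π.left v') =
      V'.left.fromSpecStalk v' ≫ π.left := Scheme.SpecMap_stalkMap_fromSpecStalk π.left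
  have hθ₀ : Spec.map (π₀.left.stalkMap v') ≫ V₀.left.fromSpecStalk (π₀.left v') =
      V'.left.fromSpecStalk v' ≫ π₀.left := Scheme.SpecMap_stalkMap_fromSpecStalk π₀.left
  let Θ : T' ⟶ T := Over.homMk (Spec.map (π.left.stalkMap v')) (by
    change Spec.map (π.left.stalkMap v') ≫ (V.left.fromSpecStalk (π.left v') ≫ V.hom) =
      V'.left.fromSpecStalk v' ≫ V'.hom
    rw [← Category.assoc, hθ, Category.assoc, CategoryTheory.Over.w π])
  let Θ₀ : T' ⟶ T₀ := Over.homMk (Spec.map (π₀.left.stalkMap v')) (by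
    change Spec.map (π₀.left.stalkMap v') ≫ (V₀.left.fromSpecStalk (π₀.left v') ≫ V₀.hom) =
      V'.left.fromSpecStalk v' ≫ V'.hom
    rw [← Category.assoc, hθ₀, Category.assoc, CategoryTheory.Over.w π₀])
  have hΘτ : Θ ≫ τ = τ' ≫ π := by
    apply (Over.forget S).map_injective
    exact hθ
  have hΘ₀τ₀ : Θ₀ ≫ τ₀ = τ' ≫ π₀ := by
    apply (Over.forget S).map_injective
    exact hθ₀
  haveI : IsIso ((Over.forget S).map Θ) := by
    change IsIso (Spec.map (π.left.stalkMap v'))
    infer_instance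
  haveI : IsIso Θ := isIso_of_reflects_iso Θ (Over.forget S)
  have hc : (yon S).map τ ≫ b = (yon S).map (inv Θ ≫ Θ₀) ≫ ((yon S).map τ₀ ≫ j₀) := by
    have h1 : τ = inv Θ ≫ τ' ≫ π := by rw [← hΘτ, IsIso.inv_hom_id_assoc]
    rw [h1, Functor.map_comp, Functor.map_comp, Category.assoc, Category.assoc, ← sq1.w,
      ← Category.assoc ((yon S).map τ'), ← Functor.map_comp, ← hΘ₀τ₀, Functor.map_comp,
      Functor.map_comp, Category.assoc, Category.assoc]
  haveI : IsIso (pullback.snd f ((yon S).map τ₀ ≫ j₀)) :=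
    isIso_snd_specStalk hX hY hXd hYd f hf j₀ hj₀ (π₀.left v') hgen₀ _ _
      (IsPullback.of_hasPullback f ((yon S).map τ₀ ≫ j₀))
  exact isIso_snd_of_factor hP ((yon S).map (inv Θ ≫ Θ₀)) hc
    (IsPullback.of_hasPullback f ((yon S).map τ₀ ≫ j₀))

end Groth.Agent.Helper15.Bir
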