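import Mathlib
import Groth.Prelude
import Groth.Agent.Lib.Helper15.Bir15
import Groth.Agent.Lib.Helper15.AlgSpDecent2
import Groth.Agent.Lib.Helper15.AlgSpEtCl

/-!
# Birational morphisms are stable under étale base change to an affine scheme
-/

set_option autoImplicit false
universe u
open CategoryTheory CategoryTheory.Limits AlgebraicGeometry MorphismProperty Opposite
open AlgSp Groth.Agent.Helper16.AS

namespace Groth.Agent.Helper15.Bir

open Groth.Agent.Helper15 Groth.Agent.Helper15.Strat Groth.Agent.Helper15.Norm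
  Groth.Agent.Helper15.MaxPts Groth.Agent.Helper15.GenFin

variable {S : Scheme.{u}}

/-- Codimension zero points of an étale base change of a birational morphism. -/
theorem c0_baseChange_iff {X Y : Sp S} (hX : IsAlgSpace X) (hY : IsAlgSpace Y)
    (hXd : IsDecent X) (hYd : IsDecent Y) (f : X ⟶ Y)
    (hf : W4stk3decentspacesp2.IsBirational f) {V : Over S}
    (b : (yon S).obj V ⟶ Y) (hb : RepWith @Etale b) {P : Sp S} (fst : P ⟶ X)
    (snd : P ⟶ (yon S).obj V) (hP : IsPullback fst snd f b) (p : Points P) (v : V.left)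
    (hpv : Points.map snd p = Points.ofScheme V v) :
    HasAt (fun U u => ringKrullDim ↥(U.presheaf.stalk u) = 0) P p ↔ v ∈ maxPts V.left := by
  have hPsp : IsAlgSpace P := isAlgSpace_of_isPullback hY.diag hX (IsAlgSpace.yon_obj V) hP
  have hfst : RepWith @Etale fst := (RepWith @Etale).of_isPullback hP.flip hb
  have hfste : IsEtaleMor fst := isEtaleMor_of_repWith_etale fst hfst
  rw [hasAt_iff_of_isEtaleMor (etInv_ringKrullDim_stalk 0) hPsp fst hfste p,
    hpre_of_isBirational hX hY hXd hYd f hf, ← hasAt_c0_chart_iff b hb v]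
  have : Points.map f (Points.map fst p) = Points.ofPt b v := by
    rw [← Points.map_comp, hP.w, Points.map_comp, hpv, ← Points.ofPt_eq_map_ofScheme]
  rw [this]

/-- The base change of `P ⟶ V` to the local ring of a maximal point of `V` is an
isomorphism. -/
theorem isIso_pullback_snd_specStalk {X Y : Sp S} (hX : IsAlgSpace X) (hY : IsAlgSpace Y)
    (hXd : IsDecent X) (hYd : IsDecent Y)
    (hYf : (irreducibleComponents (Points Y)).Finite) (f : X ⟶ Y)
    (hf : W4stk3decentspacesp2.IsBirational f) {V : Over S}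
    (b : (yon S).obj V ⟶ Y) (hb : RepWith @Etale b) {P : Sp S} (fst : P ⟶ X)
    (snd : P ⟶ (yon S).obj V) (hP : IsPullback fst snd f b) (v : V.left)
    (hv : v ∈ maxPts V.left) :
    IsIso (pullback.snd snd ((yon S).map
      (Over.homMk (U := Over.mk (V.left.fromSpecStalk v ≫ V.hom)) (V.left.fromSpecStalk v) rfl))) := by
  have sq := (IsPullback.of_hasPullback snd ((yon S).map
      (Over.homMk (U := Over.mk (V.left.fromSpecStalk v ≫ V.hom))
        (V.left.fromSpecStalk v) rfl))).paste_horiz hP
  exact isIso_snd_specStalk_etale hX hY hXd hYd hYf f hf b hb v hv _ _ sq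

theorem injective_points_map_of_isIso {F G : Sp S} (e : F ⟶ G) [IsIso e] :
    Function.Injective (Points.map e) := by
  intro x y hxy
  have := congrArg (Points.map (inv e)) hxy
  rwa [← Points.map_comp, ← Points.map_comp, IsIso.hom_inv_id, Points.map_id, Points.map_id]
    at this

/-- Over a maximal point of `V` the space `P` has at most one point. -/
theorem eq_of_map_snd_eq {X Y : Sp S} (hX : IsAlgSpace X) (hY : IsAlgSpace Y)
    (hXd : IsDecent X) (hYd : IsDecent Y)
    (hYf : (irreducibleComponents (Points Y)).Finite) (f : X ⟶ Y)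
    (hf : W4stk3decentspacesp2.IsBirational f) {V : Over S}
    (b : (yon S).obj V ⟶ Y) (hb : RepWith @Etale b) {P : Sp S} (fst : P ⟶ X)
    (snd : P ⟶ (yon S).obj V) (hP : IsPullback fst snd f b) (v : V.left)
    (hv : v ∈ maxPts V.left) (p p' : Points P) (hp : Points.map snd p = Points.ofScheme V v)
    (hp' : Points.map snd p' = Points.ofScheme V v) : p = p' := by
  let T : Over S := Over.mk (V.left.fromSpecStalk v ≫ V.hom)
  let τ : T ⟶ V := Over.homMk (V.left.fromSpecStalk v) rfl
  haveI : IsIso (pullback.snd snd ((yon S).map τ)) :=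
    isIso_pullback_snd_specStalk hX hY hXd hYd hYf f hf b hb fst snd hP v hv
  have sq := IsPullback.of_hasPullback snd ((yon S).map τ)
  let c : T.left := IsLocalRing.closedPoint (V.left.presheaf.stalk v)
  have hc : Points.map ((yon S).map τ) (Points.ofScheme T c) = Points.ofScheme V v := by
    rw [← Points.ofPt_eq_map_ofScheme, ofPt_yon_map]
    congr 1
    exact Scheme.fromSpecStalk_closedPoint
  obtain ⟨r, hr1, hr2⟩ := exists_point_of_isPullback sq p (Points.ofScheme T c) (hp.trans hc.symm)
  obtain ⟨r', hr'1, hr'2⟩ :=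
    exists_point_of_isPullback sq p' (Points.ofScheme T c) (hp'.trans hc.symm)
  have : r = r' := injective_points_map_of_isIso _ (hr2.trans hr'2.symm)
  rw [← hr1, ← hr'1, this]

/-- An open subscheme chart of `P` induces an isomorphism of local rings at every point over
a maximal point of `V`. -/
theorem isIso_stalkMap_chart_baseChange {X Y : Sp S} (hX : IsAlgSpace X) (hY : IsAlgSpace Y)
    (hXd : IsDecent X) (hYd : IsDecent Y)
    (hYf : (irreducibleComponents (Points Y)).Finite) (f : X ⟶ Y)
    (hf : W4stk3decentspacesp2.IsBirational f) {V : Over S}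
    (b : (yon S).obj V ⟶ Y) (hb : RepWith @Etale b) {P : Sp S} (fst : P ⟶ X)
    (snd : P ⟶ (yon S).obj V) (hP : IsPullback fst snd f b) {U₀ : Over S}
    (a₀ : (yon S).obj U₀ ⟶ P) (ha₀ : RepWith @IsOpenImmersion a₀) (g : U₀ ⟶ V)
    (hg : a₀ ≫ snd = (yon S).map g) (u : U₀.left) (hv : g.left u ∈ maxPts V.left) :
    IsIso (g.left.stalkMap u) := by
  let T : Over S := Over.mk (V.left.fromSpecStalk (g.left u) ≫ V.hom)
  let τ : T ⟶ V := Over.homMk (V.left.fromSpecStalk (g.left u)) rfl
  haveI hq₂ : IsIso (pullback.snd snd ((yon S).map τ)) :=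
    isIso_pullback_snd_specStalk hX hY hXd hYd hYf f hf b hb fst snd hP (g.left u) hv
  let Zo : Over S := Over.mk (pullback.fst g.left τ.left ≫ U₀.hom)
  let pfst : Zo ⟶ U₀ := Over.homMk (pullback.fst g.left τ.left) rfl
  let psnd : Zo ⟶ T := Over.homMk (pullback.snd g.left τ.left) (by
    change pullback.snd g.left τ.left ≫ T.hom = pullback.fst g.left τ.left ≫ U₀.hom
    rw [← CategoryTheory.Over.w g, ← Category.assoc, pullback.condition, Category.assoc,
      CategoryTheory.Over.w τ])
  have sqZ : IsPullback pfst psnd g τ :=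
    IsPullback.of_map_of_faithful (Over.forget S) (IsPullback.of_hasPullback g.left τ.left)
  have sqZ' := sqZ.map (yon S)
  have hmw : ((yon S).map pfst ≫ a₀) ≫ snd = (yon S).map psnd ≫ (yon S).map τ := by
    rw [Category.assoc, hg]
    exact sqZ'.w
  let m := pullback.lift ((yon S).map pfst ≫ a₀) ((yon S).map psnd) hmw
  have sqR : IsPullback (pullback.snd snd ((yon S).map τ)) (pullback.fst snd ((yon S).map τ))
      ((yon S).map τ) snd := (IsPullback.of_hasPullback snd ((yon S).map τ)).flip
  have sqBig : IsPullback (m ≫ pullback.snd snd ((yon S).map τ)) ((yon S).map pfst)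
      ((yon S).map τ) (a₀ ≫ snd) := by
    rw [pullback.lift_snd, hg]
    exact sqZ'.flip
  have sqL : IsPullback m ((yon S).map pfst) (pullback.fst snd ((yon S).map τ)) a₀ :=
    IsPullback.of_right sqBig (pullback.lift_fst _ _ _) sqR
  have hm : RepWith @IsOpenImmersion m := (RepWith @IsOpenImmersion).of_isPullback sqL.flip ha₀
  have hpsnd : RepWith @IsOpenImmersion ((yon S).map psnd) := by
    have : (yon S).map psnd = m ≫ pullback.snd snd ((yon S).map τ) :=
      (pullback.lift_snd _ _ _).symm
    rw [this]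
    exact (RepWith @IsOpenImmersion).comp_mem _ _ hm (repWith_of_isIso _ _)
  have hoi : IsOpenImmersion (pullback.snd g.left τ.left) :=
    (repWith_yon_map_iff _ psnd).1 hpsnd
  have hsurj : Function.Surjective (pullback.snd g.left τ.left) := by
    intro t
    let c : T.left := IsLocalRing.closedPoint (V.left.presheaf.stalk (g.left u))
    have hcr : c ∈ Set.range (pullback.snd g.left τ.left) := by
      obtain ⟨z, -, hz⟩ := Scheme.Pullback.exists_preimage_pullback (f := g.left) (g := τ.left)
        u c (Scheme.fromSpecStalk_closedPoint).symm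
      exact ⟨z, hz⟩
    have hopen : IsOpen (Set.range (pullback.snd g.left τ.left)) :=
      (pullback.snd g.left τ.left).isOpenEmbedding.isOpen_range
    have hsp : t ⤳ c := IsLocalRing.specializes_closedPoint t
    exact hsp.mem_open hopen hcr
  haveI hiso : IsIso (pullback.snd g.left (V.left.fromSpecStalk (g.left u))) :=
    (isIso_iff_isOpenImmersion_and_surjective _).2 ⟨hoi, ⟨hsurj⟩⟩
  exact isIso_stalkMap_of_isIso_pullback_snd g.left u

/-- **Étale base change to an affine scheme preserves birationality.** -/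
theorem isBirational_baseChange_affine_etale {X Y : Sp S} (hX : IsAlgSpace X)
    (hY : IsAlgSpace Y) (hXd : IsDecent X) (hYd : IsDecent Y)
    (hYf : (irreducibleComponents (Points Y)).Finite)
    (f : X ⟶ Y) (hf : W4stk3decentspacesp2.IsBirational f) {V : Over S} [IsAffine V.left]
    (b : (yon S).obj V ⟶ Y) (hb : RepWith @Etale b) {P : Sp S} (fst : P ⟶ X)
    (snd : P ⟶ (yon S).obj V) (hP : IsPullback fst snd f b) :
    IsDecent P ∧ (irreducibleComponents (Points P)).Finite ∧
      (irreducibleComponents (Points ((yon S).obj V))).Finite ∧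
      W4stk3decentspacesp2.IsBirational snd := by
  have hPsp : IsAlgSpace P := isAlgSpace_of_isPullback hY.diag hX (IsAlgSpace.yon_obj V) hP
  have hfst : RepWith @Etale fst := (RepWith @Etale).of_isPullback hP.flip hb
  have hfste : IsEtaleMor fst := isEtaleMor_of_repWith_etale fst hfst
  have hPd : IsDecent P := QcLocal.isDecent_of_isEtaleMor hPsp hX fst hfste hXd
  have hVsp : IsAlgSpace ((yon S).obj V) := IsAlgSpace.yon_obj V
  have hVd : IsDecent ((yon S).obj V) := isDecent_yon V
  have hY0 := finite_c0 hY hYd hYf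
  -- maximal points of `V`
  have hVfin : (maxPts V.left).Finite := by
    refine (Set.Finite.biUnion hY0
      (fun y _ => finite_fibre_of_isDecent hYd y b hb)).subset ?_
    intro v hv
    simp only [Set.mem_iUnion, Set.mem_preimage, Set.mem_singleton_iff, exists_prop]
    exact ⟨Points.ofPt b v, (hasAt_c0_chart_iff b hb v).2 hv, rfl⟩
  have hV0 : {y : Points ((yon S).obj V) |
      HasAt (fun U u => ringKrullDim ↥(U.presheaf.stalk u) = 0) ((yon S).obj V) y}.Finite := by
    refine (hVfin.image (Points.ofScheme V)).subset ?_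
    intro y hy
    obtain ⟨v, rfl⟩ := (Points.schemeEquiv V).surjective y
    exact ⟨v, (hasAt_c0_yon_iff V v).1 hy, rfl⟩
  have hVf := finite_irreducibleComponents_of_finite_c0 hVsp hVd hV0
  -- codimension zero points of `P`
  have hC0 : ∀ (p : Points P) (v : V.left), Points.map snd p = Points.ofScheme V v →
      (HasAt (fun U u => ringKrullDim ↥(U.presheaf.stalk u) = 0) P p ↔ v ∈ maxPts V.left) :=
    fun p v hpv => c0_baseChange_iff hX hY hXd hYd f hf b hb fst snd hP p v hpv
  have hmaps : Set.MapsTo (Points.map snd)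
      {p | HasAt (fun U u => ringKrullDim ↥(U.presheaf.stalk u) = 0) P p}
      {y | HasAt (fun U u => ringKrullDim ↥(U.presheaf.stalk u) = 0) ((yon S).obj V) y} := by
    intro p hp
    obtain ⟨v, hv⟩ := (Points.schemeEquiv V).surjective (Points.map snd p)
    have hv' : Points.map snd p = Points.ofScheme V v := hv.symm
    rw [Set.mem_setOf_eq, hv']
    exact (hasAt_c0_yon_iff V v).2 ((hC0 p v hv').1 hp)
  have hinj : Set.InjOn (Points.map snd)
      {p | HasAt (fun U u => ringKrullDim ↥(U.presheaf.stalk u) = 0) P p} := by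
    intro p hp p' hp' hpp'
    obtain ⟨v, hv⟩ := (Points.schemeEquiv V).surjective (Points.map snd p)
    have hv' : Points.map snd p = Points.ofScheme V v := hv.symm
    exact eq_of_map_snd_eq hX hY hXd hYd hYf f hf b hb fst snd hP v ((hC0 p v hv').1 hp) p p'
      hv' (hpp'.symm.trans hv')
  have hP0 : {p : Points P |
      HasAt (fun U u => ringKrullDim ↥(U.presheaf.stalk u) = 0) P p}.Finite :=
    Set.Finite.of_injOn hmaps hinj hV0
  have hPf := finite_irreducibleComponents_of_finite_c0 hPsp hPd hP0
  refine ⟨hPd, hPf, hVf, ?_, ?_⟩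
  · -- bijection on generic points
    refine ⟨?_, ?_, ?_⟩
    · intro p hp
      exact (mem_genericPoints_iff hVsp hVd _).2
        (hmaps ((mem_genericPoints_iff hPsp hPd p).1 hp))
    · intro p hp p' hp' h
      exact hinj ((mem_genericPoints_iff hPsp hPd p).1 hp)
        ((mem_genericPoints_iff hPsp hPd p').1 hp') h
    · intro y hy
      have hy0 := (mem_genericPoints_iff hVsp hVd y).1 hy
      obtain ⟨v, rfl⟩ := (Points.schemeEquiv V).surjective y
      have hvmax : v ∈ maxPts V.left := (hasAt_c0_yon_iff V v).1 hy0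
      have hyY : Points.ofPt b v ∈ genericPoints (Points Y) :=
        (mem_genericPoints_iff hY hYd _).2 ((hasAt_c0_chart_iff b hb v).2 hvmax)
      obtain ⟨x, hx, hxy⟩ := hf.bijOn.surjOn hyY
      obtain ⟨p, hp1, hp2⟩ := exists_point_of_isPullback hP x (Points.ofScheme V v)
        (by rw [hxy, Points.ofPt_eq_map_ofScheme])
      refine ⟨p, (mem_genericPoints_iff hPsp hPd p).2 ((hC0 p v hp2).2 hvmax), hp2⟩
  · -- local rings
    intro p hp
    have hp0 := (mem_genericPoints_iff hPsp hPd p).1 hp
    obtain ⟨U₀, hU₀aff, a₀, ha₀, hc0U₀⟩ := exists_affine_open_c0 hPsp hPd hPf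
    obtain ⟨u, hu⟩ := hc0U₀ p hp0
    let g : U₀ ⟶ V := (yon S).preimage (a₀ ≫ snd)
    have hg : a₀ ≫ snd = (yon S).map g := ((yon S).map_preimage _).symm
    have hpv : Points.map snd p = Points.ofScheme V (g.left u) := by
      rw [← hu, Points.map_ofPt, hg, ofPt_yon_map]
    have hvmax : g.left u ∈ maxPts V.left := (hC0 p _ hpv).1 hp0
    refine ⟨U₀, V, a₀, 𝟙 _, g, u, ha₀, repWith_id _ V, ?_, hu, ?_⟩
    · rw [Category.comp_id, hg]
    · exact isIso_stalkMap_chart_baseChange hX hY hXd hYd hYf f hf b hb fst snd hP a₀ ha₀ g hg u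
        hvmax

end Groth.Agent.Helper15.Bir
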