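import Mathlib
import Groth.Prelude
import Groth.Agent.Lib.Helper15.Bir16
import Groth.Agent.Lib.Helper15.NormQf1

/-!
# Integral birational morphisms onto normal decent spaces are isomorphisms
-/

set_option autoImplicit false
universe u
open CategoryTheory CategoryTheory.Limits AlgebraicGeometry MorphismProperty Opposite
open AlgSp Groth.Agent.Helper16.AS

namespace Groth.Agent.Helper15.Bir

open Groth.Agent.Helper15 Groth.Agent.Helper15.Strat Groth.Agent.Helper15.Norm
  Groth.Agent.Helper15.MaxPts Groth.Agent.Helper15.GenFin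

variable {S : Scheme.{u}}

theorem normal_stalk_of_isOpenImmersion {A B : Scheme.{u}} (j : A ⟶ B) [IsOpenImmersion j]
    (hn : ∀ t : B, IsDomain (B.presheaf.stalk t) ∧ IsIntegrallyClosed (B.presheaf.stalk t))
    (a : A) : IsDomain (A.presheaf.stalk a) ∧ IsIntegrallyClosed (A.presheaf.stalk a) := by
  obtain ⟨hd, hic⟩ := hn (j a)
  let e : B.presheaf.stalk (j a) ≃+* A.presheaf.stalk a :=
    (asIso (j.stalkMap a)).commRingCatIsoToRingEquiv
  exact ⟨e.symm.toMulEquiv.isDomain _, IsIntegrallyClosed.of_equiv e⟩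

/-- A birational morphism between representable sheaves is birational as a morphism of
schemes. -/
theorem schBir_of_isBirational_yon {W V : Over S} (i : W ⟶ V)
    (hbir : W4stk3decentspacesp2.IsBirational ((yon S).map i)) : SchBir i.left := by
  refine schBir_of_chart (IsAlgSpace.yon_obj W) (IsAlgSpace.yon_obj V) (isDecent_yon W)
    (isDecent_yon V) ((yon S).map i) hbir (𝟙 _) (𝟙 _) i (repWith_id _ W) (repWith_id _ V)
    (by rw [Category.id_comp, Category.comp_id]) ?_
  intro x _ _
  obtain ⟨w, rfl⟩ := (Points.schemeEquiv W).surjective x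
  exact ⟨w, rfl⟩

/-- **An integral birational morphism from a reduced space to a normal space is an
isomorphism.** -/
theorem isIso_of_isIntegralMor_isBirational_of_normal {X Y : Sp S} (hX : IsAlgSpace X)
    (hY : IsAlgSpace Y) (hXd : IsDecent X) (hYd : IsDecent Y)
    (hYf : (irreducibleComponents (Points Y)).Finite)
    (f : X ⟶ Y) (hi : IsIntegralMor f) (hf : W4stk3decentspacesp2.IsBirational f)
    (hYn : EtaleLocally (fun T => ∀ t : ↥T, IsDomain ↥(T.presheaf.stalk t) ∧
      IsIntegrallyClosed ↥(T.presheaf.stalk t)) Y)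
    (hXr : EtaleLocally (fun T => IsReduced T) X) : IsIso f := by
  obtain ⟨Y₀, p₀, hp₀e, hp₀s, hn⟩ := hYn
  let VW : Y₀.left.affineOpens → Over S := fun W => opSub Y₀ W.1
  let c : ∀ W : Y₀.left.affineOpens, (yon S).obj (VW W) ⟶ Y :=
    fun W => (yon S).map (opι Y₀ W.1) ≫ p₀
  have hVaff : ∀ W : Y₀.left.affineOpens, IsAffine (VW W).left := fun W =>
    (show IsAffineOpen W.1 from W.2)
  have hce : ∀ W, RepWith @Etale (c W) := fun W =>
    (RepWith @Etale).comp_mem _ _
      ((repWith_yon_map_iff _ _).2 (inferInstance : Etale (W.1 : Y₀.left.Opens).ι)) hp₀e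
  have hdata : ∀ W : Y₀.left.affineOpens, ∃ (Ws : Over S) (i : Ws ⟶ VW W)
      (fst' : (yon S).obj Ws ⟶ X), IsPullback fst' ((yon S).map i) f (c W) ∧
        IsAffine Ws.left ∧ IsIntegralHom i.left := fun W => hi (hVaff W) (c W)
  choose Ws i fst' sq hWsaff hint using hdata
  have hjoint : JointlyEpi (fun W => (yon S).obj (VW W)) c := by
    refine jointlyEpi_of_repWith_etale _ _ hce ?_
    intro y
    obtain ⟨t, rfl⟩ := surjective_ofPt p₀ hp₀s y
    obtain ⟨_, ⟨W, hW, rfl⟩, htW, -⟩ :=
      Y₀.left.isBasis_affineOpens.exists_subset_of_mem_open (Set.mem_univ t) isOpen_univ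
    refine ⟨⟨W, hW⟩, Points.ofScheme _ (⟨t, htW⟩ : (W : Scheme.{u})), ?_⟩
    rw [← Points.ofPt_eq_map_ofScheme]
    change Points.ofPt ((yon S).map (opι Y₀ W) ≫ p₀) _ = _
    rw [ofPt_comp_yon_map]
    rfl
  refine isIso_of_jointlyEpi_base f c hjoint fst' (fun W => (yon S).map (i W)) sq ?_
  intro W
  haveI := hVaff W
  haveI := hint W
  have hfst'e : RepWith @Etale (fst' W) := (RepWith @Etale).of_isPullback (sq W).flip (hce W)
  haveI : IsReduced (Ws W).left := AlgSpLim.isReduced_of_etale_chart hX hXr (fst' W) hfst'e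
  have hnW : ∀ v : (VW W).left, IsDomain ((VW W).left.presheaf.stalk v) ∧
      IsIntegrallyClosed ((VW W).left.presheaf.stalk v) :=
    fun v => normal_stalk_of_isOpenImmersion (W.1 : Y₀.left.Opens).ι hn v
  obtain ⟨-, -, -, hbir⟩ := isBirational_baseChange_affine_etale hX hY hXd hYd hYf f hf (c W)
    (hce W) (fst' W) ((yon S).map (i W)) (sq W)
  have hsb : SchBir (i W).left := schBir_of_isBirational_yon (i W) hbir
  haveI : IsIso ((Over.forget S).map (i W)) :=
    isIso_of_isIntegralHom_of_normal (i W).left hnW hsb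
  haveI : IsIso (i W) := isIso_of_reflects_iso (i W) (Over.forget S)
  infer_instance

end Groth.Agent.Helper15.Bir
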