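import Mathlib
import Groth.Prelude
import Groth.Agent.Lib.Helper15.BrnchEt5
import Groth.Agent.Lib.Helper26.HensPrime2
import Groth.Agent.Lib.Helper1.HznUniv
import Groth.Agent.S9237

/-!
# Branches and elementary étale neighbourhoods: algebra (helper15)
-/

set_option autoImplicit false
set_option linter.unusedSectionVars false
set_option linter.unusedVariables false
set_option linter.style.haveILetI false

universe u

namespace Groth.Agent.Helper15.BrnchH

open IsLocalRing Groth.Agent.Helper26 Groth.Agent.Helper1 Groth.Agent.Helper15.BrnchEt

/-- transfer of the henselization property along an isomorphism of the base -/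
theorem isHenselization_of_ringEquiv (A L S : Type u) [CommRing A] [IsLocalRing A] [CommRing L]
    [IsLocalRing L] [CommRing S] [IsLocalRing S] [Algebra A S] [IsLocalHom (algebraMap A S)]
    [hh : Hensel.IsHenselization A S] (e : L ≃+* A) [Algebra L S]
    (h : algebraMap L S = (algebraMap A S).comp (e : L →+* A))
    [IsLocalHom (algebraMap L S)] : Hensel.IsHenselization L S := by
  refine ⟨hh.henselian, ?_⟩
  intro T' _ _ f hf
  haveI := hf
  have hloc : IsLocalHom (f.comp (e.symm : A →+* L)) := by
    constructor
    intro a ha
    have h1 : IsUnit (f (e.symm a)) := ha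
    have h2 : IsUnit (e.symm a) := isUnit_of_map_unit f _ h1
    have h3 := h2.map e
    rwa [RingEquiv.apply_symm_apply] at h3
  obtain ⟨g, hg, hu⟩ := hh.universal T' (f.comp (e.symm : A →+* L)) hloc
  have hg' : ∀ a, g (algebraMap A S a) = f (e.symm a) := fun a => RingHom.congr_fun hg a
  have hL : ∀ l, algebraMap L S l = algebraMap A S (e l) := fun l => RingHom.congr_fun h l
  refine ⟨g, ?_, ?_⟩
  · ext l
    show g (algebraMap L S l) = f l
    rw [hL, hg', RingEquiv.symm_apply_apply]
  · intro g' hg'1
    apply hu
    ext a
    show g' (algebraMap A S a) = f (e.symm a)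
    have := RingHom.congr_fun hg'1 (e.symm a)
    rw [← this]
    show _ = g' (algebraMap L S (e.symm a))
    rw [hL, RingEquiv.apply_symm_apply]

/-- If `T` is a local ring which is a localization of an étale `R`-algebra `B'` (with `R → T`
local and trivial residue field extension), then a henselization of `T` is a henselization of
`R`. -/
theorem isHenselization_of_etale_localization
    (R B' T Th : Type u) [CommRing R] [IsLocalRing R] [CommRing B'] [Algebra R B']
    [Algebra.Etale R B']
    [CommRing T] [IsLocalRing T] [Algebra B' T] [Algebra R T] [IsScalarTower R B' T]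
    (M : Submonoid B') [IsLocalization M T] [IsLocalHom (algebraMap R T)]
    (hres : Function.Surjective (ResidueField.map (algebraMap R T)))
    [CommRing Th] [IsLocalRing Th] [Algebra T Th] [IsLocalHom (algebraMap T Th)]
    [hsh : Hensel.IsHenselization T Th]
    [Algebra R Th] [IsScalarTower R T Th] [IsLocalHom (algebraMap R Th)] :
    Hensel.IsHenselization R Th := by
  haveI : HenselianLocalRing Th := hsh.henselian
  haveI : Algebra.FormallyUnramified B' T := Algebra.FormallyUnramified.of_isLocalization M
  haveI : Algebra.FormallyUnramified R T := Algebra.FormallyUnramified.comp R B' T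
  haveI : Algebra.EssFiniteType B' T := Algebra.EssFiniteType.of_isLocalization T M
  haveI : Algebra.EssFiniteType R T := Algebra.EssFiniteType.comp R B' T
  have hmax : (maximalIdeal R).map (algebraMap R T) = maximalIdeal T :=
    Algebra.FormallyUnramified.map_maximalIdeal
  have hbij : Function.Bijective (ResidueField.map (algebraMap R T)) :=
    ⟨RingHom.injective _, hres⟩
  let e : ResidueField R ≃+* ResidueField T := RingEquiv.ofBijective _ hbij
  have he : ∀ r, e (residue R r) = residue T (algebraMap R T r) := fun r => rfl
  refine ⟨hsh.henselian, ?_⟩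
  intro T' _ _ f hf
  haveI := hf
  letI : Algebra R T' := f.toAlgebra
  have hfalg : ∀ r, algebraMap R T' r = f r := fun _ => rfl
  let ψr : B' →+* ResidueField T' :=
    (ResidueField.map f).comp ((e.symm : ResidueField T →+* ResidueField R).comp
      ((residue T).comp (algebraMap B' T)))
  have hψr : ∀ b, ψr b = ResidueField.map f (e.symm (residue T (algebraMap B' T b))) :=
    fun _ => rfl
  let ψ : B' →ₐ[R] ResidueField T' :=
    { ψr with
      commutes' := fun r => by
        show ψr (algebraMap R B' r) = algebraMap R (ResidueField T') r
        rw [hψr, ← IsScalarTower.algebraMap_apply R B' T, ← he, RingEquiv.symm_apply_apply,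
          ResidueField.map_residue]
        rfl }
  have hψ : ∀ b, ψ b = ResidueField.map f (e.symm (residue T (algebraMap B' T b))) := fun _ => rfl
  obtain ⟨h, hh, hhuniq⟩ := Groth.Agent.Helper1.existsUnique_algHom_of_etale (R := R) (S := T') ψ
  have hunit_iff : ∀ b : B', IsUnit (h b) ↔ IsUnit (algebraMap B' T b) := by
    intro b
    rw [← IsLocalRing.notMem_maximalIdeal, ← IsLocalRing.residue_eq_zero_iff, hh b, hψ b]
    rw [map_eq_zero_iff _ (ResidueField.map f).injective,
      map_eq_zero_iff _ e.symm.injective, IsLocalRing.residue_eq_zero_iff,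
      IsLocalRing.notMem_maximalIdeal]
  have hM : ∀ m : M, IsUnit (h.toRingHom (m : B')) := fun m =>
    (hunit_iff m).mpr (IsLocalization.map_units T m)
  let h' : T →+* T' := IsLocalization.lift (M := M) (S := T) hM
  have hh' : ∀ b, h' (algebraMap B' T b) = h b := fun b => IsLocalization.lift_eq hM b
  have hloc' : IsLocalHom h' := by
    refine ⟨fun t ht => ?_⟩
    obtain ⟨⟨b, m⟩, hbm⟩ := IsLocalization.surj M t
    have h1 : IsUnit (h' (t * algebraMap B' T m)) := by
      rw [map_mul, hh']
      exact ht.mul (hM m)
    rw [hbm, hh', hunit_iff] at h1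
    rw [← hbm] at h1
    exact isUnit_of_mul_isUnit_left h1
  obtain ⟨g, hg1, hguniq⟩ := hsh.universal T' h' hloc'
  have hg1' : ∀ t, g (algebraMap T Th t) = h' t := fun t => congrArg (fun k => k t) hg1
  refine ⟨g, ?_, ?_⟩
  · refine RingHom.ext fun r => ?_
    show g (algebraMap R Th r) = f r
    rw [IsScalarTower.algebraMap_apply R T Th, hg1', IsScalarTower.algebraMap_apply R B' T, hh',
      h.commutes, hfalg]
  · intro g' hg'1
    have hg'1' : ∀ r, g' (algebraMap R Th r) = f r := fun r => congrArg (fun k => k r) hg'1
    apply hguniq
    apply IsLocalization.ringHom_ext M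
    let k : T →+* T' := g'.comp (algebraMap T Th)
    have hk : ∀ r, k (algebraMap R T r) = f r := by
      intro r
      show g' (algebraMap T Th (algebraMap R T r)) = f r
      rw [← IsScalarTower.algebraMap_apply R T Th, hg'1']
    have hkmax : maximalIdeal T ≤ (maximalIdeal T').comap k := by
      rw [← hmax, Ideal.map_le_iff_le_comap, Ideal.comap_comap]
      intro r hr
      rw [Ideal.mem_comap]
      show k (algebraMap R T r) ∈ maximalIdeal T'
      rw [hk]
      rw [mem_maximalIdeal, mem_nonunits_iff] at hr ⊢
      intro hu
      exact hr (isUnit_of_map_unit f r hu)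
    let h₂ : B' →ₐ[R] T' :=
      { k.comp (algebraMap B' T) with
        commutes' := fun r => by
          show k (algebraMap B' T (algebraMap R B' r)) = algebraMap R T' r
          rw [← IsScalarTower.algebraMap_apply R B' T, hk, hfalg] }
    have h₂eq : h₂ = h := by
      apply hhuniq
      intro a
      show residue T' (k (algebraMap B' T a)) = ψ a
      rw [hψ]
      obtain ⟨c, hc⟩ := hres (residue T (algebraMap B' T a))
      obtain ⟨r, rfl⟩ := residue_surjective c
      have hc' : e (residue R r) = residue T (algebraMap B' T a) := hc
      rw [← hc', RingEquiv.symm_apply_apply, ResidueField.map_residue]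
      rw [he] at hc'
      have h3 : algebraMap B' T a - algebraMap R T r ∈ maximalIdeal T := by
        rw [← residue_eq_zero_iff, map_sub, hc', sub_self]
      have h4 := hkmax h3
      rw [Ideal.mem_comap, map_sub, hk, ← residue_eq_zero_iff, map_sub, sub_eq_zero] at h4
      exact h4
    refine RingHom.ext fun b => ?_
    show k (algebraMap B' T b) = h' (algebraMap B' T b)
    rw [hh', ← h₂eq]
    rfl

/-- the number of branches is invariant under essentially étale local maps with trivial
residue field extension -/
theorem numBranches_eq_of_etale_localization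
    (R B' T : Type u) [CommRing R] [IsLocalRing R] [CommRing B'] [Algebra R B']
    [Algebra.Etale R B']
    [CommRing T] [IsLocalRing T] [Algebra B' T] [Algebra R T] [IsScalarTower R B' T]
    (M : Submonoid B') [IsLocalization M T] [IsLocalHom (algebraMap R T)]
    (hres : Function.Surjective (ResidueField.map (algebraMap R T))) :
    Brnch.numBranches T = Brnch.numBranches R := by
  haveI := Hzn.isHenselization T
  letI : Algebra R (Hzn.S T) := ((algebraMap T (Hzn.S T)).comp (algebraMap R T)).toAlgebra
  haveI : IsScalarTower R T (Hzn.S T) := IsScalarTower.of_algebraMap_eq' rfl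
  haveI : IsLocalHom (algebraMap R (Hzn.S T)) := by
    show IsLocalHom ((algebraMap T (Hzn.S T)).comp (algebraMap R T))
    infer_instance
  haveI := isHenselization_of_etale_localization R B' T (Hzn.S T) M hres
  rw [← Groth.Agent.S9237.result T (Hzn.S T), ← Groth.Agent.S9237.result R (Hzn.S T)]

end Groth.Agent.Helper15.BrnchH
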