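import Mathlib
import Groth.Prelude
import Groth.Agent.Lib.Helper15.BrnchH2
import Groth.Agent.Lib.Helper16.Sch.SpecRes
import Groth.Agent.S9235

/-!
# Branches and elementary étale neighbourhoods: separating minimal primes (helper15)
-/

set_option autoImplicit false
set_option linter.unusedSectionVars false
set_option linter.unusedVariables false
set_option linter.style.haveILetI false

universe u

open CategoryTheory AlgebraicGeometry TensorProduct

namespace Groth.Agent.Helper15.BrnchH

open IsLocalRing Groth.Agent.Helper26 Groth.Agent.Helper1 Groth.Agent.Helper15.BrnchEt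

/-- finitely many minimal primes of a flat local `R`-algebra all of whose elements are étale
over `R` are separated on an étale `R`-algebra -/
theorem exists_etale_of_natCast_le_gen (R : Type u) [CommRing R]
    (T : Type u) [CommRing T] [IsLocalRing T] [Algebra R T]
    (hflat : Module.Flat R T) (het : ∀ x : T, EtSub.IsEt R T x) (n : ℕ)
    (hn : (n : ℕ∞) ≤ (minimalPrimes T).encard) :
    ∃ (C : Type u) (_ : CommRing C) (_ : Algebra R C) (_ : Algebra.Etale R C) (φ : C →ₐ[R] T),
      (n : ℕ∞) ≤ {P : Ideal C | P ∈ minimalPrimes C ∧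
        P ≤ (maximalIdeal T).comap φ.toRingHom}.encard := by
  classical
  obtain ⟨t, ht, htn⟩ := Set.exists_subset_encard_eq hn
  have htfin : t.Finite := Set.finite_of_encard_eq_coe htn
  haveI : Finite ↥t := htfin.to_subtype
  haveI : Finite (↥t × ↥t) := inferInstance
  have hsep : ∀ P P' : ↥t, P ≠ P' → ∃ f : T, f ∈ (P : Ideal T) ∧ f ∉ (P' : Ideal T) := by
    intro P P' hne
    have h1 : ¬ (P : Ideal T) ≤ (P' : Ideal T) :=
      not_le_of_ne_minimalPrimes (ht P.2) (ht P'.2) (fun h => hne (Subtype.ext h))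
    exact Set.not_subset.mp h1
  let sep : ↥t × ↥t → T := fun x =>
    if h : x.1 ≠ x.2 then Classical.choose (hsep x.1 x.2 h) else 0
  have hsep1 : ∀ P P' : ↥t, P ≠ P' → sep (P, P') ∈ (P : Ideal T) ∧
      sep (P, P') ∉ (P' : Ideal T) := by
    intro P P' hne
    have : sep (P, P') = Classical.choose (hsep P P' hne) := dif_pos hne
    rw [this]
    exact Classical.choose_spec (hsep P P' hne)
  obtain ⟨m, ⟨e⟩⟩ := Finite.exists_equiv_fin (↥t × ↥t)
  obtain ⟨C, _, _, _, φ, c, hc⟩ := EtSub.exists_common (R := R) (T := T) m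
    (fun j => sep (e.symm j)) (fun j => het _)
  have hcomm : ∀ I : Ideal T, (I.comap φ.toRingHom).comap (algebraMap R C) =
      I.comap (algebraMap R T) := by
    intro I
    rw [Ideal.comap_comap]
    congr 1
    exact φ.comp_algebraMap
  refine ⟨C, inferInstance, inferInstance, inferInstance, φ, ?_⟩
  have hflat' : (algebraMap R T).Flat := RingHom.flat_algebraMap_iff.mpr hflat
  have hinj : Set.InjOn (fun P : Ideal T => P.comap φ.toRingHom) t := by
    intro P hP P' hP' heq
    by_contra hne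
    obtain ⟨h1, h2⟩ := hsep1 ⟨P, hP⟩ ⟨P', hP'⟩ (fun h => hne (congrArg Subtype.val h))
    have h3 := hc (e (⟨P, hP⟩, ⟨P', hP'⟩))
    rw [Equiv.symm_apply_apply] at h3
    have h4 : c (e (⟨P, hP⟩, ⟨P', hP'⟩)) ∈ P.comap φ.toRingHom := by
      rw [Ideal.mem_comap]
      show φ _ ∈ P
      rw [h3]
      exact h1
    have h5 : c (e (⟨P, hP⟩, ⟨P', hP'⟩)) ∈ P'.comap φ.toRingHom := by
      have : P.comap φ.toRingHom = P'.comap φ.toRingHom := heq
      rw [← this]
      exact h4
    rw [Ideal.mem_comap] at h5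
    apply h2
    have h6 : φ (c (e (⟨P, hP⟩, ⟨P', hP'⟩))) ∈ P' := h5
    rwa [h3] at h6
  have hsub : (fun P : Ideal T => P.comap φ.toRingHom) '' t ⊆
      {P : Ideal C | P ∈ minimalPrimes C ∧ P ≤ (maximalIdeal T).comap φ.toRingHom} := by
    rintro _ ⟨P, hP, rfl⟩
    have hPmin := ht hP
    haveI hPp : P.IsPrime := hPmin.1.1
    refine ⟨?_, Ideal.comap_mono (IsLocalRing.le_maximalIdeal hPp.ne_top)⟩
    haveI : (P.comap φ.toRingHom).IsPrime := Ideal.comap_isPrime _ _
    apply mem_minimalPrimes_of_etale (R := R)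
    rw [hcomm]
    exact Groth.Agent.Helper15.GUPunct.comap_mem_minimalPrimes_of_flat _ hflat' hPmin
  calc (n : ℕ∞) = t.encard := htn.symm
    _ = ((fun P : Ideal T => P.comap φ.toRingHom) '' t).encard := (hinj.encard_image).symm
    _ ≤ _ := Set.encard_le_encard hsub

/-- elementwise triviality of the residue field extension from `ResSurj` -/
theorem ew_of_resSurj {R : Type u} [CommRing R] {p : Ideal R} [p.IsPrime]
    {T : Type u} [CommRing T] [IsLocalRing T] [Algebra R T]
    (hp : (maximalIdeal T).comap (algebraMap R T) = p) (H : HensPrime.ResSurj R p T)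
    {C : Type u} [CommRing C] [Algebra R C] (φ : C →ₐ[R] T) (a' b' : C)
    (hb' : b' ∉ (maximalIdeal T).comap φ.toRingHom) :
    ∃ a b : R, b ∉ p ∧ a' * algebraMap R C b - b' * algebraMap R C a ∈
      (maximalIdeal T).comap φ.toRingHom := by
  have hb0 : residue T (φ b') ≠ 0 := by
    intro h
    rw [residue_eq_zero_iff] at h
    exact hb' h
  obtain ⟨a, s, hs, has⟩ := H (residue T (φ a') / residue T (φ b'))
  refine ⟨a, s, hs, ?_⟩
  rw [Ideal.mem_comap]
  show φ (a' * algebraMap R C s - b' * algebraMap R C a) ∈ maximalIdeal T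
  rw [← residue_eq_zero_iff, map_sub, map_mul, map_mul, φ.commutes, φ.commutes, map_sub, map_mul,
    map_mul, ← has]
  field_simp
  ring

section

variable (R : Type u) [CommRing R] (p : Ideal R) [p.IsPrime]
  (A : Type u) [CommRing A] [IsLocalRing A] [Algebra R A] [IsLocalization.AtPrime A p]
  (Rh : Type u) [CommRing Rh] [IsLocalRing Rh] [Algebra A Rh] [IsLocalHom (algebraMap A Rh)]
  [Hensel.IsHenselization A Rh] [Algebra R Rh] [IsScalarTower R A Rh]

include p A in
theorem exists_etale_of_natCast_le_hens (n : ℕ)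
    (hn : (n : ℕ∞) ≤ (minimalPrimes Rh).encard) :
    ∃ (C : Type u) (_ : CommRing C) (_ : Algebra R C) (_ : Algebra.Etale R C) (q : Ideal C)
      (_ : q.IsPrime), q.comap (algebraMap R C) = p ∧
        (∀ a' b' : C, b' ∉ q → ∃ a b : R, b ∉ p ∧
          a' * algebraMap R C b - b' * algebraMap R C a ∈ q) ∧
        (n : ℕ∞) ≤ {P : Ideal C | P ∈ minimalPrimes C ∧ P ≤ q}.encard := by
  let e : Localization.AtPrime p ≃ₐ[R] A := IsLocalization.algEquiv p.primeCompl _ _
  letI : Algebra (Localization.AtPrime p) Rh :=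
    ((algebraMap A Rh).comp (e : Localization.AtPrime p →+* A)).toAlgebra
  have hL : ∀ l, algebraMap (Localization.AtPrime p) Rh l = algebraMap A Rh (e l) := fun _ => rfl
  haveI : IsLocalHom (algebraMap (Localization.AtPrime p) Rh) := by
    constructor
    intro l hl
    rw [hL] at hl
    have h1 : IsUnit (e l) := isUnit_of_map_unit (algebraMap A Rh) _ hl
    have h2 := h1.map e.symm
    rwa [AlgEquiv.symm_apply_apply] at h2
  haveI : Hensel.IsHenselization (Localization.AtPrime p) Rh :=
    isHenselization_of_ringEquiv A (Localization.AtPrime p) Rh e.toRingEquiv rfl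
  haveI : IsScalarTower R (Localization.AtPrime p) Rh := by
    refine IsScalarTower.of_algebraMap_eq (fun r => ?_)
    rw [hL, e.commutes, IsScalarTower.algebraMap_apply R A Rh]
  have hp := HensPrime.comap_maximalIdeal R p Rh
  obtain ⟨C, _, _, _, φ, hle⟩ := exists_etale_of_natCast_le_gen R Rh (HensPrime.flat R p Rh)
    (HensPrime.isEt R p Rh) n hn
  refine ⟨C, inferInstance, inferInstance, inferInstance, (maximalIdeal Rh).comap φ.toRingHom,
    Ideal.comap_isPrime _ _, (HensPrime.comap_comap_eq hp φ).symm, ?_, hle⟩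
  intro a' b' hb'
  exact ew_of_resSurj hp (HensPrime.resSurj R p Rh) φ a' b' hb'

end

theorem numBranchesAt_eq_encard_minimalPrimes_H (X : Scheme.{u}) (x : X) :
    Brnch.numBranchesAt X x = (minimalPrimes (Hzn.S (X.presheaf.stalk x))).encard := by
  haveI := Hzn.isHenselization (X.presheaf.stalk x)
  exact (Groth.Agent.S9237.result (X.presheaf.stalk x) (Hzn.S (X.presheaf.stalk x))).symm

theorem encard_components_le_numBranchesAt (U : Scheme.{u}) (u : U) :
    {Z : Set U | Z ∈ irreducibleComponents U ∧ u ∈ Z}.encard ≤ Brnch.numBranchesAt U u := by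
  haveI := Hzn.isHenselization (U.presheaf.stalk u)
  haveI : Module.FaithfullyFlat (U.presheaf.stalk u) (Hzn.S (U.presheaf.stalk u)) :=
    HFlat.faithfullyFlat_of_isHenselization _ _
  rw [numBranchesAt_eq_encard_minimalPrimes_H]
  exact (encard_components_le_minimalPrimes_stalk U u).trans
    (encard_minimalPrimes_le_of_faithfullyFlat _ _)

theorem exists_etaleNbhd_of_natCast_le (X : Scheme.{u}) (x : X) (n : ℕ)
    (hn : (n : ℕ∞) ≤ Brnch.numBranchesAt X x) :
    ∃ (U : Scheme.{u}) (g : U ⟶ X) (u : U), Hens2.IsEtaleNbhd g u x ∧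
      (n : ℕ∞) ≤ {Z : Set U | Z ∈ irreducibleComponents U ∧ u ∈ Z}.encard := by
  rw [numBranchesAt_eq_encard_minimalPrimes_H] at hn
  obtain ⟨_, ⟨V, hV, rfl⟩, hxV, -⟩ :=
    X.isBasis_affineOpens.exists_subset_of_mem_open (Set.mem_univ x) isOpen_univ
  letI := X.presheaf.algebra_section_stalk ⟨x, hxV⟩
  haveI := hV.isLocalization_stalk ⟨x, hxV⟩
  haveI := Hzn.isHenselization (X.presheaf.stalk x)
  letI : Algebra Γ(X, V) (Hzn.S (X.presheaf.stalk x)) :=
    ((algebraMap (X.presheaf.stalk x) (Hzn.S (X.presheaf.stalk x))).comp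
      (algebraMap Γ(X, V) (X.presheaf.stalk x))).toAlgebra
  haveI : IsScalarTower Γ(X, V) (X.presheaf.stalk x) (Hzn.S (X.presheaf.stalk x)) :=
    IsScalarTower.of_algebraMap_eq' rfl
  obtain ⟨C, _, _, hC, q, hq, hqp, hew, hle⟩ :=
    exists_etale_of_natCast_le_hens Γ(X, V) (hV.primeIdealOf ⟨x, hxV⟩).asIdeal
      (X.presheaf.stalk x) (Hzn.S (X.presheaf.stalk x)) n hn
  have h1 : (Spec.map (CommRingCat.ofHom (algebraMap Γ(X, V) C))) ⟨q, hq⟩ =
      hV.primeIdealOf ⟨x, hxV⟩ := PrimeSpectrum.ext hqp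
  haveI : Etale (Spec.map (CommRingCat.ofHom (algebraMap Γ(X, V) C))) := by
    rw [HasRingHomProperty.Spec_iff (P := @Etale)]
    exact RingHom.etale_algebraMap.mpr hC
  refine ⟨Spec (CommRingCat.of C),
    Spec.map (CommRingCat.ofHom (algebraMap Γ(X, V) C)) ≫ hV.fromSpec, ⟨q, hq⟩, ⟨?_, ?_, ?_⟩, ?_⟩
  · haveI : IsOpenImmersion hV.fromSpec := inferInstance
    infer_instance
  · show (Spec.map (CommRingCat.ofHom (algebraMap Γ(X, V) C)) ≫ hV.fromSpec) ⟨q, hq⟩ = x
    rw [Scheme.Hom.comp_apply, h1]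
    exact hV.fromSpec_primeIdealOf ⟨x, hxV⟩
  · refine ⟨RingHom.injective _, ?_⟩
    rw [Scheme.residueFieldMap_comp]
    have h2 : Function.Surjective
        ((Spec.map (CommRingCat.ofHom (algebraMap Γ(X, V) C))).residueFieldMap
          (⟨q, hq⟩ : PrimeSpectrum C)) := by
      apply Groth.Agent.Helper16.SpecRes.residueFieldMap_surjective_of_ew
      intro a' b' hb'
      rw [h1]
      exact hew a' b' hb'
    have h3 : Function.Bijective (hV.fromSpec.residueFieldMap
        (Spec.map (CommRingCat.ofHom (algebraMap Γ(X, V) C))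
          (⟨q, hq⟩ : PrimeSpectrum C))) :=
      ConcreteCategory.bijective_of_isIso _
    exact h2.comp h3.2
  · exact hle.trans (encard_minimalPrimes_le_components_spec C ⟨q, hq⟩)

theorem numBranchesAt_eq_iSup (X : Scheme.{u}) (x : X) :
    Brnch.numBranchesAt X x = ⨆ (U : Scheme.{u}) (g : U ⟶ X) (u : U)
      (_ : Hens2.IsEtaleNbhd g u x),
      {Z : Set ↑U | Z ∈ irreducibleComponents ↑U ∧ u ∈ Z}.encard := by
  apply le_antisymm
  · rw [← ENat.forall_natCast_le_iff_le]
    intro n hn
    obtain ⟨U, g, u, hg, hle⟩ := exists_etaleNbhd_of_natCast_le X x n hn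
    exact hle.trans (le_iSup_of_le U (le_iSup_of_le g (le_iSup_of_le u
      (le_iSup_of_le hg le_rfl))))
  · refine iSup_le fun U => iSup_le fun g => iSup_le fun u => iSup_le fun h => ?_
    obtain ⟨hg, rfl, hres⟩ := h
    haveI := hg
    have := numBranchesAt_eq_of_etale g u hres.2
    rw [← this]
    exact encard_components_le_numBranchesAt U u

theorem isEtaleNbhd_id (X : Scheme.{u}) (x : X) : Hens2.IsEtaleNbhd (𝟙 X) x x :=
  ⟨inferInstance, rfl, ConcreteCategory.bijective_of_isIso _⟩

theorem isUnibranch_stalk_iff (X : Scheme.{u}) (x : X) :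
    CAlg2.IsUnibranch ↑(X.presheaf.stalk x) ↔
      ∀ (U : Scheme.{u}) (g : U ⟶ X) (u : U), Hens2.IsEtaleNbhd g u x →
        {Z : Set ↑U | Z ∈ irreducibleComponents ↑U ∧ u ∈ Z}.encard = 1 := by
  rw [← Groth.Agent.S9235.result]
  show Brnch.numBranchesAt X x = 1 ↔ _
  constructor
  · intro h U g u hg
    apply le_antisymm _ (one_le_encard_components U u)
    rw [← h, numBranchesAt_eq_iSup X x]
    exact le_iSup_of_le U (le_iSup_of_le g (le_iSup_of_le u
      (le_iSup_of_le hg le_rfl)))
  · intro h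
    rw [numBranchesAt_eq_iSup X x]
    apply le_antisymm
    · refine iSup_le fun U => iSup_le fun g => iSup_le fun u => iSup_le fun hh => ?_
      exact (h U g u hh).le
    · refine le_iSup_of_le X (le_iSup_of_le (𝟙 X) (le_iSup_of_le x
        (le_iSup_of_le (isEtaleNbhd_id X x) ?_)))
      exact one_le_encard_components X x

end Groth.Agent.Helper15.BrnchH
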