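import Mathlib
import Groth.Prelude
import Groth.Agent.Lib.Helper15.BrnchH3

/-!
# Branches of fibres: ring-level separation of primes minimal over an ideal (helper15)
-/

set_option autoImplicit false
set_option linter.unusedSectionVars false
set_option linter.unusedVariables false
set_option linter.style.haveILetI false

universe u

namespace Groth.Agent.Helper15.BrnchF

open IsLocalRing Groth.Agent.Helper26 Groth.Agent.Helper1 Groth.Agent.Helper15.BrnchEt
  Groth.Agent.Helper15.BrnchH

/-- relative going-down: the contraction of a prime minimal over `J T` along a flat map is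
minimal over `J` -/
theorem comap_mem_minimalPrimes_of_flat_rel {R T : Type u} [CommRing R] [CommRing T] [Algebra R T]
    [Module.Flat R T] (J : Ideal R) {P : Ideal T}
    (hP : P ∈ (J.map (algebraMap R T)).minimalPrimes) :
    P.comap (algebraMap R T) ∈ J.minimalPrimes := by
  haveI hPp : P.IsPrime := hP.1.1
  refine ⟨⟨inferInstance, ?_⟩, ?_⟩
  · exact Ideal.map_le_iff_le_comap.mp hP.1.2
  · rintro p' ⟨hp', hJp'⟩ hle
    haveI := hp'
    haveI : (P.comap (algebraMap R T)).IsPrime := inferInstance
    haveI : P.LiesOver (P.comap (algebraMap R T)) := ⟨rfl⟩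
    obtain ⟨P', hP'le, hP'prime, hP'lo⟩ :=
      Ideal.exists_ideal_le_liesOver_of_le (p := p') (q := P.comap (algebraMap R T)) P hle
    have h2 : p' = P'.under R := hP'lo.over
    have hJP' : J.map (algebraMap R T) ≤ P' := by
      rw [Ideal.map_le_iff_le_comap]
      intro r hr
      have : r ∈ p' := hJp' hr
      rw [h2] at this
      exact this
    have h1 : P ≤ P' := hP.2 ⟨hP'prime, hJP'⟩ hP'le
    have hPP' : P' = P := le_antisymm hP'le h1
    rw [h2, hPP']

/-- a prime of an étale algebra lying over a prime minimal over `J` is minimal over `J C` -/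
theorem mem_minimalPrimes_of_etale_rel {R C : Type u} [CommRing R] [CommRing C] [Algebra R C]
    [Algebra.Etale R C] (J : Ideal R) (P : Ideal C) [P.IsPrime]
    (hP : P.comap (algebraMap R C) ∈ J.minimalPrimes) :
    P ∈ (J.map (algebraMap R C)).minimalPrimes := by
  refine ⟨⟨inferInstance, ?_⟩, ?_⟩
  · rw [Ideal.map_le_iff_le_comap]
    exact hP.1.2
  · rintro Q ⟨hQ, hJQ⟩ hle
    haveI := hQ
    have h1 : Q.comap (algebraMap R C) ≤ P.comap (algebraMap R C) := Ideal.comap_mono hle
    have h2 : P.comap (algebraMap R C) ≤ Q.comap (algebraMap R C) :=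
      hP.2 ⟨inferInstance, Ideal.map_le_iff_le_comap.mp hJQ⟩ h1
    have h3 : Q = P := Algebra.QuasiFinite.eq_of_le_of_under_eq (R := R) Q P hle
      (le_antisymm h1 h2)
    rw [h3]

theorem not_le_of_ne_minimalPrimes_rel {S : Type u} [CommRing S] {I : Ideal S} {P P' : Ideal S}
    (hP : P ∈ I.minimalPrimes) (hP' : P' ∈ I.minimalPrimes) (hne : P ≠ P') : ¬ P ≤ P' := by
  intro hle
  exact hne (le_antisymm hle (hP'.2 hP.1 hle))

/-- finitely many primes of `T` minimal over `J T` are separated on an étale `R`-algebra -/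
theorem exists_etale_of_natCast_le_rel (R : Type u) [CommRing R]
    (T : Type u) [CommRing T] [IsLocalRing T] [Algebra R T]
    (hflat : Module.Flat R T) (het : ∀ x : T, EtSub.IsEt R T x) (J : Ideal R) (n : ℕ)
    (hn : (n : ℕ∞) ≤ ((J.map (algebraMap R T)).minimalPrimes).encard) :
    ∃ (C : Type u) (_ : CommRing C) (_ : Algebra R C) (_ : Algebra.Etale R C) (φ : C →ₐ[R] T),
      (n : ℕ∞) ≤ {P : Ideal C | P ∈ (J.map (algebraMap R C)).minimalPrimes ∧
        P ≤ (maximalIdeal T).comap φ.toRingHom}.encard := by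
  classical
  obtain ⟨t, ht, htn⟩ := Set.exists_subset_encard_eq hn
  have htfin : t.Finite := Set.finite_of_encard_eq_coe htn
  haveI : Finite ↥t := htfin.to_subtype
  haveI : Finite (↥t × ↥t) := inferInstance
  have hsep : ∀ P P' : ↥t, P ≠ P' → ∃ f : T, f ∈ (P : Ideal T) ∧ f ∉ (P' : Ideal T) := by
    intro P P' hne
    have h1 : ¬ (P : Ideal T) ≤ (P' : Ideal T) :=
      not_le_of_ne_minimalPrimes_rel (ht P.2) (ht P'.2) (fun h => hne (Subtype.ext h))
    exact Set.not_subset.mp h1
  let sep : ↥t × ↥t → T := fun x =>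
    if h : x.1 ≠ x.2 then Classical.choose (hsep x.1 x.2 h) else 0
  have hsep1 : ∀ P P' : ↥t, P ≠ P' → sep (P, P') ∈ (P : Ideal T) ∧
      sep (P, P') ∉ (P' : Ideal T) := by
    intro P P' hne
    have : sep (P, P') = Classical.choose (hsep P P' hne) := dif_pos hne
    rw [this]
    exact Classical.choose_spec (hsep P P' hne)
  obtain ⟨m, ⟨e⟩⟩ := Finite.exists_equiv_fin (↥t × ↥t)
  obtain ⟨C, _, _, _, φ, c, hc⟩ := EtSub.exists_common (R := R) (T := T) m
    (fun j => sep (e.symm j)) (fun j => het _)
  have hcomm : ∀ I : Ideal T, (I.comap φ.toRingHom).comap (algebraMap R C) =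
      I.comap (algebraMap R T) := by
    intro I
    rw [Ideal.comap_comap]
    congr 1
    exact φ.comp_algebraMap
  refine ⟨C, inferInstance, inferInstance, inferInstance, φ, ?_⟩
  have hinj : Set.InjOn (fun P : Ideal T => P.comap φ.toRingHom) t := by
    intro P hP P' hP' heq
    by_contra hne
    obtain ⟨h1, h2⟩ := hsep1 ⟨P, hP⟩ ⟨P', hP'⟩ (fun h => hne (congrArg Subtype.val h))
    have h3 := hc (e (⟨P, hP⟩, ⟨P', hP'⟩))
    rw [Equiv.symm_apply_apply] at h3
    have h4 : c (e (⟨P, hP⟩, ⟨P', hP'⟩)) ∈ P.comap φ.toRingHom := by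
      rw [Ideal.mem_comap]
      show φ _ ∈ P
      rw [h3]
      exact h1
    have h5 : c (e (⟨P, hP⟩, ⟨P', hP'⟩)) ∈ P'.comap φ.toRingHom := by
      have : P.comap φ.toRingHom = P'.comap φ.toRingHom := heq
      rw [← this]
      exact h4
    rw [Ideal.mem_comap] at h5
    apply h2
    have h6 : φ (c (e (⟨P, hP⟩, ⟨P', hP'⟩))) ∈ P' := h5
    rwa [h3] at h6
  have hsub : (fun P : Ideal T => P.comap φ.toRingHom) '' t ⊆
      {P : Ideal C | P ∈ (J.map (algebraMap R C)).minimalPrimes ∧
        P ≤ (maximalIdeal T).comap φ.toRingHom} := by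
    rintro _ ⟨P, hP, rfl⟩
    have hPmin := ht hP
    haveI hPp : P.IsPrime := hPmin.1.1
    refine ⟨?_, Ideal.comap_mono (IsLocalRing.le_maximalIdeal hPp.ne_top)⟩
    haveI : (P.comap φ.toRingHom).IsPrime := Ideal.comap_isPrime _ _
    apply mem_minimalPrimes_of_etale_rel (R := R)
    rw [hcomm]
    exact comap_mem_minimalPrimes_of_flat_rel J hPmin
  calc (n : ℕ∞) = t.encard := htn.symm
    _ = ((fun P : Ideal T => P.comap φ.toRingHom) '' t).encard := (hinj.encard_image).symm
    _ ≤ _ := Set.encard_le_encard hsub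

/-- primes minimal over an ideal and minimal primes of the quotient -/
theorem encard_minimalPrimes_quotient {S : Type u} [CommRing S] (I : Ideal S) :
    (minimalPrimes (S ⧸ I)).encard = I.minimalPrimes.encard := by
  rw [Ideal.minimalPrimes_eq_comap]
  exact ((Ideal.comap_injective_of_surjective (Ideal.Quotient.mk I)
    Ideal.Quotient.mk_surjective).injOn.encard_image).symm

/-- the number of minimal primes is invariant under ring isomorphisms -/
theorem encard_minimalPrimes_of_ringEquiv {S S' : Type u} [CommRing S] [CommRing S']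
    (e : S ≃+* S') : (minimalPrimes S).encard = (minimalPrimes S').encard := by
  have h : minimalPrimes S = (Ideal.comap (e : S →+* S')) '' minimalPrimes S' := by
    have := Ideal.comap_minimalPrimes_eq_of_surjective (f := (e : S →+* S')) e.surjective
      (⊥ : Ideal S')
    have hker : (⊥ : Ideal S').comap (e : S →+* S') = ⊥ := by
      rw [← RingHom.ker_eq_comap_bot]
      exact (RingHom.injective_iff_ker_eq_bot _).mp e.injective
    rw [hker] at this
    exact this
  rw [h]
  exact (Ideal.comap_injective_of_surjective (e : S →+* S') e.surjective).injOn.encard_image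

end Groth.Agent.Helper15.BrnchF
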