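import Mathlib
import Groth.Prelude
import Groth.Agent.Lib.Helper15.BrnchF1

/-!
# Irreducible components through a point and minimal primes of the local ring, II (helper15)
-/

set_option autoImplicit false
set_option linter.unusedSectionVars false
set_option linter.unusedVariables false
set_option linter.style.haveILetI false

universe u

open CategoryTheory AlgebraicGeometry

namespace Groth.Agent.Helper15.BrnchF

open IsLocalRing Groth.Agent.Helper15.BrnchEt

/-- each minimal prime of the local ring at `u` gives an irreducible component through `u` -/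
theorem component_of_minimalPrime (U : Scheme.{u}) (u : U)
    (P : PrimeSpectrum (U.presheaf.stalk u)) (hP : P.asIdeal ∈ minimalPrimes (U.presheaf.stalk u)) :
    closure {(U.fromSpecStalk u) P} ∈ irreducibleComponents U ∧
      u ∈ closure {(U.fromSpecStalk u) P} := by
  have hsp : (U.fromSpecStalk u) P ⤳ u := by
    have : (U.fromSpecStalk u) P ∈ Set.range (U.fromSpecStalk u) := ⟨P, rfl⟩
    rw [Scheme.range_fromSpecStalk] at this
    exact this
  refine ⟨⟨isIrreducible_singleton.closure, ?_⟩, hsp.mem_closure⟩
  intro Z hZ hle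
  have hZc : IsIrreducible (closure Z) := hZ.closure
  obtain ⟨ζ, hζ⟩ := QuasiSober.sober hZc isClosed_closure
  have hηZ : (U.fromSpecStalk u) P ∈ closure Z := subset_closure (hle (subset_closure rfl))
  have h1 : ζ ⤳ (U.fromSpecStalk u) P := hζ.specializes hηZ
  have h2 : ζ ⤳ u := h1.trans hsp
  have hmem : ζ ∈ Set.range (U.fromSpecStalk u) := by
    rw [Scheme.range_fromSpecStalk]
    exact h2
  obtain ⟨P', rfl⟩ := hmem
  have h3 : P' ⤳ P := (U.fromSpecStalk u).isEmbedding.isInducing.specializes_iff.mp h1
  have h4 : P'.asIdeal ≤ P.asIdeal := (PrimeSpectrum.le_iff_specializes _ _).mpr h3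
  have h5 : P.asIdeal ≤ P'.asIdeal := hP.2 ⟨P'.2, bot_le⟩ h4
  have h6 : P' = P := PrimeSpectrum.ext (le_antisymm h4 h5)
  rw [h6] at hζ
  calc Z ⊆ closure Z := subset_closure
    _ = closure {(U.fromSpecStalk u) P} := hζ.def.symm

theorem encard_minimalPrimes_stalk_le_components (U : Scheme.{u}) (u : U) :
    (minimalPrimes (U.presheaf.stalk u)).encard ≤
      {Z : Set U | Z ∈ irreducibleComponents U ∧ u ∈ Z}.encard := by
  classical
  let F : Ideal (U.presheaf.stalk u) → Set U := fun P =>
    if h : P.IsPrime then closure {(U.fromSpecStalk u) ⟨P, h⟩} else ∅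
  have hF : ∀ (P : Ideal (U.presheaf.stalk u)) (h : P.IsPrime),
      F P = closure {(U.fromSpecStalk u) ⟨P, h⟩} := fun P h => dif_pos h
  apply Set.encard_le_encard_of_injOn (f := F)
  · intro P hP
    rw [hF P hP.1.1]
    exact component_of_minimalPrime U u ⟨P, hP.1.1⟩ hP
  · intro P hP P' hP' heq
    rw [hF P hP.1.1, hF P' hP'.1.1] at heq
    have h1 : IsGenericPoint ((U.fromSpecStalk u) ⟨P, hP.1.1⟩)
        (closure {(U.fromSpecStalk u) ⟨P', hP'.1.1⟩}) := heq
    have h2 : IsGenericPoint ((U.fromSpecStalk u) ⟨P', hP'.1.1⟩)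
        (closure {(U.fromSpecStalk u) ⟨P', hP'.1.1⟩}) := rfl
    have h3 := (U.fromSpecStalk u).isEmbedding.injective (h1.eq h2)
    exact congrArg PrimeSpectrum.asIdeal h3

theorem encard_components_eq_minimalPrimes_stalk (U : Scheme.{u}) (u : U) :
    {Z : Set U | Z ∈ irreducibleComponents U ∧ u ∈ Z}.encard =
      (minimalPrimes (U.presheaf.stalk u)).encard :=
  le_antisymm (encard_components_le_minimalPrimes_stalk U u)
    (encard_minimalPrimes_stalk_le_components U u)

end Groth.Agent.Helper15.BrnchF
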