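import Mathlib
import Groth.Prelude
import Groth.Agent.Lib.Helper15.BrnchF2
import Groth.Agent.Lib.Helper16.Sch.FibStalk
import Groth.Agent.Lib.Helper1.UB3

/-!
# Branches of fibres: scheme-level preparation (helper15)
-/

set_option autoImplicit false
set_option linter.unusedSectionVars false
set_option linter.unusedVariables false
set_option linter.style.haveILetI false

universe u

open CategoryTheory AlgebraicGeometry Limits

namespace Groth.Agent.Helper15.BrnchF

open IsLocalRing Groth.Agent.Helper15.BrnchEt Groth.Agent.Helper16.FibStalk Groth.Agent.Helper1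

section FiberMap

variable {U X S : Scheme.{u}} (g : U ⟶ X) (f : X ⟶ S) (s : S)

/-- the map between fibres induced by `g : U ⟶ X` over `S` -/
noncomputable def fiberMap : (g ≫ f).fiber s ⟶ f.fiber s :=
  pullback.lift ((g ≫ f).fiberι s ≫ g) ((g ≫ f).fiberToSpecResidueField s)
    (by rw [Category.assoc, (g ≫ f).fiber_fac s])

lemma fiberMap_fiberι : fiberMap g f s ≫ f.fiberι s = (g ≫ f).fiberι s ≫ g :=
  pullback.lift_fst _ _ _

lemma fiberMap_toSpec : fiberMap g f s ≫ f.fiberToSpecResidueField s =
    (g ≫ f).fiberToSpecResidueField s :=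
  pullback.lift_snd _ _ _

lemma isPullback_fiberMap :
    IsPullback (fiberMap g f s) ((g ≫ f).fiberι s) (f.fiberι s) g := by
  have hbig : IsPullback ((g ≫ f).fiberToSpecResidueField s) ((g ≫ f).fiberι s)
      (S.fromSpecResidueField s) (g ≫ f) := (IsPullback.of_hasPullback _ _).flip
  have hright : IsPullback (f.fiberToSpecResidueField s) (f.fiberι s)
      (S.fromSpecResidueField s) f := (IsPullback.of_hasPullback _ _).flip
  rw [← fiberMap_toSpec g f s] at hbig
  exact IsPullback.of_right hbig (fiberMap_fiberι g f s) hright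

instance [Etale g] : Etale (fiberMap g f s) :=
  MorphismProperty.of_isPullback (P := @Etale) (isPullback_fiberMap g f s).flip inferInstance

lemma fiberMap_asFiber (u : U) :
    fiberMap g f ((g ≫ f) u) ((g ≫ f).asFiber u) = f.asFiber (g u) := by
  apply (f.fiberι (f (g u))).isEmbedding.injective
  rw [Scheme.Hom.fiberι_asFiber]
  have h1 : (fiberMap g f ((g ≫ f) u) ≫ f.fiberι ((g ≫ f) u)) ((g ≫ f).asFiber u) = g u := by
    rw [fiberMap_fiberι, Scheme.Hom.comp_apply, Scheme.Hom.fiberι_asFiber]
  exact h1

end FiberMap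

section Count

variable {U S : Scheme.{u}} (h : U ⟶ S) (u : U)

/-- the set of components of the fibre through the point over `u` -/
lemma setOf_components_fiber_eq :
    {Z : Set ↑(h.fiber (h u)) | Z ∈ irreducibleComponents ↑(h.fiber (h u)) ∧
      ∃ u' ∈ Z, h.fiberι (h u) u' = u} =
    {Z : Set ↑(h.fiber (h u)) | Z ∈ irreducibleComponents ↑(h.fiber (h u)) ∧ h.asFiber u ∈ Z} := by
  ext Z
  simp only [Set.mem_ofPred_eq]
  refine and_congr_right fun _ => ⟨?_, fun hu => ⟨_, hu, h.fiberι_asFiber u⟩⟩
  rintro ⟨u', hu', heq⟩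
  have : u' = h.asFiber u := by
    apply (h.fiberι (h u)).isEmbedding.injective
    rw [heq, Scheme.Hom.fiberι_asFiber]
  rwa [← this]

theorem encard_components_fiber_eq (s : S) (hs : h u = s) :
    {Z : Set ↑(h.fiber s) | Z ∈ irreducibleComponents ↑(h.fiber s) ∧
      ∃ u' ∈ Z, h.fiberι s u' = u}.encard =
    (fibIdeal h u).minimalPrimes.encard := by
  subst hs
  rw [setOf_components_fiber_eq, encard_components_eq_minimalPrimes_stalk,
    ← encard_minimalPrimes_quotient (fibIdeal h u)]
  exact (encard_minimalPrimes_of_ringEquiv (fibStalkEquiv h u)).symm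

end Count

section SHQ

variable {X S : Scheme.{u}} (f : X ⟶ S) (x : X)

/-- the geometric number of branches of the fibre at `x` via the strict henselization of the
local ring of `X` at `x` -/
theorem numGeomBranchesAt_fiber_eq (Rsh : Type u) [CommRing Rsh] [IsLocalRing Rsh]
    [Algebra (X.presheaf.stalk x) Rsh] [IsLocalHom (algebraMap (X.presheaf.stalk x) Rsh)]
    [Hensel.IsStrictHenselization (X.presheaf.stalk x) Rsh] :
    Brnch.numGeomBranchesAt (f.fiber (f x)) (f.asFiber x) =
      ((fibIdeal f x).map (algebraMap (X.presheaf.stalk x) Rsh)).minimalPrimes.encard := by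
  set I := fibIdeal f x with hI
  set IS := I.map (algebraMap (X.presheaf.stalk x) Rsh) with hIS
  have hIS_le : IS ≤ maximalIdeal Rsh := by
    rw [hIS, Ideal.map_le_iff_le_comap, IsLocalRing.maximalIdeal_comap]
    exact fibIdeal_le f x
  have hIS_ne : IS ≠ ⊤ := fun htop =>
    (maximalIdeal.isMaximal Rsh).ne_top (top_le_iff.mp (htop ▸ hIS_le))
  haveI : Nontrivial (Rsh ⧸ IS) := Ideal.Quotient.nontrivial_iff.mpr hIS_ne
  haveI : IsLocalRing (Rsh ⧸ IS) :=
    IsLocalRing.of_surjective' (Ideal.Quotient.mk _) Ideal.Quotient.mk_surjective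
  letI : Algebra ((f.fiber (f x)).presheaf.stalk (f.asFiber x)) (Rsh ⧸ IS) :=
    ((Ideal.quotientMap IS (algebraMap (X.presheaf.stalk x) Rsh) Ideal.le_comap_map).comp
      ((fibStalkEquiv f x).symm :
        (f.fiber (f x)).presheaf.stalk (f.asFiber x) →+* X.presheaf.stalk x ⧸ I)).toAlgebra
  have halg : ∀ r : X.presheaf.stalk x,
      algebraMap ((f.fiber (f x)).presheaf.stalk (f.asFiber x)) (Rsh ⧸ IS) (toFibStalk f x r) =
        Ideal.Quotient.mk IS (algebraMap (X.presheaf.stalk x) Rsh r) := by
    intro r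
    show (Ideal.quotientMap IS (algebraMap (X.presheaf.stalk x) Rsh) Ideal.le_comap_map)
      ((fibStalkEquiv f x).symm (toFibStalk f x r)) = _
    rw [← fibStalkEquiv_mk, RingEquiv.symm_apply_apply, Ideal.quotientMap_mk]
  obtain ⟨hloc, hSH⟩ := UB.isStrictHenselization_of_surjective (X.presheaf.stalk x) Rsh
    ((f.fiber (f x)).presheaf.stalk (f.asFiber x)) (Rsh ⧸ IS)
    (toFibStalk f x) (toFibStalk_surjective f x) (Ideal.Quotient.mk IS)
    Ideal.Quotient.mk_surjective (fun r => (halg r).symm)
    (by rw [Ideal.mk_ker, ker_toFibStalk])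
  have h1 := Groth.Agent.S9238.result ((f.fiber (f x)).presheaf.stalk (f.asFiber x)) (Rsh ⧸ IS)
  show Brnch.numGeomBranches ((f.fiber (f x)).presheaf.stalk (f.asFiber x)) = _
  rw [← h1, ← encard_minimalPrimes_quotient IS]
  rfl

end SHQ

section Loc

/-- primes minimal over `K` inside `q` give primes minimal over `K C_q` -/
theorem encard_minimalPrimes_le_map_localization {C : Type u} [CommRing C] (q : Ideal C)
    [q.IsPrime] (T' : Type u) [CommRing T'] [Algebra C T'] [IsLocalization.AtPrime T' q]
    (K : Ideal C) :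
    {Q : Ideal C | Q ∈ K.minimalPrimes ∧ Q ≤ q}.encard ≤
      (K.map (algebraMap C T')).minimalPrimes.encard := by
  apply Set.encard_le_encard_of_injOn (f := fun Q : Ideal C => Q.map (algebraMap C T'))
  · rintro Q ⟨hQ, hle⟩
    haveI hQp : Q.IsPrime := hQ.1.1
    have hdisj : Disjoint (q.primeCompl : Set C) Q := by
      rw [Set.disjoint_left]
      intro a ha haQ
      exact ha (hle haQ)
    rw [IsLocalization.minimalPrimes_map q.primeCompl T' K]
    show (Q.map (algebraMap C T')).comap (algebraMap C T') ∈ K.minimalPrimes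
    have := IsLocalization.under_map_of_isPrime_disjoint q.primeCompl T' hQp hdisj
    rw [Ideal.under_def] at this
    rw [this]
    exact hQ
  · rintro Q ⟨hQ, hle⟩ Q' ⟨hQ', hle'⟩ heq
    haveI hQp : Q.IsPrime := hQ.1.1
    haveI hQp' : Q'.IsPrime := hQ'.1.1
    have hdisj : Disjoint (q.primeCompl : Set C) Q := by
      rw [Set.disjoint_left]
      intro a ha haQ
      exact ha (hle haQ)
    have hdisj' : Disjoint (q.primeCompl : Set C) Q' := by
      rw [Set.disjoint_left]
      intro a ha haQ
      exact ha (hle' haQ)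
    have h1 := IsLocalization.under_map_of_isPrime_disjoint q.primeCompl T' hQp hdisj
    have h2 := IsLocalization.under_map_of_isPrime_disjoint q.primeCompl T' hQp' hdisj'
    have heq' : Q.map (algebraMap C T') = Q'.map (algebraMap C T') := heq
    rw [← h1, ← h2, heq']

end Loc

end Groth.Agent.Helper15.BrnchF
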