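import Mathlib
import Groth.Prelude
import Groth.Agent.Lib.Helper15.BrnchF3

/-!
# Geometric branches of fibres as a supremum over étale neighbourhoods (helper15)
-/

set_option autoImplicit false
set_option linter.unusedSectionVars false
set_option linter.unusedVariables false
set_option linter.style.haveILetI false

universe u

open CategoryTheory AlgebraicGeometry Limits

namespace Groth.Agent.Helper15.BrnchF

open IsLocalRing Groth.Agent.Helper15.BrnchEt Groth.Agent.Helper16.FibStalk Groth.Agent.Helper1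

section Compat

variable {X : Scheme.{u}} {V : X.Opens} (hV : IsAffineOpen V) (C : Type u) [CommRing C]
  [Algebra Γ(X, V) C]

/-- the étale neighbourhood attached to a `Γ(X, V)`-algebra -/
noncomputable abbrev nbhdMap : Spec (CommRingCat.of C) ⟶ X :=
  Spec.map (CommRingCat.ofHom (algebraMap Γ(X, V) C)) ≫ hV.fromSpec

lemma nbhdMap_mem (u : Spec (CommRingCat.of C)) : nbhdMap hV C u ∈ V := by
  rw [Scheme.Hom.comp_apply]
  have := hV.range_fromSpec
  have h2 : hV.fromSpec (Spec.map (CommRingCat.ofHom (algebraMap Γ(X, V) C)) u) ∈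
      Set.range hV.fromSpec := ⟨_, rfl⟩
  rw [this] at h2
  exact h2

/-- germs and the stalk map of the neighbourhood -/
lemma germ_stalkMap_nbhdMap (u : Spec (CommRingCat.of C)) :
    X.presheaf.germ V (nbhdMap hV C u) (nbhdMap_mem hV C u) ≫ (nbhdMap hV C).stalkMap u =
      CommRingCat.ofHom (algebraMap Γ(X, V) C) ≫ StructureSheaf.toStalk C u := by
  apply Spec.map_injective
  rw [← cancel_mono hV.fromSpec]
  have h1 := Scheme.SpecMap_stalkMap_fromSpecStalk (f := nbhdMap hV C) (x := u)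
  rw [← hV.fromSpecStalk_eq_fromSpecStalk (nbhdMap_mem hV C u), IsAffineOpen.fromSpecStalk,
    Spec.fromSpecStalk_eq'] at h1
  rw [Spec.map_comp, Category.assoc]
  refine h1.trans ?_
  exact (Category.assoc _ _ _).symm.trans
    (congrArg (· ≫ hV.fromSpec) (Spec.map_comp _ _).symm)

/-- the fibre ideal at a point of the neighbourhood, computed from the base -/
lemma fibIdeal_nbhdMap {S : Scheme.{u}} (f : X ⟶ S) (u : Spec (CommRingCat.of C)) (y : X)
    (hyV : y ∈ V) (hy : nbhdMap hV C u = y) :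
    fibIdeal (nbhdMap hV C ≫ f) u =
      (((fibIdeal f y).comap (X.presheaf.germ V y hyV).hom).map (algebraMap Γ(X, V) C)).map
        (StructureSheaf.toStalk C u).hom := by
  subst hy
  letI := X.presheaf.algebra_section_stalk ⟨nbhdMap hV C u, hyV⟩
  haveI := hV.isLocalization_stalk ⟨nbhdMap hV C u, hyV⟩
  have h1 : fibIdeal (nbhdMap hV C ≫ f) u =
      Ideal.map ((nbhdMap hV C).stalkMap u).hom (fibIdeal f (nbhdMap hV C u)) := by
    rw [fibIdeal_def, fibIdeal_def, Ideal.map_map]
    congr 1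
    rw [Scheme.Hom.stalkMap_comp]
    rfl
  have h2 : fibIdeal f (nbhdMap hV C u) =
      Ideal.map (X.presheaf.germ V (nbhdMap hV C u) hyV).hom
        ((fibIdeal f (nbhdMap hV C u)).comap (X.presheaf.germ V (nbhdMap hV C u) hyV).hom) :=
    (IsLocalization.map_under (hV.primeIdealOf ⟨nbhdMap hV C u, hyV⟩).asIdeal.primeCompl
      (X.presheaf.stalk (nbhdMap hV C u)) (fibIdeal f (nbhdMap hV C u))).symm
  have h3 : ((nbhdMap hV C).stalkMap u).hom.comp (X.presheaf.germ V (nbhdMap hV C u) hyV).hom =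
      (StructureSheaf.toStalk C u).hom.comp (algebraMap Γ(X, V) C) := by
    have := congrArg CommRingCat.Hom.hom (germ_stalkMap_nbhdMap hV C u)
    exact this
  rw [h1]
  conv_lhs => rw [h2]
  rw [Ideal.map_map, h3]
  exact (Ideal.map_map _ _).symm

end Compat

section Main

variable {X S : Scheme.{u}} (f : X ⟶ S) (x : X)

theorem exists_etale_nbhd_fiber_of_natCast_le (n : ℕ)
    (hn : (n : ℕ∞) ≤ Brnch.numGeomBranchesAt (f.fiber (f x)) (f.asFiber x)) :
    ∃ (U : Scheme.{u}) (g : U ⟶ X) (u : U), Etale g ∧ g u = x ∧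
      (n : ℕ∞) ≤ (fibIdeal (g ≫ f) u).minimalPrimes.encard := by
  haveI := SHzn.isStrictHenselization (X.presheaf.stalk x)
  rw [numGeomBranchesAt_fiber_eq f x (SHzn.S (X.presheaf.stalk x))] at hn
  obtain ⟨_, ⟨V, hV, rfl⟩, hxV, -⟩ :=
    X.isBasis_affineOpens.exists_subset_of_mem_open (Set.mem_univ x) isOpen_univ
  letI := X.presheaf.algebra_section_stalk ⟨x, hxV⟩
  haveI := hV.isLocalization_stalk ⟨x, hxV⟩
  letI : Algebra Γ(X, V) (SHzn.S (X.presheaf.stalk x)) :=
    ((algebraMap (X.presheaf.stalk x) (SHzn.S (X.presheaf.stalk x))).comp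
      (algebraMap Γ(X, V) (X.presheaf.stalk x))).toAlgebra
  haveI : IsScalarTower Γ(X, V) (X.presheaf.stalk x) (SHzn.S (X.presheaf.stalk x)) :=
    IsScalarTower.of_algebraMap_eq' rfl
  set p := (hV.primeIdealOf ⟨x, hxV⟩).asIdeal with hp
  set J := (fibIdeal f x).comap (X.presheaf.germ V x hxV).hom with hJdef
  have hJ : J.map (algebraMap Γ(X, V) (SHzn.S (X.presheaf.stalk x))) =
      (fibIdeal f x).map (algebraMap (X.presheaf.stalk x) (SHzn.S (X.presheaf.stalk x))) := by
    rw [IsScalarTower.algebraMap_eq Γ(X, V) (X.presheaf.stalk x) (SHzn.S (X.presheaf.stalk x)),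
      ← Ideal.map_map]
    congr 1
    exact IsLocalization.map_under p.primeCompl (X.presheaf.stalk x) (fibIdeal f x)
  rw [← hJ] at hn
  obtain ⟨C, _, _, hC, φ, hle⟩ := exists_etale_of_natCast_le_rel Γ(X, V)
    (SHzn.S (X.presheaf.stalk x)) (flat_base Γ(X, V) p (X.presheaf.stalk x) _)
    (isEt Γ(X, V) p (X.presheaf.stalk x) _) J n hn
  set q := (maximalIdeal (SHzn.S (X.presheaf.stalk x))).comap φ.toRingHom with hq
  haveI hqp : q.IsPrime := Ideal.comap_isPrime _ _
  have hqover : q.comap (algebraMap Γ(X, V) C) = p := by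
    rw [hq, Ideal.comap_comap]
    have : φ.toRingHom.comp (algebraMap Γ(X, V) C) =
        algebraMap Γ(X, V) (SHzn.S (X.presheaf.stalk x)) := φ.comp_algebraMap
    rw [this]
    exact comap_maximalIdeal_base Γ(X, V) p (X.presheaf.stalk x) _
  have h1 : (Spec.map (CommRingCat.ofHom (algebraMap Γ(X, V) C))) ⟨q, hqp⟩ =
      hV.primeIdealOf ⟨x, hxV⟩ := PrimeSpectrum.ext hqover
  have hgu : nbhdMap hV C ⟨q, hqp⟩ = x := by
    rw [Scheme.Hom.comp_apply, h1]
    exact hV.fromSpec_primeIdealOf ⟨x, hxV⟩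
  refine ⟨Spec (CommRingCat.of C), nbhdMap hV C, ⟨q, hqp⟩, ?_, hgu, ?_⟩
  · haveI : Etale (Spec.map (CommRingCat.ofHom (algebraMap Γ(X, V) C))) := by
      rw [HasRingHomProperty.Spec_iff (P := @Etale)]
      exact RingHom.etale_algebraMap.mpr hC
    haveI : IsOpenImmersion hV.fromSpec := inferInstance
    infer_instance
  · rw [fibIdeal_nbhdMap hV C f ⟨q, hqp⟩ x hxV hgu]
    letI : Algebra C ((Spec.structureSheaf C).presheaf.stalk (⟨q, hqp⟩ : PrimeSpectrum C)) :=
      StructureSheaf.stalkAlgebra C ⟨q, hqp⟩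
    haveI : IsLocalization.AtPrime
        ((Spec.structureSheaf C).presheaf.stalk (⟨q, hqp⟩ : PrimeSpectrum C)) q :=
      StructureSheaf.IsLocalization.to_stalk C ⟨q, hqp⟩
    exact hle.trans (encard_minimalPrimes_le_map_localization q
      ((Spec.structureSheaf C).presheaf.stalk (⟨q, hqp⟩ : PrimeSpectrum C))
      (J.map (algebraMap Γ(X, V) C)))

theorem encard_le_numGeomBranchesAt_fiber {U : Scheme.{u}} (g : U ⟶ X) [Etale g] (u : U) :
    (fibIdeal (g ≫ f) u).minimalPrimes.encard ≤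
      Brnch.numGeomBranchesAt (f.fiber (f (g u))) (f.asFiber (g u)) := by
  rw [← encard_components_fiber_eq (g ≫ f) u ((g ≫ f) u) rfl, setOf_components_fiber_eq]
  refine (encard_components_le_numGeomBranchesAt _ _).trans ?_
  rw [numGeomBranchesAt_eq_of_etale (fiberMap g f ((g ≫ f) u)) ((g ≫ f).asFiber u),
    fiberMap_asFiber]
  exact le_rfl

theorem numGeomBranchesAt_fiber_eq_iSup :
    Brnch.numGeomBranchesAt (f.fiber (f x)) (f.asFiber x) =
      ⨆ (U : Scheme.{u}) (g : U ⟶ X) (u : U) (_ : Etale g ∧ g u = x),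
        {Z : Set ↑((g ≫ f).fiber (f x)) | Z ∈ irreducibleComponents ↑((g ≫ f).fiber (f x)) ∧
          ∃ u' ∈ Z, (g ≫ f).fiberι (f x) u' = u}.encard := by
  apply le_antisymm
  · rw [← ENat.forall_natCast_le_iff_le]
    intro n hn
    obtain ⟨U, g, u, hg, hgu, hle⟩ := exists_etale_nbhd_fiber_of_natCast_le f x n hn
    refine le_trans ?_ (le_iSup_of_le U (le_iSup_of_le g (le_iSup_of_le u
      (le_iSup_of_le ⟨hg, hgu⟩ le_rfl))))
    rw [encard_components_fiber_eq (g ≫ f) u (f x) (by rw [Scheme.Hom.comp_apply, hgu])]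
    exact hle
  · refine iSup_le fun U => iSup_le fun g => iSup_le fun u => iSup_le fun h => ?_
    obtain ⟨hg, rfl⟩ := h
    haveI := hg
    rw [encard_components_fiber_eq (g ≫ f) u (f (g u)) rfl]
    exact encard_le_numGeomBranchesAt_fiber f g u

end Main

end Groth.Agent.Helper15.BrnchF
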