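import Mathlib
import Groth.Prelude
import Groth.Agent.Lib.Helper15.BrnchF4
import Groth.Agent.Lib.Helper1.UB2

/-!
# Branches of fibres as a supremum over elementary étale neighbourhoods (helper15)
-/

set_option autoImplicit false
set_option linter.unusedSectionVars false
set_option linter.unusedVariables false
set_option linter.style.haveILetI false

universe u

open CategoryTheory AlgebraicGeometry Limits

namespace Groth.Agent.Helper15.BrnchF

open IsLocalRing Groth.Agent.Helper15.BrnchEt Groth.Agent.Helper15.BrnchH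
  Groth.Agent.Helper16.FibStalk Groth.Agent.Helper1 Groth.Agent.Helper26

section HQ

variable {X S : Scheme.{u}} (f : X ⟶ S) (x : X)

/-- the number of branches of the fibre at `x` via the henselization of the local ring of `X`
at `x` -/
theorem numBranchesAt_fiber_eq (Rh : Type u) [CommRing Rh] [IsLocalRing Rh]
    [Algebra (X.presheaf.stalk x) Rh] [IsLocalHom (algebraMap (X.presheaf.stalk x) Rh)]
    [Hensel.IsHenselization (X.presheaf.stalk x) Rh] :
    Brnch.numBranchesAt (f.fiber (f x)) (f.asFiber x) =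
      ((fibIdeal f x).map (algebraMap (X.presheaf.stalk x) Rh)).minimalPrimes.encard := by
  set I := fibIdeal f x with hI
  set IS := I.map (algebraMap (X.presheaf.stalk x) Rh) with hIS
  obtain ⟨hlR, hlS, hlh, hH⟩ := UB.isHenselization_quotient_map (X.presheaf.stalk x) Rh I
    (fibIdeal_ne_top f x)
  letI : Algebra (X.presheaf.stalk x ⧸ I) (Rh ⧸ IS) :=
    (Ideal.quotientMap IS (algebraMap (X.presheaf.stalk x) Rh) Ideal.le_comap_map).toAlgebra
  letI : Algebra ((f.fiber (f x)).presheaf.stalk (f.asFiber x)) (Rh ⧸ IS) :=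
    ((algebraMap (X.presheaf.stalk x ⧸ I) (Rh ⧸ IS)).comp
      ((fibStalkEquiv f x).symm :
        (f.fiber (f x)).presheaf.stalk (f.asFiber x) →+* X.presheaf.stalk x ⧸ I)).toAlgebra
  haveI : IsLocalHom (algebraMap ((f.fiber (f x)).presheaf.stalk (f.asFiber x)) (Rh ⧸ IS)) := by
    constructor
    intro a ha
    have h1 : IsUnit (algebraMap (X.presheaf.stalk x ⧸ I) (Rh ⧸ IS)
        ((fibStalkEquiv f x).symm a)) := ha
    have h2 : IsUnit ((fibStalkEquiv f x).symm a) := isUnit_of_map_unit _ _ h1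
    have h3 := h2.map (fibStalkEquiv f x)
    rwa [RingEquiv.apply_symm_apply] at h3
  haveI : Hensel.IsHenselization ((f.fiber (f x)).presheaf.stalk (f.asFiber x)) (Rh ⧸ IS) :=
    isHenselization_of_ringEquiv (X.presheaf.stalk x ⧸ I)
      ((f.fiber (f x)).presheaf.stalk (f.asFiber x)) (Rh ⧸ IS) (fibStalkEquiv f x).symm rfl
  have h1 := Groth.Agent.S9237.result ((f.fiber (f x)).presheaf.stalk (f.asFiber x)) (Rh ⧸ IS)
  show Brnch.numBranches ((f.fiber (f x)).presheaf.stalk (f.asFiber x)) = _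
  rw [← h1, ← encard_minimalPrimes_quotient IS]
  rfl

end HQ

section Res

variable {U X S : Scheme.{u}} (g : U ⟶ X) (f : X ⟶ S)

lemma residueFieldMap_surjective_of_stalkMap_surjective {Y Z : Scheme.{u}} (k : Y ⟶ Z) (y : Y)
    (h : Function.Surjective (k.stalkMap y).hom) :
    Function.Surjective (k.residueFieldMap y) := by
  intro c
  obtain ⟨t, rfl⟩ := IsLocalRing.residue_surjective c
  obtain ⟨a, rfl⟩ := h t
  exact ⟨IsLocalRing.residue _ a, rfl⟩

lemma residueFieldMap_surjective_of_eq (u w : U) (hw : w = u)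
    (hres : Function.Surjective (g.residueFieldMap u)) :
    Function.Surjective (g.residueFieldMap w) := by
  subst hw
  exact hres

lemma fiberMap_residueFieldMap_surjective (u : U)
    (hres : Function.Surjective (g.residueFieldMap u)) :
    Function.Surjective ((fiberMap g f ((g ≫ f) u)).residueFieldMap ((g ≫ f).asFiber u)) := by
  have e := fiberMap_fiberι g f ((g ≫ f) u)
  have h1 := Scheme.Hom.residueFieldMap_congr e ((g ≫ f).asFiber u)
  rw [Scheme.residueFieldMap_comp, Scheme.residueFieldMap_comp] at h1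
  have h2 : Function.Surjective (((g ≫ f).fiberι ((g ≫ f) u)).residueFieldMap
      ((g ≫ f).asFiber u)) :=
    residueFieldMap_surjective_of_stalkMap_surjective _ _
      (stalkMap_fiberι_surjective (g ≫ f) ((g ≫ f) u) ((g ≫ f).asFiber u))
  have h3 : Function.Surjective (g.residueFieldMap
      (((g ≫ f).fiberι ((g ≫ f) u)) ((g ≫ f).asFiber u))) :=
    residueFieldMap_surjective_of_eq g u _ ((g ≫ f).fiberι_asFiber u) hres
  have h4 : Function.Surjective
      ((f.fiberι ((g ≫ f) u)).residueFieldMap (fiberMap g f ((g ≫ f) u) ((g ≫ f).asFiber u)) ≫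
        (fiberMap g f ((g ≫ f) u)).residueFieldMap ((g ≫ f).asFiber u)) := by
    rw [h1]
    intro c
    obtain ⟨b, hb⟩ := h2 c
    obtain ⟨a, ha⟩ := h3 b
    obtain ⟨a', ha'⟩ := (ConcreteCategory.bijective_of_isIso (X.residueFieldCongr
      (congrArg (fun k : (g ≫ f).fiber ((g ≫ f) u) ⟶ X => k ((g ≫ f).asFiber u)) e)).hom).2 a
    refine ⟨a', ?_⟩
    rw [← hb, ← ha, ← ha']
    rfl
  intro c
  obtain ⟨a, ha⟩ := h4 c
  rw [CommRingCat.comp_apply] at ha
  exact ⟨_, ha⟩

end Res

section Alg

variable (R : Type u) [CommRing R] (p : Ideal R) [p.IsPrime]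
  (A : Type u) [CommRing A] [IsLocalRing A] [Algebra R A] [IsLocalization.AtPrime A p]
  (Rh : Type u) [CommRing Rh] [IsLocalRing Rh] [Algebra A Rh] [IsLocalHom (algebraMap A Rh)]
  [Hensel.IsHenselization A Rh] [Algebra R Rh] [IsScalarTower R A Rh]

include p A in
theorem exists_etale_of_natCast_le_hens_rel (J : Ideal R) (n : ℕ)
    (hn : (n : ℕ∞) ≤ ((J.map (algebraMap R Rh)).minimalPrimes).encard) :
    ∃ (C : Type u) (_ : CommRing C) (_ : Algebra R C) (_ : Algebra.Etale R C) (q : Ideal C)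
      (_ : q.IsPrime), q.comap (algebraMap R C) = p ∧
        (∀ a' b' : C, b' ∉ q → ∃ a b : R, b ∉ p ∧
          a' * algebraMap R C b - b' * algebraMap R C a ∈ q) ∧
        (n : ℕ∞) ≤ {P : Ideal C | P ∈ (J.map (algebraMap R C)).minimalPrimes ∧ P ≤ q}.encard := by
  let e : Localization.AtPrime p ≃ₐ[R] A := IsLocalization.algEquiv p.primeCompl _ _
  letI : Algebra (Localization.AtPrime p) Rh :=
    ((algebraMap A Rh).comp (e : Localization.AtPrime p →+* A)).toAlgebra
  have hL : ∀ l, algebraMap (Localization.AtPrime p) Rh l = algebraMap A Rh (e l) := fun _ => rfl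
  haveI : IsLocalHom (algebraMap (Localization.AtPrime p) Rh) := by
    constructor
    intro l hl
    rw [hL] at hl
    have h1 : IsUnit (e l) := isUnit_of_map_unit (algebraMap A Rh) _ hl
    have h2 := h1.map e.symm
    rwa [AlgEquiv.symm_apply_apply] at h2
  haveI : Hensel.IsHenselization (Localization.AtPrime p) Rh :=
    isHenselization_of_ringEquiv A (Localization.AtPrime p) Rh e.toRingEquiv rfl
  haveI : IsScalarTower R (Localization.AtPrime p) Rh := by
    refine IsScalarTower.of_algebraMap_eq (fun r => ?_)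
    rw [hL, e.commutes, IsScalarTower.algebraMap_apply R A Rh]
  have hp := HensPrime.comap_maximalIdeal R p Rh
  obtain ⟨C, _, _, _, φ, hle⟩ := exists_etale_of_natCast_le_rel R Rh (HensPrime.flat R p Rh)
    (HensPrime.isEt R p Rh) J n hn
  refine ⟨C, inferInstance, inferInstance, inferInstance, (maximalIdeal Rh).comap φ.toRingHom,
    Ideal.comap_isPrime _ _, (HensPrime.comap_comap_eq hp φ).symm, ?_, hle⟩
  intro a' b' hb'
  exact ew_of_resSurj hp (HensPrime.resSurj R p Rh) φ a' b' hb'

end Alg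

section Main

variable {X S : Scheme.{u}} (f : X ⟶ S) (x : X)

theorem exists_etaleNbhd_fiber_of_natCast_le (n : ℕ)
    (hn : (n : ℕ∞) ≤ Brnch.numBranchesAt (f.fiber (f x)) (f.asFiber x)) :
    ∃ (U : Scheme.{u}) (g : U ⟶ X) (u : U), Hens2.IsEtaleNbhd g u x ∧
      (n : ℕ∞) ≤ (fibIdeal (g ≫ f) u).minimalPrimes.encard := by
  haveI := Hzn.isHenselization (X.presheaf.stalk x)
  rw [numBranchesAt_fiber_eq f x (Hzn.S (X.presheaf.stalk x))] at hn
  obtain ⟨_, ⟨V, hV, rfl⟩, hxV, -⟩ :=
    X.isBasis_affineOpens.exists_subset_of_mem_open (Set.mem_univ x) isOpen_univ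
  letI := X.presheaf.algebra_section_stalk ⟨x, hxV⟩
  haveI := hV.isLocalization_stalk ⟨x, hxV⟩
  letI : Algebra Γ(X, V) (Hzn.S (X.presheaf.stalk x)) :=
    ((algebraMap (X.presheaf.stalk x) (Hzn.S (X.presheaf.stalk x))).comp
      (algebraMap Γ(X, V) (X.presheaf.stalk x))).toAlgebra
  haveI : IsScalarTower Γ(X, V) (X.presheaf.stalk x) (Hzn.S (X.presheaf.stalk x)) :=
    IsScalarTower.of_algebraMap_eq' rfl
  set p := (hV.primeIdealOf ⟨x, hxV⟩).asIdeal with hp
  set J := (fibIdeal f x).comap (X.presheaf.germ V x hxV).hom with hJdef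
  have hJ : J.map (algebraMap Γ(X, V) (Hzn.S (X.presheaf.stalk x))) =
      (fibIdeal f x).map (algebraMap (X.presheaf.stalk x) (Hzn.S (X.presheaf.stalk x))) := by
    rw [IsScalarTower.algebraMap_eq Γ(X, V) (X.presheaf.stalk x) (Hzn.S (X.presheaf.stalk x)),
      ← Ideal.map_map]
    congr 1
    exact IsLocalization.map_under p.primeCompl (X.presheaf.stalk x) (fibIdeal f x)
  rw [← hJ] at hn
  obtain ⟨C, _, _, hC, q, hqp, hqover, hew, hle⟩ := exists_etale_of_natCast_le_hens_rel Γ(X, V) p
    (X.presheaf.stalk x) (Hzn.S (X.presheaf.stalk x)) J n hn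
  have h1 : (Spec.map (CommRingCat.ofHom (algebraMap Γ(X, V) C))) ⟨q, hqp⟩ =
      hV.primeIdealOf ⟨x, hxV⟩ := PrimeSpectrum.ext hqover
  have hgu : nbhdMap hV C ⟨q, hqp⟩ = x := by
    rw [Scheme.Hom.comp_apply, h1]
    exact hV.fromSpec_primeIdealOf ⟨x, hxV⟩
  haveI : Etale (Spec.map (CommRingCat.ofHom (algebraMap Γ(X, V) C))) := by
    rw [HasRingHomProperty.Spec_iff (P := @Etale)]
    exact RingHom.etale_algebraMap.mpr hC
  refine ⟨Spec (CommRingCat.of C), nbhdMap hV C, ⟨q, hqp⟩, ⟨?_, hgu, ?_⟩, ?_⟩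
  · haveI : IsOpenImmersion hV.fromSpec := inferInstance
    infer_instance
  · refine ⟨RingHom.injective _, ?_⟩
    rw [Scheme.residueFieldMap_comp]
    have h2 : Function.Surjective
        ((Spec.map (CommRingCat.ofHom (algebraMap Γ(X, V) C))).residueFieldMap
          (⟨q, hqp⟩ : PrimeSpectrum C)) := by
      apply Groth.Agent.Helper16.SpecRes.residueFieldMap_surjective_of_ew
      intro a' b' hb'
      rw [h1]
      exact hew a' b' hb'
    have h3 : Function.Bijective (hV.fromSpec.residueFieldMap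
        (Spec.map (CommRingCat.ofHom (algebraMap Γ(X, V) C))
          (⟨q, hqp⟩ : PrimeSpectrum C))) :=
      ConcreteCategory.bijective_of_isIso _
    exact h2.comp h3.2
  · rw [fibIdeal_nbhdMap hV C f ⟨q, hqp⟩ x hxV hgu]
    letI : Algebra C ((Spec.structureSheaf C).presheaf.stalk (⟨q, hqp⟩ : PrimeSpectrum C)) :=
      StructureSheaf.stalkAlgebra C ⟨q, hqp⟩
    haveI : IsLocalization.AtPrime
        ((Spec.structureSheaf C).presheaf.stalk (⟨q, hqp⟩ : PrimeSpectrum C)) q :=
      StructureSheaf.IsLocalization.to_stalk C ⟨q, hqp⟩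
    exact hle.trans (encard_minimalPrimes_le_map_localization q
      ((Spec.structureSheaf C).presheaf.stalk (⟨q, hqp⟩ : PrimeSpectrum C))
      (J.map (algebraMap Γ(X, V) C)))

theorem encard_le_numBranchesAt_fiber {U : Scheme.{u}} (g : U ⟶ X) [Etale g] (u : U)
    (hres : Function.Surjective (g.residueFieldMap u)) :
    (fibIdeal (g ≫ f) u).minimalPrimes.encard ≤
      Brnch.numBranchesAt (f.fiber (f (g u))) (f.asFiber (g u)) := by
  rw [← encard_components_fiber_eq (g ≫ f) u ((g ≫ f) u) rfl, setOf_components_fiber_eq]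
  refine (encard_components_le_numBranchesAt _ _).trans ?_
  rw [numBranchesAt_eq_of_etale (fiberMap g f ((g ≫ f) u)) ((g ≫ f).asFiber u)
    (fiberMap_residueFieldMap_surjective g f u hres), fiberMap_asFiber]
  exact le_rfl

theorem numBranchesAt_fiber_eq_iSup :
    Brnch.numBranchesAt (f.fiber (f x)) (f.asFiber x) =
      ⨆ (U : Scheme.{u}) (g : U ⟶ X) (u : U) (_ : Hens2.IsEtaleNbhd g u x),
        {Z : Set ↑((g ≫ f).fiber (f x)) | Z ∈ irreducibleComponents ↑((g ≫ f).fiber (f x)) ∧
          ∃ u' ∈ Z, (g ≫ f).fiberι (f x) u' = u}.encard := by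
  apply le_antisymm
  · rw [← ENat.forall_natCast_le_iff_le]
    intro n hn
    obtain ⟨U, g, u, hg, hle⟩ := exists_etaleNbhd_fiber_of_natCast_le f x n hn
    refine le_trans ?_ (le_iSup_of_le U (le_iSup_of_le g (le_iSup_of_le u
      (le_iSup_of_le hg le_rfl))))
    have hgu : g u = x := hg.base_eq
    rw [encard_components_fiber_eq (g ≫ f) u (f x) (by rw [Scheme.Hom.comp_apply, hgu])]
    exact hle
  · refine iSup_le fun U => iSup_le fun g => iSup_le fun u => iSup_le fun h => ?_
    obtain ⟨hg, rfl, hres⟩ := h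
    haveI := hg
    have := encard_components_fiber_eq (g ≫ f) u (f (g u)) rfl
    refine le_trans (le_of_eq this) ?_
    exact encard_le_numBranchesAt_fiber f g u hres.2

end Main

end Groth.Agent.Helper15.BrnchF
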