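import Mathlib
import Groth.Prelude
import Groth.Agent.Lib.Helper15.Bir17
import Groth.Agent.Lib.Helper15.Strat6
import Groth.Agent.Lib.Helper15.DenseSch1

/-!
# Points of codimension zero of a quasi-separated algebraic space lie in the schematic locus
-/

set_option autoImplicit false
universe u
open CategoryTheory CategoryTheory.Limits AlgebraicGeometry MorphismProperty Opposite
open AlgSp Groth.Agent.Helper16.AS

namespace Groth.Agent.Helper15.C0Sch

open Groth.Agent.Helper15 Groth.Agent.Helper15.Strat Groth.Agent.Helper15.MaxPts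
  Groth.Agent.Helper15.GenFin Groth.Agent.Helper15.Bir

/-- For an element `f` of a minimal prime `p` some element outside `p` kills a power of `f`. -/
theorem exists_mul_pow_eq_zero_of_mem_minimalPrimes {A : Type u} [CommRing A] (p : Ideal A)
    (hp : p ∈ minimalPrimes A) (f : A) (hf : f ∈ p) : ∃ s : A, s ∉ p ∧ ∃ n : ℕ, s * f ^ n = 0 := by
  haveI hpp : p.IsPrime := hp.1.1
  by_contra hcon
  push Not at hcon
  let M : Submonoid A := p.primeCompl ⊔ Submonoid.powers f
  have hdisj : Disjoint (((⊥ : Ideal A) : Set A)) (M : Set A) := by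
    rw [Set.disjoint_left]
    intro x hx hxM
    have hx0 : x = 0 := hx
    subst hx0
    obtain ⟨y, hy, z, ⟨n, rfl⟩, hyz⟩ := Submonoid.mem_sup.1 hxM
    exact hcon y hy n hyz
  obtain ⟨q, hq, -, hqd⟩ := Ideal.exists_le_prime_disjoint (⊥ : Ideal A) M hdisj
  have hqp : q ≤ p := by
    intro a ha
    by_contra hap
    exact Set.disjoint_left.1 hqd ha ((le_sup_left : p.primeCompl ≤ M) hap)
  have hpq : p ≤ q := hp.2 ⟨hq, bot_le⟩ hqp
  exact Set.disjoint_left.1 hqd (hpq hf)
    ((le_sup_right : Submonoid.powers f ≤ M) (Submonoid.mem_powers f))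

/-- In an affine scheme a maximal point outside a quasi-compact open has a basic open
neighbourhood disjoint from it. -/
theorem exists_basicOpen_disjoint_of_maxPt (Z : Scheme.{u}) [IsAffine Z] (O : Set Z)
    (hO : IsCompact O ∧ IsOpen O) (z : Z) (hz : z ∈ maxPts Z) (hzO : z ∉ O) :
    ∃ r : Γ(Z, ⊤), z ∈ Z.basicOpen r ∧ Disjoint (Z.basicOpen r : Set Z) O := by
  classical
  have hU : IsAffineOpen (⊤ : Z.Opens) := isAffineOpen_top Z
  obtain ⟨s, hs, rfl⟩ := isCompact_and_isOpen_iff_finite_and_eq_biUnion_basicOpen.1 hO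
  have hmin := primeIdealOf_mem_minimalPrimes Z z hz
  have key : ∀ i ∈ s, ∃ t : Γ(Z, ⊤), z ∈ Z.basicOpen t ∧
      Disjoint (Z.basicOpen t : Set Z) (Z.basicOpen i : Set Z) := by
    intro i hi
    have hzi : z ∉ Z.basicOpen i := by
      intro h
      exact hzO (Set.mem_biUnion hi h)
    have hip : i ∈ (hU.primeIdealOf ⟨z, trivial⟩).asIdeal := by
      by_contra h
      exact hzi ((mem_basicOpen_iff_notMem_primeIdealOf hU ⟨z, trivial⟩ i).2 h)
    obtain ⟨t, ht, n, htn⟩ := exists_mul_pow_eq_zero_of_mem_minimalPrimes _ hmin i hip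
    refine ⟨t, (mem_basicOpen_iff_notMem_primeIdealOf hU ⟨z, trivial⟩ t).2 ht, ?_⟩
    rw [Set.disjoint_left]
    intro y hyt hyi
    have h1 := (mem_basicOpen_iff_notMem_primeIdealOf hU ⟨y, trivial⟩ t).1 hyt
    have h2 := (mem_basicOpen_iff_notMem_primeIdealOf hU ⟨y, trivial⟩ i).1 hyi
    have h3 : t * i ^ n ∈ (hU.primeIdealOf ⟨y, trivial⟩).asIdeal := by
      rw [htn]; exact Ideal.zero_mem _
    rcases (hU.primeIdealOf ⟨y, trivial⟩).isPrime.mem_or_mem h3 with h | h
    · exact h1 h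
    · exact h2 ((hU.primeIdealOf ⟨y, trivial⟩).isPrime.mem_of_pow_mem n h)
  choose! t ht1 ht2 using key
  refine ⟨∏ i ∈ hs.toFinset, t i, ?_, ?_⟩
  · rw [mem_basicOpen_iff_notMem_primeIdealOf hU ⟨z, trivial⟩]
    intro h
    obtain ⟨i, hi, hti⟩ := ((hU.primeIdealOf ⟨z, trivial⟩).isPrime.prod_mem_iff).1 h
    have hi' : i ∈ s := hs.mem_toFinset.1 hi
    exact (mem_basicOpen_iff_notMem_primeIdealOf hU ⟨z, trivial⟩ (t i)).1 (ht1 i hi') hti
  · rw [Set.disjoint_left]
    intro y hy hyO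
    obtain ⟨i, hi, hyi⟩ := Set.mem_iUnion₂.1 hyO
    have hyt : y ∈ Z.basicOpen (t i) := by
      rw [mem_basicOpen_iff_notMem_primeIdealOf hU ⟨y, trivial⟩]
      intro h
      apply (mem_basicOpen_iff_notMem_primeIdealOf hU ⟨y, trivial⟩ _).1 hy
      exact Ideal.mem_of_dvd _ (Finset.dvd_prod_of_mem t (hs.mem_toFinset.2 hi)) h
    exact Set.disjoint_left.1 (ht2 i hi) hyt hyi

/-- In a quasi-separated scheme a maximal point outside a quasi-compact open has an open
neighbourhood disjoint from it. -/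
theorem exists_open_disjoint_of_maxPt (Z : Scheme.{u}) [QuasiSeparatedSpace Z] (O : Set Z)
    (hO : IsCompact O) (hOo : IsOpen O) (z : Z) (hz : z ∈ maxPts Z) (hzO : z ∉ O) :
    ∃ N : Z.Opens, z ∈ N ∧ Disjoint (N : Set Z) O := by
  obtain ⟨_, ⟨A, hA, rfl⟩, hzA, -⟩ :=
    Z.isBasis_affineOpens.exists_subset_of_mem_open (Set.mem_univ z) isOpen_univ
  let A' : Z.Opens := A
  haveI : IsAffine (A' : Scheme.{u}) := hA
  let z' : (A' : Scheme.{u}) := ⟨z, hzA⟩
  have hz' : z' ∈ maxPts (A' : Scheme.{u}) := (mem_maxPts_opens_iff A' z').2 hz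
  have hcomp : IsCompact (A'.ι ⁻¹' O) := by
    have h1 : IsCompact (O ∩ (A' : Set Z)) :=
      QuasiSeparatedSpace.inter_isCompact _ _ hOo hO A'.isOpen hA.isCompact
    have h2 : A'.ι ⁻¹' O = A'.ι ⁻¹' (O ∩ (A' : Set Z)) := by
      ext y
      simp only [Set.mem_preimage, Set.mem_inter_iff, iff_self_and]
      intro _
      exact y.2
    rw [h2]
    refine (A'.ι.isOpenEmbedding.isInducing.isCompact_preimage_iff ?_).2 h1
    rw [Scheme.Opens.range_ι]
    exact Set.inter_subset_right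
  obtain ⟨r, hr1, hr2⟩ := exists_basicOpen_disjoint_of_maxPt (A' : Scheme.{u}) (A'.ι ⁻¹' O)
    ⟨hcomp, hOo.preimage A'.ι.continuous⟩ z' hz' hzO
  refine ⟨A'.ι ''ᵁ ((A' : Scheme.{u}).basicOpen r), ⟨z', hr1, rfl⟩, ?_⟩
  rw [Set.disjoint_left]
  rintro _ ⟨y', hy', rfl⟩ hyO
  exact Set.disjoint_left.1 hr2 hy' hyO

variable {S : Scheme.{u}}

/-- **A codimension zero point of a quasi-compact quasi-separated algebraic space has an open
neighbourhood which is a scheme.** -/
theorem exists_open_subscheme_c0_of_qcqs [QuasiSeparatedSpace ↥S] {X : Sp S} (hX : IsAlgSpace X)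
    (hqc : IsQuasiCompactSp X) (hqs : IsQuasiSeparatedSp X) (x : Points X)
    (hx : HasAt (fun U u => ringKrullDim ↥(U.presheaf.stalk u) = 0) X x) :
    ∃ (T : Over S) (a : (yon S).obj T ⟶ X), RepWith @IsOpenImmersion a ∧
      x ∈ Set.range (Points.ofPt a) := by
  classical
  obtain ⟨N, Ω, V, f, h0, hN, hmono, hV, hinj⟩ := exists_filtration hX hqc hqs
  have hex : ∃ m, x ∉ Ω m := ⟨N, by rw [hN]; exact Set.notMem_empty x⟩
  have hm0 : Nat.find hex ≠ 0 := by
    intro h
    have := Nat.find_spec hex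
    rw [h, h0] at this
    exact this (Set.mem_univ x)
  obtain ⟨n, hn⟩ := Nat.exists_eq_succ_of_ne_zero hm0
  have hxn : x ∈ Ω n := by
    by_contra h
    have := Nat.find_min' hex h
    omega
  have hxn1 : x ∉ Ω (n + 1) := by
    have := Nat.find_spec hex
    rwa [hn] at this
  obtain ⟨hVsep, hVc, hfe, hfr⟩ := hV n
  obtain ⟨hVsep', hVc', hfe', hfr'⟩ := hV (n + 1)
  haveI := hVsep
  haveI := hVc
  haveI := hVc'
  obtain ⟨v, hv⟩ : x ∈ Set.range (Points.ofPt (f n)) := by rw [hfr]; exact hxn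
  have hvmax : v ∈ maxPts (V n).left := (hasAt_c0_chart_iff (f n) hfe v).1 (by rw [hv]; exact hx)
  -- the preimage of the next stratum
  have sq := hfe.rep.isPullback' (f (n + 1))
  set W := hfe.rep.pullback (f (n + 1)) with hWdef
  set r₁ : W ⟶ V n := hfe.rep.fst' (f (n + 1)) with hr₁
  set r₂ : W ⟶ V (n + 1) := hfe.rep.snd (f (n + 1)) with hr₂
  have hTq : QuasiCompact (V n).hom := quasiCompact_of_compactSpace _
  haveI : CompactSpace W.left :=
    QcLocal.compactSpace_pullback_of_isQuasiSeparatedSp hqs hTq (f n) (f (n + 1)) r₁ r₂ sq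
  have hOeq : Points.ofPt (f n) ⁻¹' Ω (n + 1) = Set.range r₁.left := by
    ext v'
    constructor
    · intro hv'
      rw [Set.mem_preimage, ← hfr'] at hv'
      obtain ⟨v'', hv''⟩ := hv'
      obtain ⟨w, hw1, -⟩ := exists_of_ofPt_eq sq v' v'' hv''.symm
      exact ⟨w, hw1⟩
    · rintro ⟨w, rfl⟩
      rw [Set.mem_preimage, ← hfr']
      refine ⟨r₂.left w, ?_⟩
      rw [← ofPt_comp_yon_map, ← sq.w, ofPt_comp_yon_map]
  have hOc : IsCompact (Points.ofPt (f n) ⁻¹' Ω (n + 1)) := by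
    rw [hOeq]
    exact isCompact_range r₁.left.continuous
  have hOo : IsOpen (Points.ofPt (f n) ⁻¹' Ω (n + 1)) := by
    rw [← hfr']
    exact (isOpenMap_ofPt_of_etale _ hfe').isOpen_range.preimage (Points.continuous_ofPt _)
  have hvO : v ∉ Points.ofPt (f n) ⁻¹' Ω (n + 1) := by
    rw [Set.mem_preimage, hv]
    exact hxn1
  obtain ⟨N₀, hvN₀, hN₀d⟩ := exists_open_disjoint_of_maxPt (V n).left _ hOc hOo v hvmax hvO
  -- the open subscheme
  let T : Over S := opSub (V n) N₀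
  let a : (yon S).obj T ⟶ X := (yon S).map (opι (V n) N₀) ≫ f n
  have hae : RepWith @Etale a :=
    (RepWith @Etale).comp_mem _ _
      ((repWith_yon_map_iff _ _).2 (inferInstance : Etale N₀.ι)) hfe
  haveI : Mono a := by
    apply mono_of_yon
    intro T' a₁ a₂ h12
    obtain ⟨α₁, rfl⟩ := (yon S).map_surjective a₁
    obtain ⟨α₂, rfl⟩ := (yon S).map_surjective a₂
    have h1 : (yon S).map (α₁ ≫ opι (V n) N₀) ≫ f n = (yon S).map (α₂ ≫ opι (V n) N₀) ≫ f n := by
      rw [Functor.map_comp, Functor.map_comp, Category.assoc, Category.assoc]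
      exact h12
    have h2 : α₁ ≫ opι (V n) N₀ = α₂ ≫ opι (V n) N₀ := by
      refine hinj n T' _ _ h1 ?_
      intro t ht
      rw [ofPt_comp_yon_map] at ht
      refine Set.disjoint_left.1 hN₀d ?_ ht
      exact (α₁.left t).2
    have h3 : α₁.left = α₂.left := by
      have := congrArg (fun φ => φ.left) h2
      exact (cancel_mono N₀.ι).1 this
    congr 1
    exact Over.OverMorphism.ext h3
  refine ⟨T, a, repWith_isOpenImmersion_of_etale_mono a hae, ⟨(⟨v, hvN₀⟩ : (N₀ : Scheme.{u})), ?_⟩⟩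
  rw [ofPt_comp_yon_map]
  exact hv

/-- **A codimension zero point of a quasi-separated algebraic space has an open neighbourhood
which is a scheme.** -/
theorem exists_open_subscheme_c0 [QuasiSeparatedSpace ↥S] {X : Sp S} (hX : IsAlgSpace X)
    (hqs : IsQuasiSeparatedSp X) (x : Points X)
    (hx : HasAt (fun U u => ringKrullDim ↥(U.presheaf.stalk u) = 0) X x) :
    ∃ (T : Over S) (a : (yon S).obj T ⟶ X), RepWith @IsOpenImmersion a ∧
      x ∈ Set.range (Points.ofPt a) := by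
  obtain ⟨U, hUaff, p, u, hpe, rfl⟩ := exists_affine_etale_nbhd hX x
  haveI := hUaff
  obtain ⟨hX₁, hj₁, hpe₁, hps₁, -⟩ := openSubspace_of_etale hX p hpe
  haveI : Mono (Sheaf.imageι p) := mono_of_repWith isOpenImmersion_le_mono _ hj₁
  have hqs₁ : IsQuasiSeparatedSp (Sheaf.image p) :=
    Strat.isQuasiSeparatedSp_of_mono (Sheaf.imageι p) hqs
  have hqc₁ : IsQuasiCompactSp (Sheaf.image p) := ⟨U, Sheaf.toImage p, hpe₁, hps₁, inferInstance⟩
  have hfac : Sheaf.toImage p ≫ Sheaf.imageι p = p := Sheaf.toImage_ι p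
  have hx₁ : HasAt (fun U u => ringKrullDim ↥(U.presheaf.stalk u) = 0) (Sheaf.image p)
      (Points.ofPt (Sheaf.toImage p) u) := by
    rw [hasAt_iff_of_isEtaleMor (etInv_ringKrullDim_stalk 0) hX₁ (Sheaf.imageι p)
      (isEtaleMor_of_isOpenImmersion _ hj₁), Points.map_ofPt, hfac]
    exact hx
  obtain ⟨T, a, ha, t, ht⟩ := exists_open_subscheme_c0_of_qcqs hX₁ hqc₁ hqs₁ _ hx₁
  refine ⟨T, a ≫ Sheaf.imageι p, (RepWith @IsOpenImmersion).comp_mem _ _ ha hj₁, t, ?_⟩
  rw [← Points.map_ofPt, ht, Points.map_ofPt, hfac]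

end Groth.Agent.Helper15.C0Sch
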