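import Mathlib
import Groth.Prelude

/-!
# Effective Cartier divisors and locally principal closed subschemes: the open complement
-/

set_option autoImplicit false
universe u
open CategoryTheory CategoryTheory.Limits AlgebraicGeometry MorphismProperty Opposite

namespace Groth.Agent.Helper15.EffCart

variable {V : Scheme.{u}}

/-- On an affine open where the ideal is generated by `f`, the support is the complement of the
basic open of `f`. -/
theorem mem_support_iff_not_mem_basicOpen (I : V.IdealSheafData) (U : V.affineOpens)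
    (f : Γ(V, U.1)) (hf : I.ideal U = Ideal.span {f}) {x : V} (hx : x ∈ U.1) :
    x ∈ I.support ↔ x ∉ V.basicOpen f := by
  rw [Scheme.IdealSheafData.mem_support_iff_of_mem hx, hf, Scheme.zeroLocus_span,
    Scheme.zeroLocus_singleton]
  rfl

/-- The complement of a locally principal closed subscheme is affine over the ambient scheme. -/
theorem isAffineHom_ι_compl_of_isLocPrincipal (I : V.IdealSheafData)
    (h : Curv2.IsLocPrincipal I) (W : V.Opens) (hW : ∀ x : V, x ∈ W ↔ x ∉ I.support) :
    IsAffineHom W.ι := by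
  apply isAffineHom_of_forall_exists_isAffineOpen
  intro x
  by_cases hx : x ∈ I.support
  · obtain ⟨U, hxU, f, hf⟩ := h x hx
    refine ⟨U.1, hxU, U.2, ?_⟩
    rw [← W.ι.isAffineOpen_iff_of_isOpenImmersion, W.ι.image_preimage_eq_opensRange_inf,
      Scheme.Opens.opensRange_ι]
    have : W ⊓ U.1 = V.basicOpen f := by
      ext y
      constructor
      · rintro ⟨hyW, hyU⟩
        by_contra hyf
        exact (hW y).1 hyW ((mem_support_iff_not_mem_basicOpen I U f hf hyU).2 hyf)
      · intro hyf
        have hyU : y ∈ U.1 := V.basicOpen_le f hyf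
        refine ⟨(hW y).2 (fun hs => ?_), hyU⟩
        exact (mem_support_iff_not_mem_basicOpen I U f hf hyU).1 hs hyf
    rw [this]
    exact U.2.basicOpen f
  · have hxW : x ∈ W := (hW x).2 hx
    obtain ⟨_, ⟨O, hO, rfl⟩, hxO, hOW⟩ :=
      (V.isBasis_affineOpens).exists_subset_of_mem_open hxW W.isOpen
    refine ⟨O, hxO, hO, ?_⟩
    rw [← W.ι.isAffineOpen_iff_of_isOpenImmersion, W.ι.image_preimage_eq_opensRange_inf,
      Scheme.Opens.opensRange_ι]
    have : W ⊓ O = O := inf_eq_right.2 hOW
    rw [this]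
    exact hO

theorem isLocPrincipal_of_isEffCartierIdeal (I : V.IdealSheafData)
    (h : BlowUp.IsEffCartierIdeal I) : Curv2.IsLocPrincipal I := by
  intro x _
  obtain ⟨U, hxU, f, -, hf⟩ := h x
  exact ⟨U, hxU, f, hf⟩


/-- The complement of an effective Cartier divisor is schematically dense. -/
theorem isSchematicallyDense_compl_of_isEffCartierIdeal (I : V.IdealSheafData)
    (h : BlowUp.IsEffCartierIdeal I) (W : V.Opens) (hW : ∀ x : V, x ∈ W ↔ x ∉ I.support) :
    CInt.IsSchematicallyDense W := by
  intro V'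
  rw [injective_iff_map_eq_zero]
  intro s hs
  refine V.IsSheaf.section_ext (U := op V') (fun x hx => ?_)
  obtain ⟨U, hxU, f, hfnzd, hf⟩ := h x
  -- a basic open `D` of `U` inside `V'`
  obtain ⟨g, hgV', hxg⟩ := U.2.exists_basicOpen_le ⟨x, hx⟩ hxU
  set D := V.basicOpen g with hD
  have hDU : D ≤ U.1 := V.basicOpen_le g
  have hDaff : IsAffineOpen D := U.2.basicOpen g
  refine ⟨D, hgV', hxg, ?_⟩
  rw [map_zero]
  -- `f` restricted to `D`
  set fD : Γ(V, D) := V.presheaf.map (homOfLE hDU).op f with hfD
  set sD : Γ(V, D) := V.presheaf.map (homOfLE hgV').op s with hsD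
  have hloc := U.2.isLocalization_basicOpen g
  have hfDnzd : fD ∈ nonZeroDivisors Γ(V, D) := by
    letI := (V.presheaf.map (homOfLE hDU).op).hom.toAlgebra
    exact IsLocalization.map_nonZeroDivisors_le (Submonoid.powers g) Γ(V, D)
      (Submonoid.mem_map_of_mem _ hfnzd)
  -- `D ⊓ W = basicOpen fD`
  have hDW : V.basicOpen fD ≤ V' ⊓ W := by
    rw [Scheme.basicOpen_res]
    rintro y ⟨hyD, hyf⟩
    refine ⟨hgV' hyD, (hW y).2 (fun hys => ?_)⟩
    exact (mem_support_iff_not_mem_basicOpen I U f hf (hDU hyD)).1 hys hyf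
  have hres : sD |_ (V.basicOpen fD) = 0 := by
    have h1 : V.presheaf.map (homOfLE hDW).op
        (V.presheaf.map (homOfLE (inf_le_left : V' ⊓ W ≤ V')).op s) = 0 := by
      rw [hs, map_zero]
    rw [← ConcreteCategory.comp_apply, ← Functor.map_comp] at h1
    rw [hsD, TopCat.Presheaf.restrictOpen, TopCat.Presheaf.restrict,
      ← ConcreteCategory.comp_apply, ← Functor.map_comp]
    exact h1
  obtain ⟨n, hn⟩ := exists_pow_mul_eq_zero_of_res_basicOpen_eq_zero_of_isAffineOpen V hDaff sD fD hres
  exact (mul_left_mem_nonZeroDivisors_eq_zero_iff (pow_mem hfDnzd n)).1 hn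

end Groth.Agent.Helper15.EffCart
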