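import Mathlib
import Groth.Prelude
import Groth.Agent.Lib.Helper15.EffCart1
import Groth.Agent.Lib.Helper15.AlgSpOpen
import Groth.Agent.Lib.Helper15.AlgSpOpenDesc
import Groth.Agent.Lib.Helper15.AlgSpInter
import Groth.Agent.Lib.Helper15.AffDesc4
import Groth.Agent.Lib.Helper15.AlgSpUniv

/-!
# Effective Cartier divisors and locally principal closed subspaces of algebraic spaces:
the complementary open subspace
-/

set_option autoImplicit false
set_option backward.isDefEq.respectTransparency false
universe u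
open CategoryTheory CategoryTheory.Limits AlgebraicGeometry MorphismProperty Opposite
open AlgSp

namespace Groth.Agent.Helper15.EffCart

open Groth.Agent.Helper15

variable {S : Scheme.{u}}

/-- The pullback of an open subspace to a scheme chart is the open subscheme of the points
mapping into it. -/
theorem exists_isPullback_opens {X U : Sp S} (j : U ⟶ X) (hj : RepWith @IsOpenImmersion j)
    {V : Over S} (φ : (yon S).obj V ⟶ X) (W : V.left.Opens)
    (hW : ∀ v : V.left, v ∈ W ↔ Points.ofPt φ v ∈ Set.range (Points.map j)) :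
    ∃ fst : (yon S).obj (Over.mk (W.ι ≫ V.hom)) ⟶ U,
      IsPullback fst ((yon S).map (Over.homMk W.ι rfl : Over.mk (W.ι ≫ V.hom) ⟶ V)) j φ := by
  let WO : Over S := Over.mk (W.ι ≫ V.hom)
  let ιW : WO ⟶ V := Over.homMk W.ι rfl
  haveI : Mono j := mono_of_repWith isOpenImmersion_le_mono j hj
  haveI : IsOpenImmersion ιW.left := (inferInstance : IsOpenImmersion W.ι)
  haveI : Mono ιW.left := inferInstance
  haveI : Mono ιW := Over.mono_of_mono_left ιW
  obtain ⟨fst, hfst⟩ := (factors_through_open_iff j hj ((yon S).map ιW ≫ φ)).2 (by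
    rintro _ ⟨p, rfl⟩
    obtain ⟨w, rfl⟩ := (Points.schemeEquiv WO).surjective p
    change Points.map _ (Points.ofScheme WO w) ∈ _
    rw [← Points.ofPt_eq_map_ofScheme, ofPt_comp_yon_map]
    exact (hW _).1 w.2)
  refine ⟨fst, isPullback_of_mono_of_yon_lift j φ ιW fst hfst ?_⟩
  intro T' c z hz
  refine exists_over_lift_of_range_subset ιW c ?_
  rintro _ ⟨t, rfl⟩
  change c.left t ∈ Set.range W.ι
  rw [Scheme.Opens.range_ι]
  refine (hW _).2 ⟨Points.ofPt z t, ?_⟩
  rw [Points.map_ofPt, hz, ofPt_comp_yon_map]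

/-- The support of the ideal sheaf cutting out the inverse image of a closed subspace in a chart
is the set of points mapping into the closed subspace. -/
theorem mem_support_iff_ofPt_mem_range {X Z : Sp S} (i : Z ⟶ X) {V : Over S}
    (φ : (yon S).obj V ⟶ X) (I : V.left.IdealSheafData)
    (fst : (yon S).obj (Over.mk (I.subschemeι ≫ V.hom)) ⟶ Z)
    (sq : IsPullback fst
      ((yon S).map (Over.homMk I.subschemeι rfl : Over.mk (I.subschemeι ≫ V.hom) ⟶ V)) i φ)
    (v : V.left) : v ∈ I.support ↔ Points.ofPt φ v ∈ Set.range (Points.map i) := by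
  constructor
  · intro hv
    have hv' : v ∈ Set.range I.subschemeι := by
      rw [Scheme.IdealSheafData.range_subschemeι]; exact hv
    obtain ⟨z, rfl⟩ := hv'
    refine ⟨Points.ofPt fst z, ?_⟩
    exact map_ofPt_fst_eq sq z
  · rintro ⟨d, hd⟩
    obtain ⟨p, -, hp⟩ := exists_point_of_isPullback sq d (Points.ofScheme V v)
      (by rw [hd, Points.ofPt_eq_map_ofScheme])
    obtain ⟨z, rfl⟩ := (Points.schemeEquiv _).surjective p
    have h1 : Points.ofScheme V (I.subschemeι z) = Points.ofScheme V v := by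
      rw [← hp]
      change _ = Points.map _ (Points.ofScheme _ z)
      rw [← Points.ofPt_eq_map_ofScheme, ofPt_yon_map]
      rfl
    have h2 : I.subschemeι z = v := (Points.schemeEquiv V).injective h1
    rw [← h2]
    have : I.subschemeι z ∈ Set.range I.subschemeι := ⟨z, rfl⟩
    rw [Scheme.IdealSheafData.range_subschemeι] at this
    exact this


/-- Common part: the complement of a closed subspace which is locally principal on a chart. -/
theorem exists_compl_chart {X Z U : Sp S} (i : Z ⟶ X) (j : U ⟶ X)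
    (hj : RepWith @IsOpenImmersion j)
    (hU : Set.range (Points.map j) = (Set.range (Points.map i))ᶜ) {V : Over S}
    (φ : (yon S).obj V ⟶ X) (I : V.left.IdealSheafData)
    (fst : (yon S).obj (Over.mk (I.subschemeι ≫ V.hom)) ⟶ Z)
    (sq : IsPullback fst
      ((yon S).map (Over.homMk I.subschemeι rfl : Over.mk (I.subschemeι ≫ V.hom) ⟶ V)) i φ) :
    ∃ (W : V.left.Opens) (fstW : (yon S).obj (Over.mk (W.ι ≫ V.hom)) ⟶ U),
      (∀ v : V.left, v ∈ W ↔ v ∉ I.support) ∧
      IsPullback fstW ((yon S).map (Over.homMk W.ι rfl : Over.mk (W.ι ≫ V.hom) ⟶ V)) j φ := by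
  let W : V.left.Opens := ⟨(I.support : Set V.left)ᶜ, I.support.isClosed.isOpen_compl⟩
  have hWs : ∀ v : V.left, v ∈ W ↔ v ∉ I.support := fun v => Iff.rfl
  have hW : ∀ v : V.left, v ∈ W ↔ Points.ofPt φ v ∈ Set.range (Points.map j) := by
    intro v
    rw [hWs, hU, Set.mem_compl_iff, mem_support_iff_ofPt_mem_range i φ I fst sq v]
  obtain ⟨fstW, sqW⟩ := exists_isPullback_opens j hj φ W hW
  exact ⟨W, fstW, hWs, sqW⟩

/-- The open complement of a locally principal closed subspace is affine over the space. -/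
theorem isAffineMor_compl_of_isLocPrincipalSub {X Z U : Sp S} (i : Z ⟶ X)
    (hZ : IsLocPrincipalSub i) (j : U ⟶ X) (hj : RepWith @IsOpenImmersion j)
    (hU : Set.range (Points.map j) = (Set.range (Points.map i))ᶜ) : IsAffineMor j := by
  obtain ⟨hi, V, φ, I, fst, hφe, hφs, sq, hI⟩ := hZ
  obtain ⟨W, fstW, hWs, sqW⟩ := exists_compl_chart i j hj hU φ I fst sq
  have haff : IsAffineHom W.ι := isAffineHom_ι_compl_of_isLocPrincipal I hI W hWs
  refine AffDesc.isAffineMor_of_chart j φ (repWith_mono etale_le_flat hφe)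
    (repWith_mono etale_le_lfp hφe) hφs fstW _ sqW ?_
  rw [isAffineMor_iff_affRep]
  exact affRep_of_repWith ((repWith_yon_map_iff _ _).2 haff)

/-- The open complement of an effective Cartier divisor is affine over the space and
scheme theoretically dense. -/
theorem isAffineMor_and_isSchDense_compl_of_isEffCartierSub {X D U : Sp S} (i : D ⟶ X)
    (hD : IsEffCartierSub i) (j : U ⟶ X) (hj : RepWith @IsOpenImmersion j)
    (hU : Set.range (Points.map j) = (Set.range (Points.map i))ᶜ) :
    IsAffineMor j ∧ IsSchDense j := by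
  obtain ⟨hi, V, φ, I, fst, hφe, hφs, sq, hI⟩ := hD
  refine ⟨isAffineMor_compl_of_isLocPrincipalSub i
    ⟨hi, V, φ, I, fst, hφe, hφs, sq, isLocPrincipal_of_isEffCartierIdeal I hI⟩ j hj hU, ?_⟩
  obtain ⟨W, fstW, hWs, sqW⟩ := exists_compl_chart i j hj hU φ I fst sq
  exact ⟨hj, V, φ, W, fstW, hφe, hφs, sqW,
    isSchematicallyDense_compl_of_isEffCartierIdeal I hI W hWs⟩

end Groth.Agent.Helper15.EffCart
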