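import Mathlib
import Groth.Prelude
import Groth.Agent.Lib.Helper15.AlgSpField
import Groth.Agent.Lib.Helper15.NormQf1

/-!
# Sheaves of ideals on the small étale site and closed subspaces, I:
factoring through a closed subspace is detected on kernels
-/

set_option autoImplicit false
set_option backward.isDefEq.respectTransparency false
universe u
open CategoryTheory CategoryTheory.Limits AlgebraicGeometry MorphismProperty Opposite
open AlgSp

namespace Groth.Agent.Helper15.IdealEt

open Groth.Agent.Helper15 Groth.Agent.Helper15.Norm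

variable {S : Scheme.{u}}

/-- A morphism to an affine scheme factors through a closed subscheme as soon as it kills the
kernel of the closed subscheme on global functions. -/
theorem exists_lift_of_ker_le {W U T : Scheme.{u}} [IsAffine U] (c : W ⟶ U)
    [IsClosedImmersion c] (g : T ⟶ U)
    (h : RingHom.ker c.appTop.hom ≤ RingHom.ker g.appTop.hom) : ∃ m : T ⟶ W, m ≫ c = g := by
  have hle : c.ker ≤ g.ker := by
    rw [Scheme.ker_of_isAffine, Scheme.ker_of_isAffine]
    exact (map_le_map_iff (Scheme.IdealSheafData.equivOfIsAffine (X := U)).symm).2 h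
  exact ⟨IsClosedImmersion.lift c g hle, IsClosedImmersion.lift_fac _ _ _⟩

/-- The same over a base. -/
theorem exists_over_lift_of_ker_le {W U T : Over S} (hU : IsAffine U.left) (c : W ⟶ U)
    (hc : IsClosedImmersion c.left) (g : T ⟶ U)
    (h : RingHom.ker c.left.appTop.hom ≤ RingHom.ker g.left.appTop.hom) :
    ∃ m : T ⟶ W, m ≫ c = g := by
  obtain ⟨m, hm⟩ := exists_lift_of_ker_le c.left g.left h
  refine ⟨Over.homMk m ?_, ?_⟩
  · rw [← Over.w c, ← Category.assoc, hm, Over.w g]
  · ext
    exact hm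

/-- A morphism factors through a monomorphism as soon as it does so on a jointly epimorphic
family. -/
theorem exists_factor_of_jointlyEpi {X Z Y : Sp S} (i : Z ⟶ X) [Mono i] (f : Y ⟶ X)
    {ι : Type u} {H : ι → Sp S} (e : ∀ v, H v ⟶ Y) (he : JointlyEpi H e)
    (hl : ∀ v, ∃ l : H v ⟶ Z, l ≫ i = e v ≫ f) : ∃ k : Y ⟶ Z, k ≫ i = f := by
  choose l hl using hl
  obtain ⟨d, hd⟩ := he.exists_desc l (by
    intro T v w y y' hyy'
    rw [← cancel_mono i, Category.assoc, Category.assoc, hl v, hl w, ← Category.assoc,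
      ← Category.assoc, hyy'])
  refine ⟨d, ?_⟩
  apply he.hom_ext
  intro v
  rw [← Category.assoc, hd v, hl v]


/-- An algebraic space has a small family of affine étale charts covering all points. -/
theorem exists_affine_atlas {X : Sp S} (hX : IsAlgSpace X) :
    ∃ (ι : Type u) (E : ι → EtOver X), (∀ v, IsAffine (E v).obj.left.left) ∧
      ∀ x : Points X, ∃ (v : ι) (t : (E v).obj.left.left), Points.ofPt (E v).obj.hom t = x := by
  obtain ⟨U, p, hpe, hps⟩ := hX.atlas
  let T' : U.left.affineOpens → Over S := fun O => Over.mk (O.1.ι ≫ U.hom)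
  let j : ∀ O : U.left.affineOpens, T' O ⟶ U := fun O => Over.homMk O.1.ι rfl
  have hj : ∀ O, RepWith @Etale ((yon S).map (j O) ≫ p) := fun O =>
    (RepWith @Etale).comp_mem _ _
      ((repWith_yon_map_iff _ (j O)).2 (show Etale O.1.ι from inferInstance)) hpe
  refine ⟨U.left.affineOpens, fun O => EtOver.mk ((yon S).map (j O) ≫ p) (hj O),
    fun O => (show IsAffineOpen O.1 from O.2), fun x => ?_⟩
  obtain ⟨u, rfl⟩ := surjective_ofPt p hps x
  obtain ⟨_, ⟨O, hO, rfl⟩, huO, -⟩ :=
    (U.left.isBasis_affineOpens).exists_subset_of_mem_open (Set.mem_univ u) isOpen_univ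
  refine ⟨⟨O, hO⟩, (⟨u, huO⟩ : (O : U.left.Opens)), ?_⟩
  change Points.ofPt ((yon S).map (j ⟨O, hO⟩) ≫ p) _ = _
  rw [ofPt_comp_yon_map]
  rfl

/-- The base change of a covering family of étale charts along a representable morphism is a
jointly epimorphic family. -/
theorem jointlyEpi_bc {X Y : Sp S} (h : Y ⟶ X) (hh : Representable h) {ι : Type u}
    (E : ι → EtOver X)
    (hE : ∀ x : Points X, ∃ (v : ι) (t : (E v).obj.left.left),
      Points.ofPt (E v).obj.hom t = x) :
    JointlyEpi (fun v => (yon S).obj (EtOver.bcObj hh (E v)).obj.left)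
      (fun v => (EtOver.bcObj hh (E v)).obj.hom) := by
  refine jointlyEpi_of_repWith_etale _ _ (fun v => (EtOver.bcObj hh (E v)).property) (fun y => ?_)
  obtain ⟨v, t, ht⟩ := hE (Points.map h y)
  have sq := EtOver.isPullback_bcObj hh (E v)
  obtain ⟨q, hq, -⟩ := exists_point_of_isPullback sq y (Points.ofScheme _ t)
    (by rw [← ht, Points.ofPt_eq_map_ofScheme])
  exact ⟨v, q, hq⟩


/-- If `h` factors through `i`, the kernel family of `i` is contained in that of `h`. -/
theorem idealOfRep_le_of_factor {X Z Y : Sp S} (i : Z ⟶ X) (hi : Representable i) (h : Y ⟶ X)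
    (hh : Representable h) (k : Y ⟶ Z) (hk : k ≫ i = h) : idealOfRep hi ≤ idealOfRep hh := by
  intro E hE a ha
  rw [mem_idealOfRep_iff] at ha ⊢
  let m : (EtOver.bcObj hh E).obj.left ⟶ (EtOver.bcObj hi E).obj.left :=
    hi.lift (hh.fst E.obj.hom ≫ k) (hh.snd E.obj.hom) (by rw [Category.assoc, hk, hh.w])
  have hm : m ≫ EtOver.bcπ hi E = EtOver.bcπ hh E := hi.lift_snd _ _ _
  have h2 : (EtOver.bcπ hh E).left = m.left ≫ (EtOver.bcπ hi E).left := by
    rw [← hm, Over.comp_left]
  rw [h2, Scheme.Hom.comp_appTop, CommRingCat.hom_comp, RingHom.comp_apply, ha, map_zero]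

/-- A representable morphism to an algebraic space factors through a closed subspace as soon as
its kernel family contains the kernel family of the closed subspace. -/
theorem exists_factor_of_idealOfRep_le {X Z Y : Sp S} (hX : IsAlgSpace X) (i : Z ⟶ X)
    (hi : RepWith @IsClosedImmersion i) (h : Y ⟶ X) (hh : Representable h)
    (hle : idealOfRep hi.1 ≤ idealOfRep hh) : ∃ k : Y ⟶ Z, k ≫ i = h := by
  obtain ⟨ι, E, hEa, hEs⟩ := exists_affine_atlas hX
  haveI : Mono i := mono_of_repWith isClosedImmersion_le_mono i hi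
  refine exists_factor_of_jointlyEpi i h _ (jointlyEpi_bc h hh E hEs) (fun v => ?_)
  have hc : IsClosedImmersion (EtOver.bcπ hi.1 (E v)).left := hi.property_snd (E v).obj.hom
  obtain ⟨m, hm⟩ := exists_over_lift_of_ker_le (hEa v) (EtOver.bcπ hi.1 (E v)) hc
    (EtOver.bcπ hh (E v)) (hle (E v) (hEa v))
  refine ⟨(yon S).map m ≫ hi.1.fst (E v).obj.hom, ?_⟩
  rw [Category.assoc, hi.1.w, ← Category.assoc, ← Functor.map_comp, hm]
  exact (hh.w (E v).obj.hom).symm

theorem exists_factor_iff_idealOfRep_le {X Z Y : Sp S} (hX : IsAlgSpace X) (i : Z ⟶ X)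
    (hi : RepWith @IsClosedImmersion i) (h : Y ⟶ X) (hh : Representable h) :
    (∃ k : Y ⟶ Z, k ≫ i = h) ↔ idealOfRep hi.1 ≤ idealOfRep hh :=
  ⟨fun ⟨k, hk⟩ => idealOfRep_le_of_factor i hi.1 h hh k hk,
    exists_factor_of_idealOfRep_le hX i hi h hh⟩

end Groth.Agent.Helper15.IdealEt
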