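import Mathlib
import Groth.Prelude
import Groth.Agent.Lib.Helper15.IdealEt1
import Groth.Agent.Lib.Helper15.AffDesc8
import Groth.Agent.Lib.Helper15.AlgSpInter

/-!
# Sheaves of ideals on the small étale site and closed subspaces, II:
every quasi-coherent sheaf of ideals cuts out a closed subspace
-/

set_option autoImplicit false
set_option backward.isDefEq.respectTransparency false
universe u
open CategoryTheory CategoryTheory.Limits AlgebraicGeometry MorphismProperty Opposite
open AlgSp

namespace Groth.Agent.Helper15.IdealEt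

open Groth.Agent.Helper15 Groth.Agent.Helper15.Norm

variable {S : Scheme.{u}}

/-- Every ideal of the global functions of an affine scheme is the kernel of a closed
immersion. -/
theorem exists_closedImmersion_of_ideal {U : Scheme.{u}} [IsAffine U] (J : Ideal Γ(U, ⊤)) :
    ∃ (W : Scheme.{u}) (c : W ⟶ U), IsClosedImmersion c ∧ RingHom.ker c.appTop.hom = J := by
  refine ⟨_, (Scheme.IdealSheafData.ofIdealTop J).subschemeι, inferInstance, ?_⟩
  have h1 := Scheme.ker_of_isAffine (Scheme.IdealSheafData.ofIdealTop J).subschemeι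
  rw [Scheme.IdealSheafData.ker_subschemeι] at h1
  exact ((Scheme.IdealSheafData.equivOfIsAffine (X := U)).symm.injective h1).symm

/-- A global function which vanishes on the members of an open cover is zero. -/
theorem eq_zero_of_forall_ι_appTop {W : Scheme.{u}} {K : Type*} (U : K → W.Opens)
    (hU : ∀ x : W, ∃ k, x ∈ U k) (f : Γ(W, ⊤)) (h : ∀ k, (U k).ι.appTop.hom f = 0) : f = 0 := by
  refine W.sheaf.eq_of_locally_eq' (fun k => (U k).ι ''ᵁ ⊤) ⊤ (fun k => homOfLE le_top) ?_ f 0
    (fun k => ?_)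
  · intro x _
    obtain ⟨k, hk⟩ := hU x
    rw [TopologicalSpace.Opens.mem_iSup]
    refine ⟨k, ?_⟩
    rw [Scheme.Opens.ι_image_top]
    exact hk
  · rw [map_zero]
    exact h k


theorem appTop_comp_apply {A B C : Scheme.{u}} (f : A ⟶ B) (g : B ⟶ C) (a : Γ(C, ⊤)) :
    (f ≫ g).appTop.hom a = f.appTop.hom (g.appTop.hom a) := by
  rw [Scheme.Hom.comp_appTop, CommRingCat.hom_comp, RingHom.comp_apply]

variable {X : Sp S}

/-- The morphism `w` to the affine chart `E` kills the ideal `I(E)`. -/
def Kills (I : IdealEt X) (E : EtOver X) (hE : IsAffine E.obj.left.left) {W : Over S}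
    (w : W ⟶ E.obj.left) : Prop :=
  I.ideal E hE ≤ RingHom.ker w.left.appTop.hom

theorem Kills.precomp {I : IdealEt X} {E : EtOver X} {hE : IsAffine E.obj.left.left} {W W' : Over S}
    {w : W ⟶ E.obj.left} (h : Kills I E hE w) (k : W' ⟶ W) : Kills I E hE (k ≫ w) := by
  intro a ha
  have h1 := h ha
  rw [RingHom.mem_ker] at h1 ⊢
  rw [Over.comp_left, Scheme.Hom.comp_appTop, CommRingCat.hom_comp, RingHom.comp_apply, h1,
    map_zero]

/-- For a quasi-coherent family of ideals, whether a scheme over `X` kills the ideal does not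
depend on the affine chart through which it is seen. -/
theorem Kills.of_qcoh {I : IdealEt X} (hI : I.IsQCoh) {E E' : EtOver X}
    {hE : IsAffine E.obj.left.left} (hE' : IsAffine E'.obj.left.left) {W : Over S}
    {w : W ⟶ E.obj.left} (w' : W ⟶ E'.obj.left)
    (hww' : (yon S).map w ≫ E.obj.hom = (yon S).map w' ≫ E'.obj.hom) (h : Kills I E hE w) :
    Kills I E' hE' w' := by
  have hrep : Representable E.obj.hom := E.property.1
  let P : Over S := hrep.pullback E'.obj.hom
  let p₁ : P ⟶ E.obj.left := hrep.fst' E'.obj.hom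
  let p₂ : P ⟶ E'.obj.left := hrep.snd E'.obj.hom
  have sq : IsPullback ((yon S).map p₁) ((yon S).map p₂) E.obj.hom E'.obj.hom :=
    hrep.isPullback' _
  have hp₂ : Etale p₂.left := E.property.property_snd E'.obj.hom
  let m : W ⟶ P := hrep.lift' w w' hww'
  have hm₁ : m ≫ p₁ = w := hrep.lift'_fst _ _ _
  have hm₂ : m ≫ p₂ = w' := hrep.lift'_snd _ _ _
  intro a' ha'
  rw [RingHom.mem_ker]
  refine eq_zero_of_forall_ι_appTop (K := P.left.affineOpens) (fun Q => m.left ⁻¹ᵁ Q.1)
    (fun x => ?_) _ (fun Q => ?_)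
  · obtain ⟨_, ⟨O, hO, rfl⟩, hxO, -⟩ :=
      (P.left.isBasis_affineOpens).exists_subset_of_mem_open (Set.mem_univ (m.left x)) isOpen_univ
    exact ⟨⟨O, hO⟩, hxO⟩
  · -- the affine chart `Q` of `P`
    let QO : Over S := Over.mk (Q.1.ι ≫ P.hom)
    let jQ : QO ⟶ P := Over.homMk Q.1.ι rfl
    have hEQ : RepWith @Etale ((yon S).map (jQ ≫ p₂) ≫ E'.obj.hom) := by
      refine (RepWith @Etale).comp_mem _ _ ((repWith_yon_map_iff _ _).2 ?_) E'.property
      change Etale (Q.1.ι ≫ p₂.left)
      infer_instance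
    let EQ : EtOver X := EtOver.mk ((yon S).map (jQ ≫ p₂) ≫ E'.obj.hom) hEQ
    have hQa : IsAffine EQ.obj.left.left := (show IsAffineOpen Q.1 from Q.2)
    let g' : EQ ⟶ E' := EtOver.homMk (jQ ≫ p₂) rfl
    let g : EQ ⟶ E := EtOver.homMk (jQ ≫ p₁) (by
      change (yon S).map (jQ ≫ p₁) ≫ E.obj.hom = (yon S).map (jQ ≫ p₂) ≫ E'.obj.hom
      rw [Functor.map_comp, Functor.map_comp, Category.assoc, Category.assoc, sq.w])
    let mQ := m.left ∣_ Q.1
    have hmQ : mQ ≫ Q.1.ι = (m.left ⁻¹ᵁ Q.1).ι ≫ m.left := morphismRestrict_ι _ _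
    have key1 : (m.left ⁻¹ᵁ Q.1).ι ≫ w'.left = mQ ≫ g'.hom.left.left := by
      change _ = mQ ≫ Q.1.ι ≫ p₂.left
      rw [← Category.assoc, hmQ, Category.assoc, ← Over.comp_left, hm₂]
    have key2 : (m.left ⁻¹ᵁ Q.1).ι ≫ w.left = mQ ≫ g.hom.left.left := by
      change _ = mQ ≫ Q.1.ι ≫ p₁.left
      rw [← Category.assoc, hmQ, Category.assoc, ← Over.comp_left, hm₁]
    have hb : g'.hom.left.left.appTop.hom a' ∈ I.ideal EQ hQa :=
      I.map_le g' hE' hQa (Ideal.mem_map_of_mem _ ha')
    have hb' := hI g hE hQa hb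
    have hle : (I.ideal E hE).map g.hom.left.left.appTop.hom ≤ RingHom.ker mQ.appTop.hom := by
      rw [Ideal.map_le_iff_le_comap]
      intro a ha
      rw [Ideal.mem_comap, RingHom.mem_ker]
      have h1 : w.left.appTop.hom a = 0 := h ha
      calc mQ.appTop.hom (g.hom.left.left.appTop.hom a)
          = (mQ ≫ g.hom.left.left).appTop.hom a := (appTop_comp_apply _ _ _).symm
        _ = ((m.left ⁻¹ᵁ Q.1).ι ≫ w.left).appTop.hom a :=
            congrArg (fun φ => φ.appTop.hom a) key2.symm
        _ = (m.left ⁻¹ᵁ Q.1).ι.appTop.hom (w.left.appTop.hom a) := appTop_comp_apply _ _ _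
        _ = 0 := by rw [h1, map_zero]
    have h3 : mQ.appTop.hom (g'.hom.left.left.appTop.hom a') = 0 := hle hb'
    calc (m.left ⁻¹ᵁ Q.1).ι.appTop.hom (w'.left.appTop.hom a')
        = ((m.left ⁻¹ᵁ Q.1).ι ≫ w'.left).appTop.hom a' := (appTop_comp_apply _ _ _).symm
      _ = (mQ ≫ g'.hom.left.left).appTop.hom a' := congrArg (fun φ => φ.appTop.hom a') key1
      _ = mQ.appTop.hom (g'.hom.left.left.appTop.hom a') := appTop_comp_apply _ _ _
      _ = 0 := h3


/-- The closed subscheme of an affine chart cut out by the value of the family of ideals. -/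
theorem exists_chart_closed (I : IdealEt X) (E : EtOver X) (hE : IsAffine E.obj.left.left) :
    ∃ (ZE : Over S) (c : ZE ⟶ E.obj.left), IsClosedImmersion c.left ∧
      RingHom.ker c.left.appTop.hom = I.ideal E hE := by
  obtain ⟨W, c, hc, hk⟩ := exists_closedImmersion_of_ideal (I.ideal E hE)
  exact ⟨Over.mk (c ≫ E.obj.left.hom), Over.homMk c rfl, hc, hk⟩

theorem kills_iff_factors {I : IdealEt X} {E : EtOver X} {hE : IsAffine E.obj.left.left}
    {ZE : Over S} (c : ZE ⟶ E.obj.left) (hc : IsClosedImmersion c.left)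
    (hk : RingHom.ker c.left.appTop.hom = I.ideal E hE) {W : Over S} (w : W ⟶ E.obj.left) :
    Kills I E hE w ↔ ∃ m : W ⟶ ZE, m ≫ c = w := by
  constructor
  · intro h
    refine exists_over_lift_of_ker_le hE c hc w ?_
    rw [hk]
    exact h
  · rintro ⟨m, rfl⟩
    intro a ha
    rw [← hk, RingHom.mem_ker] at ha
    rw [RingHom.mem_ker, Over.comp_left, appTop_comp_apply, ha, map_zero]

/-- The morphism `x : h_T ⟶ X` kills the family of ideals `I`: on every scheme over `T` and over
an affine chart `E` of `X`, compatibly over `X`, the functions in `I(E)` vanish. -/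
def Vanishes (I : IdealEt X) {T : Over S} (x : (yon S).obj T ⟶ X) : Prop :=
  ∀ (E : EtOver X) (hE : IsAffine E.obj.left.left) (W : Over S) (w : W ⟶ E.obj.left) (t : W ⟶ T),
    (yon S).map w ≫ E.obj.hom = (yon S).map t ≫ x → Kills I E hE w

theorem Vanishes.precomp {I : IdealEt X} {T T' : Over S} {x : (yon S).obj T ⟶ X}
    (h : Vanishes I x) (k : T' ⟶ T) : Vanishes I ((yon S).map k ≫ x) := by
  intro E hE W w t hwt
  refine h E hE W w (t ≫ k) ?_
  rw [hwt, Functor.map_comp, Category.assoc]

theorem vanishes_chart_iff {I : IdealEt X} (hI : I.IsQCoh) (E : EtOver X)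
    (hE : IsAffine E.obj.left.left) {T : Over S} (t : T ⟶ E.obj.left) :
    Vanishes I ((yon S).map t ≫ E.obj.hom) ↔ Kills I E hE t := by
  constructor
  · intro h
    refine h E hE T t (𝟙 T) ?_
    rw [(yon S).map_id, Category.id_comp]
  · intro h E' hE' W w' t' hwt
    refine Kills.of_qcoh hI hE' (w := t' ≫ t) w' ?_ (h.precomp t')
    rw [hwt, Functor.map_comp, Category.assoc]

/-- Killing `I` is local for the fppf topology. -/
theorem vanishes_of_locally {I : IdealEt X} {T : Over S} (x : (yon S).obj T ⟶ X) (R : Sieve T)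
    (hR : R ∈ (J S) T) (h : ∀ ⦃T' : Over S⦄ (k : T' ⟶ T), R k → Vanishes I ((yon S).map k ≫ x)) :
    Vanishes I x := by
  intro E hE W w t hwt
  obtain ⟨ZE, c, hc, hk⟩ := exists_chart_closed I E hE
  rw [kills_iff_factors c hc hk]
  haveI : Mono ((yon S).map c) :=
    mono_of_repWith isClosedImmersion_le_mono _ ((repWith_yon_map_iff _ _).2 hc)
  obtain ⟨z, hz⟩ := factors_of_locally_factors ((yon S).map c) ((yon S).map w) (R.pullback t)
    ((J S).pullback_stable t hR) (fun W' k hk' => by
      have h1 : Kills I E hE (k ≫ w) := by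
        refine h (k ≫ t) hk' E hE W' (k ≫ w) (𝟙 W') ?_
        rw [(yon S).map_id, Category.id_comp, Functor.map_comp, Category.assoc, hwt,
          Functor.map_comp, Category.assoc]
      obtain ⟨m, hm⟩ := (kills_iff_factors c hc hk (k ≫ w)).1 h1
      exact ⟨(yon S).map m, by rw [← Functor.map_comp, hm, Functor.map_comp]⟩)
  obtain ⟨m, rfl⟩ := (yon S).map_surjective z
  exact ⟨m, (yon S).map_injective (by rw [Functor.map_comp, hz])⟩


/-- The subfunctor of `X` of the sections killing `I`. -/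
def vanSub (I : IdealEt X) : Subfunctor X.obj where
  obj T := {s | Vanishes I ((yonEquiv (T := T.unop) (F := X)).symm s)}
  map {U V} i s hs := by
    change Vanishes I (yonEquiv.symm (X.obj.map i s))
    have h1 := GrothendieckTopology.uliftYonedaEquiv_symm_naturality_left.{u + 1} (J S) i.unop X s
    have h2 : Vanishes I ((yon S).map i.unop ≫ yonEquiv.symm s) := Vanishes.precomp hs i.unop
    rw [h1] at h2
    exact h2

theorem mem_vanSub_iff (I : IdealEt X) {T : Over S} (x : (yon S).obj T ⟶ X) :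
    yonEquiv x ∈ (vanSub I).obj (op T) ↔ Vanishes I x := by
  have h : yonEquiv.symm (yonEquiv x) = x := Equiv.symm_apply_apply _ _
  constructor
  · intro h'
    have h'' : Vanishes I (yonEquiv.symm (yonEquiv x)) := h'
    rwa [h] at h''
  · intro h'
    change Vanishes I (yonEquiv.symm (yonEquiv x))
    rwa [h]

theorem isSheaf_vanSub (I : IdealEt X) : Presieve.IsSheaf (J S) (vanSub I).toFunctor := by
  have hF : Presieve.IsSheaf (J S) X.obj := (isSheaf_iff_isSheaf_of_type _ _).1 X.property
  rw [Subfunctor.isSheaf_iff _ hF]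
  rintro ⟨T⟩ s hs
  obtain ⟨x, rfl⟩ := (yonEquiv (T := T) (F := X)).surjective s
  rw [mem_vanSub_iff]
  refine vanishes_of_locally x _ hs (fun T' k hk => ?_)
  rw [← mem_vanSub_iff, ← GrothendieckTopology.uliftYonedaEquiv_naturality]
  exact hk

/-- The subsheaf of `X` cut out by the family of ideals `I`. -/
noncomputable def closedSub (I : IdealEt X) : Sp S :=
  ⟨(vanSub I).toFunctor, (isSheaf_iff_isSheaf_of_type _ _).2 (isSheaf_vanSub I)⟩

/-- The inclusion of the subsheaf cut out by `I`. -/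
noncomputable def closedSubι (I : IdealEt X) : closedSub I ⟶ X := ⟨(vanSub I).ι⟩

instance (I : IdealEt X) : Mono (closedSubι I) := by
  haveI : Mono (closedSubι I).hom := by
    change Mono (vanSub I).ι
    infer_instance
  exact Sheaf.Hom.mono_of_presheaf_mono _ _ _

theorem factors_closedSubι_iff (I : IdealEt X) {T : Over S} (x : (yon S).obj T ⟶ X) :
    (∃ z : (yon S).obj T ⟶ closedSub I, z ≫ closedSubι I = x) ↔ Vanishes I x := by
  constructor
  · rintro ⟨z, rfl⟩
    rw [← mem_vanSub_iff, GrothendieckTopology.uliftYonedaEquiv_comp]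
    exact (yonEquiv z).2
  · intro h
    refine ⟨yonEquiv.symm ⟨yonEquiv x, (mem_vanSub_iff I x).2 h⟩, ?_⟩
    apply yonEquiv.injective
    rw [GrothendieckTopology.uliftYonedaEquiv_comp, Equiv.apply_symm_apply]
    rfl


/-- Over an affine chart, the subsheaf cut out by a quasi-coherent family of ideals is the closed
subscheme cut out by the value of the family. -/
theorem isPullback_closedSub_chart {I : IdealEt X} (hI : I.IsQCoh) (E : EtOver X)
    (hE : IsAffine E.obj.left.left) {ZE : Over S} (c : ZE ⟶ E.obj.left)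
    (hc : IsClosedImmersion c.left) (hk : RingHom.ker c.left.appTop.hom = I.ideal E hE) :
    ∃ fst : (yon S).obj ZE ⟶ closedSub I,
      IsPullback fst ((yon S).map c) (closedSubι I) E.obj.hom := by
  have h1 : Vanishes I ((yon S).map c ≫ E.obj.hom) :=
    (vanishes_chart_iff hI E hE c).2 ((kills_iff_factors c hc hk c).2 ⟨𝟙 _, Category.id_comp _⟩)
  obtain ⟨fst, hfst⟩ := (factors_closedSubι_iff I _).2 h1
  haveI : Mono c.left := inferInstance
  haveI : Mono c := Over.mono_of_mono_left c
  refine ⟨fst, isPullback_of_mono_of_yon_lift (closedSubι I) E.obj.hom c fst hfst ?_⟩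
  intro T' c' z hz
  have h2 : Vanishes I ((yon S).map c' ≫ E.obj.hom) := (factors_closedSubι_iff I _).1 ⟨z, hz⟩
  exact (kills_iff_factors c hc hk c').1 ((vanishes_chart_iff hI E hE c').1 h2)

/-- Every quasi-coherent family of ideals on an algebraic space cuts out a closed subspace. -/
theorem exists_isCutOutBy (hX : IsAlgSpace X) (I : IdealEt X) (hI : I.IsQCoh) :
    ∃ hi : RepWith @IsClosedImmersion (closedSubι I), idealOfRep hi.1 = I := by
  have hi : RepWith @IsClosedImmersion (closedSubι I) := by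
    refine AffDesc.repWith_isClosedImmersion_of_forall_etale_affine hX (closedSubι I) ?_
    intro V hV b hb
    obtain ⟨ZE, c, hc, hk⟩ := exists_chart_closed I (EtOver.mk b hb) hV
    obtain ⟨fst, sq⟩ := isPullback_closedSub_chart hI (EtOver.mk b hb) hV c hc hk
    exact ⟨ZE, c, fst, hc, sq⟩
  refine ⟨hi, ?_⟩
  apply IdealEt.ext
  funext E hE
  change RingHom.ker (EtOver.bcπ hi.1 E).left.appTop.hom = _
  obtain ⟨ZE, c, hc, hk⟩ := exists_chart_closed I E hE
  obtain ⟨fst, sq⟩ := isPullback_closedSub_chart hI E hE c hc hk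
  have sq' := EtOver.isPullback_bcObj hi.1 E
  obtain ⟨m₁, hm₁⟩ := (yon S).map_surjective (sq'.lift fst ((yon S).map c) sq.w)
  have hm₁' : m₁ ≫ EtOver.bcπ hi.1 E = c := (yon S).map_injective (by
    rw [Functor.map_comp, hm₁, sq'.lift_snd])
  obtain ⟨m₂, hm₂⟩ := (yon S).map_surjective
    (sq.lift (EtOver.bcObj hi.1 E).obj.hom ((yon S).map (EtOver.bcπ hi.1 E)) sq'.w)
  have hm₂' : m₂ ≫ c = EtOver.bcπ hi.1 E := (yon S).map_injective (by
    rw [Functor.map_comp, hm₂, sq.lift_snd])
  rw [← hk]
  apply le_antisymm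
  · intro a ha
    rw [RingHom.mem_ker] at ha ⊢
    rw [← hm₁', Over.comp_left, appTop_comp_apply, ha, map_zero]
  · intro a ha
    rw [RingHom.mem_ker] at ha ⊢
    rw [← hm₂', Over.comp_left, appTop_comp_apply, ha, map_zero]

end Groth.Agent.Helper15.IdealEt
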