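import Mathlib
import Groth.Prelude
import Groth.Agent.Lib.Helper15.IdealEt2
import Groth.Agent.Lib.Helper15.AlgSpSI4
import Groth.Agent.Lib.Helper15.AlgSpCD6

/-!
# Sheaves of ideals on the small étale site and closed subspaces, III:
the ideal of a closed subspace is quasi-coherent; scheme theoretic images
-/

set_option autoImplicit false
set_option backward.isDefEq.respectTransparency false
universe u
open CategoryTheory CategoryTheory.Limits AlgebraicGeometry MorphismProperty Opposite
open AlgSp

namespace Groth.Agent.Helper15.IdealEt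

open Groth.Agent.Helper15 Groth.Agent.Helper15.Norm

variable {S : Scheme.{u}}

/-- In a pushout square of commutative rings along a surjection `φ`, the kernel of the pushed
out map is generated by the kernel of `φ`. -/
theorem ker_le_map_of_isPushout {A B A' P : CommRingCat.{u}} {φ : A ⟶ B} {γ : A ⟶ A'}
    {inl : B ⟶ P} {inr : A' ⟶ P} (h : IsPushout φ γ inl inr)
    (hφ : Function.Surjective φ.hom) :
    RingHom.ker inr.hom ≤ (RingHom.ker φ.hom).map γ.hom := by
  let K := RingHom.ker φ.hom
  let Q := A' ⧸ K.map γ.hom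
  let mk : (A' : Type u) →+* Q := Ideal.Quotient.mk _
  have hker : RingHom.ker φ.hom ≤ RingHom.ker (mk.comp γ.hom) := by
    intro a ha
    rw [RingHom.mem_ker, RingHom.comp_apply, Ideal.Quotient.eq_zero_iff_mem]
    exact Ideal.mem_map_of_mem _ ha
  let ψ : (B : Type u) →+* Q := RingHom.liftOfSurjective φ.hom hφ ⟨mk.comp γ.hom, hker⟩
  have hψ : ψ.comp φ.hom = mk.comp γ.hom := RingHom.liftOfSurjective_comp _ _ _
  have hcomm : φ ≫ CommRingCat.ofHom ψ = γ ≫ CommRingCat.ofHom mk := by
    ext a
    exact congrArg (fun k => k a) hψ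
  have hd : inr ≫ h.desc (CommRingCat.ofHom ψ) (CommRingCat.ofHom mk) hcomm =
      CommRingCat.ofHom mk := h.inr_desc _ _ _
  intro a' ha'
  rw [RingHom.mem_ker] at ha'
  have h1 := congrArg (fun k => k.hom a') hd
  simp only [CommRingCat.hom_comp, RingHom.comp_apply, CommRingCat.hom_ofHom] at h1
  rw [ha', map_zero] at h1
  exact Ideal.Quotient.eq_zero_iff_mem.1 h1.symm


variable {X : Sp S}

/-- The kernel family of a closed immersion is quasi-coherent. -/
theorem isQCoh_idealOfRep_of_isClosedImmersion {Z : Sp S} (i : Z ⟶ X)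
    (hi : RepWith @IsClosedImmersion i) : (idealOfRep hi.1).IsQCoh := by
  intro E E' g hE hE'
  haveI := hE
  haveI := hE'
  have sq := EtOver.isPullback_bcMap_left hi.1 g
  haveI hc : IsClosedImmersion (EtOver.bcπ hi.1 E).left := hi.property_snd E.obj.hom
  haveI hc' : IsClosedImmersion (EtOver.bcπ hi.1 E').left := hi.property_snd E'.obj.hom
  have hs := IsClosedImmersion.isAffine_surjective_of_isAffine (EtOver.bcπ hi.1 E).left
  haveI : IsAffine (EtOver.bcObj hi.1 E).obj.left.left := hs.1
  have po := isPushout_appTop_of_isPullback sq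
  exact ker_le_map_of_isPushout po hs.2


/-- The value of the kernel family on an affine chart can be computed on any pullback square. -/
theorem ideal_idealOfRep_eq_ker {Z : Sp S} {i : Z ⟶ X} (hi : Representable i) (E : EtOver X)
    (hE : IsAffine E.obj.left.left) {ZE : Over S} (c : ZE ⟶ E.obj.left)
    (fst : (yon S).obj ZE ⟶ Z) (sq : IsPullback fst ((yon S).map c) i E.obj.hom) :
    (idealOfRep hi).ideal E hE = RingHom.ker c.left.appTop.hom := by
  change RingHom.ker (EtOver.bcπ hi E).left.appTop.hom = _
  have sq' := EtOver.isPullback_bcObj hi E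
  obtain ⟨m₁, hm₁⟩ := (yon S).map_surjective (sq'.lift fst ((yon S).map c) sq.w)
  have hm₁' : m₁ ≫ EtOver.bcπ hi E = c := (yon S).map_injective (by
    rw [Functor.map_comp, hm₁, sq'.lift_snd])
  obtain ⟨m₂, hm₂⟩ := (yon S).map_surjective
    (sq.lift (EtOver.bcObj hi E).obj.hom ((yon S).map (EtOver.bcπ hi E)) sq'.w)
  have hm₂' : m₂ ≫ c = EtOver.bcπ hi E := (yon S).map_injective (by
    rw [Functor.map_comp, hm₂, sq.lift_snd])
  apply le_antisymm
  · intro a ha
    rw [RingHom.mem_ker] at ha ⊢
    rw [← hm₁', Over.comp_left, appTop_comp_apply, ha, map_zero]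
  · intro a ha
    rw [RingHom.mem_ker] at ha ⊢
    rw [← hm₂', Over.comp_left, appTop_comp_apply, ha, map_zero]

/-- On an affine target, a morphism and the inclusion of its scheme theoretic image have the
same kernel on global functions. -/
theorem ker_imageι_appTop {W U : Scheme.{u}} [IsAffine U] (g : W ⟶ U) :
    RingHom.ker g.imageι.appTop.hom = RingHom.ker g.appTop.hom := by
  have h1 : g.imageι.ker = g.ker := Scheme.IdealSheafData.ker_subschemeι _
  rw [Scheme.ker_of_isAffine, Scheme.ker_of_isAffine] at h1
  exact (Scheme.IdealSheafData.equivOfIsAffine (X := U)).symm.injective h1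

/-- The scheme theoretic image of a quasi-compact representable morphism is cut out by the
kernel family of the morphism. -/
theorem idealOfRep_eq_of_isSchImage {Y' : Sp S} (hX : IsAlgSpace X) (f : Y' ⟶ X)
    (hf : Representable f) (hq : IsQuasiCompactMor f) {Z : Sp S} (c : Z ⟶ X)
    (hc : IsSchImage f c) : idealOfRep hc.1.1 = idealOfRep hf := by
  apply IdealEt.ext
  funext E hE
  haveI := hE
  have sqE := EtOver.isPullback_bcObj hf E
  haveI hcpt : CompactSpace (EtOver.bcObj hf E).obj.left.left :=
    (isQuasiCompactSp_yon_iff _).1 (hq (IsAlgSpace.yon_obj E.obj.left)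
      ((isQuasiCompactSp_yon_iff E.obj.left).2 inferInstance) E.obj.hom _ _ sqE)
  let D : CoverDatum f E.obj.hom :=
    { W := (EtOver.bcObj hf E).obj.left
      w := sqE.isoPullback.hom
      g := EtOver.bcπ hf E
      hg := (sqE.isoPullback_hom_snd).symm
      epi := inferInstance
      compact := hcpt }
  obtain ⟨q, sq⟩ := isPullback_imageOver_of_isSchImage hX f hq c hc E.obj.hom E.property D
  rw [ideal_idealOfRep_eq_ker hc.1.1 E hE (imageOverι D.g) q sq]
  exact ker_imageι_appTop (EtOver.bcπ hf E).left


/-- Scheme theoretic images of quasi-compact morphisms to algebraic spaces exist. -/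
theorem exists_isSchImage_of_qc {Y' : Sp S} (hX : IsAlgSpace X) (f : Y' ⟶ X)
    (hq : IsQuasiCompactMor f) : ∃ (Z : Sp S) (c : Z ⟶ X), IsSchImage f c := by
  obtain ⟨B, U, p, hUa, hpe, hcov⟩ := exists_affine_charts hX
  haveI := hUa
  haveI : ∀ b, CompactSpace (U b).left := fun b => inferInstance
  obtain ⟨Z, c, hc, -⟩ := exists_schImage_of_coverData hX f U p hpe hcov
    (fun b => (nonempty_coverDatum f hq (p b)).some)
  exact ⟨Z, c, hc⟩

/-- The kernel family of a quasi-compact representable morphism is quasi-coherent. -/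
theorem isQCoh_idealOfRep_of_qc {Y' : Sp S} (hX : IsAlgSpace X) (f : Y' ⟶ X)
    (hf : Representable f) (hq : IsQuasiCompactMor f) : (idealOfRep hf).IsQCoh := by
  obtain ⟨Z, c, hc⟩ := exists_isSchImage_of_qc hX f hq
  rw [← idealOfRep_eq_of_isSchImage hX f hf hq c hc]
  exact isQCoh_idealOfRep_of_isClosedImmersion c hc.1

/-- The scheme theoretic image of a quasi-compact representable morphism is exactly the closed
subspace cut out by its kernel family. -/
theorem isSchImage_iff_isCutOutBy {Y' : Sp S} (hX : IsAlgSpace X) (f : Y' ⟶ X)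
    (hf : Representable f) (hq : IsQuasiCompactMor f) {Z : Sp S} (i : Z ⟶ X) :
    IsSchImage f i ↔ IsCutOutBy (idealOfRep hf) i := by
  constructor
  · intro h
    exact ⟨h.1, idealOfRep_eq_of_isSchImage hX f hf hq i h⟩
  · rintro ⟨hi, he⟩
    refine ⟨hi, ?_, ?_⟩
    · refine exists_factor_of_idealOfRep_le hX i hi f hf ?_
      rw [he]
      exact fun E hE => le_rfl
    · rintro Z' i' hZ' hi' ⟨f'', hf''⟩
      have h1 := idealOfRep_le_of_factor i' hi'.1 f hf f'' hf''
      rw [← he] at h1
      exact exists_factor_of_idealOfRep_le hX i' hi' i hi.1 h1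

end Groth.Agent.Helper15.IdealEt
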