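import Mathlib
import Groth.Prelude
import Groth.Agent.Lib.Helper15.EffCart2
import Groth.Agent.Lib.Helper15.IdealEt3
import Groth.Agent.Lib.Helper15.AlgSpEtOverOpen

/-!
# Closed subspaces on scheme charts: ideal sheaves on the chart versus the kernel family
-/

set_option autoImplicit false
set_option backward.isDefEq.respectTransparency false
universe u
open CategoryTheory CategoryTheory.Limits AlgebraicGeometry MorphismProperty Opposite
open AlgSp

namespace Groth.Agent.Helper15.EffCart

open Groth.Agent.Helper15 Groth.Agent.Helper15.IdealEt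

variable {S : Scheme.{u}} {X D : Sp S}

/-- On every étale chart the inverse image of a closed subspace is cut out by an ideal sheaf:
the kernel of the inverse image of `D`. -/
theorem exists_idealSheafData_isPullback (i : D ⟶ X) (hi : RepWith @IsClosedImmersion i)
    (V : Over S) (φ : (yon S).obj V ⟶ X) :
    ∃ (J : V.left.IdealSheafData) (fst : (yon S).obj (Over.mk (J.subschemeι ≫ V.hom)) ⟶ D),
      IsPullback fst
        ((yon S).map (Over.homMk J.subschemeι rfl : Over.mk (J.subschemeι ≫ V.hom) ⟶ V)) i φ := by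
  let snd := hi.1.snd φ
  haveI hc : IsClosedImmersion snd.left := hi.property_snd φ
  let J : V.left.IdealSheafData := snd.left.ker
  -- `toImage : P ≅ J.subscheme`
  let e : hi.1.pullback φ ⟶ Over.mk (J.subschemeι ≫ V.hom) :=
    Over.homMk snd.left.toImage (by
      change snd.left.toImage ≫ snd.left.imageι ≫ V.hom = _
      rw [← Category.assoc, Scheme.Hom.toImage_imageι, Over.w snd])
  haveI : IsIso ((Over.forget S).map e) := (inferInstance : IsIso snd.left.toImage)
  haveI : IsIso e := isIso_of_reflects_iso e (Over.forget S)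
  have he : e ≫ (Over.homMk J.subschemeι rfl : Over.mk (J.subschemeι ≫ V.hom) ⟶ V) = snd := by
    ext
    exact Scheme.Hom.toImage_imageι snd.left
  refine ⟨J, (yon S).map (inv e) ≫ hi.1.fst φ, ?_⟩
  refine (hi.1.isPullback φ).of_iso ((yon S).mapIso (asIso e)) (Iso.refl _) (Iso.refl _)
    (Iso.refl _) ?_ ?_ (by simp) (by simp)
  · simp only [Functor.mapIso_hom, asIso_hom, Iso.refl_hom, Category.comp_id]
    rw [← Category.assoc, ← Functor.map_comp, IsIso.hom_inv_id, (yon S).map_id, Category.id_comp]
  · simp only [Functor.mapIso_hom, asIso_hom, Iso.refl_hom, Category.comp_id]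
    rw [← Functor.map_comp, he]


/-- Scheme level: the kernel on global functions of the restriction of the closed subscheme of
`J` to an affine open `O` is the extension of `J(O)`. -/
theorem ker_morphismRestrict_subschemeι_appTop {V : Scheme.{u}} (J : V.IdealSheafData)
    (O : V.affineOpens) :
    RingHom.ker (J.subschemeι ∣_ O.1).appTop.hom = (J.ideal O).map O.1.topIso.inv.hom := by
  haveI : IsAffine O.1.toScheme := O.2
  have h1 := Scheme.Hom.ker_apply (J.subschemeι ∣_ O.1) ⟨⊤, isAffineOpen_top _⟩
  have h2 := Scheme.ker_morphismRestrict_ideal J.subschemeι O.1 ⟨⊤, isAffineOpen_top _⟩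
  rw [Scheme.IdealSheafData.ker_subschemeι] at h2
  have h3 := J.map_ideal' (U := ⟨O.1.ι ''ᵁ ⊤, (isAffineOpen_top _).image_of_isOpenImmersion _⟩)
    (V := O) (eqToHom (show O.1.ι ''ᵁ ⊤ = O.1 from Scheme.Opens.ι_image_top O.1)).op
  rw [Scheme.Opens.topIso_inv]
  change RingHom.ker ((J.subschemeι ∣_ O.1).app ⊤).hom = _
  rw [← h1, h2, ← h3]


/-- The value of the kernel family of `i` on an affine open `O` of a chart `V` is the extension
of `J(O)`, where `J` cuts out the inverse image of `D` in `V`. -/
theorem idealOfRep_etOverOpen_eq (i : D ⟶ X) (hi : Representable i) {V : Over S}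
    (φ : (yon S).obj V ⟶ X) (hφ : RepWith @Etale φ) (J : V.left.IdealSheafData)
    (fst : (yon S).obj (Over.mk (J.subschemeι ≫ V.hom)) ⟶ D)
    (sq : IsPullback fst
      ((yon S).map (Over.homMk J.subschemeι rfl : Over.mk (J.subschemeι ≫ V.hom) ⟶ V)) i φ)
    (O : V.left.affineOpens) :
    (idealOfRep hi).ideal (etOverOpen (EtOver.mk φ hφ) O.1) (show IsAffineOpen O.1 from O.2) =
      (J.ideal O).map O.1.topIso.inv.hom := by
  let E : EtOver X := EtOver.mk φ hφ
  let f := J.subschemeι
  let P := f ⁻¹ᵁ O.1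
  let c₀ := f ∣_ O.1
  have hc₀ : c₀ ≫ O.1.ι = P.ι ≫ f := morphismRestrict_ι _ _
  let PO : Over S := Over.mk (c₀ ≫ O.1.ι ≫ V.hom)
  let JO : Over S := Over.mk (f ≫ V.hom)
  let fO : JO ⟶ V := Over.homMk f rfl
  let c : PO ⟶ (etOverOpen E O.1).obj.left := Over.homMk c₀ rfl
  let ιP : PO ⟶ JO := Over.homMk P.ι (by
    change P.ι ≫ f ≫ V.hom = c₀ ≫ O.1.ι ≫ V.hom
    rw [← Category.assoc, ← hc₀, Category.assoc])
  have sqS : IsPullback c₀ P.ι O.1.ι f := isPullback_morphismRestrict f O.1
  have sqO : IsPullback c ιP (etOverOpenιOver E O.1) fO :=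
    IsPullback.of_map_of_faithful (Over.forget S) sqS
  have sq' : IsPullback ((yon S).map ιP ≫ fst) ((yon S).map c) i
      ((yon S).map (etOverOpenιOver E O.1) ≫ φ) := (sqO.flip.map (yon S)).paste_horiz sq
  rw [ideal_idealOfRep_eq_ker hi (etOverOpen E O.1) (show IsAffineOpen O.1 from O.2) c
    ((yon S).map ιP ≫ fst) sq']
  exact ker_morphismRestrict_subschemeι_appTop J O

end Groth.Agent.Helper15.EffCart
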