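import Mathlib
import Groth.Prelude
import Groth.Agent.Lib.Helper15.EffCart3

/-!
# Sums of effective Cartier divisors on algebraic spaces
-/

set_option autoImplicit false
set_option backward.isDefEq.respectTransparency false
universe u
open CategoryTheory CategoryTheory.Limits AlgebraicGeometry MorphismProperty Opposite
open AlgSp

namespace Groth.Agent.Helper15.EffCart

open Groth.Agent.Helper15 Groth.Agent.Helper15.IdealEt

/-- Flat ring maps preserve nonzerodivisors. -/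
theorem mem_nonZeroDivisors_of_flat {A B : Type u} [CommRing A] [CommRing B] (g : A →+* B)
    (hg : g.Flat) {a : A} (ha : a ∈ nonZeroDivisors A) : g a ∈ nonZeroDivisors B := by
  algebraize [g]
  have h1 : IsSMulRegular B a := Module.Flat.isSMulRegular_of_nonZeroDivisors ha
  rw [mem_nonZeroDivisors_iff_right]
  intro b hb
  apply h1
  change a • b = a • 0
  rw [smul_zero, Algebra.smul_def, mul_comm]
  exact hb

theorem mem_nonZeroDivisors_of_isIso {A B : CommRingCat.{u}} (e : A ⟶ B) [IsIso e] {a : A}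
    (ha : a ∈ nonZeroDivisors A) : e.hom a ∈ nonZeroDivisors B :=
  mem_nonZeroDivisors_of_flat e.hom
    (RingHom.Flat.of_bijective (ConcreteCategory.bijective_of_isIso e)) ha


variable {S : Scheme.{u}} {X D : Sp S}

/-- A morphism of the small étale site restricts to open subschemes. -/
theorem exists_hom_etOverOpen {E E₁ : EtOver X} (m : E ⟶ E₁) (O : E.obj.left.left.Opens)
    (O₁ : E₁.obj.left.left.Opens) (h : O ≤ m.hom.left.left ⁻¹ᵁ O₁) :
    Nonempty (etOverOpen E O ⟶ etOverOpen E₁ O₁) := by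
  haveI : IsOpenImmersion (etOverOpenιOver E₁ O₁).left := (inferInstance : IsOpenImmersion O₁.ι)
  obtain ⟨c', hc'⟩ := exists_over_lift_of_range_subset (etOverOpenιOver E₁ O₁)
    (etOverOpenιOver E O ≫ m.hom.left) (by
      rintro _ ⟨t, rfl⟩
      change m.hom.left.left (O.ι t) ∈ Set.range O₁.ι
      rw [Scheme.Opens.range_ι]
      exact h t.2)
  refine ⟨EtOver.homMk c' ?_⟩
  change (yon S).map c' ≫ (yon S).map (etOverOpenιOver E₁ O₁) ≫ E₁.obj.hom =
    (yon S).map (etOverOpenιOver E O) ≫ E.obj.hom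
  rw [← Category.assoc, ← Functor.map_comp, hc', Functor.map_comp, Category.assoc, EtOver.w m]

/-- Pulling back a principal value of a quasi-coherent family of ideals. -/
theorem ideal_eq_span_of_hom {I : IdealEt X} (hI : I.IsQCoh) {E E₁ : EtOver X} (g : E ⟶ E₁)
    (hE : IsAffine E.obj.left.left) (hE₁ : IsAffine E₁.obj.left.left) (a : Γ(E₁.obj.left.left, ⊤))
    (ha : I.ideal E₁ hE₁ = Ideal.span {a}) :
    I.ideal E hE = Ideal.span {g.hom.left.left.appTop.hom a} := by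
  have h1 : I.ideal E hE = (I.ideal E₁ hE₁).map g.hom.left.left.appTop.hom :=
    le_antisymm (hI g hE₁ hE) (I.map_le g hE₁ hE)
  rw [h1, ha, Ideal.map_span, Set.image_singleton]

/-- Pulling back nonzerodivisors along morphisms of the small étale site between affine
objects. -/
theorem mem_nonZeroDivisors_of_hom {E E₁ : EtOver X} (g : E ⟶ E₁)
    (hE : IsAffine E.obj.left.left) (hE₁ : IsAffine E₁.obj.left.left) {a : Γ(E₁.obj.left.left, ⊤)}
    (ha : a ∈ nonZeroDivisors Γ(E₁.obj.left.left, ⊤)) :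
    g.hom.left.left.appTop.hom a ∈ nonZeroDivisors Γ(E.obj.left.left, ⊤) := by
  haveI := hE
  haveI := hE₁
  haveI : Etale g.hom.left.left := EtOver.etale_left g
  have hfl : Flat g.hom.left.left := inferInstance
  exact mem_nonZeroDivisors_of_flat _
    ((HasRingHomProperty.iff_of_isAffine (P := @Flat)).1 hfl) ha


section Chart

variable (i : D ⟶ X) (hi : Representable i) {V : Over S}
  (φ : (yon S).obj V ⟶ X) (hφ : RepWith @Etale φ) (J : V.left.IdealSheafData)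
  (fst : (yon S).obj (Over.mk (J.subschemeι ≫ V.hom)) ⟶ D)
  (sq : IsPullback fst
    ((yon S).map (Over.homMk J.subschemeι rfl : Over.mk (J.subschemeι ≫ V.hom) ⟶ V)) i φ)
  (O : V.left.affineOpens)

include sq in
/-- From the chart to the kernel family: a generator of `J(O)` gives a generator of the value of
the kernel family on the affine object `O`. -/
theorem idealOfRep_etOverOpen_eq_span (f : Γ(V.left, O.1)) (hf : J.ideal O = Ideal.span {f}) :
    (idealOfRep hi).ideal (etOverOpen (EtOver.mk φ hφ) O.1) (show IsAffineOpen O.1 from O.2) =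
      Ideal.span {O.1.topIso.inv.hom f} := by
  rw [idealOfRep_etOverOpen_eq i hi φ hφ J fst sq O, hf, Ideal.map_span, Set.image_singleton]

include sq in
/-- From the kernel family to the chart. -/
theorem ideal_eq_span_of_idealOfRep_etOverOpen (a : Γ(O.1.toScheme, ⊤))
    (ha : (idealOfRep hi).ideal (etOverOpen (EtOver.mk φ hφ) O.1)
      (show IsAffineOpen O.1 from O.2) = Ideal.span {a}) :
    J.ideal O = Ideal.span {O.1.topIso.hom.hom a} := by
  rw [idealOfRep_etOverOpen_eq i hi φ hφ J fst sq O] at ha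
  have h1 := congrArg (Ideal.map O.1.topIso.hom.hom) ha
  rw [Ideal.map_map, Ideal.map_span, Set.image_singleton, ← CommRingCat.hom_comp,
    Iso.inv_hom_id] at h1
  rw [← h1]
  exact (Ideal.map_id _).symm

end Chart


/-- The sum of two effective Cartier divisors is an effective Cartier divisor. -/
theorem isEffCartierSub_sum {D₁ D₂ : Sp S} (i₁ : D₁ ⟶ X) (i₂ : D₂ ⟶ X) (i : D ⟶ X)
    (I₁ I₂ : IdealEt X) (hI₁ : I₁.IsQCoh) (hI₂ : I₂.IsQCoh) (h₁ : IsCutOutBy I₁ i₁)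
    (h₂ : IsCutOutBy I₂ i₂) (hD : IsCutOutBy (I₁ * I₂) i) (e₁ : IsEffCartierSub i₁)
    (e₂ : IsEffCartierSub i₂) : IsEffCartierSub i := by
  obtain ⟨-, V₁, φ₁, J₁, fst₁, hφ₁e, hφ₁s, sq₁, hJ₁⟩ := e₁
  obtain ⟨-, V₂, φ₂, J₂, fst₂, hφ₂e, hφ₂s, sq₂, hJ₂⟩ := e₂
  obtain ⟨hi₁, rfl⟩ := h₁
  obtain ⟨hi₂, rfl⟩ := h₂
  obtain ⟨hi, hK⟩ := hD
  -- the common chart
  let V : Over S := hφ₁e.1.pullback φ₂
  let p₁ : V ⟶ V₁ := hφ₁e.1.fst' φ₂
  let p₂ : V ⟶ V₂ := hφ₁e.1.snd φ₂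
  have sqV : IsPullback ((yon S).map p₁) ((yon S).map p₂) φ₁ φ₂ := hφ₁e.1.isPullback' φ₂
  let φ : (yon S).obj V ⟶ X := (yon S).map p₂ ≫ φ₂
  have hφ' : φ = (yon S).map p₁ ≫ φ₁ := sqV.w.symm
  have hp₂e : RepWith @Etale ((yon S).map p₂) := (RepWith @Etale).of_isPullback sqV hφ₁e
  have hp₂s : RepWith @Surjective ((yon S).map p₂) :=
    (RepWith @Surjective).of_isPullback sqV hφ₁s
  have hφe : RepWith @Etale φ := (RepWith @Etale).comp_mem _ _ hp₂e hφ₂e
  have hφs : RepWith @Surjective φ := (RepWith @Surjective).comp_mem _ _ hp₂s hφ₂s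
  obtain ⟨J, fst, sq⟩ := exists_idealSheafData_isPullback i hi V φ
  refine ⟨hi, V, φ, J, fst, hφe, hφs, sq, ?_⟩
  intro x
  obtain ⟨O₁, hx₁, f₁, hf₁n, hf₁⟩ := hJ₁ (p₁.left x)
  obtain ⟨O₂, hx₂, f₂, hf₂n, hf₂⟩ := hJ₂ (p₂.left x)
  obtain ⟨_, ⟨O, hO, rfl⟩, hxO, hOsub⟩ :=
    (V.left.isBasis_affineOpens).exists_subset_of_mem_open
      (show x ∈ (p₁.left ⁻¹ᵁ O₁.1 ⊓ p₂.left ⁻¹ᵁ O₂.1 : V.left.Opens) from ⟨hx₁, hx₂⟩)
      (p₁.left ⁻¹ᵁ O₁.1 ⊓ p₂.left ⁻¹ᵁ O₂.1).isOpen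
  let E : EtOver X := EtOver.mk φ hφe
  let E₁ : EtOver X := EtOver.mk φ₁ hφ₁e
  let E₂ : EtOver X := EtOver.mk φ₂ hφ₂e
  let m₁ : E ⟶ E₁ := EtOver.homMk p₁ hφ'.symm
  let m₂ : E ⟶ E₂ := EtOver.homMk p₂ rfl
  obtain ⟨g₁⟩ := exists_hom_etOverOpen m₁ O O₁.1 (fun y hy => (hOsub hy).1)
  obtain ⟨g₂⟩ := exists_hom_etOverOpen m₂ O O₂.1 (fun y hy => (hOsub hy).2)
  have hOa : IsAffine (etOverOpen E O).obj.left.left := (show IsAffineOpen O from hO)
  have hO₁a : IsAffine (etOverOpen E₁ O₁.1).obj.left.left := (show IsAffineOpen O₁.1 from O₁.2)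
  have hO₂a : IsAffine (etOverOpen E₂ O₂.1).obj.left.left := (show IsAffineOpen O₂.1 from O₂.2)
  -- generators on the charts
  have k₁ := idealOfRep_etOverOpen_eq_span i₁ hi₁.1 φ₁ hφ₁e J₁ fst₁ sq₁ O₁ f₁ hf₁
  have k₂ := idealOfRep_etOverOpen_eq_span i₂ hi₂.1 φ₂ hφ₂e J₂ fst₂ sq₂ O₂ f₂ hf₂
  have l₁ := ideal_eq_span_of_hom hI₁ g₁ hOa hO₁a _ k₁
  have l₂ := ideal_eq_span_of_hom hI₂ g₂ hOa hO₂a _ k₂
  have hKO : (idealOfRep hi.1).ideal (etOverOpen E O) hOa =
      Ideal.span {g₁.hom.left.left.appTop.hom (O₁.1.topIso.inv.hom f₁) *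
        g₂.hom.left.left.appTop.hom (O₂.1.topIso.inv.hom f₂)} := by
    rw [hK, IdealEt.mul_ideal, l₁, l₂, Ideal.span_singleton_mul_span_singleton]
  have hJO := ideal_eq_span_of_idealOfRep_etOverOpen i hi.1 φ hφe J fst sq ⟨O, hO⟩ _ hKO
  refine ⟨⟨O, hO⟩, hxO, _, ?_, hJO⟩
  refine mem_nonZeroDivisors_of_isIso _ (mul_mem ?_ ?_)
  · exact mem_nonZeroDivisors_of_hom g₁ hOa hO₁a (mem_nonZeroDivisors_of_isIso _ hf₁n)
  · exact mem_nonZeroDivisors_of_hom g₂ hOa hO₂a (mem_nonZeroDivisors_of_isIso _ hf₂n)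

end Groth.Agent.Helper15.EffCart
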