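import Mathlib
import Groth.Prelude
import Groth.Agent.Lib.Helper15.EffCart4

/-!
# If a product of ideal sheaves is effective Cartier then so are the factors
-/

set_option autoImplicit false
set_option backward.isDefEq.respectTransparency false
universe u
open CategoryTheory CategoryTheory.Limits AlgebraicGeometry MorphismProperty Opposite
open AlgSp

namespace Groth.Agent.Helper15.EffCart

open Groth.Agent.Helper15 Groth.Agent.Helper15.IdealEt

section Algebra

variable {A : Type u} [CommRing A] (I J : Ideal A) (f : A)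

/-- If `I J = (f)` with `f` a nonzerodivisor, the "local generator" coefficients generate the
unit ideal. -/
theorem one_mem_span_coeff (hf : f ∈ nonZeroDivisors A) (h : I * J = Ideal.span {f}) :
    (1 : A) ∈ Ideal.span {c : A | ∃ a ∈ I, ∃ b ∈ J, a * b = f * c} := by
  have key : ∀ z ∈ I * J, ∃ c ∈ Ideal.span {c : A | ∃ a ∈ I, ∃ b ∈ J, a * b = f * c},
      z = f * c := by
    intro z hz
    refine Submodule.mul_induction_on hz ?_ ?_
    · intro a ha b hb
      have hab : a * b ∈ Ideal.span {f} := h ▸ Ideal.mul_mem_mul ha hb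
      obtain ⟨c, hc⟩ := Ideal.mem_span_singleton'.1 hab
      exact ⟨c, Ideal.subset_span ⟨a, ha, b, hb, by rw [← hc, mul_comm]⟩, by rw [← hc, mul_comm]⟩
    · rintro z₁ z₂ ⟨c₁, hc₁, rfl⟩ ⟨c₂, hc₂, rfl⟩
      exact ⟨c₁ + c₂, Ideal.add_mem _ hc₁ hc₂, by ring⟩
  obtain ⟨c, hc, hfc⟩ := key f (h ▸ Ideal.mem_span_singleton_self f)
  have h1 : f * (c - 1) = 0 := by rw [mul_sub, mul_one, ← hfc, sub_self]
  have h2 : c - 1 = 0 := (mul_right_mem_nonZeroDivisors_eq_zero_iff hf).1 (by rwa [mul_comm] at h1)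
  rw [sub_eq_zero] at h2
  rwa [← h2]

/-- Where the coefficient `c` is invertible, `a` generates `I`. -/
theorem exists_mul_eq_of_coeff (hf : f ∈ nonZeroDivisors A) (h : I * J = Ideal.span {f})
    {a b c : A} (ha : a ∈ I) (hb : b ∈ J) (habc : a * b = f * c) :
    (∀ y ∈ I, ∃ d, y * c = a * d) ∧ ∀ y, a * y = 0 → c * y = 0 := by
  constructor
  · intro y hy
    have hyb : y * b ∈ Ideal.span {f} := h ▸ Ideal.mul_mem_mul hy hb
    obtain ⟨d, hd⟩ := Ideal.mem_span_singleton'.1 hyb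
    refine ⟨d, ?_⟩
    have h1 : f * (y * c - a * d) = 0 := by
      have e1 : f * (y * c) = y * (a * b) := by rw [habc]; ring
      have e2 : f * (a * d) = a * (y * b) := by rw [← hd]; ring
      rw [mul_sub, e1, e2]; ring
    have h2 := (mul_right_mem_nonZeroDivisors_eq_zero_iff hf).1 (by rwa [mul_comm] at h1)
    exact sub_eq_zero.1 h2
  · intro y hy
    have h1 : f * (c * y) = 0 := by
      rw [← mul_assoc, ← habc, mul_comm a b, mul_assoc, hy, mul_zero]
    exact (mul_right_mem_nonZeroDivisors_eq_zero_iff hf).1 (by rwa [mul_comm] at h1)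

end Algebra


/-- If the product of two ideal sheaves is effective Cartier then so is the first factor. -/
theorem isEffCartierIdeal_of_mul {V : Scheme.{u}} (J₁ J₂ : V.IdealSheafData)
    (h : BlowUp.IsEffCartierIdeal (J₁ * J₂)) : BlowUp.IsEffCartierIdeal J₁ := by
  intro x
  obtain ⟨O, hxO, f, hfn, hf⟩ := h x
  have hf' : J₁.ideal O * J₂.ideal O = Ideal.span {f} := by
    rw [← hf, Scheme.IdealSheafData.ideal_mul]; rfl
  have h1 := one_mem_span_coeff (J₁.ideal O) (J₂.ideal O) f hfn hf'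
  -- a coefficient which does not vanish at `x`
  obtain ⟨c, ⟨a, ha, b, hb, habc⟩, hxc⟩ : ∃ c ∈ {c : Γ(V, O.1) | ∃ a ∈ J₁.ideal O,
      ∃ b ∈ J₂.ideal O, a * b = f * c}, x ∈ V.basicOpen c := by
    by_contra hcon
    push Not at hcon
    have hx0 : x ∈ V.zeroLocus (U := O.1)
        (Ideal.span {c : Γ(V, O.1) | ∃ a ∈ J₁.ideal O, ∃ b ∈ J₂.ideal O, a * b = f * c} :
          Set Γ(V, O.1)) := by
      rw [Scheme.zeroLocus_span, Scheme.mem_zeroLocus_iff]
      exact hcon
    rw [Scheme.mem_zeroLocus_iff] at hx0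
    apply hx0 1 h1
    rw [Scheme.basicOpen_of_isUnit V isUnit_one]
    exact hxO
  obtain ⟨hgen, hreg⟩ := exists_mul_eq_of_coeff (J₁.ideal O) (J₂.ideal O) f hfn hf' ha hb habc
  -- the basic open of `c`
  set ρ := (V.presheaf.map (homOfLE (V.basicOpen_le c)).op).hom with hρ
  have hcu : IsUnit (ρ c) := V.toRingedSpace.isUnit_res_basicOpen c
  have hmap := J₁.map_ideal_basicOpen O c
  refine ⟨V.affineBasicOpen c, hxc, ρ a, ?_, ?_⟩
  · -- nonzerodivisor
    letI := ρ.toAlgebra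
    haveI hloc : IsLocalization.Away c Γ(V, V.basicOpen c) := O.2.isLocalization_basicOpen c
    change ρ a ∈ nonZeroDivisors Γ(V, V.basicOpen c)
    rw [mem_nonZeroDivisors_iff_right]
    intro (y : Γ(V, V.basicOpen c)) hy
    obtain ⟨⟨y₀, s⟩, hys⟩ := IsLocalization.surj (Submonoid.powers c) y
    have hys' : y * ρ s = ρ y₀ := hys
    have h2 : ρ (a * y₀) = 0 := by
      rw [map_mul, ← hys', ← mul_assoc, mul_comm (ρ a) y, hy, zero_mul]
    obtain ⟨m, hm⟩ := (IsLocalization.map_eq_zero_iff (Submonoid.powers c) Γ(V, V.basicOpen c)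
      (a * y₀)).1 h2
    have h3 : a * ((m : Γ(V, O.1)) * y₀) = 0 := by rw [← hm]; ring
    have h4 := hreg _ h3
    have h5 : ρ c * ρ (m : Γ(V, O.1)) * ρ y₀ = 0 := by
      rw [← map_mul, ← map_mul, mul_assoc, h4, map_zero]
    have hmu : IsUnit (ρ (m : Γ(V, O.1))) := IsLocalization.map_units _ m
    have hsu : IsUnit (ρ (s : Γ(V, O.1))) := IsLocalization.map_units _ s
    have h6 : ρ y₀ = 0 := by
      have := (hcu.mul hmu).mul_right_eq_zero.1 h5
      exact this
    rw [h6] at hys'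
    exact hsu.mul_left_eq_zero.1 hys'
  · -- generator
    change J₁.ideal (V.affineBasicOpen c) = Ideal.span {ρ a}
    rw [← hmap]
    apply le_antisymm
    · rw [Ideal.map_le_iff_le_comap]
      intro y hy
      rw [Ideal.mem_comap, Ideal.mem_span_singleton']
      obtain ⟨d, hd⟩ := hgen y hy
      obtain ⟨cu, hcu'⟩ := hcu
      refine ⟨ρ d * ↑cu⁻¹, ?_⟩
      have h7 : ρ y * ρ c = ρ a * ρ d := by rw [← map_mul, hd, map_mul]
      calc ρ d * ↑cu⁻¹ * ρ a = (ρ a * ρ d) * ↑cu⁻¹ := by ring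
        _ = ρ y * ρ c * ↑cu⁻¹ := by rw [h7]
        _ = ρ y := by rw [← hcu', mul_assoc, Units.mul_inv, mul_one]
    · rw [Ideal.span_singleton_le_iff_mem]
      exact Ideal.mem_map_of_mem _ ha


variable {S : Scheme.{u}} {X : Sp S}

/-- If the closed subspace cut out by a product `I * J` is an effective Cartier divisor, then
so are the closed subspaces cut out by `I` and `J`. -/
theorem isEffCartierSub_of_mul {D Z Y : Sp S} (iZ : Z ⟶ X) (iY : Y ⟶ X) (iD : D ⟶ X)
    (I J : IdealEt X) (hZ : IsCutOutBy I iZ) (hY : IsCutOutBy J iY)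
    (hD : IsCutOutBy (I * J) iD) (hDc : IsEffCartierSub iD) :
    IsEffCartierSub iZ ∧ IsEffCartierSub iY := by
  obtain ⟨-, V, φ, JD, fstD, hφe, hφs, sqD, hJD⟩ := hDc
  obtain ⟨hiZ, rfl⟩ := hZ
  obtain ⟨hiY, rfl⟩ := hY
  obtain ⟨hiD, hK⟩ := hD
  obtain ⟨JZ, fstZ, sqZ⟩ := exists_idealSheafData_isPullback iZ hiZ V φ
  obtain ⟨JY, fstY, sqY⟩ := exists_idealSheafData_isPullback iY hiY V φ
  have hmul : JD = JZ * JY := by
    apply Scheme.IdealSheafData.ext
    funext O
    have kD := idealOfRep_etOverOpen_eq iD hiD.1 φ hφe JD fstD sqD O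
    have kZ := idealOfRep_etOverOpen_eq iZ hiZ.1 φ hφe JZ fstZ sqZ O
    have kY := idealOfRep_etOverOpen_eq iY hiY.1 φ hφe JY fstY sqY O
    rw [hK, IdealEt.mul_ideal, kZ, kY, ← Ideal.map_mul] at kD
    have h1 := congrArg (Ideal.map O.1.topIso.hom.hom) kD
    rw [Ideal.map_map, Ideal.map_map, ← CommRingCat.hom_comp, Iso.inv_hom_id] at h1
    have h2 : ∀ K : Ideal Γ(V.left, O.1), Ideal.map (CommRingCat.Hom.hom (𝟙 Γ(V.left, O.1))) K = K :=
      fun K => Ideal.map_id K
    rw [h2, h2] at h1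
    rw [← h1, Scheme.IdealSheafData.ideal_mul]
    rfl
  constructor
  · exact ⟨hiZ, V, φ, JZ, fstZ, hφe, hφs, sqZ,
      isEffCartierIdeal_of_mul JZ JY (by rw [← hmul]; exact hJD)⟩
  · exact ⟨hiY, V, φ, JY, fstY, hφe, hφs, sqY,
      isEffCartierIdeal_of_mul JY JZ (by rw [mul_comm, ← hmul]; exact hJD)⟩

end Groth.Agent.Helper15.EffCart
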