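import Mathlib
import Groth.Prelude
import Groth.Agent.Lib.Helper15.EffCart5

/-!
# Étale descent of "locally generated by one nonzerodivisor"
-/

set_option autoImplicit false
set_option backward.isDefEq.respectTransparency false
universe u
open CategoryTheory CategoryTheory.Limits AlgebraicGeometry MorphismProperty Opposite
open AlgSp

namespace Groth.Agent.Helper15.EffCart

open Groth.Agent.Helper15 Groth.Agent.Helper15.IdealEt

section Algebra

variable {A B : Type u} [CommRing A] [CommRing B] (ρ : A →+* B) (I : Ideal A)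

/-- If `I B = (f)` with `f` a nonzerodivisor, the coefficients `c` with `ρ g = f c`, `g ∈ I`,
generate the unit ideal. -/
theorem one_mem_span_coeff_map (f : B) (hf : f ∈ nonZeroDivisors B)
    (h : I.map ρ = Ideal.span {f}) :
    (1 : B) ∈ Ideal.span {c : B | ∃ g ∈ I, ρ g = f * c} := by
  have key : ∀ z ∈ I.map ρ, ∃ c ∈ Ideal.span {c : B | ∃ g ∈ I, ρ g = f * c}, z = f * c := by
    intro z hz
    refine Submodule.span_induction (p := fun z _ => ∃ c ∈ Ideal.span {c : B | ∃ g ∈ I,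
      ρ g = f * c}, z = f * c) ?_ ?_ ?_ ?_ hz
    · rintro _ ⟨g, hg, rfl⟩
      have hgf : ρ g ∈ Ideal.span {f} := h ▸ Ideal.mem_map_of_mem ρ hg
      obtain ⟨c, hc⟩ := Ideal.mem_span_singleton'.1 hgf
      exact ⟨c, Ideal.subset_span ⟨g, hg, by rw [← hc, mul_comm]⟩, by rw [← hc, mul_comm]⟩
    · exact ⟨0, Ideal.zero_mem _, by rw [mul_zero]⟩
    · rintro z₁ z₂ - - ⟨c₁, hc₁, rfl⟩ ⟨c₂, hc₂, rfl⟩
      exact ⟨c₁ + c₂, Ideal.add_mem _ hc₁ hc₂, by ring⟩
    · rintro b z - ⟨c, hc, rfl⟩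
      exact ⟨b * c, Ideal.mul_mem_left _ b hc, by rw [smul_eq_mul]; ring⟩
  obtain ⟨c, hc, hfc⟩ := key f (h ▸ Ideal.mem_span_singleton_self f)
  have h1 : f * (c - 1) = 0 := by rw [mul_sub, mul_one, ← hfc, sub_self]
  have h2 : c - 1 = 0 := (mul_right_mem_nonZeroDivisors_eq_zero_iff hf).1 (by rwa [mul_comm] at h1)
  rw [sub_eq_zero] at h2
  rwa [← h2]

/-- Faithfully flat descent of "generated by a nonzerodivisor" once a generator is given. -/
theorem eq_span_of_faithfullyFlat (hρ : ρ.FaithfullyFlat) (g : A)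
    (h : I.map ρ = Ideal.span {ρ g}) (hn : ρ g ∈ nonZeroDivisors B) :
    I = Ideal.span {g} ∧ g ∈ nonZeroDivisors A := by
  constructor
  · algebraize [ρ]
    apply Ideal.map_injective_of_faithfullyFlat (B := B)
    change I.map ρ = (Ideal.span {g}).map ρ
    rw [h, Ideal.map_span, Set.image_singleton]
  · rw [mem_nonZeroDivisors_iff_right]
    intro y hy
    apply hρ.injective
    rw [map_zero]
    rw [mem_nonZeroDivisors_iff_right] at hn
    apply hn
    rw [← map_mul, hy, map_zero]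

end Algebra

/-- A global function which is invertible on the image of a morphism pulls back to a unit. -/
theorem isUnit_appTop_of_range_subset {Y' Y : Scheme.{u}} (j : Y' ⟶ Y) (c : Γ(Y, ⊤))
    (h : Set.range j ⊆ Y.basicOpen c) : IsUnit (j.appTop.hom c) := by
  have h1 : Y'.basicOpen (j.appTop.hom c) = ⊤ := by
    have := Scheme.preimage_basicOpen j c
    change _ = Y'.basicOpen (j.appTop.hom c) at this
    rw [← this]
    ext y
    simp only [Scheme.Hom.mem_preimage, TopologicalSpace.Opens.coe_top, Set.mem_univ, iff_true]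
    exact h ⟨y, rfl⟩
  apply Y'.toRingedSpace.isUnit_of_isUnit_germ
  intro x hx
  have hx' : x ∈ Y'.basicOpen (j.appTop.hom c) := by rw [h1]; trivial
  exact (Y'.mem_basicOpen _ x hx).1 hx'


section BasicOpens

variable {T T' : Scheme.{u}}

/-- The basic open of a function on an open subscheme, as an open of the ambient scheme. -/
noncomputable abbrev bo (O : T.Opens) (a : Γ(O.toScheme, ⊤)) : T.Opens :=
  O.ι ''ᵁ (O.toScheme.basicOpen a)

theorem isAffineOpen_bo (O : T.Opens) (hO : IsAffineOpen O) (a : Γ(O.toScheme, ⊤)) :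
    IsAffineOpen (bo O a) := by
  haveI : IsAffine O.toScheme := hO
  exact (IsAffineOpen.basicOpen (isAffineOpen_top _) a).image_of_isOpenImmersion O.ι

theorem mem_bo_iff (O : T.Opens) (a : Γ(O.toScheme, ⊤)) (t : T) :
    t ∈ bo O a ↔ ∃ ht : t ∈ O, (⟨t, ht⟩ : O.toScheme) ∈ O.toScheme.basicOpen a := by
  constructor
  · rintro ⟨y, hy, rfl⟩
    exact ⟨y.2, hy⟩
  · rintro ⟨ht, h⟩
    exact ⟨⟨t, ht⟩, h, rfl⟩

theorem bo_le (O : T.Opens) (a : Γ(O.toScheme, ⊤)) : bo O a ≤ O := by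
  intro t ht
  exact ((mem_bo_iff O a t).1 ht).1

theorem exists_bo_subset (O : T.Opens) (hO : IsAffineOpen O) (t : T) (ht : t ∈ O) (V : T.Opens)
    (htV : t ∈ V) : ∃ a : Γ(O.toScheme, ⊤), t ∈ bo O a ∧ bo O a ≤ V := by
  haveI : IsAffine O.toScheme := hO
  obtain ⟨_, ⟨a, rfl⟩, h1, h2⟩ := TopologicalSpace.Opens.isBasis_iff_nbhd.1
    (isBasis_basicOpen O.toScheme) (show (⟨t, ht⟩ : O.toScheme) ∈ O.ι ⁻¹ᵁ V from htV)
  refine ⟨a, ⟨⟨t, ht⟩, h1, rfl⟩, ?_⟩
  rintro _ ⟨y, hy, rfl⟩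
  exact h2 hy

theorem mem_bo_appTop_iff (p : T' ⟶ T) (O' : T'.Opens) (O : T.Opens)
    (q : O'.toScheme ⟶ O.toScheme) (hq : q ≫ O.ι = O'.ι ≫ p) (a : Γ(O.toScheme, ⊤)) (z : T') :
    z ∈ bo O' (q.appTop.hom a) ↔ z ∈ O' ∧ p z ∈ bo O a := by
  have hpre : q ⁻¹ᵁ O.toScheme.basicOpen a = O'.toScheme.basicOpen (q.appTop.hom a) :=
    Scheme.preimage_basicOpen q a
  have hpt : ∀ y : O'.toScheme, O.ι (q y) = p (O'.ι y) := by
    intro y
    have : (q ≫ O.ι) y = (O'.ι ≫ p) y := by rw [hq]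
    simpa only [Scheme.Hom.comp_apply] using this
  rw [mem_bo_iff]
  constructor
  · rintro ⟨hz, hmem⟩
    refine ⟨hz, ?_⟩
    rw [← hpre] at hmem
    exact ⟨q ⟨z, hz⟩, hmem, hpt ⟨z, hz⟩⟩
  · rintro ⟨hz, y, hy, hyz⟩
    refine ⟨hz, ?_⟩
    rw [← hpre]
    have : q ⟨z, hz⟩ = y := by
      apply O.ι.isOpenEmbedding.injective
      rw [hpt ⟨z, hz⟩]
      exact hyz.symm
    change q ⟨z, hz⟩ ∈ O.toScheme.basicOpen a
    rw [this]
    exact hy

theorem mem_bo_mul_iff (O : T.Opens) (a b : Γ(O.toScheme, ⊤)) (t : T) :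
    t ∈ bo O (a * b) ↔ t ∈ bo O a ∧ t ∈ bo O b := by
  rw [mem_bo_iff, mem_bo_iff, mem_bo_iff, Scheme.basicOpen_mul]
  constructor
  · rintro ⟨ht, h1, h2⟩
    exact ⟨⟨ht, h1⟩, ⟨ht, h2⟩⟩
  · rintro ⟨⟨ht, h1⟩, ⟨_, h2⟩⟩
    exact ⟨ht, h1, h2⟩

end BasicOpens

variable {S : Scheme.{u}} {X : Sp S}

/-- A morphism of the small étale site restricts to open subschemes, compatibly with the
inclusions. -/
theorem exists_hom_etOverOpen' {E E₁ : EtOver X} (m : E ⟶ E₁) (O : E.obj.left.left.Opens)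
    (O₁ : E₁.obj.left.left.Opens) (h : O ≤ m.hom.left.left ⁻¹ᵁ O₁) :
    ∃ g : etOverOpen E O ⟶ etOverOpen E₁ O₁, g ≫ etOverOpenι E₁ O₁ = etOverOpenι E O ≫ m := by
  haveI : IsOpenImmersion (etOverOpenιOver E₁ O₁).left := (inferInstance : IsOpenImmersion O₁.ι)
  obtain ⟨c', hc'⟩ := exists_over_lift_of_range_subset (etOverOpenιOver E₁ O₁)
    (etOverOpenιOver E O ≫ m.hom.left) (by
      rintro _ ⟨t, rfl⟩
      change m.hom.left.left (O.ι t) ∈ Set.range O₁.ι
      rw [Scheme.Opens.range_ι]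
      exact h t.2)
  refine ⟨EtOver.homMk c' ?_, ?_⟩
  · change (yon S).map c' ≫ (yon S).map (etOverOpenιOver E₁ O₁) ≫ E₁.obj.hom =
      (yon S).map (etOverOpenιOver E O) ≫ E.obj.hom
    rw [← Category.assoc, ← Functor.map_comp, hc', Functor.map_comp, Category.assoc, EtOver.w m]
  · apply EtOver.hom_ext
    exact hc'

/-- The inclusion of an open subobject is a monomorphism. -/
theorem etOverOpen_hom_ext {Z E : EtOver X} (O : E.obj.left.left.Opens)
    (a b : Z ⟶ etOverOpen E O) (h : a ≫ etOverOpenι E O = b ≫ etOverOpenι E O) : a = b := by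
  apply EtOver.hom_ext
  apply Over.OverMorphism.ext
  have h1 : a.hom.left.left ≫ O.ι = b.hom.left.left ≫ O.ι :=
    congrArg (fun k => k.hom.left.left) h
  exact (cancel_mono O.ι).1 h1

theorem appTop_comp_hom {E₁ E₂ E₃ : EtOver X} (a : E₁ ⟶ E₂) (b : E₂ ⟶ E₃)
    (x : Γ(E₃.obj.left.left, ⊤)) :
    (a ≫ b).hom.left.left.appTop.hom x = a.hom.left.left.appTop.hom (b.hom.left.left.appTop.hom x) :=
  rfl


/-- **Étale descent of local principality.**  Let `K` be a quasi-coherent family of ideals on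
`X`.  If `u ∈ E` and `u' ∈ E'` are points of two objects of the small étale site over the same
point of `X`, and near `u'` the family is generated by one nonzerodivisor, then the same holds
near `u`. -/
theorem exists_affine_principal_of_etale_nbhd {K : IdealEt X} (hK : K.IsQCoh) (E E' : EtOver X)
    (u : E.obj.left.left) (u' : E'.obj.left.left)
    (huu' : Points.ofPt E.obj.hom u = Points.ofPt E'.obj.hom u')
    (O' : E'.obj.left.left.Opens) (hO' : IsAffineOpen O') (hu' : u' ∈ O')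
    (f : Γ(O'.toScheme, ⊤)) (hfn : f ∈ nonZeroDivisors Γ(O'.toScheme, ⊤))
    (hf : K.ideal (etOverOpen E' O') hO' = Ideal.span {f}) :
    ∃ (O : E.obj.left.left.Opens) (hO : IsAffineOpen O), u ∈ O ∧ ∃ g : Γ(O.toScheme, ⊤),
      g ∈ nonZeroDivisors Γ(O.toScheme, ⊤) ∧ K.ideal (etOverOpen E O) hO = Ideal.span {g} := by
  -- the fibre product
  let W : Over S := E'.property.1.pullback E.obj.hom
  let p₁ : W ⟶ E'.obj.left := E'.property.1.fst' E.obj.hom
  let p₂ : W ⟶ E.obj.left := E'.property.1.snd E.obj.hom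
  have sqW : IsPullback ((yon S).map p₁) ((yon S).map p₂) E'.obj.hom E.obj.hom :=
    E'.property.1.isPullback' E.obj.hom
  have hp₂e : RepWith @Etale ((yon S).map p₂) := (RepWith @Etale).of_isPullback sqW E'.property
  let EW : EtOver X := EtOver.mk ((yon S).map p₂ ≫ E.obj.hom)
    ((RepWith @Etale).comp_mem _ _ hp₂e E.property)
  let m₁ : EW ⟶ E' := EtOver.homMk p₁ sqW.w
  let m₂ : EW ⟶ E := EtOver.homMk p₂ rfl
  obtain ⟨w, hw₁, hw₂⟩ := exists_of_ofPt_eq sqW u' u huu'.symm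
  -- affine opens
  obtain ⟨_, ⟨(O₀ : E.obj.left.left.Opens), hO₀, rfl⟩, hu₀, -⟩ :=
    (E.obj.left.left.isBasis_affineOpens).exists_subset_of_mem_open (Set.mem_univ u) isOpen_univ
  obtain ⟨_, ⟨(OW : W.left.Opens), hOW, rfl⟩, hwW, hWsub⟩ :=
    (W.left.isBasis_affineOpens).exists_subset_of_mem_open
      (show w ∈ (p₁.left ⁻¹ᵁ O' ⊓ p₂.left ⁻¹ᵁ O₀ : W.left.Opens) from
        ⟨by change p₁.left w ∈ O'; rw [hw₁]; exact hu',
          by change p₂.left w ∈ O₀; rw [hw₂]; exact hu₀⟩)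
      (p₁.left ⁻¹ᵁ O' ⊓ p₂.left ⁻¹ᵁ O₀).isOpen
  obtain ⟨g₁, hg₁⟩ := exists_hom_etOverOpen' m₁ OW O' (fun y hy => (hWsub hy).1)
  obtain ⟨g₂, hg₂⟩ := exists_hom_etOverOpen' m₂ OW O₀ (fun y hy => (hWsub hy).2)
  have hOWa : IsAffine (etOverOpen EW OW).obj.left.left := (show IsAffineOpen OW from hOW)
  have hO'a : IsAffine (etOverOpen E' O').obj.left.left := hO'
  have hO₀a : IsAffine (etOverOpen E O₀).obj.left.left := (show IsAffineOpen O₀ from hO₀)
  set fB : Γ(OW.toScheme, ⊤) := g₁.hom.left.left.appTop.hom f with hfB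
  have hfBI : K.ideal (etOverOpen EW OW) hOWa = Ideal.span {fB} :=
    ideal_eq_span_of_hom hK g₁ hOWa hO'a f hf
  have hfBn : fB ∈ nonZeroDivisors Γ(OW.toScheme, ⊤) :=
    mem_nonZeroDivisors_of_hom g₁ hOWa hO'a hfn
  set ρ : Γ(O₀.toScheme, ⊤) →+* Γ(OW.toScheme, ⊤) := g₂.hom.left.left.appTop.hom with hρ
  have hmap : K.ideal (etOverOpen EW OW) hOWa = (K.ideal (etOverOpen E O₀) hO₀a).map ρ :=
    le_antisymm (hK g₂ hO₀a hOWa) (K.map_le g₂ hO₀a hOWa)
  have h1 := one_mem_span_coeff_map ρ (K.ideal (etOverOpen E O₀) hO₀a) fB hfBn (hmap ▸ hfBI)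
  -- a coefficient which does not vanish at `w`
  obtain ⟨c, ⟨g, hg, hgc⟩, hwc⟩ : ∃ c ∈ {c : Γ(OW.toScheme, ⊤) |
      ∃ g ∈ K.ideal (etOverOpen E O₀) hO₀a, ρ g = fB * c},
      (⟨w, hwW⟩ : OW.toScheme) ∈ OW.toScheme.basicOpen c := by
    by_contra hcon
    push Not at hcon
    have hx0 : (⟨w, hwW⟩ : OW.toScheme) ∈ OW.toScheme.zeroLocus (U := ⊤)
        (Ideal.span {c : Γ(OW.toScheme, ⊤) |
          ∃ g ∈ K.ideal (etOverOpen E O₀) hO₀a, ρ g = fB * c} : Set Γ(OW.toScheme, ⊤)) := by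
      rw [Scheme.zeroLocus_span, Scheme.mem_zeroLocus_iff]
      exact hcon
    rw [Scheme.mem_zeroLocus_iff] at hx0
    apply hx0 1 h1
    rw [Scheme.basicOpen_of_isUnit _ isUnit_one]
    trivial
  -- the image of the basic open of `c` is open
  haveI : Etale p₂.left := EtOver.etale_left m₂
  have hopen : IsOpen (p₂.left '' (bo OW c : Set W.left)) :=
    p₂.left.isOpenMap _ (bo OW c).isOpen
  obtain ⟨a, hua, haV⟩ := exists_bo_subset O₀ hO₀ u hu₀ ⟨_, hopen⟩
    ⟨w, (mem_bo_iff OW c w).2 ⟨hwW, hwc⟩, hw₂⟩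
  let O := bo O₀ a
  let O₃ := bo OW (c * ρ a)
  have hOaff : IsAffineOpen O := isAffineOpen_bo O₀ hO₀ a
  have hO₃aff : IsAffineOpen O₃ := isAffineOpen_bo OW hOW _
  have hq : g₂.hom.left.left ≫ O₀.ι = OW.ι ≫ p₂.left :=
    congrArg (fun k => k.hom.left.left) hg₂
  have hmem₃ : ∀ z : W.left, z ∈ O₃ ↔ z ∈ bo OW c ∧ p₂.left z ∈ O := by
    intro z
    change z ∈ bo OW (c * ρ a) ↔ z ∈ bo OW c ∧ p₂.left z ∈ bo O₀ a
    rw [mem_bo_mul_iff, hρ, mem_bo_appTop_iff p₂.left OW O₀ g₂.hom.left.left hq a z]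
    constructor
    · rintro ⟨h1, -, h2⟩
      exact ⟨h1, h2⟩
    · rintro ⟨h1, h2⟩
      exact ⟨h1, bo_le _ _ h1, h2⟩
  obtain ⟨r, hr⟩ := exists_hom_etOverOpen' m₂ O₃ O (fun z hz => ((hmem₃ z).1 hz).2)
  obtain ⟨s₃, hs₃⟩ := exists_hom_etOverOpen' (𝟙 EW) O₃ OW (fun z hz => bo_le _ _ hz)
  obtain ⟨s, hs⟩ := exists_hom_etOverOpen' (𝟙 E) O O₀ (fun z hz => bo_le _ _ hz)
  have hcomm : r ≫ s = s₃ ≫ g₂ := by
    apply etOverOpen_hom_ext
    rw [Category.assoc, hs, Category.comp_id, hr, Category.assoc, hg₂, ← Category.assoc, hs₃,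
      Category.comp_id]
  have hO₃a : IsAffine (etOverOpen EW O₃).obj.left.left := hO₃aff
  have hOa : IsAffine (etOverOpen E O).obj.left.left := hOaff
  -- `c` becomes a unit
  have hcu : IsUnit (s₃.hom.left.left.appTop.hom c) := by
    apply isUnit_appTop_of_range_subset
    rintro _ ⟨t, rfl⟩
    have h3 : s₃.hom.left.left ≫ OW.ι = O₃.ι :=
      (congrArg (fun k => k.hom.left.left) hs₃).trans (Category.comp_id _)
    have ht : (O₃.ι t) ∈ bo OW c := ((hmem₃ _).1 t.2).1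
    obtain ⟨ht1, ht2⟩ := (mem_bo_iff _ _ _).1 ht
    have h4 : s₃.hom.left.left t = ⟨O₃.ι t, ht1⟩ := by
      apply OW.ι.isOpenEmbedding.injective
      change (s₃.hom.left.left ≫ OW.ι) t = O₃.ι t
      rw [h3]
      rfl
    change s₃.hom.left.left t ∈ OW.toScheme.basicOpen c
    rw [h4]
    exact ht2
  -- surjectivity
  have hsurj : Surjective r.hom.left.left := by
    refine ⟨fun y => ?_⟩
    obtain ⟨z, hz, hzy⟩ := haV y.2
    have hz₃ : z ∈ O₃ := (hmem₃ z).2 ⟨hz, by rw [hzy]; exact y.2⟩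
    refine ⟨⟨z, hz₃⟩, ?_⟩
    apply O.ι.isOpenEmbedding.injective
    have hr' : r.hom.left.left ≫ O.ι = O₃.ι ≫ p₂.left := congrArg (fun k => k.hom.left.left) hr
    have : (r.hom.left.left ≫ O.ι) ⟨z, hz₃⟩ = (O₃.ι ≫ p₂.left) ⟨z, hz₃⟩ := by rw [hr']; rfl
    simp only [Scheme.Hom.comp_apply] at this
    exact this.trans hzy
  haveI := hO₃a
  haveI := hOa
  haveI : Etale r.hom.left.left := EtOver.etale_left r
  have hff : r.hom.left.left.appTop.hom.FaithfullyFlat :=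
    (Flat.flat_and_surjective_iff_faithfullyFlat_of_isAffine _).1 ⟨inferInstance, hsurj⟩
  -- conclusion
  set gO := s.hom.left.left.appTop.hom g with hgO
  have hO₃I : K.ideal (etOverOpen EW O₃) hO₃a = Ideal.span {s₃.hom.left.left.appTop.hom fB} :=
    ideal_eq_span_of_hom hK s₃ hO₃a hOWa fB hfBI
  have hmap₃ : K.ideal (etOverOpen EW O₃) hO₃a =
      (K.ideal (etOverOpen E O) hOa).map r.hom.left.left.appTop.hom :=
    le_antisymm (hK r hOa hO₃a) (K.map_le r hOa hO₃a)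
  have hrg : r.hom.left.left.appTop.hom gO =
      s₃.hom.left.left.appTop.hom fB * s₃.hom.left.left.appTop.hom c := by
    rw [hgO, ← appTop_comp_hom, hcomm, appTop_comp_hom]
    change s₃.hom.left.left.appTop.hom (ρ g) = _
    rw [hgc, map_mul]
  have hfin := eq_span_of_faithfullyFlat r.hom.left.left.appTop.hom
    (K.ideal (etOverOpen E O) hOa) hff gO
    (by rw [← hmap₃, hO₃I, hrg, Ideal.span_singleton_mul_right_unit hcu])
    (by
      rw [hrg]
      exact mul_mem (mem_nonZeroDivisors_of_hom s₃ hO₃a hOWa hfBn) hcu.mem_nonZeroDivisors)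
  exact ⟨O, hOaff, hua, gO, hfin.2, hfin.1⟩


section Chart

variable {D : Sp S} (i : D ⟶ X) (hi : RepWith @IsClosedImmersion i)

include hi in
/-- Chart form of the descent of local principality. -/
theorem exists_affine_principal_chart {V V' : Over S}
    (φ : (yon S).obj V ⟶ X) (hφ : RepWith @Etale φ) (J : V.left.IdealSheafData)
    (fst : (yon S).obj (Over.mk (J.subschemeι ≫ V.hom)) ⟶ D)
    (sq : IsPullback fst
      ((yon S).map (Over.homMk J.subschemeι rfl : Over.mk (J.subschemeι ≫ V.hom) ⟶ V)) i φ)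
    (φ' : (yon S).obj V' ⟶ X) (hφ' : RepWith @Etale φ') (J' : V'.left.IdealSheafData)
    (fst' : (yon S).obj (Over.mk (J'.subschemeι ≫ V'.hom)) ⟶ D)
    (sq' : IsPullback fst'
      ((yon S).map (Over.homMk J'.subschemeι rfl : Over.mk (J'.subschemeι ≫ V'.hom) ⟶ V')) i φ')
    (v : V.left) (v' : V'.left) (hvv' : Points.ofPt φ v = Points.ofPt φ' v')
    (O' : V'.left.affineOpens) (hv' : v' ∈ O'.1) (f : Γ(V'.left, O'.1))
    (hfn : f ∈ nonZeroDivisors Γ(V'.left, O'.1)) (hf : J'.ideal O' = Ideal.span {f}) :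
    ∃ O : V.left.affineOpens, v ∈ O.1 ∧ ∃ g : Γ(V.left, O.1),
      g ∈ nonZeroDivisors Γ(V.left, O.1) ∧ J.ideal O = Ideal.span {g} := by
  have hK := isQCoh_idealOfRep_of_isClosedImmersion i hi
  have k' := idealOfRep_etOverOpen_eq_span i hi.1 φ' hφ' J' fst' sq' O' f hf
  obtain ⟨O, hO, hvO, g, hgn, hg⟩ := exists_affine_principal_of_etale_nbhd hK (EtOver.mk φ hφ)
    (EtOver.mk φ' hφ') v v' hvv' O'.1 O'.2 hv' _ (mem_nonZeroDivisors_of_isIso _ hfn) k'
  exact ⟨⟨O, hO⟩, hvO, _, mem_nonZeroDivisors_of_isIso _ hgn,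
    ideal_eq_span_of_idealOfRep_etOverOpen i hi.1 φ hφ J fst sq ⟨O, hO⟩ g hg⟩

/-- Away from its support an ideal sheaf is locally the unit ideal. -/
theorem exists_affine_principal_of_not_mem_support {V : Scheme.{u}} (J : V.IdealSheafData)
    (x : V) (hx : x ∉ J.support) :
    ∃ O : V.affineOpens, x ∈ O.1 ∧ ∃ g : Γ(V, O.1),
      g ∈ nonZeroDivisors Γ(V, O.1) ∧ J.ideal O = Ideal.span {g} := by
  obtain ⟨_, ⟨(O : V.Opens), hO, rfl⟩, hxO, -⟩ :=
    (V.isBasis_affineOpens).exists_subset_of_mem_open (Set.mem_univ x) isOpen_univ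
  have h1 : x ∉ V.zeroLocus (U := O) (J.ideal ⟨O, hO⟩ : Set Γ(V, O)) := by
    rwa [← Scheme.IdealSheafData.mem_support_iff_of_mem (U := ⟨O, hO⟩) hxO]
  rw [Scheme.mem_zeroLocus_iff] at h1
  push Not at h1
  obtain ⟨b, hb, hxb⟩ := h1
  refine ⟨V.affineBasicOpen (U := ⟨O, hO⟩) b, hxb, 1, one_mem _, ?_⟩
  rw [Ideal.span_singleton_one]
  have hmap := J.map_ideal_basicOpen ⟨O, hO⟩ b
  rw [← hmap]
  exact Ideal.eq_top_of_isUnit_mem _ (Ideal.mem_map_of_mem _ hb)
    (V.toRingedSpace.isUnit_res_basicOpen b)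

include hi in
/-- (2) ⇔ (3): effective Cartier divisors are detected on every étale chart. -/
theorem isEffCartierSub_iff_forall_chart (hX : IsAlgSpace X) :
    IsEffCartierSub i ↔
      ∀ (U : Over S) (φ : (yon S).obj U ⟶ X), RepWith @Etale φ →
        ∀ (I : U.left.IdealSheafData)
          (fst : (yon S).obj (Over.mk (I.subschemeι ≫ U.hom)) ⟶ D),
          IsPullback fst ((yon S).map
            (Over.homMk I.subschemeι rfl : Over.mk (I.subschemeι ≫ U.hom) ⟶ U)) i φ →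
            BlowUp.IsEffCartierIdeal I := by
  constructor
  · rintro ⟨-, V', φ', J', fst', hφ'e, hφ's, sq', hJ'⟩ U φ hφ I fst sq x
    obtain ⟨v', hv'⟩ := surjective_ofPt φ' hφ's (Points.ofPt φ x)
    obtain ⟨O', hv'O, f, hfn, hf⟩ := hJ' v'
    exact exists_affine_principal_chart i hi φ hφ I fst sq φ' hφ'e J' fst' sq' x v' hv'.symm O'
      hv'O f hfn hf
  · intro h
    obtain ⟨U, p, hpe, hps⟩ := hX.atlas
    obtain ⟨J, fst, sq⟩ := exists_idealSheafData_isPullback i hi U p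
    exact ⟨hi, U, p, J, fst, hpe, hps, sq, h U p hpe J fst sq⟩

include hi in
/-- (2) ⇔ (4): effective Cartier divisors are detected by pointed affine étale
neighbourhoods on which the ideal is globally generated by a nonzerodivisor. -/
theorem isEffCartierSub_iff_forall_nbhd (hX : IsAlgSpace X) :
    IsEffCartierSub i ↔
      ∀ x : Points D,
        ∃ (U : Over S) (_ : IsAffine U.left) (a : (yon S).obj U ⟶ X) (u : ↥U.left)
          (f : Γ(U.left, ⊤)) (I : U.left.IdealSheafData)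
          (fst : (yon S).obj (Over.mk (I.subschemeι ≫ U.hom)) ⟶ D),
          RepWith @Etale a ∧ Points.ofPt a u = Points.map i x ∧
            f ∈ nonZeroDivisors Γ(U.left, ⊤) ∧
            I.ideal ⟨⊤, isAffineOpen_top U.left⟩ = Ideal.span {f} ∧
            IsPullback fst ((yon S).map
              (Over.homMk I.subschemeι rfl : Over.mk (I.subschemeι ≫ U.hom) ⟶ U)) i a := by
  constructor
  · rintro ⟨-, V, φ, J, fstJ, hφe, hφs, sq, hJ⟩ x
    obtain ⟨v, hv⟩ := surjective_ofPt φ hφs (Points.map i x)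
    obtain ⟨O, hvO, f, hfn, hf⟩ := hJ v
    let U : Over S := Over.mk (O.1.ι ≫ V.hom)
    let j : U ⟶ V := Over.homMk O.1.ι rfl
    let a : (yon S).obj U ⟶ X := (yon S).map j ≫ φ
    have ha : RepWith @Etale a := (RepWith @Etale).comp_mem _ _
      ((repWith_yon_map_iff _ j).2 (show Etale O.1.ι from inferInstance)) hφe
    haveI hUa : IsAffine U.left := O.2
    obtain ⟨I, fst, sqI⟩ := exists_idealSheafData_isPullback i hi U a
    have hK := isQCoh_idealOfRep_of_isClosedImmersion i hi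
    let m : EtOver.mk a ha ⟶ EtOver.mk φ hφe := EtOver.homMk j rfl
    obtain ⟨g⟩ := exists_hom_etOverOpen m (⊤ : U.left.Opens) O.1 (by
      intro y _
      exact y.2)
    have hTa : IsAffine (etOverOpen (EtOver.mk a ha) (⊤ : U.left.Opens)).obj.left.left :=
      (show IsAffineOpen (⊤ : U.left.Opens) from isAffineOpen_top U.left)
    have hOa : IsAffine (etOverOpen (EtOver.mk φ hφe) O.1).obj.left.left :=
      (show IsAffineOpen O.1 from O.2)
    have k := idealOfRep_etOverOpen_eq_span i hi.1 φ hφe J fstJ sq O f hf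
    have l := ideal_eq_span_of_hom hK g hTa hOa _ k
    have hI := ideal_eq_span_of_idealOfRep_etOverOpen i hi.1 a ha I fst sqI
      ⟨⊤, isAffineOpen_top U.left⟩ _ l
    refine ⟨U, hUa, a, ⟨v, hvO⟩, _, I, fst, ha, ?_, ?_, hI, sqI⟩
    · rw [ofPt_comp_yon_map]
      exact hv
    · exact mem_nonZeroDivisors_of_isIso _
        (mem_nonZeroDivisors_of_hom g hTa hOa (mem_nonZeroDivisors_of_isIso _ hfn))
  · intro h
    obtain ⟨U, p, hpe, hps⟩ := hX.atlas
    obtain ⟨J, fst, sq⟩ := exists_idealSheafData_isPullback i hi U p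
    refine ⟨hi, U, p, J, fst, hpe, hps, sq, ?_⟩
    intro x
    by_cases hx : x ∈ J.support
    · obtain ⟨d, hd⟩ := (mem_support_iff_ofPt_mem_range i p J fst sq x).1 hx
      obtain ⟨U', hU'a, a, u', f, I', fst', ha, hu', hfn, hf, sq'⟩ := h d
      exact exists_affine_principal_chart i hi p hpe J fst sq a ha I' fst' sq' x u'
        (hd.symm.trans hu'.symm) ⟨⊤, isAffineOpen_top U'.left⟩ trivial f hfn hf
    · exact exists_affine_principal_of_not_mem_support J x hx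

end Chart

end Groth.Agent.Helper15.EffCart
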