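import Mathlib
import Groth.Prelude
import Groth.Agent.Lib.Helper15.EffCart6
import Groth.Agent.Lib.Helper15.AlgSpNoeth
import Groth.Agent.Lib.Helper1.SerreNormal
import Groth.Agent.Lib.Helper12.GorFlatMain
import Groth.Agent.Lib.Helper3.SubStalk

/-!
# Effective Cartier divisors inherit `(S_{k-1})` (helper15)
-/

set_option autoImplicit false
set_option linter.unusedSectionVars false
set_option linter.unusedVariables false
set_option linter.style.haveILetI false
universe u
open CategoryTheory CategoryTheory.Limits AlgebraicGeometry MorphismProperty Opposite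

namespace Groth.Agent.Helper15.CartSk
open IsLocalRing

theorem enat_arith (k : ℕ) (d : WithBot ℕ∞) (e : ℕ∞)
    (h : min ((k : ℕ) : WithBot ℕ∞) (d + 1) ≤ ((e + 1 : ℕ∞) : WithBot ℕ∞)) :
    min ((k - 1 : ℕ) : WithBot ℕ∞) d ≤ ((e : ℕ∞) : WithBot ℕ∞) := by
  cases k with
  | zero =>
    refine (min_le_left _ _).trans ?_
    show ((0 : ℕ) : WithBot ℕ∞) ≤ _
    rw [Nat.cast_zero]
    exact WithBot.coe_le_coe.mpr zero_le
  | succ k' =>
    rw [Nat.add_sub_cancel]
    induction d using WithBot.recBotCoe with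
    | bot => exact (min_le_right _ _).trans bot_le
    | coe n =>
      have h1 : (((k' + 1 : ℕ) : ℕ) : WithBot ℕ∞) = (((k' : ℕ∞) + 1 : ℕ∞) : WithBot ℕ∞) := by
        push_cast
        rfl
      have h2 : ((n : ℕ∞) : WithBot ℕ∞) + 1 = ((n + 1 : ℕ∞) : WithBot ℕ∞) := rfl
      rw [h1, h2, ← WithBot.coe_min, WithBot.coe_le_coe, min_add_add_right] at h
      have h3 : ((k' : ℕ) : WithBot ℕ∞) = (((k' : ℕ∞)) : WithBot ℕ∞) := rfl
      rw [h3, ← WithBot.coe_min, WithBot.coe_le_coe]
      exact (ENat.add_le_add_iff_right ENat.one_ne_top).mp h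

/-- Ring level: passing to the quotient by a regular element of the maximal ideal. -/
theorem sk_quot {A B : Type u} [CommRing A] [IsLocalRing A] [IsNoetherianRing A] [CommRing B]
    [IsLocalRing B] (π : A →+* B) (hπ : Function.Surjective π) (y : A)
    (hy : y ∈ maximalIdeal A) (hreg : y ∈ nonZeroDivisors A)
    (hker : RingHom.ker π = Ideal.span {y}) (k : ℕ)
    (h : min ((k : ℕ) : WithBot ℕ∞) (ringKrullDim A) ≤
      ((LocCoh.depth A A : ℕ∞) : WithBot ℕ∞)) :
    min ((k - 1 : ℕ) : WithBot ℕ∞) (ringKrullDim B) ≤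
      ((LocCoh.depth B B : ℕ∞) : WithBot ℕ∞) := by
  have hne : Ideal.span {y} ≠ ⊤ := by
    intro htop
    have : (1 : A) ∈ Ideal.span {y} := htop ▸ Submodule.mem_top
    have hle : Ideal.span {y} ≤ maximalIdeal A := (Ideal.span_singleton_le_iff_mem _).mpr hy
    exact (maximalIdeal.isMaximal A).ne_top ((Ideal.eq_top_iff_one _).mpr (hle this))
  haveI : Nontrivial (A ⧸ Ideal.span {y}) := Ideal.Quotient.nontrivial_iff.mpr hne
  haveI : IsLocalRing (A ⧸ Ideal.span {y}) :=
    IsLocalRing.of_surjective' (Ideal.Quotient.mk _) Ideal.Quotient.mk_surjective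
  haveI : IsNoetherianRing B := isNoetherianRing_of_surjective A B π hπ
  let e : (A ⧸ Ideal.span {y}) ≃+* B :=
    (Ideal.quotEquivOfEq hker.symm).trans (RingHom.quotientKerEquivOfSurjective hπ)
  obtain ⟨hd, hdim⟩ := Groth.Agent.Helper1.SerreNormal.depth_dim_eq_of_ringEquiv e
  have hsreg : IsSMulRegular A y := Module.Flat.isSMulRegular_of_nonZeroDivisors hreg
  have h1 := Groth.Agent.Helper12.GorFlatLoc.depth_quot_add_one A y hy hsreg
  have h2 := ringKrullDim_quotient_span_singleton_succ_eq_ringKrullDim hsreg hy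
  rw [hd, hdim]
  apply enat_arith
  rw [h2, h1]
  exact h

variable {V : Scheme.{u}}

/-- Scheme level: the local rings of an effective Cartier divisor. -/
theorem sk_subscheme [IsLocallyNoetherian V] (J : V.IdealSheafData)
    (hJ : BlowUp.IsEffCartierIdeal J) (z : J.subscheme) (k : ℕ)
    (h : min ((k : ℕ) : WithBot ℕ∞) (ringKrullDim (V.presheaf.stalk (J.subschemeι z))) ≤
      ((LocCoh.depth (V.presheaf.stalk (J.subschemeι z))
        (V.presheaf.stalk (J.subschemeι z)) : ℕ∞) : WithBot ℕ∞)) :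
    min ((k - 1 : ℕ) : WithBot ℕ∞) (ringKrullDim (J.subscheme.presheaf.stalk z)) ≤
      ((LocCoh.depth (J.subscheme.presheaf.stalk z)
        (J.subscheme.presheaf.stalk z) : ℕ∞) : WithBot ℕ∞) := by
  obtain ⟨O, hvO, f, hfn, hf⟩ := hJ (J.subschemeι z)
  have hker := Groth.Agent.Helper3.SubStalk.ker_stalkMap_subschemeι J z O hvO
  have hsurj := Groth.Agent.Helper3.SubStalk.stalkMap_subschemeι_surjective J z
  rw [hf, Ideal.map_span, Set.image_singleton] at hker
  have hflat : (V.presheaf.germ O.1 (J.subschemeι z) hvO).hom.Flat := by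
    letI := V.presheaf.algebra_section_stalk (U := O.1) ⟨J.subschemeι z, hvO⟩
    haveI := O.2.isLocalization_stalk ⟨J.subschemeι z, hvO⟩
    have : Module.Flat Γ(V, O.1) (V.presheaf.stalk (J.subschemeι z)) :=
      IsLocalization.flat _ (O.2.primeIdealOf ⟨J.subschemeι z, hvO⟩).asIdeal.primeCompl
    exact this
  have hreg := Groth.Agent.Helper15.EffCart.mem_nonZeroDivisors_of_flat _ hflat hfn
  have hy : (V.presheaf.germ O.1 (J.subschemeι z) hvO).hom f ∈
      maximalIdeal (V.presheaf.stalk (J.subschemeι z)) := by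
    rw [mem_maximalIdeal, mem_nonunits_iff]
    intro hu
    have hmem : (V.presheaf.germ O.1 (J.subschemeι z) hvO).hom f ∈
        RingHom.ker (J.subschemeι.stalkMap z).hom := by
      rw [hker]
      exact Ideal.subset_span rfl
    have h1 : IsUnit ((J.subschemeι.stalkMap z).hom
        ((V.presheaf.germ O.1 (J.subschemeι z) hvO).hom f)) := hu.map _
    rw [RingHom.mem_ker.mp hmem] at h1
    exact not_isUnit_zero h1
  exact sk_quot (J.subschemeι.stalkMap z).hom hsurj _ hy hreg hker k h

end Groth.Agent.Helper15.CartSk
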