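import Mathlib
import Groth.Prelude
import Groth.Agent.Lib.Helper15.CartSk1

/-!
# Effective Cartier divisors on algebraic spaces inherit `(S_{k-1})` (helper15)
-/

set_option autoImplicit false
set_option linter.unusedSectionVars false
set_option linter.unusedVariables false
set_option linter.style.haveILetI false
universe u
open CategoryTheory CategoryTheory.Limits AlgebraicGeometry MorphismProperty Opposite

namespace Groth.Agent.Helper15.CartSk
open IsLocalRing AlgSp Groth.Agent.Helper15 Groth.Agent.Helper16.AS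

variable {S : Scheme.{u}}

theorem etaleLocally_sk_of_isEffCartierSub {X D : Sp S} (hXa : IsAlgSpace X) (i : D ⟶ X)
    (hD : IsEffCartierSub i) (k : ℕ)
    (hX : EtaleLocally (fun U => IsLocallyNoetherian U ∧ ∀ x : ↥U,
        min ((k : ℕ) : WithBot ℕ∞) (ringKrullDim ↥(U.presheaf.stalk x)) ≤
          ((LocCoh.depth ↥(U.presheaf.stalk x) ↥(U.presheaf.stalk x) : ℕ∞) : WithBot ℕ∞)) X) :
    EtaleLocally (fun V => IsLocallyNoetherian V ∧ ∀ v : ↥V,
        min ((k - 1 : ℕ) : WithBot ℕ∞) (ringKrullDim ↥(V.presheaf.stalk v)) ≤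
          ((LocCoh.depth ↥(V.presheaf.stalk v) ↥(V.presheaf.stalk v) : ℕ∞) : WithBot ℕ∞)) D := by
  obtain ⟨U, p, hpe, hps, hN, hSk⟩ := hX
  obtain ⟨J, fst, sq⟩ := EffCart.exists_idealSheafData_isPullback i hD.1 U p
  have hJ := (EffCart.isEffCartierSub_iff_forall_chart i hD.1 hXa).mp hD U p hpe J fst sq
  haveI := hN
  refine ⟨Over.mk (J.subschemeι ≫ U.hom), fst, (RepWith @Etale).of_isPullback sq.flip hpe,
    (RepWith @Surjective).of_isPullback sq.flip hps, ?_, ?_⟩
  · exact LocallyOfFiniteType.isLocallyNoetherian J.subschemeι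
  · intro v
    exact sk_subscheme J hJ v k (hSk _)

theorem sk_two_of_isNormalScheme (U : Scheme.{u}) [IsLocallyNoetherian U]
    (h : Pi1.IsNormalScheme U) (x : U) :
    min ((2 : ℕ) : WithBot ℕ∞) (ringKrullDim ↥(U.presheaf.stalk x)) ≤
      ((LocCoh.depth ↥(U.presheaf.stalk x) ↥(U.presheaf.stalk x) : ℕ∞) : WithBot ℕ∞) := by
  obtain ⟨hd, hic⟩ := h x
  haveI := hd
  haveI := hic
  exact Groth.Agent.Helper1.SerreNormal.min_le_depth_of_hasSk 2
    Groth.Agent.Helper1.SerreNormal.hasSk_two_of_normal_domain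

end Groth.Agent.Helper15.CartSk
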