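import Mathlib

/-!
# Spreading out a field-valued point of a finitely presented algebra: two-level version
-/

set_option autoImplicit false
universe u

namespace Groth.Agent.Helper15.CdLim

open MvPolynomial

/-- Two-level version of the spreading-out lemma: `B₀` is a finitely presented `A₀`-algebra with a
presentation `φ`, `A'` is an `A₀`-algebra, and `K` is an `A'`-field; an `A₀`-algebra map
`ψ₀ : B₀ → K` such that the images of the generators are fractions of elements of `A'` spreads out
to an `A₀`-algebra map `B₀ → A'_g / I A'_g`. -/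
theorem exists_algHom_of_presentation {A₀ A' B₀ K : Type u} [CommRing A₀] [CommRing A']
    [CommRing B₀] [Field K] [Algebra A₀ A'] [Algebra A₀ B₀] [Algebra A' K] [Algebra A₀ K]
    [IsScalarTower A₀ A' K] (ψ₀ : B₀ →ₐ[A₀] K) {n : ℕ}
    (φ : MvPolynomial (Fin n) A₀ →ₐ[A₀] B₀) (hφ : Function.Surjective φ)
    (hker : (RingHom.ker φ.toRingHom).FG)
    (hK : ∀ i : Fin n, ∃ a g : A', algebraMap A' K g ≠ 0 ∧
      ψ₀ (φ (X i)) * algebraMap A' K g = algebraMap A' K a) :
    ∃ (g : A') (I : Ideal A'), I.FG ∧
      Nonempty (B₀ →ₐ[A₀] (Localization.Away g ⧸ I.map (algebraMap A' (Localization.Away g)))) ∧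
      Nonempty ((Localization.Away g ⧸ I.map (algebraMap A' (Localization.Away g))) →ₐ[A'] K) := by
  classical
  choose a gi hgi hagi using hK
  let g : A' := ∏ i, gi i
  have hg : algebraMap A' K g ≠ 0 := by
    rw [map_prod]
    exact Finset.prod_ne_zero_iff.2 (fun i _ => hgi i)
  let a' : Fin n → A' := fun i => a i * ∏ j ∈ Finset.univ.erase i, gi j
  have ha' : ∀ i, ψ₀ (φ (X i)) * algebraMap A' K g = algebraMap A' K (a' i) := by
    intro i
    simp only [g, a']
    rw [← Finset.mul_prod_erase Finset.univ gi (Finset.mem_univ i), map_mul, ← mul_assoc, hagi i,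
      map_mul]
  have hgu : IsUnit (algebraMap A' K g) := isUnit_iff_ne_zero.2 hg
  let L := Localization.Away g
  let eL : L →ₐ[A'] K := IsLocalization.liftAlgHom (R := A') (M := Submonoid.powers g) (S := L)
    (f := Algebra.ofId A' K) (by
      rintro ⟨_, m, rfl⟩
      change IsUnit (algebraMap A' K (g ^ m))
      rw [map_pow]
      exact hgu.pow m)
  let eL₀ : L →ₐ[A₀] K := eL.restrictScalars A₀
  let θ : MvPolynomial (Fin n) A₀ →ₐ[A₀] L :=
    MvPolynomial.aeval (fun i => IsLocalization.mk' L (a' i) (⟨g, Submonoid.mem_powers g⟩ :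
      Submonoid.powers g))
  have hcomp : eL₀.comp θ = ψ₀.comp φ := by
    apply MvPolynomial.algHom_ext
    intro i
    have h1 : IsLocalization.mk' L (a' i) (⟨g, Submonoid.mem_powers g⟩ : Submonoid.powers g) *
        algebraMap A' L g = algebraMap A' L (a' i) := IsLocalization.mk'_spec _ _ _
    have h2 := congrArg eL h1
    rw [map_mul, AlgHom.commutes, AlgHom.commutes] at h2
    have h3 : eL₀ (θ (X i)) * algebraMap A' K g = ψ₀ (φ (X i)) * algebraMap A' K g := by
      rw [ha' i, ← h2]
      simp only [θ, MvPolynomial.aeval_X]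
      rfl
    exact mul_right_cancel₀ hg h3
  obtain ⟨s, hs⟩ := hker
  choose hF hFspec using fun F : MvPolynomial (Fin n) A₀ =>
    IsLocalization.surj (Submonoid.powers g) (θ F)
  let I : Ideal A' := Ideal.span ((fun F => (hF F).1) '' (s : Set (MvPolynomial (Fin n) A₀)))
  have hIK : ∀ h ∈ I, algebraMap A' K h = 0 := by
    intro h hh
    have hle : I ≤ RingHom.ker (algebraMap A' K) := by
      apply Ideal.span_le.2
      rintro _ ⟨F, hFs, rfl⟩
      have hFker : φ F = 0 := by
        have : F ∈ RingHom.ker φ.toRingHom := by rw [← hs]; exact Ideal.subset_span hFs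
        exact this
      have h1 := congrArg eL (hFspec F)
      rw [map_mul, AlgHom.commutes, AlgHom.commutes] at h1
      have h2 : eL (θ F) = 0 := by
        have := congrArg (fun α : MvPolynomial (Fin n) A₀ →ₐ[A₀] K => α F) hcomp
        simp only [AlgHom.comp_apply] at this
        change eL (θ F) = _ at this
        rw [this, hFker, map_zero]
      rw [h2, zero_mul] at h1
      exact h1.symm
    exact hle hh
  have hIfg : I.FG := ⟨s.image (fun F => (hF F).1), by simp [I]⟩
  refine ⟨g, I, hIfg, ?_, ?_⟩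
  · let θ' : MvPolynomial (Fin n) A₀ →ₐ[A₀] (L ⧸ I.map (algebraMap A' L)) :=
      (Ideal.Quotient.mkₐ A₀ (I.map (algebraMap A' L))).comp θ
    have hθ' : ∀ F ∈ RingHom.ker φ.toRingHom, θ' F = 0 := by
      intro F hFk
      have hle : RingHom.ker φ.toRingHom ≤ RingHom.ker θ'.toRingHom := by
        rw [← hs]
        apply Ideal.span_le.2
        intro F hFs
        change θ' F = 0
        simp only [θ', AlgHom.comp_apply, Ideal.Quotient.mkₐ_eq_mk]
        rw [Ideal.Quotient.eq_zero_iff_mem]
        have hu : IsUnit (algebraMap A' L ((hF F).2 : A')) := IsLocalization.map_units L (hF F).2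
        rw [← Ideal.mul_unit_mem_iff_mem _ hu, hFspec F]
        exact Ideal.mem_map_of_mem _ (Ideal.subset_span ⟨F, hFs, rfl⟩)
      exact hle hFk
    let e : (MvPolynomial (Fin n) A₀ ⧸ RingHom.ker φ.toRingHom) ≃ₐ[A₀] B₀ :=
      Ideal.quotientKerAlgEquivOfSurjective hφ
    exact ⟨(Ideal.Quotient.liftₐ (RingHom.ker φ.toRingHom) θ' hθ').comp e.symm.toAlgHom⟩
  · refine ⟨Ideal.Quotient.liftₐ (I.map (algebraMap A' L)) eL ?_⟩
    intro x hx
    have hle : I.map (algebraMap A' L) ≤ RingHom.ker eL.toRingHom := by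
      rw [Ideal.map_le_iff_le_comap]
      intro h hh
      change eL (algebraMap A' L h) = 0
      rw [AlgHom.commutes]
      exact hIK h hh
    exact hle hx

end Groth.Agent.Helper15.CdLim
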