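import Groth.Agent.Lib.Helper15.Lcw1
import Groth.Agent.Lib.Helper16.Sch.PBRes

/-!
# Points with trivial residue field extension: sections and base change
-/

set_option autoImplicit false
universe u
open CategoryTheory CategoryTheory.Limits AlgebraicGeometry

namespace Groth.Agent.Helper15.CdLim

/-- The points in the image of a section over an immersion have trivial residue field extension. -/
theorem bijective_residueFieldMap_of_section {X Y Z : Scheme.{u}} (f : X ⟶ Y) (σ : Z ⟶ X)
    [SurjectiveOnStalks (σ ≫ f)] (ζ : Z) : Function.Bijective (f.residueFieldMap (σ ζ)) := by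
  refine ⟨(f.residueFieldMap (σ ζ)).hom.injective, ?_⟩
  have h1 : Function.Surjective ((σ ≫ f).residueFieldMap ζ).hom :=
    Groth.Agent.Helper15.Lcw.residueFieldMap_surjective (σ ≫ f) ζ
  rw [Scheme.residueFieldMap_comp] at h1
  intro t
  obtain ⟨u, hu⟩ := h1 (σ.residueFieldMap ζ t)
  refine ⟨u, ?_⟩
  apply (σ.residueFieldMap ζ).hom.injective
  exact hu

theorem bijective_residueFieldMap_of_section' {X Y Z : Scheme.{u}} (f : X ⟶ Y) (σ : Z ⟶ X)
    (z : Z ⟶ Y) (hσ : σ ≫ f = z) [SurjectiveOnStalks z] (ζ : Z) :
    Function.Bijective (f.residueFieldMap (σ ζ)) := by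
  subst hσ
  exact bijective_residueFieldMap_of_section f σ ζ

/-- Points with trivial residue field extension lift along base change. -/
theorem exists_cd_point_of_isPullback {X Y X' Y' : Scheme.{u}} {f : X ⟶ Y} {g : Y' ⟶ Y}
    {g' : X' ⟶ X} {f' : X' ⟶ Y'} (sq : IsPullback g' f' f g) (y' : Y') (x : X)
    (hx : f x = g y') (hb : Function.Bijective (f.residueFieldMap x)) :
    ∃ x' : X', f' x' = y' ∧ g' x' = x ∧ Function.Bijective (f'.residueFieldMap x') := by
  obtain ⟨t, ht1, ht2⟩ := Scheme.Pullback.exists_preimage_pullback (f := g) (g := f) y' x hx.symm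
  subst ht1 ht2
  have h1 : Function.Surjective ((pullback.fst g f).residueFieldMap t) :=
    Groth.Agent.Helper16.PBRes.surjective_residueFieldMap_fst g f t hb.2
  have h1' : Function.Bijective ((pullback.fst g f).residueFieldMap t) :=
    ⟨((pullback.fst g f).residueFieldMap t).hom.injective, h1⟩
  let e : X' ≅ pullback g f := sq.flip.isoPullback
  have he1 : e.inv ≫ f' = pullback.fst g f := sq.flip.isoPullback_inv_fst
  have he2 : e.inv ≫ g' = pullback.snd g f := sq.flip.isoPullback_inv_snd
  refine ⟨e.inv t, ?_, ?_, ?_⟩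
  · rw [← Scheme.Hom.comp_apply, he1]
  · rw [← Scheme.Hom.comp_apply, he2]
  · have h2 : Function.Bijective ((e.inv ≫ f').residueFieldMap t) := he1 ▸ h1'
    rw [Scheme.residueFieldMap_comp] at h2
    have h3 : Function.Bijective (e.inv.residueFieldMap t) := by
      have : IsIso (e.inv.residueFieldMap t) := inferInstance
      exact ConcreteCategory.bijective_of_isIso _
    change Function.Bijective ((e.inv.residueFieldMap t) ∘ (f'.residueFieldMap (e.inv t))) at h2
    exact (Function.Bijective.of_comp_iff' h3 _).1 h2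

end Groth.Agent.Helper15.CdLim
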