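import Groth.Agent.Lib.Helper15.CdStrat1

/-!
# Spreading out a rational point of a fibre to a section over a finitely presented immersion
-/

set_option autoImplicit false
universe u
open CategoryTheory CategoryTheory.Limits AlgebraicGeometry

namespace Groth.Agent.Helper15.CdStrat

theorem evaluation_appLE {X Y : Scheme.{u}} (f : X ⟶ Y) (V : Y.Opens) (X₀ : X.Opens)
    (h : X₀ ≤ f ⁻¹ᵁ V) (x : X) (hx : x ∈ X₀) (t : Γ(Y, V)) :
    X.evaluation X₀ x hx (f.appLE V X₀ h t) =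
      f.residueFieldMap x (Y.evaluation V (f x) (h hx) t) := by
  rw [Scheme.evaluation_naturality_apply]
  simp only [Scheme.Hom.appLE, CommRingCat.comp_apply]
  unfold Scheme.evaluation
  simp only [CommRingCat.comp_apply]
  rw [TopCat.Presheaf.germ_res_apply]

theorem exists_local_section {X Y : Scheme.{u}} (f : X ⟶ Y) [LocallyOfFinitePresentation f]
    [QuasiSeparatedSpace Y] (x : X) (hbij : Function.Bijective (f.residueFieldMap x)) :
    ∃ (Z : Scheme.{u}) (z : Z ⟶ Y) (σ : Z ⟶ X), σ ≫ f = z ∧ f x ∈ Set.range z ∧ IsImmersion z ∧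
      LocallyOfFinitePresentation z ∧ QuasiCompact z ∧ QuasiSeparated z := by
  obtain ⟨_, ⟨V, hV', rfl⟩, hyV, -⟩ := Y.isBasis_affineOpens.exists_subset_of_mem_open
    (Set.mem_univ (f x)) isOpen_univ
  obtain ⟨_, ⟨X₀, hX₀', rfl⟩, hxX₀, hX₀V : X₀ ≤ f ⁻¹ᵁ V⟩ :=
    X.isBasis_affineOpens.exists_subset_of_mem_open hyV (f ⁻¹ᵁ V).2
  have hV : IsAffineOpen V := hV'
  have hX₀ : IsAffineOpen X₀ := hX₀'
  have hfp : (f.appLE V X₀ hX₀V).hom.FinitePresentation :=
    HasRingHomProperty.appLE @LocallyOfFinitePresentation f inferInstance ⟨V, hV⟩ ⟨X₀, hX₀⟩ hX₀V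
  algebraize [(f.appLE V X₀ hX₀V).hom]
  let K := X.residueField x
  let evx : Γ(X, X₀) →+* K := (X.evaluation X₀ x hxX₀).hom
  letI : Algebra Γ(Y, V) K := (evx.comp (f.appLE V X₀ hX₀V).hom).toAlgebra
  let ψ₀ : Γ(X, X₀) →ₐ[Γ(Y, V)] K := { evx with commutes' := fun a => rfl }
  have halg : ∀ t : Γ(Y, V), algebraMap Γ(Y, V) K t =
      f.residueFieldMap x (Y.evaluation V (f x) hyV t) := fun t => evaluation_appLE f V X₀ hX₀V x hxX₀ t
  have hK : ∀ k : K, ∃ a g : Γ(Y, V), algebraMap Γ(Y, V) K g ≠ 0 ∧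
      k * algebraMap Γ(Y, V) K g = algebraMap Γ(Y, V) K a := by
    intro k
    obtain ⟨k', rfl⟩ := hbij.2 k
    obtain ⟨s, rfl⟩ := Y.residue_surjective (f x) k'
    letI := Y.presheaf.algebra_section_stalk ⟨f x, hyV⟩
    haveI := hV.isLocalization_stalk ⟨f x, hyV⟩
    obtain ⟨⟨a, g⟩, hag⟩ := IsLocalization.surj (hV.primeIdealOf ⟨f x, hyV⟩).asIdeal.primeCompl s
    have hu : IsUnit (algebraMap Γ(Y, V) (Y.presheaf.stalk (f x)) g) :=
      IsLocalization.map_units (Y.presheaf.stalk (f x)) g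
    refine ⟨a, g, ?_, ?_⟩
    · rw [halg]
      have h1 : IsUnit (Y.evaluation V (f x) hyV (g : Γ(Y, V))) := hu.map (Y.residue (f x)).hom
      exact ((h1.map (f.residueFieldMap x).hom).ne_zero)
    · rw [halg, halg]
      have h2 := congrArg (fun t => f.residueFieldMap x (Y.residue (f x) t)) hag
      simp only [map_mul] at h2
      exact h2
  obtain ⟨g, I, hIfg, ⟨ψ⟩, ⟨eQ⟩⟩ := exists_algHom_of_fp ψ₀ hK
  let L := Localization.Away g
  let J : Ideal L := I.map (algebraMap Γ(Y, V) L)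
  let ι₁ : Spec (.of (L ⧸ J)) ⟶ Spec (.of L) := Spec.map (CommRingCat.ofHom (Ideal.Quotient.mk J))
  let ι₂ : Spec (.of L) ⟶ Spec Γ(Y, V) := Spec.map (CommRingCat.ofHom (algebraMap Γ(Y, V) L))
  have hι₁fp : LocallyOfFinitePresentation ι₁ := by
    rw [HasRingHomProperty.Spec_iff (P := @LocallyOfFinitePresentation)]
    refine RingHom.FinitePresentation.of_surjective _ Ideal.Quotient.mk_surjective ?_
    change (RingHom.ker (Ideal.Quotient.mk J)).FG
    rw [Ideal.mk_ker]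
    exact hIfg.map _
  have hcomp : ι₁ ≫ ι₂ = Spec.map (CommRingCat.ofHom (algebraMap Γ(Y, V) (L ⧸ J))) := by
    rw [← Spec.map_comp]
    rfl
  haveI hι₁ci : IsClosedImmersion ι₁ :=
    IsClosedImmersion.spec_of_surjective (CommRingCat.ofHom (Ideal.Quotient.mk J))
      Ideal.Quotient.mk_surjective
  haveI hι₂oi : IsOpenImmersion ι₂ := by
    dsimp only [ι₂, L]
    infer_instance
  haveI : IsImmersion ((ι₁ ≫ ι₂) ≫ hV.fromSpec) := inferInstance
  haveI : LocallyOfFinitePresentation ((ι₁ ≫ ι₂) ≫ hV.fromSpec) := inferInstance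
  refine ⟨Spec (.of (L ⧸ J)), (ι₁ ≫ ι₂) ≫ hV.fromSpec,
    Spec.map (CommRingCat.ofHom ψ.toRingHom) ≫ hX₀.fromSpec, ?_, ?_, inferInstance, inferInstance,
    inferInstance, inferInstance⟩
  · rw [Category.assoc, ← IsAffineOpen.SpecMap_appLE_fromSpec f hV hX₀ hX₀V, ← Category.assoc,
      hcomp, ← Spec.map_comp]
    congr 2
    ext t
    exact ψ.commutes t
  · refine ⟨Spec.map (CommRingCat.ofHom eQ.toRingHom) (⊥ : PrimeSpectrum K), ?_⟩
    rw [← Scheme.Hom.comp_apply, hcomp, ← Category.assoc, ← Spec.map_comp]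
    have h1 : CommRingCat.ofHom (algebraMap Γ(Y, V) (L ⧸ J)) ≫ CommRingCat.ofHom eQ.toRingHom =
        f.appLE V X₀ hX₀V ≫ X.evaluation X₀ x hxX₀ := by
      ext t
      exact eQ.commutes t
    rw [h1, Spec.map_comp, Category.assoc, IsAffineOpen.SpecMap_appLE_fromSpec f hV hX₀ hX₀V,
      ← Category.assoc, Scheme.Hom.comp_apply]
    congr 1
    have h2 : Spec.map (X.evaluation X₀ x hxX₀) ≫ hX₀.fromSpec = X.fromSpecResidueField x := by
      unfold Scheme.evaluation Scheme.fromSpecResidueField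
      rw [Spec.map_comp, Category.assoc]
      congr 1
      exact hX₀.fromSpecStalk_eq_fromSpecStalk hxX₀
    rw [h2, Scheme.fromSpecResidueField_apply]

end Groth.Agent.Helper15.CdStrat
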