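import Groth.Agent.Lib.Helper15.CdLim1
import Groth.Agent.Lib.Helper15.CdStrat3

/-!
# Spreading out a rational point of a fibre over a limit to a section at a finite stage
-/

set_option autoImplicit false
universe u
open CategoryTheory CategoryTheory.Limits AlgebraicGeometry

namespace Groth.Agent.Helper15.CdLim

open Groth.Agent.Helper15.CdStrat

/-- Elements of the residue field at a point of an affine open are fractions of sections. -/
theorem exists_fraction {T : Scheme.{u}} {V : T.Opens} (hV : IsAffineOpen V) (y : T) (hy : y ∈ V)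
    (κ : T.residueField y) : ∃ a g : Γ(T, V), T.evaluation V y hy g ≠ 0 ∧
      κ * T.evaluation V y hy g = T.evaluation V y hy a := by
  obtain ⟨s, rfl⟩ := T.residue_surjective y κ
  letI := T.presheaf.algebra_section_stalk ⟨y, hy⟩
  haveI := hV.isLocalization_stalk ⟨y, hy⟩
  obtain ⟨⟨a, g⟩, hag⟩ := IsLocalization.surj (hV.primeIdealOf ⟨y, hy⟩).asIdeal.primeCompl s
  have hu : IsUnit (algebraMap Γ(T, V) (T.presheaf.stalk y) g) :=
    IsLocalization.map_units (T.presheaf.stalk y) g
  refine ⟨a, g, ?_, ?_⟩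
  · have h1 : IsUnit (T.evaluation V y hy (g : Γ(T, V))) := hu.map (T.residue y).hom
    exact h1.ne_zero
  · have h2 := congrArg (fun t => T.residue y t) hag
    simp only [map_mul] at h2
    exact h2

theorem appLE_congr_hom {P Y : Scheme.{u}} {m m' : P ⟶ Y} (hm : m = m') (U : Y.Opens)
    (V : P.Opens) (h : V ≤ m ⁻¹ᵁ U) (h' : V ≤ m' ⁻¹ᵁ U) : m.appLE U V h = m'.appLE U V h' := by
  subst hm
  rfl

/-- Finitely many global sections of a limit of affine schemes come from a common stage. -/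
theorem exists_common_stage {K' : Type u} [SmallCategory K'] [IsCofiltered K']
    (𝒱 : K' ⥤ Scheme.{u}) [∀ k, IsAffine (𝒱.obj k)] (cV : Cone 𝒱) (hcV : IsLimit cV)
    {ι : Type*} [Fintype ι] (s : ι → Γ(cV.pt, ⊤)) :
    ∃ (k : K') (t : ι → Γ(𝒱.obj k, ⊤)), ∀ i, (cV.π.app k).appTop (t i) = s i := by
  classical
  choose k₁ t₁ ht₁ using fun i => exists_appTop_π_eq_of_isAffine_of_isLimit 𝒱 cV hcV (s i)
  obtain ⟨k, hk⟩ := IsCofiltered.inf_objs_exists (Finset.univ.image k₁)
  have hφ : ∀ i, Nonempty (k ⟶ k₁ i) := fun i =>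
    hk (Finset.mem_image_of_mem _ (Finset.mem_univ i))
  let φ : ∀ i, k ⟶ k₁ i := fun i => (hφ i).some
  refine ⟨k, fun i => (𝒱.map (φ i)).appTop (t₁ i), fun i => ?_⟩
  rw [← ht₁ i, ← cV.w (φ i), Scheme.Hom.comp_appTop]
  rfl

end Groth.Agent.Helper15.CdLim
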