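import Groth.Agent.Lib.Helper15.CdLim3

/-!
# Spreading out a rational point of a fibre over a limit to a section at a finite stage (II)
-/

set_option autoImplicit false
universe u
open CategoryTheory CategoryTheory.Limits AlgebraicGeometry

namespace Groth.Agent.Helper15.CdLim

open Groth.Agent.Helper15.CdStrat

set_option maxHeartbeats 1600000 in
theorem exists_stage_section {K' : Type u} [SmallCategory K'] [IsCofiltered K']
    (𝒱 : K' ⥤ Scheme.{u}) [∀ k, IsAffine (𝒱.obj k)] (cV : Cone 𝒱) (hcV : IsLimit cV)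
    {X0 Y0 : Scheme.{u}} (f0 : X0 ⟶ Y0) [LocallyOfFinitePresentation f0]
    (t : ∀ k, 𝒱.obj k ⟶ Y0) (p : cV.pt ⟶ Y0) (hp : ∀ k, cV.π.app k ≫ t k = p)
    (W0 : Y0.Opens) (hW0 : IsAffineOpen W0) (hW : ∀ k, t k ⁻¹ᵁ W0 = ⊤)
    (x : ↥(pullback f0 p)) (hbij : Function.Bijective ((pullback.snd f0 p).residueFieldMap x)) :
    ∃ (k : K') (Z : Scheme.{u}) (z : Z ⟶ 𝒱.obj k) (σ : Z ⟶ X0), σ ≫ f0 = z ≫ t k ∧
      cV.π.app k (pullback.snd f0 p x) ∈ Set.range z ∧ IsImmersion z ∧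
      LocallyOfFinitePresentation z ∧ IsAffine Z := by
  haveI hAff : IsAffine cV.pt := Scheme.isAffine_of_isLimit cV hcV
  have hpW : p ⁻¹ᵁ W0 = ⊤ := by
    obtain ⟨k₀⟩ := IsCofiltered.nonempty (C := K')
    rw [← hp k₀, Scheme.Hom.comp_preimage, hW k₀]
    rfl
  let P := pullback f0 p
  let fst : P ⟶ X0 := pullback.fst f0 p
  let snd : P ⟶ cV.pt := pullback.snd f0 p
  have hcond : fst ≫ f0 = snd ≫ p := pullback.condition
  have hx0 : fst x ∈ f0 ⁻¹ᵁ W0 := by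
    change f0 (fst x) ∈ W0
    rw [← Scheme.Hom.comp_apply, hcond, Scheme.Hom.comp_apply]
    have : snd x ∈ p ⁻¹ᵁ W0 := by rw [hpW]; trivial
    exact this
  obtain ⟨_, ⟨U0, hU0', rfl⟩, hxU0, hU0W : U0 ≤ f0 ⁻¹ᵁ W0⟩ :=
    X0.isBasis_affineOpens.exists_subset_of_mem_open hx0 (f0 ⁻¹ᵁ W0).2
  have hU0 : IsAffineOpen U0 := hU0'
  obtain ⟨_, ⟨O, hO', rfl⟩, hxO, hOU : O ≤ fst ⁻¹ᵁ U0⟩ :=
    P.isBasis_affineOpens.exists_subset_of_mem_open (show x ∈ fst ⁻¹ᵁ U0 from hxU0) (fst ⁻¹ᵁ U0).2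
  have hO : IsAffineOpen O := hO'
  have hfp : (f0.appLE W0 U0 hU0W).hom.FinitePresentation :=
    HasRingHomProperty.appLE @LocallyOfFinitePresentation f0 inferInstance ⟨W0, hW0⟩ ⟨U0, hU0⟩ hU0W
  have hOtop : O ≤ snd ⁻¹ᵁ ⊤ := le_top
  have hpW' : (⊤ : cV.pt.Opens) ≤ p ⁻¹ᵁ W0 := hpW.ge
  -- the ring maps
  let φ0 := f0.appLE W0 U0 hU0W
  let τ := p.appLE W0 ⊤ hpW'
  let γ := fst.appLE U0 O hOU
  let α := snd.appLE ⊤ O hOtop
  have hcompat : φ0 ≫ γ = τ ≫ α := by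
    dsimp only [φ0, γ, τ, α]
    rw [Scheme.Hom.appLE_comp_appLE, Scheme.Hom.appLE_comp_appLE]
    exact appLE_congr_hom hcond _ _ _ _
  let K := P.residueField x
  let evx : Γ(P, O) ⟶ K := P.evaluation O x hxO
  algebraize [(f0.appLE W0 U0 hU0W).hom]
  letI algAiK : Algebra Γ(cV.pt, ⊤) K := (α ≫ evx).hom.toAlgebra
  letI algA0K : Algebra Γ(Y0, W0) K := (τ ≫ α ≫ evx).hom.toAlgebra
  let ψ₀ : Γ(X0, U0) →ₐ[Γ(Y0, W0)] K :=
    { (γ ≫ evx).hom with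
      commutes' := fun a => by
        have := congrArg (fun h => (h ≫ evx).hom a) hcompat
        simp only [CommRingCat.hom_comp, RingHom.coe_comp, Function.comp_apply] at this
        exact this }
  have hfrac : ∀ κ : K, ∃ a g : Γ(cV.pt, ⊤), algebraMap Γ(cV.pt, ⊤) K g ≠ 0 ∧
      κ * algebraMap Γ(cV.pt, ⊤) K g = algebraMap Γ(cV.pt, ⊤) K a := by
    intro κ
    obtain ⟨κ', rfl⟩ := hbij.2 κ
    obtain ⟨a, g, hg, hag⟩ := exists_fraction (isAffineOpen_top cV.pt) (snd x) trivial κ'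
    have halg : ∀ s : Γ(cV.pt, ⊤), algebraMap Γ(cV.pt, ⊤) K s =
        snd.residueFieldMap x (cV.pt.evaluation ⊤ (snd x) trivial s) :=
      fun s => evaluation_appLE snd ⊤ O hOtop x hxO s
    refine ⟨a, g, ?_, ?_⟩
    · rw [halg]
      exact (map_ne_zero_iff _ (snd.residueFieldMap x).hom.injective).2 hg
    · rw [halg, halg, ← hag, map_mul]
  obtain ⟨n, φ, hφ, hker⟩ := (inferInstance : Algebra.FinitePresentation Γ(Y0, W0) Γ(X0, U0)).out
  choose ai gi hgi hagi using fun i : Fin n => hfrac (ψ₀ (φ (MvPolynomial.X i)))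
  obtain ⟨k, s, hs⟩ := exists_common_stage 𝒱 cV hcV (Sum.elim ai gi)
  have hWk : (⊤ : (𝒱.obj k).Opens) ≤ t k ⁻¹ᵁ W0 := (hW k).ge
  let ρ : Γ(𝒱.obj k, ⊤) ⟶ Γ(cV.pt, ⊤) := (cV.π.app k).appLE ⊤ ⊤ le_top
  have hρ : ρ = (cV.π.app k).appTop := by
    dsimp only [ρ]
    simp [Scheme.Hom.appLE, Scheme.Hom.appTop]
  let τk := (t k).appLE W0 ⊤ hWk
  have hτ : τk ≫ ρ = τ := by
    dsimp only [τk, ρ, τ]
    rw [Scheme.Hom.appLE_comp_appLE]
    exact appLE_congr_hom (hp k) _ _ _ _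
  letI algA0A' : Algebra Γ(Y0, W0) Γ(𝒱.obj k, ⊤) := τk.hom.toAlgebra
  letI algA'K : Algebra Γ(𝒱.obj k, ⊤) K := (ρ ≫ α ≫ evx).hom.toAlgebra
  haveI : IsScalarTower Γ(Y0, W0) Γ(𝒱.obj k, ⊤) K := by
    apply IsScalarTower.of_algebraMap_eq
    intro r
    have := congrArg (fun h => (h ≫ α ≫ evx).hom r) hτ
    simp only [CommRingCat.hom_comp, RingHom.coe_comp, Function.comp_apply] at this
    exact this.symm
  have hAK : ∀ r : Γ(𝒱.obj k, ⊤), algebraMap Γ(𝒱.obj k, ⊤) K r =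
      algebraMap Γ(cV.pt, ⊤) K (ρ.hom r) := fun r => rfl
  have hK' : ∀ i : Fin n, ∃ a g : Γ(𝒱.obj k, ⊤), algebraMap Γ(𝒱.obj k, ⊤) K g ≠ 0 ∧
      ψ₀ (φ (MvPolynomial.X i)) * algebraMap Γ(𝒱.obj k, ⊤) K g =
        algebraMap Γ(𝒱.obj k, ⊤) K a := by
    intro i
    have h1 : ρ.hom (s (Sum.inl i)) = ai i := by rw [hρ]; exact hs (Sum.inl i)
    have h2 : ρ.hom (s (Sum.inr i)) = gi i := by rw [hρ]; exact hs (Sum.inr i)
    refine ⟨s (Sum.inl i), s (Sum.inr i), ?_, ?_⟩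
    · rw [hAK, h2]; exact hgi i
    · rw [hAK, hAK, h1, h2]; exact hagi i
  obtain ⟨g, I, hIfg, ⟨ψ⟩, ⟨eQ⟩⟩ := exists_algHom_of_presentation ψ₀ φ hφ hker hK'
  let L := Localization.Away g
  let J : Ideal L := I.map (algebraMap Γ(𝒱.obj k, ⊤) L)
  let ι₁ : Spec (.of (L ⧸ J)) ⟶ Spec (.of L) := Spec.map (CommRingCat.ofHom (Ideal.Quotient.mk J))
  let ι₂ : Spec (.of L) ⟶ Spec Γ(𝒱.obj k, ⊤) :=
    Spec.map (CommRingCat.ofHom (algebraMap Γ(𝒱.obj k, ⊤) L))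
  have htop : IsAffineOpen (⊤ : (𝒱.obj k).Opens) := isAffineOpen_top _
  have htop' : IsAffineOpen (⊤ : cV.pt.Opens) := isAffineOpen_top _
  have hι₁fp : LocallyOfFinitePresentation ι₁ := by
    rw [HasRingHomProperty.Spec_iff (P := @LocallyOfFinitePresentation)]
    refine RingHom.FinitePresentation.of_surjective _ Ideal.Quotient.mk_surjective ?_
    change (RingHom.ker (Ideal.Quotient.mk J)).FG
    rw [Ideal.mk_ker]
    exact hIfg.map _
  have hcomp : ι₁ ≫ ι₂ = Spec.map (CommRingCat.ofHom (algebraMap Γ(𝒱.obj k, ⊤) (L ⧸ J))) := by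
    rw [← Spec.map_comp]
    rfl
  haveI hι₁ci : IsClosedImmersion ι₁ :=
    IsClosedImmersion.spec_of_surjective (CommRingCat.ofHom (Ideal.Quotient.mk J))
      Ideal.Quotient.mk_surjective
  haveI hι₂oi : IsOpenImmersion ι₂ := by
    dsimp only [ι₂, L]
    infer_instance
  haveI : IsImmersion ((ι₁ ≫ ι₂) ≫ htop.fromSpec) := inferInstance
  haveI : LocallyOfFinitePresentation ((ι₁ ≫ ι₂) ≫ htop.fromSpec) := inferInstance
  refine ⟨k, Spec (.of (L ⧸ J)), (ι₁ ≫ ι₂) ≫ htop.fromSpec,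
    Spec.map (CommRingCat.ofHom ψ.toRingHom) ≫ hU0.fromSpec, ?_, ?_, inferInstance, inferInstance,
    inferInstance⟩
  · rw [Category.assoc, ← IsAffineOpen.SpecMap_appLE_fromSpec f0 hW0 hU0 hU0W, Category.assoc,
      ← IsAffineOpen.SpecMap_appLE_fromSpec (t k) hW0 htop hWk, ← Category.assoc,
      ← Category.assoc, hcomp, ← Spec.map_comp, ← Spec.map_comp]
    congr 2
    ext r
    have h1 := ψ.commutes r
    rw [IsScalarTower.algebraMap_apply Γ(Y0, W0) Γ(𝒱.obj k, ⊤) (L ⧸ J)] at h1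
    exact h1
  · refine ⟨Spec.map (CommRingCat.ofHom eQ.toRingHom) (⊥ : PrimeSpectrum K), ?_⟩
    rw [← Scheme.Hom.comp_apply, hcomp, ← Category.assoc, ← Spec.map_comp]
    have h1 : CommRingCat.ofHom (algebraMap Γ(𝒱.obj k, ⊤) (L ⧸ J)) ≫
        CommRingCat.ofHom eQ.toRingHom = ρ ≫ α ≫ evx := by
      ext r
      exact eQ.commutes r
    have h2 : Spec.map evx ≫ hO.fromSpec = P.fromSpecResidueField x := by
      dsimp only [evx]
      unfold Scheme.evaluation Scheme.fromSpecResidueField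
      rw [Spec.map_comp, Category.assoc]
      congr 1
      exact hO.fromSpecStalk_eq_fromSpecStalk hxO
    rw [h1, Spec.map_comp, Spec.map_comp, Category.assoc, Category.assoc,
      IsAffineOpen.SpecMap_appLE_fromSpec (cV.π.app k) htop htop' le_top,
      ← Category.assoc (Spec.map α),
      IsAffineOpen.SpecMap_appLE_fromSpec snd htop' hO hOtop, Category.assoc,
      ← Category.assoc (Spec.map evx), h2, Scheme.Hom.comp_apply, Scheme.Hom.comp_apply,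
      Scheme.fromSpecResidueField_apply]

end Groth.Agent.Helper15.CdLim
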