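import Groth.Agent.Lib.Helper15.WtLim2

/-!
# Base change of a cofiltered limit of schemes along a morphism to a common target
-/

set_option autoImplicit false
universe u
open CategoryTheory CategoryTheory.Limits AlgebraicGeometry

namespace Groth.Agent.Helper15.UoLim

open Groth.Agent.Helper15.WtLim

variable {I : Type u} [Category.{u} I] (D : I ⥤ Scheme.{u}) (s : Cocone D) (c : Cone D)
  {T0 : Scheme.{u}} (a0 : T0 ⟶ s.pt)

/-- The diagram `i ↦ T0 ×_{S0} D i` for a cocone `D ⟶ S0`. -/
noncomputable def cbDiag : I ⥤ Scheme.{u} where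
  obj i := pullback a0 (s.ι.app i)
  map {i j} φ := bcMap a0 (s.ι.app i) (s.ι.app j) (D.map φ) (s.w φ)
  map_id i := by
    apply pullback.hom_ext
    · simp
    · simp
  map_comp φ ψ := by
    apply pullback.hom_ext
    · simp
    · simp

@[simp] theorem cbDiag_obj (i : I) : (cbDiag D s a0).obj i = pullback a0 (s.ι.app i) := rfl

@[simp] theorem cbDiag_map {i j : I} (φ : i ⟶ j) : (cbDiag D s a0).map φ =
    bcMap a0 (s.ι.app i) (s.ι.app j) (D.map φ) (s.w φ) := rfl

variable (θ : c.pt ⟶ s.pt) (hθ : ∀ i, c.π.app i ≫ s.ι.app i = θ)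

/-- The cone over `cbDiag` with vertex `T0 ×_{S0} lim D`. -/
noncomputable def cbCone : Cone (cbDiag D s a0) where
  pt := pullback a0 θ
  π :=
    { app := fun i => bcMap a0 θ (s.ι.app i) (c.π.app i) (hθ i)
      naturality := fun i j φ => by
        apply pullback.hom_ext
        · simp
        · simp }

@[simp] theorem cbCone_pt : (cbCone D s c a0 θ hθ).pt = pullback a0 θ := rfl

@[simp] theorem cbCone_π_app (i : I) : (cbCone D s c a0 θ hθ).π.app i =
    bcMap a0 θ (s.ι.app i) (c.π.app i) (hθ i) := rfl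

/-- The projections `T0 ×_{S0} D i ⟶ D i`. -/
noncomputable def cbDiagι : cbDiag D s a0 ⟶ D where
  app i := pullback.snd a0 (s.ι.app i)
  naturality i j φ := bcMap_snd a0 (s.ι.app i) (s.ι.app j) (D.map φ) (s.w φ)

/-- The base change of a limit cone is a limit cone. -/
noncomputable def cbConeIsLimit [IsConnected I] (hc : IsLimit c) :
    IsLimit (cbCone D s c a0 θ hθ) :=
  isLimitOfIsPullbackOfIsConnected (cbDiagι D s a0) (cbCone D s c a0 θ hθ) c
    { hom := pullback.snd a0 θ
      w := fun i => (bcMap_snd a0 θ (s.ι.app i) (c.π.app i) (hθ i)).symm }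
    (fun i => isPullback_bcMap a0 θ (s.ι.app i) (c.π.app i) (hθ i)) hc

instance [IsAffine T0] [IsAffine s.pt] [∀ i, IsAffine (D.obj i)] (i : I) :
    IsAffine ((cbDiag D s a0).obj i) := by
  rw [cbDiag_obj]; infer_instance

instance [IsAffine T0] [IsAffine s.pt] [∀ i, IsAffine (D.obj i)] {i j : I} (φ : i ⟶ j) :
    IsAffineHom ((cbDiag D s a0).map φ) := inferInstance

/-- Transition maps of `cbDiag` are affine when those of `D` are. -/
theorem isAffineHom_cbDiag_map [∀ {i j : I} (φ : i ⟶ j), IsAffineHom (D.map φ)] {i j : I}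
    (φ : i ⟶ j) : IsAffineHom ((cbDiag D s a0).map φ) :=
  MorphismProperty.of_isPullback (P := @IsAffineHom)
    (isPullback_bcMap a0 (s.ι.app i) (s.ι.app j) (D.map φ) (s.w φ)).flip inferInstance

end Groth.Agent.Helper15.UoLim
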