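import Groth.Agent.Lib.Helper15.CdLim4
import Groth.Agent.Lib.Helper15.CdLim2
import Groth.Agent.Lib.Helper15.UoLim1

/-!
# The completely decomposed locus and its behaviour along limits
-/

set_option autoImplicit false
universe u
open CategoryTheory CategoryTheory.Limits AlgebraicGeometry

namespace Groth.Agent.Helper15.CdLim

open Groth.Agent.Helper15.WtLim Groth.Agent.Helper15.UoLim

/-- The locus of points of the target over which `f` has a point with trivial residue field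
extension. -/
def cdLocus {X Y : Scheme.{u}} (f : X ⟶ Y) : Set Y :=
  {y | ∃ x : X, f x = y ∧ Function.Bijective (f.residueFieldMap x)}

theorem preimage_cdLocus_subset {X Y X' Y' : Scheme.{u}} {f : X ⟶ Y} {g : Y' ⟶ Y}
    {g' : X' ⟶ X} {f' : X' ⟶ Y'} (sq : IsPullback g' f' f g) :
    g ⁻¹' cdLocus f ⊆ cdLocus f' := by
  rintro y' ⟨x, hx, hb⟩
  obtain ⟨x', hx', -, hb'⟩ := exists_cd_point_of_isPullback sq y' x hx hb
  exact ⟨x', hx', hb'⟩

theorem range_subset_cdLocus {X Y Z : Scheme.{u}} (f : X ⟶ Y) (σ : Z ⟶ X) (z : Z ⟶ Y)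
    (h : σ ≫ f = z) [SurjectiveOnStalks z] : Set.range z ⊆ cdLocus f := by
  rintro _ ⟨ζ, rfl⟩
  refine ⟨σ ζ, ?_, bijective_residueFieldMap_of_section' f σ z h ζ⟩
  rw [← Scheme.Hom.comp_apply, h]

attribute [local instance] IsCofiltered.isConnected

set_option maxHeartbeats 1600000 in
theorem exists_stage_cd {J : Type u} [SmallCategory J] [IsCofiltered J] (𝒴 : J ⥤ Scheme.{u})
    (sY : Cocone 𝒴) (cY : Cone 𝒴) (hcY : IsLimit cY) (b : cY.pt ⟶ sY.pt)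
    (hb : ∀ j, cY.π.app j ≫ sY.ι.app j = b) [∀ j, IsAffineHom (sY.ι.app j)]
    {X0 : Scheme.{u}} (f0 : X0 ⟶ sY.pt) [LocallyOfFinitePresentation f0] (y : cY.pt)
    (hy : y ∈ cdLocus (pullback.snd f0 b)) :
    ∃ (j : J) (Z : Scheme.{u}) (z : Z ⟶ 𝒴.obj j), IsImmersion z ∧
      LocallyOfFinitePresentation z ∧ IsAffine Z ∧
      Set.range z ⊆ cdLocus (pullback.snd f0 (sY.ι.app j)) ∧ cY.π.app j y ∈ Set.range z := by
  obtain ⟨x, hxy, hxb⟩ := hy
  obtain ⟨W0, hW0, hyW0⟩ : ∃ W0 : sY.pt.Opens, IsAffineOpen W0 ∧ b y ∈ W0 := by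
    obtain ⟨_, ⟨W0, hW0', rfl⟩, hyW0, -⟩ := sY.pt.isBasis_affineOpens.exists_subset_of_mem_open
      (Set.mem_univ (b y)) isOpen_univ
    exact ⟨W0, hW0', hyW0⟩
  haveI : IsAffine (W0 : Scheme.{u}) := hW0
  let 𝒱 : J ⥤ Scheme.{u} := cbDiag 𝒴 sY W0.ι
  let cV : Cone 𝒱 := cbCone 𝒴 sY cY W0.ι b hb
  have hcV : IsLimit cV := cbConeIsLimit 𝒴 sY cY W0.ι b hb hcY
  haveI : ∀ j, IsAffine (𝒱.obj j) := fun j => by
    dsimp only [𝒱]
    rw [cbDiag_obj]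
    exact isAffine_of_isAffineHom (pullback.fst W0.ι (sY.ι.app j))
  let p : cV.pt ⟶ sY.pt := pullback.snd W0.ι b ≫ b
  let t : ∀ j, 𝒱.obj j ⟶ sY.pt := fun j => pullback.snd W0.ι (sY.ι.app j) ≫ sY.ι.app j
  have hp : ∀ j, cV.π.app j ≫ t j = p := by
    intro j
    change bcMap W0.ι b (sY.ι.app j) (cY.π.app j) (hb j) ≫
      pullback.snd W0.ι (sY.ι.app j) ≫ sY.ι.app j = pullback.snd W0.ι b ≫ b
    rw [bcMap_snd_assoc, hb j]
  have hW : ∀ j, t j ⁻¹ᵁ W0 = ⊤ := by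
    intro j
    change (pullback.snd W0.ι (sY.ι.app j) ≫ sY.ι.app j) ⁻¹ᵁ W0 = ⊤
    rw [← pullback.condition, Scheme.Hom.comp_preimage]
    simp
  -- lift `y` to the open piece
  obtain ⟨y', hy'1, hy'2⟩ := Scheme.Pullback.exists_preimage_pullback (f := W0.ι) (g := b)
    ⟨b y, hyW0⟩ y rfl
  have sq : IsPullback (bcMap f0 p b (pullback.snd W0.ι b) rfl) (pullback.snd f0 p)
      (pullback.snd f0 b) (pullback.snd W0.ι b) := isPullback_bcMap f0 p b (pullback.snd W0.ι b) rfl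
  obtain ⟨x', hx'1, -, hx'b⟩ := exists_cd_point_of_isPullback sq y' x (hxy.trans hy'2.symm) hxb
  obtain ⟨j, Z, z, σ, hσ, hmem, hz1, hz2, hZ⟩ :=
    exists_stage_section 𝒱 cV hcV f0 t p hp W0 hW0 hW x' hx'b
  obtain ⟨z₀, hz₀⟩ : ∃ z₀ : Z ⟶ pullback W0.ι (sY.ι.app j), z₀ = z := ⟨z, rfl⟩
  haveI : IsImmersion z₀ := hz₀ ▸ hz1
  haveI : LocallyOfFinitePresentation z₀ := hz₀ ▸ hz2
  let z' : Z ⟶ 𝒴.obj j := z₀ ≫ pullback.snd W0.ι (sY.ι.app j)
  haveI : IsImmersion z' := by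
    dsimp only [z']
    infer_instance
  haveI : LocallyOfFinitePresentation z' := by
    dsimp only [z']
    infer_instance
  refine ⟨j, Z, z', inferInstance, inferInstance, hZ, ?_, ?_⟩
  · have hσ' : σ ≫ f0 = z' ≫ sY.ι.app j := by
      rw [hσ, ← hz₀]; exact (Category.assoc _ _ _).symm
    exact range_subset_cdLocus (pullback.snd f0 (sY.ι.app j)) (pullback.lift σ z' hσ') z'
      (pullback.lift_snd _ _ _)
  · rw [hx'1] at hmem
    obtain ⟨ζ, hζ⟩ := hmem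
    refine ⟨ζ, ?_⟩
    have hζ' : z₀ ζ = (bcMap W0.ι b (sY.ι.app j) (cY.π.app j) (hb j)) y' := by
      rw [hz₀]; exact hζ
    dsimp only [z']
    rw [Scheme.Hom.comp_apply, hζ', ← hy'2, ← Scheme.Hom.comp_apply, ← Scheme.Hom.comp_apply]
    exact congrArg (fun h : pullback W0.ι b ⟶ 𝒴.obj j => h y')
      (bcMap_snd W0.ι b (sY.ι.app j) (cY.π.app j) (hb j))

end Groth.Agent.Helper15.CdLim
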