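import Mathlib

/-!
# Compactness of the constructible topology: finite subcovers of constructible covers
-/

set_option autoImplicit false
universe u

namespace Groth.Agent.Helper15.CdStrat

open Topology

theorem isClopen_constructibleTopology {X : Type*} [TopologicalSpace X] [CompactSpace X]
    {s : Set X} (hs : IsConstructible s) :
    IsOpen[constructibleTopology X] s ∧ IsOpen[constructibleTopology X] sᶜ := by
  induction hs using IsConstructible.empty_union_induction with
  | open_retrocompact U hUo hUc =>
    have hcomp : IsCompact U := by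
      have := hUc isCompact_univ isOpen_univ
      rwa [Set.inter_univ] at this
    refine ⟨hcomp.isOpen_constructibleTopology_of_isOpen hUo, ?_⟩
    refine IsCompact.isOpen_constructibleTopology_of_isClosed ?_ hUo.isClosed_compl
    rwa [compl_compl]
  | union s hs t ht ihs iht =>
    refine ⟨@IsOpen.union X s t (constructibleTopology X) ihs.1 iht.1, ?_⟩
    rw [Set.compl_union]
    exact (constructibleTopology X).isOpen_inter _ _ ihs.2 iht.2
  | compl s hs ih =>
    refine ⟨ih.2, ?_⟩
    rw [compl_compl]
    exact ih.1

theorem exists_finite_subcover_of_isConstructible {X : Type*} [TopologicalSpace X]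
    [CompactSpace X] [QuasiSober X] [PrespectralSpace X] [QuasiSeparatedSpace X] {ι : Type*}
    (C : ι → Set X) (hC : ∀ i, IsConstructible (C i)) (hcov : ∀ x, ∃ i, x ∈ C i) :
    ∃ t : Finset ι, ∀ x, ∃ i ∈ t, x ∈ C i := by
  let C' : ι → Set (WithConstructibleTopology X) := fun i => WithTopology.ofTopology ⁻¹' C i
  have hopen : ∀ i, IsOpen (C' i) := by
    intro i
    rw [WithConstructibleTopology.isOpen_iff]
    exact (isClopen_constructibleTopology (hC i)).1
  have hcover : (Set.univ : Set (WithConstructibleTopology X)) ⊆ ⋃ i, C' i := by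
    intro x _
    obtain ⟨i, hi⟩ := hcov (WithTopology.ofTopology x)
    exact Set.mem_iUnion.2 ⟨i, hi⟩
  obtain ⟨t, ht⟩ := isCompact_univ.elim_finite_subcover C' hopen hcover
  refine ⟨t, fun x => ?_⟩
  have := ht (Set.mem_univ (WithTopology.toTopology _ x))
  simp only [Set.mem_iUnion, exists_prop] at this
  obtain ⟨i, hit, hi⟩ := this
  exact ⟨i, hit, hi⟩

end Groth.Agent.Helper15.CdStrat
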