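import Mathlib

/-!
# Constructible sets and cofiltered limits of schemes with affine transition maps
-/

set_option autoImplicit false
universe u
open CategoryTheory CategoryTheory.Limits AlgebraicGeometry Topology

namespace Groth.Agent.Helper15.WtLim

variable {I : Type u} [Category.{u} I] (D : I ⥤ Scheme.{u}) (c : Cone D) (hc : IsLimit c)

include hc in
/-- A constructible set whose preimage in the limit is empty has empty preimage at a finite
stage. -/
theorem exists_preimage_eq_empty [IsCofiltered I] [∀ {i j} (f : i ⟶ j), IsAffineHom (D.map f)]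
    {i : I} [CompactSpace (D.obj i)] (T : Set (D.obj i)) (hT : IsConstructible T)
    (h : c.π.app i ⁻¹' T = ∅) : ∃ (j : I) (fji : j ⟶ i), D.map fji ⁻¹' T = ∅ := by
  revert h
  induction T, hT using BooleanSubalgebra.closure_sdiff_sup_induction with
  | isSublattice =>
    exact ⟨fun s hs t ht ↦ ⟨hs.1.union ht.1, hs.2.union ht.2⟩,
      fun s hs t ht ↦ ⟨hs.1.inter ht.1, hs.2.inter_isOpen ht.2 ht.1⟩⟩
  | bot_mem => exact ⟨isOpen_empty, .empty⟩
  | top_mem => exact ⟨isOpen_univ, .univ⟩
  | sdiff U hU V hV =>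
    intro h
    have H : c.π.app i ⁻¹ᵁ ⟨U, hU.1⟩ ≤ c.π.app i ⁻¹ᵁ ⟨V, hV.1⟩ := by
      intro x hx
      by_contra hxV
      have : x ∈ c.π.app i ⁻¹' (U \ V) := ⟨hx, hxV⟩
      rw [h] at this
      exact this
    obtain ⟨j, fji, hj⟩ := exists_map_preimage_le_map_preimage D c hc
      (U := ⟨U, hU.1⟩) (V := ⟨V, hV.1⟩) hU.2.isCompact H
    refine ⟨j, fji, ?_⟩
    ext x
    simp only [Set.mem_preimage, Set.mem_empty_iff_false, iff_false]
    rintro ⟨hxU, hxV⟩
    exact hxV (hj hxU)
  | sup s _ t _ hs' ht' =>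
    intro h
    have hs0 : c.π.app i ⁻¹' s = ∅ := by
      rw [Set.eq_empty_iff_forall_notMem] at h ⊢
      exact fun x hx => h x (Or.inl hx)
    have ht0 : c.π.app i ⁻¹' t = ∅ := by
      rw [Set.eq_empty_iff_forall_notMem] at h ⊢
      exact fun x hx => h x (Or.inr hx)
    obtain ⟨j₁, f₁, h₁⟩ := hs' hs0
    obtain ⟨j₂, f₂, h₂⟩ := ht' ht0
    obtain ⟨k, g₁, g₂, e⟩ := IsCofiltered.cospan f₁ f₂
    refine ⟨k, g₁ ≫ f₁, ?_⟩
    rw [Set.eq_empty_iff_forall_notMem]
    rintro x (hx | hx)
    · have : D.map g₁ x ∈ D.map f₁ ⁻¹' s := by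
        change D.map f₁ (D.map g₁ x) ∈ s
        rw [← Scheme.Hom.comp_apply, ← D.map_comp]
        exact hx
      rw [h₁] at this
      exact this
    · have : D.map g₂ x ∈ D.map f₂ ⁻¹' t := by
        change D.map f₂ (D.map g₂ x) ∈ t
        rw [← Scheme.Hom.comp_apply, ← D.map_comp, ← e]
        exact hx
      rw [h₂] at this
      exact this

theorem preimage_map_comp {i j k : I} (f : k ⟶ j) (g : j ⟶ i) (T : Set (D.obj i)) :
    D.map (f ≫ g) ⁻¹' T = D.map f ⁻¹' (D.map g ⁻¹' T) := by
  ext x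
  simp only [Set.mem_preimage]
  rw [D.map_comp, Scheme.Hom.comp_apply]

theorem preimage_π_map {i j : I} (g : j ⟶ i) (T : Set (D.obj i)) :
    c.π.app j ⁻¹' (D.map g ⁻¹' T) = c.π.app i ⁻¹' T := by
  ext x
  simp only [Set.mem_preimage]
  rw [← Scheme.Hom.comp_apply, c.w]

include hc in
/-- Every constructible subset of the limit is the preimage of a constructible subset of a finite
stage. -/
theorem exists_isConstructible_preimage_eq [IsCofiltered I]
    [∀ {i j} (f : i ⟶ j), IsAffineHom (D.map f)] [∀ i, CompactSpace (D.obj i)]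
    [∀ i, QuasiSeparatedSpace (D.obj i)] (E : Set c.pt) (hE : IsConstructible E) :
    ∃ (i : I) (T : Set (D.obj i)), IsConstructible T ∧ c.π.app i ⁻¹' T = E := by
  haveI : CompactSpace c.pt := Scheme.compactSpace_of_isLimit D c hc
  induction hE using IsConstructible.empty_union_induction with
  | open_retrocompact U hUopen hUcomp =>
    obtain ⟨i, V, hV, hVU⟩ := exists_preimage_eq D c hc ⟨U, hUopen⟩ hUcomp.isCompact
    refine ⟨i, V, hV.isConstructible V.2, ?_⟩
    exact congrArg (fun W : c.pt.Opens => (W : Set c.pt)) hVU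
  | union s hs t ht hs' ht' =>
    obtain ⟨i₁, T₁, hT₁, e₁⟩ := hs'
    obtain ⟨i₂, T₂, hT₂, e₂⟩ := ht'
    refine ⟨IsCofiltered.min i₁ i₂, D.map (IsCofiltered.minToLeft i₁ i₂) ⁻¹' T₁ ∪
      D.map (IsCofiltered.minToRight i₁ i₂) ⁻¹' T₂,
      (Scheme.Hom.isConstructible_preimage _ hT₁).union
        (Scheme.Hom.isConstructible_preimage _ hT₂), ?_⟩
    rw [Set.preimage_union, preimage_π_map, preimage_π_map, e₁, e₂]
  | compl s hs hs' =>
    obtain ⟨i, T, hT, e⟩ := hs'
    exact ⟨i, Tᶜ, hT.compl, by rw [Set.preimage_compl, e]⟩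

include hc in
/-- A constructible subset of a finite stage whose preimage in the limit is open and compact has
open preimage at some later finite stage. -/
theorem exists_isOpen_preimage [IsCofiltered I]
    [∀ {i j} (f : i ⟶ j), IsAffineHom (D.map f)] [∀ i, CompactSpace (D.obj i)]
    [∀ i, QuasiSeparatedSpace (D.obj i)] {i : I} (T : Set (D.obj i)) (hT : IsConstructible T)
    (hopen : IsOpen (c.π.app i ⁻¹' T)) (hcomp : IsCompact (c.π.app i ⁻¹' T)) :
    ∃ (j : I) (fji : j ⟶ i), IsOpen (D.map fji ⁻¹' T) := by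
  obtain ⟨i₁, V, hV, hVU⟩ := exists_preimage_eq D c hc ⟨_, hopen⟩ hcomp
  have hVU' : c.π.app i₁ ⁻¹' (V : Set (D.obj i₁)) = c.π.app i ⁻¹' T :=
    congrArg (fun W : c.pt.Opens => (W : Set c.pt)) hVU
  let k := IsCofiltered.min i i₁
  let a : k ⟶ i := IsCofiltered.minToLeft i i₁
  let b : k ⟶ i₁ := IsCofiltered.minToRight i i₁
  let T' : Set (D.obj k) := D.map a ⁻¹' T
  let V' : Set (D.obj k) := D.map b ⁻¹' (V : Set (D.obj i₁))
  have hT' : IsConstructible T' := Scheme.Hom.isConstructible_preimage _ hT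
  have hV' : IsConstructible V' :=
    Scheme.Hom.isConstructible_preimage _ (hV.isConstructible V.2)
  have hV'open : IsOpen V' := V.2.preimage (D.map b).continuous
  have hΔ : c.π.app k ⁻¹' ((T' \ V') ∪ (V' \ T')) = ∅ := by
    rw [Set.preimage_union, Set.preimage_diff, Set.preimage_diff, preimage_π_map, preimage_π_map,
      hVU', Set.diff_self, Set.union_empty]
  obtain ⟨j, fjk, hj⟩ := exists_preimage_eq_empty D c hc _
    ((hT'.sdiff hV').union (hV'.sdiff hT')) hΔ
  refine ⟨j, fjk ≫ a, ?_⟩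
  have heq : D.map (fjk ≫ a) ⁻¹' T = D.map fjk ⁻¹' V' := by
    rw [preimage_map_comp]
    ext x
    have hx : x ∉ D.map fjk ⁻¹' ((T' \ V') ∪ (V' \ T')) := by rw [hj]; exact fun h => h
    simp only [Set.mem_preimage, Set.mem_union, Set.mem_diff, not_or, not_and, not_not] at hx ⊢
    exact ⟨hx.1, hx.2⟩
  rw [heq]
  exact hV'open.preimage (D.map fjk).continuous

/-- A function with finite range and constructible level sets. -/
def IsCF {T : Type*} [TopologicalSpace T] (F : T → ℤ) : Prop :=
  (Set.range F).Finite ∧ ∀ n : ℤ, IsConstructible {x | F x = n}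

theorem IsCF.comp_hom {X Y : Scheme.{u}} {F : Y → ℤ} (hF : IsCF F) (f : X ⟶ Y) :
    IsCF (fun x => F (f x)) := by
  refine ⟨hF.1.subset ?_, fun n => ?_⟩
  · rintro _ ⟨x, rfl⟩
    exact ⟨f x, rfl⟩
  · exact Scheme.Hom.isConstructible_preimage f (hF.2 n)

theorem IsCF.add {T : Type*} [TopologicalSpace T] {F G : T → ℤ} (hF : IsCF F) (hG : IsCF G) :
    IsCF (fun x => F x + G x) := by
  refine ⟨?_, fun n => ?_⟩
  · refine ((hF.1.prod hG.1).image (fun p : ℤ × ℤ => p.1 + p.2)).subset ?_
    rintro _ ⟨x, rfl⟩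
    exact ⟨(F x, G x), ⟨⟨x, rfl⟩, ⟨x, rfl⟩⟩, rfl⟩
  · have : {x | F x + G x = n} = ⋃ a ∈ Set.range F, ({x | F x = a} ∩ {x | G x = n - a}) := by
      ext x
      simp only [Set.mem_setOf_eq, Set.mem_iUnion, Set.mem_inter_iff, exists_prop]
      constructor
      · intro h
        exact ⟨F x, ⟨x, rfl⟩, rfl, by omega⟩
      · rintro ⟨a, _, h1, h2⟩
        omega
    rw [this]
    exact IsConstructible.biUnion hF.1 (fun a _ => (hF.2 a).inter (hG.2 (n - a)))

open Classical in
theorem isCF_indicator {T : Type*} [TopologicalSpace T] (E : Set T) (hE : IsConstructible E)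
    (n : ℤ) : IsCF (fun x => if x ∈ E then n else 0) := by
  refine ⟨(Set.toFinite {n, 0}).subset ?_, fun k => ?_⟩
  · rintro _ ⟨x, rfl⟩
    by_cases hx : x ∈ E
    · simp [hx]
    · simp [hx]
  · by_cases hkn : n = k
    · by_cases hk0 : (0 : ℤ) = k
      · have : {x | (if x ∈ E then n else 0) = k} = Set.univ := by
          ext x
          by_cases hx : x ∈ E <;> simp [hx, hkn, hk0]
        rw [this]; exact IsConstructible.univ
      · have : {x | (if x ∈ E then n else 0) = k} = E := by
          ext x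
          by_cases hx : x ∈ E <;> simp [hx, hkn, hk0]
        rw [this]; exact hE
    · by_cases hk0 : (0 : ℤ) = k
      · have : {x | (if x ∈ E then n else 0) = k} = Eᶜ := by
          ext x
          by_cases hx : x ∈ E <;> simp [hx, hkn, hk0]
        rw [this]; exact hE.compl
      · have : {x | (if x ∈ E then n else 0) = k} = ∅ := by
          ext x
          by_cases hx : x ∈ E <;> simp [hx, hkn, hk0]
        rw [this]; exact IsConstructible.empty

include hc in
open Classical in
/-- A function with finite range and constructible level sets on the limit descends to a finite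
stage. -/
theorem exists_isCF_descent [IsCofiltered I]
    [∀ {i j} (f : i ⟶ j), IsAffineHom (D.map f)] [∀ i, CompactSpace (D.obj i)]
    [∀ i, QuasiSeparatedSpace (D.obj i)] (w : c.pt → ℤ) (hw : IsCF w) :
    ∃ (i : I) (W : D.obj i → ℤ), IsCF W ∧ ∀ x, W (c.π.app i x) = w x := by
  have key : ∀ S : Finset ℤ, ∃ (i : I) (W : D.obj i → ℤ), IsCF W ∧
      ∀ x, W (c.π.app i x) = if w x ∈ S then w x else 0 := by
    intro S
    induction S using Finset.induction_on with
    | empty =>
      obtain ⟨i⟩ := IsCofiltered.nonempty (C := I)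
      refine ⟨i, fun _ => 0, ?_, fun x => by simp⟩
      have := isCF_indicator (∅ : Set (D.obj i)) IsConstructible.empty 0
      simpa using this
    | insert n S hn ih =>
      obtain ⟨i₁, W₁, hW₁, e₁⟩ := ih
      obtain ⟨i₂, T, hT, e₂⟩ := exists_isConstructible_preimage_eq D c hc _ (hw.2 n)
      let k := IsCofiltered.min i₁ i₂
      let a : k ⟶ i₁ := IsCofiltered.minToLeft i₁ i₂
      let b : k ⟶ i₂ := IsCofiltered.minToRight i₁ i₂
      refine ⟨k, fun x => W₁ (D.map a x) + (if x ∈ D.map b ⁻¹' T then n else 0),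
        (hW₁.comp_hom (D.map a)).add
          (isCF_indicator _ (Scheme.Hom.isConstructible_preimage _ hT) n), fun x => ?_⟩
      have h1 : W₁ (D.map a (c.π.app k x)) = if w x ∈ S then w x else 0 := by
        rw [← Scheme.Hom.comp_apply, c.w]; exact e₁ x
      have h2 : (c.π.app k x ∈ D.map b ⁻¹' T) ↔ w x = n := by
        have : c.π.app k x ∈ D.map b ⁻¹' T ↔ x ∈ c.π.app k ⁻¹' (D.map b ⁻¹' T) := Iff.rfl
        rw [this, preimage_π_map, e₂]
        exact Iff.rfl
      simp only [h1]
      by_cases hx : w x = n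
      · rw [if_pos (h2.2 hx), hx, if_neg hn, if_pos (Finset.mem_insert_self n S), zero_add]
      · rw [if_neg (fun h => hx (h2.1 h)), add_zero]
        by_cases hxS : w x ∈ S
        · rw [if_pos hxS, if_pos (Finset.mem_insert_of_mem hxS)]
        · rw [if_neg hxS, if_neg]
          rw [Finset.mem_insert, not_or]
          exact ⟨hx, hxS⟩
  obtain ⟨i, W, hW, e⟩ := key hw.1.toFinset
  refine ⟨i, W, hW, fun x => ?_⟩
  rw [e x, if_pos]
  exact hw.1.mem_toFinset.2 ⟨x, rfl⟩

include hc in
/-- A function with finite range and constructible level sets on a finite stage whose pullback to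
the limit is locally constant becomes locally constant at a later finite stage. -/
theorem exists_isLocallyConstant_of_isCF [IsCofiltered I]
    [∀ {i j} (f : i ⟶ j), IsAffineHom (D.map f)] [∀ i, CompactSpace (D.obj i)]
    [∀ i, QuasiSeparatedSpace (D.obj i)] {i : I} (F : D.obj i → ℤ) (hF : IsCF F)
    (hlc : IsLocallyConstant (fun x => F (c.π.app i x))) :
    ∃ (j : I) (fji : j ⟶ i), IsLocallyConstant (fun x => F (D.map fji x)) := by
  classical
  haveI : CompactSpace c.pt := Scheme.compactSpace_of_isLimit D c hc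
  have key : ∀ S : Finset ℤ, ∃ (j : I) (fji : j ⟶ i), ∀ n ∈ S,
      IsOpen (D.map fji ⁻¹' {x | F x = n}) := by
    intro S
    induction S using Finset.induction_on with
    | empty => exact ⟨i, 𝟙 i, fun n hn => absurd hn (Finset.notMem_empty n)⟩
    | insert n S hn ih =>
      obtain ⟨j₁, f₁, h₁⟩ := ih
      have hopen : IsOpen (c.π.app i ⁻¹' {x | F x = n}) := hlc.isOpen_fiber n
      have hclosed : IsClosed (c.π.app i ⁻¹' {x | F x = n}) := hlc.isClosed_fiber n
      obtain ⟨j₂, f₂, h₂⟩ := exists_isOpen_preimage D c hc _ (hF.2 n) hopen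
        (@IsClosed.isCompact c.pt _ _ _ hclosed)
      obtain ⟨k, g₁, g₂, e⟩ := IsCofiltered.cospan f₁ f₂
      refine ⟨k, g₁ ≫ f₁, fun m hm => ?_⟩
      rcases Finset.mem_insert.1 hm with rfl | hm
      · rw [e, preimage_map_comp]
        exact h₂.preimage (D.map g₂).continuous
      · rw [preimage_map_comp]
        exact (h₁ m hm).preimage (D.map g₁).continuous
  obtain ⟨j, fji, hj⟩ := key hF.1.toFinset
  refine ⟨j, fji, ?_⟩
  rw [IsLocallyConstant.iff_isOpen_fiber]
  intro n
  by_cases hn : n ∈ hF.1.toFinset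
  · exact hj n hn
  · have : (fun x => F (D.map fji x)) ⁻¹' {n} = ∅ := by
      rw [Set.eq_empty_iff_forall_notMem]
      intro x hx
      exact hn (hF.1.mem_toFinset.2 ⟨D.map fji x, hx⟩)
    rw [this]
    exact isOpen_empty

end Groth.Agent.Helper15.WtLim
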