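import Groth.Agent.Lib.Helper15.CdLim5
import Groth.Agent.Lib.Helper15.CdStrat2
import Groth.Agent.Lib.Helper15.WtLim1

/-!
# Complete decomposedness descends to a finite stage
-/

set_option autoImplicit false
universe u
open CategoryTheory CategoryTheory.Limits AlgebraicGeometry

namespace Groth.Agent.Helper15.CdLim

open Groth.Agent.Helper15.WtLim Groth.Agent.Helper15.UoLim Groth.Agent.Helper15.CdStrat

set_option maxHeartbeats 1600000 in
theorem exists_stage_cdLocus_eq_univ {J : Type u} [SmallCategory J] [IsCofiltered J]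
    (𝒴 : J ⥤ Scheme.{u}) [∀ {i j : J} (f : i ⟶ j), IsAffineHom (𝒴.map f)]
    [∀ j, CompactSpace (𝒴.obj j)] [∀ j, QuasiSeparatedSpace (𝒴.obj j)]
    (sY : Cocone 𝒴) (cY : Cone 𝒴) (hcY : IsLimit cY) (b : cY.pt ⟶ sY.pt)
    (hb : ∀ j, cY.π.app j ≫ sY.ι.app j = b) [∀ j, IsAffineHom (sY.ι.app j)]
    {X0 : Scheme.{u}} (f0 : X0 ⟶ sY.pt) [LocallyOfFinitePresentation f0]
    (hcd : cdLocus (pullback.snd f0 b) = Set.univ) :
    ∃ j : J, cdLocus (pullback.snd f0 (sY.ι.app j)) = Set.univ := by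
  classical
  have key := fun y : cY.pt => exists_stage_cd 𝒴 sY cY hcY b hb f0 y (hcd ▸ Set.mem_univ y)
  choose jy Zy zy himm hfp haff hsub hmem using key
  -- the limit is a spectral space
  haveI : CompactSpace cY.pt := Scheme.compactSpace_of_isLimit 𝒴 cY hcY
  haveI : QuasiSeparatedSpace cY.pt := by
    obtain ⟨j₀⟩ := IsCofiltered.nonempty (C := J)
    haveI := isAffineHom_π_app 𝒴 cY hcY j₀
    exact quasiSeparatedSpace_of_quasiSeparated (cY.π.app j₀)
  have hCy : ∀ y, Topology.IsConstructible (Set.range (zy y)) := by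
    intro y
    haveI := hfp y
    haveI := haff y
    rw [← Set.image_univ]
    exact (zy y).isConstructible_image Topology.IsConstructible.univ
  have hE : ∀ y, Topology.IsConstructible ((cY.π.app (jy y)) ⁻¹' Set.range (zy y)) :=
    fun y => (cY.π.app (jy y)).isConstructible_preimage (hCy y)
  obtain ⟨T, hT⟩ := exists_finite_subcover_of_isConstructible
    (fun y : cY.pt => (cY.π.app (jy y)) ⁻¹' Set.range (zy y)) hE
    (fun y => ⟨y, show y ∈ (cY.π.app (jy y)) ⁻¹' Set.range (zy y) from hmem y⟩)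
  -- a common stage
  obtain ⟨j, hj⟩ := IsCofiltered.inf_objs_exists (T.image jy)
  have hφ : ∀ y ∈ T, Nonempty (j ⟶ jy y) := fun y hy => hj (Finset.mem_image_of_mem _ hy)
  let S : Set (𝒴.obj j) := ⋃ y : T, (𝒴.map (hφ y.1 y.2).some) ⁻¹' Set.range (zy y.1)
  have hS : Topology.IsConstructible S := by
    apply Topology.IsConstructible.iUnion
    intro y
    exact (𝒴.map (hφ y.1 y.2).some).isConstructible_preimage (hCy y.1)
  have hSG : S ⊆ cdLocus (pullback.snd f0 (sY.ι.app j)) := by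
    intro s hs
    obtain ⟨y, hy⟩ := Set.mem_iUnion.1 hs
    have sq := isPullback_bcMap f0 (sY.ι.app j) (sY.ι.app (jy y.1)) (𝒴.map (hφ y.1 y.2).some)
      (sY.w _)
    exact preimage_cdLocus_subset sq (hsub y.1 hy)
  have hempty : cY.π.app j ⁻¹' Sᶜ = ∅ := by
    rw [Set.eq_empty_iff_forall_notMem]
    intro v hv
    apply hv
    obtain ⟨y, hyT, hy⟩ := hT v
    refine Set.mem_iUnion.2 ⟨⟨y, hyT⟩, ?_⟩
    change 𝒴.map (hφ y hyT).some (cY.π.app j v) ∈ Set.range (zy y)
    rw [← Scheme.Hom.comp_apply, cY.w]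
    exact hy
  obtain ⟨j', φ, hj'⟩ := exists_preimage_eq_empty 𝒴 cY hcY Sᶜ hS.compl hempty
  refine ⟨j', Set.eq_univ_of_forall fun v => ?_⟩
  have hv : 𝒴.map φ v ∈ S := by
    by_contra hv
    have : v ∈ 𝒴.map φ ⁻¹' Sᶜ := hv
    rw [hj'] at this
    exact this
  have sq := isPullback_bcMap f0 (sY.ι.app j') (sY.ι.app j) (𝒴.map φ) (sY.w _)
  exact preimage_cdLocus_subset sq (hSG hv)

end Groth.Agent.Helper15.CdLim
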