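import Groth.Agent.Lib.Helper15.CdLim6

/-!
# Complete decomposedness descends along cofiltered limits with affine transition maps
-/

set_option autoImplicit false
universe u
open CategoryTheory CategoryTheory.Limits AlgebraicGeometry

namespace Groth.Agent.Helper15.CdLim

open Groth.Agent.Helper15.WtLim Groth.Agent.Helper15.UoLim Groth.Agent.Helper15.CdStrat

set_option maxHeartbeats 1600000 in
theorem descends {I : Type u} [SmallCategory I] [IsCofiltered I]
    (D : I ⥤ Scheme.{u}) (c : Cone D) (hc : IsLimit c)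
    [∀ (i j : I) (a : i ⟶ j), IsAffineHom (D.map a)]
    (i0 : I) {X0 Y0 X Y : Scheme.{u}} (f0 : X0 ⟶ Y0) (q0 : Y0 ⟶ D.obj i0) [CompactSpace ↥Y0]
    [QuasiSeparatedSpace ↥Y0] [LocallyOfFinitePresentation f0]
    (f : X ⟶ Y) (q : Y ⟶ c.pt) (pY : Y ⟶ Y0) (pX : X ⟶ X0)
    (hY : IsPullback pY q q0 (c.π.app i0)) (hX : IsPullback pX f f0 pY)
    (hcd : ∀ y : Y, ∃ x : X, f x = y ∧ Function.Bijective (f.residueFieldMap x)) :
    ∃ (i : I) (a : i ⟶ i0) (Xi Yi : Scheme.{u}) (fi : Xi ⟶ Yi) (qi : Yi ⟶ D.obj i)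
      (pYi : Yi ⟶ Y0) (pXi : Xi ⟶ X0),
      IsPullback pYi qi q0 (D.map a) ∧ IsPullback pXi fi f0 pYi ∧
      ∀ y : Yi, ∃ x : Xi, fi x = y ∧ Function.Bijective (fi.residueFieldMap x) := by
  -- Step 0: the canonical base change to the limit is completely decomposed
  have hcd0 : cdLocus (pullback.snd f0 (pullback.fst q0 (c.π.app i0))) = Set.univ := by
    obtain ⟨b, hbdef⟩ : ∃ b : pullback q0 (c.π.app i0) ⟶ Y0, b = pullback.fst q0 (c.π.app i0) := ⟨_, rfl⟩
    rw [← hbdef]
    let e : Y ≅ pullback q0 (c.π.app i0) := hY.isoPullback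
    have he : e.inv ≫ pY = b := hbdef ▸ hY.isoPullback_inv_fst
    have hlift : pullback.fst f0 b ≫ f0 = (pullback.snd f0 b ≫ e.inv) ≫ pY := by
      rw [pullback.condition, Category.assoc, he]
    let g' : pullback f0 b ⟶ X := hX.lift (pullback.fst f0 b) (pullback.snd f0 b ≫ e.inv) hlift
    have hg'1 : g' ≫ pX = pullback.fst f0 b := hX.lift_fst _ _ _
    have hg'2 : g' ≫ f = pullback.snd f0 b ≫ e.inv := hX.lift_snd _ _ _
    have big : IsPullback (g' ≫ pX) (pullback.snd f0 b) f0 (e.inv ≫ pY) := by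
      rw [hg'1, he]
      exact IsPullback.of_hasPullback f0 b
    have sq : IsPullback g' (pullback.snd f0 b) f e.inv := IsPullback.of_right big hg'2 hX
    refine Set.eq_univ_of_forall fun v => ?_
    apply preimage_cdLocus_subset sq
    obtain ⟨x, hx1, hx2⟩ := hcd (e.inv v)
    exact ⟨x, hx1, hx2⟩
  let 𝒴 : Over i0 ⥤ Scheme.{u} := pbDiag D i0 q0
  let cY : Cone 𝒴 := pbCone D c i0 q0
  have hcY : IsLimit cY := pbConeIsLimit D c i0 q0 hc
  let sY : Cocone 𝒴 :=
    { pt := Y0
      ι :=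
        { app := fun β => pullback.fst q0 (D.map β.hom)
          naturality := fun β β' φ => by
            change bcMap q0 (D.map β.hom) (D.map β'.hom) (D.map φ.left)
              (by rw [← D.map_comp, Over.w]) ≫
              pullback.fst q0 (D.map β'.hom) = pullback.fst q0 (D.map β.hom) ≫ 𝟙 _
            rw [bcMap_fst, Category.comp_id] } }
  let b : cY.pt ⟶ sY.pt := pullback.fst q0 (c.π.app i0)
  have hb : ∀ β, cY.π.app β ≫ sY.ι.app β = b := by
    intro β
    change bcMap q0 (c.π.app i0) (D.map β.hom) (c.π.app β.left) (c.w β.hom) ≫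
      pullback.fst q0 (D.map β.hom) = pullback.fst q0 (c.π.app i0)
    rw [bcMap_fst]
  haveI : ∀ {β β' : Over i0} (φ : β ⟶ β'), IsAffineHom (𝒴.map φ) := by
    intro β β' φ
    exact MorphismProperty.of_isPullback (P := @IsAffineHom)
      (isPullback_bcMap q0 (D.map β.hom) (D.map β'.hom) (D.map φ.left)
        (by rw [← D.map_comp, Over.w])).flip inferInstance
  haveI hAffι : ∀ β, IsAffineHom (sY.ι.app β) := by
    intro β
    change IsAffineHom (pullback.fst q0 (D.map β.hom))
    exact MorphismProperty.pullback_fst (P := @IsAffineHom) _ _ inferInstance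
  haveI : ∀ β, CompactSpace (𝒴.obj β) := by
    intro β
    change CompactSpace ↥(pullback q0 (D.map β.hom))
    haveI : IsAffineHom (pullback.fst q0 (D.map β.hom)) := hAffι β
    exact QuasiCompact.compactSpace_of_compactSpace (pullback.fst q0 (D.map β.hom))
  haveI : ∀ β, QuasiSeparatedSpace (𝒴.obj β) := by
    intro β
    change QuasiSeparatedSpace ↥(pullback q0 (D.map β.hom))
    haveI : IsAffineHom (pullback.fst q0 (D.map β.hom)) := hAffι β
    exact quasiSeparatedSpace_of_quasiSeparated (pullback.fst q0 (D.map β.hom))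
  have hcd' : cdLocus (pullback.snd f0 b) = Set.univ := hcd0
  obtain ⟨β, hβ⟩ := exists_stage_cdLocus_eq_univ 𝒴 sY cY hcY b hb f0 hcd'
  refine ⟨β.left, β.hom, pullback f0 (pullback.fst q0 (D.map β.hom)), pullback q0 (D.map β.hom),
    pullback.snd f0 (pullback.fst q0 (D.map β.hom)), pullback.snd q0 (D.map β.hom),
    pullback.fst q0 (D.map β.hom), pullback.fst f0 (pullback.fst q0 (D.map β.hom)),
    IsPullback.of_hasPullback _ _, IsPullback.of_hasPullback _ _, ?_⟩
  intro y
  have hy : y ∈ cdLocus (pullback.snd f0 (sY.ι.app β)) := hβ ▸ Set.mem_univ y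
  exact hy

end Groth.Agent.Helper15.CdLim
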