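import Mathlib

/-!
# Spreading out a field-valued point of a finitely presented algebra (ring level)
-/

set_option autoImplicit false
universe u

namespace Groth.Agent.Helper15.CdStrat

open MvPolynomial

/-- Let `B` be a finitely presented `A`-algebra and `K` an `A`-field generated as a field by the
image of `A`.  Any `A`-algebra map `B → K` spreads out: there are `g ∈ A` invertible in `K` and a
finitely generated ideal `I` of `A` dying in `K`, with an `A`-algebra map `B → A_g / I A_g`. -/
theorem exists_algHom_of_fp {A B K : Type u} [CommRing A] [CommRing B] [Field K] [Algebra A B]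
    [Algebra A K] [Algebra.FinitePresentation A B] (ψ₀ : B →ₐ[A] K)
    (hK : ∀ k : K, ∃ a g : A, algebraMap A K g ≠ 0 ∧ k * algebraMap A K g = algebraMap A K a) :
    ∃ (g : A) (I : Ideal A), I.FG ∧
      Nonempty (B →ₐ[A] (Localization.Away g ⧸ I.map (algebraMap A (Localization.Away g)))) ∧
      Nonempty ((Localization.Away g ⧸ I.map (algebraMap A (Localization.Away g))) →ₐ[A] K) := by
  classical
  obtain ⟨n, φ, hφ, hker⟩ := Algebra.FinitePresentation.out (R := A) (A := B)
  choose a gi hgi hagi using fun i : Fin n => hK (ψ₀ (φ (X i)))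
  let g : A := ∏ i, gi i
  have hg : algebraMap A K g ≠ 0 := by
    rw [map_prod]
    exact Finset.prod_ne_zero_iff.2 (fun i _ => hgi i)
  let a' : Fin n → A := fun i => a i * ∏ j ∈ Finset.univ.erase i, gi j
  have ha' : ∀ i, ψ₀ (φ (X i)) * algebraMap A K g = algebraMap A K (a' i) := by
    intro i
    simp only [g, a']
    rw [← Finset.mul_prod_erase Finset.univ gi (Finset.mem_univ i), map_mul, ← mul_assoc, hagi i,
      map_mul]
  have hgu : IsUnit (algebraMap A K g) := isUnit_iff_ne_zero.2 hg
  let L := Localization.Away g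
  let eL : L →ₐ[A] K := IsLocalization.liftAlgHom (R := A) (M := Submonoid.powers g) (S := L)
    (f := Algebra.ofId A K) (by
      rintro ⟨_, m, rfl⟩
      change IsUnit (algebraMap A K (g ^ m))
      rw [map_pow]
      exact hgu.pow m)
  let θ : MvPolynomial (Fin n) A →ₐ[A] L :=
    MvPolynomial.aeval (fun i => IsLocalization.mk' L (a' i) (⟨g, Submonoid.mem_powers g⟩ :
      Submonoid.powers g))
  have hcomp : eL.comp θ = ψ₀.comp φ := by
    apply MvPolynomial.algHom_ext
    intro i
    have h1 : IsLocalization.mk' L (a' i) (⟨g, Submonoid.mem_powers g⟩ : Submonoid.powers g) *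
        algebraMap A L g = algebraMap A L (a' i) := IsLocalization.mk'_spec _ _ _
    have h2 := congrArg eL h1
    rw [map_mul, AlgHom.commutes, AlgHom.commutes] at h2
    have h3 : eL (θ (X i)) * algebraMap A K g = ψ₀ (φ (X i)) * algebraMap A K g := by
      rw [ha' i, ← h2]
      simp only [θ, MvPolynomial.aeval_X]
    exact mul_right_cancel₀ hg h3
  obtain ⟨s, hs⟩ := hker
  choose hF hFspec using fun F : MvPolynomial (Fin n) A =>
    IsLocalization.surj (Submonoid.powers g) (θ F)
  let I : Ideal A := Ideal.span ((fun F => (hF F).1) '' (s : Set (MvPolynomial (Fin n) A)))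
  have hIK : ∀ h ∈ I, algebraMap A K h = 0 := by
    intro h hh
    have hle : I ≤ RingHom.ker (algebraMap A K) := by
      apply Ideal.span_le.2
      rintro _ ⟨F, hFs, rfl⟩
      have hFker : φ F = 0 := by
        have : F ∈ RingHom.ker φ.toRingHom := by rw [← hs]; exact Ideal.subset_span hFs
        exact this
      have h1 := congrArg eL (hFspec F)
      rw [map_mul, AlgHom.commutes, AlgHom.commutes] at h1
      have h2 : eL (θ F) = 0 := by
        have := congrArg (fun α : MvPolynomial (Fin n) A →ₐ[A] K => α F) hcomp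
        simp only [AlgHom.comp_apply] at this
        rw [this, hFker, map_zero]
      rw [h2, zero_mul] at h1
      exact h1.symm
    exact hle hh
  have hIfg : I.FG := ⟨s.image (fun F => (hF F).1), by simp [I]⟩
  refine ⟨g, I, hIfg, ?_, ?_⟩
  · let θ' : MvPolynomial (Fin n) A →ₐ[A] (L ⧸ I.map (algebraMap A L)) :=
      (Ideal.Quotient.mkₐ A (I.map (algebraMap A L))).comp θ
    have hθ' : ∀ F ∈ RingHom.ker φ.toRingHom, θ' F = 0 := by
      intro F hFk
      have hle : RingHom.ker φ.toRingHom ≤ RingHom.ker θ'.toRingHom := by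
        rw [← hs]
        apply Ideal.span_le.2
        intro F hFs
        change θ' F = 0
        simp only [θ', AlgHom.comp_apply, Ideal.Quotient.mkₐ_eq_mk]
        rw [Ideal.Quotient.eq_zero_iff_mem]
        have hu : IsUnit (algebraMap A L ((hF F).2 : A)) := IsLocalization.map_units L (hF F).2
        rw [← Ideal.mul_unit_mem_iff_mem _ hu, hFspec F]
        exact Ideal.mem_map_of_mem _ (Ideal.subset_span ⟨F, hFs, rfl⟩)
      exact hle hFk
    let e : (MvPolynomial (Fin n) A ⧸ RingHom.ker φ.toRingHom) ≃ₐ[A] B :=
      Ideal.quotientKerAlgEquivOfSurjective hφ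
    exact ⟨(Ideal.Quotient.liftₐ (RingHom.ker φ.toRingHom) θ' hθ').comp e.symm.toAlgHom⟩
  · refine ⟨Ideal.Quotient.liftₐ (I.map (algebraMap A L)) eL ?_⟩
    intro x hx
    have hle : I.map (algebraMap A L) ≤ RingHom.ker eL.toRingHom := by
      rw [Ideal.map_le_iff_le_comap]
      intro h hh
      change eL (algebraMap A L h) = 0
      rw [AlgHom.commutes]
      exact hIK h hh
    exact hle hx

end Groth.Agent.Helper15.CdStrat
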