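import Mathlib
import Groth.Prelude
import Groth.Agent.Lib.Helper15.AlgSpSI4
import Groth.Agent.Lib.Helper15.AlgSpTop
import Groth.Agent.Lib.Helper15.AlgSpLocP
import Groth.Agent.Lib.Helper15.FiniteNear

set_option autoImplicit false
set_option backward.isDefEq.respectTransparency false
universe u
open CategoryTheory CategoryTheory.Limits AlgebraicGeometry MorphismProperty Opposite
open AlgSp

namespace Groth.Agent.Helper15.Cech

/-- A wide pullback of monomorphisms is the largest subobject contained in all of them. -/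
theorem exists_iso_widePullback_of_monos {C : Type*} [Category C] {B : C} {J : Type*}
    {objs : J → C} (arrows : ∀ j, objs j ⟶ B) [HasWidePullback B objs arrows]
    [∀ j, Mono (arrows j)] {M : C} (m : M ⟶ B) [Mono m] (p : ∀ j, M ⟶ objs j)
    (hp : ∀ j, p j ≫ arrows j = m)
    (hfac : ∃ k : widePullback B objs arrows ⟶ M, k ≫ m = WidePullback.base arrows) :
    ∃ e : widePullback B objs arrows ≅ M, e.hom ≫ m = WidePullback.base arrows := by
  obtain ⟨k, hk⟩ := hfac
  refine ⟨⟨k, WidePullback.lift m p hp, ?_, ?_⟩, hk⟩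
  · apply WidePullback.hom_ext
    · intro j
      rw [Category.assoc, WidePullback.lift_π, Category.id_comp, ← cancel_mono (arrows j),
        Category.assoc, hp, hk, WidePullback.π_arrow]
    · rw [Category.assoc, WidePullback.lift_base, hk, Category.id_comp]
  · rw [← cancel_mono m, Category.assoc, hk, WidePullback.lift_base, Category.id_comp]

variable {S : Scheme.{u}}

/-- The open subscheme `O` of `T`, as a scheme over `S`. -/
abbrev ov (T : Over S) (O : T.left.Opens) : Over S := Over.mk (O.ι ≫ T.hom)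

/-- The inclusion of open subschemes over `S`. -/
noncomputable def inclOv (T : Over S) {D O : T.left.Opens} (h : D ≤ O) : ov T D ⟶ ov T O :=
  Over.homMk (T.left.homOfLE h) (by
    show T.left.homOfLE h ≫ O.ι ≫ T.hom = D.ι ≫ T.hom
    rw [Scheme.homOfLE_ι_assoc])

@[simp]
theorem inclOv_left (T : Over S) {D O : T.left.Opens} (h : D ≤ O) :
    (inclOv T h).left = T.left.homOfLE h := rfl

instance (T : Over S) {D O : T.left.Opens} (h : D ≤ O) : Mono (inclOv T h) := by
  haveI : Mono ((Over.forget S).map (inclOv T h)) := by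
    show Mono (T.left.homOfLE h); infer_instance
  exact (Over.forget S).mono_of_mono_map this

instance (T : Over S) {D O : T.left.Opens} (h : D ≤ O) : Mono ((yon S).map (inclOv T h)) :=
  inferInstance

/-- A map to `h_O` all of whose scheme-valued points land in the open `D ≤ O` factors through
`h_D`. -/
theorem exists_factor_inclOv {T : Over S} {D O : T.left.Opens} (h : D ≤ O) {Z : Sp S}
    (z : Z ⟶ (yon S).obj (ov T O))
    (hz : ∀ (T₁ : Over S) (x : (yon S).obj T₁ ⟶ Z) (t : T₁.left),
      (((yon S).preimage (x ≫ z)).left ≫ O.ι) t ∈ D) :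
    ∃ k : Z ⟶ (yon S).obj (ov T D), k ≫ (yon S).map (inclOv T h) = z := by
  refine Groth.Agent.Helper15.exists_factor_of_forall_points ((yon S).map (inclOv T h)) z
    (fun T₁ x => ?_)
  set τ := (yon S).preimage (x ≫ z) with hτ
  have hrange : Set.range τ.left ⊆ Set.range (T.left.homOfLE h) := by
    rintro _ ⟨t, rfl⟩
    have := hz T₁ x t
    rw [Scheme.Hom.comp_apply] at this
    exact ⟨⟨(τ.left t).1, this⟩, Subtype.ext (by rw [Scheme.homOfLE_apply])⟩
  let l : T₁.left ⟶ D.toScheme := IsOpenImmersion.lift (T.left.homOfLE h) τ.left hrange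
  have hl : l ≫ T.left.homOfLE h = τ.left := IsOpenImmersion.lift_fac _ _ _
  let l' : T₁ ⟶ ov T D := Over.homMk l (by
    show l ≫ D.ι ≫ T.hom = T₁.hom
    rw [← Scheme.homOfLE_ι_assoc T.left h, ← Category.assoc l, hl]
    exact Over.w τ)
  refine ⟨(yon S).map l', ?_⟩
  rw [← (yon S).map_comp]
  have : l' ≫ inclOv T h = τ := by
    apply Over.OverMorphism.ext
    exact hl
  rw [this, hτ, (yon S).map_preimage]


theorem inclOv_comp (T : Over S) {E D O : T.left.Opens} (h₁ : E ≤ D) (h₂ : D ≤ O) :
    inclOv T h₁ ≫ inclOv T h₂ = inclOv T (h₁.trans h₂) := by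
  apply Over.OverMorphism.ext
  exact T.left.homOfLE_homOfLE h₁ h₂

/-- points of a map factoring through `h_D` land in `D`. -/
theorem mem_of_factor {T : Over S} {D O : T.left.Opens} (h : D ≤ O) {T₁ : Over S}
    (y : (yon S).obj T₁ ⟶ (yon S).obj (ov T D)) (t : T₁.left) :
    (((yon S).preimage (y ≫ (yon S).map (inclOv T h))).left ≫ O.ι) t ∈ D := by
  have h1 : (yon S).preimage (y ≫ (yon S).map (inclOv T h)) = (yon S).preimage y ≫ inclOv T h := by
    apply (yon S).map_injective
    rw [(yon S).map_preimage, (yon S).map_comp, (yon S).map_preimage]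
  rw [h1, Over.comp_left, inclOv_left, Category.assoc, Scheme.homOfLE_ι, Scheme.Hom.comp_apply]
  exact (((yon S).preimage y).left t).2

/-- The wide pullback of finitely many open subfunctors of `h_O` is the open subfunctor of their
intersection. -/
theorem exists_iso_widePullback_opens {T : Over S} {O : T.left.Opens} {U' : Sp S}
    (e : U' ≅ (yon S).obj (ov T O)) {n : ℕ} (D : Fin (n + 1) → T.left.Opens)
    (hD : ∀ k, D k ≤ O) (E : T.left.Opens) (hE : ∀ t : T.left, t ∈ E ↔ ∀ k, t ∈ D k) :
    ∃ (hEO : E ≤ O)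
      (e' : widePullback U' (fun k => (yon S).obj (ov T (D k)))
        (fun k => (yon S).map (inclOv T (hD k)) ≫ e.inv) ≅ (yon S).obj (ov T E)),
      e'.hom ≫ ((yon S).map (inclOv T hEO) ≫ e.inv) =
        WidePullback.base (fun k => (yon S).map (inclOv T (hD k)) ≫ e.inv) := by
  have hEO : E ≤ O := fun t ht => hD 0 ((hE t).1 ht 0)
  have hED : ∀ k, E ≤ D k := fun k t ht => (hE t).1 ht k
  refine ⟨hEO, ?_⟩
  haveI : ∀ k, Mono ((yon S).map (inclOv T (hD k)) ≫ e.inv) := fun k => mono_comp _ _
  haveI : Mono ((yon S).map (inclOv T hEO) ≫ e.inv) := mono_comp _ _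
  refine exists_iso_widePullback_of_monos
    (fun k => (yon S).map (inclOv T (hD k)) ≫ e.inv) ((yon S).map (inclOv T hEO) ≫ e.inv)
    (fun k => (yon S).map (inclOv T (hED k))) (fun k => ?_) ?_
  · rw [← Category.assoc, ← (yon S).map_comp, inclOv_comp]
  · set base := WidePullback.base (fun k => (yon S).map (inclOv T (hD k)) ≫ e.inv) with hbase
    obtain ⟨k, hk⟩ := exists_factor_inclOv hEO (base ≫ e.hom) (fun T₁ x t => by
      rw [hE]
      intro j
      have h1 : x ≫ base ≫ e.hom =
          (x ≫ WidePullback.π (fun k => (yon S).map (inclOv T (hD k)) ≫ e.inv) j) ≫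
            (yon S).map (inclOv T (hD j)) := by
        rw [hbase, ← WidePullback.π_arrow _ j]
        simp only [Category.assoc, Iso.inv_hom_id, Category.comp_id]
      rw [h1]
      exact mem_of_factor (hD j) _ t)
    exact ⟨k, by rw [← Category.assoc, hk, Category.assoc, Iso.hom_inv_id, Category.comp_id]⟩


theorem repWith_isOpenImmersion_inclOv (T : Over S) {D O : T.left.Opens} (h : D ≤ O) :
    RepWith @IsOpenImmersion ((yon S).map (inclOv T h)) :=
  (repWith_yon_map_iff _ _).2 (by show IsOpenImmersion (T.left.homOfLE h); infer_instance)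

theorem repWith_etale_of_iso {F G : Sp S} (e : F ≅ G) : RepWith @Etale e.hom :=
  (RepWith @Etale).of_isIso e.hom

/-- the open subfunctor composed with an isomorphism is etale -/
theorem repWith_etale_incl_inv {T : Over S} {D O : T.left.Opens} (h : D ≤ O) {U' : Sp S}
    (e : U' ≅ (yon S).obj (ov T O)) :
    RepWith @Etale ((yon S).map (inclOv T h) ≫ e.inv) :=
  (RepWith @Etale).comp_mem _ _
    (repWith_mono Groth.Agent.Helper15.Norm.isOpenImmersion_le_etale
      (repWith_isOpenImmersion_inclOv T h)) ((RepWith @Etale).of_isIso e.inv)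

/-- A family of opens of `O` covering `O` gives an fppf covering. -/
theorem isFppfCover_opens {T : Over S} {O : T.left.Opens} {U' : Sp S}
    (e : U' ≅ (yon S).obj (ov T O)) {ι : Type u} (D : ι → T.left.Opens) (hD : ∀ i, D i ≤ O)
    (hcov : ∀ t : T.left, t ∈ O → ∃ i, t ∈ D i) :
    IsFppfCover (fun i => (yon S).obj (ov T (D i)))
      (fun i => (yon S).map (inclOv T (hD i)) ≫ e.inv) := by
  refine ⟨fun i => ⟨?_, ?_⟩, fun x => ?_⟩
  · exact Groth.Agent.Helper15.locP_of_repWith (P := @Flat)
      (fun _ _ f hf => by haveI : Etale f := hf; exact (inferInstance : Flat f)) _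
      (repWith_mono (fun _ _ f hf => by haveI : Etale f := hf; exact (inferInstance : Flat f))
        (repWith_etale_incl_inv (hD i) e))
  · exact Groth.Agent.Helper15.locP_of_repWith (P := @LocallyOfFinitePresentation)
      (fun _ _ f hf => by
        haveI : Etale f := hf; exact (inferInstance : LocallyOfFinitePresentation f)) _
      (repWith_mono (fun _ _ f hf => by
        haveI : Etale f := hf; exact (inferInstance : LocallyOfFinitePresentation f))
        (repWith_etale_incl_inv (hD i) e))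
  · obtain ⟨t, ht⟩ := (Points.schemeEquiv (ov T O)).surjective (Points.map e.hom x)
    obtain ⟨i, hi⟩ := hcov t.1 t.2
    refine ⟨i, Points.ofScheme (ov T (D i)) ⟨t.1, hi⟩, ?_⟩
    rw [Points.map_comp]
    have h1 : Points.map ((yon S).map (inclOv T (hD i))) (Points.ofScheme (ov T (D i)) ⟨t.1, hi⟩) =
        Points.ofScheme (ov T O) t := by
      rw [← Points.ofPt_eq_map_ofScheme, Groth.Agent.Helper15.ofPt_yon_map]
      congr 1
      exact T.left.homOfLE_apply' (hD i) _ hi
    rw [h1]
    have h2 : Points.ofScheme (ov T O) t = Points.map e.hom x := ht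
    rw [h2, ← Points.map_comp, Iso.hom_inv_id]
    exact Points.map_id x


section Levels

variable (X : Space S) (P : ∀ ⦃U : Sp S⦄, (U ⟶ X.obj) → Prop)

/-- `P` holds for every flat, locally finitely presented map from a copy of the open `O`. -/
def Q (T : Over S) (O : T.left.Opens) : Prop :=
  ∀ (U' : Sp S) (a : U' ⟶ X.obj) (_ : U' ≅ (yon S).obj (ov T O)),
    LocP @Flat a → LocP @LocallyOfFinitePresentation a → P a

variable {X P}
variable (hP : ∀ ⦃U : Sp S⦄ (a : U ⟶ X.obj), IsAlgSpace U →
      ∀ ⦃ι : Type u⦄ (Ui : ι → Sp S) (g : ∀ i, Ui i ⟶ U), (∀ i, IsAlgSpace (Ui i)) →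
      IsFppfCover Ui g →
      (∀ (n : ℕ) (c : Fin (n + 1) → ι),
        P (WidePullback.base (fun k : Fin (n + 1) => g (c k)) ≫ a)) → P a)
    (haff : ∀ ⦃U : Sp S⦄ (a : U ⟶ X.obj) (T : Over S) (e : U ≅ (yon S).obj T), IsAffine T.left →
      LocP @Flat a → LocP @LocallyOfFinitePresentation a → P a)

include hP in
theorem q_of_cover {T : Over S} {O : T.left.Opens} {ι : Type u} (D : ι → T.left.Opens)
    (hD : ∀ i, D i ≤ O) (hcov : ∀ t : T.left, t ∈ O → ∃ i, t ∈ D i)
    (hfin : ∀ (n : ℕ) (c : Fin (n + 1) → ι), ∃ E : T.left.Opens,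
      (∀ t : T.left, t ∈ E ↔ ∀ k, t ∈ D (c k)) ∧ Q X P T E) : Q X P T O := by
  intro U' a e hfl hfp
  refine hP a ((IsAlgSpace.yon_obj _).of_iso e.symm)
    (fun i => (yon S).obj (ov T (D i))) (fun i => (yon S).map (inclOv T (hD i)) ≫ e.inv)
    (fun i => IsAlgSpace.yon_obj _) (isFppfCover_opens e D hD hcov) (fun n c => ?_)
  obtain ⟨E, hE, hQE⟩ := hfin n c
  obtain ⟨hEO, e', he'⟩ := exists_iso_widePullback_opens e (fun k => D (c k))
    (fun k => hD (c k)) E hE
  have hbase : RepWith @Etale (WidePullback.base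
      (fun k : Fin (n + 1) => (yon S).map (inclOv T (hD (c k))) ≫ e.inv)) := by
    rw [← he']
    exact (RepWith @Etale).comp_mem _ _ ((RepWith @Etale).of_isIso e'.hom)
      (repWith_etale_incl_inv hEO e)
  exact hQE _ _ e'
    (Groth.Agent.Helper15.Norm.locP_precomp_repWith_etale a hfl _ hbase)
    (Groth.Agent.Helper15.Norm.locP_precomp_repWith_etale a hfp _ hbase)

include haff in
theorem q_of_isAffineOpen {T : Over S} {O : T.left.Opens} (hO : IsAffineOpen O) : Q X P T O :=
  fun _ a e hfl hfp => haff a (ov T O) e hO hfl hfp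

include hP haff in
theorem q_of_le_isAffineOpen {T : Over S} {O A : T.left.Opens} (hA : IsAffineOpen A)
    (hOA : O ≤ A) : Q X P T O := by
  refine q_of_cover hP (ι := {f : Γ(T.left, A) // T.left.basicOpen f ≤ O})
    (fun f => T.left.basicOpen f.1) (fun f => f.2) (fun t ht => ?_) (fun n c => ?_)
  · obtain ⟨f, hf1, hf2⟩ := hA.exists_basicOpen_le (V := O) ⟨t, ht⟩ (hOA ht)
    exact ⟨⟨f, hf1⟩, hf2⟩
  · refine ⟨T.left.basicOpen (∏ k, (c k).1), fun t => ?_, q_of_isAffineOpen haff (hA.basicOpen _)⟩
    simp only [Scheme.mem_basicOpen'']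
    constructor
    · rintro ⟨m, hm⟩ k
      rw [map_prod, IsUnit.prod_univ_iff] at hm
      exact ⟨m, hm k⟩
    · intro h
      obtain ⟨m, -⟩ := h 0
      refine ⟨m, ?_⟩
      rw [map_prod, IsUnit.prod_univ_iff]
      intro k
      obtain ⟨_, hk⟩ := h k
      exact hk

include hP haff in
theorem q_all {T : Over S} (O : T.left.Opens) : Q X P T O := by
  refine q_of_cover hP (ι := {A : T.left.Opens // IsAffineOpen A ∧ A ≤ O})
    (fun A => A.1) (fun A => A.2.2) (fun t ht => ?_) (fun n c => ?_)
  · obtain ⟨A, hA, htA, hAO⟩ :=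
      TopologicalSpace.Opens.isBasis_iff_nbhd.1 T.left.isBasis_affineOpens ht
    exact ⟨⟨A, hA, hAO⟩, htA⟩
  · refine ⟨⟨⋂ k, ((c k).1 : Set T.left), isOpen_iInter_of_finite fun k => (c k).1.2⟩,
      fun t => ?_, ?_⟩
    · show t ∈ ⋂ k, ((c k).1 : Set T.left) ↔ _
      rw [Set.mem_iInter]; rfl
    · refine q_of_le_isAffineOpen hP haff (c 0).2.1 (fun t ht => ?_)
      exact Set.mem_iInter.1 ht 0

end Levels

end Groth.Agent.Helper15.Cech
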