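import Mathlib
import Groth.Prelude
import Groth.Agent.Lib.Helper15.Cech1

set_option autoImplicit false
set_option backward.isDefEq.respectTransparency false
universe u
open CategoryTheory CategoryTheory.Limits AlgebraicGeometry MorphismProperty Opposite
open AlgSp

namespace Groth.Agent.Helper15.Cech

section General

variable {C : Type*} [Category C] {X H : C} (q : H ⟶ X) (n : ℕ)
  [HasWidePullback X (fun _ : Fin (n + 1) => H) (fun _ => q)]
  [HasWidePullback X (fun _ : Fin (n + 2) => H) (fun _ => q)]

/-- The `(n+2)`-fold fibre power is the fibre product of the `(n+1)`-fold one with one more copy. -/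
theorem isPullback_widePullback_succ :
    IsPullback
      (WidePullback.lift (objs := fun _ : Fin (n + 1) => H) (arrows := fun _ => q)
        (WidePullback.base (fun _ : Fin (n + 2) => q))
        (fun k => WidePullback.π (fun _ : Fin (n + 2) => q) k.castSucc)
        (fun k => WidePullback.π_arrow (fun _ : Fin (n + 2) => q) k.castSucc))
      (WidePullback.π (fun _ : Fin (n + 2) => q) (Fin.last _))
      (WidePullback.base (fun _ : Fin (n + 1) => q)) q := by
  refine ⟨⟨by rw [WidePullback.lift_base, WidePullback.π_arrow]⟩, ⟨PullbackCone.IsLimit.mk _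
    (fun s => WidePullback.lift (objs := fun _ : Fin (n + 2) => H) (arrows := fun _ => q)
      (s.fst ≫ WidePullback.base (fun _ : Fin (n + 1) => q))
      (fun k => Fin.lastCases (motive := fun _ => s.pt ⟶ H) s.snd
        (fun j => s.fst ≫ WidePullback.π (fun _ : Fin (n + 1) => q) j) k)
      (fun k => by
        induction k using Fin.lastCases with
        | last => rw [Fin.lastCases_last]; exact s.condition.symm
        | cast j => rw [Fin.lastCases_castSucc, Category.assoc, WidePullback.π_arrow]))
    (fun s => ?_) (fun s => ?_) (fun s m h1 h2 => ?_)⟩⟩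
  · apply WidePullback.hom_ext
    · intro j
      rw [Category.assoc, WidePullback.lift_π, WidePullback.lift_π, Fin.lastCases_castSucc]
    · rw [Category.assoc, WidePullback.lift_base, WidePullback.lift_base]
  · rw [WidePullback.lift_π, Fin.lastCases_last]
  · apply WidePullback.hom_ext
    · intro k
      rw [WidePullback.lift_π]
      induction k using Fin.lastCases with
      | last => rw [Fin.lastCases_last]; exact h2
      | cast j =>
        rw [Fin.lastCases_castSucc, ← h1, Category.assoc, WidePullback.lift_π]
    · rw [WidePullback.lift_base, ← h1, Category.assoc, WidePullback.lift_base]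

end General


variable {S : Scheme.{u}}

/-- Fibre powers of an etale chart of a sheaf are representable and etale over it. -/
theorem exists_rep_widePullback {X : Sp S} {V : Over S} (q : (yon S).obj V ⟶ X)
    (hq : RepWith @Etale q) (n : ℕ) :
    ∃ (Tn : Over S),
      Nonempty (widePullback X (fun _ : Fin (n + 1) => (yon S).obj V) (fun _ => q) ≅
        (yon S).obj Tn) ∧
      RepWith @Etale (WidePullback.base (fun _ : Fin (n + 1) => q)) := by
  induction n with
  | zero =>
    have h1 : WidePullback.π (fun _ : Fin (0 + 1) => q) 0 ≫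
        WidePullback.lift (objs := fun _ : Fin (0 + 1) => (yon S).obj V) (arrows := fun _ => q) q
          (fun _ => 𝟙 _) (fun _ => Category.id_comp _) = 𝟙 _ := by
      apply WidePullback.hom_ext
      · intro j
        rw [Category.assoc, WidePullback.lift_π, Category.comp_id, Category.id_comp]
        congr 1
        exact (Fin.fin_one_eq_zero j).symm
      · rw [Category.assoc, WidePullback.lift_base, WidePullback.π_arrow, Category.id_comp]
    have h2 : WidePullback.lift (objs := fun _ : Fin (0 + 1) => (yon S).obj V)
        (arrows := fun _ => q) q (fun _ => 𝟙 _) (fun _ => Category.id_comp _) ≫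
          WidePullback.π (fun _ : Fin (0 + 1) => q) 0 = 𝟙 _ := by
      rw [WidePullback.lift_π]
    refine ⟨V, ⟨⟨WidePullback.π (fun _ : Fin (0 + 1) => q) 0, _, h1, h2⟩⟩, ?_⟩
    rw [← WidePullback.π_arrow (fun _ : Fin (0 + 1) => q) 0]
    haveI : IsIso (WidePullback.π (fun _ : Fin (0 + 1) => q) 0) := ⟨_, h1, h2⟩
    exact (RepWith @Etale).comp_mem _ _ ((RepWith @Etale).of_isIso _) hq
  | succ n ih =>
    obtain ⟨Tn, ⟨e⟩, hb⟩ := ih
    have sq := isPullback_widePullback_succ q n
    -- the base change of `q` along the base map
    have hfst : RepWith @Etale (WidePullback.lift (objs := fun _ : Fin (n + 1) => (yon S).obj V)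
        (arrows := fun _ => q)
        (WidePullback.base (fun _ : Fin (n + 2) => q))
        (fun k => WidePullback.π (fun _ : Fin (n + 2) => q) k.castSucc)
        (fun k => WidePullback.π_arrow (fun _ : Fin (n + 2) => q) k.castSucc)) :=
      (RepWith @Etale).of_isPullback sq.flip hq
    refine ⟨hq.rep.pullback (e.inv ≫ WidePullback.base (fun _ : Fin (n + 1) => q)), ⟨?_⟩, ?_⟩
    · have sqW := hq.rep.isPullback (e.inv ≫ WidePullback.base (fun _ : Fin (n + 1) => q))
      have sq' := sq.flip.of_iso (Iso.refl _) (Iso.refl _) e (Iso.refl _)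
        (fst' := WidePullback.π (fun _ : Fin (n + 2) => q) (Fin.last _))
        (snd' := WidePullback.lift (objs := fun _ : Fin (n + 1) => (yon S).obj V)
          (arrows := fun _ => q)
          (WidePullback.base (fun _ : Fin (n + 2) => q))
          (fun k => WidePullback.π (fun _ : Fin (n + 2) => q) k.castSucc)
          (fun k => WidePullback.π_arrow (fun _ : Fin (n + 2) => q) k.castSucc) ≫ e.hom)
        (f' := q) (g' := e.inv ≫ WidePullback.base (fun _ : Fin (n + 1) => q))
        (by simp) (by simp) (by simp) (by simp)
      exact sq'.isoIsPullback _ _ sqW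
    · rw [← WidePullback.lift_base (objs := fun _ : Fin (n + 1) => (yon S).obj V)
        (arrows := fun _ => q)
        (WidePullback.base (fun _ : Fin (n + 2) => q))
        (fun k => WidePullback.π (fun _ : Fin (n + 2) => q) k.castSucc)
        (fun k => WidePullback.π_arrow (fun _ : Fin (n + 2) => q) k.castSucc)]
      exact (RepWith @Etale).comp_mem _ _ hfst hb


/-- S10511: a property descending along Cech nerves of fppf coverings and holding for affine
schemes flat and locally finitely presented over `X` holds for `X`. -/
theorem cech_descending {X : Space S} {P : ∀ ⦃U : Sp S⦄, (U ⟶ X.obj) → Prop}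
    (hP : ∀ ⦃U : Sp S⦄ (a : U ⟶ X.obj), IsAlgSpace U →
      ∀ ⦃ι : Type u⦄ (Ui : ι → Sp S) (g : ∀ i, Ui i ⟶ U), (∀ i, IsAlgSpace (Ui i)) →
      IsFppfCover Ui g →
      (∀ (n : ℕ) (c : Fin (n + 1) → ι),
        P (WidePullback.base (fun k : Fin (n + 1) => g (c k)) ≫ a)) → P a)
    (haff : ∀ ⦃U : Sp S⦄ (a : U ⟶ X.obj) (T : Over S) (e : U ≅ (yon S).obj T), IsAffine T.left →
      LocP @Flat a → LocP @LocallyOfFinitePresentation a → P a) :
    P (𝟙 X.obj) := by
  obtain ⟨V, q, hqe, hqs⟩ := X.property.atlas
  refine hP (𝟙 X.obj) X.property (fun _ : PUnit.{u + 1} => (yon S).obj V) (fun _ => q)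
    (fun _ => IsAlgSpace.yon_obj V) ⟨fun _ => ⟨?_, ?_⟩, fun x => ⟨PUnit.unit,
      Groth.Agent.Helper15.isSurjectiveMor_of_repWith_surjective q hqs x⟩⟩ (fun n c => ?_)
  · exact Groth.Agent.Helper15.locP_of_repWith (P := @Flat)
      (fun _ _ f hf => by haveI : Etale f := hf; exact (inferInstance : Flat f)) _
      (repWith_mono (fun _ _ f hf => by haveI : Etale f := hf; exact (inferInstance : Flat f)) hqe)
  · exact Groth.Agent.Helper15.locP_of_repWith (P := @LocallyOfFinitePresentation)
      (fun _ _ f hf => by
        haveI : Etale f := hf; exact (inferInstance : LocallyOfFinitePresentation f)) _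
      (repWith_mono (fun _ _ f hf => by
        haveI : Etale f := hf; exact (inferInstance : LocallyOfFinitePresentation f)) hqe)
  · obtain ⟨Tn, ⟨e⟩, hb⟩ := exists_rep_widePullback q hqe n
    let eT : ov Tn ⊤ ≅ Tn := Over.isoMk (Scheme.topIso Tn.left) (by
      show (⊤ : Tn.left.Opens).ι ≫ Tn.hom = (⊤ : Tn.left.Opens).ι ≫ Tn.hom
      rfl)
    have hb' : RepWith @Etale (WidePullback.base (fun _ : Fin (n + 1) => q) ≫ 𝟙 X.obj) := by
      rw [Category.comp_id]; exact hb
    refine q_all hP haff (T := Tn) ⊤ _ _ (e ≪≫ (yon S).mapIso eT.symm) ?_ ?_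
    · exact Groth.Agent.Helper15.locP_of_repWith (P := @Flat)
        (fun _ _ f hf => by haveI : Etale f := hf; exact (inferInstance : Flat f)) _
        (repWith_mono (fun _ _ f hf => by
          haveI : Etale f := hf; exact (inferInstance : Flat f)) hb')
    · exact Groth.Agent.Helper15.locP_of_repWith (P := @LocallyOfFinitePresentation)
        (fun _ _ f hf => by
          haveI : Etale f := hf; exact (inferInstance : LocallyOfFinitePresentation f)) _
        (repWith_mono (fun _ _ f hf => by
          haveI : Etale f := hf; exact (inferInstance : LocallyOfFinitePresentation f)) hb')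

end Groth.Agent.Helper15.Cech
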