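import Groth.Agent.Lib.Helper15.TrdegQF
import Groth.Agent.Lib.Helper15.AlgSpAtNbhd
import Groth.Agent.Lib.Helper15.AlgSpLocPListed
import Groth.Agent.Lib.Helper15.AlgSpFibre

set_option autoImplicit false
universe u
open CategoryTheory CategoryTheory.Limits AlgebraicGeometry Opposite
open AlgSp Groth.Agent.Helper16.AS

namespace Groth.Agent.Helper15.ChartBC

variable {S : Scheme.{u}}

/-- Base change of a chart diagram of `f` through a point, along `a : Y' ⟶ Y`. -/
theorem exists_chart_baseChange {X Y X' Y' : Sp S} (hY : IsAlgSpace Y) (hY' : IsAlgSpace Y')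
    {f : X ⟶ Y} {a : Y' ⟶ Y} {b : X' ⟶ X} {f' : X' ⟶ Y'} (sq2 : IsPullback b f' f a)
    {U V : Over S} (α : (yon S).obj U ⟶ X) (β : (yon S).obj V ⟶ Y) (h : U ⟶ V)
    (hα : RepWith @Etale α) (hβ : RepWith @Etale β) (comm : α ≫ f = (yon S).map h ≫ β)
    (u : U.left) (x' : Points X') (hux : Points.ofPt α u = Points.map b x') :
    ∃ (U'' V'' : Over S) (α'' : (yon S).obj U'' ⟶ X') (β' : (yon S).obj V'' ⟶ Y')
      (π₁ : U'' ⟶ U) (π₂ : U'' ⟶ V'') (ν₀ : V'' ⟶ V) (u'' : U''.left),
      RepWith @Etale α'' ∧ RepWith @Etale β' ∧ α'' ≫ f' = (yon S).map π₂ ≫ β' ∧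
      α'' ≫ b = (yon S).map π₁ ≫ α ∧ β' ≫ a = (yon S).map ν₀ ≫ β ∧
      IsPullback π₁.left π₂.left h.left ν₀.left ∧ π₁.left u'' = u ∧ Points.ofPt α'' u'' = x' := by
  have sqA := IsPullback.of_hasPullback β a
  have hA : IsAlgSpace (pullback β a) :=
    isAlgSpace_of_isPullback hY.diag (IsAlgSpace.yon_obj V) hY' sqA
  obtain ⟨V'', s, hse, hss⟩ := hA.atlas
  set ν₀ : V'' ⟶ V := (yon S).preimage (s ≫ pullback.fst β a) with hν₀
  have hν : (yon S).map ν₀ = s ≫ pullback.fst β a := (yon S).map_preimage _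
  set β' := s ≫ pullback.snd β a with hβ'
  have hsnde : RepWith @Etale (pullback.snd β a) := (RepWith @Etale).of_isPullback sqA hβ
  have hβ'e : RepWith @Etale β' := (RepWith @Etale).comp_mem _ _ hse hsnde
  have hβ'a : β' ≫ a = (yon S).map ν₀ ≫ β := by
    rw [hν, hβ', Category.assoc, Category.assoc, pullback.condition]
  -- U''
  have sqU := IsPullback.of_hasPullback h ν₀
  set U'' := pullback h ν₀ with hU''
  set π₁ : U'' ⟶ U := pullback.fst h ν₀ with hπ₁
  set π₂ : U'' ⟶ V'' := pullback.snd h ν₀ with hπ₂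
  have sqUl : IsPullback π₁.left π₂.left h.left ν₀.left := sqU.map (Over.forget S)
  have sqUy : IsPullback ((yon S).map π₁) ((yon S).map π₂) ((yon S).map h) ((yon S).map ν₀) :=
    sqU.map (yon S)
  -- B
  have sqB := IsPullback.of_hasPullback ((yon S).map h) (pullback.fst β a)
  set B := pullback ((yon S).map h) (pullback.fst β a) with hB
  set bfst : B ⟶ (yon S).obj U := pullback.fst ((yon S).map h) (pullback.fst β a) with hbfst
  set bsnd : B ⟶ pullback β a := pullback.snd ((yon S).map h) (pullback.fst β a) with hbsnd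
  have big : IsPullback bfst (bsnd ≫ pullback.snd β a) (α ≫ f) a := by
    have := sqB.paste_vert sqA
    rw [← comm] at this
    exact this
  have hεw : (bfst ≫ α) ≫ f = (bsnd ≫ pullback.snd β a) ≫ a := by
    rw [Category.assoc]; exact big.w
  set ε : B ⟶ X' := sq2.lift _ _ hεw with hε
  have hε1 : ε ≫ b = bfst ≫ α := sq2.lift_fst _ _ _
  have hε2 : ε ≫ f' = bsnd ≫ pullback.snd β a := sq2.lift_snd _ _ _
  have sqε : IsPullback ε bfst b α := by
    refine IsPullback.of_right (t := sq2.flip) ?_ hε1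
    rw [hε2]
    exact big.flip
  have hεe : RepWith @Etale ε := (RepWith @Etale).of_isPullback sqε.flip hα
  -- t
  have htw : (yon S).map π₁ ≫ (yon S).map h = ((yon S).map π₂ ≫ s) ≫ pullback.fst β a := by
    rw [Category.assoc, ← hν]; exact sqUy.w
  set t : (yon S).obj U'' ⟶ B := sqB.lift _ _ htw with ht
  have ht1 : t ≫ bfst = (yon S).map π₁ := sqB.lift_fst _ _ _
  have ht2 : t ≫ bsnd = (yon S).map π₂ ≫ s := sqB.lift_snd _ _ _
  have sqt : IsPullback t ((yon S).map π₂) bsnd s := by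
    refine IsPullback.of_right (t := sqB) ?_ ht2
    rw [ht1, ← hν]
    exact sqUy
  have hte : RepWith @Etale t := (RepWith @Etale).of_isPullback sqt.flip hse
  have hts : RepWith @Surjective t := (RepWith @Surjective).of_isPullback sqt.flip hss
  have hα''e : RepWith @Etale (t ≫ ε) := (RepWith @Etale).comp_mem _ _ hte hεe
  -- the point
  have hpt : Points.map α (Points.ofScheme U u) = Points.map b x' := by
    rw [← Points.ofPt_eq_map_ofScheme]; exact hux
  obtain ⟨pB, hpB1, hpB2⟩ := exists_point_of_isPullback sqε.flip _ _ hpt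
  obtain ⟨pU, hpU⟩ := isSurjectiveMor_of_repWith_surjective t hts pB
  obtain ⟨u'', rfl⟩ := (Points.schemeEquiv U'').surjective pU
  change Points.map t (Points.ofScheme U'' u'') = pB at hpU
  refine ⟨U'', V'', t ≫ ε, β', π₁, π₂, ν₀, u'', hα''e, hβ'e, ?_, ?_, hβ'a, sqUl, ?_, ?_⟩
  · rw [Category.assoc, hε2, ← Category.assoc, ht2, Category.assoc]
  · rw [Category.assoc, hε1, ← Category.assoc, ht1]
  · apply (Points.schemeEquiv U).injective
    change Points.ofScheme U (π₁.left u'') = Points.ofScheme U u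
    rw [← ofPt_yon_map, ← ht1, Points.ofPt_eq_map_ofScheme, Points.map_comp, hpU, hpB1]
  · rw [Points.ofPt_eq_map_ofScheme, Points.map_comp, hpU, hpB2]


/-- If `f` has `P` on an open subspace, then it has `P` near every point of every chart diagram
lying over that open subspace. -/
theorem exists_nbhd_of_open_subspace {P : MorphismProperty Scheme.{u}} [P.RespectsIso]
    {X Y X₀ : Sp S} (f : X ⟶ Y) (j : X₀ ⟶ X) (hj : RepWith @IsOpenImmersion j)
    (hloc : LocP P (j ≫ f)) {U V : Over S} (α : (yon S).obj U ⟶ X) (β : (yon S).obj V ⟶ Y)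
    (h : U ⟶ V) (hα : RepWith @Etale α) (hβ : RepWith @Etale β)
    (comm : α ≫ f = (yon S).map h ≫ β) (u : U.left)
    (hu : Points.ofPt α u ∈ Set.range (Points.map j)) :
    ∃ W : U.left.Opens, u ∈ W ∧ P (W.ι ≫ h.left) := by
  have sqW := hj.rep.isPullback α
  set W₀ := hj.rep.pullback α with hW₀
  set ι : W₀ ⟶ U := hj.rep.snd α with hι
  set φ : (yon S).obj W₀ ⟶ X₀ := hj.rep.fst α with hφ
  haveI : IsOpenImmersion ι.left := hj.property_snd α
  have hφe : RepWith @Etale φ := (RepWith @Etale).of_isPullback sqW.flip hα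
  have hP : P (ι ≫ h).left := hloc φ β (ι ≫ h) hφe hβ (by
    rw [← Category.assoc, sqW.w, Category.assoc, comm, Functor.map_comp, Category.assoc])
  obtain ⟨x₀, hx₀⟩ := hu
  obtain ⟨pw, hpw1, hpw2⟩ := exists_point_of_isPullback sqW x₀ (Points.ofScheme U u) (by
    rw [hx₀, ← Points.ofPt_eq_map_ofScheme])
  obtain ⟨w₀, rfl⟩ := (Points.schemeEquiv W₀).surjective pw
  change Points.map _ (Points.ofScheme W₀ w₀) = _ at hpw2
  rw [← Points.ofPt_eq_map_ofScheme, ofPt_yon_map] at hpw2
  have hw₀ : ι.left w₀ = u := (Points.schemeEquiv U).injective hpw2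
  refine ⟨ι.left.opensRange, ⟨w₀, hw₀⟩, ?_⟩
  have e : ι.left.opensRange.ι =
      (IsOpenImmersion.isoOfRangeEq ι.left.opensRange.ι ι.left (by simp)).hom ≫ ι.left :=
    (IsOpenImmersion.isoOfRangeEq_hom_fac _ _ _).symm
  rw [e, Category.assoc]
  exact (P.cancel_left_of_respectsIso _ _).2 hP

/-- The locus where `f` has `P` near the point (read on some chart) is open. -/
theorem isOpen_setOf_hasAtMor_nbhd (P : MorphismProperty Scheme.{u}) {X Y : Sp S} (f : X ⟶ Y) :
    IsOpen {x : Points X | HasAtMor (fun U _ h u => ∃ W : U.Opens, u ∈ W ∧ P (W.ι ≫ h)) f x} := by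
  rw [isOpen_iff_forall_mem_open]
  rintro x ⟨U, V, a, b, h, u, hae, hbe, comm, hux, W, huW, hPW⟩
  refine ⟨Points.ofPt a '' (W : Set U.left), ?_, isOpenMap_ofPt_of_etale a hae _ W.2, ⟨u, huW, hux⟩⟩
  rintro _ ⟨u', hu', rfl⟩
  exact ⟨U, V, a, b, h, u', hae, hbe, comm, rfl, W, hu', hPW⟩


/-- Cancellation: if `f ≫ q` is locally of finite type then so is `f`. -/
theorem locP_lft_of_comp {X Y Z : Sp S} (hZ : IsAlgSpace Z) (f : X ⟶ Y) (q : Y ⟶ Z)
    (hp : LocP @LocallyOfFiniteType (f ≫ q)) : LocP @LocallyOfFiniteType f := by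
  intro U V α β h hα hβ comm
  obtain ⟨W, δ, hδe, hδs⟩ := hZ.atlas
  have sqV := hδe.rep.isPullback' (β ≫ q)
  set V' := hδe.rep.pullback (β ≫ q) with hV'
  set k : V' ⟶ W := hδe.rep.fst' (β ≫ q) with hk
  set e : V' ⟶ V := hδe.rep.snd (β ≫ q) with he
  have hee : Etale e.left := hδe.property_snd _
  have hes : Surjective e.left := hδs.property_snd _
  have sqU := IsPullback.of_hasPullback h e
  set U' := pullback h e with hU'
  set π₁ : U' ⟶ U := pullback.fst h e with hπ₁
  set π₂ : U' ⟶ V' := pullback.snd h e with hπ₂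
  have sqUl : IsPullback π₁.left π₂.left h.left e.left := sqU.map (Over.forget S)
  have hπ₁e : Etale π₁.left := MorphismProperty.of_isPullback sqUl.flip hee
  have hπ₁s : Surjective π₁.left := MorphismProperty.of_isPullback sqUl.flip hes
  have hchart : LocallyOfFiniteType (π₂ ≫ k).left := by
    refine hp ((yon S).map π₁ ≫ α) δ (π₂ ≫ k)
      ((RepWith @Etale).comp_mem _ _ ((repWith_yon_map_iff _ π₁).2 hπ₁e) hα) hδe ?_
    have e1 : π₁ ≫ h = π₂ ≫ e := pullback.condition
    calc ((yon S).map π₁ ≫ α) ≫ f ≫ q = (yon S).map π₁ ≫ (α ≫ f) ≫ q := by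
          simp only [Category.assoc]
      _ = (yon S).map (π₁ ≫ h) ≫ β ≫ q := by
          rw [comm, Functor.map_comp]; simp only [Category.assoc]
      _ = (yon S).map π₂ ≫ (yon S).map e ≫ β ≫ q := by
          rw [e1, Functor.map_comp]; simp only [Category.assoc]
      _ = (yon S).map (π₂ ≫ k) ≫ δ := by
          rw [← sqV.w, Functor.map_comp]; simp only [Category.assoc]
  have h1 : LocallyOfFiniteType (π₂.left ≫ k.left) := hchart
  haveI h2 : LocallyOfFiniteType π₂.left := locallyOfFiniteType_of_comp π₂.left k.left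
  have h3 : LocallyOfFiniteType (π₁.left ≫ h.left) := by
    rw [sqUl.w]; infer_instance
  exact srcEtLoc_lft π₁.left h.left hπ₁e hπ₁s h3

end Groth.Agent.Helper15.ChartBC
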