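import Mathlib
import Groth.Prelude
import Groth.Agent.Lib.Helper15.GenFin12
import Groth.Agent.Lib.Helper15.QcLocal
import Groth.Agent.Lib.Helper15.AlgSpDecent2

/-!
# Finite fibres over codimension zero points and finiteness over a neighbourhood
-/

set_option autoImplicit false
universe u
open CategoryTheory CategoryTheory.Limits AlgebraicGeometry MorphismProperty Opposite
open AlgSp Groth.Agent.Helper16.AS

namespace Groth.Agent.Helper15.FinFibA

open Groth.Agent.Helper15 Groth.Agent.Helper15.Strat Groth.Agent.Helper15.Norm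
  Groth.Agent.Helper15.MaxPts Groth.Agent.Helper15.GenFin

variable {S : Scheme.{u}}

/-- A finite morphism of algebraic spaces has finite fibres on points. -/
theorem finite_fibre_of_isFiniteMor {X Y : Sp S} (hY : IsAlgSpace Y) (f : X ⟶ Y)
    (hf : IsFiniteMor f) (y : Points Y) : (Points.map f ⁻¹' {y}).Finite := by
  obtain ⟨T, hT, p₀, t, hp₀, rfl⟩ := exists_affine_etale_nbhd hY y
  obtain ⟨W, i, fst, sq, hW, hi⟩ := hf hT p₀
  haveI := hi
  have hfin : (i.left ⁻¹' {t}).Finite := i.left.finite_preimage_singleton t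
  refine (hfin.image (fun w => Points.map fst (Points.ofScheme W w))).subset ?_
  intro x hx
  have hx' : Points.map f x = Points.map p₀ (Points.ofScheme T t) := by
    rw [← Points.ofPt_eq_map_ofScheme]
    exact hx
  obtain ⟨p, hp1, hp2⟩ := exists_point_of_isPullback sq x (Points.ofScheme T t) hx'
  obtain ⟨w, rfl⟩ := (Points.schemeEquiv W).surjective p
  refine ⟨w, ?_, hp1⟩
  change Points.map ((yon S).map i) (Points.ofScheme W w) = _ at hp2
  rw [← Points.ofPt_eq_map_ofScheme, ofPt_yon_map] at hp2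
  exact (Points.schemeEquiv T).injective hp2

/-- Precomposing a quasi-separated morphism with a monomorphism. -/
theorem isQuasiSeparatedMor_mono_comp {I X Y : Sp S} (ι : I ⟶ X) [Mono ι] (f : X ⟶ Y)
    (hf : IsQuasiSeparatedMor f) : IsQuasiSeparatedMor (ι ≫ f) :=
  (RepWith @QuasiCompact).of_isPullback (Zmt.isPullback_diagonal_mono_comp ι f) hf

/-- A quasi-compact open subspace containing a given finite set of points. -/
theorem exists_qc_open_subspace {X : Sp S} (hX : IsAlgSpace X) {F : Set (Points X)}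
    (hF : F.Finite) :
    ∃ (X₁ : Sp S) (j₁ : X₁ ⟶ X), IsAlgSpace X₁ ∧ RepWith @IsOpenImmersion j₁ ∧
      IsQuasiCompactSp X₁ ∧ F ⊆ Set.range (Points.map j₁) := by
  classical
  choose Wx hWo hWc hxW using fun x : Points X => exists_isOpen_isCompact_mem hX x
  let W : Set (Points X) := ⋃ x ∈ F, Wx x
  have hWopen : IsOpen W := isOpen_biUnion (fun x _ => hWo x)
  have hWcomp : IsCompact W := hF.isCompact_biUnion (fun x _ => hWc x)
  obtain ⟨X₁, j₁, hX₁, hj₁, hrange⟩ := exists_open_subspace_of_isOpen hX W hWopen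
  have hemb := (isEmbedding_points_of_immersion hX j₁
    (repWith_mono isOpenImmersion_le_isImmersion hj₁)).1
  haveI : CompactSpace (Points X₁) := by
    rw [← isCompact_univ_iff, hemb.isCompact_iff, Set.image_univ, hrange]
    exact hWcomp
  refine ⟨X₁, j₁, hX₁, hj₁, isQuasiCompactSp_of_compactSpace_points hX₁, ?_⟩
  rw [hrange]
  exact fun x hx => Set.mem_biUnion hx (hxW x)

/-- A morphism locally of finite type from a decent space to a quasi-separated space with a
finite fibre is quasi-finite at the points of that fibre. -/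
theorem hasAtMor_qf_of_finite_fibre [QuasiSeparatedSpace ↥S] {X Y : Sp S} (hX : IsAlgSpace X)
    (hY : IsAlgSpace Y) (hXd : IsDecent X) (hYqs : IsQuasiSeparatedSp Y) (f : X ⟶ Y)
    (hf : LocP @LocallyOfFiniteType f) (y : Points Y)
    (hfin : (Points.map f ⁻¹' {y}).Finite) (x : Points X) (hx : Points.map f x = y) :
    HasAtMor QFNbhd f x := by
  obtain ⟨V, hV, b, v, hbe, hbv⟩ := exists_affine_etale_nbhd hY y
  obtain ⟨U, hU, a, u, hae, hau⟩ := exists_affine_etale_nbhd hX x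
  haveI := hV
  haveI := hU
  have sqW := hbe.rep.isPullback' (a ≫ f)
  set g := hbe.rep.fst' (a ≫ f) with hg
  set pU := hbe.rep.snd (a ≫ f) with hpU
  haveI hpUe : Etale pU.left := hbe.property_snd (a ≫ f)
  have hbqc : RepWith @QuasiCompact b :=
    repWith_quasiCompact_of_isQuasiCompactMor b hbe.rep
      (isQuasiCompactMor_of_quasiCompact_of_quasiSeparated b
        ((isQuasiCompactSp_yon_iff V).2 inferInstance) hYqs)
  haveI hpUqc : QuasiCompact pU.left := hbqc.property_snd (a ≫ f)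
  haveI : LocallyQuasiFinite pU.left := locallyQuasiFinite_of_etale pU.left
  have hae' : RepWith @Etale ((yon S).map pU ≫ a) :=
    (RepWith @Etale).comp_mem _ _ ((repWith_yon_map_iff _ _).2 hpUe) hae
  have comm : ((yon S).map pU ≫ a) ≫ f = (yon S).map g ≫ b := by
    rw [Category.assoc]
    exact sqW.w.symm
  haveI hglft : LocallyOfFiniteType g.left := hf _ b g hae' hbe comm
  -- the fibre of `g` over `v` is finite
  have hUfin : (Points.ofPt a ⁻¹' (Points.map f ⁻¹' {y})).Finite := by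
    have : Points.ofPt a ⁻¹' (Points.map f ⁻¹' {y}) =
        ⋃ x' ∈ (Points.map f ⁻¹' {y}), Points.ofPt a ⁻¹' {x'} := by
      ext z
      simp
    rw [this]
    exact hfin.biUnion (fun x' _ => finite_fibre_of_isDecent hXd x' a hae)
  have hgfin : (g.left ⁻¹' {v}).Finite := by
    refine (pU.left.finite_preimage hUfin).subset ?_
    intro w hw
    change Points.map f (Points.ofPt a (pU.left w)) = y
    rw [← ofPt_comp_yon_map, Points.map_ofPt, comm, ofPt_comp_yon_map, hw, hbv]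
  obtain ⟨w, hw1, hw2⟩ := exists_of_ofPt_eq sqW v u (by
    rw [hbv, ← Points.map_ofPt, hau, hx])
  have hqf : g.left.QuasiFiniteAt w := by
    have hgw : g.left w = v := hw1
    have : Finite (g.left.fiber (g.left w)) :=
      (g.left.fiberHomeo (g.left w)).finite_iff.mpr (by rw [hgw]; exact hgfin.to_subtype)
    exact Scheme.Hom.quasiFiniteAt_iff_isOpen_singleton_asFiber.mpr (isOpen_discrete _)
  have := (hasAtMor_qf_iff_chart hX hY f hf _ b g hae' hbe comm w).2 hqf
  rwa [ofPt_comp_yon_map, hw2, hau] at this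

end Groth.Agent.Helper15.FinFibA

namespace Groth.Agent.Helper15.FinFibA

open Groth.Agent.Helper15 Groth.Agent.Helper15.Strat Groth.Agent.Helper15.Norm
  Groth.Agent.Helper15.MaxPts Groth.Agent.Helper15.GenFin

variable {S : Scheme.{u}}

/-- **Finite fibre over a codimension zero point gives a finite restriction between opens.** -/
theorem exists_finite_restriction [QuasiSeparatedSpace ↥S] {X Y : Sp S} (hX : IsAlgSpace X)
    (hY : IsAlgSpace Y) (f : X ⟶ Y) (hqs : IsQuasiSeparatedMor f)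
    (hft : LocP @LocallyOfFiniteType f) (hYqs : IsQuasiSeparatedSp Y) (y : Points Y)
    (hy : HasAt (fun U u => ringKrullDim ↥(U.presheaf.stalk u) = 0) Y y)
    (hfin : (Points.map f ⁻¹' {y}).Finite) :
    ∃ (X' Y' : Sp S) (i : X' ⟶ X) (j : Y' ⟶ Y) (f' : X' ⟶ Y'), IsAlgSpace X' ∧ IsAlgSpace Y' ∧
      RepWith @IsOpenImmersion i ∧ RepWith @IsOpenImmersion j ∧ f' ≫ j = i ≫ f ∧
      y ∈ Set.range (Points.map j) ∧ Points.map f ⁻¹' {y} ⊆ Set.range (Points.map i) ∧
      IsFiniteMor f' := by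
  -- a quasi-compact open of the base
  obtain ⟨Y₁, j₁, hY₁, hj₁, hY₁qc, hyY₁⟩ := exists_qc_open_subspace hY (Set.finite_singleton y)
  obtain ⟨y₁, hy₁⟩ := hyY₁ (Set.mem_singleton y)
  haveI : Mono j₁ := mono_of_repWith_isOpenImmersion j₁ hj₁
  have hY₁qs : IsQuasiSeparatedSp Y₁ := isQuasiSeparatedSp_of_mono j₁ hYqs
  -- the preimage
  have sq₂ : IsPullback (pullback.fst f j₁) (pullback.snd f j₁) f j₁ :=
    IsPullback.of_hasPullback _ _
  set i₂ := pullback.fst f j₁ with hi₂def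
  set f₂ := pullback.snd f j₁ with hf₂def
  have hX₂ : IsAlgSpace (pullback f j₁) := isAlgSpace_of_isPullback hY.diag hX hY₁ sq₂
  have hi₂ : RepWith @IsOpenImmersion i₂ :=
    (RepWith @IsOpenImmersion).of_isPullback sq₂.flip hj₁
  have hi₂inj := points_map_injective_of_isOpenImmersion hX i₂ hi₂
  have hlft₂ : LocP @LocallyOfFiniteType f₂ :=
    locP_of_isPullback goodP_lft srcEtLoc_lft hX hY hY₁ sq₂ hft
  have hqs₂ : IsQuasiSeparatedMor f₂ := isQuasiSeparatedMor_of_isPullback' sq₂ hqs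
  have hF₂ : (Points.map f₂ ⁻¹' {y₁}).Finite := by
    refine (hfin.preimage (Set.injOn_of_injective hi₂inj)).subset ?_
    intro x₂ hx₂
    have hx₂' : Points.map f₂ x₂ = y₁ := hx₂
    change Points.map f (Points.map i₂ x₂) = y
    rw [← Points.map_comp, sq₂.w, Points.map_comp, hx₂', hy₁]
  -- a quasi-compact open containing the fibre
  obtain ⟨X₁, j₂, hX₁, hj₂, hX₁qc, hF₂X₁⟩ := exists_qc_open_subspace hX₂ hF₂
  haveI : Mono j₂ := mono_of_repWith_isOpenImmersion j₂ hj₂
  have hj₂e : RepWith @Etale j₂ := repWith_mono isOpenImmersion_le_etale hj₂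
  have hlft₁ : LocP @LocallyOfFiniteType (j₂ ≫ f₂) := Zmt.locP_etale_comp j₂ hj₂e f₂ hlft₂
  have hqs₁ : IsQuasiSeparatedMor (j₂ ≫ f₂) := isQuasiSeparatedMor_mono_comp j₂ f₂ hqs₂
  have hqc₁ : IsQuasiCompactMor (j₂ ≫ f₂) :=
    isQuasiCompactMor_of_quasiCompact_of_quasiSeparated (j₂ ≫ f₂) hX₁qc hY₁qs
  have hX₁qs : IsQuasiSeparatedSp X₁ :=
    isQuasiSeparatedSp_of_isQuasiSeparatedMor (j₂ ≫ f₂) hqs₁ hY₁qs
  have hX₁d : IsDecent X₁ := QcLocal.isDecent_of_isQuasiSeparatedSp hX₁ hX₁qs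
  have hj₂inj := points_map_injective_of_isOpenImmersion hX₂ j₂ hj₂
  have hF₁ : (Points.map (j₂ ≫ f₂) ⁻¹' {y₁}).Finite := by
    refine (hF₂.preimage (Set.injOn_of_injective hj₂inj)).subset ?_
    intro x₁ hx₁
    have hx₁' : Points.map (j₂ ≫ f₂) x₁ = y₁ := hx₁
    change Points.map f₂ (Points.map j₂ x₁) = y₁
    rw [← Points.map_comp]
    exact hx₁'
  have hy₁c0 : HasAt (fun U u => ringKrullDim ↥(U.presheaf.stalk u) = 0) Y₁ y₁ :=
    (hasAt_iff_of_isEtaleMor (etInv_ringKrullDim_stalk 0) hY₁ j₁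
      (isEtaleMor_of_isOpenImmersion j₁ hj₁) y₁).2 (by rw [hy₁]; exact hy)
  have hqf₁ : ∀ x : Points X₁, Points.map (j₂ ≫ f₂) x = y₁ → HasAtMor QFNbhd (j₂ ≫ f₂) x :=
    fun x hx => hasAtMor_qf_of_finite_fibre hX₁ hY₁ hX₁d hY₁qs (j₂ ≫ f₂) hlft₁ y₁ hF₁ x hx
  obtain ⟨Y', j', hY', hj', hy'mem, hfin'⟩ :=
    exists_open_finite hX₁ hY₁ (j₂ ≫ f₂) hqs₁ ⟨hlft₁, hqc₁⟩ y₁ hy₁c0 hqf₁
  have sq' : IsPullback (pullback.fst j' (j₂ ≫ f₂)) (pullback.snd j' (j₂ ≫ f₂)) j' (j₂ ≫ f₂) :=
    IsPullback.of_hasPullback _ _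
  set f' := pullback.fst j' (j₂ ≫ f₂) with hf'def
  set i' := pullback.snd j' (j₂ ≫ f₂) with hi'def
  have hX' : IsAlgSpace (pullback j' (j₂ ≫ f₂)) :=
    isAlgSpace_of_isPullback hY₁.diag hY' hX₁ sq'
  have hi' : RepWith @IsOpenImmersion i' := (RepWith @IsOpenImmersion).of_isPullback sq' hj'
  obtain ⟨y'', hy''⟩ := hy'mem
  refine ⟨pullback j' (j₂ ≫ f₂), Y', i' ≫ j₂ ≫ i₂, j' ≫ j₁, f', hX', hY',
    (RepWith @IsOpenImmersion).comp_mem _ _ hi'
      ((RepWith @IsOpenImmersion).comp_mem _ _ hj₂ hi₂),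
    (RepWith @IsOpenImmersion).comp_mem _ _ hj' hj₁, ?_, ?_, ?_, hfin' _ _ _ sq'⟩
  · rw [← Category.assoc, sq'.w]
    simp only [Category.assoc]
    rw [sq₂.w]
  · exact ⟨y'', by rw [Points.map_comp, hy'', hy₁]⟩
  · intro x hx
    have hx' : Points.map f x = y := hx
    obtain ⟨x₂, hx₂1, hx₂2⟩ := exists_point_of_isPullback sq₂ x y₁ (by rw [hy₁]; exact hx')
    obtain ⟨x₁, hx₁⟩ := hF₂X₁ (show x₂ ∈ Points.map f₂ ⁻¹' {y₁} from hx₂2)
    have h1 : Points.map j' y'' = Points.map (j₂ ≫ f₂) x₁ := by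
      rw [Points.map_comp, hx₁, hx₂2, hy'']
    obtain ⟨x', -, hx'2⟩ := exists_point_of_isPullback sq' y'' x₁ h1
    exact ⟨x', by rw [Points.map_comp, Points.map_comp, hx'2, hx₁, hx₂1]⟩

/-- Converse: a finite restriction between opens containing the fibre gives a finite fibre. -/
theorem finite_fibre_of_finite_restriction {X Y X' Y' : Sp S} (hY : IsAlgSpace Y)
    (hY' : IsAlgSpace Y') (f : X ⟶ Y) (i : X' ⟶ X) (j : Y' ⟶ Y) (f' : X' ⟶ Y')
    (hj : RepWith @IsOpenImmersion j) (comm : f' ≫ j = i ≫ f) (y : Points Y)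
    (hy : y ∈ Set.range (Points.map j))
    (hsub : Points.map f ⁻¹' {y} ⊆ Set.range (Points.map i)) (hf' : IsFiniteMor f') :
    (Points.map f ⁻¹' {y}).Finite := by
  obtain ⟨y', rfl⟩ := hy
  have hjinj := points_map_injective_of_isOpenImmersion hY j hj
  refine ((finite_fibre_of_isFiniteMor hY' f' hf' y').image (Points.map i)).subset ?_
  intro x hx
  obtain ⟨x', rfl⟩ := hsub hx
  refine ⟨x', ?_, rfl⟩
  apply hjinj
  have hx' : Points.map f (Points.map i x') = Points.map j y' := hx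
  rw [← Points.map_comp, comm, Points.map_comp]
  exact hx'

end Groth.Agent.Helper15.FinFibA
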