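import Groth.Agent.Lib.Helper15.TrdegComp
import Groth.Agent.Lib.Helper15.AlgSpLocPListed2
import Groth.Agent.Lib.Helper14.ResFieldBridge
import Mathlib.RingTheory.QuasiFinite.Basic
import Mathlib.AlgebraicGeometry.Morphisms.QuasiFinite

set_option autoImplicit false
universe u

open CategoryTheory CategoryTheory.Limits AlgebraicGeometry Opposite

namespace Groth.Agent.Helper15.Trdeg

open AlgSp Groth.Agent.Helper16.AS

theorem isAlgebraic_of_quasiFinite_of_isDomain {R B : Type u} [CommRing R] [IsDomain R] [CommRing B]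
    [IsDomain B] [Algebra R B] [FaithfulSMul R B] [Algebra.QuasiFinite R B] :
    Algebra.IsAlgebraic R B := by
  let K := FractionRing R
  let L := FractionRing B
  have : FaithfulSMul R L := by
    rw [faithfulSMul_iff_algebraMap_injective, IsScalarTower.algebraMap_eq R B L]
    exact (IsFractionRing.injective B L).comp (FaithfulSMul.algebraMap_injective R B)
  let _ : Algebra K L := FractionRing.liftAlgebra R L
  have : Algebra.QuasiFinite R L := Algebra.QuasiFinite.trans R B L
  have : Algebra.QuasiFinite K L := Algebra.QuasiFinite.of_restrictScalars R K L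
  have : Module.Finite K L := Module.Finite.of_quasiFinite
  have : Algebra.IsAlgebraic K L := Algebra.IsAlgebraic.of_finite K L
  have : Algebra.IsAlgebraic R L :=
    (IsFractionRing.comap_isAlgebraic_iff (A := R) (K := K) (C := L)).2 ‹_›
  exact Algebra.IsAlgebraic.of_injective (IsScalarTower.toAlgHom R B L) (IsFractionRing.injective B L)

theorem trdeg_quotient_eq_zero_of_quasiFinite {R A : Type u} [CommRing R] [CommRing A] [Algebra R A]
    [Algebra.QuasiFinite R A] (p : Ideal R) [p.IsPrime] (q : Ideal A) [q.IsPrime] [q.LiesOver p] :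
    Algebra.trdeg (R ⧸ p) (A ⧸ q) = 0 := by
  have : Algebra.QuasiFinite R (A ⧸ q) := inferInstance
  have : Algebra.QuasiFinite (R ⧸ p) (A ⧸ q) := Algebra.QuasiFinite.of_restrictScalars R _ _
  have : FaithfulSMul (R ⧸ p) (A ⧸ q) := inferInstance
  have := isAlgebraic_of_quasiFinite_of_isDomain (R := R ⧸ p) (B := A ⧸ q)
  exact trdeg_eq_zero

theorem resTrdeg_eq_zero_of_locallyQuasiFinite {X Y : Scheme.{u}} (f : X ⟶ Y)
    [LocallyQuasiFinite f] (x : X) : Dual3.resTrdeg f x = 0 := by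
  unfold Dual3.resTrdeg
  obtain ⟨V, hV, hxV, -⟩ :=
    exists_isAffineOpen_mem_and_subset (X := Y) (x := f x) (U := ⊤) trivial
  obtain ⟨U, hU, hxU, hUV⟩ :=
    exists_isAffineOpen_mem_and_subset (X := X) (x := x) (U := f ⁻¹ᵁ V) hxV
  letI alg : Algebra Γ(Y, V) Γ(X, U) := (f.appLE V U hUV).hom.toAlgebra
  have halg : algebraMap Γ(Y, V) Γ(X, U) = (f.appLE V U hUV).hom := rfl
  haveI : Algebra.QuasiFinite Γ(Y, V) Γ(X, U) := LocallyQuasiFinite.quasiFinite_appLE hV hU hUV
  let q : Ideal Γ(X, U) := (hU.primeIdealOf ⟨x, hxU⟩).asIdeal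
  haveI : q.IsPrime := (hU.primeIdealOf ⟨x, hxU⟩).isPrime
  let p : Ideal Γ(Y, V) := q.under Γ(Y, V)
  haveI : p.IsPrime := inferInstance
  haveI : q.LiesOver p := inferInstance
  rw [Groth.Agent.Helper14.ResFieldBridge.trdeg_residueField_eq f hU hV hUV x hxU halg p q rfl]
  exact trdeg_quotient_eq_zero_of_quasiFinite p q

variable {S : Scheme.{u}}

/-- A chart diagram through a given point, for a morphism of algebraic spaces with `LocP P`. -/
theorem exists_chart_at {P : MorphismProperty Scheme.{u}} {X Y : Sp S} (hX : IsAlgSpace X)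
    (hY : IsAlgSpace Y) (f : X ⟶ Y) (hf : LocP P f) (x : Points X) :
    ∃ (U V : Over S) (a : (yon S).obj U ⟶ X) (b : (yon S).obj V ⟶ Y) (h : U ⟶ V) (u : U.left),
      RepWith @Etale a ∧ RepWith @Etale b ∧ a ≫ f = (yon S).map h ≫ b ∧ Points.ofPt a u = x ∧
        P h.left := by
  obtain ⟨V₀, U₀, q, r, h₀, hqe, hqs, hre, hrs, hh, hP₀⟩ := exists_charts_of_locP hX hY f hf
  have hfst : RepWith @Etale (pullback.fst f q) :=
    (RepWith @Etale).of_isPullback (IsPullback.of_hasPullback f q).flip hqe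
  have hfsts : RepWith @Surjective (pullback.fst f q) :=
    (RepWith @Surjective).of_isPullback (IsPullback.of_hasPullback f q).flip hqs
  have hae : RepWith @Etale (r ≫ pullback.fst f q) := (RepWith @Etale).comp_mem _ _ hre hfst
  have has : RepWith @Surjective (r ≫ pullback.fst f q) :=
    (RepWith @Surjective).comp_mem _ _ hrs hfsts
  obtain ⟨u, hu⟩ := surjective_ofPt _ has x
  refine ⟨U₀, V₀, r ≫ pullback.fst f q, q, h₀, u, hae, hqe, ?_, hu, hP₀⟩
  rw [Category.assoc, pullback.condition, ← Category.assoc, hh]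

/-- The transcendence degree at a point does not depend on the chart diagram. -/
theorem hasAtMor_resTrdeg_unique {X Z : Sp S} (φ : X ⟶ Z) (x : Points X) (r r' : Cardinal.{u})
    (h1 : HasAtMor (fun _ _ h u => Dual3.resTrdeg h u = r) φ x)
    (h2 : HasAtMor (fun _ _ h u => Dual3.resTrdeg h u = r') φ x) : r = r' := by
  obtain ⟨U, W, a, c, k, u, ha, hc, comm1, hx, Q1⟩ := h1
  obtain ⟨U', W', a', c', k', u', ha', hc', comm2, hx', Q2⟩ := h2
  -- `W'' = W ×_Z W'`
  have sqW := hc.rep.isPullback' c'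
  set W'' := hc.rep.pullback c' with hW''
  set π₁ : W'' ⟶ W := hc.rep.fst' c' with hπ₁
  set π₂ : W'' ⟶ W' := hc.rep.snd c' with hπ₂
  have hπ₂e : Etale π₂.left := hc.property_snd c'
  have hπ₁e : Etale π₁.left :=
    (repWith_yon_map_iff _ π₁).1 ((RepWith @Etale).of_isPullback sqW.flip hc')
  -- `U'' = U ×_X U'`
  have sqU := ha.rep.isPullback' a'
  set U'' := ha.rep.pullback a' with hU''
  set ρ₁ : U'' ⟶ U := ha.rep.fst' a' with hρ₁
  set ρ₂ : U'' ⟶ U' := ha.rep.snd a' with hρ₂
  have hρ₂e : Etale ρ₂.left := ha.property_snd a'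
  have hρ₁e : Etale ρ₁.left :=
    (repWith_yon_map_iff _ ρ₁).1 ((RepWith @Etale).of_isPullback sqU.flip ha')
  obtain ⟨u'', hu1, hu2⟩ := exists_of_ofPt_eq sqU u u' (hx.trans hx'.symm)
  -- the induced map `U'' ⟶ W''`
  have hw : (yon S).map (ρ₁ ≫ k) ≫ c = (yon S).map (ρ₂ ≫ k') ≫ c' := by
    rw [Functor.map_comp, Functor.map_comp, Category.assoc, Category.assoc, ← comm1, ← comm2,
      ← Category.assoc, ← Category.assoc, sqU.w]
  obtain ⟨k'', hk''⟩ := (yon S).map_surjective (sqW.lift _ _ hw)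
  have e1 : k'' ≫ π₁ = ρ₁ ≫ k := (yon S).map_injective (by
    rw [Functor.map_comp, hk'', sqW.lift_fst])
  have e2 : k'' ≫ π₂ = ρ₂ ≫ k' := (yon S).map_injective (by
    rw [Functor.map_comp, hk'', sqW.lift_snd])
  have e1' : k''.left ≫ π₁.left = ρ₁.left ≫ k.left := congrArg (fun m => m.left) e1
  have e2' : k''.left ≫ π₂.left = ρ₂.left ≫ k'.left := congrArg (fun m => m.left) e2
  have t1 : Dual3.resTrdeg k''.left u'' = r := by
    have := resTrdeg_comp k''.left π₁.left u''
    rw [resTrdeg_eq_zero_of_etale π₁.left, zero_add, e1', resTrdeg_comp,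
      resTrdeg_eq_zero_of_etale ρ₁.left, add_zero, hu1, Q1] at this
    exact this.symm
  have t2 : Dual3.resTrdeg k''.left u'' = r' := by
    have := resTrdeg_comp k''.left π₂.left u''
    rw [resTrdeg_eq_zero_of_etale π₂.left, zero_add, e2', resTrdeg_comp,
      resTrdeg_eq_zero_of_etale ρ₂.left, add_zero, hu2, Q2] at this
    exact this.symm
  exact t1.symm.trans t2

theorem hasAtMor_resTrdeg_comp_iff_of_locallyQuasiFinite {X Y Z : Sp S} (hX : IsAlgSpace X)
    (hY : IsAlgSpace Y) (hZ : IsAlgSpace Z) (f : X ⟶ Y) (g : Y ⟶ Z)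
    (hf : LocP (@LocallyQuasiFinite ⊓ @LocallyOfFiniteType) f) (hg : LocP @LocallyOfFiniteType g)
    (x : Points X) (r : Cardinal.{u}) :
    HasAtMor (fun _ _ h u => Dual3.resTrdeg h u = r) (f ≫ g) x ↔
      HasAtMor (fun _ _ h u => Dual3.resTrdeg h u = r) g (Points.map f x) := by
  have hf0 : HasAtMor (fun _ _ h u => Dual3.resTrdeg h u = 0) f x := by
    obtain ⟨U, V, a, b, h, u, ha, hb, comm, hx, hP⟩ := exists_chart_at hX hY f hf x
    haveI : LocallyQuasiFinite h.left := hP.1
    exact ⟨U, V, a, b, h, u, ha, hb, comm, hx, resTrdeg_eq_zero_of_locallyQuasiFinite h.left u⟩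
  constructor
  · intro h
    obtain ⟨V', W, b', c, h', v', hb', hc, comm, hy, -⟩ :=
      exists_chart_at hY hZ g hg (Points.map f x)
    have h2 : HasAtMor (fun _ _ h u => Dual3.resTrdeg h u = Dual3.resTrdeg h'.left v') g
        (Points.map f x) := ⟨V', W, b', c, h', v', hb', hc, comm, hy, rfl⟩
    have h3 := hasAtMor_resTrdeg_comp f g x 0 _ hf0 h2
    rw [zero_add] at h3
    rw [hasAtMor_resTrdeg_unique (f ≫ g) x _ _ h h3]
    exact h2
  · intro h
    have := hasAtMor_resTrdeg_comp f g x 0 r hf0 h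
    rwa [zero_add] at this

end Groth.Agent.Helper15.Trdeg
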