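import Mathlib
import Groth.Agent.Lib.Helper15.FinFibA
import Groth.Agent.Lib.Helper15.TrdegQF
import Groth.Agent.Lib.Helper16.AlgSp.QFAtSp

set_option autoImplicit false
set_option linter.unusedSectionVars false
set_option linter.unusedVariables false
set_option linter.style.haveILetI false
universe u

open CategoryTheory CategoryTheory.Limits AlgebraicGeometry MorphismProperty Opposite
open AlgSp Groth.Agent.Helper16.AS
open Groth.Agent.Helper15 Groth.Agent.Helper15.Strat Groth.Agent.Helper15.Norm

namespace Groth.Agent.Helper15.CollFib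

variable {S : Scheme.{u}}

/-- A morphism locally of finite type from a decent space with a finite fibre is quasi-finite at
the points of that fibre. -/
theorem hasAtMor_qf_of_finite_fibre_decent {X Y : Sp S} (hX : IsAlgSpace X)
    (hY : IsAlgSpace Y) (hXd : IsDecent X) (f : X ⟶ Y)
    (hf : LocP @LocallyOfFiniteType f) (y : Points Y)
    (hfin : (Points.map f ⁻¹' {y}).Finite) (x : Points X) (hx : Points.map f x = y) :
    HasAtMor QFNbhd f x := by
  obtain ⟨U, V, a, b, h, u, ha, hb, comm, hu, hlft⟩ := Trdeg.exists_chart_at hX hY f hf x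
  obtain ⟨_, ⟨O₀, hO₀, rfl⟩, huO, -⟩ :=
    (U.left.isBasis_affineOpens).exists_subset_of_mem_open (Set.mem_univ u) isOpen_univ
  let O : U.left.Opens := O₀
  haveI : IsAffine (opSub U O).left := hO₀
  set a' : (yon S).obj (opSub U O) ⟶ X := (yon S).map (opι U O) ≫ a with ha'def
  have ha' : RepWith @Etale a' := (RepWith @Etale).comp_mem _ _
    ((repWith_yon_map_iff _ _).2 (inferInstance : Etale O.ι)) ha
  set h' : opSub U O ⟶ V := opι U O ≫ h with hh'def
  have comm' : a' ≫ f = (yon S).map h' ≫ b := by
    rw [ha'def, hh'def, Category.assoc, comm, Functor.map_comp, Category.assoc]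
  haveI : LocallyOfFiniteType h'.left := hf a' b h' ha' hb comm'
  let w : (opSub U O).left := ⟨u, huO⟩
  have hw : Points.ofPt a' w = x := by
    rw [ha'def, ofPt_comp_yon_map]; exact hu
  have hUfin : (Points.ofPt a' ⁻¹' (Points.map f ⁻¹' {y})).Finite := by
    have : Points.ofPt a' ⁻¹' (Points.map f ⁻¹' {y}) =
        ⋃ x' ∈ (Points.map f ⁻¹' {y}), Points.ofPt a' ⁻¹' {x'} := by
      ext z
      simp
    rw [this]
    exact hfin.biUnion (fun x' _ => finite_fibre_of_isDecent hXd x' a' ha')
  have hbw : ∀ w' : (opSub U O).left,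
      Points.map f (Points.ofPt a' w') = Points.ofPt b (h'.left w') := by
    intro w'
    rw [Points.map_ofPt, comm', ofPt_comp_yon_map]
  have hgfin : (h'.left ⁻¹' {h'.left w}).Finite := by
    refine hUfin.subset ?_
    intro w' hw'
    have hw'' : h'.left w' = h'.left w := hw'
    change Points.map f (Points.ofPt a' w') = y
    rw [hbw, hw'', ← hbw, hw, hx]
  have hqf : h'.left.QuasiFiniteAt w := by
    have : Finite (h'.left.fiber (h'.left w)) :=
      (h'.left.fiberHomeo (h'.left w)).finite_iff.mpr hgfin.to_subtype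
    exact Scheme.Hom.quasiFiniteAt_iff_isOpen_singleton_asFiber.mpr (isOpen_discrete _)
  have := (hasAtMor_qf_iff_chart hX hY f hf a' b h' ha' hb comm' w).2 hqf
  rwa [hw] at this

end Groth.Agent.Helper15.CollFib
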