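import Mathlib
import Groth.Agent.Lib.Helper15.CollFib1
import Groth.Agent.Lib.Helper15.AlgSpProper
import Groth.Agent.Lib.Helper15.AlgSpProper2
import Groth.Agent.Lib.Helper15.AlgSpOpen
import Groth.Agent.Lib.Helper15.QsDecent
import Groth.Agent.Lib.Helper15.ZmtSp1
import Groth.Agent.Lib.Helper16.AlgSp.ProperSp2
import Groth.Agent.Lib.Helper19.FibQf.Qf
import Groth.Agent.S9964
import Groth.Agent.S9965
import Groth.Agent.S10381
import Groth.Agent.S10423
import Groth.Agent.S10650

set_option autoImplicit false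
set_option linter.unusedSectionVars false
set_option linter.unusedVariables false
set_option linter.style.haveILetI false
universe u

open CategoryTheory CategoryTheory.Limits AlgebraicGeometry MorphismProperty Opposite
open AlgSp Groth.Agent.Helper16.AS
open Groth.Agent.Helper15 Groth.Agent.Helper15.Strat Groth.Agent.Helper15.Norm

namespace Groth.Agent.Helper15.CollFib

variable {S : Scheme.{u}}

/-- the scheme theoretic image of a proper morphism `h` over `B` with `X` proper over `B` and
`Y` separated locally of finite type over `B` is proper over `B`, and `X` surjects onto it -/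
theorem exists_proper_image {X Y B : AlgSp.Space S} (h : X ⟶ Y) (f : X ⟶ B) (g : Y ⟶ B)
    (hc : h ≫ g = f) (hf : AlgSp.IsProperMor f.hom) (hg1 : AlgSp.IsSeparatedMor g.hom)
    (hg2 : AlgSp.LocP @LocallyOfFiniteType g.hom) :
    ∃ (Z : AlgSp.Space S) (i : Z ⟶ Y) (e₀ : X.obj ⟶ Z.obj),
      RepWith @IsClosedImmersion i.hom ∧ e₀ ≫ i.hom = h.hom ∧ IsSurjectiveMor e₀ ∧
      IsProperMor (i ≫ g).hom := by
  have hXa := X.property
  have hYa := Y.property
  have hBa := B.property
  have hcomm : h.hom ≫ g.hom = f.hom := by rw [← hc]; rfl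
  have hhproper : IsProperMor h.hom :=
    isProperMor_of_comp_separated hXa hYa hBa h.hom f.hom g.hom hcomm hg1 hf
  obtain ⟨Z, i, hZ⟩ := Groth.Agent.S9964.result h
  have hZ' := hZ
  obtain ⟨hi, ⟨e₀, he₀⟩, -⟩ := hZ
  have hZa := Z.property
  have hemb := (isEmbedding_points_of_immersion hYa i.hom
    (repWith_mono isClosedImmersion_le_isImmersion hi)).1
  have hsub := (Groth.Agent.S9965.result h i hhproper.2.1.2 hZ').2
  have hclosed : IsClosed (Set.range (Points.map h.hom)) :=
    (isClosedMor_of_isUnivClosedMor hYa h.hom hhproper.2.2).isClosed_range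
  have he₀s : IsSurjectiveMor e₀ := by
    intro z
    have hz : Points.map i.hom z ∈ Set.range (Points.map h.hom) := by
      have := hsub ⟨z, rfl⟩
      rwa [hclosed.closure_eq] at this
    obtain ⟨x, hx⟩ := hz
    refine ⟨x, hemb.injective ?_⟩
    rw [← Points.map_comp, he₀]; exact hx
  have hiproper := isProperMor_of_closedImmersion i.hom hi
  have hpsep : IsSeparatedMor (i.hom ≫ g.hom) :=
    isSeparatedMor_comp i.hom g.hom hiproper.1 hg1
  have hplft : LocP @LocallyOfFiniteType (i.hom ≫ g.hom) :=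
    locP_comp goodP_lft srcEtLoc_lft hZa hYa hBa i.hom g.hom hiproper.2.1.1 hg2
  have hcomp : e₀ ≫ (i.hom ≫ g.hom) = f.hom := by
    rw [← Category.assoc, he₀, hcomm]
  have hpqc : IsQuasiCompactMor (i.hom ≫ g.hom) :=
    isQuasiCompactMor_of_surjective_comp hZa hBa e₀ _ he₀s (by rw [hcomp]; exact hf.2.1.2)
  have hpuc : IsUnivClosedMor (i.hom ≫ g.hom) :=
    isUnivClosedMor_of_surjective_over e₀ f.hom _ hcomp hf.2.2 he₀s
  exact ⟨Z, i, e₀, hi, he₀, he₀s, ⟨hpsep, ⟨hplft, hpqc⟩, hpuc⟩⟩

end Groth.Agent.Helper15.CollFib
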