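import Mathlib
import Groth.Agent.Lib.Helper15.CollFib2

set_option autoImplicit false
set_option linter.unusedSectionVars false
set_option linter.unusedVariables false
set_option linter.style.haveILetI false
universe u

open CategoryTheory CategoryTheory.Limits AlgebraicGeometry MorphismProperty Opposite
open AlgSp Groth.Agent.Helper16.AS
open Groth.Agent.Helper15 Groth.Agent.Helper15.Strat Groth.Agent.Helper15.Norm

namespace Groth.Agent.Helper15.CollFib

variable {S : Scheme.{u}}

/-- quasi-finiteness at the points over `b`, case (b): finite image of the fibre and decent base -/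
theorem qf_of_finite_image_decent {X Y B : Sp S} {Z : Sp S} (hZa : IsAlgSpace Z)
    (hYa : IsAlgSpace Y) (hBa : IsAlgSpace B) (h : X ⟶ Y) (f : X ⟶ B) (g : Y ⟶ B)
    (hcomm : h ≫ g = f) (i : Z ⟶ Y) (e₀ : X ⟶ Z) (hi : RepWith @IsClosedImmersion i)
    (he₀ : e₀ ≫ i = h) (he₀s : IsSurjectiveMor e₀)
    (hplft : LocP @LocallyOfFiniteType (i ≫ g)) (hZd : IsDecent Z) (b : Points B)
    (hfinb : (Points.map h '' (Points.map f ⁻¹' {b})).Finite) :
    ∀ z : Points Z, Points.map (i ≫ g) z = b → HasAtMor QFNbhd (i ≫ g) z := by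
  have hemb := (isEmbedding_points_of_immersion hYa i
    (repWith_mono isClosedImmersion_le_isImmersion hi)).1
  have hcomp : e₀ ≫ (i ≫ g) = f := by
    rw [← Category.assoc, he₀, hcomm]
  have hfinZ : (Points.map (i ≫ g) ⁻¹' {b}).Finite := by
    refine Set.Finite.of_finite_image (hfinb.subset ?_) hemb.injective.injOn
    rintro _ ⟨z, hz, rfl⟩
    obtain ⟨x, rfl⟩ := he₀s z
    refine ⟨x, ?_, ?_⟩
    · change Points.map f x = b
      rw [← hcomp, Points.map_comp]; exact hz
    · rw [← Points.map_comp, he₀]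
  intro z hz
  exact hasAtMor_qf_of_finite_fibre_decent hZa hBa hZd (i ≫ g) hplft b hfinZ z hz

/-- quasi-finiteness at the points over `b`, case (a): finite image in the fibre over a field point -/
theorem qf_of_finite_image_fibre {X Y B : Sp S} {Z : Sp S} (hXa : IsAlgSpace X)
    (hZa : IsAlgSpace Z)
    (hYa : IsAlgSpace Y) (hBa : IsAlgSpace B) (h : X ⟶ Y) (f : X ⟶ B) (g : Y ⟶ B)
    (hcomm : h ≫ g = f) (i : Z ⟶ Y) (e₀ : X ⟶ Z) (hi : RepWith @IsClosedImmersion i)
    (he₀ : e₀ ≫ i = h) (he₀s : IsSurjectiveMor e₀)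
    (hplft : LocP @LocallyOfFiniteType (i ≫ g)) (hpsep : IsSeparatedMor (i ≫ g))
    (k : FieldPt B)
    (H : ∀ (Yk : Sp S) (gY : Yk ⟶ Y) (sY : Yk ⟶ (yon S).obj k.pt),
      IsPullback gY sY g k.toHom →
      ∀ (Xk : Sp S) (gX : Xk ⟶ X) (hk' : Xk ⟶ Yk), IsPullback gX hk' h gY →
        (Set.range (Points.map hk')).Finite) :
    ∀ z : Points Z, Points.map (i ≫ g) z = Points.mk k → HasAtMor QFNbhd (i ≫ g) z := by
  have sqY : IsPullback (pullback.fst g k.toHom) (pullback.snd g k.toHom) g k.toHom :=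
    IsPullback.of_hasPullback _ _
  set gY := pullback.fst g k.toHom with hgY
  set sY := pullback.snd g k.toHom with hsY
  have sqX : IsPullback (pullback.fst h gY) (pullback.snd h gY) h gY :=
    IsPullback.of_hasPullback _ _
  have hfinYk := H _ gY sY sqY _ _ _ sqX
  have sqZ : IsPullback (pullback.fst i gY) (pullback.snd i gY) i gY :=
    IsPullback.of_hasPullback _ _
  set iZ := pullback.fst i gY with hiZ
  set ik := pullback.snd i gY with hik
  have hsqp : IsPullback iZ (ik ≫ sY) (i ≫ g) k.toHom := sqZ.paste_vert sqY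
  have hTa : IsAlgSpace ((yon S).obj k.pt) := IsAlgSpace.yon_obj _
  have hYka : IsAlgSpace (pullback g k.toHom) := isAlgSpace_of_isPullback hBa.diag hYa hTa sqY
  have hZka : IsAlgSpace (pullback i gY) := isAlgSpace_of_isPullback hBa.diag hZa hTa hsqp
  have hik' : RepWith @IsClosedImmersion ik := (RepWith @IsClosedImmersion).of_isPullback sqZ hi
  have hembk := (isEmbedding_points_of_immersion hYka ik
    (repWith_mono isClosedImmersion_le_isImmersion hik')).1
  -- the fibre has finitely many points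
  have hfinZk : (Set.univ : Set (Points (pullback i gY))).Finite := by
    refine Set.Finite.of_finite_image (hfinYk.subset ?_) hembk.injective.injOn
    rintro _ ⟨zk, -, rfl⟩
    obtain ⟨x, hx⟩ := he₀s (Points.map iZ zk)
    have hxz : Points.map h x = Points.map gY (Points.map ik zk) := by
      rw [← he₀, Points.map_comp, hx, ← Points.map_comp, sqZ.w, Points.map_comp]
    obtain ⟨xk, -, hxk⟩ := exists_point_of_isPullback sqX x _ hxz
    exact ⟨xk, hxk⟩
  -- the fibre is decent
  haveI : IsAffine k.pt.left := (inferInstance : IsAffine (Spec (CommRingCat.of k.K)))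
  have hpksep : IsSeparatedMor (ik ≫ sY) := Zmt.isSeparatedMor_of_isPullback hsqp hpsep
  have hpkqs : IsQuasiSeparatedMor (ik ≫ sY) :=
    repWith_mono isClosedImmersion_le_quasiCompact hpksep
  have hZkd : IsDecent (pullback i gY) :=
    QsDecent.isDecent_of_isQuasiSeparatedMor_affine hZka (ik ≫ sY) hpkqs
  have hlftk : LocP @LocallyOfFiniteType (ik ≫ sY) :=
    Groth.Agent.Helper19.FibQf.locP_lft_snd hZa hBa (i ≫ g) hplft k hsqp
  intro z hz
  obtain ⟨zk, rfl⟩ := Groth.Agent.Helper19.FibQf.exists_map_fst_eq (i ≫ g) k hsqp z hz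
  have hqk : HasAtMor QFNbhd (ik ≫ sY) zk :=
    hasAtMor_qf_of_finite_fibre_decent hZka hTa hZkd (ik ≫ sY) hlftk _
      (hfinZk.subset (Set.subset_univ _)) zk rfl
  have h0k := (Groth.Agent.Helper19.FibQf.hasAtMor_fibreDimAt_zero_iff_qf (ik ≫ sY) hlftk zk).2 hqk
  have h0 := (Groth.Agent.Helper19.FibQf.hasAtMor_fst_iff hZa hBa (i ≫ g) hplft k hsqp zk
    (fun t => t = 0)).2 h0k
  exact (Groth.Agent.Helper19.FibQf.hasAtMor_fibreDimAt_zero_iff_qf (i ≫ g) hplft _).1 h0

end Groth.Agent.Helper15.CollFib
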