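import Mathlib
import Groth.Agent.Lib.Helper15.CollFib3

set_option autoImplicit false
set_option linter.unusedSectionVars false
set_option linter.unusedVariables false
set_option linter.style.haveILetI false
universe u

open CategoryTheory CategoryTheory.Limits AlgebraicGeometry MorphismProperty Opposite
open AlgSp Groth.Agent.Helper16.AS
open Groth.Agent.Helper15 Groth.Agent.Helper15.Strat Groth.Agent.Helper15.Norm

namespace Groth.Agent.Helper15.CollFib

variable {S : Scheme.{u}}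

theorem main10651 {X Y B : AlgSp.Space S} (h : X ⟶ Y) (f : X ⟶ B) (g : Y ⟶ B)
    (hc : h ≫ g = f)
    (b : AlgSp.Points B.obj) (k : AlgSp.FieldPt B.obj) (hk : AlgSp.Points.mk k = b)
    (hf : AlgSp.IsProperMor f.hom) (hg1 : AlgSp.IsSeparatedMor g.hom)
    (hg2 : AlgSp.LocP @LocallyOfFiniteType g.hom)
    (h3 : (∀ (Yk : AlgSp.Sp S) (gY : Yk ⟶ Y.obj) (sY : Yk ⟶ (AlgSp.yon S).obj k.pt),
            IsPullback gY sY g.hom k.toHom →
            ∀ (Xk : AlgSp.Sp S) (gX : Xk ⟶ X.obj) (hk' : Xk ⟶ Yk), IsPullback gX hk' h.hom gY →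
              (Set.range (AlgSp.Points.map hk')).Finite) ∨
          ((AlgSp.Points.map h.hom '' (AlgSp.Points.map f.hom ⁻¹' {b})).Finite ∧
            AlgSp.IsDecent B.obj)) :
    ∃ (B' : AlgSp.Space S) (j : B' ⟶ B), AlgSp.RepWith @IsOpenImmersion j.hom ∧
      b ∈ Set.range (AlgSp.Points.map j.hom) ∧
        ∀ (YB : AlgSp.Space S) (gY : YB ⟶ Y) (sY : YB ⟶ B'),
          IsPullback gY.hom sY.hom g.hom j.hom →
          ∀ (XB : AlgSp.Space S) (gX : XB ⟶ X) (hB : XB ⟶ YB),
            IsPullback gX.hom hB.hom h.hom gY.hom →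
            ∃ (Z : AlgSp.Space S) (i : Z ⟶ YB) (e : XB ⟶ Z),
              AlgSp.RepWith @IsClosedImmersion i.hom ∧
              AlgSp.IsFiniteMor (i ≫ sY).hom ∧ e ≫ i = hB := by
  have hXa := X.property
  have hYa := Y.property
  have hBa := B.property
  have hcomm : h.hom ≫ g.hom = f.hom := by rw [← hc]; rfl
  obtain ⟨Z, i, e₀, hi, he₀, he₀s, hpproper⟩ := exists_proper_image h f g hc hf hg1 hg2
  have hZa := Z.property
  have hpc : (i ≫ g).hom = i.hom ≫ g.hom := rfl
  have hpsep : IsSeparatedMor (i.hom ≫ g.hom) := hpproper.1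
  have hplft : LocP @LocallyOfFiniteType (i.hom ≫ g.hom) := hpproper.2.1.1
  have hqf : ∀ z : Points Z.obj, Points.map (i.hom ≫ g.hom) z = b →
      HasAtMor QFNbhd (i.hom ≫ g.hom) z := by
    rcases h3 with H | ⟨hfinb, hBd⟩
    · rw [← hk]
      exact qf_of_finite_image_fibre hXa hZa hYa hBa h.hom f.hom g.hom hcomm i.hom e₀ hi he₀ he₀s
        hplft hpsep k H
    · have hqs : IsQuasiSeparatedMor (i ≫ g).hom :=
        repWith_mono isClosedImmersion_le_quasiCompact hpsep
      have hZd : IsDecent Z.obj :=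
        Groth.Agent.S10381.result (i ≫ g) ((Groth.Agent.S10423.result (i ≫ g)).2 hqs) hBd
      exact qf_of_finite_image_decent hZa hYa hBa h.hom f.hom g.hom hcomm i.hom e₀ hi he₀ he₀s
        hplft hZd b hfinb
  obtain ⟨B', j, hj, hbj, hfinB'⟩ := Groth.Agent.S10650.result (i ≫ g) b hpproper
    (fun z hz => hqf z hz)
  refine ⟨B', j, hj, hbj, ?_⟩
  intro YB gY sY sqYB XB gX hB sqXB
  let ZB : AlgSp.Space S := ⟨pullback i.hom gY.hom,
    isAlgSpace_pullback Z.property hYa YB.property i.hom gY.hom⟩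
  let fstZ : ZB ⟶ Z := ObjectProperty.homMk (pullback.fst i.hom gY.hom)
  let iB : ZB ⟶ YB := ObjectProperty.homMk (pullback.snd i.hom gY.hom)
  have sqZB : IsPullback fstZ.hom iB.hom i.hom gY.hom := IsPullback.of_hasPullback _ _
  have hiB : RepWith @IsClosedImmersion iB.hom :=
    (RepWith @IsClosedImmersion).of_isPullback sqZB hi
  have sqbig : IsPullback fstZ.hom (iB ≫ sY).hom (i ≫ g).hom j.hom := sqZB.paste_vert sqYB
  have hfin : IsFiniteMor (iB ≫ sY).hom := hfinB' ZB fstZ (iB ≫ sY) sqbig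
  have hw : (gX.hom ≫ e₀) ≫ i.hom = hB.hom ≫ gY.hom := by
    rw [Category.assoc, he₀]; exact sqXB.w
  refine ⟨ZB, iB, ObjectProperty.homMk (sqZB.lift (gX.hom ≫ e₀) hB.hom hw), hiB, hfin, ?_⟩
  apply ObjectProperty.hom_ext
  exact sqZB.lift_snd _ _ _

end Groth.Agent.Helper15.CollFib
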