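import Mathlib

set_option autoImplicit false
set_option linter.unusedSectionVars false
set_option linter.unusedVariables false
set_option linter.style.haveILetI false

universe u

open Topology TopologicalSpace Set

namespace Groth.Agent.Helper15.ConsTop

/-- In a compact space, a clopen set that can be separated from its complement pointwise by
members of a family of clopen sets belongs to every class of sets containing the family and
closed under finite unions and intersections. -/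
theorem clopen_mem_of_separated {Z : Type*} [TopologicalSpace Z] [CompactSpace Z]
    (P : Set Z → Prop) (hPuniv : P Set.univ) (hPempty : P ∅)
    (hPinter : ∀ s t, P s → P t → P (s ∩ t)) (hPunion : ∀ s t, P s → P t → P (s ∪ t))
    (𝔖 : Set (Set Z)) (h𝔖P : ∀ C ∈ 𝔖, P C) (h𝔖o : ∀ C ∈ 𝔖, IsOpen C)
    (h𝔖c : ∀ C ∈ 𝔖, IsClosed C)
    (A : Set Z) (hAo : IsOpen A) (hAc : IsClosed A)
    (hsep : ∀ a ∈ A, ∀ b, b ∉ A → ∃ C ∈ 𝔖, a ∈ C ∧ b ∉ C) : P A := by
  classical
  have step1 : ∀ a ∈ A, ∃ D, P D ∧ IsOpen D ∧ a ∈ D ∧ D ⊆ A := by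
    intro a ha
    have hAcc : IsCompact Aᶜ := hAo.isClosed_compl.isCompact
    have hch : ∀ b : {b // b ∉ A}, ∃ C ∈ 𝔖, a ∈ C ∧ b.1 ∉ C := fun b => hsep a ha b.1 b.2
    choose C hC𝔖 haC hbC using hch
    have hPD : ∀ t : Finset {b // b ∉ A}, P (⋂ b ∈ t, C b) := by
      intro t
      induction t using Finset.induction_on with
      | empty => simpa using hPuniv
      | insert b s hb ih =>
        rw [Finset.set_biInter_insert]
        exact hPinter _ _ (h𝔖P _ (hC𝔖 b)) ih
    obtain ⟨t, ht⟩ := hAcc.elim_finite_subcover (fun b => (C b)ᶜ)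
      (fun b => (h𝔖c _ (hC𝔖 b)).isOpen_compl) (by
        intro z hz
        exact Set.mem_iUnion.2 ⟨⟨z, hz⟩, hbC ⟨z, hz⟩⟩)
    refine ⟨⋂ b ∈ t, C b, hPD t, ?_, ?_, ?_⟩
    · exact isOpen_biInter_finset (fun b _ => h𝔖o _ (hC𝔖 b))
    · simp only [Set.mem_iInter]
      intro b _
      exact haC b
    · intro z hz
      by_contra hzA
      have h1 := ht hzA
      simp only [Set.mem_iUnion] at h1
      obtain ⟨b, hbt, hzb⟩ := h1
      simp only [Set.mem_iInter] at hz
      exact hzb (hz b hbt)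
  have hAcomp : IsCompact A := hAc.isCompact
  have hch : ∀ a : {a // a ∈ A}, ∃ D, P D ∧ IsOpen D ∧ a.1 ∈ D ∧ D ⊆ A := fun a => step1 a.1 a.2
  choose D hPD hDo haD hDA using hch
  have hPU : ∀ t : Finset {a // a ∈ A}, P (⋃ a ∈ t, D a) := by
    intro t
    induction t using Finset.induction_on with
    | empty => simpa using hPempty
    | insert a s ha ih =>
      rw [Finset.set_biUnion_insert]
      exact hPunion _ _ (hPD a) ih
  obtain ⟨t, ht⟩ := hAcomp.elim_finite_subcover D hDo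
    (fun z hz => Set.mem_iUnion.2 ⟨⟨z, hz⟩, haD ⟨z, hz⟩⟩)
  have hA : A = ⋃ a ∈ t, D a := Set.Subset.antisymm ht (Set.iUnion₂_subset fun a _ => hDA a)
  rw [hA]
  exact hPU t

/-- Along an open map with a finite fibre, generalizations lift. -/
theorem exists_specializes_of_isOpenMap_of_finite_fibre {U Y : Type*} [TopologicalSpace U]
    [TopologicalSpace Y] {p : U → Y} (hp : IsOpenMap p) (u : U) (y : Y)
    (hfin : (p ⁻¹' {y}).Finite) (hy : y ⤳ p u) : ∃ u', p u' = y ∧ u' ⤳ u := by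
  by_contra hcon
  push Not at hcon
  have h1 : ∀ u' ∈ p ⁻¹' {y}, ∃ N : Set U, IsOpen N ∧ u ∈ N ∧ u' ∉ N := by
    intro u' hu'
    have h2 := hcon u' hu'
    rw [specializes_iff_forall_open] at h2
    push Not at h2
    obtain ⟨N, hN, huN, hu'N⟩ := h2
    exact ⟨N, hN, huN, hu'N⟩
  choose! N hNo huN hu'N using h1
  have hMo : IsOpen (⋂ u' ∈ p ⁻¹' {y}, N u') := hfin.isOpen_biInter (fun u' hu' => hNo u' hu')
  have huM : u ∈ ⋂ u' ∈ p ⁻¹' {y}, N u' := Set.mem_iInter₂.2 fun u' hu' => huN u' hu'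
  have h3 : y ∈ p '' (⋂ u' ∈ p ⁻¹' {y}, N u') := hy.mem_open (hp _ hMo) ⟨u, huM, rfl⟩
  obtain ⟨u'', hu''M, hu''⟩ := h3
  exact hu'N u'' hu'' (Set.mem_iInter₂.1 hu''M u'' hu'')

/-- The image of a `T0` space under an open map with finite fibres is `T0` on the image. -/
theorem eq_of_inseparable_of_finite_fibres {U Y : Type*} [TopologicalSpace U]
    [TopologicalSpace Y] [T0Space U] {p : U → Y} (hp : IsOpenMap p)
    (hfin : ∀ y, (p ⁻¹' {y}).Finite) (u u' : U) (h : Inseparable (p u) (p u')) :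
    p u = p u' := by
  letI := specializationPreorder U
  obtain ⟨b₀, hb₀, hmax⟩ := (hfin (p u)).exists_maximal ⟨u, rfl⟩
  have hb₀' : p b₀ = p u := hb₀
  -- lift `p u'` to a generalization `b'` of `b₀`
  obtain ⟨b', hb', hb'b₀⟩ := exists_specializes_of_isOpenMap_of_finite_fibre hp b₀ (p u')
    (hfin _) (by rw [hb₀']; exact h.specializes')
  -- lift `p u` to a generalization `c` of `b'`
  obtain ⟨c, hc, hcb'⟩ := exists_specializes_of_isOpenMap_of_finite_fibre hp b' (p u)
    (hfin _) (by rw [hb']; exact h.specializes)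
  have h1 : b₀ ⤳ c := hmax (show c ∈ p ⁻¹' {p u} from hc) (hcb'.trans hb'b₀)
  have h2 : b₀ ⤳ b' := h1.trans hcb'
  have h3 : b₀ = b' := (h2.antisymm hb'b₀).eq
  rw [← hb₀', h3, hb']

end Groth.Agent.Helper15.ConsTop
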