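import Mathlib
import Groth.Agent.Lib.Helper15.ConsTop1

set_option autoImplicit false
set_option linter.unusedSectionVars false
set_option linter.unusedVariables false
set_option linter.style.haveILetI false

universe u

open Topology TopologicalSpace Set

namespace Groth.Agent.Helper15.ConsTop

/-- A constructible subset of a compact space is clopen for the constructible topology. -/
theorem isOpen_preimage_ofTopology_of_isConstructible {U : Type*} [TopologicalSpace U]
    [CompactSpace U] {s : Set U} (hs : IsConstructible s) :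
    IsOpen ((WithTopology.ofTopology : WithConstructibleTopology U → U) ⁻¹' s) ∧
      IsOpen ((WithTopology.ofTopology : WithConstructibleTopology U → U) ⁻¹' sᶜ) := by
  induction hs using IsConstructible.empty_union_induction with
  | open_retrocompact W hWo hWc =>
    refine ⟨?_, ?_⟩
    · rw [WithConstructibleTopology.isOpen_iff]
      exact hWc.isCompact.isOpen_constructibleTopology_of_isOpen hWo
    · rw [WithConstructibleTopology.isOpen_iff]
      exact IsCompact.isOpen_constructibleTopology_of_isClosed (s := Wᶜ)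
        (by rw [compl_compl]; exact hWc.isCompact) hWo.isClosed_compl
  | union s hs t ht hs' ht' =>
    refine ⟨?_, ?_⟩
    · rw [Set.preimage_union]
      exact hs'.1.union ht'.1
    · rw [Set.compl_union, Set.preimage_inter]
      exact hs'.2.inter ht'.2
  | compl s hs hs' => exact ⟨hs'.2, by rw [compl_compl]; exact hs'.1⟩

/-- Descent of constructibility along an open spectral map with finite fibres from a
spectral space. -/
theorem isConstructible_inter_range {U Y : Type*} [TopologicalSpace U] [TopologicalSpace Y]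
    [CompactSpace U] [QuasiSober U] [PrespectralSpace U] [QuasiSeparatedSpace U] [T0Space U]
    {p : U → Y} (hpc : Continuous p) (hpo : IsOpenMap p)
    (hsp : ∀ W : Set Y, IsOpen W → IsCompact W → IsCompact (p ⁻¹' W))
    (hfin : ∀ y, (p ⁻¹' {y}).Finite) (F : Set Y) (hF : IsConstructible (p ⁻¹' F)) :
    IsConstructible (F ∩ Set.range p) := by
  classical
  have hVo : IsOpen (Set.range p) := hpo.isOpen_range
  have hVc : IsCompact (Set.range p) := isCompact_range hpc
  have hretro : ∀ W : Set Y, IsOpen W → IsCompact W → W ⊆ Set.range p → IsRetrocompact W := by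
    intro W hWo hWc hWV K hKc hKo
    have h1 : IsCompact (p ⁻¹' W ∩ p ⁻¹' K) :=
      QuasiSeparatedSpace.inter_isCompact _ _ (hWo.preimage hpc) (hsp W hWo hWc)
        (hKo.preimage hpc) (hsp K hKo hKc)
    have h2 : W ∩ K = p '' (p ⁻¹' W ∩ p ⁻¹' K) := by
      ext y
      constructor
      · rintro ⟨hyW, hyK⟩
        obtain ⟨u, rfl⟩ := hWV hyW
        exact ⟨u, ⟨hyW, hyK⟩, rfl⟩
      · rintro ⟨u, ⟨h1, h2⟩, rfl⟩
        exact ⟨h1, h2⟩
    rw [h2]
    exact h1.image hpc
  have hVcons : IsConstructible (Set.range p) :=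
    (hretro _ hVo hVc subset_rfl).isConstructible hVo
  let q : WithConstructibleTopology U → U := WithTopology.ofTopology
  have hq : ∀ x : U, q (WithTopology.toTopology _ x) = x := fun x => rfl
  let P : Set (WithConstructibleTopology U) → Prop :=
    fun s => ∃ G : Set Y, s = q ⁻¹' (p ⁻¹' G) ∧ IsConstructible (G ∩ Set.range p)
  let 𝔖 : Set (Set (WithConstructibleTopology U)) :=
    {s | ∃ W : Set Y, IsOpen W ∧ IsCompact W ∧ W ⊆ Set.range p ∧
      (s = q ⁻¹' (p ⁻¹' W) ∨ s = q ⁻¹' (p ⁻¹' Wᶜ))}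
  have hopen : ∀ W : Set Y, IsOpen W → IsCompact W →
      IsOpen (q ⁻¹' (p ⁻¹' W)) ∧ IsOpen (q ⁻¹' (p ⁻¹' Wᶜ)) := by
    intro W hWo hWc
    have h1 : IsConstructible (p ⁻¹' W) :=
      ((hsp W hWo hWc).isRetrocompact (hWo.preimage hpc)).isConstructible (hWo.preimage hpc)
    exact isOpen_preimage_ofTopology_of_isConstructible h1
  have hPA : P (q ⁻¹' (p ⁻¹' F)) := by
    refine clopen_mem_of_separated P ?_ ?_ ?_ ?_ 𝔖 ?_ ?_ ?_ _ ?_ ?_ ?_
    · exact ⟨Set.univ, by simp, by simpa using hVcons⟩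
    · exact ⟨∅, by simp, by simp⟩
    · rintro s t ⟨G₁, rfl, h1⟩ ⟨G₂, rfl, h2⟩
      refine ⟨G₁ ∩ G₂, by simp only [Set.preimage_inter], ?_⟩
      have : (G₁ ∩ G₂) ∩ Set.range p = (G₁ ∩ Set.range p) ∩ (G₂ ∩ Set.range p) := by
        ext y; simp only [Set.mem_inter_iff]; tauto
      rw [this]
      exact h1.inter h2
    · rintro s t ⟨G₁, rfl, h1⟩ ⟨G₂, rfl, h2⟩
      refine ⟨G₁ ∪ G₂, by simp only [Set.preimage_union], ?_⟩
      rw [Set.union_inter_distrib_right]
      exact h1.union h2
    · rintro C ⟨W, hWo, hWc, hWV, rfl | rfl⟩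
      · refine ⟨W, rfl, ?_⟩
        rw [Set.inter_eq_left.2 hWV]
        exact (hretro W hWo hWc hWV).isConstructible hWo
      · refine ⟨Wᶜ, rfl, ?_⟩
        have : Wᶜ ∩ Set.range p = Set.range p \ W := by
          ext y; simp only [Set.mem_inter_iff, Set.mem_compl_iff, Set.mem_sdiff]; tauto
        rw [this]
        exact hVcons.sdiff ((hretro W hWo hWc hWV).isConstructible hWo)
    · rintro C ⟨W, hWo, hWc, hWV, rfl | rfl⟩
      · exact (hopen W hWo hWc).1
      · exact (hopen W hWo hWc).2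
    · rintro C ⟨W, hWo, hWc, hWV, rfl | rfl⟩
      · rw [← isOpen_compl_iff]
        exact (hopen W hWo hWc).2
      · rw [← isOpen_compl_iff]
        have : (q ⁻¹' (p ⁻¹' Wᶜ))ᶜ = q ⁻¹' (p ⁻¹' W) := by
          simp only [Set.preimage_compl, compl_compl]
        rw [this]
        exact (hopen W hWo hWc).1
    · exact (isOpen_preimage_ofTopology_of_isConstructible hF).1
    · rw [← isOpen_compl_iff]
      exact (isOpen_preimage_ofTopology_of_isConstructible hF).2
    · intro a ha b hb
      have haF : p (q a) ∈ F := ha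
      have hbF : p (q b) ∉ F := hb
      have hne : p (q a) ≠ p (q b) := fun h => hbF (h ▸ haF)
      have hex : ∃ K : Set U, IsOpen K ∧ IsCompact K ∧
          ¬ (p (q a) ∈ p '' K ↔ p (q b) ∈ p '' K) := by
        by_contra hcon
        push Not at hcon
        apply hne
        apply eq_of_inseparable_of_finite_fibres hpo hfin
        rw [inseparable_iff_forall_isOpen]
        have key : ∀ (x x' : U), (∀ K : Set U, IsOpen K → IsCompact K →
            (p x ∈ p '' K ↔ p x' ∈ p '' K)) → ∀ N : Set Y, IsOpen N → p x ∈ N → p x' ∈ N := by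
          intro x x' hxx' N hN hxN
          obtain ⟨K, ⟨hKo, hKc⟩, hxK, hKN⟩ :=
            (PrespectralSpace.isTopologicalBasis (X := U)).exists_subset_of_mem_open
              (show x ∈ p ⁻¹' N from hxN) (hN.preimage hpc)
          obtain ⟨x'', hx''K, hx''⟩ := (hxx' K hKo hKc).1 ⟨x, hxK, rfl⟩
          rw [← hx'']
          exact hKN hx''K
        intro N hN
        exact ⟨key (q a) (q b) hcon N hN, key (q b) (q a) (fun K hKo hKc => (hcon K hKo hKc).symm) N hN⟩
      obtain ⟨K, hKo, hKc, hK⟩ := hex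
      have hW : (p '' K) ∈ {W : Set Y | IsOpen W ∧ IsCompact W ∧ W ⊆ Set.range p} :=
        ⟨hpo K hKo, hKc.image hpc, Set.image_subset_range p K⟩
      by_cases haK : p (q a) ∈ p '' K
      · have hbK : p (q b) ∉ p '' K := fun h => hK ⟨fun _ => h, fun _ => haK⟩
        exact ⟨q ⁻¹' (p ⁻¹' (p '' K)), ⟨p '' K, hW.1, hW.2.1, hW.2.2, Or.inl rfl⟩, haK, hbK⟩
      · have hbK : p (q b) ∈ p '' K := by
          by_contra h
          exact hK ⟨fun h' => absurd h' haK, fun h' => absurd h' h⟩
        exact ⟨q ⁻¹' (p ⁻¹' (p '' K)ᶜ), ⟨p '' K, hW.1, hW.2.1, hW.2.2, Or.inr rfl⟩, haK,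
          fun h => h hbK⟩
  obtain ⟨G, hG, hGc⟩ := hPA
  have hFG : ∀ x : U, p x ∈ F ↔ p x ∈ G := by
    intro x
    have h1 : (WithTopology.toTopology _ x : WithConstructibleTopology U) ∈ q ⁻¹' (p ⁻¹' F) ↔
        (WithTopology.toTopology _ x : WithConstructibleTopology U) ∈ q ⁻¹' (p ⁻¹' G) := by
      rw [hG]
    exact h1
  have : F ∩ Set.range p = G ∩ Set.range p := by
    ext y
    constructor
    · rintro ⟨hyF, ⟨x, rfl⟩⟩
      exact ⟨(hFG x).1 hyF, ⟨x, rfl⟩⟩
    · rintro ⟨hyG, ⟨x, rfl⟩⟩
      exact ⟨(hFG x).2 hyG, ⟨x, rfl⟩⟩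
  rw [this]
  exact hGc

end Groth.Agent.Helper15.ConsTop
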