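import Mathlib
import Groth.Prelude
import Groth.Agent.Lib.Helper15.NormQf1
import Groth.Agent.Lib.Helper15.AlgSpUnram
import Groth.Agent.Lib.Helper15.AlgSpQuotEff
import Groth.Agent.Lib.Helper15.AlgSpFibre
import Groth.Agent.Lib.Helper16.AlgSp.FpqcBase

/-!
# Coproducts of sheaves from jointly epimorphic disjoint families of monomorphisms
-/

set_option autoImplicit false
set_option backward.isDefEq.respectTransparency false
universe u
open CategoryTheory CategoryTheory.Limits AlgebraicGeometry MorphismProperty Opposite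
open AlgSp

namespace Groth.Agent.Helper15.CoprodSp

open Groth.Agent.Helper15 Groth.Agent.Helper15.Norm

variable {S : Scheme.{u}}

/-- Maps out of the sheaf of an empty scheme are unique. -/
theorem yon_hom_ext_of_isEmpty {T : Over S} (hT : IsEmpty T.left) {G : Sp S}
    (a b : (yon S).obj T ⟶ G) : a = b := by
  have hcov : Sieve.ofArrows (fun i : PEmpty.{1} => (PEmpty.elim i : Over S))
      (fun i => (PEmpty.elim i)) ∈ (J S) T :=
    ofArrows_mem_J _ _ (fun i => PEmpty.elim i) (fun i => PEmpty.elim i)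
      (fun x => (hT.false x).elim)
  refine yon_hom_ext_of_cover a b _ hcov ?_
  rintro T' k ⟨_, _, _, ⟨i⟩, _⟩
  exact PEmpty.elim i

/-- A jointly epimorphic family of pairwise disjoint monomorphisms is a coproduct. -/
theorem nonempty_isColimit_cofan {ι : Type u} {F : Sp S} (Fi : ι → Sp S) (e : ∀ i, Fi i ⟶ F)
    (he : JointlyEpi Fi e) (hm : ∀ i, Mono (e i))
    (hd : ∀ (i j : ι), i ≠ j → ∀ (T : Over S) (y : (yon S).obj T ⟶ Fi i)
      (y' : (yon S).obj T ⟶ Fi j), y ≫ e i = y' ≫ e j → IsEmpty T.left) :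
    Nonempty (IsColimit (Cofan.mk F e)) := by
  have key : ∀ t : Cofan Fi, ∃ d : F ⟶ t.pt, ∀ i, e i ≫ d = t.inj i := by
    intro t
    refine he.exists_desc t.inj ?_
    intro T i j y y' hyy'
    by_cases hij : i = j
    · subst hij
      haveI := hm i
      rw [(cancel_mono (e i)).1 hyy']
    · exact yon_hom_ext_of_isEmpty (hd i j hij T y y' hyy') _ _
  choose d hd' using key
  refine ⟨Cofan.IsColimit.mk _ d (fun t j => hd' t j) (fun t m hm' => ?_)⟩
  apply he.hom_ext
  intro i
  rw [hd' t i]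
  exact hm' i

/-- Jointly epimorphic families are stable under base change. -/
theorem jointlyEpi_of_isPullback {ι : Type u} {F T : Sp S} (Fi : ι → Sp S) (e : ∀ i, Fi i ⟶ F)
    (he : JointlyEpi Fi e) (t : T ⟶ F) (Ti : ι → Sp S) (p : ∀ i, Ti i ⟶ Fi i)
    (e' : ∀ i, Ti i ⟶ T) (sq : ∀ i, IsPullback (e' i) (p i) t (e i)) : JointlyEpi Ti e' := by
  intro T₀ x
  refine (J S).superset_covering ?_ (he T₀ (x ≫ t))
  rintro T' k ⟨i, y, hy⟩
  refine ⟨i, (sq i).lift ((yon S).map k ≫ x) y (by rw [Category.assoc, hy]), ?_⟩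
  rw [(sq i).lift_fst]

/-- The base change of a coproduct decomposition is a coproduct decomposition. -/
theorem nonempty_isColimit_cofan_pullback {ι : Type u} {F T : Sp S} (Fi : ι → Sp S)
    (e : ∀ i, Fi i ⟶ F) (he : JointlyEpi Fi e) (hm : ∀ i, Mono (e i))
    (hd : ∀ (i j : ι), i ≠ j → ∀ (T : Over S) (y : (yon S).obj T ⟶ Fi i)
      (y' : (yon S).obj T ⟶ Fi j), y ≫ e i = y' ≫ e j → IsEmpty T.left)
    (t : T ⟶ F) (Ti : ι → Sp S) (p : ∀ i, Ti i ⟶ Fi i) (e' : ∀ i, Ti i ⟶ T)
    (sq : ∀ i, IsPullback (e' i) (p i) t (e i)) :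
    Nonempty (IsColimit (Cofan.mk T e')) := by
  refine nonempty_isColimit_cofan Ti e' (jointlyEpi_of_isPullback Fi e he t Ti p e' sq)
    (fun i => ?_) ?_
  · haveI := hm i
    exact (sq i).mono_fst_of_mono
  · intro i j hij T₀ y y' hyy'
    refine hd i j hij T₀ (y ≫ p i) (y' ≫ p j) ?_
    rw [Category.assoc, Category.assoc, ← (sq i).w, ← (sq j).w, ← Category.assoc,
      ← Category.assoc, hyy']


/-- A disjoint open cover of a scheme over `S` gives a jointly epimorphic family of pairwise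
disjoint monomorphisms of sheaves. -/
theorem yon_openCover_family {κ : Type u} {T'' : Over S} (W : κ → Over S) (ι : ∀ j, W j ⟶ T'')
    (ho : ∀ j, IsOpenImmersion (ι j).left) (hcov : ∀ x : T''.left, ∃ j y, (ι j).left y = x)
    (hdis : ∀ i j, i ≠ j → Disjoint (Set.range (ι i).left) (Set.range (ι j).left)) :
    JointlyEpi (fun j => (yon S).obj (W j)) (fun j => (yon S).map (ι j)) ∧
      (∀ j, Mono ((yon S).map (ι j))) ∧
      (∀ (i j : κ), i ≠ j → ∀ (T : Over S) (y : (yon S).obj T ⟶ (yon S).obj (W i))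
        (y' : (yon S).obj T ⟶ (yon S).obj (W j)),
        y ≫ (yon S).map (ι i) = y' ≫ (yon S).map (ι j) → IsEmpty T.left) := by
  have hoi : ∀ j, RepWith @IsOpenImmersion ((yon S).map (ι j)) :=
    fun j => (repWith_yon_map_iff _ _).2 (ho j)
  refine ⟨?_, fun j => mono_of_repWith isOpenImmersion_le_mono _ (hoi j), ?_⟩
  · refine jointlyEpi_of_repWith_etale _ _
      (fun j => repWith_mono isOpenImmersion_le_etale (hoi j)) (fun x => ?_)
    obtain ⟨t, rfl⟩ := (Points.schemeEquiv T'').surjective x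
    obtain ⟨j, y, hy⟩ := hcov t
    refine ⟨j, Points.ofScheme (W j) y, ?_⟩
    rw [← Points.ofPt_eq_map_ofScheme, ofPt_yon_map, hy]
    rfl
  · intro i j hij T y y' hyy'
    obtain ⟨a, rfl⟩ := (yon S).map_surjective y
    obtain ⟨a', rfl⟩ := (yon S).map_surjective y'
    have h1 : a ≫ ι i = a' ≫ ι j := (yon S).map_injective (by
      rw [Functor.map_comp, Functor.map_comp, hyy'])
    refine ⟨fun t => ?_⟩
    have h2 : (ι i).left (a.left t) = (ι j).left (a'.left t) := by
      have := congrArg (fun k => k.left t) h1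
      simpa using this
    exact Set.disjoint_iff.1 (hdis i j hij) ⟨⟨a.left t, rfl⟩, ⟨a'.left t, h2.symm⟩⟩

/-- The disjoint union of a finite family of affine schemes flat and jointly surjective over an
affine scheme, as a scheme over `S`. -/
theorem exists_sigmaOver' {Z : Over S} (hZ : IsAffine Z.left) {m : ℕ} (W : Fin m → Over S)
    (c : ∀ j, W j ⟶ Z) (haff : ∀ j, IsAffine (W j).left) (hflat : ∀ j, Flat (c j).left)
    (hsurj : ∀ z : Z.left, ∃ j, z ∈ Set.range (c j).left) :
    ∃ (T'' : Over S) (c' : T'' ⟶ Z) (ι : ∀ j, W j ⟶ T''),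
      IsAffine T''.left ∧ Flat c'.left ∧ Surjective c'.left ∧ (∀ j, ι j ≫ c' = c j) ∧
        (∀ j, IsOpenImmersion (ι j).left) ∧ (∀ x : T''.left, ∃ j y, (ι j).left y = x) ∧
        (∀ i j, i ≠ j → Disjoint (Set.range (ι i).left) (Set.range (ι j).left)) := by
  haveI := hZ
  haveI := haff
  let cl : ∀ j, (W j).left ⟶ Z.left := fun j => (c j).left
  have hfl : Flat (Sigma.desc cl) := by
    rw [IsZariskiLocalAtSource.iff_of_openCover (P := @Flat)
      (sigmaOpenCover (fun j => (W j).left))]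
    intro (j : Fin m)
    change Flat (Sigma.ι (fun j => (W j).left) j ≫ Sigma.desc cl)
    rw [Sigma.ι_desc]
    exact hflat j
  have hsu : Surjective (Sigma.desc cl) := by
    refine ⟨fun z => ?_⟩
    obtain ⟨j, w, hw⟩ := hsurj z
    refine ⟨Sigma.ι (fun j => (W j).left) j w, ?_⟩
    rw [← Scheme.Hom.comp_apply, Sigma.ι_desc]
    exact hw
  have hw : ∀ j, Sigma.ι (fun j => (W j).left) j ≫ Sigma.desc cl ≫ Z.hom = (W j).hom := by
    intro j
    rw [Sigma.ι_desc_assoc]
    exact Over.w (c j)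
  refine ⟨Over.mk (Sigma.desc cl ≫ Z.hom), Over.homMk (Sigma.desc cl) rfl,
    fun j => Over.homMk (Sigma.ι (fun j => (W j).left) j) (hw j), ?_, hfl, hsu, ?_, ?_,
    ?_, ?_⟩
  · change IsAffine (∐ fun j => (W j).left)
    infer_instance
  · intro j
    ext
    change Sigma.ι (fun j => (W j).left) j ≫ Sigma.desc cl = (c j).left
    rw [Sigma.ι_desc]
  · intro j
    change IsOpenImmersion (Sigma.ι (fun j => (W j).left) j)
    infer_instance
  · intro x
    obtain ⟨j, y, hy⟩ := (sigmaOpenCover (fun j => (W j).left)).exists_eq x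
    exact ⟨j, y, hy⟩
  · intro i j hij
    have h := disjoint_opensRange_sigmaι (fun j => (W j).left) i j hij
    rw [← TopologicalSpace.Opens.coe_disjoint] at h
    exact h


/-- A criterion for a property of morphisms of algebraic spaces to be fpqc local on the base:
compatibility with finite disjoint unions, reduction to affine bases, and descent along one
surjective flat morphism of affine schemes. -/
theorem isLocalOnBase_fpqc_of_affine_criterion (P : MorphismProperty (Sp S))
    (h1 : ∀ ⦃ι : Type u⦄ [Finite ι] (Xi Yi : ι → Sp S) (fi : ∀ i, Xi i ⟶ Yi i)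
      (cX : Cofan Xi) (cY : Cofan Yi) (_ : IsColimit cX) (_ : IsColimit cY)
      (m : cX.pt ⟶ cY.pt),
      (∀ i, IsAlgSpace (Xi i)) → (∀ i, IsAlgSpace (Yi i)) →
      IsAlgSpace cX.pt → IsAlgSpace cY.pt →
      (∀ i, cX.inj i ≫ m = fi i ≫ cY.inj i) → (∀ i, P (fi i)) → P m)
    (h2 : ∀ ⦃X Y : Sp S⦄, IsAlgSpace X → IsAlgSpace Y → ∀ (f : X ⟶ Y),
      P f ↔ ∀ (Z : Over S), IsAffine Z.left → ∀ (g : (yon S).obj Z ⟶ Y) (W : Sp S)
        (fst : W ⟶ X) (snd : W ⟶ (yon S).obj Z), IsAlgSpace W → IsPullback fst snd f g → P snd)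
    (h3 : ∀ ⦃Z Z' : Over S⦄ (c : Z' ⟶ Z), IsAffine Z.left → IsAffine Z'.left →
      Surjective c.left → Flat c.left →
      ∀ ⦃X X' : Sp S⦄ (f : X ⟶ (yon S).obj Z) (fst : X' ⟶ X) (f' : X' ⟶ (yon S).obj Z'),
        IsAlgSpace X → IsAlgSpace X' → IsPullback fst f' f ((yon S).map c) → P f' → P f) :
    IsLocalOnBase (IsFpqcCover (S := S)) P := by
  intro ι Y Yi g hY hYi hcov X f hX Xi p q hXi sq
  constructor
  · intro hf i
    rw [h2 (hXi i) (hYi i)]
    intro Z hZ gZ W fst snd hW sqW
    exact (h2 hX hY f).1 hf Z hZ (gZ ≫ g i) W (fst ≫ q i) snd hW (sqW.paste_horiz (sq i))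
  · intro hp
    rw [h2 hX hY]
    intro Z hZ gZ T fst snd hT sqT
    obtain ⟨m, W, c, haff, hflat, hsurj, hl⟩ := hcov.2 Z hZ gZ
    obtain ⟨T'', c', ιj, hT''a, hfl, hsu, hιc, hιo, hιcov, hιdis⟩ :=
      exists_sigmaOver' hZ W c haff hflat hsurj
    let κ := ULift.{u} (Fin m)
    let Wk : κ → Over S := fun k => W k.down
    let Tj : κ → Sp S := fun k => pullback snd ((yon S).map (c k.down))
    let fj : ∀ k : κ, Tj k ⟶ (yon S).obj (Wk k) := fun k => pullback.snd snd ((yon S).map (c k.down))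
    let T' : Sp S := pullback snd ((yon S).map c')
    let f' : T' ⟶ (yon S).obj T'' := pullback.snd snd ((yon S).map c')
    have hZd := (IsAlgSpace.yon_obj (S := S) Z).diag
    have hTj : ∀ k, IsAlgSpace (Tj k) := fun k =>
      isAlgSpace_of_isPullback hZd hT (IsAlgSpace.yon_obj (W k.down))
        (IsPullback.of_hasPullback snd ((yon S).map (c k.down)))
    have hT' : IsAlgSpace T' :=
      isAlgSpace_of_isPullback hZd hT (IsAlgSpace.yon_obj T'')
        (IsPullback.of_hasPullback snd ((yon S).map c'))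
    -- each `fj k` has `P`
    have hPj : ∀ k, P (fj k) := by
      intro k
      obtain ⟨i, l, hl'⟩ := hl k.down
      obtain ⟨u, squ⟩ := Groth.Agent.Helper16.AS.isPullback_lift_of_cover (sq i) sqT hl'
        (IsPullback.of_hasPullback snd ((yon S).map (c k.down)))
      exact (h2 (hXi i) (hYi i) (p i)).1 (hp i) (W k.down) (haff k.down) l _ u _ (hTj k) squ
    -- the coproduct decompositions
    obtain ⟨he, hm, hd⟩ := yon_openCover_family (κ := κ) Wk (fun k => ιj k.down)
      (fun k => hιo k.down)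
      (fun x => by obtain ⟨j, y, hy⟩ := hιcov x; exact ⟨ULift.up j, y, hy⟩)
      (fun a b hab => hιdis a.down b.down (fun h => hab (ULift.ext _ _ h)))
    let e' : ∀ k : κ, Tj k ⟶ T' := fun k =>
      pullback.lift (pullback.fst snd ((yon S).map (c k.down)))
        (pullback.snd snd ((yon S).map (c k.down)) ≫ (yon S).map (ιj k.down)) (by
          rw [Category.assoc, ← Functor.map_comp, hιc, pullback.condition])
    have sqL : ∀ k : κ, IsPullback (e' k) (fj k) f' ((yon S).map (ιj k.down)) := by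
      intro k
      refine IsPullback.of_right ?_ (pullback.lift_snd _ _ _)
        (IsPullback.of_hasPullback snd ((yon S).map c'))
      rw [pullback.lift_fst, ← Functor.map_comp, hιc]
      exact IsPullback.of_hasPullback snd ((yon S).map (c k.down))
    obtain ⟨hcY⟩ := nonempty_isColimit_cofan (fun k : κ => (yon S).obj (Wk k))
      (fun k => (yon S).map (ιj k.down)) he hm hd
    obtain ⟨hcX⟩ := nonempty_isColimit_cofan_pullback (fun k : κ => (yon S).obj (Wk k))
      (fun k => (yon S).map (ιj k.down)) he hm hd f' Tj fj e' sqL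
    have hP' : P f' := h1 Tj (fun k => (yon S).obj (Wk k)) fj (Cofan.mk T' e')
      (Cofan.mk ((yon S).obj T'') (fun k => (yon S).map (ιj k.down))) hcX hcY f' hTj
      (fun k => IsAlgSpace.yon_obj (Wk k)) hT' (IsAlgSpace.yon_obj T'')
      (fun k => (sqL k).w) hPj
    exact h3 c' hZ hT''a hsu hfl snd (pullback.fst snd ((yon S).map c')) f' hT hT'
      (IsPullback.of_hasPullback snd ((yon S).map c')) hP'

end Groth.Agent.Helper15.CoprodSp
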