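import Mathlib
import Groth.Agent.Lib.Helper15.LiftCount

/-!
# Locally separated algebraic spaces are decent, I: scheme-theoretic preliminaries
-/

set_option autoImplicit false
universe u
open CategoryTheory CategoryTheory.Limits AlgebraicGeometry

namespace Groth.Agent.Helper15.LocSep

open Groth.Agent.Helper15.LiftCount

/-- Finitely many points of a fibre are the images of points with values in one field, over one
point of the base with values in that field. -/
theorem exists_common_field_points {F B : Scheme.{u}} (g : F ⟶ B) (b : B) :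
    ∀ (n : ℕ) (f : Fin n → F), (∀ i, g (f i) = b) →
      ∃ (Ω : Type u) (_ : Field Ω) (z : Spec (CommRingCat.of Ω) ⟶ B)
        (l : Fin n → (Spec (CommRingCat.of Ω) ⟶ F)),
        (∀ i, l i ≫ g = z) ∧ (∀ i, l i (IsLocalRing.closedPoint Ω) = f i) ∧
          z (IsLocalRing.closedPoint Ω) = b := by
  intro n
  induction n with
  | zero =>
    intro f _
    exact ⟨B.residueField b, inferInstance, B.fromSpecResidueField b, Fin.elim0,
      fun i => i.elim0, fun i => i.elim0, Scheme.fromSpecResidueField_apply _ _⟩
  | succ n ih =>
    intro f hf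
    obtain ⟨Ω, _, z, l, hl, hlf, hz⟩ := ih (fun i => f (Fin.castSucc i)) (fun i => hf _)
    let y := f (Fin.last n)
    let w : Spec (F.residueField y) ⟶ B := F.fromSpecResidueField y ≫ g
    have hw : w (IsLocalRing.closedPoint (F.residueField y)) = b := by
      change g (F.fromSpecResidueField y _) = b
      rw [Scheme.fromSpecResidueField_apply]
      exact hf _
    obtain ⟨p, hp1, hp2⟩ := Scheme.Pullback.exists_preimage_pullback (f := z) (g := w)
      (IsLocalRing.closedPoint Ω) (IsLocalRing.closedPoint (F.residueField y)) (hz.trans hw.symm)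
    let Ω' := (pullback z w).residueField p
    let a : Spec (CommRingCat.of Ω') ⟶ Spec (CommRingCat.of Ω) :=
      (pullback z w).fromSpecResidueField p ≫ pullback.fst z w
    let c : Spec (CommRingCat.of Ω') ⟶ Spec (F.residueField y) :=
      (pullback z w).fromSpecResidueField p ≫ pullback.snd z w
    have hac : a ≫ z = c ≫ w := by
      simp only [a, c, Category.assoc, pullback.condition]
    have hapt : ∀ q : Spec (CommRingCat.of Ω'), a q = IsLocalRing.closedPoint Ω :=
      fun q => Subsingleton.elim (α := Spec (CommRingCat.of Ω)) _ _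
    refine ⟨Ω', inferInstance, a ≫ z,
      Fin.lastCases (c ≫ F.fromSpecResidueField y) (fun i => a ≫ l i), ?_, ?_, ?_⟩
    · intro i
      refine Fin.lastCases ?_ (fun i => ?_) i
      · dsimp only
        rw [Fin.lastCases_last, Category.assoc]
        exact hac.symm
      · dsimp only
        rw [Fin.lastCases_castSucc, Category.assoc, hl]
    · intro i
      refine Fin.lastCases ?_ (fun i => ?_) i
      · dsimp only
        rw [Fin.lastCases_last, Scheme.Hom.comp_apply]
        have : c (IsLocalRing.closedPoint Ω') = IsLocalRing.closedPoint (F.residueField y) :=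
          Subsingleton.elim (α := Spec (F.residueField y)) _ _
        rw [this, Scheme.fromSpecResidueField_apply]
      · dsimp only
        rw [Fin.lastCases_castSucc, Scheme.Hom.comp_apply, hapt]
        exact hlf i
    · rw [Scheme.Hom.comp_apply, hapt]
      exact hz

/-- Distinct points of a fibre give geometric lifts. -/
theorem hasLifts_of_injective {F B : Scheme.{u}} (g : F ⟶ B) (b : B) (n : ℕ) (f : Fin n → F)
    (hf : ∀ i, g (f i) = b) (hinj : Function.Injective f) : HasLifts g n b := by
  obtain ⟨Ω, _, z, l, hl, hlf, hz⟩ := exists_common_field_points g b n f hf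
  refine ⟨Ω, inferInstance, z, l, ?_, hl, hz⟩
  intro i k hik
  apply hinj
  rw [← hlf i, ← hlf k, hik]

/-- If the number of geometric lifts is bounded then the fibre is finite. -/
theorem finite_fibre_of_hasLifts_bound {F B : Scheme.{u}} (g : F ⟶ B) (b : B) (r : ℕ)
    (h : ¬ HasLifts g (r + 1) b) : (g ⁻¹' {b}).Finite := by
  by_contra hinf
  have hinf' : (g ⁻¹' {b}).Infinite := hinf
  obtain ⟨t, hts, htc⟩ := hinf'.exists_subset_card_eq (r + 1)
  let e : Fin (r + 1) ≃ t := (Fintype.equivFinOfCardEq (by simpa using htc)).symm
  apply h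
  refine hasLifts_of_injective g b (r + 1) (fun i => (e i : F)) ?_ ?_
  · intro i
    exact hts (e i).2
  · intro i k hik
    exact e.injective (Subtype.ext hik)

/-- The rank lemma. -/
theorem false_of_dual_families {Ω : Type*} [Field Ω] (r : ℕ) (X Y : Fin (r + 1) → Fin r → Ω)
    (h : ∀ n m, ∑ i, X n i * Y m i = if n = m then 1 else 0) : False := by
  let A : Matrix (Fin (r + 1)) (Fin r) Ω := Matrix.of X
  let B : Matrix (Fin r) (Fin (r + 1)) Ω := (Matrix.of Y).transpose
  have hAB : A * B = 1 := by
    ext n m
    rw [Matrix.mul_apply, Matrix.one_apply]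
    exact h n m
  have h1 : (A * B).rank ≤ A.rank := Matrix.rank_mul_le_left A B
  have h2 : A.rank ≤ r := by
    have := Matrix.rank_le_width A
    simpa using this
  rw [hAB, Matrix.rank_one, Fintype.card_fin] at h1
  omega

end Groth.Agent.Helper15.LocSep
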