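import Mathlib
import Groth.Agent.Lib.Helper15.LocSep1

/-!
# Locally separated algebraic spaces are decent, II: functions on products of affine schemes
-/

set_option autoImplicit false
universe u
open CategoryTheory CategoryTheory.Limits AlgebraicGeometry TensorProduct

namespace Groth.Agent.Helper15.LocSep

/-- Elements of a tensor product are finite sums of pure tensors, indexed by `Fin r`. -/
theorem exists_fin_sum_tmul {A A' : Type*} [CommRing A] [CommRing A'] (τ : A ⊗[ℤ] A') :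
    ∃ (r : ℕ) (x : Fin r → A) (y : Fin r → A'), τ = ∑ i, x i ⊗ₜ[ℤ] y i := by
  induction τ using TensorProduct.induction_on with
  | zero => exact ⟨0, Fin.elim0, Fin.elim0, by simp⟩
  | tmul a b => exact ⟨1, fun _ => a, fun _ => b, by simp⟩
  | add τ₁ τ₂ h₁ h₂ =>
    obtain ⟨r₁, x₁, y₁, rfl⟩ := h₁
    obtain ⟨r₂, x₂, y₂, rfl⟩ := h₂
    refine ⟨r₁ + r₂, Fin.append x₁ x₂, Fin.append y₁ y₂, ?_⟩
    rw [Fin.sum_univ_add]
    simp

/-- In a pushout square of commutative rings every element of the pushout is a finite sum of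
products of elements coming from the two factors. -/
theorem exists_fin_sum_of_isPushout {C A A' B : CommRingCat.{u}} {f : C ⟶ A} {g : C ⟶ A'}
    {inl : A ⟶ B} {inr : A' ⟶ B} (h : IsPushout f g inl inr) (β : B) :
    ∃ (r : ℕ) (x : Fin r → A) (y : Fin r → A'), β = ∑ i, inl.hom (x i) * inr.hom (y i) := by
  let φ : A ⊗[ℤ] A' →ₐ[ℤ] B :=
    Algebra.TensorProduct.productMap inl.hom.toIntAlgHom inr.hom.toIntAlgHom
  have hφ : ∀ a b, φ (a ⊗ₜ b) = inl.hom a * inr.hom b := fun a b =>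
    Algebra.TensorProduct.productMap_apply_tmul _ _ a b
  let B₀ : CommRingCat.{u} := CommRingCat.of φ.range
  let i₁ : A ⟶ B₀ := CommRingCat.ofHom
    (φ.rangeRestrict.toRingHom.comp Algebra.TensorProduct.includeLeftRingHom)
  let i₂ : A' ⟶ B₀ := CommRingCat.ofHom
    (φ.rangeRestrict.toRingHom.comp
      (Algebra.TensorProduct.includeRight (R := ℤ) (A := A) (B := A')).toRingHom)
  let incl : B₀ ⟶ B := CommRingCat.ofHom φ.range.val.toRingHom
  have hi₁ : i₁ ≫ incl = inl := by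
    ext a
    change φ (a ⊗ₜ 1) = inl.hom a
    rw [hφ, map_one, mul_one]
  have hi₂ : i₂ ≫ incl = inr := by
    ext a
    change φ (1 ⊗ₜ a) = inr.hom a
    rw [hφ, map_one, one_mul]
  have hcomm : f ≫ i₁ = g ≫ i₂ := by
    ext c
    change φ (f.hom c ⊗ₜ 1) = φ (1 ⊗ₜ g.hom c)
    rw [hφ, hφ, map_one, map_one, mul_one, one_mul]
    exact congrArg (fun ψ : C ⟶ B => ψ.hom c) h.w
  let d : B ⟶ B₀ := h.desc i₁ i₂ hcomm
  have hd : d ≫ incl = 𝟙 B := by
    apply h.hom_ext
    · rw [← Category.assoc, h.inl_desc, hi₁, Category.comp_id]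
    · rw [← Category.assoc, h.inr_desc, hi₂, Category.comp_id]
  have hβ : β = incl.hom (d.hom β) := (congrArg (fun ψ : B ⟶ B => ψ.hom β) hd).symm
  obtain ⟨τ, hτ⟩ := (d.hom β).2
  obtain ⟨r, x, y, rfl⟩ := exists_fin_sum_tmul τ
  refine ⟨r, x, y, ?_⟩
  rw [hβ]
  change ((d.hom β : φ.range) : B) = _
  rw [← hτ, map_sum]
  exact Finset.sum_congr rfl (fun i _ => hφ _ _)

end Groth.Agent.Helper15.LocSep
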