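import Mathlib
import Groth.Agent.Lib.Helper15.LocSep2

/-!
# Locally separated algebraic spaces are decent, III: separating functions and evaluation
-/

set_option autoImplicit false
universe u
open CategoryTheory CategoryTheory.Limits AlgebraicGeometry

namespace Groth.Agent.Helper15.LocSep

/-- Disjoint closed subsets of an affine scheme are separated by a global function. -/
theorem exists_separating_function {P : Scheme.{u}} [IsAffine P] (Z₁ Z₂ : Set P)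
    (h₁ : IsClosed Z₁) (h₂ : IsClosed Z₂) (hd : Disjoint Z₁ Z₂) :
    ∃ β : Γ(P, ⊤), (∀ p ∈ Z₂, p ∉ P.basicOpen β) ∧ (∀ p ∈ Z₁, p ∉ P.basicOpen (1 - β)) := by
  obtain ⟨I₁, rfl⟩ := (Scheme.eq_zeroLocus_of_isClosed_of_isAffine P Z₁).1 h₁
  obtain ⟨I₂, rfl⟩ := (Scheme.eq_zeroLocus_of_isClosed_of_isAffine P Z₂).1 h₂
  have htop : I₁ ⊔ I₂ = ⊤ := by
    by_contra hne
    obtain ⟨𝔪, h𝔪, hle⟩ := Ideal.exists_le_maximal _ hne
    let q : PrimeSpectrum Γ(P, ⊤) := ⟨𝔪, h𝔪.isPrime⟩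
    obtain ⟨p, hp⟩ := (ConcreteCategory.bijective_of_isIso P.isoSpec.hom.base).surjective q
    have hp' : P.toSpecΓ p = q := hp
    have hq₁ : q ∈ PrimeSpectrum.zeroLocus (I₁ : Set Γ(P, ⊤)) := fun a ha =>
      hle (Ideal.mem_sup_left ha)
    have hq₂ : q ∈ PrimeSpectrum.zeroLocus (I₂ : Set Γ(P, ⊤)) := fun a ha =>
      hle (Ideal.mem_sup_right ha)
    have hp₁ : p ∈ P.zeroLocus (U := ⊤) (I₁ : Set Γ(P, ⊤)) := by
      rw [← Scheme.toSpecΓ_preimage_zeroLocus, Set.mem_preimage, hp']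
      exact hq₁
    have hp₂ : p ∈ P.zeroLocus (U := ⊤) (I₂ : Set Γ(P, ⊤)) := by
      rw [← Scheme.toSpecΓ_preimage_zeroLocus, Set.mem_preimage, hp']
      exact hq₂
    exact Set.disjoint_left.1 hd hp₁ hp₂
  have h1 : (1 : Γ(P, ⊤)) ∈ I₁ ⊔ I₂ := by rw [htop]; trivial
  obtain ⟨α, hα, β, hβ, hαβ⟩ := Submodule.mem_sup.1 h1
  refine ⟨β, ?_, ?_⟩
  · intro p hp
    exact (Scheme.mem_zeroLocus_iff _ _ p).1 hp β hβ
  · intro p hp
    have : 1 - β = α := by rw [← hαβ]; ring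
    rw [this]
    exact (Scheme.mem_zeroLocus_iff _ _ p).1 hp α hα

/-- Evaluation of global functions at a field-valued point. -/
noncomputable def ev {P : Scheme.{u}} {Ω : Type u} [Field Ω] (z : Spec (CommRingCat.of Ω) ⟶ P) :
    Γ(P, ⊤) →+* Ω :=
  ((Scheme.ΓSpecIso (CommRingCat.of Ω)).hom.hom).comp z.appTop.hom

theorem ev_comp {P Q : Scheme.{u}} {Ω : Type u} [Field Ω] (z : Spec (CommRingCat.of Ω) ⟶ P)
    (f : P ⟶ Q) (b : Γ(Q, ⊤)) : ev (z ≫ f) b = ev z (f.appTop.hom b) := by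
  unfold ev
  rw [Scheme.Hom.comp_appTop]
  rfl

theorem ev_eq_zero {P : Scheme.{u}} {Ω : Type u} [Field Ω] (z : Spec (CommRingCat.of Ω) ⟶ P)
    (b : Γ(P, ⊤)) (h : z (IsLocalRing.closedPoint Ω) ∉ P.basicOpen b) : ev z b = 0 := by
  have h1 : (IsLocalRing.closedPoint Ω : Spec (CommRingCat.of Ω)) ∉ z ⁻¹ᵁ P.basicOpen b := h
  rw [Scheme.preimage_basicOpen_top, basicOpen_eq_of_affine'] at h1
  have h2 : ev z b ∈ (IsLocalRing.closedPoint Ω).asIdeal := by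
    by_contra hcon
    exact h1 hcon
  have h3 : (IsLocalRing.closedPoint Ω).asIdeal = ⊥ := IsLocalRing.maximalIdeal_eq_bot
  rw [h3] at h2
  exact h2

end Groth.Agent.Helper15.LocSep
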