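import Mathlib
import Groth.Agent.Lib.Helper15.LocSep3
import Groth.Agent.Lib.Helper15.SoberAux
import Groth.Agent.Lib.Helper15.AlgSpDiag

/-!
# Locally separated algebraic spaces are decent, IV: universally bounded fibres of affine charts
-/

set_option autoImplicit false
universe u
open CategoryTheory CategoryTheory.Limits AlgebraicGeometry MorphismProperty
open AlgSp

namespace Groth.Agent.Helper15.LocSep

open Groth.Agent.Helper15 Groth.Agent.Helper15.LiftCount Groth.Agent.Helper15.SoberAux

variable {S : Scheme.{u}}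

/-- **Locally separated algebraic spaces have universally bounded fibres on affine charts**: for
the relation `R ⇉ U` of an affine etale chart (mapping into an affine open of the base) the number
of geometric lifts along `s : R ⟶ U` is bounded. -/
theorem exists_bound_hasLifts {X : Sp S} (hls : IsLocallySeparatedSp X)
    {U R : Over S} [IsAffine U.left]
    (φ : (yon S).obj U ⟶ X) (hφ : RepWith @Etale φ) (s t : R ⟶ U)
    (sq : IsPullback ((yon S).map s) ((yon S).map t) φ φ) :
    ∃ r : ℕ, ∀ u : U.left, ¬ HasLifts s.left (r + 1) u := by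
  have hc : s.left ≫ U.hom = t.left ≫ U.hom := by rw [Over.w s, Over.w t]
  let m₀ : R.left ⟶ pullback U.hom U.hom := pullback.lift s.left t.left hc
  have hm₀1 : m₀ ≫ pullback.fst U.hom U.hom = s.left := pullback.lift_fst _ _ _
  have hm₀2 : m₀ ≫ pullback.snd U.hom U.hom = t.left := pullback.lift_snd _ _ _
  have hmeq : m₀ = (prod.lift s t).left ≫ (Over.prodLeftIsoPullback U U).hom := by
    apply pullback.hom_ext
    · rw [hm₀1, Category.assoc, Over.prodLeftIsoPullback_hom_fst, ← Over.comp_left, prod.lift_fst]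
    · rw [hm₀2, Category.assoc, Over.prodLeftIsoPullback_hom_snd, ← Over.comp_left, prod.lift_snd]
  haveI : IsImmersion (prod.lift s t).left := prod_lift_of_repWith_diag hls sq
  haveI : IsImmersion m₀ := by rw [hmeq]; infer_instance
  -- the absolute product
  let h₀ : U.left ⟶ ⊤_ Scheme.{u} := U.hom ≫ terminal.from S
  let m : R.left ⟶ pullback h₀ h₀ := m₀ ≫ pullback.mapDesc U.hom U.hom (terminal.from S)
  haveI : IsImmersion m := inferInstance
  have hmd1 : pullback.mapDesc U.hom U.hom (terminal.from S) ≫ pullback.fst h₀ h₀ =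
      pullback.fst U.hom U.hom :=
    (pullback.lift_fst _ _ _).trans (Category.comp_id _)
  have hmd2 : pullback.mapDesc U.hom U.hom (terminal.from S) ≫ pullback.snd h₀ h₀ =
      pullback.snd U.hom U.hom :=
    (pullback.lift_snd _ _ _).trans (Category.comp_id _)
  have hm1 : m ≫ pullback.fst h₀ h₀ = s.left := by rw [Category.assoc, hmd1, hm₀1]
  have hm2 : m ≫ pullback.snd h₀ h₀ = t.left := by rw [Category.assoc, hmd2, hm₀2]
  have hpb : IsPullback (pullback.fst h₀ h₀) (pullback.snd h₀ h₀) h₀ h₀ :=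
    IsPullback.of_hasPullback _ _
  have hpo := isPushout_appTop_of_isPullback hpb
  -- the unit section
  obtain ⟨e, he1, he2⟩ : ∃ e : U ⟶ R, e ≫ s = 𝟙 U ∧ e ≫ t = 𝟙 U := by
    refine ⟨(yon S).preimage (sq.lift (𝟙 _) (𝟙 _) rfl), ?_, ?_⟩
    · apply (yon S).map_injective
      rw [Functor.map_comp, Functor.map_preimage, sq.lift_fst, CategoryTheory.Functor.map_id]
    · apply (yon S).map_injective
      rw [Functor.map_comp, Functor.map_preimage, sq.lift_snd, CategoryTheory.Functor.map_id]
  have he1' : e.left ≫ s.left = 𝟙 U.left := by rw [← Over.comp_left, he1]; rfl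
  have he2' : e.left ≫ t.left = 𝟙 U.left := by rw [← Over.comp_left, he2]; rfl
  haveI hse : Etale s.left := hφ.property φ _ s sq.flip
  haveI : Etale (e.left ≫ s.left) := by rw [he1']; infer_instance
  haveI : Etale e.left := Etale.of_comp e.left s.left
  haveI : Mono e.left := mono_of_mono_fac he1'
  haveI : IsOpenImmersion e.left := IsOpenImmersion.of_flat_of_mono _
  haveI : IsSeparated h₀ := by
    have : h₀ = terminal.from U.left := Subsingleton.elim _ _
    rw [this]
    infer_instance
  have hΔ : e.left ≫ m = pullback.diagonal h₀ := by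
    apply pullback.hom_ext
    · rw [Category.assoc, hm1, he1', pullback.diagonal_fst]
    · rw [Category.assoc, hm2, he2', pullback.diagonal_snd]
  -- topology
  have hEo : IsOpen (Set.range e.left) := e.left.isOpenEmbedding.isOpen_range
  obtain ⟨N, hN, hNE⟩ := m.isEmbedding.isInducing.isOpen_iff.1 hEo
  let Z₁ : Set ↥(pullback h₀ h₀) := Set.range (pullback.diagonal h₀)
  let Z₂ : Set ↥(pullback h₀ h₀) := closure (m '' (Set.range e.left)ᶜ)
  have hZ₁ : IsClosed Z₁ := (pullback.diagonal h₀).isClosedEmbedding.isClosed_range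
  have hZ₁N : Z₁ ⊆ N := by
    rintro _ ⟨u, rfl⟩
    rw [← hΔ, Scheme.Hom.comp_apply]
    have : e.left u ∈ m ⁻¹' N := by rw [hNE]; exact ⟨u, rfl⟩
    exact this
  have hNd : Disjoint N (m '' (Set.range e.left)ᶜ) := by
    rw [Set.disjoint_left]
    rintro _ hn ⟨ρ, hρ, rfl⟩
    apply hρ
    rw [← hNE]
    exact hn
  have hdisj : Disjoint Z₁ Z₂ := (hNd.closure_right hN).mono_left hZ₁N
  obtain ⟨β, hβ2, hβ1⟩ := exists_separating_function Z₁ Z₂ hZ₁ isClosed_closure hdisj
  obtain ⟨r, x, y, hβ⟩ := exists_fin_sum_of_isPushout hpo β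
  refine ⟨r, ?_⟩
  rintro u ⟨K, _, z, l, hinj, hl, hz⟩
  -- the `K`-points of `U`
  let T : Over S := Over.mk (z ≫ U.hom)
  have hlw : ∀ i, l i ≫ R.hom = z ≫ U.hom := by
    intro i
    rw [← Over.w s, ← Category.assoc, hl]
  let l' : Fin (r + 1) → (T ⟶ R) := fun i => Over.homMk (l i) (hlw i)
  let z' : T ⟶ U := Over.homMk z rfl
  have hl's : ∀ i, l' i ≫ s = z' := fun i => Over.OverMorphism.ext (hl i)
  have hφeq : ∀ i, (yon S).map (l' i ≫ t) ≫ φ = (yon S).map z' ≫ φ := by
    intro i
    rw [Functor.map_comp, Category.assoc, ← sq.w, ← Category.assoc, ← Functor.map_comp, hl's]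
  let ũ : Fin (r + 1) → (Spec (CommRingCat.of K) ⟶ U.left) := fun i => l i ≫ t.left
  have hρ : ∀ n k, ∃ ρ : Spec (CommRingCat.of K) ⟶ R.left, ρ ≫ s.left = ũ n ∧ ρ ≫ t.left = ũ k := by
    intro n k
    refine ⟨((yon S).preimage (sq.lift ((yon S).map (l' n ≫ t)) ((yon S).map (l' k ≫ t))
      ((hφeq n).trans (hφeq k).symm))).left, ?_, ?_⟩
    · have : (yon S).preimage (sq.lift ((yon S).map (l' n ≫ t)) ((yon S).map (l' k ≫ t))
          ((hφeq n).trans (hφeq k).symm)) ≫ s = l' n ≫ t := by
        apply (yon S).map_injective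
        rw [Functor.map_comp, Functor.map_preimage, sq.lift_fst]
      exact congrArg (fun ψ => ψ.left) this
    · have : (yon S).preimage (sq.lift ((yon S).map (l' n ≫ t)) ((yon S).map (l' k ≫ t))
          ((hφeq n).trans (hφeq k).symm)) ≫ t = l' k ≫ t := by
        apply (yon S).map_injective
        rw [Functor.map_comp, Functor.map_preimage, sq.lift_snd]
      exact congrArg (fun ψ => ψ.left) this
  choose ρ hρs hρt using hρ
  have hρE : ∀ n k, n ≠ k → ρ n k (IsLocalRing.closedPoint K) ∉ Set.range e.left := by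
    intro n k hnk hmem
    apply hnk
    have hr : Set.range (ρ n k) ⊆ Set.range e.left := by
      rintro _ ⟨q, rfl⟩
      rw [eq_closedPoint q]
      exact hmem
    obtain ⟨lam, hfac⟩ : ∃ lam, lam ≫ e.left = ρ n k :=
      ⟨IsOpenImmersion.lift e.left (ρ n k) hr, IsOpenImmersion.lift_fac e.left (ρ n k) hr⟩
    have h1 : ũ n = lam := by
      rw [← hρs, ← hfac, Category.assoc, he1', Category.comp_id]
    have h2 : ũ k = lam := by
      rw [← hρt, ← hfac, Category.assoc, he2', Category.comp_id]
    apply hinj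
    apply rel_hom_ext sq
    · rw [hl, hl]
    · exact h1.trans h2.symm
  -- evaluation
  have hev : ∀ (w : Spec (CommRingCat.of K) ⟶ pullback h₀ h₀) (n k : Fin (r + 1)),
      w ≫ pullback.fst h₀ h₀ = ũ n → w ≫ pullback.snd h₀ h₀ = ũ k →
      ev w β = ∑ i, ev (ũ n) (x i) * ev (ũ k) (y i) := by
    intro w n k h1 h2
    rw [hβ, map_sum]
    refine Finset.sum_congr rfl (fun i _ => ?_)
    rw [map_mul, ← ev_comp, ← ev_comp, h1, h2]
  apply false_of_dual_families r (fun n i => ev (ũ n) (x i)) (fun k i => ev (ũ k) (y i))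
  intro n k
  by_cases hnk : n = k
  · subst hnk
    rw [if_pos rfl, ← hev (ũ n ≫ pullback.diagonal h₀) n n
      (by rw [Category.assoc, pullback.diagonal_fst, Category.comp_id])
      (by rw [Category.assoc, pullback.diagonal_snd, Category.comp_id])]
    have h0 : ev (ũ n ≫ pullback.diagonal h₀) (1 - β) = 0 := by
      apply ev_eq_zero
      apply hβ1
      exact ⟨ũ n (IsLocalRing.closedPoint K), (Scheme.Hom.comp_apply _ _ _).symm⟩
    rw [map_sub, map_one, sub_eq_zero] at h0
    exact h0.symm
  · rw [if_neg hnk, ← hev (ρ n k ≫ m) n k (by rw [Category.assoc, hm1, hρs])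
      (by rw [Category.assoc, hm2, hρt])]
    apply ev_eq_zero
    apply hβ2
    apply subset_closure
    exact ⟨ρ n k (IsLocalRing.closedPoint K), hρE n k hnk, (Scheme.Hom.comp_apply _ _ _).symm⟩

end Groth.Agent.Helper15.LocSep
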