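import Mathlib
import Groth.Agent.Lib.Helper15.LocSep4
import Groth.Agent.Lib.Helper15.QcLocal

/-!
# Locally separated algebraic spaces are decent, V
-/

set_option autoImplicit false
universe u
open CategoryTheory CategoryTheory.Limits AlgebraicGeometry MorphismProperty
open AlgSp

namespace Groth.Agent.Helper15.LocSep

open Groth.Agent.Helper15 Groth.Agent.Helper15.LiftCount Groth.Agent.Helper15.SoberAux

variable {S : Scheme.{u}}

/-- If the geometric lifts along the source map of the relation of a chart are bounded, then the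
fibre product of the chart with a one-point scheme is finite. -/
theorem finite_of_hasLifts_bound {X : Sp S} {V R T₀ W : Over S} (ψ : (yon S).obj V ⟶ X)
    (s t : R ⟶ V) (sq : IsPullback ((yon S).map s) ((yon S).map t) ψ ψ) (r : ℕ)
    (hr : ∀ v : V.left, ¬ HasLifts s.left (r + 1) v) [Subsingleton T₀.left]
    (q : (yon S).obj T₀ ⟶ X) (r₁ : W ⟶ T₀) (r₂ : W ⟶ V)
    (sqW : IsPullback ((yon S).map r₁) ((yon S).map r₂) q ψ) : Finite W.left := by
  by_cases hne : Nonempty W.left
  swap
  · haveI : IsEmpty W.left := not_nonempty_iff.1 hne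
    infer_instance
  obtain ⟨w₀⟩ := hne
  have hfin : (r₁.left ⁻¹' {r₁.left w₀}).Finite := by
    apply finite_fibre_of_hasLifts_bound r₁.left (r₁.left w₀) r
    rintro ⟨K, _, z, l, hinj, hl, hz⟩
    let T : Over S := Over.mk (z ≫ T₀.hom)
    have hlw : ∀ i, l i ≫ W.hom = z ≫ T₀.hom := by
      intro i
      rw [← Over.w r₁, ← Category.assoc, hl]
    let l' : Fin (r + 1) → (T ⟶ W) := fun i => Over.homMk (l i) (hlw i)
    let z' : T ⟶ T₀ := Over.homMk z rfl
    have hl'1 : ∀ i, l' i ≫ r₁ = z' := fun i => Over.OverMorphism.ext (hl i)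
    have hψeq : ∀ i, (yon S).map (l' i ≫ r₂) ≫ ψ = (yon S).map z' ≫ q := by
      intro i
      rw [Functor.map_comp, Category.assoc, ← sqW.w, ← Category.assoc, ← Functor.map_comp, hl'1]
    let ρ : Fin (r + 1) → (T ⟶ R) := fun i =>
      (yon S).preimage (sq.lift ((yon S).map (l' 0 ≫ r₂)) ((yon S).map (l' i ≫ r₂))
        ((hψeq 0).trans (hψeq i).symm))
    have hρs : ∀ i, ρ i ≫ s = l' 0 ≫ r₂ := by
      intro i
      apply (yon S).map_injective
      rw [Functor.map_comp, Functor.map_preimage, sq.lift_fst]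
    have hρt : ∀ i, ρ i ≫ t = l' i ≫ r₂ := by
      intro i
      apply (yon S).map_injective
      rw [Functor.map_comp, Functor.map_preimage, sq.lift_snd]
    apply hr ((l' 0 ≫ r₂).left (IsLocalRing.closedPoint K))
    refine ⟨K, inferInstance, (l' 0 ≫ r₂).left, fun i => (ρ i).left, ?_, ?_, rfl⟩
    · intro i k hik
      have h1 : ρ i = ρ k := Over.OverMorphism.ext hik
      have h2 : l' i ≫ r₂ = l' k ≫ r₂ := by rw [← hρt, ← hρt, h1]
      have h3 : (yon S).map (l' i) = (yon S).map (l' k) := by
        apply sqW.hom_ext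
        · rw [← Functor.map_comp, ← Functor.map_comp, hl'1, hl'1]
        · rw [← Functor.map_comp, ← Functor.map_comp, h2]
      have h4 : l' i = l' k := (yon S).map_injective h3
      exact hinj (congrArg (fun ψ => ψ.left) h4)
    · intro i
      exact congrArg (fun ψ => ψ.left) (hρs i)
  have huniv : r₁.left ⁻¹' {r₁.left w₀} = Set.univ := by
    ext w
    simp only [Set.mem_preimage, Set.mem_singleton_iff, Set.mem_univ, iff_true]
    exact Subsingleton.elim _ _
  rw [huniv] at hfin
  exact Set.finite_univ_iff.1 hfin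

/-- **A locally separated algebraic space is decent.** -/
theorem isDecent_of_isLocallySeparatedSp {X : Sp S} (hX : IsAlgSpace X)
    (hls : IsLocallySeparatedSp X) : IsDecent X := by
  intro x
  obtain ⟨U, hU, a, u, hae, rfl⟩ := exists_affine_etale_nbhd hX x
  refine QcLocal.exists_mono_qc_of_ofPt hX a hae u ?_
  refine QcLocal.repWith_quasiCompact_of_etale_charts hX _ ?_
  intro V' W' ψ r₁ r₂ hV' hψ sqW'
  haveI := hV'
  have sqK := hψ.rep.isPullback' ψ
  obtain ⟨r, hr⟩ := exists_bound_hasLifts hls ψ hψ _ _ sqK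
  haveI : Subsingleton (FieldPt.ofPt a u).pt.left :=
    (inferInstance : Subsingleton (PrimeSpectrum (FieldPt.ofPt a u).K))
  haveI : Finite W'.left := finite_of_hasLifts_bound ψ _ _ sqK r hr _ r₁ r₂ sqW'
  infer_instance

end Groth.Agent.Helper15.LocSep
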