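import Mathlib
import Groth.Agent.Lib.Helper15.LocSep5
import Groth.Agent.Lib.Helper15.AlgSpDecent3
import Groth.Agent.Lib.Helper15.SoberDecent
import Groth.Agent.Lib.Helper15.LiftBound

/-!
# Decent spaces with finitely many irreducible components
-/

set_option autoImplicit false
universe u
open CategoryTheory CategoryTheory.Limits AlgebraicGeometry MorphismProperty
open AlgSp

namespace Groth.Agent.Helper15.DecentIrr

open Groth.Agent.Helper15 Groth.Agent.Helper15.LiftCount Groth.Agent.Helper15.SoberAux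

/-- A space covered by the closures of finitely many points has finitely many irreducible
components. -/
theorem finite_irreducibleComponents_of_specializes {Z : Type*} [TopologicalSpace Z]
    (F : Set Z) (hF : F.Finite) (hcov : ∀ z : Z, ∃ x ∈ F, x ⤳ z) :
    (irreducibleComponents Z).Finite := by
  classical
  refine (hF.image (fun x => closure ({x} : Set Z))).subset ?_
  intro D hD
  have hDirr : IsIrreducible D := hD.1
  let t : Finset (Set Z) := hF.toFinset.image (fun x => closure ({x} : Set Z))
  obtain ⟨C, hC, hDC⟩ := isIrreducible_iff_sUnion_isClosed.1 hDirr t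
    (by
      intro C hC
      obtain ⟨x, -, rfl⟩ := Finset.mem_image.1 hC
      exact isClosed_closure)
    (by
      intro z _
      obtain ⟨x, hx, hxz⟩ := hcov z
      exact ⟨closure {x}, Finset.mem_coe.2 (Finset.mem_image.2 ⟨x, hF.mem_toFinset.2 hx, rfl⟩),
        specializes_iff_mem_closure.1 hxz⟩)
  obtain ⟨x, hx, rfl⟩ := Finset.mem_image.1 hC
  refine ⟨x, hF.mem_toFinset.1 hx, ?_⟩
  have hirr : IsIrreducible (closure ({x} : Set Z)) := isIrreducible_singleton.closure
  exact le_antisymm (hD.2 hirr hDC) hDC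


variable {S : Scheme.{u}}

/-- If every point of `X` is a specialization of one of finitely many points with quasi-compact
representatives, then affine etale charts have universally bounded fibres. -/
theorem exists_bound_hasLifts_of_generic {X : Sp S} (hX : IsAlgSpace X) (F : Set (Points X))
    (hF : F.Finite)
    (hFq : ∀ x ∈ F, ∃ p : FieldPt X, Points.mk p = x ∧ RepWith @QuasiCompact p.toHom)
    (hcov : ∀ z : Points X, ∃ x ∈ F, x ⤳ z) {V R : Over S} [IsAffine V.left]
    (ψ : (yon S).obj V ⟶ X) (hψ : RepWith @Etale ψ) (s t : R ⟶ V)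
    (sq : IsPullback ((yon S).map s) ((yon S).map t) ψ ψ) :
    ∃ r : ℕ, ∀ v : V.left, ¬ HasLifts s.left (r + 1) v := by
  classical
  haveI hs_et : Etale s.left := hψ.property ψ ((yon S).map t) s sq.flip
  haveI hs_sep : IsSeparated s.left := isSeparated_rel_left sq
  haveI : LocallyQuasiFinite s.left := locallyQuasiFinite_of_etale _
  let H : Set V.left := Points.ofPt ψ ⁻¹' F
  have hH : H.Finite := by
    have : H = ⋃ x ∈ F, Points.ofPt ψ ⁻¹' {x} := by
      ext v
      simp only [H, Set.mem_preimage, Set.mem_iUnion, Set.mem_singleton_iff, exists_prop]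
      exact ⟨fun h => ⟨_, h, rfl⟩, fun ⟨x, hx, h⟩ => h ▸ hx⟩
    rw [this]
    refine hF.biUnion (fun x hx => ?_)
    obtain ⟨p, rfl, hq⟩ := hFq x hx
    exact finite_fibre_of_repWith_quasiCompact_fieldPt p hq ψ hψ
  -- the fibres of `s` over the points of `H` are finite
  have hfib : ∀ η ∈ H, (s.left ⁻¹' {η}).Finite := by
    intro η hη
    obtain ⟨p, hp, hq⟩ := hFq _ hη
    obtain ⟨p', hp', hm, hq'⟩ := QcLocal.exists_mono_of_quasiCompact_fieldPt hX p hq
    have h2 := ((QcLocal.finite_fibres_iff_mono_quasiCompact hX (Points.ofPt ψ η)).2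
      ⟨p', hp'.trans hp, hm, hq'⟩ V ψ inferInstance hψ R t s sq).2
    refine h2.subset ?_
    intro r hr
    change Points.ofPt ((yon S).map s ≫ ψ) r = Points.ofPt ψ η
    rw [ofPt_comp_yon_map, hr]
  have hbd : ∀ η ∈ H, ∃ N : ℕ, ∀ n, HasLifts s.left n η → n ≤ N := fun η hη =>
    exists_bound_of_finite_fibre s.left η (hfib η hη)
  choose! N hN using hbd
  refine ⟨hH.toFinset.sup N, ?_⟩
  intro v hv
  obtain ⟨x, hx, hxv⟩ := hcov (Points.ofPt ψ v)
  obtain ⟨p, rfl, hq⟩ := hFq x hx
  obtain ⟨w, hwv, hw⟩ := exists_specializes_lift_of_qc_fieldPt p hq ψ hψ v hxv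
  have hwH : w ∈ H := by
    change Points.ofPt ψ w ∈ F
    rw [hw]; exact hx
  have hopen := isOpen_hasLifts (hH.toFinset.sup N + 1) s.left
  have hwl : HasLifts s.left (hH.toFinset.sup N + 1) w := hwv.mem_open hopen hv
  have h1 := hN w hwH _ hwl
  have h2 : N w ≤ hH.toFinset.sup N := Finset.le_sup (hH.mem_toFinset.2 hwH)
  omega

/-- **A criterion for decency**: every point is a specialization of one of finitely many points
with quasi-compact representatives. -/
theorem isDecent_of_generic {X : Sp S} (hX : IsAlgSpace X) (F : Set (Points X))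
    (hF : F.Finite)
    (hFq : ∀ x ∈ F, ∃ p : FieldPt X, Points.mk p = x ∧ RepWith @QuasiCompact p.toHom)
    (hcov : ∀ z : Points X, ∃ x ∈ F, x ⤳ z) : IsDecent X := by
  intro x
  obtain ⟨U, hU, a, u, hae, rfl⟩ := exists_affine_etale_nbhd hX x
  refine QcLocal.exists_mono_qc_of_ofPt hX a hae u ?_
  refine QcLocal.repWith_quasiCompact_of_etale_charts hX _ ?_
  intro V' W' ψ r₁ r₂ hV' hψ sqW'
  haveI := hV'
  have sqK := hψ.rep.isPullback' ψ
  obtain ⟨r, hr⟩ := exists_bound_hasLifts_of_generic hX F hF hFq hcov ψ hψ _ _ sqK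
  haveI : Subsingleton (FieldPt.ofPt a u).pt.left :=
    (inferInstance : Subsingleton (PrimeSpectrum (FieldPt.ofPt a u).K))
  haveI : Finite W'.left := LocSep.finite_of_hasLifts_bound ψ _ _ sqK r hr _ r₁ r₂ sqW'
  infer_instance

end Groth.Agent.Helper15.DecentIrr
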