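import Mathlib
import Groth.Agent.Lib.Helper15.QcEtDecent
import Groth.Agent.Lib.Helper15.AlgSpCD

/-!
# Decent morphisms are etale local on the base
-/

set_option autoImplicit false
universe u
open CategoryTheory CategoryTheory.Limits AlgebraicGeometry Opposite MorphismProperty
open AlgSp

namespace Groth.Agent.Helper15.DecentMorLocal

open Groth.Agent.Helper15 Groth.Agent.Helper15.QcEtDecent

variable {S : Scheme.{u}}

/-- An etale cover of an affine scheme can be refined by an affine etale cover. -/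
theorem exists_affine_etale_refinement {T T' : Over S} [IsAffine T.left] (c : T' ⟶ T)
    (he : Etale c.left) (hsurj : Surjective c.left) :
    ∃ (T'' : Over S) (d : T'' ⟶ T'), IsAffine T''.left ∧ Etale d.left ∧
      Surjective (d ≫ c).left := by
  haveI := he
  haveI := hsurj
  obtain ⟨V, hV, e⟩ := c.left.isOpenMap.exists_opens_image_eq_of_prespectralSpace
    c.left.continuous (by simp) isOpen_univ isCompact_univ
  let V' : T'.left.Opens := V
  haveI : CompactSpace V' := isCompact_iff_compactSpace.mp hV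
  obtain ⟨Y, q, hqs, hqe, hY⟩ :=
    Scheme.exists_hom_isAffine_of_isZariskiLocalAtSource @Etale (V' : Scheme.{u})
  haveI := hqs
  haveI : Etale q := hqe
  let d₀ : Y ⟶ T'.left := q ≫ V'.ι
  refine ⟨Over.mk (d₀ ≫ T'.hom), Over.homMk d₀ rfl, hY, ?_, ?_⟩
  · change Etale (q ≫ V'.ι)
    infer_instance
  · change Surjective (d₀ ≫ c.left)
    refine ⟨fun t => ?_⟩
    obtain ⟨v, hv, rfl⟩ := e.ge (Set.mem_univ t)
    obtain ⟨y, hy⟩ := q.surjective ⟨v, hv⟩
    refine ⟨y, ?_⟩
    change c.left (V'.ι (q y)) = _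
    rw [hy]
    rfl

/-- Decency of a morphism can be checked after an etale surjective base change from a scheme. -/
theorem isDecentMor_of_etale_cover {X Y : Sp S} (hX : IsAlgSpace X) (hY : IsAlgSpace Y)
    (f : X ⟶ Y) {V : Over S} (p : (yon S).obj V ⟶ Y) (hp : RepWith @Etale p)
    (hps : RepWith @Surjective p) (X' : Sp S) (fst : X' ⟶ X) (snd : X' ⟶ (yon S).obj V)
    (hsq : IsPullback fst snd f p) (h : IsDecentMor snd)
    {Z : Over S} (hZ : IsAffine Z.left) (g : (yon S).obj Z ⟶ Y) (P : Sp S) (fstP : P ⟶ X)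
    (sndP : P ⟶ (yon S).obj Z) (sqP : IsPullback fstP sndP f g) : IsDecent P := by
  haveI := hZ
  have hP : IsAlgSpace P := isAlgSpace_of_isPullback hY.diag hX (IsAlgSpace.yon_obj _) sqP
  have sqZ := hp.rep.isPullback' g
  have hce : Etale (hp.rep.snd g).left := hp.property_snd g
  have hcs : Surjective (hp.rep.snd g).left := hps.property g _ _ sqZ
  obtain ⟨Z'', d, hZ'', hde, hds⟩ := exists_affine_etale_refinement (hp.rep.snd g) hce hcs
  haveI := hZ''
  haveI := hde
  haveI := hce
  have hee : Etale (d ≫ hp.rep.snd g).left := by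
    change Etale (d.left ≫ (hp.rep.snd g).left)
    infer_instance
  have heq : QuasiCompact (d ≫ hp.rep.snd g).left :=
    (HasAffineProperty.iff_of_isAffine (P := @QuasiCompact)).2
      (inferInstance : CompactSpace Z''.left)
  have sq'' : IsPullback (pullback.fst sndP ((yon S).map (d ≫ hp.rep.snd g)))
      (pullback.snd sndP ((yon S).map (d ≫ hp.rep.snd g))) sndP
      ((yon S).map (d ≫ hp.rep.snd g)) := IsPullback.of_hasPullback _ _
  have hP'' : IsAlgSpace (pullback sndP ((yon S).map (d ≫ hp.rep.snd g))) :=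
    isAlgSpace_of_isPullback (IsAlgSpace.yon_obj Z).diag hP (IsAlgSpace.yon_obj _) sq''
  have h1 : RepWith @Etale (pullback.fst sndP ((yon S).map (d ≫ hp.rep.snd g))) :=
    (RepWith @Etale).of_isPullback sq''.flip ((repWith_yon_map_iff _ _).2 hee)
  have h2 : RepWith @Surjective (pullback.fst sndP ((yon S).map (d ≫ hp.rep.snd g))) :=
    (RepWith @Surjective).of_isPullback sq''.flip ((repWith_yon_map_iff _ _).2 hds)
  have h3 : RepWith @QuasiCompact (pullback.fst sndP ((yon S).map (d ≫ hp.rep.snd g))) :=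
    (RepWith @QuasiCompact).of_isPullback sq''.flip ((repWith_yon_map_iff _ _).2 heq)
  -- the base change to `Z''` is decent
  have hbig := IsPullback.paste_horiz sq'' sqP
  have hw : (pullback.fst sndP ((yon S).map (d ≫ hp.rep.snd g)) ≫ fstP) ≫ f =
      (pullback.snd sndP ((yon S).map (d ≫ hp.rep.snd g)) ≫
        (yon S).map (d ≫ hp.rep.fst' g)) ≫ p := by
    rw [hbig.w, Category.assoc, Functor.map_comp, Functor.map_comp, Category.assoc,
      Category.assoc, sqZ.w]
  have hl1 : hsq.lift _ _ hw ≫ fst = _ := hsq.lift_fst _ _ hw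
  have hl2 : hsq.lift _ _ hw ≫ snd = _ := hsq.lift_snd _ _ hw
  have sqX' : IsPullback (hsq.lift _ _ hw)
      (pullback.snd sndP ((yon S).map (d ≫ hp.rep.snd g))) snd
      ((yon S).map (d ≫ hp.rep.fst' g)) := by
    refine IsPullback.of_right ?_ hl2 hsq
    rw [hl1]
    have e : (yon S).map (d ≫ hp.rep.fst' g) ≫ p = (yon S).map (d ≫ hp.rep.snd g) ≫ g := by
      rw [Functor.map_comp, Functor.map_comp, Category.assoc, Category.assoc, sqZ.w]
    rw [e]
    exact hbig
  have hdec : IsDecent (pullback sndP ((yon S).map (d ≫ hp.rep.snd g))) := h _ _ _ sqX'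
  exact isDecent_of_qc_etale_surjective hP'' hP _ (isQuasiCompactMor_of_repWith _ h3)
    (isEtaleMor_of_repWith_etale _ h1) (isSurjectiveMor_of_repWith_surjective _ h2) hdec

end Groth.Agent.Helper15.DecentMorLocal
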