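import Mathlib.Topology.KrullDimension
import Mathlib.Topology.Sober
import Mathlib.Order.KrullDimension

set_option autoImplicit false
universe u v

namespace Groth.Agent.Helper15

open Order

/-- Lifting of chains: if `f` is surjective and strict upward steps lift along `f`, the Krull
dimension of the target is at most that of the source. -/
theorem krullDim_le_of_lifting {α : Type u} {β : Type v} [Preorder α] [Preorder β] (f : α → β)
    (hsurj : Function.Surjective f)
    (hlift : ∀ (a : α) (b : β), f a < b → ∃ a' : α, a < a' ∧ f a' = b) :
    krullDim β ≤ krullDim α := by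
  have key : ∀ (l : LTSeries β) (a : α), f a = l.head →
      ∃ L : LTSeries α, L.length = l.length ∧ L.head = a := by
    intro l
    induction l using RelSeries.inductionOn with
    | singleton b =>
      intro a _
      exact ⟨RelSeries.singleton _ a, rfl, rfl⟩
    | cons l q lt ih =>
      intro a ha
      rw [RelSeries.head_cons] at ha
      obtain ⟨a', haa', ha'⟩ := hlift a l.head (by rw [ha]; exact lt)
      obtain ⟨L, hL1, hL2⟩ := ih a' ha'
      refine ⟨L.cons a (by rw [hL2]; exact haa'), ?_, ?_⟩
      · simp [hL1]
      · simp
  rw [krullDim]
  refine iSup_le (fun l => ?_)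
  obtain ⟨a, ha⟩ := hsurj l.head
  obtain ⟨L, hL1, -⟩ := key l a ha
  rw [← hL1]
  exact L.length_le_krullDim

section Spec
variable {X : Type u} {Y : Type v} [TopologicalSpace X] [TopologicalSpace Y]

attribute [local instance] specializationOrder

theorem topologicalKrullDim_eq_krullDim_specialization [QuasiSober X] [T0Space X] :
    topologicalKrullDim X = krullDim X :=
  krullDim_eq_of_orderIso irreducibleSetEquivPoints

/-- A continuous map with no nontrivial specializations in its fibres does not raise the
dimension. -/
theorem topologicalKrullDim_le_of_discrete_fibres [QuasiSober X] [T0Space X] [QuasiSober Y]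
    [T0Space Y] (f : X → Y) (hf : Continuous f)
    (hfib : ∀ x x' : X, x' ⤳ x → f x' = f x → x' = x) :
    topologicalKrullDim X ≤ topologicalKrullDim Y := by
  rw [topologicalKrullDim_eq_krullDim_specialization, topologicalKrullDim_eq_krullDim_specialization]
  refine krullDim_le_of_strictMono f (fun x x' hlt => ?_)
  have hle : x' ⤳ x := hlt.le
  refine lt_of_le_of_ne (hle.map hf) ?_
  intro heq
  exact hlt.ne (hfib x x' hle heq.symm).symm

/-- A surjective generalizing map does not lower the dimension. -/
theorem topologicalKrullDim_le_of_generalizingMap [QuasiSober X] [T0Space X] [QuasiSober Y]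
    [T0Space Y] (f : X → Y) (hsurj : Function.Surjective f) (hgen : GeneralizingMap f) :
    topologicalKrullDim Y ≤ topologicalKrullDim X := by
  rw [topologicalKrullDim_eq_krullDim_specialization, topologicalKrullDim_eq_krullDim_specialization]
  refine krullDim_le_of_lifting f hsurj (fun a b hab => ?_)
  have h1 : b ⤳ f a := hab.le
  obtain ⟨a', ha'a, rfl⟩ := hgen h1
  refine ⟨a', lt_of_le_of_ne ha'a ?_, rfl⟩
  rintro rfl
  exact hab.ne rfl

end Spec

end Groth.Agent.Helper15
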