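import Mathlib
import Groth.Prelude
import Groth.Agent.Lib.Helper15.TopDim
import Groth.Agent.Lib.Helper15.EffCart1

set_option autoImplicit false
set_option linter.unusedSectionVars false
set_option linter.unusedVariables false
set_option linter.style.haveILetI false

universe u

open Order CategoryTheory AlgebraicGeometry TopologicalSpace

namespace Groth.Agent.Helper15.DimDrop

theorem krullDim_add_one_le_of_exists_gt {α β : Type*} [Preorder α] [Preorder β] (f : α → β)
    (hf : StrictMono f) (h : ∀ a, ∃ b, f a < b) : krullDim α + 1 ≤ krullDim β := by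
  cases isEmpty_or_nonempty α with
  | inl he =>
    rw [krullDim_eq_bot]
    simp
  | inr hne =>
    haveI : Nonempty β := hne.map f
    rw [krullDim_eq_iSup_length (α := α), krullDim_eq_iSup_length (α := β)]
    have key : (⨆ p : LTSeries α, (p.length : ℕ∞)) + 1 ≤ ⨆ p : LTSeries β, (p.length : ℕ∞) := by
      rw [ENat.iSup_add]
      refine iSup_le fun p => ?_
      obtain ⟨b, hb⟩ := h p.last
      have hlast : (p.map f hf).last < b := by
        rw [LTSeries.last_map]; exact hb
      refine le_iSup_of_le ((p.map f hf).snoc b hlast) ?_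
      simp
    exact_mod_cast key

/-- A point of an effective Cartier divisor has a generization outside the divisor. -/
theorem exists_specializes_not_mem_support {V : Scheme.{u}} (J : V.IdealSheafData)
    (hJ : BlowUp.IsEffCartierIdeal J) (x : V) :
    ∃ b : V, b ⤳ x ∧ b ∉ J.support := by
  obtain ⟨U, hxU, g, hg, hJU⟩ := hJ x
  have hU : IsAffineOpen U.1 := U.2
  let p := hU.primeIdealOf ⟨x, hxU⟩
  obtain ⟨q, hqmin, hqp⟩ := Ideal.exists_minimalPrimes_le
    (bot_le : (⊥ : Ideal Γ(V, U.1)) ≤ p.asIdeal)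
  have hqprime : q.IsPrime := hqmin.1.1
  have hgq : g ∉ q := by
    intro hgq
    have := Ideal.disjoint_nonZeroDivisors_of_mem_minimalPrimes hqmin
    exact (Set.disjoint_left.mp this) hgq hg
  let qq : PrimeSpectrum Γ(V, U.1) := ⟨q, hqprime⟩
  let b : V := hU.fromSpec qq
  have hb : b ⤳ x := by
    have h1 : qq ⤳ p := (PrimeSpectrum.le_iff_specializes qq p).mp hqp
    have h2 := h1.map hU.fromSpec.continuous
    rwa [hU.fromSpec_primeIdealOf] at h2
  have hbU : b ∈ U.1 := by
    have : b ∈ Set.range hU.fromSpec := ⟨qq, rfl⟩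
    rwa [hU.range_fromSpec] at this
  refine ⟨b, hb, ?_⟩
  rw [EffCart.mem_support_iff_not_mem_basicOpen J U g hJU hbU, not_not]
  have : qq ∈ hU.fromSpec ⁻¹ᵁ V.basicOpen g := by
    rw [hU.fromSpec_preimage_basicOpen]; exact hgq
  exact this

theorem dim_add_one_le {V : Scheme.{u}} (J : V.IdealSheafData)
    (hJ : BlowUp.IsEffCartierIdeal J) (N : V.Opens) :
    topologicalKrullDim ↥(J.subschemeι ⁻¹ᵁ N) + 1 ≤ topologicalKrullDim ↥N := by
  haveI : QuasiSober ↥N := N.2.isOpenEmbedding_subtypeVal.quasiSober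
  haveI : QuasiSober ↥(J.subschemeι ⁻¹ᵁ N) :=
    (J.subschemeι ⁻¹ᵁ N).2.isOpenEmbedding_subtypeVal.quasiSober
  rw [topologicalKrullDim_eq_krullDim_specialization,
    topologicalKrullDim_eq_krullDim_specialization]
  letI iA : Preorder ↥(J.subschemeι ⁻¹ᵁ N) := (specializationOrder _).toPreorder
  letI iB : Preorder ↥N := (specializationOrder _).toPreorder
  let f : ↥(J.subschemeι ⁻¹ᵁ N) → ↥N := fun z => ⟨J.subschemeι z.1, z.2⟩
  have hemb : Topology.IsEmbedding J.subschemeι := J.subschemeι.isEmbedding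
  refine @krullDim_add_one_le_of_exists_gt _ _ iA iB f ?_ ?_
  · intro a a' haa'
    have h1 : a' ⤳ a := (@lt_iff_le_not_ge _ iA a a').mp haa' |>.1
    have h2 : ¬ a ⤳ a' := (@lt_iff_le_not_ge _ iA a a').mp haa' |>.2
    refine (@lt_iff_le_not_ge _ iB (f a) (f a')).mpr ⟨?_, ?_⟩
    · change f a' ⤳ f a
      rw [subtype_specializes_iff]
      exact ((subtype_specializes_iff _ _).mp h1).map J.subschemeι.continuous
    · intro h
      change f a ⤳ f a' at h
      rw [subtype_specializes_iff] at h
      apply h2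
      rw [subtype_specializes_iff]
      exact hemb.isInducing.specializes_iff.mp h
  · intro a
    obtain ⟨b, hb, hbs⟩ := exists_specializes_not_mem_support J hJ (J.subschemeι a.1)
    have hbN : b ∈ N := N.2.stableUnderGeneralization hb a.2
    refine ⟨⟨b, hbN⟩, (@lt_iff_le_not_ge _ iB (f a) ⟨b, hbN⟩).mpr ⟨?_, ?_⟩⟩
    · change (⟨b, hbN⟩ : ↥N) ⤳ f a
      rw [subtype_specializes_iff]
      exact hb
    · intro h
      change f a ⤳ (⟨b, hbN⟩ : ↥N) at h
      rw [subtype_specializes_iff] at h
      apply hbs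
      have hcl : IsClosed (J.support : Set V) := J.support.isClosed
      refine h.mem_closed hcl ?_
      rw [← Scheme.IdealSheafData.range_subschemeι]
      exact ⟨a.1, rfl⟩

theorem localDim_add_one_le {V : Scheme.{u}} (J : V.IdealSheafData)
    (hJ : BlowUp.IsEffCartierIdeal J) (z : J.subscheme) :
    FlatMor.localDim ↥J.subscheme z + 1 ≤ FlatMor.localDim ↥V (J.subschemeι z) := by
  unfold FlatMor.localDim
  refine le_iInf fun N => ?_
  refine le_trans ?_ (dim_add_one_le J hJ N.1)
  gcongr
  exact iInf_le _ (⟨J.subschemeι ⁻¹ᵁ N.1, N.2⟩ :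
    {U : TopologicalSpace.Opens ↥J.subscheme // z ∈ U})

theorem localDim_nonneg {X : Type*} [TopologicalSpace X] (x : X) :
    0 ≤ FlatMor.localDim X x := by
  unfold FlatMor.localDim
  refine le_iInf fun N => ?_
  haveI : Nonempty ↥(N.1 : Set X) := ⟨⟨x, N.2⟩⟩
  unfold topologicalKrullDim
  have : Nonempty (IrreducibleCloseds ↥(N.1 : Set X)) :=
    ⟨⟨closure {⟨x, N.2⟩}, isIrreducible_singleton.closure, isClosed_closure⟩⟩
  exact Order.krullDim_nonneg

theorem lt_of_add_one_le {a d : WithBot ℕ∞} (ha : 0 ≤ a) (h : a + 1 ≤ d) (hd : d ≠ ⊤) : a < d := by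
  induction a using WithBot.recBotCoe with
  | bot => simp at ha
  | coe n =>
    induction d using WithBot.recBotCoe with
    | bot => simp at h
    | coe m =>
      have h' : n + 1 ≤ m := by exact_mod_cast h
      have hm : m ≠ ⊤ := by
        intro hm; apply hd; rw [hm]; rfl
      have hn : n ≠ ⊤ := by
        rintro rfl
        simp at h'
        exact hm h'
      have : n < m := lt_of_lt_of_le (ENat.lt_add_one_iff hn |>.mpr le_rfl) h'
      exact_mod_cast this

theorem localDim_lt {V : Scheme.{u}} (J : V.IdealSheafData)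
    (hJ : BlowUp.IsEffCartierIdeal J) (z : J.subscheme) (d : WithBot ℕ∞)
    (hd : FlatMor.localDim ↥V (J.subschemeι z) = d) (hfin : d ≠ ⊤) :
    FlatMor.localDim ↥J.subscheme z < d :=
  lt_of_add_one_le (localDim_nonneg z) (hd ▸ localDim_add_one_le J hJ z) hfin

end Groth.Agent.Helper15.DimDrop
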