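import Mathlib
import Groth.Prelude
import Groth.Agent.Lib.Helper15.DimDrop1
import Groth.Agent.Lib.Helper15.AlgSpDimEt
import Groth.Agent.Lib.Helper15.AlgSpTop

set_option autoImplicit false
set_option linter.unusedSectionVars false
set_option linter.unusedVariables false
set_option linter.style.haveILetI false

universe u

open CategoryTheory CategoryTheory.Limits AlgebraicGeometry MorphismProperty Opposite AlgSp

namespace Groth.Agent.Helper15.DimDrop

theorem main10794 {S : Scheme.{u}} (X D : AlgSp.Space S) (i : D ⟶ X)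
    (hD : AlgSp.IsEffCartierSub i.hom) (x : AlgSp.Points D.obj) (d : WithBot ℕ∞)
    (hd : AlgSp.HasAt (fun U u => FlatMor.localDim ↥U u = d) X.obj (AlgSp.Points.map i.hom x))
    (hfin : d ≠ ⊤) :
    AlgSp.HasAt (fun V v => FlatMor.localDim ↥V v < d) D.obj x := by
  obtain ⟨hi, V, ψ, J, fstJ, hψe, hψs, sqJ, hJ⟩ := hD
  have hfe : RepWith @Etale fstJ := (RepWith @Etale).of_isPullback sqJ.flip hψe
  have hfs : RepWith @Surjective fstJ := (RepWith @Surjective).of_isPullback sqJ.flip hψs
  obtain ⟨z, hz⟩ := surjective_ofPt fstJ hfs x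
  refine ⟨Over.mk (J.subschemeι ≫ V.hom), fstJ, z, hfe, hz, ?_⟩
  have h1 : FlatMor.localDim ↥V.left (J.subschemeι z) = d := by
    refine hasAt_forall_chart (etInv_localDim d) _ hd V ψ (J.subschemeι z) hψe ?_
    have h2 := ofPt_comp_yon_map
      (CategoryTheory.Over.homMk J.subschemeι rfl : Over.mk (J.subschemeι ≫ V.hom) ⟶ V) ψ z
    change Points.ofPt ψ (J.subschemeι z) = _
    change _ = Points.ofPt ψ (J.subschemeι z) at h2
    rw [← h2, ← sqJ.w, ← Points.map_ofPt, hz]
  exact localDim_lt J hJ z d h1 hfin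

end Groth.Agent.Helper15.DimDrop
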