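import Mathlib
import Groth.Prelude

set_option autoImplicit false
set_option linter.unusedSectionVars false
set_option linter.unusedVariables false
set_option linter.style.haveILetI false

universe u

open CategoryTheory CategoryTheory.Limits AlgebraicGeometry Opposite AlgSp

namespace Groth.Agent.Helper15.WAssEt

variable {S : Scheme.{u}} (X : AlgSp.Sp S)

/-- sections over an object of the small étale site, as an abelian-group valued functor -/
noncomputable abbrev secF (E : AlgSp.EtOver X) : AlgSp.ModEt X ⥤ AddCommGrpCat.{u + 1} :=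
  SheafOfModules.toSheaf (AlgSp.OEtRing X) ⋙
    sheafToPresheaf (AlgSp.etTop X) AddCommGrpCat.{u + 1} ⋙ (evaluation _ _).obj (op E)

theorem secF_map_apply (E : AlgSp.EtOver X) {M N : AlgSp.ModEt X} (φ : M ⟶ N)
    (x : AlgSp.sectModEt M E) :
    ((secF X E).map φ).hom x = (φ.val.app (op E)).hom x := rfl

/-- sections are left exact -/
theorem sections_left_exact (C : ShortComplex (AlgSp.ModEt X)) (hC : C.ShortExact)
    (E : AlgSp.EtOver X) :
    Function.Injective (C.f.val.app (op E)).hom ∧
      ∀ x : AlgSp.sectModEt C.X₂ E, (C.g.val.app (op E)).hom x = 0 →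
        ∃ y : AlgSp.sectModEt C.X₁ E, (C.f.val.app (op E)).hom y = x := by
  haveI := hC.mono_f
  have hex : (C.map (secF X E)).Exact :=
    hC.exact.map_of_mono_of_preservesKernel (secF X E) hC.mono_f inferInstance
  haveI hmono : Mono ((secF X E).map C.f) := inferInstance
  constructor
  · exact (AddCommGrpCat.mono_iff_injective _).mp hmono
  · intro x hx
    have := (ShortComplex.ab_exact_iff (C.map (secF X E))).mp hex x hx
    obtain ⟨y, hy⟩ := this
    exact ⟨y, hy⟩

end Groth.Agent.Helper15.WAssEt
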