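import Mathlib
import Groth.Prelude
import Groth.Agent.Lib.Helper15.WAssEt1

set_option autoImplicit false
set_option linter.unusedSectionVars false
set_option linter.unusedVariables false
set_option linter.style.haveILetI false

universe u

open CategoryTheory CategoryTheory.Limits AlgebraicGeometry Opposite AlgSp

namespace Groth.Agent.Helper15.WAssEt

variable {S : Scheme.{u}} {X : AlgSp.Sp S}

theorem annSect_map_le {M N : AlgSp.ModEt X} (φ : M ⟶ N) (E : AlgSp.EtOver X)
    (s : AlgSp.sectModEt M E) :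
    AlgSp.annSect s ≤ AlgSp.annSect ((φ.val.app (op E)).hom s) := by
  intro a ha
  rw [AlgSp.mem_annSect_iff] at ha ⊢
  rw [← map_smul, ha, map_zero]

theorem annSect_map_eq {M N : AlgSp.ModEt X} (φ : M ⟶ N) (E : AlgSp.EtOver X)
    (hinj : Function.Injective (φ.val.app (op E)).hom) (s : AlgSp.sectModEt M E) :
    AlgSp.annSect ((φ.val.app (op E)).hom s) = AlgSp.annSect s := by
  apply le_antisymm _ (annSect_map_le φ E s)
  intro a ha
  rw [AlgSp.mem_annSect_iff] at ha ⊢
  apply hinj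
  rw [map_smul, ha, map_zero]

theorem mem_annSect_smul {M : AlgSp.ModEt X} (E : AlgSp.EtOver X) (s : AlgSp.sectModEt M E)
    (a b : Γ(E.obj.left.left, ⊤)) :
    b ∈ AlgSp.annSect ((AlgSp.upΓ E a) • s) ↔ b * a ∈ AlgSp.annSect s := by
  rw [AlgSp.mem_annSect_iff, AlgSp.mem_annSect_iff, map_mul, mul_smul]

theorem weakAss_shortExact (C : ShortComplex (AlgSp.ModEt X)) (hC : C.ShortExact) :
    AlgSp.WeakAssEt C.X₂ ⊆ AlgSp.WeakAssEt C.X₁ ∪ AlgSp.WeakAssEt C.X₃ ∧
      AlgSp.WeakAssEt C.X₁ ⊆ AlgSp.WeakAssEt C.X₂ := by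
  constructor
  · rintro x ⟨E, hE, u, hux, s, hp⟩
    obtain ⟨hinj, hexact⟩ := sections_left_exact X C hC E
    set p := AlgSp.primeAtPt E.obj.left.left u with hpdef
    by_cases hcase : AlgSp.annSect ((C.g.val.app (op E)).hom s) ≤ p
    · right
      refine ⟨E, hE, u, hux, (C.g.val.app (op E)).hom s, ⟨hp.1.1, hcase⟩, ?_⟩
      rintro q ⟨hq, hqle⟩ hqp
      exact hp.2 ⟨hq, (annSect_map_le C.g E s).trans hqle⟩ hqp
    · left
      obtain ⟨a, ha, hap⟩ := Set.not_subset.mp hcase
      have h1 : (C.g.val.app (op E)).hom ((AlgSp.upΓ E a) • s) = 0 := by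
        rw [map_smul]
        exact (AlgSp.mem_annSect_iff _ a).mp ha
      obtain ⟨y, hy⟩ := hexact _ h1
      have hann : AlgSp.annSect y = AlgSp.annSect ((AlgSp.upΓ E a) • s) := by
        rw [← hy, annSect_map_eq C.f E hinj]
      refine ⟨E, hE, u, hux, y, ⟨hp.1.1, ?_⟩, ?_⟩
      · intro b hb
        rw [hann, mem_annSect_smul] at hb
        have hb' : b * a ∈ p := hp.1.2 hb
        exact (hp.1.1.mem_or_mem hb').resolve_right hap
      · rintro q ⟨hq, hqle⟩ hqp
        refine hp.2 ⟨hq, ?_⟩ hqp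
        intro b hb
        apply hqle
        rw [hann, mem_annSect_smul]
        exact Ideal.mul_mem_right _ _ hb
  · rintro x ⟨E, hE, u, hux, s, hp⟩
    obtain ⟨hinj, -⟩ := sections_left_exact X C hC E
    refine ⟨E, hE, u, hux, (C.f.val.app (op E)).hom s, ?_⟩
    rw [annSect_map_eq C.f E hinj]
    exact hp

end Groth.Agent.Helper15.WAssEt
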