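import Mathlib
import Groth.Prelude
import Groth.Agent.Lib.Helper15.WAssEt2
import Groth.Agent.Lib.Helper15.AlgSpEtOverOpen

set_option autoImplicit false
set_option linter.unusedSectionVars false
set_option linter.unusedVariables false
set_option linter.style.haveILetI false

universe u

open CategoryTheory CategoryTheory.Limits AlgebraicGeometry Opposite AlgSp

namespace Groth.Agent.Helper15.WAssEt

variable {S : Scheme.{u}} {X : AlgSp.Sp S}

/-- separatedness of module sections for jointly surjective families -/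
theorem sect_eq_zero_of_cover (M : AlgSp.ModEt X) {E : AlgSp.EtOver X} {ι : Type*}
    (Y : ι → AlgSp.EtOver X) (g : ∀ i, Y i ⟶ E)
    (hcov : ∀ x : ↥E.obj.left.left, ∃ i, x ∈ Set.range (g i).hom.left.left)
    (s : AlgSp.sectModEt M E)
    (h : ∀ i, (M.val.presheaf.map (g i).op).hom s = 0) : s = 0 :=
  Groth.Agent.Helper15.abEt_eq_zero_of_cover ((SheafOfModules.toSheaf _).obj M) Y g hcov s h

theorem exists_primeAtPt_eq (U : Scheme.{u}) [IsAffine U] (p : Ideal Γ(U, ⊤)) [hp : p.IsPrime] :
    ∃ u : U, AlgSp.primeAtPt U u = p := by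
  have hU := isAffineOpen_top U
  obtain ⟨x, hx⟩ : ∃ x : ((⊤ : U.Opens) : Scheme), hU.isoSpec.hom x = ⟨p, hp⟩ :=
    (Scheme.homeoOfIso hU.isoSpec).surjective _
  refine ⟨x.1, ?_⟩
  have h1 := hU.primeIdealOf_eq_map_closedPoint x
  have h2 : hU.primeIdealOf x = ⟨p, hp⟩ := hx
  rw [h2] at h1
  have := congrArg PrimeSpectrum.asIdeal h1
  exact this.symm

theorem isZero_iff_sections (M : AlgSp.ModEt X) :
    IsZero M ↔ ∀ (E : AlgSp.EtOver X) (s : AlgSp.sectModEt M E), s = 0 := by
  constructor
  · intro h E s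
    have h1 : 𝟙 M = 0 := (IsZero.iff_id_eq_zero M).mp h
    have h2 : ((secF X E).map (𝟙 M)).hom s = ((secF X E).map (0 : M ⟶ M)).hom s := by rw [h1]
    rw [Functor.map_zero] at h2
    have h3 : ((secF X E).map (𝟙 M)).hom s = s := by
      rw [CategoryTheory.Functor.map_id]; rfl
    rw [h3] at h2
    exact h2
  · intro h
    rw [IsZero.iff_id_eq_zero]
    apply SheafOfModules.hom_ext
    apply PresheafOfModules.hom_ext
    intro E
    apply ModuleCat.hom_ext
    apply LinearMap.ext
    intro s
    have hs : s = 0 := h E.unop s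
    rw [hs, map_zero, map_zero]

theorem isZero_iff_weakAssEt_eq_empty (M : AlgSp.ModEt X) :
    IsZero M ↔ AlgSp.WeakAssEt M = ∅ := by
  constructor
  · intro h
    rw [Set.eq_empty_iff_forall_notMem]
    rintro x ⟨E, hE, u, hux, s, hp⟩
    have hs : s = 0 := (isZero_iff_sections M).mp h E s
    have htop : AlgSp.annSect s = ⊤ := by
      rw [Ideal.eq_top_iff_one, AlgSp.mem_annSect_iff, hs, smul_zero]
    rw [htop] at hp
    exact hp.1.1.ne_top (top_le_iff.mp hp.1.2)
  · intro h
    rw [isZero_iff_sections]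
    by_contra hne
    push_neg at hne
    obtain ⟨E, s, hs⟩ := hne
    have hcov : ∀ x : ↥E.obj.left.left, ∃ i : E.obj.left.left.affineOpens,
        x ∈ Set.range (etOverOpenι E i.1).hom.left.left := by
      intro x
      obtain ⟨O, hO, hx, -⟩ := exists_isAffineOpen_mem_and_subset (x := x)
        (U := (⊤ : E.obj.left.left.Opens)) trivial
      exact ⟨⟨O, hO⟩, by rw [range_etOverOpenι]; exact hx⟩
    have hex : ∃ i : E.obj.left.left.affineOpens,
        (M.val.presheaf.map (etOverOpenι E i.1).op).hom s ≠ 0 := by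
      by_contra hall
      push_neg at hall
      exact hs (sect_eq_zero_of_cover M _ _ hcov s hall)
    obtain ⟨i, hi⟩ := hex
    haveI hAff : IsAffine (etOverOpen E i.1).obj.left.left := i.2
    let t : AlgSp.sectModEt M (etOverOpen E i.1) :=
      (M.val.presheaf.map (etOverOpenι E i.1).op).hom s
    have htne : AlgSp.annSect t ≠ ⊤ := by
      intro htop
      have h1 : (1 : Γ((etOverOpen E i.1).obj.left.left, ⊤)) ∈ AlgSp.annSect t :=
        htop ▸ Submodule.mem_top
      rw [AlgSp.mem_annSect_iff, map_one, one_smul] at h1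
      exact hi h1
    obtain ⟨m, hm, hle⟩ := Ideal.exists_le_maximal _ htne
    haveI := hm.isPrime
    obtain ⟨p, hp, -⟩ := Ideal.exists_minimalPrimes_le hle
    haveI := hp.1.1
    obtain ⟨u, hu⟩ := exists_primeAtPt_eq (etOverOpen E i.1).obj.left.left p
    have hmem : AlgSp.Points.ofPt (etOverOpen E i.1).obj.hom u ∈ AlgSp.WeakAssEt M :=
      ⟨etOverOpen E i.1, hAff, u, rfl, t, hu ▸ hp⟩
    rw [h] at hmem
    exact hmem

end Groth.Agent.Helper15.WAssEt
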