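import Mathlib
import Groth.Prelude
import Groth.Agent.Lib.Helper15.WAssEt3
import Groth.Agent.Lib.Helper15.AlgSpDimEt
import Groth.Agent.Lib.Helper16.AlgSp.RedSp

set_option autoImplicit false
set_option linter.unusedSectionVars false
set_option linter.unusedVariables false
set_option linter.style.haveILetI false

universe u

open CategoryTheory CategoryTheory.Limits AlgebraicGeometry Opposite AlgSp

namespace Groth.Agent.Helper15.WAssEt

/-- In a reduced ring, a prime minimal over the annihilator of an element is a minimal prime. -/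
theorem mem_minimalPrimes_of_isReduced {A : Type*} [CommRing A] [IsReduced A] (t : A)
    (J : Ideal A) (hJ : ∀ a, a ∈ J ↔ a * t = 0) (p : Ideal A) (hp : p ∈ J.minimalPrimes) :
    p ∈ minimalPrimes A := by
  haveI : p.IsPrime := hp.1.1
  have hq : ∃ q : Ideal A, q.IsPrime ∧ q ≤ p ∧ t ∉ q := by
    let M : Submonoid A := p.primeCompl ⊔ Submonoid.powers t
    have hdisj : Disjoint ((⊥ : Ideal A) : Set A) (M : Set A) := by
      rw [Set.disjoint_left]
      rintro x hx hxM
      have hx0 : x = 0 := hx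
      subst hx0
      obtain ⟨c, hc, z, ⟨n, rfl⟩, hcz⟩ := Submonoid.mem_sup.mp hxM
      have hnil : IsNilpotent (c * t) := by
        refine ⟨n + 1, ?_⟩
        have : (c * t) ^ (n + 1) = c ^ n * t * (c * t ^ n) := by ring
        rw [this, hcz, mul_zero]
      have h0 : c * t = 0 := hnil.eq_zero
      exact hc (hp.1.2 ((hJ c).2 h0))
    obtain ⟨q, hqp, -, hqM⟩ := Ideal.exists_le_prime_disjoint ⊥ M hdisj
    refine ⟨q, hqp, ?_, ?_⟩
    · intro x hx
      by_contra hxp
      exact Set.disjoint_left.mp hqM hx (Submonoid.mem_sup_left hxp)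
    · intro ht
      exact Set.disjoint_left.mp hqM ht (Submonoid.mem_sup_right (Submonoid.mem_powers t))
  obtain ⟨q, hqprime, hqp, htq⟩ := hq
  obtain ⟨q₀, hq₀, hq₀q⟩ := Ideal.exists_minimalPrimes_le (show (⊥ : Ideal A) ≤ q from bot_le)
  haveI : q₀.IsPrime := hq₀.1.1
  have hJq : J ≤ q₀ := by
    intro a ha
    have h1 : a * t ∈ q₀ := by rw [(hJ a).1 ha]; exact q₀.zero_mem
    exact (Ideal.IsPrime.mem_or_mem inferInstance h1).resolve_right (fun h => htq (hq₀q h))
  have h1 : p ≤ q₀ := hp.2 ⟨inferInstance, hJq⟩ (hq₀q.trans hqp)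
  have h2 : p = q₀ := le_antisymm h1 (hq₀q.trans hqp)
  rw [h2]
  exact hq₀

/-- on an affine scheme, the local ring at `u` has dimension zero iff the prime of `u` is minimal -/
theorem ringKrullDim_stalk_eq_zero_iff (U : Scheme.{u}) [IsAffine U] (u : U) :
    ringKrullDim ↥(U.presheaf.stalk u) = 0 ↔ AlgSp.primeAtPt U u ∈ minimalPrimes Γ(U, ⊤) := by
  have hU := isAffineOpen_top U
  letI := U.presheaf.algebra_section_stalk (⟨u, trivial⟩ : (⊤ : U.Opens))
  haveI := hU.isLocalization_stalk ⟨u, trivial⟩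
  have h1 := hU.primeIdealOf_eq_map_closedPoint ⟨u, trivial⟩
  have h2 : (hU.primeIdealOf ⟨u, trivial⟩).asIdeal = AlgSp.primeAtPt U u :=
    congrArg PrimeSpectrum.asIdeal h1
  rw [IsLocalization.AtPrime.ringKrullDim_eq_height (hU.primeIdealOf ⟨u, trivial⟩).asIdeal
    (U.presheaf.stalk u), h2]
  rw [← Ideal.height_eq_zero_iff]
  norm_cast

variable {S : Scheme.{u}} {X : AlgSp.Sp S}

theorem mem_annSect_unit_iff (E : AlgSp.EtOver X) (s : AlgSp.sectModEt (AlgSp.unitModEt X) E)
    (a : Γ(E.obj.left.left, ⊤)) :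
    a ∈ AlgSp.annSect s ↔ AlgSp.upΓ E a * (show (OEtRing X).obj.obj (op E) from s) = 0 :=
  Iff.rfl

end Groth.Agent.Helper15.WAssEt
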