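import Mathlib
import Groth.Prelude
import Groth.Agent.Lib.Helper15.WAssEt4

set_option autoImplicit false
set_option linter.unusedSectionVars false
set_option linter.unusedVariables false
set_option linter.style.haveILetI false

universe u

open CategoryTheory CategoryTheory.Limits AlgebraicGeometry Opposite AlgSp

namespace Groth.Agent.Helper15.WAssEt

open Groth.Agent.Helper15

variable {S : Scheme.{u}} {X : AlgSp.Sp S}

theorem main10805 (hX : IsReducedSp X) (x : Points X) :
    x ∈ WeakAssEt (unitModEt X) ↔
      HasAt (fun U u => ringKrullDim ↥(U.presheaf.stalk u) = 0) X x := by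
  constructor
  · rintro ⟨E, hE, u, hu, s, hs⟩
    haveI := hE
    haveI : IsReduced E.obj.left.left :=
      Groth.Agent.Helper16.AS.isReduced_of_etale_of_isReducedSp hX E.obj.hom E.property
    refine ⟨E.obj.left, E.obj.hom, u, E.property, hu, ?_⟩
    change ringKrullDim ↥(E.obj.left.left.presheaf.stalk u) = 0
    rw [ringKrullDim_stalk_eq_zero_iff]
    let t : Γ(E.obj.left.left, ⊤) := ULift.down (show ULift Γ(E.obj.left.left, ⊤) from s)
    refine mem_minimalPrimes_of_isReduced t (annSect s) (fun a => ?_) _ hs
    rw [mem_annSect_unit_iff]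
    constructor
    · intro h
      exact congrArg ULift.down h
    · intro h
      exact ULift.ext _ _ h
  · rintro ⟨U, a, u, ha, hu, hdim⟩
    obtain ⟨_, ⟨V, hV, rfl⟩, huV, -⟩ :=
      U.left.isBasis_affineOpens.exists_subset_of_mem_open (Set.mem_univ u) isOpen_univ
    let E₀ : EtOver X := EtOver.mk a ha
    let E : EtOver X := etOverOpen E₀ V
    haveI hEaff : IsAffine E.obj.left.left := hV
    refine ⟨E, hEaff, ⟨u, huV⟩, ?_, ?_⟩
    · change Points.ofPt ((yon S).map (etOverOpenιOver E₀ V) ≫ a) _ = x
      rw [ofPt_comp_yon_map]
      exact hu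
    · refine ⟨(1 : (OEtRing X).obj.obj (op E)), ?_⟩
      have hann : annSect (M := unitModEt X) (E := E) (1 : (OEtRing X).obj.obj (op E)) = ⊥ := by
        ext b
        rw [mem_annSect_unit_iff]
        constructor
        · intro h
          have h' : AlgSp.upΓ E b = 0 := by simpa using h
          have := congrArg ULift.down h'
          exact this
        · intro h
          rw [Ideal.mem_bot] at h
          rw [h, map_zero, zero_mul]
      rw [hann]
      have h1 := (ringKrullDim_stalk_eq_zero_iff (E.obj.left.left) (⟨u, huV⟩ : V)).mp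
      apply h1
      have h2 := ringKrullDim_stalk_eq_of_etale (Scheme.Opens.ι (X := U.left) V) (⟨u, huV⟩ : V)
      exact h2.trans hdim

end Groth.Agent.Helper15.WAssEt
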