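import Mathlib
import Groth.Prelude
import Groth.Agent.Lib.Helper15.WAssEt5
import Groth.Agent.Lib.Helper15.EffCart6
import Groth.Agent.Lib.Helper6.IdealComap

set_option autoImplicit false
set_option linter.unusedSectionVars false
set_option linter.unusedVariables false
set_option linter.style.haveILetI false

universe u

open CategoryTheory CategoryTheory.Limits AlgebraicGeometry Opposite MorphismProperty
open AlgSp

namespace Groth.Agent.Helper15.EffCartAv

/-- the pulled back generator of a principal ideal is a nonzerodivisor as soon as the weakly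
associated points avoid the support -/
theorem mem_nonZeroDivisors_of_avoid {U₀ V : Scheme.{u}} [IsAffine U₀] (q : U₀ ⟶ V)
    (J : V.IdealSheafData) (O' : V.affineOpens) (e : (⊤ : U₀.Opens) ≤ q ⁻¹ᵁ O'.1)
    (g : Γ(V, O'.1)) (hg : J.ideal O' = Ideal.span {g})
    (hav : ∀ (w : U₀) (t : Γ(U₀, ⊤)) (Jt : Ideal Γ(U₀, ⊤)), (∀ a, a ∈ Jt ↔ a * t = 0) →
      AlgSp.primeAtPt U₀ w ∈ Jt.minimalPrimes → q w ∉ J.support) :
    q.appLE O'.1 ⊤ e g ∈ nonZeroDivisors Γ(U₀, ⊤) := by
  rw [mem_nonZeroDivisors_iff_right]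
  intro t ht
  by_contra ht0
  let Jt : Ideal Γ(U₀, ⊤) := LinearMap.ker (LinearMap.toSpanSingleton Γ(U₀, ⊤) Γ(U₀, ⊤) t)
  have hJt : ∀ a, a ∈ Jt ↔ a * t = 0 := fun a => by
    simp [Jt, LinearMap.mem_ker, LinearMap.toSpanSingleton_apply]
  have hne : Jt ≠ ⊤ := by
    intro h
    have h1 : (1 : Γ(U₀, ⊤)) ∈ Jt := h ▸ Submodule.mem_top
    rw [hJt, one_mul] at h1
    exact ht0 h1
  obtain ⟨m, hm, hJm⟩ := Ideal.exists_le_maximal Jt hne
  haveI := hm.isPrime
  obtain ⟨p, hp, hpm⟩ := Ideal.exists_minimalPrimes_le hJm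
  haveI := hp.1.1
  obtain ⟨w, hw⟩ := WAssEt.exists_primeAtPt_eq U₀ p
  have h1 := hav w t Jt hJt (hw ▸ hp)
  have hg'' : q.appLE O'.1 ⊤ e g ∈ AlgSp.primeAtPt U₀ w := by
    rw [hw]
    apply hp.1.2
    rw [hJt, mul_comm]
    exact ht
  apply h1
  have hqw : q w ∈ O'.1 := e (show w ∈ (⊤ : U₀.Opens) from trivial)
  rw [EffCart.mem_support_iff_not_mem_basicOpen J O' g hg hqw]
  intro hb
  rw [Scheme.mem_basicOpen _ _ _ hqw] at hb
  have h2 := hb.map (q.stalkMap w).hom
  have h3 : (q.stalkMap w).hom (V.presheaf.germ O'.1 (q w) hqw g) =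
      U₀.presheaf.germ ⊤ w trivial (q.appLE O'.1 ⊤ e g) := by
    have h4 := Scheme.Hom.germ_stalkMap_apply q O'.1 w hqw g
    rw [Scheme.Hom.appLE]
    exact h4.trans (TopCat.Presheaf.germ_res_apply U₀.presheaf (homOfLE e) w trivial _).symm
  rw [h3] at h2
  exact (IsLocalRing.mem_maximalIdeal _).mp hg'' h2

variable {S : Scheme.{u}}

/-- the inverse image ideal cuts out the inverse image of a closed subspace -/
theorem exists_isPullback_comap {Y D : Sp S} (i : D ⟶ Y) {V W : Over S}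
    (ψ : (yon S).obj V ⟶ Y) (J : V.left.IdealSheafData)
    (fstJ : (yon S).obj (Over.mk (J.subschemeι ≫ V.hom)) ⟶ D)
    (sqJ : IsPullback fstJ ((yon S).map
      (Over.homMk J.subschemeι rfl : Over.mk (J.subschemeι ≫ V.hom) ⟶ V)) i ψ)
    (r : W ⟶ V) :
    ∃ fstK : (yon S).obj (Over.mk ((J.comap r.left).subschemeι ≫ W.hom)) ⟶ D,
      IsPullback fstK ((yon S).map
        (Over.homMk (J.comap r.left).subschemeι rfl :
          Over.mk ((J.comap r.left).subschemeι ≫ W.hom) ⟶ W)) i ((yon S).map r ≫ ψ) := by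
  let K := J.comap r.left
  let a₀ : K.subscheme ⟶ J.subscheme :=
    (J.comapIso r.left).hom ≫ pullback.snd r.left J.subschemeι
  have sqS : IsPullback a₀ K.subschemeι J.subschemeι r.left := by
    have h := IsPullback.of_hasPullback r.left J.subschemeι
    refine IsPullback.of_iso h.flip (J.comapIso r.left).symm (Iso.refl _) (Iso.refl _)
      (Iso.refl _) ?_ ?_ ?_ ?_
    · change pullback.snd _ _ ≫ 𝟙 _ =
        (J.comapIso r.left).inv ≫ (J.comapIso r.left).hom ≫ pullback.snd _ _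
      rw [Iso.inv_hom_id_assoc, Category.comp_id]
    · simp [K]
    · simp
    · simp
  have hw : a₀ ≫ J.subschemeι ≫ V.hom = K.subschemeι ≫ W.hom := by
    rw [← Category.assoc, sqS.w, Category.assoc, Over.w r]
  let aO : Over.mk (K.subschemeι ≫ W.hom) ⟶ Over.mk (J.subschemeι ≫ V.hom) :=
    CategoryTheory.Over.homMk a₀ hw
  have sqO : IsPullback aO
      (CategoryTheory.Over.homMk K.subschemeι rfl : Over.mk (K.subschemeι ≫ W.hom) ⟶ W)
      (CategoryTheory.Over.homMk J.subschemeι rfl : Over.mk (J.subschemeι ≫ V.hom) ⟶ V) r :=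
    IsPullback.of_map_of_faithful (Over.forget S) sqS
  exact ⟨(yon S).map aO ≫ fstJ, (sqO.map (yon S)).paste_horiz sqJ⟩

end Groth.Agent.Helper15.EffCartAv
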