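import Mathlib
import Groth.Prelude
import Groth.Agent.Lib.Helper15.EffCartAv1

set_option autoImplicit false
set_option linter.unusedSectionVars false
set_option linter.unusedVariables false
set_option linter.style.haveILetI false

universe u

open CategoryTheory CategoryTheory.Limits AlgebraicGeometry Opposite MorphismProperty
open AlgSp

namespace Groth.Agent.Helper15.EffCartAv

open Groth.Agent.Helper15

variable {S : Scheme.{u}}

/-- a weakly associated prime of the ring of functions of an affine étale chart gives a weakly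
associated point -/
theorem ofPt_mem_weakAssEt {X : Sp S} {U₀ : Over S} [IsAffine U₀.left]
    (a : (yon S).obj U₀ ⟶ X) (ha : RepWith @Etale a) (w : U₀.left) (t : Γ(U₀.left, ⊤))
    (Jt : Ideal Γ(U₀.left, ⊤)) (hJt : ∀ b, b ∈ Jt ↔ b * t = 0)
    (hp : AlgSp.primeAtPt U₀.left w ∈ Jt.minimalPrimes) :
    Points.ofPt a w ∈ WeakAssEt (unitModEt X) := by
  let E : EtOver X := EtOver.mk a ha
  haveI hE : IsAffine E.obj.left.left := ‹IsAffine U₀.left›
  refine ⟨E, hE, w, rfl, ⟨(AlgSp.upΓ E t : (OEtRing X).obj.obj (op E)), ?_⟩⟩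
  have hann : annSect (M := unitModEt X) (E := E) (AlgSp.upΓ E t : (OEtRing X).obj.obj (op E)) =
      Jt := by
    ext b
    rw [WAssEt.mem_annSect_unit_iff, hJt]
    constructor
    · intro h
      exact congrArg ULift.down h
    · intro h
      exact ULift.ext _ _ h
  rw [hann]
  exact hp

theorem main10796 {X Y D P : Sp S} (hX : IsAlgSpace X) (f : X ⟶ Y) (i : D ⟶ Y)
    (hD : IsEffCartierSub i)
    (h : ∀ x ∈ WeakAssEt (unitModEt X), Points.map f x ∉ Set.range (Points.map i))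
    (fst : P ⟶ D) (snd : P ⟶ X) (hP : IsPullback fst snd i f) :
    IsEffCartierSub snd := by
  obtain ⟨hi, V, ψ, J, fstJ, hψe, hψs, sqJ, hJ⟩ := hD
  have hsnd : RepWith @IsClosedImmersion snd :=
    MorphismProperty.of_isPullback hP hi
  rw [EffCart.isEffCartierSub_iff_forall_nbhd snd hsnd hX]
  intro x
  obtain ⟨U, φ, hφe, hφs⟩ := hX.atlas
  obtain ⟨u₁, hu₁⟩ := surjective_ofPt φ hφs (Points.map snd x)
  obtain ⟨v, hv⟩ := surjective_ofPt ψ hψs (Points.map f (Points.map snd x))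
  have sqW := hψe.rep.isPullback' (φ ≫ f)
  haveI e1 : Etale (hψe.rep.snd (φ ≫ f)).left := hψe.property_snd (φ ≫ f)
  have hvu : Points.ofPt ψ v = Points.ofPt (φ ≫ f) u₁ := by
    rw [hv, ← Points.map_ofPt, hu₁]
  obtain ⟨w, hw1, hw2⟩ := exists_of_ofPt_eq sqW v u₁ hvu
  obtain ⟨O', hvO', g, -, hg⟩ := hJ v
  -- an affine open neighbourhood of `w` mapping into `O'`
  obtain ⟨_, ⟨O'', hO'', rfl⟩, hwO'', hO''le⟩ :=
    (Scheme.isBasis_affineOpens _).exists_subset_of_mem_open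
      (show w ∈ ((hψe.rep.fst' (φ ≫ f)).left ⁻¹ᵁ O'.1 : Set _) from by
        change (hψe.rep.fst' (φ ≫ f)).left w ∈ O'.1
        rw [hw1]; exact hvO')
      ((hψe.rep.fst' (φ ≫ f)).left ⁻¹ᵁ O'.1).isOpen
  let W : Over S := hψe.rep.pullback (φ ≫ f)
  let O₂ : W.left.Opens := O''
  let U₀ : Over S := Over.mk (O₂.ι ≫ W.hom)
  let j : U₀ ⟶ W := CategoryTheory.Over.homMk O₂.ι rfl
  let r : U₀ ⟶ V := j ≫ hψe.rep.fst' (φ ≫ f)
  let a : (yon S).obj U₀ ⟶ X := (yon S).map (j ≫ hψe.rep.snd (φ ≫ f)) ≫ φ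
  have ha : RepWith @Etale a := (RepWith @Etale).comp_mem _ _
    ((repWith_yon_map_iff _ _).2 (show Etale (O₂.ι ≫ (hψe.rep.snd (φ ≫ f)).left) from
      inferInstance)) hφe
  haveI hU₀ : IsAffine U₀.left := hO''
  have hcomm : (yon S).map r ≫ ψ = a ≫ f := by
    change (yon S).map (j ≫ hψe.rep.fst' (φ ≫ f)) ≫ ψ =
      ((yon S).map (j ≫ hψe.rep.snd (φ ≫ f)) ≫ φ) ≫ f
    rw [Functor.map_comp, Functor.map_comp, Category.assoc, Category.assoc, Category.assoc,
      sqW.w]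
  obtain ⟨fstK, sqK⟩ := exists_isPullback_comap i ψ J fstJ sqJ r
  rw [hcomm] at sqK
  let I := J.comap r.left
  let ιI : Over.mk (I.subschemeι ≫ U₀.hom) ⟶ U₀ := CategoryTheory.Over.homMk I.subschemeι rfl
  have hlift : fstK ≫ i = ((yon S).map ιI ≫ a) ≫ f := by
    rw [Category.assoc]; exact sqK.w
  let fst₀ := hP.lift fstK ((yon S).map ιI ≫ a) hlift
  have sq₀ : IsPullback fst₀ ((yon S).map ιI) snd a := by
    refine IsPullback.of_right ?_ (hP.lift_snd _ _ _) hP
    rw [hP.lift_fst]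
    exact sqK
  have e : (⊤ : U₀.left.Opens) ≤ r.left ⁻¹ᵁ O'.1 := by
    intro z _
    change (hψe.rep.fst' (φ ≫ f)).left (O₂.ι z) ∈ O'.1
    exact hO''le z.2
  have hideal : I.ideal ⟨⊤, isAffineOpen_top U₀.left⟩ =
      Ideal.span {r.left.appLE O'.1 ⊤ e g} := by
    have := Groth.Agent.Helper6.IdealComap.ideal_comap r.left J ⟨⊤, isAffineOpen_top U₀.left⟩ O' e
    rw [this, hg, Ideal.map_span, Set.image_singleton]
  refine ⟨U₀, hU₀, a, ⟨w, hwO''⟩, r.left.appLE O'.1 ⊤ e g, I, fst₀, ha, ?_, ?_, hideal, sq₀⟩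
  · change Points.ofPt ((yon S).map (j ≫ hψe.rep.snd (φ ≫ f)) ≫ φ) _ = _
    rw [ofPt_comp_yon_map]
    change Points.ofPt φ ((hψe.rep.snd (φ ≫ f)).left w) = _
    rw [hw2, hu₁]
  · apply mem_nonZeroDivisors_of_avoid r.left J O' e g hg
    intro w' t Jt hJt hp hsupp
    have hmem := ofPt_mem_weakAssEt a ha w' t Jt hJt hp
    apply h _ hmem
    have hsupp' : r.left w' ∈ Set.range J.subschemeι := by
      rw [Scheme.IdealSheafData.range_subschemeι]; exact hsupp
    obtain ⟨z, hz⟩ := hsupp'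
    refine ⟨Points.ofPt fstJ z, ?_⟩
    rw [Points.map_ofPt, Points.map_ofPt, sqJ.w, ofPt_comp_yon_map, ← hcomm, ofPt_comp_yon_map]
    change Points.ofPt ψ (J.subschemeι z) = _
    rw [hz]

end Groth.Agent.Helper15.EffCartAv
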