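import Groth.Agent.Lib.Helper15.FppfBridge2
import Groth.Agent.Lib.Helper21.DescLQF2
import Groth.Agent.Lib.Helper21.DescQA4

set_option autoImplicit false
universe u
open CategoryTheory CategoryTheory.Limits AlgebraicGeometry Opposite
open AlgSp

namespace Groth.Agent.Helper15.Bridge

variable {S : Scheme.{u}}

section Main

variable {G : Sp S} {ι : Type u} {V' : ι → Over S} {fst : ∀ i, (yon S).obj (V' i) ⟶ G}
  {T : Over S} {m : G ⟶ (yon S).obj T} {T' : ι → Over S} {c : ∀ i, T' i ⟶ T}
  {π : ∀ i, V' i ⟶ T' i}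
  (sq : ∀ i, IsPullback (fst i) ((yon S).map (π i)) m ((yon S).map (c i)))

theorem ofArrows_mem_fpqc (hflat : ∀ i, Flat (c i).left)
    (hlfp : ∀ i, LocallyOfFinitePresentation (c i).left)
    (hsurj : ∀ x : T.left, ∃ i y, (c i).left y = x) :
    Presieve.ofArrows (fun i => (T' i).left) (fun i => (c i).left) ∈
      Scheme.fpqcPrecoverage T.left := by
  apply Scheme.fppfPrecoverage_le_fpqcPrecoverage
  let 𝒰 : T.left.Cover (Scheme.precoverage (@Flat ⊓ @LocallyOfFinitePresentation)) :=
    Scheme.Cover.mkOfCovers ι (fun i => (T' i).left) (fun i => (c i).left) hsurj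
      (fun i => ⟨hflat i, hlfp i⟩)
  exact 𝒰.mem₀

include sq in
/-- **fppf descent of representability** for separated, locally quasi-finite charts: a sheaf `G`
over a scheme `T` whose base change to each member of an fppf covering family of `T` is a scheme
separated and locally quasi-finite over it is a scheme. -/
theorem exists_rep_of_slqf (hflat : ∀ i, Flat (c i).left)
    (hlfp : ∀ i, LocallyOfFinitePresentation (c i).left)
    (hsurj : ∀ x : T.left, ∃ i y, (c i).left y = x)
    (hπ : ∀ i, IsSeparated (π i).left ∧ LocallyQuasiFinite (π i).left ∧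
      LocallyOfFiniteType (π i).left) :
    ∃ (W : Over S) (j : W ⟶ T) (e : (yon S).obj W ≅ G), e.hom ≫ m = (yon S).map j := by
  refine exists_rep_of_isEffective sq hflat hlfp hsurj ?_
  exact Groth.Agent.Helper21.DescLQF.lqf_isEffective _ (ofArrows_mem_fpqc hflat hlfp hsurj)
    hlfp _ (fun i => ⟨⟨(hπ i).1, (hπ i).2.1⟩, (hπ i).2.2⟩)

include sq in
/-- **fppf descent of representability** for quasi-affine charts. -/
theorem exists_rep_of_qa (hflat : ∀ i, Flat (c i).left)
    (hlfp : ∀ i, LocallyOfFinitePresentation (c i).left)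
    (hsurj : ∀ x : T.left, ∃ i y, (c i).left y = x)
    (hπ : ∀ i, Groth.Agent.Helper21.DescQA.QA (π i).left) :
    ∃ (W : Over S) (j : W ⟶ T) (e : (yon S).obj W ≅ G), e.hom ≫ m = (yon S).map j := by
  refine exists_rep_of_isEffective sq hflat hlfp hsurj ?_
  exact Groth.Agent.Helper21.DescQA.qa_isEffective _ (ofArrows_mem_fpqc hflat hlfp hsurj) _ hπ

end Main

/-- Charts of a representable sheaf over `T` are pullbacks of schemes. -/
theorem exists_chart_of_rep {G : Sp S} {T W : Over S} {m : G ⟶ (yon S).obj T} (j : W ⟶ T)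
    (e : (yon S).obj W ≅ G) (he : e.hom ≫ m = (yon S).map j) {T' V' : Over S} {c : T' ⟶ T}
    {π : V' ⟶ T'} {fst : (yon S).obj V' ⟶ G}
    (sq : IsPullback fst ((yon S).map π) m ((yon S).map c)) :
    ∃ w : V' ⟶ W, (yon S).map w ≫ e.hom = fst ∧ IsPullback w π j c := by
  obtain ⟨w, hw⟩ := (yon S).map_surjective (fst ≫ e.inv)
  have hw' : (yon S).map w ≫ e.hom = fst := by rw [hw, Category.assoc, e.inv_hom_id, Category.comp_id]
  refine ⟨w, hw', ?_⟩
  have sq' : IsPullback ((yon S).map w) ((yon S).map π) ((yon S).map j) ((yon S).map c) := by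
    refine sq.of_iso (Iso.refl _) e.symm (Iso.refl _) (Iso.refl _) ?_ ?_ ?_ ?_
    · simp [hw]
    · simp
    · simp [← he]
    · simp
  have hcomm : w ≫ j = π ≫ c := by
    apply (yon S).map_injective
    rw [Functor.map_comp, Functor.map_comp]
    exact sq'.w
  exact IsPullback.of_map (yon S) hcomm sq'

end Groth.Agent.Helper15.Bridge
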