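import Mathlib
import Groth.Prelude
import Groth.Agent.Lib.Helper15.FppfBridge3
import Groth.Agent.Lib.Helper15.AlgSpRepSrc
import Groth.Agent.Lib.Helper15.AlgSpBasic

set_option autoImplicit false
set_option backward.isDefEq.respectTransparency false
universe u
open CategoryTheory CategoryTheory.Limits AlgebraicGeometry MorphismProperty Opposite
open AlgSp

namespace Groth.Agent.Helper15.EffDescSp

variable {S : Scheme.{u}}

/-- If morphisms of type `P` satisfy effective descent along fppf covers, a sheaf `G` over an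
algebraic space `F` whose base change to an etale chart of `F` is a scheme of type `P` over the
chart is representable over `F`. -/
theorem representable_of_chart (P : MorphismProperty Scheme.{u}) [P.IsStableUnderBaseChange]
    (hdesc : ∀ ⦃X' S' : Scheme.{u}⦄ (p : X' ⟶ S'), Surjective p → Flat p →
      LocallyOfFinitePresentation p →
      ∀ D : Desc.SchDD p, P D.obj.hom → (Desc.toDD p).essImage D)
    {F G : Sp S} (f : G ⟶ F) {U V : Over S} (q : (yon S).obj U ⟶ F)
    (hqe : RepWith @Etale q) (hqs : RepWith @Surjective q) (fst : (yon S).obj V ⟶ G)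
    (g : V ⟶ U) (sq : IsPullback fst ((yon S).map g) f q) (hP : P g.left) :
    Representable f := by
  intro T ξ
  have hq := hqe.rep
  let T' : Over S := hq.pullback ξ
  let c : T' ⟶ T := hq.snd ξ
  let u : T' ⟶ U := hq.fst' ξ
  have sqC : IsPullback ((yon S).map u) ((yon S).map c) q ξ := hq.isPullback' ξ
  have hcet : Etale c.left := hqe.2 ξ _ _ sqC
  have hcs : Surjective c.left := hqs.2 ξ _ _ sqC
  let V' : Over S := Limits.pullback g u
  let π : V' ⟶ T' := pullback.snd g u
  let v : V' ⟶ V := pullback.fst g u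
  have sqB : IsPullback ((yon S).map v) ((yon S).map π) ((yon S).map g) ((yon S).map u) :=
    (IsPullback.of_hasPullback g u).map (yon S)
  have hPπ : P π.left :=
    P.of_isPullback ((IsPullback.of_hasPullback g u).map (Over.forget S)) hP
  have sqE : IsPullback ((yon S).map v ≫ fst) ((yon S).map π) f ((yon S).map c ≫ ξ) := by
    have := sqB.paste_horiz sq
    rwa [sqC.w] at this
  let m : pullback f ξ ⟶ (yon S).obj T := pullback.snd f ξ
  let k : pullback f ξ ⟶ G := pullback.fst f ξ
  let fst₁ : (yon S).obj V' ⟶ pullback f ξ :=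
    pullback.lift ((yon S).map v ≫ fst) ((yon S).map π ≫ (yon S).map c) (by
      rw [Category.assoc ((yon S).map π)]; exact sqE.w)
  have sq₁ : IsPullback fst₁ ((yon S).map π) m ((yon S).map c) := by
    refine IsPullback.of_right ?_ (pullback.lift_snd _ _ _) (IsPullback.of_hasPullback f ξ)
    rw [pullback.lift_fst]
    exact sqE
  have hflat : ∀ _ : PUnit.{u + 1}, Flat c.left := fun _ => inferInstance
  have hlfp : ∀ _ : PUnit.{u + 1}, LocallyOfFinitePresentation c.left := fun _ => inferInstance
  have hsurj : ∀ x : T.left, ∃ (_ : PUnit.{u + 1}) (y : T'.left), c.left y = x :=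
    fun x => ⟨PUnit.unit, hcs.surj x⟩
  have hD : (Bridge.ddFam (fun _ : PUnit.{u + 1} => sq₁)).IsEffective := by
    obtain ⟨W₀, ⟨θ⟩⟩ := hdesc c.left hcs inferInstance inferInstance
      ((Desc.SchDDFam.toSchDD c.left).obj (Bridge.ddFam (fun _ : PUnit.{u + 1} => sq₁))) hPπ
    exact ⟨W₀, ⟨(Desc.SchDDFam.oneEquiv c.left).fullyFaithfulFunctor.preimageIso θ⟩⟩
  obtain ⟨W, j, e, he⟩ := Bridge.exists_rep_of_isEffective (fun _ : PUnit.{u + 1} => sq₁)
    hflat hlfp hsurj hD
  refine ⟨W, j, e.hom ≫ k, ?_⟩
  refine IsPullback.of_iso (IsPullback.of_hasPullback f ξ) e.symm (Iso.refl _) (Iso.refl _)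
    (Iso.refl _) ?_ ?_ ?_ ?_
  · simp [k]
  · simp only [Iso.symm_hom, Iso.refl_hom, Category.comp_id]
    rw [Iso.eq_inv_comp]
    exact he
  · simp
  · simp

/-- **Effective descent gives algebraic spaces.** -/
theorem isAlgSpace_and_repWith (P : MorphismProperty Scheme.{u}) [P.IsStableUnderBaseChange]
    [P.IsLocalAtTarget Scheme.fppfPrecoverage]
    (hdesc : ∀ ⦃X' S' : Scheme.{u}⦄ (p : X' ⟶ S'), Surjective p → Flat p →
      LocallyOfFinitePresentation p →
      ∀ D : Desc.SchDD p, P D.obj.hom → (Desc.toDD p).essImage D)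
    {F G : Sp S} (hF : IsAlgSpace F) (f : G ⟶ F) {U V : Over S} (q : (yon S).obj U ⟶ F)
    (hqe : RepWith @Etale q) (hqs : RepWith @Surjective q) (fst : (yon S).obj V ⟶ G)
    (g : V ⟶ U) (sq : IsPullback fst ((yon S).map g) f q) (hP : P g.left) :
    IsAlgSpace G ∧ RepWith P f := by
  have hrep := representable_of_chart P hdesc f q hqe hqs fst g sq hP
  exact ⟨isAlgSpace_of_representable f hrep hF,
    (repWith_iff_of_chart f hrep q hqe hqs fst g sq P).2 hP⟩

end Groth.Agent.Helper15.EffDescSp
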