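import Mathlib
import Groth.Prelude
import Groth.Agent.Lib.Helper15.BrnchH2

set_option autoImplicit false
set_option linter.unusedSectionVars false
set_option linter.unusedVariables false
set_option linter.style.haveILetI false

universe u

open CategoryTheory AlgebraicGeometry TensorProduct

namespace Groth.Agent.Helper15.ElemH

open IsLocalRing Groth.Agent.Helper26 Groth.Agent.Helper1 Groth.Agent.Helper15.BrnchEt
  Groth.Agent.Helper15.BrnchH

attribute [local instance] Algebra.TensorProduct.rightAlgebra in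
set_option backward.defeqAttrib.useBackward true in
set_option backward.isDefEq.respectTransparency false in
/-- a henselization of the local ring at a point of an étale neighbourhood with trivial residue
field extension is a henselization of the local ring at the image point -/
theorem isHenselization_stalk_of_etale {X Y : Scheme.{u}} (f : X ⟶ Y) [Etale f] (x : X)
    (hres : Function.Surjective (f.residueFieldMap x))
    (R : Type u) [CommRing R] [IsLocalRing R] [Algebra ↥(X.presheaf.stalk x) R]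
    [IsLocalHom (algebraMap ↥(X.presheaf.stalk x) R)]
    [Hensel.IsHenselization ↥(X.presheaf.stalk x) R] :
    letI : Algebra ↥(Y.presheaf.stalk (f x)) R :=
      ((algebraMap ↥(X.presheaf.stalk x) R).comp (f.stalkMap x).hom).toAlgebra
    ∃ (_ : IsLocalHom (algebraMap ↥(Y.presheaf.stalk (f x)) R)),
      Hensel.IsHenselization ↥(Y.presheaf.stalk (f x)) R := by
  letI algYR : Algebra ↥(Y.presheaf.stalk (f x)) R :=
    ((algebraMap ↥(X.presheaf.stalk x) R).comp (f.stalkMap x).hom).toAlgebra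
  obtain ⟨_, ⟨V, hV, rfl⟩, hxV, -⟩ :=
    Y.isBasis_affineOpens.exists_subset_of_mem_open (Set.mem_univ (f x)) isOpen_univ
  obtain ⟨_, ⟨U, hU, rfl⟩, hxU, hUV⟩ :=
    X.isBasis_affineOpens.exists_subset_of_mem_open hxV (V.2.preimage f.continuous)
  have het := f.etale_appLE hV hU hUV
  algebraize [(f.appLE V U hUV).hom]
  letI := Y.presheaf.algebra_section_stalk ⟨f x, hxV⟩
  haveI := hV.isLocalization_stalk ⟨f x, hxV⟩
  letI := X.presheaf.algebra_section_stalk ⟨x, hxU⟩
  haveI := hU.isLocalization_stalk ⟨x, hxU⟩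
  letI : Algebra (Y.presheaf.stalk (f x)) (X.presheaf.stalk x) := (f.stalkMap x).hom.toAlgebra
  haveI : IsLocalHom (algebraMap (Y.presheaf.stalk (f x)) (X.presheaf.stalk x)) :=
    inferInstanceAs <| IsLocalHom (f.stalkMap x).hom
  letI : Algebra Γ(Y, V) (X.presheaf.stalk x) :=
    ((algebraMap Γ(X, U) (X.presheaf.stalk x)).comp (algebraMap Γ(Y, V) Γ(X, U))).toAlgebra
  haveI : IsScalarTower Γ(Y, V) Γ(X, U) (X.presheaf.stalk x) := IsScalarTower.of_algebraMap_eq' rfl
  haveI : IsScalarTower Γ(Y, V) (Y.presheaf.stalk (f x)) (X.presheaf.stalk x) := by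
    refine IsScalarTower.of_algebraMap_eq' ?_
    ext a
    simp only [RingHom.algebraMap_toAlgebra, RingHom.comp_apply]
    show X.presheaf.germ U x hxU (f.appLE V U hUV a) =
      f.stalkMap x (Y.presheaf.germ V (f x) hxV a)
    rw [Scheme.Hom.appLE, CommRingCat.comp_apply, TopCat.Presheaf.germ_res_apply,
      ← Scheme.Hom.germ_stalkMap_apply]
  let p := (hV.primeIdealOf ⟨f x, hxV⟩).asIdeal
  let q := (hU.primeIdealOf ⟨x, hxU⟩).asIdeal
  have hlo : q.LiesOver p :=
    ⟨congr($(IsAffineOpen.comap_primeIdealOf_appLE V hV U hU hUV hxU).1).symm⟩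
  let φ : (Y.presheaf.stalk (f x)) ⊗[Γ(Y, V)] Γ(X, U) →ₐ[Y.presheaf.stalk (f x)]
      X.presheaf.stalk x :=
    Algebra.TensorProduct.lift (Algebra.ofId (Y.presheaf.stalk (f x)) (X.presheaf.stalk x))
      (IsScalarTower.toAlgHom Γ(Y, V) Γ(X, U) (X.presheaf.stalk x)) (fun _ _ => Commute.all _ _)
  letI : Algebra ((Y.presheaf.stalk (f x)) ⊗[Γ(Y, V)] Γ(X, U)) (X.presheaf.stalk x) :=
    φ.toRingHom.toAlgebra
  haveI : IsScalarTower (Y.presheaf.stalk (f x)) ((Y.presheaf.stalk (f x)) ⊗[Γ(Y, V)] Γ(X, U))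
      (X.presheaf.stalk x) := IsScalarTower.of_algebraMap_eq' φ.comp_algebraMap.symm
  haveI : IsScalarTower Γ(X, U) ((Y.presheaf.stalk (f x)) ⊗[Γ(Y, V)] Γ(X, U))
      (X.presheaf.stalk x) := by
    refine IsScalarTower.of_algebraMap_eq (fun b => ?_)
    show _ = φ (1 ⊗ₜ b)
    simp [φ]
  haveI : IsLocalization (Algebra.algebraMapSubmonoid Γ(X, U) p.primeCompl)
      ((Y.presheaf.stalk (f x)) ⊗[Γ(Y, V)] Γ(X, U)) := inferInstance
  have hle : Algebra.algebraMapSubmonoid Γ(X, U) p.primeCompl ≤ q.primeCompl := by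
    rintro _ ⟨a, ha, rfl⟩
    intro hmem
    apply ha
    rw [hlo.over]
    exact hmem
  haveI := IsLocalization.isLocalization_of_submonoid_le
    ((Y.presheaf.stalk (f x)) ⊗[Γ(Y, V)] Γ(X, U)) (X.presheaf.stalk x) _ _ hle
  haveI : IsScalarTower (Y.presheaf.stalk (f x)) (X.presheaf.stalk x) R :=
    IsScalarTower.of_algebraMap_eq' rfl
  haveI hlocYR : IsLocalHom (algebraMap ↥(Y.presheaf.stalk (f x)) R) := by
    show IsLocalHom ((algebraMap ↥(X.presheaf.stalk x) R).comp (f.stalkMap x).hom)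
    infer_instance
  exact ⟨hlocYR, isHenselization_of_etale_localization (Y.presheaf.stalk (f x))
    ((Y.presheaf.stalk (f x)) ⊗[Γ(Y, V)] Γ(X, U)) (X.presheaf.stalk x) R
    (q.primeCompl.map (algebraMap Γ(X, U) ((Y.presheaf.stalk (f x)) ⊗[Γ(Y, V)] Γ(X, U)))) hres⟩

end Groth.Agent.Helper15.ElemH
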