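import Mathlib
import Groth.Agent.Lib.Helper15.MonoPtFibre

/-!
# Elementary etale neighbourhoods
-/

set_option autoImplicit false
universe u
open CategoryTheory CategoryTheory.Limits AlgebraicGeometry Opposite MorphismProperty
open AlgSp

namespace Groth.Agent.Helper15.ElemNbhd

open Groth.Agent.Helper15 Groth.Agent.Helper15.QsDecent Groth.Agent.Helper15.QcEtDecent
open Groth.Agent.Helper15.MonoPtFibre Groth.Agent.Helper15.Decent

variable {S : Scheme.{u}}

/-- A morphism from the spectrum of a field to a scheme factors through the residue field of its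
image point. -/
theorem exists_factor_iota {X : Sp S} {U : Over S} (a : (yon S).obj U ⟶ X) {K : Type u} [Field K]
    (str : Spec (CommRingCat.of K) ⟶ S) (ℓ : Over.mk str ⟶ U) (v : U.left)
    (hv : ℓ.left (IsLocalRing.closedPoint K) = v) :
    ∃ lam : Over.mk str ⟶ (FieldPt.ofPt a v).pt, lam ≫ iota a v = ℓ := by
  subst hv
  let ℓ₀ : Spec (CommRingCat.of K) ⟶ U.left := ℓ.left
  have h := Scheme.descResidueField_stalkClosedPointTo_fromSpecResidueField K U.left ℓ₀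
  have hw : Spec.map (Scheme.descResidueField (Scheme.stalkClosedPointTo ℓ₀)) ≫
      (FieldPt.ofPt a (ℓ₀ (IsLocalRing.closedPoint K))).pt.hom = (Over.mk str).hom := by
    change _ ≫ (U.left.fromSpecResidueField _ ≫ U.hom) = str
    rw [← Category.assoc, h]
    exact Over.w ℓ
  let lam : Over.mk str ⟶ (FieldPt.ofPt a (ℓ₀ (IsLocalRing.closedPoint K))).pt :=
    CategoryTheory.Over.homMk
      (Spec.map (Scheme.descResidueField (Scheme.stalkClosedPointTo ℓ₀))) hw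
  refine ⟨lam, ?_⟩
  ext
  change Spec.map (Scheme.descResidueField (Scheme.stalkClosedPointTo ℓ₀)) ≫
      U.left.fromSpecResidueField _ = ℓ₀
  exact h

/-- A pointed scheme over an elementary etale neighbourhood, whose point is the image of a section
over the residue field point, is an elementary etale neighbourhood as soon as it is etale. -/
theorem mono_ofPt_of_section {X : Sp S} (hX : IsAlgSpace X) {U₁ U : Over S}
    (a₁ : (yon S).obj U₁ ⟶ X) (u₁ : U₁.left) (hm : Mono (FieldPt.ofPt a₁ u₁).toHom)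
    (g : U ⟶ U₁) (ℓ : (FieldPt.ofPt a₁ u₁).pt ⟶ U) (hℓ : ℓ ≫ g = iota a₁ u₁) (v : U.left)
    (hv : ℓ.left (IsLocalRing.closedPoint (FieldPt.ofPt a₁ u₁).K) = v) :
    Mono (FieldPt.ofPt ((yon S).map g ≫ a₁) v).toHom := by
  haveI := hm
  obtain ⟨lam, hlam⟩ := exists_factor_iota ((yon S).map g ≫ a₁) (FieldPt.ofPt a₁ u₁).str ℓ v hv
  have hgv : g.left v = u₁ := by
    rw [← hv, ← Scheme.Hom.comp_apply, ← Over.comp_left, hℓ, iota_left_apply]
  have hmk : Points.mk (FieldPt.ofPt ((yon S).map g ≫ a₁) v) = Points.mk (FieldPt.ofPt a₁ u₁) := by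
    change Points.ofPt ((yon S).map g ≫ a₁) v = Points.ofPt a₁ u₁
    rw [ofPt_comp_yon_map, hgv]
  obtain ⟨c, hc⟩ := exists_factor_of_mono_fieldPt hX (FieldPt.ofPt a₁ u₁)
    (FieldPt.ofPt ((yon S).map g ≫ a₁) v) hm hmk
  have hlc : lam ≫ c = 𝟙 _ := by
    apply (yon S).map_injective
    rw [← cancel_mono (FieldPt.ofPt a₁ u₁).toHom, Functor.map_comp, Category.assoc, hc,
      toHom_ofPt_eq ((yon S).map g ≫ a₁) v, ← Category.assoc, ← Functor.map_comp, hlam,
      ← Category.assoc, ← Functor.map_comp, hℓ, ← toHom_ofPt_eq, (yon S).map_id, Category.id_comp]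
  haveI : Mono lam := mono_of_mono_fac hlc
  haveI : Mono lam.left := inferInstance
  haveI : Nonempty ↥(Over.mk (FieldPt.ofPt a₁ u₁).str).left :=
    ⟨IsLocalRing.closedPoint (FieldPt.ofPt a₁ u₁).K⟩
  haveI : IsIso lam.left :=
    isIso_of_mono_to_field (K := (FieldPt.ofPt ((yon S).map g ≫ a₁) v).K) lam.left
  haveI : IsIso ((Over.forget S).map lam) := ‹IsIso lam.left›
  haveI : IsIso lam := isIso_of_reflects_iso lam (Over.forget S)
  have hc' : c = inv lam := by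
    rw [← cancel_epi lam, hlc, IsIso.hom_inv_id]
  rw [← hc, hc']
  infer_instance

/-- Two elementary etale neighbourhoods are dominated by a third. -/
theorem exists_elem_nbhd_dominating {X : Sp S} (hX : IsAlgSpace X) (x : Points X)
    (U₁ U₂ : Over S) (a₁ : (yon S).obj U₁ ⟶ X) (a₂ : (yon S).obj U₂ ⟶ X) (u₁ : ↥U₁.left)
    (u₂ : ↥U₂.left) (h₁ : IsElemEtaleNbhd a₁ u₁ x) (h₂ : IsElemEtaleNbhd a₂ u₂ x) :
    ∃ (U : Over S) (a : (yon S).obj U ⟶ X) (v : ↥U.left) (g₁ : U ⟶ U₁) (g₂ : U ⟶ U₂),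
      IsElemEtaleNbhd a v x ∧ (yon S).map g₁ ≫ a₁ = a ∧ (yon S).map g₂ ≫ a₂ = a ∧
        g₁.left v = u₁ ∧ g₂.left v = u₂ := by
  obtain ⟨ε, hε⟩ := exists_iso_of_mono_fieldPts hX (FieldPt.ofPt a₁ u₁) (FieldPt.ofPt a₂ u₂)
    h₁.mono h₂.mono (h₁.ofPt_eq.trans h₂.ofPt_eq.symm)
  obtain ⟨e, he⟩ := (yon S).map_surjective ε.hom
  have sqU := h₁.etale.rep.isPullback' a₂
  have hw : (yon S).map (iota a₁ u₁) ≫ a₁ = (yon S).map (e ≫ iota a₂ u₂) ≫ a₂ := by
    rw [← toHom_ofPt_eq, Functor.map_comp, Category.assoc, ← toHom_ofPt_eq, he, hε]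
  obtain ⟨ℓ, hℓ⟩ := (yon S).map_surjective (sqU.lift _ _ hw)
  have hℓ1 : ℓ ≫ h₁.etale.rep.fst' a₂ = iota a₁ u₁ := (yon S).map_injective (by
    rw [Functor.map_comp, hℓ, sqU.lift_fst])
  have hℓ2 : ℓ ≫ h₁.etale.rep.snd a₂ = e ≫ iota a₂ u₂ := (yon S).map_injective (by
    rw [Functor.map_comp, hℓ, sqU.lift_snd])
  have hg₁e : Etale (h₁.etale.rep.fst' a₂).left := h₂.etale.property a₁ _ _ sqU.flip
  refine ⟨_, (yon S).map (h₁.etale.rep.fst' a₂) ≫ a₁,
    ℓ.left (IsLocalRing.closedPoint (FieldPt.ofPt a₁ u₁).K), h₁.etale.rep.fst' a₂,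
    h₁.etale.rep.snd a₂, ⟨?_, ?_, ?_⟩, rfl, sqU.w.symm, ?_, ?_⟩
  · exact (RepWith @Etale).comp_mem _ _ ((repWith_yon_map_iff _ _).2 hg₁e) h₁.etale
  · rw [ofPt_comp_yon_map, ← Scheme.Hom.comp_apply, ← Over.comp_left, hℓ1, iota_left_apply]
    exact h₁.ofPt_eq
  · exact mono_ofPt_of_section hX a₁ u₁ h₁.mono _ ℓ hℓ1 _ rfl
  · rw [← Scheme.Hom.comp_apply, ← Over.comp_left, hℓ1, iota_left_apply]
  · rw [← Scheme.Hom.comp_apply, ← Over.comp_left, hℓ2, Over.comp_left, Scheme.Hom.comp_apply,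
      iota_left_apply]

/-- Two parallel morphisms of elementary etale neighbourhoods are equalized by a third. -/
theorem exists_elem_nbhd_equalizing {X : Sp S} (hX : IsAlgSpace X) (x : Points X)
    (U₁ U₂ : Over S) (a₁ : (yon S).obj U₁ ⟶ X) (a₂ : (yon S).obj U₂ ⟶ X) (u₁ : ↥U₁.left)
    (u₂ : ↥U₂.left) (b c : U₁ ⟶ U₂) (h₁ : IsElemEtaleNbhd a₁ u₁ x) (h₂ : IsElemEtaleNbhd a₂ u₂ x)
    (hb : (yon S).map b ≫ a₂ = a₁) (hc : (yon S).map c ≫ a₂ = a₁) (hbu : b.left u₁ = u₂)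
    (hcu : c.left u₁ = u₂) :
    ∃ (U : Over S) (a : (yon S).obj U ⟶ X) (v : ↥U.left) (h : U ⟶ U₁),
      IsElemEtaleNbhd a v x ∧ (yon S).map h ≫ a₁ = a ∧ h.left v = u₁ ∧ h ≫ b = h ≫ c := by
  haveI := h₂.mono
  -- the two maps agree on the residue field point
  obtain ⟨lb, hlb⟩ := exists_factor_iota a₂ (FieldPt.ofPt a₁ u₁).str (iota a₁ u₁ ≫ b) u₂ (by
    rw [Over.comp_left, Scheme.Hom.comp_apply, iota_left_apply, hbu])
  obtain ⟨lc, hlc⟩ := exists_factor_iota a₂ (FieldPt.ofPt a₁ u₁).str (iota a₁ u₁ ≫ c) u₂ (by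
    rw [Over.comp_left, Scheme.Hom.comp_apply, iota_left_apply, hcu])
  have hlbc : lb = lc := by
    apply (yon S).map_injective
    rw [← cancel_mono (FieldPt.ofPt a₂ u₂).toHom, toHom_ofPt_eq, ← Category.assoc,
      ← Category.assoc, ← Functor.map_comp, ← Functor.map_comp, hlb, hlc, Functor.map_comp,
      Functor.map_comp, Category.assoc, Category.assoc, hb, hc]
  have hιbc : iota a₁ u₁ ≫ b = iota a₁ u₁ ≫ c := by rw [← hlb, ← hlc, hlbc]
  -- the equalizer as an open subscheme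
  have hΔ : RepWith @IsOpenImmersion (pullback.diagonal a₂) :=
    repWith_isOpenImmersion_diagonal_of_etale hX a₂ h₂.etale
  let β : (yon S).obj U₁ ⟶ pullback a₂ a₂ :=
    pullback.lift ((yon S).map b) ((yon S).map c) (hb.trans hc.symm)
  have sqE := hΔ.rep.isPullback' β
  have hho : IsOpenImmersion (hΔ.rep.snd β).left := hΔ.property_snd β
  have heq : hΔ.rep.snd β ≫ b = hΔ.rep.snd β ≫ c := by
    apply (yon S).map_injective
    have e1 := congrArg (· ≫ pullback.fst a₂ a₂) sqE.w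
    have e2 := congrArg (· ≫ pullback.snd a₂ a₂) sqE.w
    simp only [Category.assoc, pullback.diagonal_fst, pullback.diagonal_snd, Category.comp_id,
      β, pullback.lift_fst, pullback.lift_snd] at e1 e2
    rw [Functor.map_comp, Functor.map_comp, ← e1, ← e2]
  have hw : (yon S).map (iota a₁ u₁ ≫ b) ≫ pullback.diagonal a₂ = (yon S).map (iota a₁ u₁) ≫ β := by
    apply pullback.hom_ext
    · simp only [Category.assoc, pullback.diagonal_fst, Category.comp_id, β, pullback.lift_fst,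
        Functor.map_comp]
    · simp only [Category.assoc, pullback.diagonal_snd, Category.comp_id, β, pullback.lift_snd]
      rw [hιbc, Functor.map_comp]
  obtain ⟨ℓ, hℓ⟩ := (yon S).map_surjective (sqE.lift _ _ hw)
  have hℓ2 : ℓ ≫ hΔ.rep.snd β = iota a₁ u₁ := (yon S).map_injective (by
    rw [Functor.map_comp, hℓ, sqE.lift_snd])
  haveI := hho
  refine ⟨_, (yon S).map (hΔ.rep.snd β) ≫ a₁,
    ℓ.left (IsLocalRing.closedPoint (FieldPt.ofPt a₁ u₁).K), hΔ.rep.snd β,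
    ⟨?_, ?_, ?_⟩, rfl, ?_, heq⟩
  · exact (RepWith @Etale).comp_mem _ _
      ((repWith_yon_map_iff _ _).2 (inferInstance : Etale (hΔ.rep.snd β).left)) h₁.etale
  · rw [ofPt_comp_yon_map, ← Scheme.Hom.comp_apply, ← Over.comp_left, hℓ2, iota_left_apply]
    exact h₁.ofPt_eq
  · exact mono_ofPt_of_section hX a₁ u₁ h₁.mono _ ℓ hℓ2 _ rfl
  · rw [← Scheme.Hom.comp_apply, ← Over.comp_left, hℓ2, iota_left_apply]

end Groth.Agent.Helper15.ElemNbhd
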