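import Mathlib
import Groth.Prelude
import Groth.Agent.Lib.Helper15.ElemH1
import Groth.Agent.Lib.Helper15.ElemNbhd

set_option autoImplicit false
set_option linter.unusedSectionVars false
set_option linter.unusedVariables false
set_option linter.style.haveILetI false

universe u

open CategoryTheory CategoryTheory.Limits AlgebraicGeometry Opposite MorphismProperty
open AlgSp

namespace Groth.Agent.Helper15.ElemH

open Groth.Agent.Helper15 Groth.Agent.Helper15.MonoPtFibre Groth.Agent.Helper15.ElemNbhd

variable {S : Scheme.{u}}

/-- a morphism between étale charts is étale -/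
theorem etale_left_of_charts {X : Sp S} {U U' : Over S} (a : (yon S).obj U ⟶ X)
    (a' : (yon S).obj U' ⟶ X) (g : U' ⟶ U) (hg : (yon S).map g ≫ a = a')
    (hae : RepWith @Etale a) (ha'e : RepWith @Etale a') : Etale g.left := by
  let gg : EtOver.mk a' ha'e ⟶ EtOver.mk a hae := EtOver.homMk g hg
  exact EtOver.etale_left gg

/-- a morphism of charts out of an elementary étale neighbourhood induces an isomorphism on
residue fields -/
theorem residueFieldMap_bijective_of_mono {X : Sp S} {U U' : Over S} (a : (yon S).obj U ⟶ X)
    (a' : (yon S).obj U' ⟶ X) (g : U' ⟶ U) (u' : U'.left) (hg : (yon S).map g ≫ a = a')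
    (hm' : Mono (FieldPt.ofPt a' u').toHom) :
    Function.Bijective (g.left.residueFieldMap u') := by
  obtain ⟨lam, hlam⟩ := exists_factor_iota a (FieldPt.ofPt a' u').str (iota a' u' ≫ g)
    (g.left u') (by rw [Over.comp_left, Scheme.Hom.comp_apply, iota_left_apply])
  have h1 : (FieldPt.ofPt a' u').toHom =
      (yon S).map lam ≫ (FieldPt.ofPt a (g.left u')).toHom := by
    rw [toHom_ofPt_eq a' u', toHom_ofPt_eq a (g.left u'), ← Category.assoc, ← Functor.map_comp,
      hlam, Functor.map_comp, Category.assoc, hg]
  haveI : Mono ((yon S).map lam ≫ (FieldPt.ofPt a (g.left u')).toHom) := h1 ▸ hm'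
  haveI : Mono ((yon S).map lam) := mono_of_mono _ (FieldPt.ofPt a (g.left u')).toHom
  haveI : Mono lam := (yon S).mono_of_mono_map inferInstance
  haveI : Mono lam.left := inferInstance
  haveI : Nonempty ↥(Over.mk (FieldPt.ofPt a' u').str).left :=
    ⟨IsLocalRing.closedPoint (FieldPt.ofPt a' u').K⟩
  haveI hiso : IsIso lam.left :=
    isIso_of_mono_to_field (K := (FieldPt.ofPt a (g.left u')).K) lam.left
  have hiso' : IsIso (Spec.map (g.left.residueFieldMap u')) := by
    have h2 : (show Spec (U'.left.residueField u') ⟶ Spec (U.left.residueField (g.left u')) from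
        lam.left) = Spec.map (g.left.residueFieldMap u') := by
      rw [← cancel_mono (U.left.fromSpecResidueField (g.left u')),
        Scheme.Hom.SpecMap_residueFieldMap_fromSpecResidueField]
      have h3 := congrArg (fun k => k.left) hlam
      simp only [Over.comp_left] at h3
      exact h3
    rw [← h2]
    exact hiso
  have hb : Function.Bijective (g.left.residueFieldMap u').hom := isIso_SpecMap_iff.mp hiso'
  exact hb

end Groth.Agent.Helper15.ElemH
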