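import Mathlib
import Groth.Prelude
import Groth.Agent.Lib.Helper1.ASH3

set_option autoImplicit false
set_option linter.unusedSectionVars false
set_option linter.unusedVariables false
set_option linter.style.haveILetI false

universe u v

open TensorProduct

namespace Groth.Agent.Helper15.OEtSH

/-- the separability idempotent kills every element of the kernel of multiplication -/
theorem elem_mul_sum_eq_zero {A : Type u} {B : Type v} [CommRing A] [CommRing B] [Algebra A B]
    [Algebra.EssFiniteType A B] [Algebra.FormallyUnramified A B]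
    {ι : Type*} (s : Finset ι) (β β' : ι → B) (h : ∑ i ∈ s, β i * β' i = 0) :
    Algebra.FormallyUnramified.elem A B * ∑ i ∈ s, β i ⊗ₜ[A] β' i = 0 := by
  have h1 : ∀ i, Algebra.FormallyUnramified.elem A B * (β i ⊗ₜ[A] β' i) =
      Algebra.FormallyUnramified.elem A B * ((β i * β' i) ⊗ₜ[A] (1 : B)) := by
    intro i
    have e1 : (β i ⊗ₜ[A] β' i : B ⊗[A] B) = (β i ⊗ₜ[A] (1 : B)) * ((1 : B) ⊗ₜ[A] β' i) := by
      rw [Algebra.TensorProduct.tmul_mul_tmul, mul_one, one_mul]
    have e2 : ((β i * β' i) ⊗ₜ[A] (1 : B) : B ⊗[A] B) =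
        (β i ⊗ₜ[A] (1 : B)) * (β' i ⊗ₜ[A] (1 : B)) := by
      rw [Algebra.TensorProduct.tmul_mul_tmul, mul_one]
    rw [e1, e2, mul_comm (Algebra.FormallyUnramified.elem A B), mul_assoc,
      Algebra.FormallyUnramified.one_tmul_mul_elem, ← mul_assoc,
      mul_comm (Algebra.FormallyUnramified.elem A B)]
  rw [Finset.mul_sum]
  calc ∑ i ∈ s, Algebra.FormallyUnramified.elem A B * (β i ⊗ₜ[A] β' i)
      = ∑ i ∈ s, Algebra.FormallyUnramified.elem A B * ((β i * β' i) ⊗ₜ[A] (1 : B)) :=
        Finset.sum_congr rfl fun i _ => h1 i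
    _ = Algebra.FormallyUnramified.elem A B * ((∑ i ∈ s, β i * β' i) ⊗ₜ[A] (1 : B)) := by
        rw [← Finset.mul_sum, TensorProduct.sum_tmul]
    _ = 0 := by rw [h, TensorProduct.zero_tmul, mul_zero]

/-- the multiplication map `O ⊗[A] O → O` is flat as soon as every finite relation
`∑ oₖ o'ₖ = 0` lifts to an unramified level -/
theorem flat_lmul'_of_levels {A : Type u} {O : Type v} [CommRing A] [CommRing O] [Algebra A O]
    (H : ∀ s : Finset (O × O), ∑ i ∈ s, i.1 * i.2 = 0 →
      ∃ (B : Type u) (_ : CommRing B) (_ : Algebra A B) (_ : Algebra.FormallyUnramified A B)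
        (_ : Algebra.EssFiniteType A B) (ρ : B →ₐ[A] O) (β β' : O × O → B),
        (∀ i ∈ s, ρ (β i) = i.1 ∧ ρ (β' i) = i.2) ∧ ∑ i ∈ s, β i * β' i = 0) :
    (Algebra.TensorProduct.lmul' A (S := O)).toRingHom.Flat := by
  -- key claim
  have claim : ∀ z : O ⊗[A] O, Algebra.TensorProduct.lmul' A z = 0 →
      ∃ t : O ⊗[A] O, Algebra.TensorProduct.lmul' A t = 1 ∧ t * z = 0 := by
    intro z hz
    obtain ⟨s, rfl⟩ := TensorProduct.exists_finset z
    have hs : ∑ i ∈ s, i.1 * i.2 = 0 := by
      rw [map_sum] at hz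
      simpa using hz
    obtain ⟨B, _, _, _, _, ρ, β, β', hβ, hrel⟩ := H s hs
    refine ⟨Algebra.TensorProduct.map ρ ρ (Algebra.FormallyUnramified.elem A B), ?_, ?_⟩
    · have h1 : (Algebra.TensorProduct.lmul' A (S := O)).comp (Algebra.TensorProduct.map ρ ρ) =
          ρ.comp (Algebra.TensorProduct.lmul' A (S := B)) := by
        apply Algebra.TensorProduct.ext'
        intro a b
        simp
      have h2 := AlgHom.congr_fun h1 (Algebra.FormallyUnramified.elem A B)
      simp only [AlgHom.comp_apply] at h2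
      rw [h2, Algebra.FormallyUnramified.lmul_elem, map_one]
    · have h3 : ∑ i ∈ s, i.1 ⊗ₜ[A] i.2 =
          Algebra.TensorProduct.map ρ ρ (∑ i ∈ s, β i ⊗ₜ[A] β' i) := by
        rw [map_sum]
        refine Finset.sum_congr rfl fun i hi => ?_
        rw [Algebra.TensorProduct.map_tmul, (hβ i hi).1, (hβ i hi).2]
      rw [h3, ← map_mul, elem_mul_sum_eq_zero s β β' hrel, map_zero]
  apply Groth.Agent.Helper1.ASH.flat_of_levels
  intro l f x hfx
  set z : O ⊗[A] O := ∑ i, f i * ((1 : O) ⊗ₜ[A] x i) with hzdef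
  have hz : Algebra.TensorProduct.lmul' A z = 0 := by
    rw [hzdef, map_sum]
    refine Eq.trans (Finset.sum_congr rfl fun i _ => ?_) hfx
    rw [map_mul, Algebra.TensorProduct.lmul'_apply_tmul, one_mul]
    rfl
  obtain ⟨t, ht1, htz⟩ := claim z hz
  have hu : IsUnit ((Algebra.TensorProduct.lmul' A (S := O)).toRingHom t) := by
    change IsUnit (Algebra.TensorProduct.lmul' A t)
    rw [ht1]; exact isUnit_one
  refine ⟨Localization.Away t, inferInstance, algebraMap _ _,
    IsLocalization.Away.lift t hu, ?_, ?_, fun i => algebraMap _ _ ((1 : O) ⊗ₜ[A] x i), ?_, ?_⟩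
  · exact IsLocalization.Away.lift_comp t hu
  · rw [RingHom.flat_algebraMap_iff]
    exact IsLocalization.flat _ (Submonoid.powers t)
  · intro i
    rw [IsLocalization.Away.lift_eq]
    change Algebra.TensorProduct.lmul' A ((1 : O) ⊗ₜ[A] x i) = x i
    rw [Algebra.TensorProduct.lmul'_apply_tmul, one_mul]
  · have h4 : ∑ i, algebraMap (O ⊗[A] O) (Localization.Away t) (f i) *
        algebraMap _ _ ((1 : O) ⊗ₜ[A] x i) = algebraMap _ _ z := by
      rw [hzdef, map_sum]
      refine Finset.sum_congr rfl fun i _ => ?_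
      rw [map_mul]
    rw [h4]
    have h5 : IsUnit (algebraMap (O ⊗[A] O) (Localization.Away t) t) :=
      IsLocalization.Away.algebraMap_isUnit t
    have h6 : algebraMap (O ⊗[A] O) (Localization.Away t) t * algebraMap _ _ z = 0 := by
      rw [← map_mul, htz, map_zero]
    exact (h5.mul_right_eq_zero).mp h6

end Groth.Agent.Helper15.OEtSH
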