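import Mathlib
import Groth.Prelude
import Groth.Agent.Lib.Helper1.ASH3
import Groth.Agent.Lib.Helper15.OEtSH1

set_option autoImplicit false
set_option linter.unusedSectionVars false
set_option linter.unusedVariables false
set_option linter.style.haveILetI false

universe u

open CategoryTheory CategoryTheory.Limits AlgebraicGeometry Opposite AlgSp TensorProduct
open Groth.Agent.Helper15 Groth.Agent.Helper1.ASH

namespace Groth.Agent.Helper15.OEtSH

variable {S : Scheme.{u}} {X : Sp S} (p : FieldPt X) (hX : IsAlgSpace X) (hp : p.IsGeometric)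

include hX hp in
theorem weaklyEtale_ρ (N0 : EtNbhd p) [IsAffine (sch p N0)] :
    letI := (ρ p N0).toAlgebra
    Algebra.WeaklyEtale Γ(sch p N0, ⊤) ↥(OEtStalk p) := by
  letI := (ρ p N0).toAlgebra
  haveI : Module.Flat Γ(sch p N0, ⊤) ↥(OEtStalk p) := flat_ρ p hX hp N0
  refine ⟨inferInstance, ?_⟩
  apply flat_lmul'_of_levels
  intro s hs
  classical
  haveI := isCofiltered_etNbhd hX p hp
  let T : Finset ↥(OEtStalk p) := s.image Prod.fst ∪ s.image Prod.snd
  obtain ⟨N1, -, hN1⟩ := exists_common p hX hp T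
  let c := IsCofiltered.min N1 N0
  let fa : c ⟶ N1 := IsCofiltered.minToLeft N1 N0
  let fb : c ⟶ N0 := IsCofiltered.minToRight N1 N0
  have h1 : ∀ r : ↥(OEtStalk p), r ∈ T → ∃ y : Γ(sch p c, ⊤), ρ p c y = r := by
    intro r hr
    exact range_ρ_mono p fa (hN1 (Finset.mem_coe.2 hr))
  choose! lift hlift using h1
  have hmem1 : ∀ i ∈ s, i.1 ∈ T := fun i hi =>
    Finset.mem_union_left _ (Finset.mem_image_of_mem _ hi)
  have hmem2 : ∀ i ∈ s, i.2 ∈ T := fun i hi =>
    Finset.mem_union_right _ (Finset.mem_image_of_mem _ hi)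
  have hrel : ρ p c (∑ i ∈ s, lift i.1 * lift i.2) = 0 := by
    rw [map_sum]
    refine Eq.trans (Finset.sum_congr rfl fun i hi => ?_) hs
    rw [map_mul, hlift _ (hmem1 i hi), hlift _ (hmem2 i hi)]
  obtain ⟨N4, k, hk⟩ := exists_restrict_eq_zero p hX hp c _ hrel
  obtain ⟨N5, m, hN5⟩ := exists_affine_refinement p N4
  haveI := hN5
  let g : N5 ⟶ N0 := (m ≫ k) ≫ fb
  haveI : Etale g.1.hom.left.left := EtOver.etale_left g.1
  have hEt : (g.1.hom.left.left.appTop.hom).Etale :=
    HasRingHomProperty.appTop (P := @Etale) g.1.hom.left.left inferInstance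
  letI : Algebra Γ(sch p N0, ⊤) Γ(sch p N5, ⊤) := (g.1.hom.left.left.appTop.hom).toAlgebra
  haveI : Algebra.Etale Γ(sch p N0, ⊤) Γ(sch p N5, ⊤) := hEt
  let ρ' : Γ(sch p N5, ⊤) →ₐ[Γ(sch p N0, ⊤)] ↥(OEtStalk p) :=
    { ρ p N5 with
      commutes' := fun a => ρ_map p g a }
  refine ⟨Γ(sch p N5, ⊤), inferInstance, inferInstance, inferInstance, inferInstance, ρ',
    fun i => (m ≫ k).1.hom.left.left.appTop.hom (lift i.1),
    fun i => (m ≫ k).1.hom.left.left.appTop.hom (lift i.2), ?_, ?_⟩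
  · intro i hi
    constructor
    · change ρ p N5 _ = _
      rw [ρ_map p (m ≫ k), hlift _ (hmem1 i hi)]
    · change ρ p N5 _ = _
      rw [ρ_map p (m ≫ k), hlift _ (hmem2 i hi)]
  · have e3 : ∑ i ∈ s, (m ≫ k).1.hom.left.left.appTop.hom (lift i.1) *
          (m ≫ k).1.hom.left.left.appTop.hom (lift i.2) =
        (m ≫ k).1.hom.left.left.appTop.hom (∑ i ∈ s, lift i.1 * lift i.2) := by
      rw [map_sum]
      refine Finset.sum_congr rfl fun i _ => ?_
      rw [map_mul]
    rw [e3, appTop_comp p m k, hk, map_zero]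

end Groth.Agent.Helper15.OEtSH
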