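import Mathlib
import Groth.Prelude
import Groth.Agent.Lib.Helper2.Oli6

set_option autoImplicit false
set_option linter.unusedSectionVars false
set_option linter.unusedVariables false
set_option linter.style.haveILetI false

universe u v w

open TensorProduct IsLocalRing

namespace Groth.Agent.Helper15.OEtSH

/-- weakly étale over `A` implies weakly étale over a localization of `A` through which the
structure map factors -/
theorem weaklyEtale_of_isLocalization {A : Type u} [CommRing A] (M : Submonoid A) (R : Type v)
    {O : Type w} [CommRing R] [CommRing O] [Algebra A R] [IsLocalization M R] [Algebra A O]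
    [Algebra R O] [IsScalarTower A R O] [Algebra.WeaklyEtale A O] : Algebra.WeaklyEtale R O := by
  haveI : Module.Flat R O := (Module.flat_iff_of_isLocalization R M O).mpr inferInstance
  refine ⟨inferInstance, ?_⟩
  have h1 : (Algebra.TensorProduct.lmul' R (S := O)).toRingHom =
      (Algebra.TensorProduct.lmul' A (S := O)).toRingHom.comp
        (IsLocalization.algebraTensorEquiv M R O O).toAlgHom.toRingHom := by
    apply RingHom.ext
    intro z
    induction z using TensorProduct.induction_on with
    | zero => simp
    | tmul a b =>
      have e1 : (IsLocalization.algebraTensorEquiv M R O O) (a ⊗ₜ[R] b) = a ⊗ₜ[A] b := rfl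
      change Algebra.TensorProduct.lmul' R (a ⊗ₜ[R] b) =
        Algebra.TensorProduct.lmul' A ((IsLocalization.algebraTensorEquiv M R O O) (a ⊗ₜ[R] b))
      rw [e1, Algebra.TensorProduct.lmul'_apply_tmul, Algebra.TensorProduct.lmul'_apply_tmul]
    | add x y hx hy =>
      rw [map_add, map_add, hx, hy]
  rw [h1]
  exact RingHom.Flat.comp
    (RingHom.Flat.of_bijective (IsLocalization.algebraTensorEquiv M R O O).bijective)
    (Algebra.WeaklyEtale.flat_lmul' A O)

/-- a strictly henselian local ring, weakly étale over `A`, is a strict henselization of the
localization of `A` at the contraction of its maximal ideal -/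
theorem exists_isStrictHenselization_of_weaklyEtale
    {A : Type u} {R O : Type v} [CommRing A] [CommRing R] [CommRing O] [Algebra A R] [Algebra A O]
    (q : Ideal A) [q.IsPrime] [IsLocalization.AtPrime R q]
    [HenselianLocalRing O] [IsSepClosed (ResidueField O)]
    (hq : (maximalIdeal O).comap (algebraMap A O) = q) [Algebra.WeaklyEtale A O] :
    ∃ (_ : IsLocalRing R) (_ : Algebra R O) (_ : IsScalarTower A R O)
      (_ : IsLocalHom (algebraMap R O)), Hensel.IsStrictHenselization R O := by
  haveI hloc : IsLocalRing R := IsLocalization.AtPrime.isLocalRing R q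
  have hunit : ∀ y : q.primeCompl, IsUnit (algebraMap A O y) := by
    intro y
    by_contra hnu
    have h1 : algebraMap A O y ∈ maximalIdeal O := (mem_maximalIdeal _).mpr hnu
    have h2 : (y : A) ∈ (maximalIdeal O).comap (algebraMap A O) := h1
    rw [hq] at h2
    exact y.2 h2
  let φ : R →+* O := IsLocalization.lift hunit
  letI algRO : Algebra R O := φ.toAlgebra
  have htower : IsScalarTower A R O :=
    IsScalarTower.of_algebraMap_eq (fun a => (IsLocalization.lift_eq hunit a).symm)
  haveI := htower
  have hlocal : IsLocalHom (algebraMap R O) := by
    refine ⟨fun x hx => ?_⟩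
    obtain ⟨a, s, rfl⟩ := IsLocalization.exists_mk'_eq (M := q.primeCompl) x
    have h3 : φ (IsLocalization.mk' R a s) * algebraMap A O s = algebraMap A O a := by
      have e1 : algebraMap A O (s : A) = φ (algebraMap A R s) :=
        (IsLocalization.lift_eq (S := R) hunit (s : A)).symm
      have e2 : algebraMap A O a = φ (algebraMap A R a) :=
        (IsLocalization.lift_eq (S := R) hunit a).symm
      rw [e1, e2, ← map_mul, IsLocalization.mk'_spec]
    have h4 : IsUnit (algebraMap A O a) := by
      rw [← h3]
      exact IsUnit.mul hx (hunit s)
    have h5 : a ∈ q.primeCompl := by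
      intro ha
      have : a ∈ (maximalIdeal O).comap (algebraMap A O) := by rw [hq]; exact ha
      exact (mem_maximalIdeal _).mp this h4
    exact (IsLocalization.AtPrime.isUnit_mk'_iff R q a s).mpr h5
  haveI := hlocal
  haveI : Algebra.WeaklyEtale R O := weaklyEtale_of_isLocalization q.primeCompl R
  exact ⟨hloc, algRO, htower, hlocal,
    Groth.Agent.Helper2.Oli.isStrictHenselization_of_weaklyEtale R O⟩

end Groth.Agent.Helper15.OEtSH
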