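import Mathlib
import Groth.Prelude
import Groth.Agent.Lib.Helper15.OEtSH2
import Groth.Agent.Lib.Helper15.OEtSH3

set_option autoImplicit false
set_option linter.unusedSectionVars false
set_option linter.unusedVariables false
set_option linter.style.haveILetI false

universe u

open CategoryTheory CategoryTheory.Limits AlgebraicGeometry Opposite AlgSp TensorProduct
open Groth.Agent.Helper15 Groth.Agent.Helper1.ASH

namespace Groth.Agent.Helper15.OEtSH

variable {S : Scheme.{u}} {X : Sp S} (p : FieldPt X) (hX : IsAlgSpace X) (hp : p.IsGeometric)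

include hX hp in
/-- The étale local ring of an algebraic space at a geometric point is a strict henselization
of (the universe lift of) the local ring of any affine étale neighbourhood at the lifted
point. -/
theorem exists_isStrictHenselization_stalk (N0 : EtNbhd p) [IsAffine (sch p N0)] :
    ∃ (_ : IsLocalRing (ULift.{u + 1} ↥((sch p N0).presheaf.stalk (pv p N0))))
      (_ : IsLocalRing ↥(OEtStalk p))
      (_ : Algebra (ULift.{u + 1} ↥((sch p N0).presheaf.stalk (pv p N0))) ↥(OEtStalk p))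
      (_ : IsLocalHom (algebraMap (ULift.{u + 1} ↥((sch p N0).presheaf.stalk (pv p N0)))
        ↥(OEtStalk p))),
      Hensel.IsStrictHenselization (ULift.{u + 1} ↥((sch p N0).presheaf.stalk (pv p N0)))
        ↥(OEtStalk p) ∧
      ∀ s : Γ(sch p N0, ⊤),
        algebraMap (ULift.{u + 1} ↥((sch p N0).presheaf.stalk (pv p N0))) ↥(OEtStalk p)
          (ULift.up ((sch p N0).presheaf.germ ⊤ (pv p N0) trivial s)) = ρ p N0 s := by
  letI a1 := TopCat.Presheaf.algebra_section_stalk (sch p N0).presheaf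
    (⟨pv p N0, trivial⟩ : (⊤ : (sch p N0).Opens))
  haveI l1 := (isAffineOpen_top (sch p N0)).isLocalization_stalk ⟨pv p N0, trivial⟩
  set q : Ideal Γ(sch p N0, ⊤) :=
    ((isAffineOpen_top (sch p N0)).primeIdealOf ⟨pv p N0, trivial⟩).asIdeal with hqdef
  letI a2 : Algebra Γ(sch p N0, ⊤) (ULift.{u + 1} ↥((sch p N0).presheaf.stalk (pv p N0))) :=
    ((ULift.ringEquiv.symm : ↥((sch p N0).presheaf.stalk (pv p N0)) ≃+* _).toRingHom.comp
      (algebraMap Γ(sch p N0, ⊤) ↥((sch p N0).presheaf.stalk (pv p N0)))).toAlgebra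
  let e : ↥((sch p N0).presheaf.stalk (pv p N0)) ≃ₐ[Γ(sch p N0, ⊤)]
      ULift.{u + 1} ↥((sch p N0).presheaf.stalk (pv p N0)) :=
    { (ULift.ringEquiv.symm : ↥((sch p N0).presheaf.stalk (pv p N0)) ≃+* _) with
      commutes' := fun a => rfl }
  haveI l2 : IsLocalization.AtPrime
      (ULift.{u + 1} ↥((sch p N0).presheaf.stalk (pv p N0))) q :=
    IsLocalization.isLocalization_of_algEquiv q.primeCompl e
  letI a3 : Algebra Γ(sch p N0, ⊤) ↥(OEtStalk p) := (ρ p N0).toAlgebra
  haveI := henselian p hX hp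
  haveI := isSepClosed_residueField p hX hp
  haveI := weaklyEtale_ρ p hX hp N0
  have hq : (IsLocalRing.maximalIdeal ↥(OEtStalk p)).comap
      (algebraMap Γ(sch p N0, ⊤) ↥(OEtStalk p)) = q := by
    rw [hqdef, ← ker_evU_eq]
    exact comap_ρ_maximalIdeal p hX hp N0
  obtain ⟨h1, h2, h3, h4, h5⟩ := exists_isStrictHenselization_of_weaklyEtale
    (A := Γ(sch p N0, ⊤)) (R := ULift.{u + 1} ↥((sch p N0).presheaf.stalk (pv p N0)))
    (O := ↥(OEtStalk p)) q hq
  refine ⟨h1, isLocalRing p hX hp, h2, h4, h5, ?_⟩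
  intro s
  have := (IsScalarTower.algebraMap_apply Γ(sch p N0, ⊤)
    (ULift.{u + 1} ↥((sch p N0).presheaf.stalk (pv p N0))) ↥(OEtStalk p) s).symm
  exact this

end Groth.Agent.Helper15.OEtSH
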