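import Mathlib
import Groth.Prelude
import Groth.Agent.Lib.Helper15.OEtSH4
import Groth.Agent.Lib.Helper15.AlgSpNoeth
import Groth.Agent.S0540

set_option autoImplicit false
set_option linter.unusedSectionVars false
set_option linter.unusedVariables false
set_option linter.style.haveILetI false

universe u

open CategoryTheory CategoryTheory.Limits AlgebraicGeometry Opposite AlgSp TensorProduct
open Groth.Agent.Helper15 Groth.Agent.Helper1.ASH

namespace Groth.Agent.Helper15.OEtSH

variable {S : Scheme.{u}} {X : Sp S} (p : FieldPt X) (hX : IsAlgSpace X) (hp : p.IsGeometric)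

include hX hp in
theorem exists_affine_nbhd : ∃ N0 : EtNbhd p, IsAffine (sch p N0) := by
  haveI := isCofiltered_etNbhd hX p hp
  obtain ⟨N0'⟩ : Nonempty (EtNbhd p) := IsCofiltered.nonempty
  obtain ⟨N0, -, hN0⟩ := exists_affine_refinement p N0'
  exact ⟨N0, hN0⟩

include hX hp in
theorem isNoetherianRing_OEtStalk (hN : IsLocNoethSp X) : IsNoetherianRing ↥(OEtStalk p) := by
  obtain ⟨N0, hN0⟩ := exists_affine_nbhd p hX hp
  haveI := hN0
  haveI : IsLocallyNoetherian (sch p N0) :=
    isLocallyNoetherian_of_etale_of_isLocNoethSp hN N0.1.obj.hom N0.1.property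
  obtain ⟨h1, h2, h3, h4, h5, -⟩ := exists_isStrictHenselization_stalk p hX hp N0
  haveI : IsNoetherianRing (ULift.{u + 1} ↥((sch p N0).presheaf.stalk (pv p N0))) :=
    isNoetherianRing_of_ringEquiv _ (ULift.ringEquiv.symm)
  exact (Groth.Agent.S0540.result (ULift.{u + 1} ↥((sch p N0).presheaf.stalk (pv p N0)))
    ↥(OEtStalk p)).mp inferInstance

end Groth.Agent.Helper15.OEtSH
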