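import Mathlib
import Groth.Prelude
import Groth.Agent.Lib.Helper15.OEtSH5
import Groth.Agent.Lib.Helper14.RegAscent
import Groth.Agent.Lib.Helper1.SHznMax
import Groth.Agent.S0539
import Groth.Agent.S0565

set_option autoImplicit false
set_option linter.unusedSectionVars false
set_option linter.unusedVariables false
set_option linter.style.haveILetI false

universe u

open CategoryTheory CategoryTheory.Limits AlgebraicGeometry Opposite AlgSp TensorProduct
open Groth.Agent.Helper15 Groth.Agent.Helper1.ASH IsLocalRing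

namespace Groth.Agent.Helper15.OEtSH

/-- regularity passes to and from the strict henselization (no Noetherian hypothesis) -/
theorem isRegularLocalRing_iff_of_isStrictHenselization (R S : Type u) [CommRing R]
    [IsLocalRing R] [CommRing S] [IsLocalRing S] [Algebra R S] [IsLocalHom (algebraMap R S)]
    [Hensel.IsStrictHenselization R S] :
    IsRegularLocalRing R ↔ IsRegularLocalRing S := by
  haveI : Module.FaithfullyFlat R S := Groth.Agent.S0539.result R S
  constructor
  · intro h
    haveI : IsNoetherianRing S := (Groth.Agent.S0540.result R S).mp inferInstance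
    apply Groth.Agent.Helper14.RegAscent.isRegularLocalRing_of_flat_of_fibre R S
    rw [Groth.Agent.Helper1.SHzn.map_maximalIdeal_eq_of_isStrictHenselization R S]
    change IsRegularLocalRing (ResidueField S)
    infer_instance
  · intro h
    haveI : IsNoetherianRing R := (Groth.Agent.S0540.result R S).mpr inferInstance
    exact Groth.Agent.S0565.result R S

variable {S : Scheme.{u}} {X : Sp S} (p : FieldPt X) (hX : IsAlgSpace X) (hp : p.IsGeometric)

/-- affine refinement by an open immersion -/
theorem exists_affine_open_refinement (N : EtNbhd p) :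
    ∃ (N' : EtNbhd p) (f : N' ⟶ N), IsAffine (sch p N') ∧
      IsOpenImmersion f.1.hom.left.left := by
  obtain ⟨R', j, hj, hmem, -⟩ := Scheme.exists_affine_mem_range_and_range_subset
    (x := (pt p N) default) (U := ⊤) (by trivial)
  have hrange : Set.range (pt p N) ⊆ Set.range j := by
    rintro _ ⟨a, rfl⟩
    rwa [Subsingleton.elim a default]
  let l := IsOpenImmersion.lift j (pt p N) hrange
  have hl : l ≫ j = pt p N := IsOpenImmersion.lift_fac _ _ _
  refine ⟨nb N j l hl, nbHom N j l hl, ?_, ?_⟩
  · show IsAffine (Spec R')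
    infer_instance
  · rw [nbHom_left]
    exact hj

theorem isRegularLocalRing_stalk_iff_of_isOpenImmersion {W V : Scheme.{u}} (j : W ⟶ V)
    [IsOpenImmersion j] (w : W) (v : V) (h : j w = v) :
    IsRegularLocalRing ↥(W.presheaf.stalk w) ↔ IsRegularLocalRing ↥(V.presheaf.stalk v) := by
  subst h
  let e : ↥(V.presheaf.stalk (j w)) ≃+* ↥(W.presheaf.stalk w) :=
    (asIso (j.stalkMap w)).commRingCatIsoToRingEquiv
  constructor
  · intro h
    exact IsRegularLocalRing.of_ringEquiv e.symm
  · intro h
    exact IsRegularLocalRing.of_ringEquiv e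

include hX hp in
theorem isRegularLocalRing_OEtStalk_iff_affine (N0 : EtNbhd p) [IsAffine (sch p N0)] :
    IsRegularLocalRing ↥(OEtStalk p) ↔
      IsRegularLocalRing ↥((sch p N0).presheaf.stalk (pv p N0)) := by
  obtain ⟨h1, h2, h3, h4, h5, -⟩ := exists_isStrictHenselization_stalk p hX hp N0
  rw [← isRegularLocalRing_iff_of_isStrictHenselization
    (ULift.{u + 1} ↥((sch p N0).presheaf.stalk (pv p N0))) ↥(OEtStalk p)]
  constructor
  · intro h
    exact IsRegularLocalRing.of_ringEquiv ULift.ringEquiv
  · intro h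
    exact IsRegularLocalRing.of_ringEquiv ULift.ringEquiv.symm

include hX hp in
theorem isRegularLocalRing_OEtStalk_iff (N : EtNbhd p) :
    IsRegularLocalRing ↥(OEtStalk p) ↔
      IsRegularLocalRing ↥((sch p N).presheaf.stalk (pv p N)) := by
  obtain ⟨N', f, hN', hf⟩ := exists_affine_open_refinement p N
  haveI := hN'
  haveI := hf
  rw [isRegularLocalRing_OEtStalk_iff_affine p hX hp N']
  exact isRegularLocalRing_stalk_iff_of_isOpenImmersion f.1.hom.left.left (pv p N') (pv p N)
    (pv_map p f)

include hX hp in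
theorem isRegularLocalRing_OEtStalk_iff_chart (U : Over S) (a : (yon S).obj U ⟶ X)
    (ha : RepWith @Etale a) (u : U.left) (hu : Points.ofPt a u = Points.mk p) :
    IsRegularLocalRing ↥(OEtStalk p) ↔ IsRegularLocalRing ↥(U.left.presheaf.stalk u) := by
  obtain ⟨l, hl1, hl2⟩ := exists_lift_geometric_point_of_repWith_etale a ha p hp u hu
  let N : EtNbhd p := ⟨EtOver.mk a ha, ⟨l, hl1⟩⟩
  have h := isRegularLocalRing_OEtStalk_iff p hX hp N
  have hpv : pv p N = u := hl2
  rw [h]
  change IsRegularLocalRing ↥(U.left.presheaf.stalk (pv p N)) ↔ _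
  rw [hpv]

include hX in
theorem main10232 (x : Points X) :
    (HasAt (fun U u => IsRegularLocalRing ↥(U.presheaf.stalk u)) X x ↔
      ∀ p : FieldPt X, p.IsGeometric → Points.mk p = x → IsRegularLocalRing ↥(OEtStalk p)) ∧
    (HasAt (fun U u => IsRegularLocalRing ↥(U.presheaf.stalk u)) X x ↔
      ∃ p : FieldPt X, p.IsGeometric ∧ Points.mk p = x ∧ IsRegularLocalRing ↥(OEtStalk p)) := by
  have key1 : HasAt (fun U u => IsRegularLocalRing ↥(U.presheaf.stalk u)) X x →
      ∀ p : FieldPt X, p.IsGeometric → Points.mk p = x → IsRegularLocalRing ↥(OEtStalk p) := by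
    rintro ⟨U, a, u, ha, hu, hreg⟩ p hp hpx
    exact (isRegularLocalRing_OEtStalk_iff_chart p hX hp U a ha u (hu.trans hpx.symm)).mpr hreg
  have key2 : (∃ p : FieldPt X, p.IsGeometric ∧ Points.mk p = x ∧
      IsRegularLocalRing ↥(OEtStalk p)) →
      HasAt (fun U u => IsRegularLocalRing ↥(U.presheaf.stalk u)) X x := by
    rintro ⟨p, hp, hpx, hreg⟩
    obtain ⟨N0, hN0⟩ := exists_affine_nbhd p hX hp
    refine ⟨N0.1.obj.left, N0.1.obj.hom, pv p N0, N0.1.property,
      (ofPt_liftsTo p N0.2).trans hpx, ?_⟩
    exact (isRegularLocalRing_OEtStalk_iff p hX hp N0).mp hreg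
  have key3 : (∀ p : FieldPt X, p.IsGeometric → Points.mk p = x →
      IsRegularLocalRing ↥(OEtStalk p)) →
      ∃ p : FieldPt X, p.IsGeometric ∧ Points.mk p = x ∧ IsRegularLocalRing ↥(OEtStalk p) := by
    intro h
    obtain ⟨p, hp, hpx⟩ := exists_geometric_point_mk x
    exact ⟨p, hp, hpx, h p hp hpx⟩
  exact ⟨⟨key1, fun h => key2 (key3 h)⟩, ⟨fun h => key3 (key1 h), key2⟩⟩

end Groth.Agent.Helper15.OEtSH
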