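import Mathlib
import Groth.Prelude
import Groth.Agent.Lib.Helper15.OEtSH6
import Groth.Agent.Lib.Helper1.TP1
import Groth.Agent.Lib.Helper1.DS1
import Groth.Agent.Lib.Helper1.WE1

set_option autoImplicit false
set_option linter.unusedSectionVars false
set_option linter.unusedVariables false
set_option linter.style.haveILetI false

universe u v

open IsLocalRing

namespace Groth.Agent.Helper15.OEtSH

theorem isSepClosed_of_ringEquiv {k : Type u} {k' : Type v} [Field k] [Field k'] (e : k ≃+* k')
    [IsSepClosed k] : IsSepClosed k' := by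
  refine ⟨fun p hp => ?_⟩
  have h := (IsSepClosed.splits_of_separable (p.map e.symm.toRingHom) hp.map).map e.toRingHom
  have hid : (e.toRingHom.comp e.symm.toRingHom) = RingHom.id _ :=
    RingHom.ext fun x => e.apply_symm_apply x
  rwa [Polynomial.map_map, hid, Polynomial.map_id] at h

/-- the number of minimal primes is invariant under ring isomorphisms (any universes) -/
theorem encard_minimalPrimes_of_ringEquiv' {S : Type u} {S' : Type v} [CommRing S] [CommRing S']
    (e : S ≃+* S') : (minimalPrimes S).encard = (minimalPrimes S').encard := by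
  have h : minimalPrimes S = (Ideal.comap (e : S →+* S')) '' minimalPrimes S' := by
    have := Ideal.comap_minimalPrimes_eq_of_surjective (f := (e : S →+* S')) e.surjective
      (⊥ : Ideal S')
    have hker : (⊥ : Ideal S').comap (e : S →+* S') = ⊥ := by
      rw [← RingHom.ker_eq_comap_bot]
      exact (RingHom.injective_iff_ker_eq_bot _).mp e.injective
    rw [hker] at this
    exact this
  rw [h]
  exact (Ideal.comap_injective_of_surjective (e : S →+* S') e.surjective).injOn.encard_image

attribute [local instance] ULift.algebra' in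
/-- the universe lift of a strict henselization is a strict henselization of the universe lift -/
theorem exists_isStrictHenselization_ulift (A S : Type u) [CommRing A] [IsLocalRing A]
    [CommRing S] [IsLocalRing S] [Algebra A S] [IsLocalHom (algebraMap A S)]
    [Hensel.IsStrictHenselization A S] :
    ∃ (_ : IsLocalRing (ULift.{u + 1} A)) (_ : IsLocalRing (ULift.{u + 1} S))
      (_ : IsLocalHom (algebraMap (ULift.{u + 1} A) (ULift.{u + 1} S))),
      Hensel.IsStrictHenselization (ULift.{u + 1} A) (ULift.{u + 1} S) := by
  haveI hA' : IsLocalRing (ULift.{u + 1} A) :=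
    (ULift.ringEquiv.symm : A ≃+* ULift.{u + 1} A).isLocalRing
  haveI hS : HenselianLocalRing S := Hensel.IsStrictHenselization.henselian (R := A)
  haveI hS' : HenselianLocalRing (ULift.{u + 1} S) :=
    Groth.Agent.Helper1.DS.henselianLocalRing_of_ringEquiv
      (ULift.ringEquiv.symm : S ≃+* ULift.{u + 1} S)
  have hsc : IsSepClosure (ResidueField A) (ResidueField S) :=
    Hensel.IsStrictHenselization.isSepClosure
  haveI : IsSepClosed (ResidueField S) := hsc.sep_closed
  haveI : IsSepClosed (ResidueField (ULift.{u + 1} S)) :=
    isSepClosed_of_ringEquiv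
      (IsLocalRing.ResidueField.mapEquiv (ULift.ringEquiv.symm : S ≃+* ULift.{u + 1} S))
  haveI hloc : IsLocalHom (algebraMap (ULift.{u + 1} A) (ULift.{u + 1} S)) := by
    refine ⟨fun a ha => ?_⟩
    have h1 : IsUnit ((ULift.ringEquiv : ULift.{u + 1} S ≃+* S)
        (algebraMap (ULift.{u + 1} A) (ULift.{u + 1} S) a)) := ha.map _
    have h2 : (ULift.ringEquiv : ULift.{u + 1} S ≃+* S)
        (algebraMap (ULift.{u + 1} A) (ULift.{u + 1} S) a) = algebraMap A S a.down := rfl
    rw [h2] at h1
    have h3 : IsUnit a.down := (isUnit_map_iff (algebraMap A S) a.down).mp h1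
    have h4 : IsUnit ((ULift.ringEquiv.symm : A ≃+* ULift.{u + 1} A) a.down) := h3.map _
    exact h4
  haveI : Algebra.WeaklyEtale A S :=
    Groth.Agent.Helper1.WE.weaklyEtale_of_isStrictHenselization A S
  haveI : Algebra.WeaklyEtale (ULift.{u + 1} A) (ULift.{u + 1} S) :=
    Algebra.WeaklyEtale.ulift_iff.mpr inferInstance
  exact ⟨hA', inferInstance, hloc,
    Groth.Agent.Helper2.Oli.isStrictHenselization_of_weaklyEtale _ _⟩

end Groth.Agent.Helper15.OEtSH
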