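import Mathlib
import Groth.Prelude
import Groth.Agent.Lib.Helper15.OEtSH8
import Groth.Agent.Lib.Helper15.BrnchEt5
import Groth.Agent.Lib.Helper15.BrnchF2

set_option autoImplicit false
set_option linter.unusedSectionVars false
set_option linter.unusedVariables false
set_option linter.style.haveILetI false

universe u

open CategoryTheory CategoryTheory.Limits AlgebraicGeometry Opposite AlgSp TensorProduct
open Groth.Agent.Helper15 Groth.Agent.Helper1.ASH IsLocalRing Groth.Agent.Helper1

namespace Groth.Agent.Helper15.OEtSH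

variable {S : Scheme.{u}} {X : Sp S} (p : FieldPt X) (hX : IsAlgSpace X) (hp : p.IsGeometric)

attribute [local instance] ULift.algebra' in
include hX hp in
theorem encard_minimalPrimes_OEtStalk_affine (N0 : EtNbhd p) [IsAffine (sch p N0)] :
    (minimalPrimes ↥(OEtStalk p)).encard = Brnch.numGeomBranchesAt (sch p N0) (pv p N0) := by
  obtain ⟨h1, h2, h3, h4, h5, -⟩ := exists_isStrictHenselization_stalk p hX hp N0
  haveI := SHzn.isStrictHenselization ↥((sch p N0).presheaf.stalk (pv p N0))
  obtain ⟨g1, g2, g3, g5⟩ := exists_isStrictHenselization_ulift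
    ↥((sch p N0).presheaf.stalk (pv p N0)) (SHzn.S ↥((sch p N0).presheaf.stalk (pv p N0)))
  obtain ⟨e, -⟩ := TP.exists_ringEquiv_of_isStrictHenselization
    (ULift.{u + 1} ↥((sch p N0).presheaf.stalk (pv p N0))) ↥(OEtStalk p)
    (ULift.{u + 1} (SHzn.S ↥((sch p N0).presheaf.stalk (pv p N0))))
  rw [BrnchEt.numGeomBranchesAt_eq_encard_minimalPrimes_SH]
  exact encard_minimalPrimes_of_ringEquiv' (e.trans ULift.ringEquiv)

include hX hp in
theorem encard_minimalPrimes_OEtStalk (N : EtNbhd p) :
    (minimalPrimes ↥(OEtStalk p)).encard = Brnch.numGeomBranchesAt (sch p N) (pv p N) := by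
  obtain ⟨N', f, hN', hf⟩ := exists_affine_open_refinement p N
  haveI := hN'
  haveI := hf
  rw [encard_minimalPrimes_OEtStalk_affine p hX hp N',
    BrnchEt.numGeomBranchesAt_eq_of_etale f.1.hom.left.left (pv p N'), pv_map p f]

include hX hp in
theorem encard_minimalPrimes_OEtStalk_chart (U : Over S) (a : (yon S).obj U ⟶ X)
    (ha : RepWith @Etale a) (u : U.left) (hu : Points.ofPt a u = Points.mk p) :
    (minimalPrimes ↥(OEtStalk p)).encard = Brnch.numGeomBranchesAt U.left u := by
  obtain ⟨l, hl1, hl2⟩ := exists_lift_geometric_point_of_repWith_etale a ha p hp u hu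
  let N : EtNbhd p := ⟨EtOver.mk a ha, ⟨l, hl1⟩⟩
  have h := encard_minimalPrimes_OEtStalk p hX hp N
  have hpv : pv p N = u := hl2
  rw [h]
  change Brnch.numGeomBranchesAt U.left (pv p N) = _
  rw [hpv]

end Groth.Agent.Helper15.OEtSH
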