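import Mathlib
import Groth.Prelude
import Groth.Agent.Lib.Helper15.OEtSH9
import Groth.Agent.Lib.Helper15.AlgSpDimEt
import Groth.Agent.S9236

set_option autoImplicit false
set_option linter.unusedSectionVars false
set_option linter.unusedVariables false
set_option linter.style.haveILetI false

universe u

open CategoryTheory CategoryTheory.Limits AlgebraicGeometry Opposite AlgSp TensorProduct
open Groth.Agent.Helper15 Groth.Agent.Helper1.ASH IsLocalRing Groth.Agent.Helper1

namespace Groth.Agent.Helper15.OEtSH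

theorem hasUniqueMinimalPrime_iff_encard (R : Type*) [CommRing R] :
    CAlgX.HasUniqueMinimalPrime R ↔ (minimalPrimes R).encard = 1 := by
  unfold CAlgX.HasUniqueMinimalPrime
  rw [Set.encard_eq_one]
  constructor
  · rintro ⟨q, hq, huniq⟩
    refine ⟨q, ?_⟩
    ext q'
    constructor
    · intro h
      exact huniq q' h
    · intro h
      rw [Set.mem_singleton_iff.mp h]
      exact hq
  · rintro ⟨q, hq⟩
    refine ⟨q, ?_, ?_⟩
    · rw [hq]; exact Set.mem_singleton q
    · intro q' h
      rw [hq] at h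
      exact h

variable {S : Scheme.{u}} {X : Sp S}

/-- an étale neighbourhood of a point of a chart is again a chart over the same point -/
theorem forall_etale_nbhd_of_forall_chart {x : Points X} {Q : ∀ U : Scheme.{u}, ↥U → Prop}
    (h : ∀ (U : Over S) (a : (yon S).obj U ⟶ X) (u : ↥U.left), RepWith @Etale a →
      Points.ofPt a u = x → Q U.left u)
    (U : Over S) (a : (yon S).obj U ⟶ X)
    (ha : RepWith @Etale a) (u : U.left) (hu : Points.ofPt a u = x)
    (W : Scheme.{u}) (g : W ⟶ U.left) [Etale g] (w : W) (hw : g w = u) : Q W w := by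
  refine h (Over.mk (g ≫ U.hom)) ((yon S).map (Over.homMk g rfl : Over.mk (g ≫ U.hom) ⟶ U) ≫ a) w
    ?_ ?_
  · exact (RepWith @Etale).comp_mem _ _
      ((repWith_yon_map_iff _ _).2 (inferInstance : Etale g)) ha
  · rw [ofPt_comp_yon_map]
    change Points.ofPt a (g w) = x
    rw [hw, hu]

theorem etInv_numGeomBranchesAt (d : ℕ∞) :
    EtInv (fun U u => Brnch.numGeomBranchesAt U u = d) := by
  intro W U g hg w
  haveI := hg
  change Brnch.numGeomBranchesAt W w = d ↔ Brnch.numGeomBranchesAt U (g w) = d
  rw [BrnchEt.numGeomBranchesAt_eq_of_etale g w]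

theorem main10227 (hX : IsAlgSpace X) (x : Points X) :
    ((∀ (U : Over S) (a : (yon S).obj U ⟶ X) (u : ↥U.left),
        RepWith @Etale a → Points.ofPt a u = x →
          CAlgX.HasUniqueMinimalPrime ↥(U.left.presheaf.stalk u)) ↔
      (∀ (U : Over S) (a : (yon S).obj U ⟶ X) (u : ↥U.left),
        RepWith @Etale a → Points.ofPt a u = x →
          CAlg2.IsGeomUnibranch ↥(U.left.presheaf.stalk u))) ∧
    ((∀ (U : Over S) (a : (yon S).obj U ⟶ X) (u : ↥U.left),
        RepWith @Etale a → Points.ofPt a u = x →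
          CAlgX.HasUniqueMinimalPrime ↥(U.left.presheaf.stalk u)) ↔
      ∀ p : FieldPt X, p.IsGeometric → Points.mk p = x →
        CAlgX.HasUniqueMinimalPrime ↥(OEtStalk p)) := by
  have hAB : (∀ (U : Over S) (a : (yon S).obj U ⟶ X) (u : ↥U.left),
        RepWith @Etale a → Points.ofPt a u = x →
          CAlgX.HasUniqueMinimalPrime ↥(U.left.presheaf.stalk u)) →
      (∀ (U : Over S) (a : (yon S).obj U ⟶ X) (u : ↥U.left),
        RepWith @Etale a → Points.ofPt a u = x →
          CAlg2.IsGeomUnibranch ↥(U.left.presheaf.stalk u)) := by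
    intro hA U a u ha hu
    rw [BrnchEt.isGeomUnibranch_stalk_iff]
    intro W g w hg hgw
    haveI := hg
    rw [BrnchF.encard_components_eq_minimalPrimes_stalk, ← hasUniqueMinimalPrime_iff_encard]
    exact forall_etale_nbhd_of_forall_chart
      (Q := fun U u => CAlgX.HasUniqueMinimalPrime ↥(U.presheaf.stalk u)) hA U a ha u hu W g w hgw
  have hBA : (∀ (U : Over S) (a : (yon S).obj U ⟶ X) (u : ↥U.left),
        RepWith @Etale a → Points.ofPt a u = x →
          CAlg2.IsGeomUnibranch ↥(U.left.presheaf.stalk u)) →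
      (∀ (U : Over S) (a : (yon S).obj U ⟶ X) (u : ↥U.left),
        RepWith @Etale a → Points.ofPt a u = x →
          CAlgX.HasUniqueMinimalPrime ↥(U.left.presheaf.stalk u)) := by
    intro hB U a u ha hu
    have h1 := (BrnchEt.isGeomUnibranch_stalk_iff U.left u).mp (hB U a u ha hu) U.left (𝟙 _) u
      inferInstance rfl
    rw [BrnchF.encard_components_eq_minimalPrimes_stalk] at h1
    exact (hasUniqueMinimalPrime_iff_encard _).mpr h1
  have hBC : (∀ (U : Over S) (a : (yon S).obj U ⟶ X) (u : ↥U.left),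
        RepWith @Etale a → Points.ofPt a u = x →
          CAlg2.IsGeomUnibranch ↥(U.left.presheaf.stalk u)) →
      ∀ p : FieldPt X, p.IsGeometric → Points.mk p = x →
        CAlgX.HasUniqueMinimalPrime ↥(OEtStalk p) := by
    intro hB p hp hpx
    obtain ⟨N0, hN0⟩ := exists_affine_nbhd p hX hp
    rw [hasUniqueMinimalPrime_iff_encard, encard_minimalPrimes_OEtStalk p hX hp N0]
    exact (Groth.Agent.S9236.result _).mpr
      (hB N0.1.obj.left N0.1.obj.hom (pv p N0) N0.1.property ((ofPt_liftsTo p N0.2).trans hpx))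
  have hCB : (∀ p : FieldPt X, p.IsGeometric → Points.mk p = x →
        CAlgX.HasUniqueMinimalPrime ↥(OEtStalk p)) →
      (∀ (U : Over S) (a : (yon S).obj U ⟶ X) (u : ↥U.left),
        RepWith @Etale a → Points.ofPt a u = x →
          CAlg2.IsGeomUnibranch ↥(U.left.presheaf.stalk u)) := by
    intro hC U a u ha hu
    obtain ⟨p, hp, hpx⟩ := exists_geometric_point_mk x
    have h1 := (hasUniqueMinimalPrime_iff_encard _).mp (hC p hp hpx)
    rw [encard_minimalPrimes_OEtStalk_chart p hX hp U a ha u (hu.trans hpx.symm)] at h1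
    exact (Groth.Agent.S9236.result _).mp h1
  exact ⟨⟨hAB, hBA⟩, ⟨fun hA => hBC (hAB hA), fun hC => hBA (hCB hC)⟩⟩

end Groth.Agent.Helper15.OEtSH
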