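import Mathlib
import Groth.Prelude
import Groth.Agent.Lib.Helper15.ElemH2
import Groth.Agent.Lib.Helper15.BrnchH3
import Groth.Agent.Lib.Helper15.OEtSH10

set_option autoImplicit false
set_option linter.unusedSectionVars false
set_option linter.unusedVariables false
set_option linter.style.haveILetI false

universe u

open CategoryTheory CategoryTheory.Limits AlgebraicGeometry Opposite MorphismProperty
open AlgSp

namespace Groth.Agent.Helper15.ElemH

open Groth.Agent.Helper15 Groth.Agent.Helper15.MonoPtFibre Groth.Agent.Helper15.ElemNbhd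

variable {S : Scheme.{u}}

/-- A scheme-level elementary étale neighbourhood of the point of an elementary étale
neighbourhood is again an elementary étale neighbourhood. -/
theorem isElemEtaleNbhd_of_isEtaleNbhd {X : Sp S} (hX : IsAlgSpace X) {x : Points X} {U : Over S}
    (a : (yon S).obj U ⟶ X) (u : U.left) (h : IsElemEtaleNbhd a u x) (W : Scheme.{u})
    (g : W ⟶ U.left) (w : W) (hg : Hens2.IsEtaleNbhd g w u) :
    IsElemEtaleNbhd ((yon S).map (Over.homMk g rfl : Over.mk (g ≫ U.hom) ⟶ U) ≫ a) w x := by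
  obtain ⟨hge, rfl, hres⟩ := hg
  haveI := hge
  refine ⟨?_, ?_, ?_⟩
  · exact (RepWith @Etale).comp_mem _ _
      ((repWith_yon_map_iff _ _).2 (inferInstance : Etale g)) h.etale
  · rw [ofPt_comp_yon_map]
    exact h.ofPt_eq
  · haveI hiso : IsIso (Spec.map (g.residueFieldMap w)) := isIso_SpecMap_iff.mpr hres
    obtain ⟨ℓ₀, hℓ₀, hℓ₀w⟩ : ∃ ℓ₀ : Spec (U.left.residueField (g w)) ⟶ W,
        ℓ₀ ≫ g = U.left.fromSpecResidueField (g w) ∧ ∀ z, ℓ₀ z = w := by
      refine ⟨inv (Spec.map (g.residueFieldMap w)) ≫ W.fromSpecResidueField w, ?_, ?_⟩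
      · rw [Category.assoc, ← Scheme.Hom.SpecMap_residueFieldMap_fromSpecResidueField,
          IsIso.inv_hom_id_assoc]
      · intro z
        rw [Scheme.Hom.comp_apply]
        exact Scheme.fromSpecResidueField_apply _ _
    have hw : ℓ₀ ≫ (Over.mk (g ≫ U.hom)).hom = (FieldPt.ofPt a (g w)).pt.hom := by
      change ℓ₀ ≫ (g ≫ U.hom) = U.left.fromSpecResidueField (g w) ≫ U.hom
      rw [← Category.assoc, hℓ₀]
    let ℓ : (FieldPt.ofPt a (g w)).pt ⟶ Over.mk (g ≫ U.hom) :=
      CategoryTheory.Over.homMk ℓ₀ hw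
    refine mono_ofPt_of_section hX a (g w) h.mono
      (CategoryTheory.Over.homMk g rfl : Over.mk (g ≫ U.hom) ⟶ U) ℓ ?_ w ?_
    · ext
      change ℓ₀ ≫ g = U.left.fromSpecResidueField (g w)
      exact hℓ₀
    · exact hℓ₀w _

/-- The branch number is the same on all elementary étale neighbourhoods of a point. -/
theorem numBranchesAt_eq_of_isElemEtaleNbhd {X : Sp S} (hX : IsAlgSpace X) (x : Points X)
    {U₁ U₂ : Over S} (a₁ : (yon S).obj U₁ ⟶ X) (a₂ : (yon S).obj U₂ ⟶ X) (u₁ : ↥U₁.left)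
    (u₂ : ↥U₂.left) (h₁ : IsElemEtaleNbhd a₁ u₁ x) (h₂ : IsElemEtaleNbhd a₂ u₂ x) :
    Brnch.numBranchesAt U₁.left u₁ = Brnch.numBranchesAt U₂.left u₂ := by
  obtain ⟨U, a, v, g₁, g₂, hU, hg₁, hg₂, hv₁, hv₂⟩ :=
    exists_elem_nbhd_dominating hX x U₁ U₂ a₁ a₂ u₁ u₂ h₁ h₂
  haveI e₁ : Etale g₁.left := etale_left_of_charts a₁ a g₁ hg₁ h₁.etale hU.etale
  haveI e₂ : Etale g₂.left := etale_left_of_charts a₂ a g₂ hg₂ h₂.etale hU.etale
  have r₁ := BrnchH.numBranchesAt_eq_of_etale g₁.left v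
    (residueFieldMap_bijective_of_mono a₁ a g₁ v hg₁ hU.mono).2
  have r₂ := BrnchH.numBranchesAt_eq_of_etale g₂.left v
    (residueFieldMap_bijective_of_mono a₂ a g₂ v hg₂ hU.mono).2
  rw [hv₁] at r₁
  rw [hv₂] at r₂
  rw [← r₁, r₂]

/-- The branch number on an elementary étale neighbourhood is the number of minimal primes of any
henselization of the local ring. -/
theorem numBranchesAt_eq_encard_of_isHenselization (U : Scheme.{u}) (u : U)
    (R : Type u) [CommRing R] [IsLocalRing R] [Algebra ↥(U.presheaf.stalk u) R]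
    [IsLocalHom (algebraMap ↥(U.presheaf.stalk u) R)]
    [Hensel.IsHenselization ↥(U.presheaf.stalk u) R] :
    Brnch.numBranchesAt U u = (minimalPrimes R).encard := by
  exact (Groth.Agent.S9237.result (U.presheaf.stalk u) R).symm

end Groth.Agent.Helper15.ElemH
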