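import Mathlib
import Groth.Prelude
import Groth.Agent.Lib.Helper15.ElemH3

set_option autoImplicit false
set_option linter.unusedSectionVars false
set_option linter.unusedVariables false
set_option linter.style.haveILetI false

universe u

open CategoryTheory CategoryTheory.Limits AlgebraicGeometry Opposite MorphismProperty
open AlgSp

namespace Groth.Agent.Helper15.ElemH

open Groth.Agent.Helper15 Groth.Agent.Helper15.MonoPtFibre Groth.Agent.Helper15.ElemNbhd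

variable {S : Scheme.{u}}

theorem exists_elem_nbhd_of_natCast_le {X : Sp S} (hX : IsAlgSpace X) (x : Points X)
    {U₀ : Over S} (a₀ : (yon S).obj U₀ ⟶ X) (u₀ : ↥U₀.left) (h₀ : IsElemEtaleNbhd a₀ u₀ x)
    (m : ℕ) (hm : (m : ℕ∞) ≤ Brnch.numBranchesAt U₀.left u₀) :
    ∃ (U : Over S) (a : (yon S).obj U ⟶ X) (u : ↥U.left), IsElemEtaleNbhd a u x ∧
      (m : ℕ∞) ≤ {Z : Set ↥U.left | Z ∈ irreducibleComponents ↥U.left ∧ u ∈ Z}.encard := by
  obtain ⟨W, g, w, hg, hle⟩ := BrnchH.exists_etaleNbhd_of_natCast_le U₀.left u₀ m hm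
  exact ⟨Over.mk (g ≫ U₀.hom), _, w, isElemEtaleNbhd_of_isEtaleNbhd hX a₀ u₀ h₀ W g w hg, hle⟩

theorem encard_components_le_of_isElemEtaleNbhd {X : Sp S} (hX : IsAlgSpace X) (x : Points X)
    {U₀ : Over S} (a₀ : (yon S).obj U₀ ⟶ X) (u₀ : ↥U₀.left) (h₀ : IsElemEtaleNbhd a₀ u₀ x)
    {U : Over S} (a : (yon S).obj U ⟶ X) (u : ↥U.left) (h : IsElemEtaleNbhd a u x) :
    {Z : Set ↥U.left | Z ∈ irreducibleComponents ↥U.left ∧ u ∈ Z}.encard ≤
      Brnch.numBranchesAt U₀.left u₀ := by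
  rw [← numBranchesAt_eq_of_isElemEtaleNbhd hX x a a₀ u u₀ h h₀]
  exact BrnchH.encard_components_le_numBranchesAt U.left u

/-- counting irreducible components through the point over all elementary étale neighbourhoods
computes the branch number -/
theorem components_count_iff {X : Sp S} (hX : IsAlgSpace X) (x : Points X)
    {U₀ : Over S} (a₀ : (yon S).obj U₀ ⟶ X) (u₀ : ↥U₀.left) (h₀ : IsElemEtaleNbhd a₀ u₀ x)
    (n : ℕ) :
    ((∀ (U : Over S) (a : (yon S).obj U ⟶ X) (u : ↥U.left), IsElemEtaleNbhd a u x →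
        {Z : Set ↥U.left | Z ∈ irreducibleComponents ↥U.left ∧ u ∈ Z}.encard ≤ n) ∧
      (∃ (U : Over S) (a : (yon S).obj U ⟶ X) (u : ↥U.left), IsElemEtaleNbhd a u x ∧
        {Z : Set ↥U.left | Z ∈ irreducibleComponents ↥U.left ∧ u ∈ Z}.encard = n)) ↔
      Brnch.numBranchesAt U₀.left u₀ = n := by
  constructor
  · rintro ⟨hall, U, a, u, hU, hn⟩
    apply le_antisymm
    · by_contra hlt
      rw [not_le] at hlt
      have h1 : ((n + 1 : ℕ) : ℕ∞) ≤ Brnch.numBranchesAt U₀.left u₀ := by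
        rw [Nat.cast_add, Nat.cast_one]
        exact Order.add_one_le_of_lt hlt
      obtain ⟨U', a', u', hU', hle⟩ := exists_elem_nbhd_of_natCast_le hX x a₀ u₀ h₀ (n + 1) h1
      have h2 := hle.trans (hall U' a' u' hU')
      rw [Nat.cast_le] at h2
      omega
    · rw [← hn]
      exact encard_components_le_of_isElemEtaleNbhd hX x a₀ u₀ h₀ a u hU
  · intro hN
    refine ⟨fun U a u hU => ?_, ?_⟩
    · rw [← hN]
      exact encard_components_le_of_isElemEtaleNbhd hX x a₀ u₀ h₀ a u hU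
    · obtain ⟨U', a', u', hU', hle⟩ := exists_elem_nbhd_of_natCast_le hX x a₀ u₀ h₀ n hN.ge
      refine ⟨U', a', u', hU', le_antisymm ?_ hle⟩
      rw [← hN]
      exact encard_components_le_of_isElemEtaleNbhd hX x a₀ u₀ h₀ a' u' hU'

theorem numBranchesAt_count_iff {X : Sp S} (hX : IsAlgSpace X) (x : Points X)
    {U₀ : Over S} (a₀ : (yon S).obj U₀ ⟶ X) (u₀ : ↥U₀.left) (h₀ : IsElemEtaleNbhd a₀ u₀ x)
    (n : ℕ) :
    ((∀ (U : Over S) (a : (yon S).obj U ⟶ X) (u : ↥U.left), IsElemEtaleNbhd a u x →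
        Brnch.numBranchesAt U.left u ≤ n) ∧
      (∃ (U : Over S) (a : (yon S).obj U ⟶ X) (u : ↥U.left), IsElemEtaleNbhd a u x ∧
        Brnch.numBranchesAt U.left u = n)) ↔
      Brnch.numBranchesAt U₀.left u₀ = n := by
  constructor
  · rintro ⟨hall, U, a, u, hU, hn⟩
    rw [← hn]
    exact numBranchesAt_eq_of_isElemEtaleNbhd hX x a₀ a u₀ u h₀ hU
  · intro hN
    refine ⟨fun U a u hU => ?_, U₀, a₀, u₀, h₀, hN⟩
    rw [numBranchesAt_eq_of_isElemEtaleNbhd hX x a a₀ u u₀ hU h₀, hN]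

theorem main10442 {X : Sp S} (hX : IsAlgSpace X) (x : Points X) (n : ℕ)
    {U₀ : Over S} (a₀ : (yon S).obj U₀ ⟶ X) (u₀ : ↥U₀.left) (h₀ : IsElemEtaleNbhd a₀ u₀ x)
    (R : Type u) [CommRing R] [IsLocalRing R] [Algebra ↥(U₀.left.presheaf.stalk u₀) R]
    [IsLocalHom (algebraMap ↥(U₀.left.presheaf.stalk u₀) R)]
    [Hensel.IsHenselization ↥(U₀.left.presheaf.stalk u₀) R] :
    (((∀ (U : Over S) (a : (AlgSp.yon S).obj U ⟶ X) (u : ↥U.left), AlgSp.IsElemEtaleNbhd a u x →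
        (minimalPrimes ↥(U.left.presheaf.stalk u)).encard ≤ n) ∧
      (∃ (U : Over S) (a : (AlgSp.yon S).obj U ⟶ X) (u : ↥U.left), AlgSp.IsElemEtaleNbhd a u x ∧
        (minimalPrimes ↥(U.left.presheaf.stalk u)).encard = n)) ↔
     ((∀ (U : Over S) (a : (AlgSp.yon S).obj U ⟶ X) (u : ↥U.left), AlgSp.IsElemEtaleNbhd a u x →
        {Z : Set ↥U.left | Z ∈ irreducibleComponents ↥U.left ∧ u ∈ Z}.encard ≤ n) ∧
      (∃ (U : Over S) (a : (AlgSp.yon S).obj U ⟶ X) (u : ↥U.left), AlgSp.IsElemEtaleNbhd a u x ∧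
        {Z : Set ↥U.left | Z ∈ irreducibleComponents ↥U.left ∧ u ∈ Z}.encard = n))) ∧
    (((∀ (U : Over S) (a : (AlgSp.yon S).obj U ⟶ X) (u : ↥U.left), AlgSp.IsElemEtaleNbhd a u x →
        {Z : Set ↥U.left | Z ∈ irreducibleComponents ↥U.left ∧ u ∈ Z}.encard ≤ n) ∧
      (∃ (U : Over S) (a : (AlgSp.yon S).obj U ⟶ X) (u : ↥U.left), AlgSp.IsElemEtaleNbhd a u x ∧
        {Z : Set ↥U.left | Z ∈ irreducibleComponents ↥U.left ∧ u ∈ Z}.encard = n)) ↔
     ((∀ (U : Over S) (a : (AlgSp.yon S).obj U ⟶ X) (u : ↥U.left), AlgSp.IsElemEtaleNbhd a u x →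
        Brnch.numBranchesAt U.left u ≤ n) ∧
      (∃ (U : Over S) (a : (AlgSp.yon S).obj U ⟶ X) (u : ↥U.left), AlgSp.IsElemEtaleNbhd a u x ∧
        Brnch.numBranchesAt U.left u = n))) ∧
    (((∀ (U : Over S) (a : (AlgSp.yon S).obj U ⟶ X) (u : ↥U.left), AlgSp.IsElemEtaleNbhd a u x →
        Brnch.numBranchesAt U.left u ≤ n) ∧
      (∃ (U : Over S) (a : (AlgSp.yon S).obj U ⟶ X) (u : ↥U.left), AlgSp.IsElemEtaleNbhd a u x ∧
        Brnch.numBranchesAt U.left u = n)) ↔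
     (minimalPrimes R).encard = n) := by
  refine ⟨?_, ?_, ?_⟩
  · simp only [BrnchF.encard_components_eq_minimalPrimes_stalk]
  · rw [components_count_iff hX x a₀ u₀ h₀ n, numBranchesAt_count_iff hX x a₀ u₀ h₀ n]
  · rw [numBranchesAt_count_iff hX x a₀ u₀ h₀ n,
      numBranchesAt_eq_encard_of_isHenselization U₀.left u₀ R]

theorem main10441 {X : Sp S} (hX : IsAlgSpace X) (x : Points X)
    {U₀ : Over S} (a₀ : (yon S).obj U₀ ⟶ X) (u₀ : ↥U₀.left) (h₀ : IsElemEtaleNbhd a₀ u₀ x)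
    (R : Type u) [CommRing R] [IsLocalRing R] [Algebra ↥(U₀.left.presheaf.stalk u₀) R]
    [IsLocalHom (algebraMap ↥(U₀.left.presheaf.stalk u₀) R)]
    [Hensel.IsHenselization ↥(U₀.left.presheaf.stalk u₀) R] :
    ((∀ (U : Over S) (a : (AlgSp.yon S).obj U ⟶ X) (u : ↥U.left), AlgSp.IsElemEtaleNbhd a u x →
        CAlgX.HasUniqueMinimalPrime ↥(U.left.presheaf.stalk u)) ↔
      (∀ (U : Over S) (a : (AlgSp.yon S).obj U ⟶ X) (u : ↥U.left), AlgSp.IsElemEtaleNbhd a u x →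
        {Z : Set ↥U.left | Z ∈ irreducibleComponents ↥U.left ∧ u ∈ Z}.encard = 1)) ∧
    ((∀ (U : Over S) (a : (AlgSp.yon S).obj U ⟶ X) (u : ↥U.left), AlgSp.IsElemEtaleNbhd a u x →
        {Z : Set ↥U.left | Z ∈ irreducibleComponents ↥U.left ∧ u ∈ Z}.encard = 1) ↔
      (∀ (U : Over S) (a : (AlgSp.yon S).obj U ⟶ X) (u : ↥U.left), AlgSp.IsElemEtaleNbhd a u x →
        CAlg2.IsUnibranch ↥(U.left.presheaf.stalk u))) ∧
    ((∀ (U : Over S) (a : (AlgSp.yon S).obj U ⟶ X) (u : ↥U.left), AlgSp.IsElemEtaleNbhd a u x →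
        CAlg2.IsUnibranch ↥(U.left.presheaf.stalk u)) ↔ CAlgX.HasUniqueMinimalPrime R) := by
  have hcomp : (∀ (U : Over S) (a : (AlgSp.yon S).obj U ⟶ X) (u : ↥U.left),
      AlgSp.IsElemEtaleNbhd a u x →
        {Z : Set ↥U.left | Z ∈ irreducibleComponents ↥U.left ∧ u ∈ Z}.encard = 1) ↔
      Brnch.numBranchesAt U₀.left u₀ = 1 := by
    have hc := components_count_iff hX x a₀ u₀ h₀ 1
    rw [Nat.cast_one] at hc
    rw [← hc]
    constructor
    · intro h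
      exact ⟨fun U a u hU => (h U a u hU).le, U₀, a₀, u₀, h₀, h U₀ a₀ u₀ h₀⟩
    · rintro ⟨h, -⟩ U a u hU
      exact le_antisymm (h U a u hU) (BrnchEt.one_le_encard_components U.left u)
  have huni : (∀ (U : Over S) (a : (AlgSp.yon S).obj U ⟶ X) (u : ↥U.left),
      AlgSp.IsElemEtaleNbhd a u x → CAlg2.IsUnibranch ↥(U.left.presheaf.stalk u)) ↔
      Brnch.numBranchesAt U₀.left u₀ = 1 := by
    constructor
    · intro h
      exact (Groth.Agent.S9235.result _).mpr (h U₀ a₀ u₀ h₀)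
    · intro h U a u hU
      apply (Groth.Agent.S9235.result _).mp
      change Brnch.numBranchesAt U.left u = 1
      rw [numBranchesAt_eq_of_isElemEtaleNbhd hX x a a₀ u u₀ hU h₀, h]
  refine ⟨?_, ?_, ?_⟩
  · simp only [OEtSH.hasUniqueMinimalPrime_iff_encard,
      BrnchF.encard_components_eq_minimalPrimes_stalk]
  · rw [hcomp, huni]
  · rw [huni, OEtSH.hasUniqueMinimalPrime_iff_encard,
      numBranchesAt_eq_encard_of_isHenselization U₀.left u₀ R]

end Groth.Agent.Helper15.ElemH
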