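import Groth.Agent.Lib.Helper15.NormQf1
import Groth.Agent.Lib.Helper15.AlgSpRed

/-!
# Elementary distinguished squares, I: the two maps form a covering; gluing morphisms
-/

set_option autoImplicit false
universe u w
open CategoryTheory CategoryTheory.Limits AlgebraicGeometry MorphismProperty Opposite
open AlgSp

namespace Groth.Agent.Helper15.ElemSq

open Groth.Agent.Helper15.Norm

variable {S : Scheme.{u}}

/-- The two-member family of sheaves. -/
def pairFam (A B : Sp S) : PUnit.{u + 1} ⊕ PUnit.{u + 1} → Sp S :=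
  Sum.elim (fun _ => A) (fun _ => B)

/-- The two-member family of maps. -/
def pairMap {A B F : Sp S} (a : A ⟶ F) (b : B ⟶ F) : ∀ i, pairFam A B i ⟶ F
  | .inl _ => a
  | .inr _ => b

theorem pair_hom_ext {A B F Z : Sp S} {a : A ⟶ F} {b : B ⟶ F}
    (h : JointlyEpi (pairFam A B) (pairMap a b)) {d d' : F ⟶ Z} (h1 : a ≫ d = a ≫ d')
    (h2 : b ≫ d = b ≫ d') : d = d' := by
  apply h.hom_ext
  rintro (_ | _)
  · exact h1
  · exact h2

/-- The sheaf of the spectrum of a field is reduced. -/
theorem isReducedSp_yon_of_isReduced (T : Over S) [IsReduced T.left] :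
    IsReducedSp ((yon S).obj T) :=
  ⟨T, 𝟙 _, repWith_id _ T, repWith_id _ T, inferInstance⟩

section

variable {U V W : Sp S} {j : U ⟶ W} {f : V ⟶ W}

/-- The points of `W` are covered by `U` and `V`. -/
theorem points_cover (hsq : IsElemDistSq j f) (w : Points W) :
    w ∈ Set.range (Points.map j) ∨ w ∈ Set.range (Points.map f) := by
  obtain ⟨-, -, Tc, Pc, i, p₁, p₂, hi, sqc, hp₁⟩ := hsq
  by_cases hw : w ∈ Set.range (Points.map j)
  · exact Or.inl hw
  · right
    have : w ∈ Set.range (Points.map i) := by rw [hi.2.1]; exact hw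
    obtain ⟨τ, rfl⟩ := this
    haveI := hp₁
    refine ⟨Points.map p₂ (Points.map (inv p₁) τ), ?_⟩
    rw [← Points.map_comp, ← Points.map_comp, ← sqc.w, IsIso.inv_hom_id_assoc]

/-- Two field-valued sections of `V` with the same image in `W`, outside `U`, agree. -/
theorem eq_of_comp_eq_of_not_mem (hsq : IsElemDistSq j f) {K : Over S} [IsReduced K.left]
    (ξ ξ' : (yon S).obj K ⟶ V) (h : ξ ≫ f = ξ' ≫ f)
    (hout : Set.range (Points.map (ξ ≫ f)) ⊆ (Set.range (Points.map j))ᶜ) : ξ = ξ' := by
  obtain ⟨-, -, Tc, Pc, i, p₁, p₂, hi, sqc, hp₁⟩ := hsq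
  haveI := hp₁
  obtain ⟨g, hg⟩ := (factors_iff_of_isReducedSp i hi.1 (isReducedSp_yon_of_isReduced K)
    (ξ ≫ f)).2 (by rw [hi.2.1]; exact hout)
  have e : sqc.lift g ξ hg = sqc.lift g ξ' (hg.trans h) := by
    rw [← cancel_mono p₁, sqc.lift_fst, sqc.lift_fst]
  rw [← sqc.lift_snd g ξ hg, e, sqc.lift_snd]

end


section Glue

variable {U V W : Sp S} {j : U ⟶ W} {f : V ⟶ W}

/-- The two maps of an elementary distinguished square are jointly epimorphic. -/
theorem jointlyEpi (hV : IsAlgSpace V) (hsq : IsElemDistSq j f) :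
    JointlyEpi (pairFam U V) (pairMap j f) := by
  obtain ⟨V₀, φ, hφe, hφs⟩ := hV.atlas
  have h1 : RepWith @Etale (φ ≫ f) := hsq.2.1 φ hφe
  have h0 : JointlyEpi (pairFam U ((yon S).obj V₀)) (pairMap j (φ ≫ f)) := by
    refine jointlyEpi_of_repWith_etale _ _ ?_ ?_
    · rintro (_ | _)
      · exact repWith_mono isOpenImmersion_le_etale hsq.1
      · exact h1
    · intro w
      rcases points_cover hsq w with hw | ⟨v, rfl⟩
      · exact ⟨.inl PUnit.unit, hw⟩
      · obtain ⟨v₀, rfl⟩ := isSurjectiveMor_of_repWith_surjective φ hφs v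
        exact ⟨.inr PUnit.unit, v₀, Points.map_comp _ _ _⟩
  intro T x
  refine (J S).superset_covering ?_ (h0 T x)
  rintro T' k ⟨i, y, hy⟩
  rcases i with _ | _
  · exact ⟨.inl PUnit.unit, y, hy⟩
  · refine ⟨.inr PUnit.unit, y ≫ φ, ?_⟩
    change (y ≫ φ) ≫ f = _
    rw [Category.assoc]
    exact hy

/-- A point of a scheme lifts to the pullback along a representable map if its image does. -/
theorem exists_preimage_of_mem_range {P : MorphismProperty Scheme.{u}} {F G : Sp S} {g : F ⟶ G}
    (hg : RepWith P g) {T : Over S} (x : (yon S).obj T ⟶ G) (t : T.left)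
    (h : Points.ofPt x t ∈ Set.range (Points.map g)) : ∃ t' : (hg.rep.pullback x).left,
      (hg.rep.snd x).left t' = t := by
  obtain ⟨z, hz⟩ := h
  have sq := hg.rep.isPullback x
  obtain ⟨q, -, hq⟩ := exists_point_of_isPullback sq z (Points.ofScheme T t)
    (by rw [hz, Points.ofPt_eq_map_ofScheme])
  obtain ⟨a, rfl⟩ := (Points.schemeEquiv (hg.rep.pullback x)).surjective q
  refine ⟨a, ?_⟩
  apply (Points.schemeEquiv T).injective
  change Points.ofScheme T _ = Points.ofScheme T t
  rw [← hq, ← ofPt_yon_map, Points.ofPt_eq_map_ofScheme]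
  rfl

/-- The key compatibility on `V ×_W V`. -/
theorem comp_eq_of_comp_eq (hV : IsAlgSpace V) (hW : IsAlgSpace W) (hsq : IsElemDistSq j f)
    {P : Sp S} {p : P ⟶ U} {q : P ⟶ V} (hP : IsPullback p q j f) {Z : Sp S} (a : U ⟶ Z)
    (b : V ⟶ Z) (hab : p ≫ a = q ≫ b) {T : Over S} (y y' : (yon S).obj T ⟶ V)
    (h : y ≫ f = y' ≫ f) : y ≫ b = y' ≫ b := by
  have hΔ : RepWith @IsOpenImmersion (pullback.diagonal f) :=
    repWith_isOpenImmersion_diagonal_of_locP_unramified hV hW f
      (locP_mono etale_le_lft_unramified (locP_etale_of_isEtaleMor hW f hsq.2.1))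
  have hq : RepWith @IsOpenImmersion q := (RepWith @IsOpenImmersion).of_isPullback hP hsq.1
  set yy' : (yon S).obj T ⟶ pullback f f := pullback.lift y y' h with hyy'
  have sq₁ := hΔ.rep.isPullback yy'
  have sq₂ := hq.rep.isPullback y
  -- the cover
  have hcov : ∀ t : T.left, (∃ t₁, (hΔ.rep.snd yy').left t₁ = t) ∨
      (∃ t₂, (hq.rep.snd y).left t₂ = t) := by
    intro t
    by_cases ht : Points.ofPt y t ∈ Set.range (Points.map q)
    · exact Or.inr (exists_preimage_of_mem_range hq y t ht)
    · left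
      apply exists_preimage_of_mem_range hΔ yy' t
      let K : Over S := Over.mk (T.left.fromSpecResidueField t ≫ T.hom)
      let ιt : K ⟶ T := Over.homMk (T.left.fromSpecResidueField t) rfl
      haveI : IsReduced K.left := by
        change IsReduced (Spec (T.left.residueField t)); infer_instance
      have hξ : (yon S).map ιt ≫ y = (yon S).map ιt ≫ y' := by
        refine eq_of_comp_eq_of_not_mem hsq _ _ (by rw [Category.assoc, Category.assoc, h]) ?_
        rintro _ ⟨π, rfl⟩ ⟨u, hu⟩
        obtain ⟨s, rfl⟩ := (Points.schemeEquiv K).surjective π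
        change Points.map j u = Points.map _ (Points.ofScheme K s) at hu
        rw [← Points.ofPt_eq_map_ofScheme, Category.assoc, ofPt_comp_yon_map] at hu
        have hs : ιt.left s = t := Scheme.fromSpecResidueField_apply _ _
        rw [hs, ← Points.map_ofPt] at hu
        obtain ⟨π', -, hπ'⟩ := exists_point_of_isPullback hP u (Points.ofPt y t) hu
        exact ht ⟨π', hπ'⟩
      rw [ofPt_eq_ofField]
      have e : (yon S).map ιt ≫ yy' = ((yon S).map ιt ≫ y) ≫ pullback.diagonal f := by
        apply pullback.hom_ext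
        · rw [Category.assoc, hyy', pullback.lift_fst, Category.assoc, pullback.diagonal_fst,
            Category.comp_id]
        · rw [Category.assoc, hyy', pullback.lift_snd, Category.assoc, pullback.diagonal_snd,
            Category.comp_id, hξ]
      have h3 := map_ofField (pullback.diagonal f) (K := T.left.residueField t)
        (str := T.left.fromSpecResidueField t ≫ T.hom) ((yon S).map ιt ≫ y)
      exact ⟨_, h3.trans (congrArg ofField e.symm)⟩
  -- the covering sieve
  let Vs : PUnit.{1} ⊕ PUnit.{1} → Over S := Sum.elim (fun _ => hΔ.rep.pullback yy')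
    (fun _ => hq.rep.pullback y)
  let gs : ∀ i, Vs i ⟶ T := fun i => match i with
    | .inl _ => hΔ.rep.snd yy'
    | .inr _ => hq.rep.snd y
  have hι₁ : IsOpenImmersion (hΔ.rep.snd yy').left := hΔ.property_snd yy'
  have hι₂ : IsOpenImmersion (hq.rep.snd y).left := hq.property_snd y
  have hcovJ : Sieve.ofArrows Vs gs ∈ (J S) T := by
    refine ofArrows_mem_J _ _ ?_ ?_ ?_
    · rintro (_ | _)
      · change Flat (hΔ.rep.snd yy').left; infer_instance
      · change Flat (hq.rep.snd y).left; infer_instance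
    · rintro (_ | _)
      · change LocallyOfFinitePresentation (hΔ.rep.snd yy').left; infer_instance
      · change LocallyOfFinitePresentation (hq.rep.snd y).left; infer_instance
    · intro t
      rcases hcov t with ⟨t₁, h₁⟩ | ⟨t₂, h₂⟩
      · exact ⟨.inl PUnit.unit, t₁, h₁⟩
      · exact ⟨.inr PUnit.unit, t₂, h₂⟩
  apply yon_hom_ext_of_cover _ _ _ hcovJ
  rintro T' k ⟨T'', k', _, ⟨i⟩, rfl⟩
  rw [Functor.map_comp, Category.assoc, Category.assoc]
  congr 1
  rcases i with _ | _
  · -- on the diagonal part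
    change (yon S).map (hΔ.rep.snd yy') ≫ y ≫ b = (yon S).map (hΔ.rep.snd yy') ≫ y' ≫ b
    have e1 : (yon S).map (hΔ.rep.snd yy') ≫ y = hΔ.rep.fst yy' := by
      have := congrArg (fun m => m ≫ pullback.fst f f) sq₁.w
      simp only [Category.assoc, pullback.diagonal_fst, Category.comp_id] at this
      rw [hyy', pullback.lift_fst] at this
      exact this.symm
    have e2 : (yon S).map (hΔ.rep.snd yy') ≫ y' = hΔ.rep.fst yy' := by
      have := congrArg (fun m => m ≫ pullback.snd f f) sq₁.w
      simp only [Category.assoc, pullback.diagonal_snd, Category.comp_id] at this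
      rw [hyy', pullback.lift_snd] at this
      exact this.symm
    rw [← Category.assoc, e1, ← Category.assoc, e2]
  · change (yon S).map (hq.rep.snd y) ≫ y ≫ b = (yon S).map (hq.rep.snd y) ≫ y' ≫ b
    have e1 : (yon S).map (hq.rep.snd y) ≫ y = hq.rep.fst y ≫ q := sq₂.w.symm
    have hw : (hq.rep.fst y ≫ p) ≫ j = ((yon S).map (hq.rep.snd y) ≫ y') ≫ f := by
      rw [Category.assoc, hP.w, ← Category.assoc, ← e1, Category.assoc, Category.assoc, h]
    have l1 := hP.lift_fst _ _ hw
    have l2 := hP.lift_snd _ _ hw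
    rw [← Category.assoc, e1, Category.assoc, ← hab, ← Category.assoc, ← l1, Category.assoc, hab,
      ← Category.assoc, l2, Category.assoc]

/-- **Gluing morphisms over an elementary distinguished square.** -/
theorem exists_desc (hV : IsAlgSpace V) (hW : IsAlgSpace W) (hsq : IsElemDistSq j f)
    {P : Sp S} {p : P ⟶ U} {q : P ⟶ V} (hP : IsPullback p q j f) {Z : Sp S} (a : U ⟶ Z)
    (b : V ⟶ Z) (hab : p ≫ a = q ≫ b) : ∃ d : W ⟶ Z, j ≫ d = a ∧ f ≫ d = b := by
  haveI : Mono j := mono_of_repWith isOpenImmersion_le_mono j hsq.1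
  let l : ∀ i, pairFam U V i ⟶ Z := fun i => match i with
    | .inl _ => a
    | .inr _ => b
  have mixed : ∀ (T : Over S) (y : (yon S).obj T ⟶ U) (y' : (yon S).obj T ⟶ V),
      y ≫ j = y' ≫ f → y ≫ a = y' ≫ b := by
    intro T y y' hw
    rw [← hP.lift_fst _ _ hw, Category.assoc, hab, ← Category.assoc, hP.lift_snd]
  obtain ⟨d, hd⟩ := (jointlyEpi hV hsq).exists_desc l (by
    rintro T (_ | _) (_ | _) y y' hyy'
    · have : y = y' := (cancel_mono j).1 hyy'
      subst this; rfl
    · exact mixed T y y' hyy'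
    · exact (mixed T y' y hyy'.symm).symm
    · exact comp_eq_of_comp_eq hV hW hsq hP a b hab y y' hyy')
  exact ⟨d, hd (.inl PUnit.unit), hd (.inr PUnit.unit)⟩

theorem hom_ext (hV : IsAlgSpace V) (hsq : IsElemDistSq j f) {Z : Sp S} {d d' : W ⟶ Z}
    (h1 : j ≫ d = j ≫ d') (h2 : f ≫ d = f ≫ d') : d = d' :=
  pair_hom_ext (jointlyEpi hV hsq) h1 h2

end Glue

end Groth.Agent.Helper15.ElemSq
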