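import Mathlib
import Groth.Agent.Lib.Helper15.ElemSq1
import Groth.Agent.Lib.Helper15.ZmtSp1
import Groth.Agent.Lib.Helper15.AlgSpDiagMor
import Groth.Agent.Lib.Helper15.AlgSpPoints

/-!
# Elementary distinguished squares, II: separatedness
-/

set_option autoImplicit false
universe u w
open CategoryTheory CategoryTheory.Limits AlgebraicGeometry MorphismProperty Opposite
open AlgSp

namespace Groth.Agent.Helper15.ElemSq

open Groth.Agent.Helper15.Norm Groth.Agent.Helper15

section Cat

variable {C : Type*} [Category C] [HasPullbacks C]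

/-- A section of `π` is a base change of the diagonal of `π`. -/
theorem isPullback_section {Z B : C} (π : Z ⟶ B) (s : B ⟶ Z) (hs : s ≫ π = 𝟙 B)
    (ℓ : Z ⟶ pullback π π) (hℓ1 : ℓ ≫ pullback.fst π π = 𝟙 Z)
    (hℓ2 : ℓ ≫ pullback.snd π π = π ≫ s) :
    IsPullback s s (pullback.diagonal π) ℓ := by
  have hw : s ≫ pullback.diagonal π = s ≫ ℓ := by
    apply pullback.hom_ext
    · rw [Category.assoc, Category.assoc, pullback.diagonal_fst, hℓ1]
    · rw [Category.assoc, Category.assoc, pullback.diagonal_snd, hℓ2, ← Category.assoc, hs,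
        Category.id_comp, Category.comp_id]
  have key : ∀ c : PullbackCone (pullback.diagonal π) ℓ, c.fst = c.snd ∧
      c.fst = (c.fst ≫ π) ≫ s := by
    intro c
    have h1 := c.condition =≫ pullback.fst π π
    have h2 := c.condition =≫ pullback.snd π π
    simp only [Category.assoc, pullback.diagonal_fst, pullback.diagonal_snd, hℓ1, hℓ2,
      Category.comp_id] at h1 h2
    refine ⟨h1, ?_⟩
    calc c.fst = c.snd ≫ π ≫ s := h2
      _ = c.fst ≫ π ≫ s := by rw [← h1]
      _ = (c.fst ≫ π) ≫ s := (Category.assoc _ _ _).symm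
  refine IsPullback.of_isLimit' ⟨hw⟩ (PullbackCone.IsLimit.mk _ (fun c => c.fst ≫ π) ?_ ?_ ?_)
  · intro c
    exact (key c).2.symm
  · intro c
    rw [← (key c).1]
    exact (key c).2.symm
  · intro c m hm1 _
    have : m = (m ≫ s) ≫ π := by rw [Category.assoc, hs, Category.comp_id]
    rw [this, hm1]

end Cat


variable {S : Scheme.{u}}

/-- A section of a separated morphism is a closed immersion. -/
theorem repWith_isClosedImmersion_of_section {Z B : Sp S} (π : Z ⟶ B) (s : B ⟶ Z)
    (hs : s ≫ π = 𝟙 B) (hπ : IsSeparatedMor π) : RepWith @IsClosedImmersion s :=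
  (RepWith @IsClosedImmersion).of_isPullback
    (isPullback_section π s hs
      (pullback.lift (𝟙 Z) (π ≫ s) (by rw [Category.id_comp, Category.assoc, hs,
        Category.comp_id])) (pullback.lift_fst _ _ _) (pullback.lift_snd _ _ _)) hπ

theorem isClosedImmersion_le_isPreimmersion :
    (@IsClosedImmersion : MorphismProperty Scheme.{u}) ≤ @IsPreimmersion :=
  fun _ _ f hf => by haveI : IsClosedImmersion f := hf; infer_instance

theorem isOpenImmersion_le_isPreimmersion :
    (@IsOpenImmersion : MorphismProperty Scheme.{u}) ≤ @IsPreimmersion :=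
  fun _ _ f hf => by haveI : IsOpenImmersion f := hf; infer_instance

/-- A representable preimmersion with closed image is a closed immersion. -/
theorem repWith_isClosedImmersion_of_isPreimmersion {F G : Sp S} (f : F ⟶ G)
    (hf : RepWith @IsPreimmersion f) (hcl : IsClosed (Set.range (Points.map f))) :
    RepWith @IsClosedImmersion f := by
  refine ⟨hf.rep, fun T V g fst snd sq => ?_⟩
  haveI : IsPreimmersion snd.left := hf.property g fst snd sq
  change IsClosedImmersion snd.left
  refine IsClosedImmersion.of_isPreimmersion _ ?_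
  have hr : Set.range snd.left = Points.ofPt g ⁻¹' Set.range (Points.map f) := by
    ext t
    constructor
    · rintro ⟨v, rfl⟩
      refine ⟨Points.ofPt fst v, ?_⟩
      rw [Points.map_ofPt, sq.w, ofPt_comp_yon_map]
    · rintro ⟨x, hx⟩
      obtain ⟨q, -, hq2⟩ := exists_point_of_isPullback sq x (Points.ofScheme T t) (by
        rw [hx, ← Points.ofPt_eq_map_ofScheme])
      obtain ⟨v, rfl⟩ := (Points.schemeEquiv V).surjective q
      change Points.map _ (Points.ofScheme V v) = _ at hq2
      rw [← Points.ofPt_eq_map_ofScheme, ofPt_yon_map] at hq2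
      exact ⟨v, (Points.schemeEquiv T).injective hq2⟩
  rw [hr]
  exact hcl.preimage (Points.continuous_ofPt g)

/-- An isomorphism of sheaves is a closed map on points. -/
theorem isClosedMap_points_map_of_iso {F G : Sp S} (e : F ≅ G) :
    IsClosedMap (Points.map e.hom) := by
  let h : Points F ≃ₜ Points G :=
    { toFun := Points.map e.hom
      invFun := Points.map e.inv
      left_inv := fun x => by rw [← Points.map_comp, e.hom_inv_id, Points.map_id]
      right_inv := fun x => by rw [← Points.map_comp, e.inv_hom_id, Points.map_id]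
      continuous_toFun := Points.continuous_map _
      continuous_invFun := Points.continuous_map _ }
  exact h.isClosedMap

/-- **The graph argument**: for an open immersion `j : U ⟶ X` with `U` separated over `Y`, the
map `U ×_X V ⟶ U ×_Y V` is a closed immersion as soon as its image is closed. -/
theorem repWith_isClosedImmersion_mapDesc {U V X Y : Sp S} (j : U ⟶ X) (f : V ⟶ X) (g : X ⟶ Y)
    (hj : RepWith @IsOpenImmersion j) (hU : IsSeparatedMor (j ≫ g))
    (hcl : IsClosed (Set.range (Points.map (pullback.mapDesc j f g)))) :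
    RepWith @IsClosedImmersion (pullback.mapDesc j f g) := by
  set c' := pullback.mapDesc j f g with hc'
  let o := pullback.snd j f
  let b := pullback.snd (j ≫ g) (f ≫ g)
  have ho : RepWith @IsOpenImmersion o :=
    (RepWith @IsOpenImmersion).of_isPullback (IsPullback.of_hasPullback j f) hj
  have hb : IsSeparatedMor b :=
    Zmt.isSeparatedMor_of_isPullback (IsPullback.of_hasPullback (j ≫ g) (f ≫ g)) hU
  have sq₁ : IsPullback (pullback.fst b o) (pullback.snd b o) b o := IsPullback.of_hasPullback _ _
  have hπ₁ : RepWith @IsOpenImmersion (pullback.fst b o) :=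
    (RepWith @IsOpenImmersion).of_isPullback sq₁.flip ho
  have hπ₂ : IsSeparatedMor (pullback.snd b o) := Zmt.isSeparatedMor_of_isPullback sq₁ hb
  have hcb : c' ≫ b = 𝟙 _ ≫ o := by
    rw [Category.id_comp]
    exact (pullback.lift_snd _ _ _).trans (Category.comp_id _)
  let s := pullback.lift c' (𝟙 _) hcb
  have hs : s ≫ pullback.snd b o = 𝟙 _ := pullback.lift_snd _ _ _
  have hs1 : s ≫ pullback.fst b o = c' := pullback.lift_fst _ _ _
  have hscl : RepWith @IsClosedImmersion s :=
    repWith_isClosedImmersion_of_section (pullback.snd b o) s hs hπ₂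
  have hpre : RepWith @IsPreimmersion (s ≫ pullback.fst b o) :=
    (RepWith @IsPreimmersion).comp_mem _ _ (repWith_mono isClosedImmersion_le_isPreimmersion hscl)
      (repWith_mono isOpenImmersion_le_isPreimmersion hπ₁)
  rw [hs1] at hpre
  exact repWith_isClosedImmersion_of_isPreimmersion c' hpre hcl

/-- Swapping the factors. -/
theorem mapDesc_symm {U V X Y : Sp S} (j : U ⟶ X) (f : V ⟶ X) (g : X ⟶ Y) :
    pullback.mapDesc f j g = (pullbackSymmetry f j).hom ≫ pullback.mapDesc j f g ≫
      (pullbackSymmetry (f ≫ g) (j ≫ g)).inv := by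
  have h1 : pullback.mapDesc f j g ≫ pullback.fst (f ≫ g) (j ≫ g) = pullback.fst f j :=
    (pullback.lift_fst _ _ _).trans (Category.comp_id _)
  have h2 : pullback.mapDesc f j g ≫ pullback.snd (f ≫ g) (j ≫ g) = pullback.snd f j :=
    (pullback.lift_snd _ _ _).trans (Category.comp_id _)
  have h3 : pullback.mapDesc j f g ≫ pullback.fst (j ≫ g) (f ≫ g) = pullback.fst j f :=
    (pullback.lift_fst _ _ _).trans (Category.comp_id _)
  have h4 : pullback.mapDesc j f g ≫ pullback.snd (j ≫ g) (f ≫ g) = pullback.snd j f :=
    (pullback.lift_snd _ _ _).trans (Category.comp_id _)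
  apply pullback.hom_ext
  · rw [h1, Category.assoc, Category.assoc, pullbackSymmetry_inv_comp_fst, h4,
      pullbackSymmetry_hom_comp_snd]
  · rw [h2, Category.assoc, Category.assoc, pullbackSymmetry_inv_comp_snd, h3,
      pullbackSymmetry_hom_comp_fst]


/-- The four products of the members of an elementary distinguished square cover `X ×_Y X`. -/
theorem jointlyEpi_prod {U V X Y : Sp S} (hV : IsAlgSpace V) (g : X ⟶ Y) (j : U ⟶ X)
    (f : V ⟶ X) (hsq : IsElemDistSq j f) :
    JointlyEpi
      (fun i : (PUnit.{u + 1} ⊕ PUnit.{u + 1}) × (PUnit.{u + 1} ⊕ PUnit.{u + 1}) =>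
        pullback (pairMap j f i.1 ≫ g) (pairMap j f i.2 ≫ g))
      (fun i => pullback.map (pairMap j f i.1 ≫ g) (pairMap j f i.2 ≫ g) g g (pairMap j f i.1)
        (pairMap j f i.2) (𝟙 _) (Category.comp_id _) (Category.comp_id _)) := by
  have hje := jointlyEpi hV hsq
  intro T x
  refine (J S).superset_covering ?_
    ((J S).intersection_covering (hje T (x ≫ pullback.fst g g)) (hje T (x ≫ pullback.snd g g)))
  rintro T' k ⟨⟨i₁, y₁, hy₁⟩, ⟨i₂, y₂, hy₂⟩⟩
  have hcond : y₁ ≫ pairMap j f i₁ ≫ g = y₂ ≫ pairMap j f i₂ ≫ g := by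
    rw [← Category.assoc, hy₁, ← Category.assoc y₂, hy₂, Category.assoc, Category.assoc,
      Category.assoc, Category.assoc, pullback.condition]
  refine ⟨(i₁, i₂), pullback.lift y₁ y₂ hcond, ?_⟩
  apply pullback.hom_ext
  · have h1 := pullback.lift_fst y₁ y₂ hcond
    have h2 : pullback.map (pairMap j f i₁ ≫ g) (pairMap j f i₂ ≫ g) g g (pairMap j f i₁)
        (pairMap j f i₂) (𝟙 _) (Category.comp_id _) (Category.comp_id _) ≫ pullback.fst g g =
        pullback.fst _ _ ≫ pairMap j f i₁ := pullback.lift_fst _ _ _
    rw [Category.assoc, h2, ← Category.assoc, h1, hy₁, Category.assoc]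
  · have h1 := pullback.lift_snd y₁ y₂ hcond
    have h2 : pullback.map (pairMap j f i₁ ≫ g) (pairMap j f i₂ ≫ g) g g (pairMap j f i₁)
        (pairMap j f i₂) (𝟙 _) (Category.comp_id _) (Category.comp_id _) ≫ pullback.snd g g =
        pullback.snd _ _ ≫ pairMap j f i₂ := pullback.lift_snd _ _ _
    rw [Category.assoc, h2, ← Category.assoc, h1, hy₂, Category.assoc]

/-- **Separatedness from an elementary distinguished square.** -/
theorem isSeparatedMor_of_isElemDistSq {U V X Y : Sp S} (hX : IsAlgSpace X) (hV : IsAlgSpace V)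
    (g : X ⟶ Y) (j : U ⟶ X) (f : V ⟶ X) (hsq : IsElemDistSq j f)
    (hU : IsSeparatedMor (j ≫ g))
    (hc : IsClosed (Set.range (Points.map (pullback.mapDesc j f g))))
    (hd : RepWith @IsClosedImmersion (pullback.mapDesc f f g)) : IsSeparatedMor g := by
  haveI : Mono j := mono_of_repWith isOpenImmersion_le_mono j hsq.1
  have hjf := repWith_isClosedImmersion_mapDesc j f g hsq.1 hU hc
  refine repWith_of_jointlyEpi_base (pullback.diagonal g) (diagonal_properties hX g).1 _
    (jointlyEpi_prod hV g j f hsq) (fun i => pullback.fst _ _ ≫ pairMap j f i.1)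
    (fun i => pullback.mapDesc (pairMap j f i.1) (pairMap j f i.2) g)
    (fun i => pullback_map_diagonal_isPullback (pairMap j f i.1) (pairMap j f i.2) g)
    @IsClosedImmersion ?_
  rintro ⟨_ | _, _ | _⟩
  · -- `U ×_Y U`
    change RepWith @IsClosedImmersion (pullback.mapDesc j j g)
    have h : pullback.diagonal j ≫ pullback.mapDesc j j g = pullback.diagonal (j ≫ g) := by
      have h1 : pullback.mapDesc j j g ≫ pullback.fst (j ≫ g) (j ≫ g) = pullback.fst j j :=
        (pullback.lift_fst _ _ _).trans (Category.comp_id _)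
      have h2 : pullback.mapDesc j j g ≫ pullback.snd (j ≫ g) (j ≫ g) = pullback.snd j j :=
        (pullback.lift_snd _ _ _).trans (Category.comp_id _)
      apply pullback.hom_ext
      · rw [Category.assoc, h1, pullback.diagonal_fst, pullback.diagonal_fst]
      · rw [Category.assoc, h2, pullback.diagonal_snd, pullback.diagonal_snd]
    have hU' : RepWith @IsClosedImmersion (pullback.diagonal j ≫ pullback.mapDesc j j g) := by
      rw [h]; exact hU
    exact ((RepWith @IsClosedImmersion).cancel_left_of_respectsIso _ _).1 hU'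
  · exact hjf
  · change RepWith @IsClosedImmersion (pullback.mapDesc f j g)
    rw [mapDesc_symm]
    exact ((RepWith @IsClosedImmersion).cancel_left_of_respectsIso _ _).2
      (((RepWith @IsClosedImmersion).cancel_right_of_respectsIso _ _).2 hjf)
  · exact hd

end Groth.Agent.Helper15.ElemSq
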