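import Groth.Agent.Lib.Helper15.QuotShBridge

set_option autoImplicit false
universe u
open CategoryTheory CategoryTheory.Limits AlgebraicGeometry Opposite
open AlgSp

namespace Groth.Agent.Helper15
variable {S : Scheme.{u}}

section
variable {R U R' U' : Over S} {s t : R ⟶ U} {g : U' ⟶ U} {s' t' : R' ⟶ U'} {r : R' ⟶ R}

theorem restrict_w_t (hsq : IsPullback (prod.lift t' s') r (prod.map g g) (prod.lift t s)) :
    t' ≫ g = r ≫ t := by
  have := congrArg (· ≫ prod.fst) hsq.w
  simpa only [Category.assoc, prod.map_fst, prod.lift_fst, prod.lift_fst_assoc] using this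

theorem restrict_w_s (hsq : IsPullback (prod.lift t' s') r (prod.map g g) (prod.lift t s)) :
    s' ≫ g = r ≫ s := by
  have := congrArg (· ≫ prod.snd) hsq.w
  simpa only [Category.assoc, prod.map_snd, prod.lift_snd, prod.lift_snd_assoc] using this

theorem restrict_hom_ext (hsq : IsPullback (prod.lift t' s') r (prod.map g g) (prod.lift t s))
    {T : Over S} (x y : T ⟶ R') (h1 : x ≫ t' = y ≫ t') (h2 : x ≫ s' = y ≫ s')
    (h3 : x ≫ r = y ≫ r) : x = y := by
  apply hsq.hom_ext
  · apply Limits.prod.hom_ext
    · simpa only [Category.assoc, prod.lift_fst] using h1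
    · simpa only [Category.assoc, prod.lift_snd] using h2
  · exact h3

theorem restrict_exists_lift (hsq : IsPullback (prod.lift t' s') r (prod.map g g) (prod.lift t s))
    {T : Over S} (a b : T ⟶ U') (ρ : T ⟶ R) (h1 : ρ ≫ t = a ≫ g) (h2 : ρ ≫ s = b ≫ g) :
    ∃ x : T ⟶ R', x ≫ t' = a ∧ x ≫ s' = b ∧ x ≫ r = ρ := by
  have hw : prod.lift a b ≫ prod.map g g = ρ ≫ prod.lift t s := by
    apply Limits.prod.hom_ext
    · simp only [Category.assoc, prod.map_fst, prod.lift_fst, prod.lift_fst_assoc, h1]
    · simp only [Category.assoc, prod.map_snd, prod.lift_snd, prod.lift_snd_assoc, h2]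
  refine ⟨hsq.lift _ _ hw, ?_, ?_, hsq.lift_snd _ _ hw⟩
  · have := congrArg (· ≫ prod.fst) (hsq.lift_fst _ _ hw)
    simpa only [Category.assoc, prod.lift_fst] using this
  · have := congrArg (· ≫ prod.snd) (hsq.lift_fst _ _ hw)
    simpa only [Category.assoc, prod.lift_snd] using this

theorem isEqvRel_restrict (hsq : IsPullback (prod.lift t' s') r (prod.map g g) (prod.lift t s))
    (h : IsEqvRel s t) : IsEqvRel s' t' := by
  have key : ∀ (T : Over S) (a b : T ⟶ U'),
      (∃ x : T ⟶ R', x ≫ t' = a ∧ x ≫ s' = b) ↔ (∃ ρ : T ⟶ R, ρ ≫ t = a ≫ g ∧ ρ ≫ s = b ≫ g) := by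
    intro T a b
    constructor
    · rintro ⟨x, rfl, rfl⟩
      exact ⟨x ≫ r, by rw [Category.assoc, Category.assoc, restrict_w_t hsq],
        by rw [Category.assoc, Category.assoc, restrict_w_s hsq]⟩
    · rintro ⟨ρ, h1, h2⟩
      obtain ⟨x, hx1, hx2, -⟩ := restrict_exists_lift hsq a b ρ h1 h2
      exact ⟨x, hx1, hx2⟩
  refine ⟨fun T x y h1 h2 => ?_, fun T => ?_⟩
  · apply restrict_hom_ext hsq x y h1 h2
    apply h.injective
    · rw [Category.assoc, Category.assoc, ← restrict_w_t hsq, ← Category.assoc, ← Category.assoc, h1]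
    · rw [Category.assoc, Category.assoc, ← restrict_w_s hsq, ← Category.assoc, ← Category.assoc, h2]
  · have hE := h.equivalence T
    refine ⟨fun a => (key T a a).2 (hE.refl _), fun {a b} hab => (key T b a).2 (hE.symm ((key T a b).1 hab)),
      fun {a b c} hab hbc => (key T a c).2 (hE.trans ((key T a b).1 hab) ((key T b c).1 hbc))⟩

/-- `s'` is a composite of base changes of `g` and `s`. -/
theorem restrict_s_prop (P : MorphismProperty Scheme.{u}) [P.IsStableUnderBaseChange]
    [P.IsStableUnderComposition]
    (hsq : IsPullback (prod.lift t' s') r (prod.map g g) (prod.lift t s))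
    (hs : P s.left) (hg : P g.left) : P s'.left := by
  -- P1 = R ×_{s,U,g} U'
  let a : R' ⟶ pullback s g := pullback.lift r s' (restrict_w_s hsq).symm
  have ha : IsPullback t' a g (pullback.fst s g ≫ t) := by
    refine ⟨⟨by rw [← Category.assoc, pullback.lift_fst, restrict_w_t hsq]⟩, ⟨PullbackCone.IsLimit.mk _
      (fun c => (restrict_exists_lift hsq c.fst (c.snd ≫ pullback.snd s g) (c.snd ≫ pullback.fst s g)
        (by rw [Category.assoc, c.condition]) (by rw [Category.assoc, Category.assoc, pullback.condition])).choose)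
      (fun c => (restrict_exists_lift hsq c.fst (c.snd ≫ pullback.snd s g) (c.snd ≫ pullback.fst s g)
        (by rw [Category.assoc, c.condition]) (by rw [Category.assoc, Category.assoc, pullback.condition])).choose_spec.1)
      (fun c => ?_) (fun c m h1 h2 => ?_)⟩⟩
    · obtain ⟨e1, e2, e3⟩ := (restrict_exists_lift hsq c.fst (c.snd ≫ pullback.snd s g) (c.snd ≫ pullback.fst s g)
        (by rw [Category.assoc, c.condition]) (by rw [Category.assoc, Category.assoc, pullback.condition])).choose_spec
      apply pullback.hom_ext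
      · rw [Category.assoc, pullback.lift_fst, e3]
      · rw [Category.assoc, pullback.lift_snd, e2]
    · obtain ⟨e1, e2, e3⟩ := (restrict_exists_lift hsq c.fst (c.snd ≫ pullback.snd s g) (c.snd ≫ pullback.fst s g)
        (by rw [Category.assoc, c.condition]) (by rw [Category.assoc, Category.assoc, pullback.condition])).choose_spec
      apply restrict_hom_ext hsq
      · rw [h1, e1]
      · rw [e2, ← h2, Category.assoc, pullback.lift_snd]
      · rw [e3, ← h2, Category.assoc, pullback.lift_fst]
  have e : s' = a ≫ pullback.snd s g := (pullback.lift_snd _ _ _).symm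
  rw [e, Over.comp_left]
  apply P.comp_mem
  · have := (ha.map (Over.forget S))
    exact P.of_isPullback this hg
  · have := ((IsPullback.of_hasPullback s g).map (Over.forget S))
    exact P.of_isPullback this hs

/-- `t'` is a composite of base changes of `g` and `t`. -/
theorem restrict_t_prop (P : MorphismProperty Scheme.{u}) [P.IsStableUnderBaseChange]
    [P.IsStableUnderComposition]
    (hsq : IsPullback (prod.lift t' s') r (prod.map g g) (prod.lift t s))
    (ht : P t.left) (hg : P g.left) : P t'.left := by
  let a : R' ⟶ pullback t g := pullback.lift r t' (restrict_w_t hsq).symm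
  have ha : IsPullback s' a g (pullback.fst t g ≫ s) := by
    refine ⟨⟨by rw [← Category.assoc, pullback.lift_fst, restrict_w_s hsq]⟩, ⟨PullbackCone.IsLimit.mk _
      (fun c => (restrict_exists_lift hsq (c.snd ≫ pullback.snd t g) c.fst (c.snd ≫ pullback.fst t g)
        (by rw [Category.assoc, Category.assoc, pullback.condition]) (by rw [Category.assoc, c.condition])).choose)
      (fun c => (restrict_exists_lift hsq (c.snd ≫ pullback.snd t g) c.fst (c.snd ≫ pullback.fst t g)
        (by rw [Category.assoc, Category.assoc, pullback.condition]) (by rw [Category.assoc, c.condition])).choose_spec.2.1)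
      (fun c => ?_) (fun c m h1 h2 => ?_)⟩⟩
    · obtain ⟨e1, e2, e3⟩ := (restrict_exists_lift hsq (c.snd ≫ pullback.snd t g) c.fst (c.snd ≫ pullback.fst t g)
        (by rw [Category.assoc, Category.assoc, pullback.condition]) (by rw [Category.assoc, c.condition])).choose_spec
      apply pullback.hom_ext
      · rw [Category.assoc, pullback.lift_fst, e3]
      · rw [Category.assoc, pullback.lift_snd, e1]
    · obtain ⟨e1, e2, e3⟩ := (restrict_exists_lift hsq (c.snd ≫ pullback.snd t g) c.fst (c.snd ≫ pullback.fst t g)
        (by rw [Category.assoc, Category.assoc, pullback.condition]) (by rw [Category.assoc, c.condition])).choose_spec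
      apply restrict_hom_ext hsq
      · rw [e1, ← h2, Category.assoc, pullback.lift_snd]
      · rw [h1, e2]
      · rw [e3, ← h2, Category.assoc, pullback.lift_fst]
  have e : t' = a ≫ pullback.snd t g := (pullback.lift_snd _ _ _).symm
  rw [e, Over.comp_left]
  apply P.comp_mem
  · have := (ha.map (Over.forget S))
    exact P.of_isPullback this hg
  · have := ((IsPullback.of_hasPullback t g).map (Over.forget S))
    exact P.of_isPullback this ht

theorem isEtaleEqvRel_restrict (hsq : IsPullback (prod.lift t' s') r (prod.map g g) (prod.lift t s))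
    (h : IsEtaleEqvRel s t) [Etale g.left] : IsEtaleEqvRel s' t' :=
  { toIsEqvRel := isEqvRel_restrict hsq h.toIsEqvRel
    etale_left := restrict_s_prop @Etale hsq h.etale_left inferInstance
    etale_right := restrict_t_prop @Etale hsq h.etale_right inferInstance }

end

end Groth.Agent.Helper15
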