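import Mathlib
import Groth.Agent.Lib.Helper15.AlgSpTop
import Groth.Agent.Lib.Helper15.AlgSpQc
import Groth.Agent.Lib.Helper15.ConsTop2

set_option autoImplicit false
set_option linter.unusedSectionVars false
set_option linter.unusedVariables false
set_option linter.style.haveILetI false

universe u

open CategoryTheory CategoryTheory.Limits AlgebraicGeometry MorphismProperty Opposite
open Topology TopologicalSpace Set.Notation
open AlgSp
open Groth.Agent.Helper15

namespace Groth.Agent.Helper15.EtCons

variable {S : Scheme.{u}}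

/-- Etale morphisms are locally quasi-finite. -/
theorem locallyQuasiFinite_of_etale {X Y : Scheme.{u}} (f : X ⟶ Y) [Etale f] :
    LocallyQuasiFinite f := by
  rw [HasRingHomProperty.iff_appLE (P := @LocallyQuasiFinite)]
  intro U V e
  have h := HasRingHomProperty.appLE (P := @Etale) f inferInstance U V e
  algebraize [(f.appLE U V e).hom]
  show Algebra.QuasiFinite _ _
  infer_instance

/-- A morphism from a quasi-compact scheme to a quasi-separated algebraic space pulls
quasi-compact opens back to quasi-compact opens. -/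
theorem isCompact_preimage_ofPt [QuasiSeparatedSpace ↥S] {X : Sp S} (hX : IsAlgSpace X)
    (hXqs : IsQuasiSeparatedSp X) {U : Over S} [CompactSpace U.left]
    (a : (yon S).obj U ⟶ X) (W : Set (Points X)) (hWo : IsOpen W) (hWc : IsCompact W) :
    IsCompact (Points.ofPt a ⁻¹' W) := by
  have hU : IsQuasiCompactSp ((yon S).obj U) :=
    ⟨U, 𝟙 _, repWith_id _ U, repWith_id _ U, inferInstance⟩
  have hqc : IsQuasiCompactMor a := isQuasiCompactMor_of_quasiCompact_of_quasiSeparated a hU hXqs
  have h1 := isCompact_preimage_of_isQuasiCompactMor hX a hqc W hWo hWc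
  have h2 : Points.ofPt a ⁻¹' W = (Points.schemeHomeo U) ⁻¹' (Points.map a ⁻¹' W) := by
    ext u
    simp only [Set.mem_preimage]
    rw [Points.ofPt_eq_map_ofScheme]
    rfl
  rw [h2]
  exact (Points.schemeHomeo U).isCompact_preimage.2 h1

/-- An etale chart from a quasi-compact quasi-separated scheme to a quasi-separated algebraic
space has finite fibres on points. -/
theorem finite_fibre_ofPt_of_etale [QuasiSeparatedSpace ↥S] {X : Sp S}
    (hXqs : IsQuasiSeparatedSp X) {U : Over S} [CompactSpace U.left]
    [QuasiSeparatedSpace U.left] (a : (yon S).obj U ⟶ X) (ha : RepWith @Etale a)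
    (y : Points X) : (Points.ofPt a ⁻¹' {y}).Finite := by
  by_cases hne : (Points.ofPt a ⁻¹' {y}).Nonempty
  swap
  · rw [Set.not_nonempty_iff_eq_empty] at hne
    rw [hne]
    exact Set.finite_empty
  obtain ⟨u₀, hu₀⟩ := hne
  have hu₀' : Points.ofPt a u₀ = y := hu₀
  have sq := ha.rep.isPullback' a
  have hU : IsQuasiCompactSp ((yon S).obj U) :=
    ⟨U, 𝟙 _, repWith_id _ U, repWith_id _ U, inferInstance⟩
  have hV : IsQuasiCompactSp ((yon S).obj (ha.rep.pullback a)) :=
    isQuasiCompactSp_of_isPullback sq hU hU hXqs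
  haveI := compactSpace_points_of_isQuasiCompactSp hV
  haveI : CompactSpace (ha.rep.pullback a).left :=
    (Points.schemeHomeo (ha.rep.pullback a)).symm.compactSpace
  haveI : Etale (ha.rep.snd a).left := ha.property_snd a
  haveI : LocallyQuasiFinite (ha.rep.snd a).left :=
    locallyQuasiFinite_of_etale _
  have hfin := (ha.rep.snd a).left.finite_preimage_singleton u₀
  refine (hfin.image (ha.rep.fst' a).left).subset ?_
  intro u hu
  have hu' : Points.ofPt a u = Points.ofPt a u₀ := by
    rw [hu₀']
    exact hu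
  obtain ⟨v, hv1, hv2⟩ := exists_of_ofPt_eq sq u u₀ hu'
  exact ⟨v, hv2, hv1⟩

/-- The hard direction: etale-locally constructible implies locally constructible on points. -/
theorem isLocallyConstructible_of_etale [QuasiSeparatedSpace ↥S] {X : Sp S} (hX : IsAlgSpace X)
    (hXqs : IsQuasiSeparatedSp X) (E : Set (Points X))
    (h : ∀ (U : Over S) (a : (yon S).obj U ⟶ X), RepWith @Etale a →
      IsLocallyConstructible (Points.ofPt a ⁻¹' E)) :
    IsLocallyConstructible E := by
  intro x
  obtain ⟨V₀, q₀, hqe, hqs⟩ := hX.atlas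
  obtain ⟨v, rfl⟩ := surjective_ofPt q₀ hqs x
  obtain ⟨_, ⟨O, hO, rfl⟩, hvO, -⟩ :=
    (V₀.left.isBasis_affineOpens).exists_subset_of_mem_open (Set.mem_univ v) isOpen_univ
  let O' : V₀.left.Opens := O
  let U : Over S := Over.mk (O'.ι ≫ V₀.hom)
  let ι : U ⟶ V₀ := Over.homMk O'.ι rfl
  let a : (yon S).obj U ⟶ X := (yon S).map ι ≫ q₀
  have hae : RepWith @Etale a := (RepWith @Etale).comp_mem _ _
    ((repWith_yon_map_iff _ _).2 (inferInstance : Etale O'.ι)) hqe
  haveI : IsAffine U.left := hO
  have hpc : Continuous (Points.ofPt a) := Points.continuous_ofPt a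
  have hpo : IsOpenMap (Points.ofPt a) := isOpenMap_ofPt_of_etale a hae
  have hsp := isCompact_preimage_ofPt hX hXqs a
  have hfin := finite_fibre_ofPt_of_etale hXqs a hae
  have hE' : IsConstructible (Points.ofPt a ⁻¹' E) := (h U a hae).isConstructible
  have hcons := ConsTop.isConstructible_inter_range hpc hpo hsp hfin E hE'
  have hu : Points.ofPt a ⟨v, hvO⟩ = Points.ofPt q₀ v := by
    rw [ofPt_comp_yon_map]
    rfl
  refine ⟨Set.range (Points.ofPt a), hpo.isOpen_range.mem_nhds ⟨⟨v, hvO⟩, hu⟩, hpo.isOpen_range, ?_⟩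
  have h3 := hcons.preimage_of_isOpenEmbedding hpo.isOpen_range.isOpenEmbedding_subtypeVal
  rwa [Subtype.preimage_coe_inter_self] at h3

/-- Constructibility pulls back along an etale chart from an affine scheme landing in an open
subset. -/
theorem isConstructible_preimage_ofPt [QuasiSeparatedSpace ↥S] {X : Sp S} (hX : IsAlgSpace X)
    (hXqs : IsQuasiSeparatedSp X) (E : Set (Points X)) (N : Set (Points X)) (hN : IsOpen N)
    (hNE : IsConstructible (N ↓∩ E)) {U : Over S} [CompactSpace U.left]
    [QuasiSeparatedSpace U.left] (a : (yon S).obj U ⟶ X) (ha : RepWith @Etale a)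
    (haN : ∀ u, Points.ofPt a u ∈ N) : IsConstructible (Points.ofPt a ⁻¹' E) := by
  have hpc : Continuous (Points.ofPt a) := Points.continuous_ofPt a
  have hpo : IsOpenMap (Points.ofPt a) := isOpenMap_ofPt_of_etale a ha
  let f : U.left → N := fun u => ⟨Points.ofPt a u, haN u⟩
  have hfc : Continuous f := hpc.subtype_mk haN
  have hEq : Points.ofPt a ⁻¹' E = f ⁻¹' (N ↓∩ E) := rfl
  rw [hEq]
  refine hNE.preimage hfc ?_
  intro s hso hsr
  -- the range of `f` is a quasi-compact open of `N`
  have hKo : IsOpen (Set.range f) := by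
    have : Set.range f = N ↓∩ Set.range (Points.ofPt a) := by
      ext ⟨y, hy⟩
      simp only [Set.mem_range, Set.mem_preimage, f, Subtype.mk.injEq]
    rw [this]
    exact hpo.isOpen_range.preimage continuous_subtype_val
  have hKc : IsCompact (Set.range f) := isCompact_range hfc
  have h1 : IsCompact (s ∩ Set.range f) := hsr hKc hKo
  have h2 : IsCompact (Subtype.val '' (s ∩ Set.range f) : Set (Points X)) :=
    h1.image continuous_subtype_val
  have h3 : IsOpen (Subtype.val '' (s ∩ Set.range f) : Set (Points X)) :=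
    hN.isOpenMap_subtype_val _ (hso.inter hKo)
  have h4 := isCompact_preimage_ofPt hX hXqs a _ h3 h2
  have h5 : f ⁻¹' s = Points.ofPt a ⁻¹' (Subtype.val '' (s ∩ Set.range f)) := by
    ext u
    constructor
    · intro hu
      exact ⟨f u, ⟨hu, ⟨u, rfl⟩⟩, rfl⟩
    · rintro ⟨z, ⟨hzs, -⟩, hz⟩
      have : z = f u := Subtype.ext hz
      show f u ∈ s
      rw [← this]
      exact hzs
  rw [h5]
  exact h4.isRetrocompact (h3.preimage hpc)

/-- The easy direction: a locally constructible set of points is etale-locally constructible. -/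
theorem isLocallyConstructible_preimage_ofPt [QuasiSeparatedSpace ↥S] {X : Sp S}
    (hX : IsAlgSpace X) (hXqs : IsQuasiSeparatedSp X) (E : Set (Points X))
    (hE : IsLocallyConstructible E) {U : Over S} (a : (yon S).obj U ⟶ X)
    (ha : RepWith @Etale a) : IsLocallyConstructible (Points.ofPt a ⁻¹' E) := by
  intro u
  obtain ⟨N, hNx, hNo, hNE⟩ := hE (Points.ofPt a u)
  have hpc : Continuous (Points.ofPt a) := Points.continuous_ofPt a
  obtain ⟨_, ⟨O, hO, rfl⟩, huO, hON⟩ :=
    (U.left.isBasis_affineOpens).exists_subset_of_mem_open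
      (show Points.ofPt a u ∈ N from mem_of_mem_nhds hNx) (hNo.preimage hpc)
  let O' : U.left.Opens := O
  let U' : Over S := Over.mk (O'.ι ≫ U.hom)
  let ι : U' ⟶ U := Over.homMk O'.ι rfl
  let b : (yon S).obj U' ⟶ X := (yon S).map ι ≫ a
  have hbe : RepWith @Etale b := (RepWith @Etale).comp_mem _ _
    ((repWith_yon_map_iff _ _).2 (inferInstance : Etale O'.ι)) ha
  haveI : IsAffine U'.left := hO
  have hb : ∀ o : U'.left, Points.ofPt b o = Points.ofPt a (O'.ι o) := fun o => by
    rw [ofPt_comp_yon_map]
    rfl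
  have hbN : ∀ o : U'.left, Points.ofPt b o ∈ N := fun o => by
    rw [hb]
    exact hON o.2
  have hcons := isConstructible_preimage_ofPt hX hXqs E N hNo hNE b hbe hbN
  refine ⟨(O' : Set U.left), O'.isOpen.mem_nhds huO, O'.isOpen, ?_⟩
  have hset : (Points.ofPt b ⁻¹' E : Set U'.left) =
      ((fun o : U'.left => O'.ι o) ⁻¹' (Points.ofPt a ⁻¹' E)) := by
    ext o
    simp only [Set.mem_preimage]
    rw [hb]
  rw [hset] at hcons
  exact hcons

end Groth.Agent.Helper15.EtCons
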