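import Mathlib
import Groth.Prelude

set_option autoImplicit false
set_option linter.unusedSectionVars false
universe u
open CategoryTheory CategoryTheory.Limits AlgebraicGeometry

namespace Groth.Agent.Helper15.EtLift

open Polynomial TensorProduct

/-- Two standard etale pairs with the same `f` and with `g' = g * g ^ n` have isomorphic rings. -/
noncomputable def pairEquiv {R : Type u} [CommRing R] (P Q : StandardEtalePair R)
    (hf : Q.f = P.f) (n : ℕ) (hg : Q.g = P.g * P.g ^ n) : Q.Ring ≃ₐ[R] P.Ring :=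
  AlgEquiv.ofAlgHom
    (Q.lift P.X ⟨by rw [hf]; exact P.hasMap_X.1, by
      rw [hg, map_mul, map_pow]; exact P.hasMap_X.2.mul (P.hasMap_X.2.pow n)⟩)
    (P.lift Q.X ⟨by rw [← hf]; exact Q.hasMap_X.1, by
      have := Q.hasMap_X.2
      rw [hg, map_mul] at this
      exact isUnit_of_mul_isUnit_left this⟩)
    (P.hom_ext (by simp)) (Q.hom_ext (by simp))

variable {A : Type u} [CommRing A] (I : Ideal A)

/-- A standard etale algebra over `A ⧸ I` lifts to a standard etale algebra over `A`. -/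
theorem exists_lift_standardEtale (Bb : Type u) [CommRing Bb] [Algebra (A ⧸ I) Bb]
    [Algebra.IsStandardEtale (A ⧸ I) Bb] :
    ∃ P : StandardEtalePair A, Nonempty ((A ⧸ I) ⊗[A] P.Ring ≃ₐ[A ⧸ I] Bb) := by
  obtain ⟨P⟩ := Algebra.IsStandardEtale.nonempty_standardEtalePresentation (R := A ⧸ I) (S := Bb)
  have hs : Function.Surjective (Ideal.Quotient.mk I) := Ideal.Quotient.mk_surjective
  obtain ⟨f, hf, -, hfm⟩ := lifts_and_natDegree_eq_and_monic
    ((mem_lifts _).2 (map_surjective _ hs P.f)) P.monic_f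
  obtain ⟨g, hg⟩ := map_surjective _ hs P.g
  obtain ⟨p₁, p₂, n, e⟩ := P.cond
  obtain ⟨q₁, hq₁⟩ := map_surjective _ hs p₁
  obtain ⟨q₂, hq₂⟩ := map_surjective _ hs p₂
  let Pt : StandardEtalePair A := ⟨f, hfm, g * (derivative f * q₁ + f * q₂),
    ⟨g * q₁, g * q₂, 1, by ring⟩⟩
  have hu : (derivative f * q₁ + f * q₂).map (Ideal.Quotient.mk I) = P.g ^ n := by
    rw [Polynomial.map_add, Polynomial.map_mul, Polynomial.map_mul, ← derivative_map, hf, hq₁,
      hq₂, e]
  let Pres : StandardEtalePresentation A Pt.Ring :=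
    ⟨Pt, Pt.X, Pt.hasMap_X, by
      simpa [StandardEtalePair.lift_X_left] using Function.bijective_id⟩
  let e₁ := (Pres.baseChange (T := A ⧸ I)).equivRing
  let e₂ := pairEquiv P.P (Pt.map (algebraMap A (A ⧸ I))) hf n (by
    show (g * (derivative f * q₁ + f * q₂)).map _ = _
    rw [Polynomial.map_mul]
    exact congrArg₂ _ hg hu)
  exact ⟨Pt, ⟨(e₁.trans e₂).trans P.equivRing.symm⟩⟩

/-- Quotient version. -/
theorem exists_lift_standardEtale_quot (Bb : Type u) [CommRing Bb] [Algebra (A ⧸ I) Bb]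
    [Algebra.IsStandardEtale (A ⧸ I) Bb] :
    ∃ P : StandardEtalePair A,
      Nonempty ((P.Ring ⧸ I.map (algebraMap A P.Ring)) ≃ₐ[A ⧸ I] Bb) := by
  obtain ⟨P, ⟨e⟩⟩ := exists_lift_standardEtale I Bb
  exact ⟨P, ⟨(Algebra.TensorProduct.quotIdealMapEquivQuotTensor P.Ring I).trans e⟩⟩

/-- Ring-level lifting for a smooth ring map against a surjection with nil kernel. -/
theorem ring_lift_sm_nil {B C R' R : Type u} [CommRing B] [CommRing C] [CommRing R'] [CommRing R]
    (γ : B →+* C) (hγ : γ.Smooth) (φ : R' →+* R) (hφ : Function.Surjective φ)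
    (hker : RingHom.ker φ ≤ nilradical R') (α : C →+* R) (β : B →+* R')
    (h : φ.comp β = α.comp γ) :
    ∃ ψ : C →+* R', φ.comp ψ = α ∧ ψ.comp γ = β := by
  let := γ.toAlgebra
  let := β.toAlgebra
  let := (φ.comp β).toAlgebra
  have hsm : Algebra.Smooth B C := hγ
  have : Algebra.FormallySmooth B C := hsm.formallySmooth
  have : Algebra.FinitePresentation B C := hsm.finitePresentation
  let φ' : R' →ₐ[B] R := { φ with commutes' := fun _ => rfl }
  let α' : C →ₐ[B] R := { α with commutes' := fun b => (RingHom.congr_fun h b).symm }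
  obtain ⟨n, F, hF, hFG⟩ := Algebra.FinitePresentation.out (R := B) (A := C)
  choose y hy using fun i : Fin n => hφ (α' (F (MvPolynomial.X i)))
  let Y : MvPolynomial (Fin n) B →ₐ[B] R' := MvPolynomial.aeval y
  have hY : φ'.comp Y = α'.comp F := MvPolynomial.algHom_ext (fun i => by
    simp only [AlgHom.comp_apply, Y, MvPolynomial.aeval_X]
    exact hy i)
  let J₀ : Ideal R' := (RingHom.ker F.toRingHom).map Y.toRingHom
  have hJ₀ : J₀ ≤ RingHom.ker φ := by
    refine Ideal.map_le_iff_le_comap.2 (fun x hx => ?_)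
    have h1 : φ' (Y x) = α' (F x) := DFunLike.congr_fun hY x
    have h2 : F x = 0 := hx
    show φ (Y x) = 0
    rw [show φ (Y x) = φ' (Y x) from rfl, h1, h2, map_zero]
  have hJ₀fg : J₀.FG := hFG.map _
  have hnil : IsNilpotent J₀ := (Ideal.FG.isNilpotent_iff_le_nilradical hJ₀fg).2 (hJ₀.trans hker)
  let g₁ : (MvPolynomial (Fin n) B ⧸ RingHom.ker F.toRingHom) →ₐ[B] R' ⧸ J₀ :=
    Ideal.Quotient.liftₐ _ ((Ideal.Quotient.mkₐ B J₀).comp Y) (fun x hx => by
      show Ideal.Quotient.mk J₀ (Y x) = 0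
      exact Ideal.Quotient.eq_zero_iff_mem.2 (Ideal.mem_map_of_mem _ hx))
  let g₀ : C →ₐ[B] R' ⧸ J₀ := g₁.comp (Ideal.quotientKerAlgEquivOfSurjective hF).symm.toAlgHom
  let ψ := Algebra.FormallySmooth.lift J₀ hnil g₀
  have hψ : ∀ q, ψ (F q) - Y q ∈ J₀ := by
    intro q
    rw [← Ideal.Quotient.eq_zero_iff_mem, map_sub, sub_eq_zero,
      Algebra.FormallySmooth.mk_lift]
    show g₁ ((Ideal.quotientKerAlgEquivOfSurjective hF).symm (F q)) = _
    have : (Ideal.quotientKerAlgEquivOfSurjective hF).symm (F q) = Ideal.Quotient.mk _ q := by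
      rw [AlgEquiv.symm_apply_eq]
      rfl
    rw [this]
    rfl
  refine ⟨ψ.toRingHom, ?_, ?_⟩
  · ext c
    obtain ⟨q, rfl⟩ := hF c
    have h1 := hJ₀ (hψ q)
    rw [RingHom.mem_ker, map_sub, sub_eq_zero] at h1
    show φ (ψ (F q)) = α (F q)
    rw [h1]
    exact DFunLike.congr_fun hY q
  · ext b
    exact ψ.commutes b

end Groth.Agent.Helper15.EtLift
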