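import Mathlib
import Groth.Prelude
import Groth.Agent.Lib.Helper15.EtLift1

set_option autoImplicit false
set_option linter.unusedSectionVars false
universe u
open CategoryTheory CategoryTheory.Limits AlgebraicGeometry

namespace Groth.Agent.Helper15.EtLift

section Quot

variable {A : Type u} [CommRing A] (I : Ideal A) (B : Type u) [CommRing B] [Algebra A B]

/-- The map `A ⧸ I → B ⧸ I B`. -/
noncomputable abbrev qm : A ⧸ I →+* B ⧸ I.map (algebraMap A B) :=
  Ideal.quotientMap (I.map (algebraMap A B)) (algebraMap A B) Ideal.le_comap_map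

theorem inr_kills {C : CommRingCat.{u}} (x : CommRingCat.of (A ⧸ I) ⟶ C)
    (y : CommRingCat.of B ⟶ C)
    (h : CommRingCat.ofHom (Ideal.Quotient.mk I) ≫ x = CommRingCat.ofHom (algebraMap A B) ≫ y) :
    ∀ b ∈ I.map (algebraMap A B), y.hom b = 0 := by
  have key : I.map (algebraMap A B) ≤ RingHom.ker y.hom := by
    rw [Ideal.map_le_iff_le_comap]
    intro a ha
    rw [Ideal.mem_comap, RingHom.mem_ker]
    have h1 : x.hom (Ideal.Quotient.mk I a) = y.hom (algebraMap A B a) :=
      congrArg (fun t => t.hom a) h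
    rw [← h1, Ideal.Quotient.eq_zero_iff_mem.2 ha, map_zero]
  exact fun b hb => key hb

theorem isPushout_quot :
    IsPushout (CommRingCat.ofHom (Ideal.Quotient.mk I)) (CommRingCat.ofHom (algebraMap A B))
      (CommRingCat.ofHom (qm I B))
      (CommRingCat.ofHom (Ideal.Quotient.mk (I.map (algebraMap A B)))) := by
  have w : CommRingCat.ofHom (Ideal.Quotient.mk I) ≫ CommRingCat.ofHom (qm I B) =
      CommRingCat.ofHom (algebraMap A B) ≫
        CommRingCat.ofHom (Ideal.Quotient.mk (I.map (algebraMap A B))) := by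
    ext a
    rfl
  refine ⟨⟨w⟩, ⟨PushoutCocone.IsColimit.mk w
    (fun s => CommRingCat.ofHom (Ideal.Quotient.lift _ s.inr.hom
      (inr_kills I B s.inl s.inr s.condition))) ?_ ?_ ?_⟩⟩
  · intro s
    refine CommRingCat.hom_ext (RingHom.ext fun x => ?_)
    obtain ⟨a, rfl⟩ := Ideal.Quotient.mk_surjective x
    have h1 : s.inl.hom (Ideal.Quotient.mk I a) = s.inr.hom (algebraMap A B a) :=
      congrArg (fun t => t.hom a) s.condition
    exact h1.symm
  · intro s
    refine CommRingCat.hom_ext (RingHom.ext fun b => ?_)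
    rfl
  · intro s m h1 h2
    refine CommRingCat.hom_ext (RingHom.ext fun x => ?_)
    obtain ⟨b, rfl⟩ := Ideal.Quotient.mk_surjective x
    exact congrArg (fun t => t.hom b) h2

theorem isPullback_spec_quot :
    IsPullback (Spec.map (CommRingCat.ofHom (qm I B)))
      (Spec.map (CommRingCat.ofHom (Ideal.Quotient.mk (I.map (algebraMap A B)))))
      (Spec.map (CommRingCat.ofHom (Ideal.Quotient.mk I)))
      (Spec.map (CommRingCat.ofHom (algebraMap A B))) :=
  isPullback_SpecMap_of_isPushout _ _ _ _ (isPushout_quot I B)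

theorem map_le_nilradical (hI : I ≤ nilradical A) : I.map (algebraMap A B) ≤ nilradical B := by
  rw [Ideal.map_le_iff_le_comap]
  intro a ha
  rw [Ideal.mem_comap, mem_nilradical]
  exact (mem_nilradical.1 (hI ha)).map _

end Quot

/-- A thickening of an affine scheme `Spec A` is `Spec (A ⧸ I)` with `I` nil. -/
theorem exists_iso_spec_quot_of_thick {A : Type u} [CommRing A] {Z : Scheme.{u}}
    (j : Z ⟶ Spec (.of A)) [IsClosedImmersion j] (hj : Function.Surjective j) :
    ∃ (I : Ideal A) (e : Z ≅ Spec (.of (A ⧸ I))),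
      j = e.hom ≫ Spec.map (CommRingCat.ofHom (Ideal.Quotient.mk I)) ∧ I ≤ nilradical A := by
  obtain ⟨I, e, he⟩ := IsClosedImmersion.Spec_iff.1 (inferInstance : IsClosedImmersion j)
  refine ⟨I, e, he, ?_⟩
  rw [nilradical_eq_sInf, le_sInf_iff]
  intro p hp
  obtain ⟨z, hz⟩ := hj ⟨p, hp⟩
  rw [he, Scheme.Hom.comp_apply] at hz
  intro a ha
  have h1 : a ∈ (Spec.map (CommRingCat.ofHom (Ideal.Quotient.mk I)) (e.hom z)).asIdeal := by
    show Ideal.Quotient.mk I a ∈ (e.hom z).asIdeal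
    rw [Ideal.Quotient.eq_zero_iff_mem.2 ha]
    exact zero_mem _
  rw [hz] at h1
  exact h1

theorem specMap_surjective_of_ker_nil {R' R : CommRingCat.{u}} (φ : R' ⟶ R)
    (hφ : Function.Surjective φ.hom) (hker : RingHom.ker φ.hom ≤ nilradical R') :
    Function.Surjective (Spec.map φ) := by
  intro p
  have h1 : RingHom.ker φ.hom ≤ p.asIdeal := hker.trans (nilradical_le_prime _)
  have h2 : p ∈ Set.range (PrimeSpectrum.comap φ.hom) := by
    rw [range_comap_of_surjective _ _ hφ]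
    exact h1
  obtain ⟨q, hq⟩ := h2
  exact ⟨q, hq⟩

theorem spec_lift_sm_nil {B C R' R : CommRingCat.{u}} (γ : B ⟶ C) (hγ : γ.hom.Smooth)
    (φ : R' ⟶ R) (hφ : Function.Surjective φ.hom) (hker : RingHom.ker φ.hom ≤ nilradical R')
    (a : Spec R ⟶ Spec C) (b : Spec R' ⟶ Spec B) (h : Spec.map φ ≫ b = a ≫ Spec.map γ) :
    ∃ l : Spec R' ⟶ Spec C, Spec.map φ ≫ l = a ∧ l ≫ Spec.map γ = b := by
  obtain ⟨α, rfl⟩ := Spec.map_surjective a
  obtain ⟨β, rfl⟩ := Spec.map_surjective b
  rw [← Spec.map_comp, ← Spec.map_comp] at h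
  have h' := Spec.map_injective h
  obtain ⟨ψ, h1, h2⟩ := ring_lift_sm_nil γ.hom hγ φ.hom hφ hker α.hom β.hom (by
    rw [← CommRingCat.hom_comp, ← CommRingCat.hom_comp, h'])
  refine ⟨Spec.map (CommRingCat.ofHom ψ), ?_, ?_⟩
  · rw [← Spec.map_comp]
    congr 1
    ext x
    exact RingHom.congr_fun h1 x
  · rw [← Spec.map_comp]
    congr 1
    ext x
    exact RingHom.congr_fun h2 x

/-- Local lift against a nil-thickening `Spec R → Spec R'` when the top map factors through an
affine open on which `f` is smooth. -/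
theorem local_lift_sm_nil {X Y : Scheme.{u}} (f : X ⟶ Y) {V : X.Opens} {W : Y.Opens}
    (hV : IsAffineOpen V) (hW : IsAffineOpen W) (hVW : V ≤ f ⁻¹ᵁ W)
    (hfe : (f.appLE W V hVW).hom.Smooth)
    {R' R : CommRingCat.{u}} (φ : R' ⟶ R) (hφ : Function.Surjective φ.hom)
    (hker : RingHom.ker φ.hom ≤ nilradical R')
    (a : Spec R ⟶ X) (b : Spec R' ⟶ Y) (h : Spec.map φ ≫ b = a ≫ f)
    (ha : Set.range a ⊆ V) :
    ∃ l : Spec R' ⟶ X, Spec.map φ ≫ l = a ∧ l ≫ f = b := by
  have hb : Set.range b ⊆ W := by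
    rintro _ ⟨y, rfl⟩
    obtain ⟨x, rfl⟩ := specMap_surjective_of_ker_nil φ hφ hker y
    have : b (Spec.map φ x) = f (a x) := by
      rw [← Scheme.Hom.comp_apply, h, Scheme.Hom.comp_apply]
    rw [this]
    exact hVW (ha ⟨x, rfl⟩)
  let a'' : Spec R ⟶ Spec Γ(X, V) := IsOpenImmersion.lift hV.fromSpec a (by
    rw [hV.range_fromSpec]; exact ha)
  let b'' : Spec R' ⟶ Spec Γ(Y, W) := IsOpenImmersion.lift hW.fromSpec b (by
    rw [hW.range_fromSpec]; exact hb)
  have ha'' : a'' ≫ hV.fromSpec = a := IsOpenImmersion.lift_fac _ _ _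
  have hb'' : b'' ≫ hW.fromSpec = b := IsOpenImmersion.lift_fac _ _ _
  have hsq : Spec.map φ ≫ b'' = a'' ≫ Spec.map (f.appLE W V hVW) := by
    rw [← cancel_mono hW.fromSpec, Category.assoc, hb'', Category.assoc,
      hW.SpecMap_appLE_fromSpec f hV hVW, ← Category.assoc, ha'', h]
  obtain ⟨l'', h1, h2⟩ := spec_lift_sm_nil (f.appLE W V hVW) hfe φ hφ hker a'' b'' hsq
  refine ⟨l'' ≫ hV.fromSpec, ?_, ?_⟩
  · rw [← Category.assoc, h1, ha'']
  · rw [Category.assoc, ← hW.SpecMap_appLE_fromSpec f hV hVW, ← Category.assoc, h2, hb'']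

/-- Étale-local lifting of étale neighbourhoods along a closed immersion `Spec (A ⧸ I) → Spec A`. -/
theorem exists_etale_lift_affine {A : Type u} [CommRing A] (I : Ideal A) {W : Scheme.{u}}
    (g : W ⟶ Spec (.of (A ⧸ I))) [Etale g] (w : W) (O : W.Opens) (hw : w ∈ O) :
    ∃ (B : Type u) (_ : CommRing B) (_ : Algebra A B) (_ : Algebra.Etale A B)
      (m : Spec (.of (B ⧸ I.map (algebraMap A B))) ⟶ W),
      m ≫ g = Spec.map (CommRingCat.ofHom (qm I B)) ∧ w ∈ Set.range m ∧ Set.range m ⊆ O := by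
  obtain ⟨N, hN, hwN, hNO⟩ := exists_isAffineOpen_mem_and_subset hw
  -- the ring map
  let ψ : CommRingCat.of (A ⧸ I) ⟶ Γ(W, N) := Spec.preimage (hN.fromSpec ≫ g)
  have hψ : Spec.map ψ = hN.fromSpec ≫ g := Spec.map_preimage _
  have hψe : ψ.hom.Etale := by
    rw [← HasRingHomProperty.Spec_iff (P := @Etale), hψ]
    infer_instance
  algebraize [ψ.hom]
  let Q : Ideal Γ(W, N) := (hN.primeIdealOf ⟨w, hwN⟩).asIdeal
  have hQ : Q.IsPrime := (hN.primeIdealOf ⟨w, hwN⟩).isPrime
  obtain ⟨f, hfQ, hstd⟩ := Algebra.IsEtaleAt.exists_isStandardEtale (R := A ⧸ I) Q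
  obtain ⟨P, ⟨θ⟩⟩ := exists_lift_standardEtale_quot I (Localization.Away f)
  refine ⟨P.Ring, inferInstance, inferInstance, inferInstance, ?_⟩
  let θr : Localization.Away f →+* P.Ring ⧸ I.map (algebraMap A P.Ring) :=
    θ.symm.toAlgHom.toRingHom
  let θf : P.Ring ⧸ I.map (algebraMap A P.Ring) →+* Localization.Away f := θ.toAlgHom.toRingHom
  let ρ : Γ(W, N) →+* P.Ring ⧸ I.map (algebraMap A P.Ring) :=
    θr.comp (algebraMap Γ(W, N) (Localization.Away f))
  refine ⟨Spec.map (CommRingCat.ofHom ρ) ≫ hN.fromSpec, ?_, ?_, ?_⟩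
  · rw [Category.assoc, ← hψ, ← Spec.map_comp]
    congr 1
    ext x
    show θ.symm (algebraMap Γ(W, N) (Localization.Away f) (algebraMap (A ⧸ I) Γ(W, N) x)) = _
    rw [← IsScalarTower.algebraMap_apply, AlgEquiv.commutes]
    rfl
  · have h1 : hN.primeIdealOf ⟨w, hwN⟩ ∈ Set.range (PrimeSpectrum.comap
        (algebraMap Γ(W, N) (Localization.Away f))) := by
      rw [PrimeSpectrum.localization_away_comap_range (Localization.Away f) f]
      exact hfQ
    obtain ⟨y, hy⟩ := h1
    have h2 : Function.Surjective (PrimeSpectrum.comap θr) := by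
      intro z
      refine ⟨PrimeSpectrum.comap θf z, ?_⟩
      rw [← PrimeSpectrum.comap_comp_apply]
      have : θf.comp θr = RingHom.id _ := by
        refine RingHom.ext fun t => ?_
        exact θ.apply_symm_apply t
      rw [this]
      rfl
    obtain ⟨y', hy'⟩ := h2 y
    refine ⟨y', ?_⟩
    rw [Scheme.Hom.comp_apply]
    have h3 : Spec.map (CommRingCat.ofHom ρ) y' = hN.primeIdealOf ⟨w, hwN⟩ := by
      show PrimeSpectrum.comap ρ y' = _
      rw [← hy, ← hy']
      rfl
    rw [h3, hN.fromSpec_primeIdealOf]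
  · rintro _ ⟨y, rfl⟩
    rw [Scheme.Hom.comp_apply]
    apply hNO
    have : hN.fromSpec (Spec.map (CommRingCat.ofHom ρ) y) ∈ Set.range hN.fromSpec := ⟨_, rfl⟩
    rwa [hN.range_fromSpec] at this

end Groth.Agent.Helper15.EtLift
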