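import Mathlib
import Groth.Prelude
import Groth.Agent.Lib.Helper15.EtLift2
import Groth.Agent.Lib.Helper15.AlgSpTop

set_option autoImplicit false
set_option linter.unusedSectionVars false
universe u
open CategoryTheory CategoryTheory.Limits AlgebraicGeometry MorphismProperty Opposite

namespace Groth.Agent.Helper15.EtLift

open AlgSp Groth.Agent.Helper15

variable {S : Scheme.{u}}

section Abbrev

variable {A : Type u} [CommRing A] (I : Ideal A) (s : Spec (.of A) ⟶ S)

/-- `Spec A` over `S`. -/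
noncomputable abbrev ovA : Over S := Over.mk s

/-- `Spec (A ⧸ I)` over `S`. -/
noncomputable abbrev ovAI : Over S :=
  Over.mk (Spec.map (CommRingCat.ofHom (Ideal.Quotient.mk I)) ≫ s)

/-- The closed immersion `Spec (A ⧸ I) ⟶ Spec A` over `S`. -/
noncomputable abbrev jA : ovAI I s ⟶ ovA s :=
  Over.homMk (Spec.map (CommRingCat.ofHom (Ideal.Quotient.mk I))) rfl

variable (B : Type u) [CommRing B] [Algebra A B]

/-- The structure morphism of `Spec B`. -/
noncomputable abbrev sB : Spec (.of B) ⟶ S := Spec.map (CommRingCat.ofHom (algebraMap A B)) ≫ s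

/-- `Spec B ⟶ Spec A` over `S`. -/
noncomputable abbrev eB : ovA (sB s B) ⟶ ovA s :=
  Over.homMk (Spec.map (CommRingCat.ofHom (algebraMap A B))) rfl

theorem qB_w : Spec.map (CommRingCat.ofHom (qm I B)) ≫ (ovAI I s).hom =
    (ovAI (I.map (algebraMap A B)) (sB s B)).hom := by
  show Spec.map _ ≫ Spec.map _ ≫ s = Spec.map _ ≫ Spec.map _ ≫ s
  rw [← Category.assoc, (isPullback_spec_quot I B).w, Category.assoc]

/-- `Spec (B ⧸ I B) ⟶ Spec (A ⧸ I)` over `S`. -/
noncomputable abbrev qB : ovAI (I.map (algebraMap A B)) (sB s B) ⟶ ovAI I s :=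
  Over.homMk (Spec.map (CommRingCat.ofHom (qm I B))) (qB_w I s B)

theorem qB_jA : qB I s B ≫ jA I s = jA (I.map (algebraMap A B)) (sB s B) ≫ eB s B := by
  apply Over.OverMorphism.ext
  exact (isPullback_spec_quot I B).w

/-- The square of `Spec (B ⧸ I B)` is a pullback in `Over S`. -/
theorem isPullback_over_quot :
    IsPullback (qB I s B) (jA (I.map (algebraMap A B)) (sB s B)) (jA I s) (eB s B) :=
  IsPullback.of_map (Over.forget S) (qB_jA I s B) (isPullback_spec_quot I B)

theorem isPullback_yon_quot :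
    IsPullback ((yon S).map (qB I s B)) ((yon S).map (jA (I.map (algebraMap A B)) (sB s B)))
      ((yon S).map (jA I s)) ((yon S).map (eB s B)) :=
  (isPullback_over_quot I s B).map (yon S)

theorem etale_eB [Algebra.Etale A B] : RepWith @Etale ((yon S).map (eB s B)) := by
  rw [repWith_yon_map_iff]
  show Etale (Spec.map (CommRingCat.ofHom (algebraMap A B)))
  rw [HasRingHomProperty.Spec_iff (P := @Etale)]
  exact RingHom.etale_algebraMap.2 inferInstance

end Abbrev

/-- Core lifting lemma: a smooth morphism of algebraic spaces lifts, étale locally, along a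
nil-thickening of affine schemes. -/
theorem exists_lift_affine_thick {X Y : Sp S} (hX : IsAlgSpace X) (hY : IsAlgSpace Y) (f : X ⟶ Y)
    (hf : LocP @Smooth f) {V₀ : Over S} (d : (yon S).obj V₀ ⟶ Y) (hd : RepWith @Etale d)
    {A : Type u} [CommRing A] (I : Ideal A) (hI : I ≤ nilradical A) (s : Spec (.of A) ⟶ S)
    (βA : ovA s ⟶ V₀) (α : (yon S).obj (ovAI I s) ⟶ X)
    (hα : α ≫ f = (yon S).map (jA I s) ≫ (yon S).map βA ≫ d) (z : Spec (.of (A ⧸ I))) :
    ∃ (B : Type u) (_ : CommRing B) (_ : Algebra A B) (_ : Algebra.Etale A B)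
      (ℓ : (yon S).obj (ovA (sB s B)) ⟶ X),
      ℓ ≫ f = (yon S).map (eB s B) ≫ (yon S).map βA ≫ d ∧
      (yon S).map (jA (I.map (algebraMap A B)) (sB s B)) ≫ ℓ = (yon S).map (qB I s B) ≫ α ∧
      z ∈ Set.range (Spec.map (CommRingCat.ofHom (qm I B))) := by
  classical
  -- the fibre product `X ×_Y V₀`
  have sqXV : IsPullback (pullback.fst f d) (pullback.snd f d) f d := IsPullback.of_hasPullback _ _
  set pX := pullback.fst f d with hpX
  set pV := pullback.snd f d with hpV
  have hXV : IsAlgSpace (pullback f d) :=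
    isAlgSpace_of_isPullback hY.diag hX (IsAlgSpace.yon_obj V₀) sqXV
  obtain ⟨U₂, e₂, he₂e, he₂s⟩ := hXV.atlas
  obtain ⟨h₂, hh₂⟩ : ∃ h₂ : U₂ ⟶ V₀, (yon S).map h₂ = e₂ ≫ pV := (yon S).map_surjective _
  have hpXe : RepWith @Etale pX := (RepWith @Etale).of_isPullback sqXV.flip hd
  have he₂X : RepWith @Etale (e₂ ≫ pX) := (RepWith @Etale).comp_mem _ _ he₂e hpXe
  have hsm : Smooth h₂.left := hf (e₂ ≫ pX) d h₂ he₂X hd (by
    rw [Category.assoc, sqXV.w, ← Category.assoc, ← hh₂])
  -- the map to the fibre product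
  have hζw : α ≫ f = ((yon S).map (jA I s ≫ βA)) ≫ d := by
    rw [hα, Functor.map_comp, Category.assoc]
  set ζ := sqXV.lift α ((yon S).map (jA I s ≫ βA)) hζw with hζ
  have hζ1 : ζ ≫ pX = α := sqXV.lift_fst _ _ _
  have hζ2 : ζ ≫ pV = (yon S).map (jA I s ≫ βA) := sqXV.lift_snd _ _ _
  -- pull back the chart
  have sqW := he₂e.rep.isPullback' ζ
  set W := he₂e.rep.pullback ζ with hW
  set r := he₂e.rep.fst' ζ with hr
  set g := he₂e.rep.snd ζ with hg
  have hget : Etale g.left := he₂e.property_snd ζ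
  have hgs : Surjective g.left := he₂s.property_snd ζ
  obtain ⟨w, hw⟩ := hgs.surj z
  have hrh : r ≫ h₂ = g ≫ jA I s ≫ βA := by
    apply (yon S).map_injective
    rw [Functor.map_comp, hh₂, ← Category.assoc, sqW.w, Category.assoc, hζ2, ← Functor.map_comp]
  -- affine opens
  obtain ⟨V₀₀, hV₀₀, hv₀, -⟩ := exists_isAffineOpen_mem_and_subset
    (TopologicalSpace.Opens.mem_top (h₂.left (r.left w)))
  obtain ⟨U₂₀, hU₂₀, hu₂, hle⟩ := exists_isAffineOpen_mem_and_subset
    (x := r.left w) (U := h₂.left ⁻¹ᵁ V₀₀) hv₀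
  obtain ⟨B, _, _, _, m, hm1, ⟨x, hx⟩, hmO⟩ :=
    exists_etale_lift_affine I (W := W.left) g.left w (r.left ⁻¹ᵁ U₂₀) hu₂
  refine ⟨B, inferInstance, inferInstance, inferInstance, ?_⟩
  have hpb := isPullback_spec_quot I B
  have hsq : Spec.map (CommRingCat.ofHom (Ideal.Quotient.mk (I.map (algebraMap A B)))) ≫
      (Spec.map (CommRingCat.ofHom (algebraMap A B)) ≫ βA.left) = (m ≫ r.left) ≫ h₂.left := by
    have h1 : r.left ≫ h₂.left = g.left ≫ Spec.map (CommRingCat.ofHom (Ideal.Quotient.mk I)) ≫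
        βA.left := congrArg (fun k => k.left) hrh
    calc _ = (Spec.map (CommRingCat.ofHom (Ideal.Quotient.mk (I.map (algebraMap A B)))) ≫
          Spec.map (CommRingCat.ofHom (algebraMap A B))) ≫ βA.left := (Category.assoc _ _ _).symm
      _ = (Spec.map (CommRingCat.ofHom (qm I B)) ≫
          Spec.map (CommRingCat.ofHom (Ideal.Quotient.mk I))) ≫ βA.left := by rw [hpb.w]
      _ = ((m ≫ g.left) ≫ Spec.map (CommRingCat.ofHom (Ideal.Quotient.mk I))) ≫ βA.left := by
          rw [hm1]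
      _ = m ≫ (g.left ≫ Spec.map (CommRingCat.ofHom (Ideal.Quotient.mk I)) ≫ βA.left) := by
          simp only [Category.assoc]
      _ = m ≫ (r.left ≫ h₂.left) := by rw [h1]
      _ = _ := (Category.assoc _ _ _).symm
  obtain ⟨l, hl1, hl2⟩ := local_lift_sm_nil h₂.left hU₂₀ hV₀₀ hle
    (HasRingHomProperty.appLE (P := @Smooth) h₂.left hsm ⟨V₀₀, hV₀₀⟩ ⟨U₂₀, hU₂₀⟩ hle)
    (CommRingCat.ofHom (Ideal.Quotient.mk (I.map (algebraMap A B))))
    Ideal.Quotient.mk_surjective (by
      show RingHom.ker (Ideal.Quotient.mk (I.map (algebraMap A B))) ≤ _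
      rw [Ideal.mk_ker]
      exact map_le_nilradical I B hI)
    (m ≫ r.left) (Spec.map (CommRingCat.ofHom (algebraMap A B)) ≫ βA.left) hsq (by
      rintro _ ⟨y, rfl⟩
      rw [Scheme.Hom.comp_apply]
      exact hmO ⟨y, rfl⟩)
  have hlw : l ≫ U₂.hom = (ovA (sB s B)).hom := by
    have h1 : h₂.left ≫ V₀.hom = U₂.hom := Over.w h₂
    have h2 : βA.left ≫ V₀.hom = s := Over.w βA
    rw [← h1, ← Category.assoc, hl2, Category.assoc, h2]
    rfl
  let lO : ovA (sB s B) ⟶ U₂ := Over.homMk l hlw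
  have hmW : m ≫ W.hom = (ovAI (I.map (algebraMap A B)) (sB s B)).hom := by
    have h1 : g.left ≫ (ovAI I s).hom = W.hom := Over.w g
    rw [← h1, ← Category.assoc, hm1]
    exact qB_w I s B
  let mW : ovAI (I.map (algebraMap A B)) (sB s B) ⟶ W := Over.homMk m hmW
  have e1 : lO ≫ h₂ = eB s B ≫ βA := by
    apply Over.OverMorphism.ext
    exact hl2
  have e2 : jA (I.map (algebraMap A B)) (sB s B) ≫ lO = mW ≫ r := by
    apply Over.OverMorphism.ext
    exact hl1
  have e3 : mW ≫ g = qB I s B := by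
    apply Over.OverMorphism.ext
    exact hm1
  refine ⟨(yon S).map lO ≫ e₂ ≫ pX, ?_, ?_, ?_⟩
  · rw [Category.assoc, Category.assoc, sqXV.w, ← Category.assoc e₂, ← hh₂,
      ← Functor.map_comp_assoc, e1, Functor.map_comp, Category.assoc]
  · rw [← Functor.map_comp_assoc, e2, Functor.map_comp, Category.assoc, ← Category.assoc _ e₂,
      sqW.w, Category.assoc, hζ1, ← Functor.map_comp_assoc, e3]
  · refine ⟨x, ?_⟩
    rw [← hm1, Scheme.Hom.comp_apply, hx, hw]

end Groth.Agent.Helper15.EtLift
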