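import Groth.Agent.Lib.Helper15.EtNbhdResField

/-!
# Etale neighbourhoods making a residue field extension purely inseparable (helper15)

Ring-theoretic part of Stacks 02LK/02LM/02LN in the purely inseparable form.
-/

set_option autoImplicit false
universe u v w
open Polynomial TensorProduct

namespace Groth.Agent.Helper15.EtPI

/-- Ring homs out of a tensor product of algebras agreeing on both factors agree. -/
theorem tensor_ringHom_ext {R S T Ω : Type*} [CommRing R] [CommRing S] [CommRing T]
    [Algebra R S] [Algebra R T] [CommRing Ω] (α β : S ⊗[R] T →+* Ω)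
    (h1 : ∀ s : S, α (s ⊗ₜ 1) = β (s ⊗ₜ 1)) (h2 : ∀ t : T, α (1 ⊗ₜ t) = β (1 ⊗ₜ t)) : α = β := by
  refine RingHom.ext fun x => ?_
  induction x with
  | zero => simp
  | add x y hx hy => simp [hx, hy]
  | tmul s t =>
    have : s ⊗ₜ[R] t = (s ⊗ₜ 1) * (1 ⊗ₜ t) := by simp
    rw [this, map_mul, map_mul, h1, h2]

/-- Extending a ring hom with the same kernel along a "fraction field" map. -/
theorem exists_lift_of_ker_eq {S K Ω : Type*} [CommRing S] [Field K] [Field Ω] (ψ : S →+* K)
    (hψ : ∀ x : K, ∃ a s : S, ψ s ≠ 0 ∧ x * ψ s = ψ a) (α : S →+* Ω)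
    (hα : RingHom.ker α = RingHom.ker ψ) : ∃ α' : K →+* Ω, α'.comp ψ = α := by
  haveI : (RingHom.ker ψ).IsPrime := RingHom.ker_isPrime ψ
  let ψ' : (RingHom.ker ψ).ResidueField →+* K :=
    Ideal.ResidueField.lift (RingHom.ker ψ) ψ le_rfl (by
      intro s hs
      exact IsUnit.mk0 _ (fun h => hs h))
  have hψ' : Function.Bijective ψ' := by
    refine ⟨ψ'.injective, fun x => ?_⟩
    obtain ⟨a, s, hs, hx⟩ := hψ x
    refine ⟨algebraMap S _ a / algebraMap S _ s, ?_⟩
    rw [map_div₀]
    simp only [ψ', Ideal.ResidueField.lift_algebraMap]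
    rw [div_eq_iff hs, hx]
  let e := RingEquiv.ofBijective ψ' hψ'
  let α'' : (RingHom.ker ψ).ResidueField →+* Ω :=
    Ideal.ResidueField.lift (RingHom.ker ψ) α hα.ge (by
      intro s hs
      refine IsUnit.mk0 _ (fun h => hs ?_)
      rw [← hα]; exact h)
  refine ⟨α''.comp e.symm.toRingHom, ?_⟩
  ext s
  have : e.symm (ψ s) = algebraMap S _ s := by
    rw [RingEquiv.symm_apply_eq]
    simp [e, ψ']
  simp [this, α'']

end Groth.Agent.Helper15.EtPI

namespace Groth.Agent.Helper15.EtPI

theorem residueField_frac {A : Type*} [CommRing A] (p : Ideal A) [p.IsPrime]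
    (c : p.ResidueField) : ∃ a b : A, algebraMap A p.ResidueField b ≠ 0 ∧
      c * algebraMap A p.ResidueField b = algebraMap A p.ResidueField a := by
  obtain ⟨⟨x, y⟩, hxy⟩ := IsLocalization.surj (nonZeroDivisors (A ⧸ p)) c
  obtain ⟨a, rfl⟩ := Ideal.Quotient.mk_surjective x
  obtain ⟨b, hb⟩ := Ideal.Quotient.mk_surjective y.1
  refine ⟨a, b, ?_, ?_⟩
  · rw [IsScalarTower.algebraMap_apply A (A ⧸ p) p.ResidueField, Ideal.Quotient.algebraMap_eq, hb]
    intro h
    have := (map_eq_zero_iff _ p.injective_algebraMap_quotient_residueField).1 h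
    exact nonZeroDivisors.coe_ne_zero y this
  · rw [IsScalarTower.algebraMap_apply A (A ⧸ p) p.ResidueField, Ideal.Quotient.algebraMap_eq, hb,
      IsScalarTower.algebraMap_apply A (A ⧸ p) p.ResidueField, Ideal.Quotient.algebraMap_eq]
    exact hxy

/-- An étale algebra with a map to a prescribed finite separable extension of the residue field
which is an "epimorphism of fields". -/
theorem exists_etale_algHom_epi {A : Type u} [CommRing A] (p : Ideal A) [p.IsPrime]
    (L : Type v) [Field L] [Algebra p.ResidueField L] [Algebra A L]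
    [IsScalarTower A p.ResidueField L]
    [FiniteDimensional p.ResidueField L] [Algebra.IsSeparable p.ResidueField L] :
    ∃ (P : StandardEtalePair A) (φ : P.Ring →ₐ[A] L),
      ∀ (Ω : Type w) [Field Ω] (α β : L →+* Ω),
        α.comp φ.toRingHom = β.comp φ.toRingHom → α = β := by
  obtain ⟨P, φ, hφ⟩ := exists_standardEtalePair_lift (A := A) (K := p.ResidueField) (k := L)
    (residueField_frac p)
  refine ⟨P, φ, fun Ω _ α β h => ?_⟩
  have hk : α.comp (algebraMap p.ResidueField L) = β.comp (algebraMap p.ResidueField L) := by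
    apply Ideal.ResidueField.ringHom_ext
    rw [RingHom.comp_assoc, RingHom.comp_assoc, ← IsScalarTower.algebraMap_eq]
    have : algebraMap A L = φ.toRingHom.comp (algebraMap A P.Ring) := by
      ext a; simp
    rw [this, ← RingHom.comp_assoc, ← RingHom.comp_assoc, h]
  let E : IntermediateField p.ResidueField L :=
    (RingHom.eqLocusField α β).toIntermediateField (fun c => congr($hk c))
  have hE : E = ⊤ := hφ E (fun b => congr($h b))
  ext x
  have : x ∈ E := hE ▸ IntermediateField.mem_top
  exact this

end Groth.Agent.Helper15.EtPI
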