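import Groth.Agent.Lib.Helper15.EtNbhdPI1

set_option autoImplicit false
universe u v w
open Polynomial TensorProduct

namespace Groth.Agent.Helper15.EtPI

/-- Step A: an étale algebra `A₂` over `A` and a prime `ker ψ` of `A₂ ⊗ B` over `q = ker (B → K)`
whose residue field extension is purely inseparable (expressed via uniqueness of lifts). -/
theorem exists_etale_tensor_ker {A B : Type u} [CommRing A] [CommRing B] [Algebra A B]
    (p : Ideal A) [p.IsPrime] (K : Type v) [Field K] [Algebra A K] [Algebra B K]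
    [IsScalarTower A B K] [Algebra p.ResidueField K] [IsScalarTower A p.ResidueField K]
    [FiniteDimensional p.ResidueField K]
    (hK : ∀ x : K, ∃ b s : B, algebraMap B K s ≠ 0 ∧ x * algebraMap B K s = algebraMap B K b) :
    ∃ (A₂ : Type u) (_ : CommRing A₂) (_ : Algebra A A₂) (_ : Algebra.Etale A A₂)
      (ψ : A₂ ⊗[A] B →+* K),
      (∀ b : B, ψ (1 ⊗ₜ b) = algebraMap B K b) ∧
      ∀ (Ω : Type w) [Field Ω] (α β : A₂ ⊗[A] B →+* Ω), RingHom.ker α = RingHom.ker ψ →
        RingHom.ker β = RingHom.ker ψ →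
        α.comp (algebraMap A₂ (A₂ ⊗[A] B)) = β.comp (algebraMap A₂ (A₂ ⊗[A] B)) → α = β := by
  let L := separableClosure p.ResidueField K
  haveI : IsScalarTower A p.ResidueField L := inferInstance
  haveI : IsScalarTower A L K := IsScalarTower.of_algebraMap_eq (fun x => rfl)
  haveI : IsPurelyInseparable L K := separableClosure.isPurelyInseparable p.ResidueField K
  obtain ⟨P, φ, hφ⟩ := exists_etale_algHom_epi.{u, v, w} p L
  let f : P.Ring →ₐ[A] K := (IsScalarTower.toAlgHom A L K).comp φ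
  let g : B →ₐ[A] K := IsScalarTower.toAlgHom A B K
  let ψ : P.Ring ⊗[A] B →ₐ[A] K := Algebra.TensorProduct.productMap f g
  have hψ1 : ∀ x : P.Ring, ψ (x ⊗ₜ 1) = algebraMap L K (φ x) := fun x => by
    simp [ψ, f]
  have hψ2 : ∀ b : B, ψ (1 ⊗ₜ b) = algebraMap B K b := fun b => by
    simp [ψ, g]
  have hfrac : ∀ x : K, ∃ a s : P.Ring ⊗[A] B, ψ.toRingHom s ≠ 0 ∧
      x * ψ.toRingHom s = ψ.toRingHom a := by
    intro x
    obtain ⟨b, s, hs, hx⟩ := hK x
    exact ⟨1 ⊗ₜ b, 1 ⊗ₜ s, by simpa [hψ2] using hs, by simpa [hψ2] using hx⟩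
  refine ⟨P.Ring, inferInstance, inferInstance, inferInstance, ψ.toRingHom, hψ2, ?_⟩
  intro Ω _ α β hα hβ hαβ
  obtain ⟨α', rfl⟩ := exists_lift_of_ker_eq ψ.toRingHom hfrac α hα
  obtain ⟨β', rfl⟩ := exists_lift_of_ker_eq ψ.toRingHom hfrac β hβ
  have h1 : (α'.comp (algebraMap L K)).comp φ.toRingHom =
      (β'.comp (algebraMap L K)).comp φ.toRingHom := by
    ext x
    have := congr($hαβ x)
    simp only [RingHom.comp_apply, Algebra.TensorProduct.algebraMap_apply,
      Algebra.algebraMap_self, RingHom.id_apply] at this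
    simpa [hψ1] using this
  have h2 := hφ Ω _ _ h1
  have h3 : α' = β' := IsPurelyInseparable.injective_comp_algebraMap L K Ω h2
  rw [h3]

end Groth.Agent.Helper15.EtPI
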