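import Groth.Agent.Lib.Helper15.EtNbhdPI2

set_option autoImplicit false
universe u v w
open Polynomial TensorProduct CategoryTheory

namespace Groth.Agent.Helper15.EtPI

attribute [local instance] RingHom.ker_isPrime

/-- **Etale localization of quasi-finite algebras, purely inseparable form** (Stacks 02LK–02LN,
ring-theoretic version). -/
theorem exists_etale_finite_pi {A B : Type u} [CommRing A] [CommRing B] [Algebra A B]
    [Algebra.FiniteType A B]
    (p : Ideal A) [p.IsPrime] (q : Ideal B) [q.IsPrime] [q.LiesOver p]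
    [Algebra.QuasiFiniteAt A q] :
    ∃ (A' : Type u) (_ : CommRing A') (_ : Algebra A A') (_ : Algebra.Etale A A')
      (B' : Type u) (_ : CommRing B') (_ : Algebra A' B') (ι : B →+* B'),
      IsPushout (CommRingCat.ofHom (algebraMap A A')) (CommRingCat.ofHom (algebraMap A B))
        (CommRingCat.ofHom (algebraMap A' B')) (CommRingCat.ofHom ι) ∧
      ∃ (e : B') (_ : IsIdempotentElem e) (P' : Ideal B') (_ : P'.IsPrime),
        P'.comap ι = q ∧ e ∉ P' ∧ Module.Finite A' (Localization.Away e) ∧
        ∀ (Ω : Type u) [Field Ω] (α β : B' →+* Ω), α e ≠ 0 → β e ≠ 0 →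
          α.comp (algebraMap A' B') = β.comp (algebraMap A' B') →
          RingHom.ker (α.comp (algebraMap A' B')) = P'.comap (algebraMap A' B') → α = β := by
  letI := Localization.AtPrime.algebraOfLiesOver p q
  haveI : IsScalarTower A p.ResidueField q.ResidueField := inferInstance
  obtain ⟨A₂, _, _, _, ψ, hψ2, hPI⟩ :=
    exists_etale_tensor_ker.{u, u, u} (B := B) p q.ResidueField (residueField_frac q)
  set q₂ : Ideal (A₂ ⊗[A] B) := RingHom.ker ψ with hq₂
  have hq : q = q₂.comap Algebra.TensorProduct.includeRight.toRingHom := by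
    ext x
    simp only [Ideal.mem_comap, hq₂, RingHom.mem_ker]
    change _ ↔ ψ (1 ⊗ₜ x) = 0
    rw [hψ2, Ideal.algebraMap_residueField_eq_zero]
  haveI : Algebra.QuasiFiniteAt A₂ q₂ := Algebra.QuasiFiniteAt.baseChange q q₂ hq
  obtain ⟨A₃, _, _, _, P, _, _, e, he, P', _, _, hP'q₂, heP', -, hfin, huniq⟩ :=
    Algebra.exists_etale_isIdempotentElem_forall_liesOver_eq (q₂.under A₂) q₂
  letI : Algebra A A₃ := ((algebraMap A₂ A₃).comp (algebraMap A A₂)).toAlgebra
  haveI : IsScalarTower A A₂ A₃ := .of_algebraMap_eq' rfl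
  haveI : Algebra.Etale A A₃ := Algebra.Etale.comp A A₂ A₃
  refine ⟨A₃, inferInstance, inferInstance, inferInstance, A₃ ⊗[A₂] (A₂ ⊗[A] B), inferInstance,
    inferInstance, (Algebra.TensorProduct.includeRight (R := A₂) (A := A₃)
      (B := A₂ ⊗[A] B)).toRingHom.comp
      (Algebra.TensorProduct.includeRight (R := A) (A := A₂) (B := B)).toRingHom, ?_,
    e, he, P', inferInstance, ?_, heP', hfin, ?_⟩
  · have h1 := CommRingCat.isPushout_tensorProduct A A₂ B
    have h2 := CommRingCat.isPushout_tensorProduct A₂ A₃ (A₂ ⊗[A] B)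
    exact h1.paste_horiz h2
  · rw [← Ideal.comap_comap, hP'q₂, ← hq]
  · intro Ω _ α β hαe hβe hαβ hker
    have hkα : RingHom.ker α = P' := by
      refine huniq (RingHom.ker α) inferInstance ⟨?_⟩ hαe
      rw [P'.over_def P, Ideal.under, Ideal.under, ← hker, RingHom.comap_ker]
    have hkβ : RingHom.ker β = P' := by
      refine huniq (RingHom.ker β) inferInstance ⟨?_⟩ hβe
      rw [P'.over_def P, Ideal.under, Ideal.under, ← hker, hαβ, RingHom.comap_ker]
    have h3 : α.comp (Algebra.TensorProduct.includeRight (R := A₂) (A := A₃)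
        (B := A₂ ⊗[A] B)).toRingHom = β.comp (Algebra.TensorProduct.includeRight (R := A₂) (A := A₃)
        (B := A₂ ⊗[A] B)).toRingHom := by
      apply hPI Ω
      · rw [← RingHom.comap_ker, hkα, hP'q₂]
      · rw [← RingHom.comap_ker, hkβ, hP'q₂]
      · ext a
        have := congr($hαβ (algebraMap A₂ A₃ a))
        simp only [RingHom.comp_apply, Algebra.TensorProduct.algebraMap_apply,
          Algebra.algebraMap_self, RingHom.id_apply] at this ⊢
        have h4 : (1 : A₃) ⊗ₜ[A₂] (a ⊗ₜ[A] (1 : B)) = (algebraMap A₂ A₃ a) ⊗ₜ[A₂] (1 : A₂ ⊗[A] B) := by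
          rw [Algebra.algebraMap_eq_smul_one, TensorProduct.smul_tmul, Algebra.TensorProduct.one_def]
          congr 1
          rw [TensorProduct.smul_tmul', smul_eq_mul, mul_one]
        simpa [h4] using this
    refine tensor_ringHom_ext α β (fun s => ?_) (fun t => congr($h3 t))
    have := congr($hαβ s)
    simpa using this

end Groth.Agent.Helper15.EtPI
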