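import Groth.Agent.Lib.Helper15.EtNbhdPI3

set_option autoImplicit false
universe u
open CategoryTheory Limits AlgebraicGeometry TensorProduct

namespace Groth.Agent.Helper15.EtPI

set_option backward.defeqAttrib.useBackward true in
set_option backward.isDefEq.respectTransparency false in
/-- **Etale localization of quasi-finite morphisms, purely inseparable form** (Stacks 02LN). -/
theorem exists_etale_nbhd_finite_pi {U T : Scheme.{u}} (g : U ⟶ T) [LocallyOfFiniteType g]
    (u : U) (hu : g.QuasiFiniteAt u) :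
    ∃ (T' : Scheme.{u}) (e : T' ⟶ T) (V : Scheme.{u}) (q : V ⟶ U) (p : V ⟶ T')
      (w : q ≫ g = p ≫ e) (v : V),
      IsAffine T' ∧ IsAffine V ∧ Etale e ∧ IsOpenImmersion (pullback.lift q p w) ∧ IsFinite p ∧
      q v = u ∧
      ∀ (Ω : Type u) [Field Ω] (α β : Spec (.of Ω) ⟶ V), α ≫ p = β ≫ p →
        (∀ x, p (α x) = p v) → α = β := by
  obtain ⟨_, ⟨T₁, hT₁, rfl⟩, huT₁, -⟩ := T.isBasis_affineOpens.exists_subset_of_mem_open
    (Set.mem_univ (g u)) isOpen_univ
  obtain ⟨_, ⟨U₁, hU₁, rfl⟩, huU₁, hle : U₁ ≤ g ⁻¹ᵁ T₁⟩ :=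
    U.isBasis_affineOpens.exists_subset_of_mem_open huT₁ (g ⁻¹ᵁ T₁).2
  have : (g.appLE T₁ U₁ hle).hom.FiniteType := g.finiteType_appLE hT₁ hU₁ hle
  algebraize [(g.appLE T₁ U₁ hle).hom]
  have : (hU₁.primeIdealOf ⟨u, huU₁⟩).asIdeal.LiesOver (hT₁.primeIdealOf ⟨g u, huT₁⟩).asIdeal := by
    suffices hT₁.primeIdealOf ⟨g u, huT₁⟩ =
        Spec.map (g.appLE T₁ U₁ hle) (hU₁.primeIdealOf ⟨u, huU₁⟩) from ⟨congr(($this).1)⟩
    apply hT₁.isoSpec.inv.homeomorph.injective
    apply Subtype.ext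
    simp only [IsAffineOpen.primeIdealOf, Scheme.Hom.homeomorph_apply,
      ← Scheme.Hom.comp_apply, ← Scheme.Opens.ι_apply, IsAffineOpen.isoSpec_hom]
    simp
  have : Algebra.QuasiFiniteAt Γ(T, T₁) (hU₁.primeIdealOf ⟨u, huU₁⟩).asIdeal :=
    hu.quasiFiniteAt hU₁ hT₁ hle huU₁
  obtain ⟨A', _, _, _, B', _, _, ι, hpo, e, he, P', _, hP'q, heP', hfin, hGP⟩ :=
    exists_etale_finite_pi (hT₁.primeIdealOf ⟨g u, huT₁⟩).asIdeal
      (hU₁.primeIdealOf ⟨u, huU₁⟩).asIdeal
  let C := Localization.Away e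
  let φA : Γ(T, T₁) ⟶ .of A' := CommRingCat.ofHom (algebraMap Γ(T, T₁) A')
  have hφA : φA.hom.Etale := RingHom.etale_algebraMap.mpr ‹_›
  have : Etale (Spec.map φA) := HasRingHomProperty.Spec_iff.mpr hφA
  let jA : CommRingCat.of A' ⟶ .of B' := CommRingCat.ofHom (algebraMap A' B')
  let jB : Γ(U, U₁) ⟶ .of B' := CommRingCat.ofHom ι
  let lC : CommRingCat.of B' ⟶ .of C := CommRingCat.ofHom (algebraMap B' C)
  have hpb : IsPullback (Spec.map jB) (Spec.map jA) (Spec.map (g.appLE T₁ U₁ hle))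
      (Spec.map φA) :=
    (isPullback_SpecMap_of_isPushout _ _ _ _ hpo).flip
  let eT : Spec (.of A') ⟶ T := Spec.map φA ≫ hT₁.fromSpec
  let qV : Spec (.of C) ⟶ U := Spec.map lC ≫ Spec.map jB ≫ hU₁.fromSpec
  let pV : Spec (.of C) ⟶ Spec (.of A') := Spec.map lC ≫ Spec.map jA
  have w : qV ≫ g = pV ≫ eT := by
    simp only [qV, pV, eT, Category.assoc]
    rw [← IsAffineOpen.SpecMap_appLE_fromSpec g hT₁ hU₁ hle, hpb.w_assoc]
  have hPdisj : Disjoint (Submonoid.powers e : Set B') ↑P' := by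
    rw [Ideal.disjoint_powers_iff_notMem_of_isPrime]; exact heP'
  let P'C := P'.map (algebraMap B' C)
  have hP'Cprime : P'C.IsPrime :=
    IsLocalization.isPrime_of_isPrime_disjoint (.powers e) _ _ ‹_› hPdisj
  have hP'C : P'C.comap (algebraMap B' C) = P' :=
    IsLocalization.under_map_of_isPrime_disjoint (.powers e) _ ‹_› hPdisj
  let v : Spec (.of C) := ⟨P'C, hP'Cprime⟩
  refine ⟨Spec (.of A'), eT, Spec (.of C), qV, pV, w, v, inferInstance, inferInstance,
    inferInstance, ?_, ?_, ?_, ?_⟩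
  · have : pullback.lift qV pV w = Spec.map lC ≫ hpb.isoPullback.hom ≫
        pullback.map _ _ _ _ hU₁.fromSpec (𝟙 _) hT₁.fromSpec
          (IsAffineOpen.SpecMap_appLE_fromSpec g hT₁ hU₁ hle) (by simp [eT]) := by
      apply pullback.hom_ext <;> simp [qV, pV]
    rw [this]
    infer_instance
  · have : pV = Spec.map (CommRingCat.ofHom (algebraMap A' C)) := by
      simp only [pV, ← Spec.map_comp]
      congr 1
    rw [this, IsFinite.SpecMap_iff]
    exact RingHom.finite_algebraMap.mpr hfin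
  · have h1 : Spec.map jB (Spec.map lC v) = hU₁.primeIdealOf ⟨u, huU₁⟩ := by
      apply PrimeSpectrum.ext
      change (P'C.comap (algebraMap B' C)).comap ι = _
      rw [hP'C, hP'q]
    change hU₁.fromSpec (Spec.map jB (Spec.map lC v)) = u
    rw [h1, hU₁.fromSpec_primeIdealOf]
  · intro Ω _ α β hαβ hx
    obtain ⟨a, rfl⟩ := Spec.map_surjective α
    obtain ⟨b, rfl⟩ := Spec.map_surjective β
    have hab : jA ≫ lC ≫ a = jA ≫ lC ≫ b := by
      apply Spec.map_injective
      simpa [pV, Spec.map_comp] using hαβ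
    have hunit : IsUnit (algebraMap B' C e) := IsLocalization.Away.algebraMap_isUnit e
    have key : a.hom.comp (algebraMap B' C) = b.hom.comp (algebraMap B' C) := by
      apply hGP Ω
      · exact (hunit.map a.hom).ne_zero
      · exact (hunit.map b.hom).ne_zero
      · ext x
        exact congr($hab x)
      · have h1 := hx ⟨⊥, Ideal.isPrime_bot⟩
        have h2 := congr($(h1).asIdeal)
        change Ideal.comap (algebraMap A' B') (Ideal.comap (algebraMap B' C)
          (Ideal.comap a.hom ⊥)) = Ideal.comap (algebraMap A' B')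
            (Ideal.comap (algebraMap B' C) P'C) at h2
        rw [hP'C] at h2
        rw [← h2]
        rfl
    congr 1
    ext : 1
    exact IsLocalization.ringHom_ext (Submonoid.powers e) key

end Groth.Agent.Helper15.EtPI
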