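import Groth.Agent.Lib.Helper15.EtNbhdPI4

set_option autoImplicit false
universe u
open CategoryTheory Limits AlgebraicGeometry TensorProduct

namespace Groth.Agent.Helper15.EtPI

/-- **Lemma P**: local étale charts of a separated locally quasi-finite "equivalence relation" become
monomorphisms after an étale base change. -/
theorem exists_mono_chart {U T R : Scheme.{u}} (g : U ⟶ T) [LocallyOfFiniteType g]
    (s t : R ⟶ U) (hst : s ≫ g = t ≫ g) (δ : U ⟶ R) [IsOpenImmersion δ]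
    (hδs : δ ≫ s = 𝟙 U) (hδt : δ ≫ t = 𝟙 U)
    [IsClosedImmersion (pullback.lift s t hst)] (u : U) (hu : g.QuasiFiniteAt u) :
    ∃ (T' : Scheme.{u}) (e : T' ⟶ T) (V : Scheme.{u}) (q : V ⟶ U) (p : V ⟶ T')
      (w : q ≫ g = p ≫ e) (v : V),
      IsAffine T' ∧ Etale e ∧ IsOpenImmersion (pullback.lift q p w) ∧ q v = u ∧
      ∀ (Z : Scheme.{u}) (a b : Z ⟶ V) (ρ : Z ⟶ R), a ≫ p = b ≫ p → ρ ≫ s = a ≫ q →
        ρ ≫ t = b ≫ q → a = b := by
  obtain ⟨T', e, V₀, q₀, p₀, w₀, v₀, hT', -, he, hopen, hfin, hv₀, hGP⟩ :=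
    exists_etale_nbhd_finite_pi g u hu
  let r : R ⟶ pullback g g := pullback.lift s t hst
  let W := pullback p₀ p₀
  let pr₁ : W ⟶ V₀ := pullback.fst p₀ p₀
  let pr₂ : W ⟶ V₀ := pullback.snd p₀ p₀
  let π : W ⟶ T' := pr₁ ≫ p₀
  let m : W ⟶ pullback g g := pullback.lift (pr₁ ≫ q₀) (pr₂ ≫ q₀) (by
    rw [Category.assoc, Category.assoc, w₀, ← Category.assoc, ← Category.assoc, pullback.condition])
  have hδr : δ ≫ r = pullback.diagonal g := by
    apply pullback.hom_ext
    · simp only [r, Category.assoc, pullback.lift_fst, hδs, pullback.diagonal_fst]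
    · simp only [r, Category.assoc, pullback.lift_snd, hδt, pullback.diagonal_snd]
  -- the closed sets
  let C : Set R := (Set.range δ)ᶜ
  have hC : IsClosed C := (δ.isOpenEmbedding.isOpen_range).isClosed_compl
  let rC : Set ↥(pullback g g) := r '' C
  have hrC : IsClosed rC := r.isClosedEmbedding.isClosedMap _ hC
  let D : Set W := m ⁻¹' rC
  have hD : IsClosed D := hrC.preimage m.continuous
  let πD : Set T' := π '' D
  have hπD : IsClosed πD := π.isClosedMap _ hD
  have hnot : p₀ v₀ ∉ πD := by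
    rintro ⟨d, hd, hπd⟩
    let x₀ : Spec (W.residueField d) ⟶ W := W.fromSpecResidueField d
    let pt : Spec (W.residueField d) := IsLocalRing.closedPoint _
    have hpt : x₀ pt = d := Scheme.fromSpecResidueField_apply d pt
    have hαβ : x₀ ≫ pr₁ = x₀ ≫ pr₂ := by
      apply hGP (W.residueField d) (x₀ ≫ pr₁) (x₀ ≫ pr₂)
      · simp only [Category.assoc, pr₁, pr₂, pullback.condition]
      · intro x
        have hx : x₀ x = d := Scheme.fromSpecResidueField_apply d x
        rw [Scheme.Hom.comp_apply, hx, ← hπd]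
        rfl
    obtain ⟨c, hc, hcd⟩ := hd
    have hm : x₀ ≫ m = (x₀ ≫ pr₁ ≫ q₀) ≫ δ ≫ r := by
      rw [hδr]
      apply pullback.hom_ext
      · simp only [m, Category.assoc, pullback.lift_fst, pullback.diagonal_fst, Category.comp_id]
      · simp only [m, Category.assoc, pullback.lift_snd, pullback.diagonal_snd, Category.comp_id]
        rw [← Category.assoc, ← hαβ, Category.assoc]
    have h1 : m d = r (δ ((x₀ ≫ pr₁ ≫ q₀) pt)) := by
      have h0 : m (x₀ pt) = r (δ ((x₀ ≫ pr₁ ≫ q₀) pt)) := by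
        rw [← Scheme.Hom.comp_apply, hm]
        rfl
      rwa [hpt] at h0
    have h2 := r.isClosedEmbedding.injective (hcd.trans h1)
    exact hc ⟨_, h2.symm⟩
  let O : T'.Opens := ⟨πDᶜ, hπD.isOpen_compl⟩
  let VO : V₀.Opens := p₀ ⁻¹ᵁ O
  have wV : (VO.ι ≫ q₀) ≫ g = (VO.ι ≫ p₀) ≫ e := by
    rw [Category.assoc, Category.assoc, w₀]
  have hlift : pullback.lift (VO.ι ≫ q₀) (VO.ι ≫ p₀) wV = VO.ι ≫ pullback.lift q₀ p₀ w₀ := by
    apply pullback.hom_ext
    · rw [pullback.lift_fst, Category.assoc, pullback.lift_fst]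
    · rw [pullback.lift_snd, Category.assoc, pullback.lift_snd]
  have hopenV : IsOpenImmersion (pullback.lift (VO.ι ≫ q₀) (VO.ι ≫ p₀) wV) := by
    rw [hlift]; infer_instance
  refine ⟨T', e, VO.toScheme, VO.ι ≫ q₀, VO.ι ≫ p₀, wV, ⟨v₀, hnot⟩, hT', he, hopenV, hv₀, ?_⟩
  intro Z a b ρ hab hs ht
  have hsub : Set.range ρ ⊆ Set.range δ := by
    rintro _ ⟨z, rfl⟩
    by_contra hz
    let c : Z ⟶ W := pullback.lift (a ≫ VO.ι) (b ≫ VO.ι) (by simpa using hab)
    have hcm : c ≫ m = ρ ≫ r := by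
      apply pullback.hom_ext
      · simp only [c, m, r, pr₁, pr₂, Category.assoc, pullback.lift_fst,
          pullback.lift_fst_assoc, hs]
      · simp only [c, m, r, pr₁, pr₂, Category.assoc, pullback.lift_snd,
          pullback.lift_snd_assoc, ht]
    have hD' : c z ∈ D := ⟨ρ z, hz, by
      change (ρ ≫ r) z = (c ≫ m) z
      rw [hcm]⟩
    have hπ : π (c z) ∈ πD := ⟨c z, hD', rfl⟩
    have hmem : p₀ (VO.ι (a z)) ∈ O := (a z).2
    have h3 : π (c z) = p₀ (VO.ι (a z)) := by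
      change (c ≫ pr₁ ≫ p₀) z = (a ≫ VO.ι ≫ p₀) z
      simp only [c, pr₁, pullback.lift_fst_assoc, Category.assoc]
    exact hmem (h3 ▸ hπ)
  have hρ' : IsOpenImmersion.lift δ ρ hsub ≫ δ = ρ := IsOpenImmersion.lift_fac δ ρ hsub
  have hq : a ≫ VO.ι ≫ q₀ = b ≫ VO.ι ≫ q₀ := by
    rw [← hs, ← ht, ← hρ', Category.assoc, Category.assoc, hδs, hδt]
  rw [← cancel_mono (pullback.lift (VO.ι ≫ q₀) (VO.ι ≫ p₀) wV)]
  apply pullback.hom_ext
  · simp only [Category.assoc, pullback.lift_fst]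
    exact hq
  · simp only [Category.assoc, pullback.lift_snd]
    exact hab

end Groth.Agent.Helper15.EtPI
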