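import Groth.Agent.Lib.Helper15.Lcw15
import Groth.Agent.Lib.Helper15.NGeom2

/-!
# The constant function `1` is a weighting of an étale morphism
-/

set_option autoImplicit false
universe u
open CategoryTheory CategoryTheory.Limits AlgebraicGeometry

namespace Groth.Agent.Helper15.EtW

open Groth.Agent.Helper15.Wt Groth.Agent.Helper15.Lcw

theorem one_le_nPts {Z Y : Scheme.{u}} (g : Z ⟶ Y) [IsFinite g] (E : Set Z) (z : Z)
    (hz : z ∈ E) : 1 ≤ nPts g E (g z) := by
  have hfin : ∀ y, (g ⁻¹' {y}).Finite := fun y => Scheme.Hom.finite_preimage_singleton g y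
  have hfin' : ∀ y, (pullback.fst g g ⁻¹' {y}).Finite :=
    fun y => Scheme.Hom.finite_preimage_singleton _ y
  have h1 := nPts_fst_diag g E hfin z
  rw [if_pos hz] at h1
  have h2 := nPts_nonneg (pullback.fst g g)
    (pullback.snd g g ⁻¹' E \ Set.range (pullback.diagonal g)) hfin' z
  omega

theorem exists_nhd_nPts_eq : ∀ (k : ℕ) {Z Y : Scheme.{u}} (g : Z ⟶ Y) [IsFinite g] [Etale g]
    (E : Set Z), IsClopen E → ∀ y : Y, nPts g E y = (k : ℤ) →
    ∃ W : Set Y, IsOpen W ∧ y ∈ W ∧ ∀ y' ∈ W, nPts g E y' = (k : ℤ) := by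
  intro k
  induction k with
  | zero =>
    intro Z Y g _ _ E hE y hy
    have hfin : ∀ y, (g ⁻¹' {y}).Finite := fun y => Scheme.Hom.finite_preimage_singleton g y
    refine ⟨(g '' E)ᶜ, (g.isClosedMap _ hE.1).isOpen_compl, ?_, ?_⟩
    · rintro ⟨z, hz, rfl⟩
      have := one_le_nPts g E z hz
      rw [hy] at this
      norm_num at this
    · intro y' hy'
      by_contra hne
      have h0 := nPts_nonneg g E hfin y'
      have hpos : 0 < nPts g E y' := lt_of_le_of_ne h0 (fun h => hne (by rw [← h]; rfl))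
      obtain ⟨z, hzE, rfl⟩ := exists_mem_of_nPts_pos g E hfin y' hpos
      exact hy' ⟨z, hzE, rfl⟩
  | succ k ih =>
    intro Z Y g _ _ E hE y hy
    have hfin : ∀ y, (g ⁻¹' {y}).Finite := fun y => Scheme.Hom.finite_preimage_singleton g y
    have hpos : 0 < nPts g E y := by rw [hy]; positivity
    obtain ⟨z, hzE, rfl⟩ := exists_mem_of_nPts_pos g E hfin y hpos
    haveI : IsClosedImmersion (pullback.diagonal g) := inferInstance
    haveI : IsOpenImmersion (pullback.diagonal g) := inferInstance
    have hΔ : IsClopen (Set.range (pullback.diagonal g)) :=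
      ⟨(pullback.diagonal g).isClosedEmbedding.isClosed_range,
        (pullback.diagonal g).isOpenEmbedding.isOpen_range⟩
    have hE' : IsClopen (pullback.snd g g ⁻¹' E \ Set.range (pullback.diagonal g)) :=
      (hE.preimage (pullback.snd g g).continuous).diff hΔ
    have hk : nPts (pullback.fst g g)
        (pullback.snd g g ⁻¹' E \ Set.range (pullback.diagonal g)) z = (k : ℤ) := by
      rw [nPts_fst_diag g E hfin z, if_pos hzE, hy]
      push_cast
      ring
    obtain ⟨W', hW'o, hzW', hW'⟩ := ih (pullback.fst g g) _ hE' z hk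
    refine ⟨g '' (W' ∩ E), g.isOpenMap _ (hW'o.inter hE.2), ⟨z, ⟨hzW', hzE⟩, rfl⟩, ?_⟩
    rintro _ ⟨z', ⟨hz'W, hz'E⟩, rfl⟩
    have h1 := nPts_fst_diag g E hfin z'
    rw [if_pos hz'E, hW' z' hz'W] at h1
    push_cast
    omega

/-- For a finite étale morphism the number of geometric points of the fibres is locally
constant. -/
theorem isLocallyConstant_fibreIntegral_one {U V : Scheme.{u}} (π : U ⟶ V) [IsFinite π]
    [Etale π] : IsLocallyConstant (MoreMor.fibreIntegral π (fun _ => 1)) := by
  classical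
  have hfin : ∀ y, (π ⁻¹' {y}).Finite := fun y => Scheme.Hom.finite_preimage_singleton π y
  have hnP : MoreMor.fibreIntegral π (fun _ => 1) = nPts π Set.univ := by
    funext v
    unfold nPts
    simp only [Set.mem_univ, if_true]
  rw [hnP, IsLocallyConstant.iff_exists_open]
  intro v
  have h0 := nPts_nonneg π Set.univ hfin v
  obtain ⟨k, hk⟩ := Int.eq_ofNat_of_zero_le h0
  obtain ⟨W, hWo, hvW, hW⟩ := exists_nhd_nPts_eq k π Set.univ isClopen_univ v hk
  exact ⟨W, hWo, hvW, fun v' hv' => by rw [hW v' hv', hk]⟩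

/-- The constant function `1` is a weighting of every étale morphism. -/
theorem isWeighting_one {X Y : Scheme.{u}} (f : X ⟶ Y) [Etale f] :
    MoreMor.IsWeighting f (fun _ => 1) := by
  intro V g _ U hU
  haveI := hU
  exact isLocallyConstant_fibreIntegral_one (U.ι ≫ pullback.snd f g)

end Groth.Agent.Helper15.EtW
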