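import Groth.Agent.Lib.Helper15.EtW1
import Mathlib.RingTheory.Unramified.LocalStructure
import Mathlib.AlgebraicGeometry.Morphisms.FormallyUnramified

/-!
# Geometric fibre cardinalities of étale separated morphisms
-/

set_option autoImplicit false
universe u
open CategoryTheory CategoryTheory.Limits AlgebraicGeometry

namespace Groth.Agent.Helper15.EtW

open Groth.Agent.Helper15.Wt Groth.Agent.Helper15.Lcw Groth.Agent.Helper15.NGeom

variable {X Y : Scheme.{u}}

/-- Etale morphisms are locally quasi-finite. -/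
theorem lqf_of_etale (f : X ⟶ Y) [Etale f] : LocallyQuasiFinite f := by
  rw [HasRingHomProperty.iff_appLE (P := @LocallyQuasiFinite)]
  intro U V e
  have h1 := HasRingHomProperty.appLE @FormallyUnramified f inferInstance U V e
  have h2 := HasRingHomProperty.appLE @LocallyOfFiniteType f inferInstance U V e
  algebraize [(f.appLE U V e).hom]
  change Algebra.QuasiFinite Γ(Y, U.1) Γ(X, V.1)
  infer_instance

theorem card_geomFiber_eq (f : X ⟶ Y) [LocallyQuasiFinite f] [QuasiCompact f] (y : Y) :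
    ∃ n : ℕ, ENat.card (MoreMor.geomFiber f y) = (n : ℕ∞) ∧
      MoreMor.fibreIntegral f (fun _ => 1) y = (n : ℤ) := by
  obtain ⟨Ω, _, _, vb, rfl⟩ := exists_geomPt y
  refine ⟨Nat.card (Lifts f vb), ?_, ?_⟩
  · rw [← nGeomConnComp_eq_card_geomFiber, nGeomConnComp_eq_card_lifts]
  · exact (card_lifts_eq_fibreIntegral f vb (Scheme.Hom.finite_preimage_singleton f _)).symm

theorem card_geomFiber_eq_iff (f : X ⟶ Y) [LocallyQuasiFinite f] [QuasiCompact f] (y y' : Y) :
    ENat.card (MoreMor.geomFiber f y) = ENat.card (MoreMor.geomFiber f y') ↔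
      MoreMor.fibreIntegral f (fun _ => 1) y = MoreMor.fibreIntegral f (fun _ => 1) y' := by
  obtain ⟨n, h1, h2⟩ := card_geomFiber_eq f y
  obtain ⟨n', h1', h2'⟩ := card_geomFiber_eq f y'
  rw [h1, h1', h2, h2']
  constructor
  · intro h
    have : n = n' := by exact_mod_cast h
    rw [this]
  · intro h
    have : n = n' := by exact_mod_cast h
    rw [this]

/-- Étale base changes are open: the hypothesis of `lsc_and_proper`. -/
theorem etale_H (f : X ⟶ Y) [Etale f] (y₀ : Y) :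
    ∀ (T E : Scheme.{u}) (g : T ⟶ Y) (p₁ : E ⟶ X) (p₂ : E ⟶ T), Etale g →
      IsPullback p₁ p₂ f g → ∀ p : E, g (p₂ p) = y₀ → ∀ U : E.Opens, p ∈ U →
        p₂ '' (U : Set E) ∈ nhds (p₂ p) := by
  intro T E g p₁ p₂ _ sq p _ U hpU
  haveI : Etale p₂ := MorphismProperty.of_isPullback (P := @Etale) sq inferInstance
  exact (p₂.isOpenMap _ U.2).mem_nhds ⟨p, hpU, rfl⟩

theorem lsc_card_geomFiber (f : X ⟶ Y) [Etale f] [IsSeparated f] [LocallyOfFiniteType f]
    [QuasiCompact f] :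
    LowerSemicontinuous (fun y : Y => ENat.card ↥(MoreMor.geomFiber f y)) := by
  haveI := lqf_of_etale f
  intro y₀ a ha
  obtain ⟨O, hyO, hO⟩ := (lsc_and_proper f y₀ (etale_H f y₀)).1
  filter_upwards [O.2.mem_nhds hyO] with z hz
  have := hO z hz
  rw [nGeomConnComp_eq_card_geomFiber, nGeomConnComp_eq_card_geomFiber] at this
  exact lt_of_lt_of_le ha this

theorem exists_finite_nhd (f : X ⟶ Y) [Etale f] [IsSeparated f] [LocallyOfFiniteType f]
    [QuasiCompact f] (y : Y) (U : Y.Opens) (hy : y ∈ U)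
    (hU : ∀ y' : Y, y' ∈ U →
      ENat.card ↥(MoreMor.geomFiber f y') = ENat.card ↥(MoreMor.geomFiber f y)) :
    ∃ U' : Y.Opens, y ∈ U' ∧ IsFinite (f ∣_ U') := by
  haveI := lqf_of_etale f
  obtain ⟨U', hyU', hprop⟩ := (lsc_and_proper f y (etale_H f y)).2
    ⟨U, U.2.mem_nhds hy, fun z hz => by
      rw [nGeomConnComp_eq_card_geomFiber, nGeomConnComp_eq_card_geomFiber]; exact hU z hz⟩
  haveI := hprop
  exact ⟨U', hyU', IsFinite.of_isProper_of_locallyQuasiFinite _⟩

theorem fibreIntegral_restrict (f : X ⟶ Y) [LocallyQuasiFinite f] [QuasiCompact f]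
    (U : Y.Opens) (w : U) :
    MoreMor.fibreIntegral (f ∣_ U) (fun _ => 1) w = MoreMor.fibreIntegral f (fun _ => 1) w.1 :=
  fibreIntegral_baseChange f (fun v => Scheme.Hom.finite_preimage_singleton f v) (f ∣_ U)
    (f ⁻¹ᵁ U).ι U.ι (isPullback_morphismRestrict f U).flip (fun _ => 1) w

theorem exists_const_nhd (f : X ⟶ Y) [Etale f] [IsSeparated f] [LocallyOfFiniteType f]
    [QuasiCompact f] (y : Y) (U : Y.Opens) (hy : y ∈ U) (hU : IsFinite (f ∣_ U)) :
    ∃ U' : Y.Opens, y ∈ U' ∧ ∀ y' : Y, y' ∈ U' →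
      ENat.card ↥(MoreMor.geomFiber f y') = ENat.card ↥(MoreMor.geomFiber f y) := by
  haveI := hU
  haveI := lqf_of_etale f
  have hlc := isLocallyConstant_fibreIntegral_one (f ∣_ U)
  obtain ⟨W, hWo, hyW, hW⟩ := (IsLocallyConstant.iff_exists_open _).1 hlc ⟨y, hy⟩
  refine ⟨⟨U.ι '' W, U.ι.isOpenMap _ hWo⟩, ⟨⟨y, hy⟩, hyW, rfl⟩, ?_⟩
  rintro _ ⟨w, hw, rfl⟩
  rw [card_geomFiber_eq_iff]
  have h1 := fibreIntegral_restrict f U w
  have h2 := fibreIntegral_restrict f U ⟨y, hy⟩
  have h3 := hW w hw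
  rw [h1, h2] at h3
  exact h3

end Groth.Agent.Helper15.EtW
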