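import Mathlib
import Groth.Agent.Lib.Helper15.QcLocal
import Groth.Agent.Lib.Helper15.AlgSpGlue
import Groth.Agent.Lib.Helper15.AlgSpUnram
import Groth.Agent.Lib.Helper16.AlgSp.LfpSp

/-!
# Algebraic spaces etale over a field are schemes
-/

set_option autoImplicit false
universe u
open CategoryTheory CategoryTheory.Limits AlgebraicGeometry Opposite MorphismProperty
open AlgSp

namespace Groth.Agent.Helper15.EtaleOverField

open Groth.Agent.Helper15 Groth.Agent.Helper15.QsDecent Groth.Agent.Helper15.QcEtDecent
  Groth.Agent.Helper15.MonoPtFibre Groth.Agent.Helper15.QcLocal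

variable {S : Scheme.{u}}

/-- Etaleness of a morphism from a scheme to an algebraic space descends along an etale
surjective morphism of schemes on the source. -/
theorem repWith_etale_of_comp_etale_surjective {X : Sp S} (hX : IsAlgSpace X) {T T₀ : Over S}
    (x₀ : (yon S).obj T₀ ⟶ X) (c₀ : T ⟶ T₀) (hce : Etale c₀.left) (hcs : Surjective c₀.left)
    (h : RepWith @Etale ((yon S).map c₀ ≫ x₀)) : RepWith @Etale x₀ := by
  have hrep : Representable x₀ := hX.representable_from_yon _
  refine ⟨hrep, fun V W₀ g fst snd sq => ?_⟩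
  obtain ⟨r₁', rfl⟩ := (yon S).map_surjective fst
  have sqW := h.rep.isPullback' g
  haveI he : Etale (h.rep.snd g).left := h.property_snd g
  obtain ⟨m, hm, sqm⟩ := exists_factor_isPullback x₀ c₀ g _ _ sqW r₁' snd sq
  have sqL := sqm.map (Over.forget S)
  have hme : Etale m.left := MorphismProperty.of_isPullback (P := @Etale) sqL.flip hce
  have hms : Surjective m.left := MorphismProperty.of_isPullback (P := @Surjective) sqL.flip hcs
  refine Groth.Agent.Helper16.AS.srcEtLoc_etale m.left snd.left hme hms ?_
  rw [← Over.comp_left, hm]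
  exact he

/-- A point of an algebraic space etale over a field has an open neighbourhood which is the
spectrum of a field. -/
theorem exists_open_fieldPt_of_etale_over_field {X : Sp S} (hX : IsAlgSpace X) (k : Type u)
    [Field k] (str : Spec (CommRingCat.of k) ⟶ S) (f : X ⟶ (yon S).obj (Over.mk str))
    (hf : IsEtaleMor f) {U : Over S} (a : (yon S).obj U ⟶ X) (hae : RepWith @Etale a)
    (u : U.left) :
    ∃ p : FieldPt X, Points.mk p = Points.ofPt a u ∧ RepWith @IsOpenImmersion p.toHom := by
  obtain ⟨ψ, hψ⟩ := (yon S).map_surjective (a ≫ f)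
  have hψe : Etale ψ.left := (repWith_yon_map_iff _ ψ).1 (by rw [hψ]; exact hf a hae)
  let h : U.left ⟶ Spec (CommRingCat.of k) := ψ.left
  haveI : Etale h := hψe
  haveI : Mono (iota a u).left := inferInstance
  haveI hιo : IsOpenImmersion (iota a u).left :=
    isOpenImmersion_of_mono_to_etale_over_field (iota a u).left h
  have hq'e : RepWith @Etale (FieldPt.ofPt a u).toHom := by
    rw [toHom_ofPt_eq]
    exact (RepWith @Etale).comp_mem _ _ ((repWith_yon_map_iff _ (iota a u)).2 inferInstance) hae
  -- the kernel pair over `Spec k`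
  let c : (FieldPt.ofPt a u).pt ⟶ Over.mk str := iota a u ≫ ψ
  have hc : (yon S).map c = (FieldPt.ofPt a u).toHom ≫ f := by
    rw [toHom_ofPt_eq, Category.assoc, ← hψ, ← Functor.map_comp]
  have hce : Etale c.left := by
    change Etale ((iota a u).left ≫ ψ.left)
    infer_instance
  have sqY₀ : IsPullback (pullback.fst c c) (pullback.snd c c) c c := IsPullback.of_hasPullback _ _
  have sqY := sqY₀.map (yon S)
  have sqL := sqY₀.map (Over.forget S)
  haveI haff : IsAffine (FieldPt.ofPt a u).pt.left :=
    (inferInstance : IsAffine (Spec (CommRingCat.of (FieldPt.ofPt a u).K)))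
  haveI : IsAffine ((Over.forget S).obj (FieldPt.ofPt a u).pt) := haff
  haveI : IsAffine ((Over.forget S).obj (Over.mk str)) :=
    (inferInstance : IsAffine (Spec (CommRingCat.of k)))
  haveI : IsAffine (pullback c c).left := IsAffine.of_isIso sqL.isoPullback.hom
  let h' : (pullback c c).left ⟶ Spec (CommRingCat.of (FieldPt.ofPt a u).K) :=
    (pullback.fst c c).left
  haveI : Etale h' := MorphismProperty.of_isPullback (P := @Etale) sqL.flip hce
  haveI : Finite (pullback c c).left := ValExist.finite_of_compact_etale_over_field h'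
  -- the kernel pair over `X`
  have sq := hq'e.rep.isPullback' (FieldPt.ofPt a u).toHom
  have hs : Etale (hq'e.rep.fst' (FieldPt.ofPt a u).toHom).left :=
    etale_kernelPair_ofPt a hae u _ _ sq
  haveI : Finite (hq'e.rep.pullback (FieldPt.ofPt a u).toHom).left :=
    finite_pullback_of_finite_comp f _ _ _ _ sq _ _ _ _ hc hc sqY
  have hqc : QuasiCompact (hq'e.rep.fst' (FieldPt.ofPt a u).toHom).left :=
    (HasAffineProperty.iff_of_isAffine (P := @QuasiCompact)).2
      (inferInstance : CompactSpace (hq'e.rep.pullback (FieldPt.ofPt a u).toHom).left)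
  obtain ⟨p, c₀, hc₀, hm, hc₀e, hc₀s⟩ :=
    GpdGeom.exists_mono_fieldPt_of_etale_qc (FieldPt.ofPt a u) _ _ sq hs hqc
  have hpq' : Points.mk p = Points.mk (FieldPt.ofPt a u) := by
    rw [← Points.ofPt_toHom (FieldPt.ofPt a u) (IsLocalRing.closedPoint _), ← hc₀,
      ofPt_comp_yon_map, Points.ofPt_toHom]
  refine ⟨p, hpq', ?_⟩
  have hpe : RepWith @Etale p.toHom :=
    repWith_etale_of_comp_etale_surjective hX p.toHom c₀ hc₀e hc₀s (by rw [hc₀]; exact hq'e)
  haveI := hm
  exact repWith_isOpenImmersion_of_etale_mono p.toHom hpe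

/-- An algebraic space etale over the spectrum of a field is a scheme. -/
theorem isRepresentable_of_etale_over_field {X : Sp S} (hX : IsAlgSpace X) (k : Type u)
    [Field k] (str : Spec (CommRingCat.of k) ⟶ S) (f : X ⟶ (yon S).obj (Over.mk str))
    (hf : IsEtaleMor f) : X.obj.IsRepresentable := by
  obtain ⟨U, a, hae, has⟩ := hX.atlas
  have h1 : ∀ u : U.left, ∃ p : FieldPt X, Points.mk p = Points.ofPt a u ∧
      RepWith @IsOpenImmersion p.toHom :=
    fun u => exists_open_fieldPt_of_etale_over_field hX k str f hf a hae u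
  choose p hp hpo using h1
  obtain ⟨V₀, e, -, -, -, -⟩ := exists_rep_of_openCover (U := fun u => (p u).pt)
    (a := fun u => (p u).toHom) hpo (fun x => by
      obtain ⟨u, rfl⟩ := surjective_ofPt a has x
      refine ⟨u, Points.ofScheme _ (IsLocalRing.closedPoint (p u).K), ?_⟩
      rw [← Points.ofPt_eq_map_ofScheme, Points.ofPt_toHom, hp u])
  exact ⟨⟨V₀, ⟨representableByOfIso e⟩⟩⟩

end Groth.Agent.Helper15.EtaleOverField
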