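import Mathlib
import Groth.Agent.Lib.Helper7.ProjLocal

set_option autoImplicit false
set_option linter.unusedSectionVars false
universe u
open TensorProduct

namespace Groth.Agent.Helper15.FSm

section Basic

variable {A C : Type u} [CommRing A] [CommRing C] [Algebra A C] (I : Ideal A) (π : C →+* A ⧸ I)

/-- The abstract local lifting property of `C` (the ring of the first order neighbourhood of a
section) over `A`, for test rings over `A[1/g]`. -/
def LP (g : A) : Prop :=
  ∀ (D D' : Type u) [CommRing D] [CommRing D'] (β : A →+* D) (κ : D →+* D') (𝔡 : Ideal D)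
    (ρ : C →+* D'),
    Function.Surjective κ → IsUnit (β g) → 𝔡 ^ 2 = ⊥ → RingHom.ker κ ≤ 𝔡 →
    ρ.comp (algebraMap A C) = κ.comp β → (∀ k ∈ RingHom.ker π, ρ k ∈ 𝔡.map κ) →
    ∃ ρ' : C →+* D, κ.comp ρ' = ρ ∧ ρ'.comp (algebraMap A C) = β

variable {I π}
variable (hπ : π.comp (algebraMap A C) = Ideal.Quotient.mk I)
variable (hK : RingHom.ker π ^ 2 = ⊥)

include hπ in
theorem pi_algebraMap (a : A) : π (algebraMap A C a) = Ideal.Quotient.mk I a :=
  RingHom.congr_fun hπ a

theorem exists_lift (c : C) : ∃ a : A, Ideal.Quotient.mk I a = π c :=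
  Ideal.Quotient.mk_surjective (π c)

include hπ in
theorem sub_mem_ker (c : C) (a : A) (h : Ideal.Quotient.mk I a = π c) :
    c - algebraMap A C a ∈ RingHom.ker π := by
  rw [RingHom.mem_ker, map_sub, pi_algebraMap hπ, h, sub_self]

include hK in
theorem mul_eq_zero_of_mem_ker {k k' : C} (hk : k ∈ RingHom.ker π) (hk' : k' ∈ RingHom.ker π) :
    k * k' = 0 := by
  have : k * k' ∈ RingHom.ker π ^ 2 := by
    rw [sq]; exact Ideal.mul_mem_mul hk hk'
  rwa [hK, Ideal.mem_bot] at this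

include hπ in
theorem algebraMap_mem_ker {x : A} (hx : x ∈ I) : algebraMap A C x ∈ RingHom.ker π := by
  rw [RingHom.mem_ker, pi_algebraMap hπ, Ideal.Quotient.eq_zero_iff_mem]
  exact hx

include hπ hK in
theorem mul_eq_algebraMap_mul (c : C) (a : A) (h : Ideal.Quotient.mk I a = π c) {k : C}
    (hk : k ∈ RingHom.ker π) : c * k = algebraMap A C a * k := by
  have := mul_eq_zero_of_mem_ker hK (sub_mem_ker hπ c a h) hk
  rw [sub_mul, sub_eq_zero] at this
  exact this

include hπ hK in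
theorem exists_of_mem_map {y : C} (hy : y ∈ I.map (algebraMap A C)) :
    ∃ x ∈ I, algebraMap A C x = y := by
  induction hy using Submodule.span_induction with
  | mem y hy =>
    obtain ⟨x, hx, rfl⟩ := hy
    exact ⟨x, hx, rfl⟩
  | zero => exact ⟨0, I.zero_mem, map_zero _⟩
  | add _ _ _ _ hy hz =>
    obtain ⟨x, hx, rfl⟩ := hy
    obtain ⟨x', hx', rfl⟩ := hz
    exact ⟨x + x', I.add_mem hx hx', map_add _ _ _⟩
  | smul c _ _ hy =>
    obtain ⟨x, hx, rfl⟩ := hy
    obtain ⟨a, ha⟩ := exists_lift (π := π) c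
    refine ⟨a * x, I.mul_mem_left a hx, ?_⟩
    rw [map_mul, smul_eq_mul, mul_eq_algebraMap_mul hπ hK c a ha (algebraMap_mem_ker hπ hx)]


/-- `C̄ = C / I C`. -/
abbrev Cbar (I : Ideal A) (C : Type u) [CommRing C] [Algebra A C] : Type u :=
  C ⧸ I.map (algebraMap A C)

include hπ in
theorem map_le_ker : I.map (algebraMap A C) ≤ RingHom.ker π := by
  rw [Ideal.map_le_iff_le_comap]
  intro x hx
  exact algebraMap_mem_ker hπ hx

/-- the augmentation `C̄ → A/I`. -/
noncomputable def piBar : Cbar I C →+* A ⧸ I :=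
  Ideal.Quotient.lift (I.map (algebraMap A C)) π (fun y hy => map_le_ker hπ hy)

@[simp]
theorem piBar_mk (c : C) : piBar hπ (Ideal.Quotient.mk _ c) = π c := rfl

theorem algebraMap_mk (a : A) : algebraMap (A ⧸ I) (Cbar I C) (Ideal.Quotient.mk I a) =
    Ideal.Quotient.mk _ (algebraMap A C a) := rfl

@[simp]
theorem piBar_algebraMap (r : A ⧸ I) : piBar hπ (algebraMap (A ⧸ I) (Cbar I C) r) = r := by
  obtain ⟨a, rfl⟩ := Ideal.Quotient.mk_surjective r
  rw [algebraMap_mk, piBar_mk, pi_algebraMap hπ]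

/-- the conormal module `Q`, as an ideal of `C̄`. -/
noncomputable def Q : Ideal (Cbar I C) := RingHom.ker (piBar hπ)

theorem mem_Q {x : Cbar I C} : x ∈ Q hπ ↔ piBar hπ x = 0 := RingHom.mem_ker

theorem mk_mem_Q {c : C} : Ideal.Quotient.mk _ c ∈ Q hπ ↔ c ∈ RingHom.ker π := by
  rw [mem_Q, piBar_mk, RingHom.mem_ker]

include hK in
theorem Q_mul_eq_zero {x y : Cbar I C} (hx : x ∈ Q hπ) (hy : y ∈ Q hπ) : x * y = 0 := by
  obtain ⟨c, rfl⟩ := Ideal.Quotient.mk_surjective x
  obtain ⟨c', rfl⟩ := Ideal.Quotient.mk_surjective y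
  rw [mk_mem_Q] at hx hy
  rw [← map_mul, mul_eq_zero_of_mem_ker hK hx hy, map_zero]

/-- the "derivation" `d : C̄ → Q`, `x ↦ x - ι (π̄ x)`. -/
noncomputable def dQ : Cbar I C →ₗ[A ⧸ I] Q hπ where
  toFun x := ⟨x - algebraMap (A ⧸ I) (Cbar I C) (piBar hπ x), by
    rw [mem_Q, map_sub, piBar_algebraMap, sub_self]⟩
  map_add' x y := by
    apply Subtype.ext
    simp only [map_add, Submodule.coe_add]
    ring
  map_smul' r x := by
    apply Subtype.ext
    simp only [Algebra.smul_def, map_mul, piBar_algebraMap, RingHom.id_apply,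
      Submodule.coe_smul_of_tower]
    ring

@[simp]
theorem dQ_coe (x : Cbar I C) :
    ((dQ hπ x : Q hπ) : Cbar I C) = x - algebraMap (A ⧸ I) (Cbar I C) (piBar hπ x) := rfl

theorem dQ_of_mem (q : Q hπ) : dQ hπ (q : Cbar I C) = q := by
  apply Subtype.ext
  rw [dQ_coe, (mem_Q hπ).mp q.2, map_zero, sub_zero]

theorem dQ_algebraMap (r : A ⧸ I) : dQ hπ (algebraMap (A ⧸ I) (Cbar I C) r) = 0 := by
  apply Subtype.ext
  rw [dQ_coe, piBar_algebraMap, sub_self]
  rfl

include hK in
theorem dQ_mul (x y : Cbar I C) :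
    dQ hπ (x * y) = piBar hπ x • dQ hπ y + piBar hπ y • dQ hπ x := by
  apply Subtype.ext
  have h := Q_mul_eq_zero hπ hK (dQ hπ x).2 (dQ hπ y).2
  simp only [dQ_coe] at h
  simp only [dQ_coe, Submodule.coe_add, Submodule.coe_smul_of_tower, Algebra.smul_def, map_mul]
  linear_combination h


theorem dQ_one : dQ hπ (1 : Cbar I C) = 0 := by
  have := dQ_algebraMap hπ (1 : A ⧸ I)
  rwa [map_one] at this

theorem dQ_mk_algebraMap (a : A) : dQ hπ (Ideal.Quotient.mk _ (algebraMap A C a)) = 0 := by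
  rw [← algebraMap_mk, dQ_algebraMap]

/-- the ring map `C̄ → S ⊕ (S ⊗ Q)` for an `A/I`-algebra `S`. -/
noncomputable def rhoBar (S : Type u) [CommRing S] [Algebra (A ⧸ I) S] :
    Cbar I C →+* TrivSqZeroExt S (S ⊗[A ⧸ I] Q hπ) where
  toFun x := TrivSqZeroExt.inl (algebraMap (A ⧸ I) S (piBar hπ x)) +
    TrivSqZeroExt.inr ((1 : S) ⊗ₜ[A ⧸ I] dQ hπ x)
  map_one' := by
    rw [dQ_one, map_one, map_one, TensorProduct.tmul_zero, TrivSqZeroExt.inr_zero, add_zero,
      TrivSqZeroExt.inl_one]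
  map_mul' x y := by
    apply TrivSqZeroExt.ext
    · simp [TrivSqZeroExt.fst_mul]
    · simp only [TrivSqZeroExt.snd_add, TrivSqZeroExt.snd_inl, TrivSqZeroExt.snd_inr, zero_add,
        TrivSqZeroExt.snd_mul, TrivSqZeroExt.fst_add, TrivSqZeroExt.fst_inl,
        TrivSqZeroExt.fst_inr, add_zero, op_smul_eq_smul]
      rw [dQ_mul hπ hK, TensorProduct.tmul_add, TensorProduct.tmul_smul, TensorProduct.tmul_smul,
        TensorProduct.smul_tmul', TensorProduct.smul_tmul', TensorProduct.smul_tmul',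
        TensorProduct.smul_tmul', smul_eq_mul, smul_eq_mul, mul_one, mul_one,
        Algebra.smul_def, Algebra.smul_def, mul_one, mul_one]
  map_zero' := by
    rw [map_zero, map_zero, map_zero, TensorProduct.tmul_zero, TrivSqZeroExt.inr_zero, add_zero,
      TrivSqZeroExt.inl_zero]
  map_add' x y := by
    rw [map_add, map_add, map_add, TensorProduct.tmul_add, TrivSqZeroExt.inl_add,
      TrivSqZeroExt.inr_add]
    abel

theorem rhoBar_apply (S : Type u) [CommRing S] [Algebra (A ⧸ I) S] (x : Cbar I C) :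
    rhoBar hπ hK S x = TrivSqZeroExt.inl (algebraMap (A ⧸ I) S (piBar hπ x)) +
      TrivSqZeroExt.inr ((1 : S) ⊗ₜ[A ⧸ I] dQ hπ x) := rfl


include hK in
/-- **Local projectivity** of the conormal module from the local lifting property. -/
theorem projective_tensor_of_LP (g : A) (hg : LP I π g) :
    Module.Projective (Localization.Away (Ideal.Quotient.mk I g))
      (Localization.Away (Ideal.Quotient.mk I g) ⊗[A ⧸ I] Q hπ) := by
  let S := Localization.Away (Ideal.Quotient.mk I g)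
  let P := S ⊗[A ⧸ I] Q hπ
  let E := P →₀ S
  let p : E →ₗ[S] P := Finsupp.linearCombination S id
  have hp : Function.Surjective p := Finsupp.linearCombination_id_surjective S P
  let κ : TrivSqZeroExt S E →+* TrivSqZeroExt S P := (TrivSqZeroExt.map p).toRingHom
  let β : A →+* TrivSqZeroExt S E :=
    (TrivSqZeroExt.inlHom S E).comp ((algebraMap (A ⧸ I) S).comp (Ideal.Quotient.mk I))
  let ρ : C →+* TrivSqZeroExt S P := (rhoBar hπ hK S).comp (Ideal.Quotient.mk _)
  have hκ : ∀ x, κ x = TrivSqZeroExt.map p x := fun _ => rfl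
  have hβ : ∀ a, β a = TrivSqZeroExt.inl (algebraMap (A ⧸ I) S (Ideal.Quotient.mk I a)) :=
    fun _ => rfl
  have hρ : ∀ c, ρ c = rhoBar hπ hK S (Ideal.Quotient.mk _ c) := fun _ => rfl
  have hc1 : Function.Surjective κ := by
    intro y
    obtain ⟨e, he⟩ := hp y.snd
    refine ⟨TrivSqZeroExt.inl y.fst + TrivSqZeroExt.inr e, ?_⟩
    rw [hκ, map_add, TrivSqZeroExt.map_inl, TrivSqZeroExt.map_inr, he,
      TrivSqZeroExt.inl_fst_add_inr_snd_eq]
  have hc2 : IsUnit (β g) := by
    rw [hβ, TrivSqZeroExt.isUnit_inl_iff]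
    exact IsLocalization.Away.algebraMap_isUnit _
  have hc3 : RingHom.ker κ ≤ TrivSqZeroExt.kerIdeal S E := by
    intro x hx
    rw [RingHom.mem_ker, hκ] at hx
    have : (TrivSqZeroExt.map p x).fst = 0 := by rw [hx, TrivSqZeroExt.fst_zero]
    rw [TrivSqZeroExt.fst_map] at this
    show x ∈ RingHom.ker _
    rw [RingHom.mem_ker]
    exact this
  have hc4 : ρ.comp (algebraMap A C) = κ.comp β := by
    refine RingHom.ext fun a => ?_
    show ρ (algebraMap A C a) = κ (β a)
    rw [hρ, rhoBar_apply, dQ_mk_algebraMap, piBar_mk,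
      pi_algebraMap hπ, TensorProduct.tmul_zero, TrivSqZeroExt.inr_zero, add_zero, hκ, hβ,
      TrivSqZeroExt.map_inl]
  have hc5 : ∀ k ∈ RingHom.ker π, ρ k ∈ (TrivSqZeroExt.kerIdeal S E).map κ := by
    intro k hk
    rw [hρ, rhoBar_apply, piBar_mk, RingHom.mem_ker.mp hk, map_zero, TrivSqZeroExt.inl_zero,
      zero_add]
    obtain ⟨e, he⟩ := hp ((1 : S) ⊗ₜ[A ⧸ I] dQ hπ (Ideal.Quotient.mk _ k))
    have : κ (TrivSqZeroExt.inr e) = TrivSqZeroExt.inr ((1 : S) ⊗ₜ[A ⧸ I]
        dQ hπ (Ideal.Quotient.mk _ k)) := by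
      rw [hκ, TrivSqZeroExt.map_inr, he]
    rw [← this]
    apply Ideal.mem_map_of_mem
    rw [TrivSqZeroExt.mem_kerIdeal_iff_inr, TrivSqZeroExt.snd_inr]
  obtain ⟨ρ', h1, h2⟩ := hg (TrivSqZeroExt S E) (TrivSqZeroExt S P) β κ
    (TrivSqZeroExt.kerIdeal S E) ρ hc1 hc2 (TrivSqZeroExt.kerIdeal_sq S E) hc3 hc4 hc5
  have hρ'I : ∀ y ∈ I.map (algebraMap A C), ρ' y = 0 := by
    intro y hy
    obtain ⟨x, hx, rfl⟩ := exists_of_mem_map hπ hK hy
    have := RingHom.congr_fun h2 x
    rw [RingHom.comp_apply] at this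
    rw [this, hβ, Ideal.Quotient.eq_zero_iff_mem.mpr hx, map_zero, TrivSqZeroExt.inl_zero]
  let ρb : Cbar I C →+* TrivSqZeroExt S E := Ideal.Quotient.lift _ ρ' hρ'I
  have hρb : ∀ c, ρb (Ideal.Quotient.mk _ c) = ρ' c := fun _ => rfl
  have hκρb : ∀ x, κ (ρb x) = rhoBar hπ hK S x := by
    intro x
    obtain ⟨c, rfl⟩ := Ideal.Quotient.mk_surjective x
    rw [hρb, ← hρ]
    exact RingHom.congr_fun h1 c
  let σ₀ : Q hπ →ₗ[A ⧸ I] E :=
    { toFun := fun q => (ρb (q : Cbar I C)).snd
      map_add' := fun q q' => by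
        rw [Submodule.coe_add, map_add, TrivSqZeroExt.snd_add]
      map_smul' := fun r q => by
        obtain ⟨a, rfl⟩ := Ideal.Quotient.mk_surjective r
        rw [Submodule.coe_smul_of_tower, Algebra.smul_def, algebraMap_mk, map_mul, hρb]
        have := RingHom.congr_fun h2 a
        rw [RingHom.comp_apply] at this
        rw [this, hβ, TrivSqZeroExt.snd_mul, TrivSqZeroExt.fst_inl, TrivSqZeroExt.snd_inl,
          RingHom.id_apply]
        simp only [smul_zero, add_zero]
        rw [algebraMap_smul] }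
  have hσ₀ : ∀ q : Q hπ, p (σ₀ q) = (1 : S) ⊗ₜ[A ⧸ I] q := by
    intro q
    show p ((ρb (q : Cbar I C)).snd) = _
    rw [← TrivSqZeroExt.snd_map, ← hκ, hκρb, rhoBar_apply, TrivSqZeroExt.snd_add,
      TrivSqZeroExt.snd_inl, TrivSqZeroExt.snd_inr, zero_add, dQ_of_mem]
  let sec : P →ₗ[S] E := LinearMap.liftBaseChange S σ₀
  have hsec : p ∘ₗ sec = LinearMap.id := by
    apply TensorProduct.AlgebraTensorModule.ext
    intro x q
    rw [LinearMap.comp_apply, LinearMap.liftBaseChange_tmul, map_smul, hσ₀,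
      TensorProduct.smul_tmul', smul_eq_mul, mul_one, LinearMap.id_apply]
  exact Module.Projective.of_split sec p hsec

end Basic

section Main

variable {A C : Type u} [CommRing A] [CommRing C] [Algebra A C] {I : Ideal A} {π : C →+* A ⧸ I}
variable (hπ : π.comp (algebraMap A C) = Ideal.Quotient.mk I)
variable (hK : RingHom.ker π ^ 2 = ⊥) (hI : I ^ 2 = ⊥)

theorem eq_zero_of_span_pow (s : Set A) (hs : Ideal.span s = ⊤) (x : A)
    (h : ∀ g ∈ s, ∃ n : ℕ, g ^ n * x = 0) : x = 0 := by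
  let J : Ideal A := LinearMap.ker (LinearMap.toSpanSingleton A A x)
  have hJ : J.radical = ⊤ := by
    rw [eq_top_iff, ← hs, Ideal.span_le]
    intro g hg
    obtain ⟨n, hn⟩ := h g hg
    refine ⟨n, ?_⟩
    show g ^ n ∈ LinearMap.ker (LinearMap.toSpanSingleton A A x)
    rw [LinearMap.mem_ker, LinearMap.toSpanSingleton_apply, smul_eq_mul]
    exact hn
  rw [Ideal.radical_eq_top] at hJ
  have h1 : (1 : A) ∈ J := hJ ▸ Submodule.mem_top
  have h2 : (1 : A) ∈ LinearMap.ker (LinearMap.toSpanSingleton A A x) := h1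
  rw [LinearMap.mem_ker, LinearMap.toSpanSingleton_apply, one_smul] at h2
  exact h2

theorem exists_finset (hloc : ∀ p : PrimeSpectrum A, ∃ g : A, g ∉ p.asIdeal ∧ LP I π g) :
    ∃ s : Finset A, (∀ g ∈ s, LP I π g) ∧ Ideal.span (s : Set A) = ⊤ := by
  have htop : Ideal.span {g : A | LP I π g} = ⊤ := by
    by_contra h
    obtain ⟨M, hM, hle⟩ := Ideal.exists_le_maximal _ h
    obtain ⟨g, hg, hLP⟩ := hloc ⟨M, hM.isPrime⟩
    exact hg (hle (Ideal.subset_span hLP))
  obtain ⟨s, hs, hs'⟩ := (Ideal.span_eq_top_iff_finite _).mp htop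
  exact ⟨s, fun g hg => hs hg, hs'⟩

include hK in
theorem projective_Q (s : Finset A) (hs : ∀ g ∈ s, LP I π g)
    (hspan : Ideal.span (s : Set A) = ⊤) : Module.Projective (A ⧸ I) (Q hπ) := by
  refine Groth.Agent.Helper7.ProjLocal.projective_of_away (R := A ⧸ I) (ι := s)
    (fun i => Localization.Away (Ideal.Quotient.mk I i.1)) (fun i => Ideal.Quotient.mk I i.1)
    (Q hπ) ?_ (fun i => projective_tensor_of_LP hπ hK i.1 (hs i.1 i.2))
  have : Set.range (fun i : s => Ideal.Quotient.mk I i.1) =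
      Ideal.Quotient.mk I '' (s : Set A) := by
    ext y
    constructor
    · rintro ⟨i, rfl⟩
      exact ⟨i.1, i.2, rfl⟩
    · rintro ⟨a, ha, rfl⟩
      exact ⟨⟨a, ha⟩, rfl⟩
  rw [this, ← Ideal.map_span, hspan, Ideal.map_top]

include hπ hI in
theorem algebraMap_injective (s : Finset A) (hs : ∀ g ∈ s, LP I π g)
    (hspan : Ideal.span (s : Set A) = ⊤) : Function.Injective (algebraMap A C) := by
  rw [injective_iff_map_eq_zero]
  intro x hx
  refine eq_zero_of_span_pow (s : Set A) hspan x (fun g hg => ?_)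
  let D := Localization.Away g
  let 𝔡 : Ideal D := I.map (algebraMap A D)
  let ρ : C →+* D ⧸ 𝔡 := (Ideal.quotientMap 𝔡 (algebraMap A D) Ideal.le_comap_map).comp π
  have hρ : ∀ c, ρ c = Ideal.quotientMap 𝔡 (algebraMap A D) Ideal.le_comap_map (π c) :=
    fun _ => rfl
  obtain ⟨ρ', -, h2⟩ := hs g hg D (D ⧸ 𝔡) (algebraMap A D) (Ideal.Quotient.mk 𝔡) 𝔡 ρ
    Ideal.Quotient.mk_surjective (IsLocalization.Away.algebraMap_isUnit g)
    (by rw [← Ideal.map_pow, hI, Ideal.map_bot]) (by rw [Ideal.mk_ker])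
    (by
      refine RingHom.ext fun a => ?_
      show ρ (algebraMap A C a) = Ideal.Quotient.mk 𝔡 (algebraMap A D a)
      rw [hρ, pi_algebraMap hπ, Ideal.quotientMap_mk])
    (by
      intro k hk
      rw [hρ, RingHom.mem_ker.mp hk, map_zero]
      exact Ideal.zero_mem _)
  have h3 : algebraMap A D x = 0 := by
    have := RingHom.congr_fun h2 x
    rw [RingHom.comp_apply, hx, map_zero] at this
    exact this.symm
  obtain ⟨⟨m, n, rfl⟩, hm⟩ := (IsLocalization.map_eq_zero_iff (Submonoid.powers g) D x).mp h3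
  exact ⟨n, hm⟩


include hπ hK in
theorem isTorsionBySet_ker : Module.IsTorsionBySet A (RingHom.ker π) (I : Set A) := by
  intro k x
  apply Subtype.ext
  rw [Submodule.coe_smul_of_tower, Algebra.smul_def, Submodule.coe_zero]
  exact mul_eq_zero_of_mem_ker hK (algebraMap_mem_ker hπ x.2) k.2

include hπ hK hI in
/-- **Main algebraic theorem**: the local lifting property gives a global retraction. -/
theorem exists_retraction (hloc : ∀ p : PrimeSpectrum A, ∃ g : A, g ∉ p.asIdeal ∧ LP I π g) :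
    ∃ r : C →+* A, r.comp (algebraMap A C) = RingHom.id A ∧
      (Ideal.Quotient.mk I).comp r = π := by
  obtain ⟨s, hs, hspan⟩ := exists_finset hloc
  have hinj := algebraMap_injective hπ hI s hs hspan
  haveI := projective_Q hπ hK s hs hspan
  have htors := isTorsionBySet_ker hπ hK
  letI : Module (A ⧸ I) (RingHom.ker π) := htors.module
  have hsmul : ∀ (a : A) (k : RingHom.ker π), (Ideal.Quotient.mk I a) • k = a • k :=
    fun a k => Module.IsTorsionBySet.mk_smul htors a k
  -- the quotient map K → Q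
  let qK : RingHom.ker π →ₗ[A ⧸ I] Q hπ :=
    { toFun := fun k => ⟨Ideal.Quotient.mk _ (k : C), (mk_mem_Q hπ).mpr k.2⟩
      map_add' := fun k k' => by
        apply Subtype.ext
        simp only [Submodule.coe_add, map_add]
      map_smul' := fun r k => by
        obtain ⟨a, rfl⟩ := Ideal.Quotient.mk_surjective r
        apply Subtype.ext
        rw [hsmul, RingHom.id_apply]
        show Ideal.Quotient.mk (I.map (algebraMap A C)) ((a • k : RingHom.ker π) : C) =
          ((Ideal.Quotient.mk I a • (⟨Ideal.Quotient.mk _ (k : C), (mk_mem_Q hπ).mpr k.2⟩ : Q hπ)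
            : Q hπ) : Cbar I C)
        rw [Submodule.coe_smul_of_tower, Submodule.coe_smul_of_tower,
          Algebra.smul_def, Algebra.smul_def, map_mul, algebraMap_mk] }
  have hqK : ∀ k : RingHom.ker π, ((qK k : Q hπ) : Cbar I C) = Ideal.Quotient.mk _ (k : C) :=
    fun _ => rfl
  have hqKsurj : Function.Surjective qK := by
    intro q
    obtain ⟨c, hc⟩ := Ideal.Quotient.mk_surjective (q : Cbar I C)
    have hcK : c ∈ RingHom.ker π := by
      rw [← mk_mem_Q hπ, hc]; exact q.2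
    exact ⟨⟨c, hcK⟩, Subtype.ext hc⟩
  obtain ⟨sQ, hsQ⟩ := Module.projective_lifting_property qK LinearMap.id hqKsurj
  have hsQ' : ∀ q : Q hπ, Ideal.Quotient.mk (I.map (algebraMap A C)) ((sQ q : RingHom.ker π) : C)
      = (q : Cbar I C) := by
    intro q
    rw [← hqK]
    have := LinearMap.congr_fun hsQ q
    rw [LinearMap.comp_apply, LinearMap.id_apply] at this
    rw [this]
  -- the complement
  let N : Ideal C :=
    { carrier := {c | ∃ q : Q hπ, ((sQ q : RingHom.ker π) : C) = c}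
      add_mem' := by
        rintro _ _ ⟨q, rfl⟩ ⟨q', rfl⟩
        exact ⟨q + q', by rw [map_add, Submodule.coe_add]⟩
      zero_mem' := ⟨0, by rw [map_zero, Submodule.coe_zero]⟩
      smul_mem' := by
        rintro c _ ⟨q, rfl⟩
        obtain ⟨a, ha⟩ := exists_lift (π := π) c
        refine ⟨Ideal.Quotient.mk I a • q, ?_⟩
        rw [map_smul, hsmul, Submodule.coe_smul_of_tower, Algebra.smul_def, smul_eq_mul,
          mul_eq_algebraMap_mul hπ hK c a ha (sQ q).2] }
  have hN : ∀ c, c ∈ N ↔ ∃ q : Q hπ, ((sQ q : RingHom.ker π) : C) = c := fun _ => Iff.rfl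
  have hNK : N ≤ RingHom.ker π := by
    rintro _ ⟨q, rfl⟩
    exact (sQ q).2
  let θ : A →+* C ⧸ N := (Ideal.Quotient.mk N).comp (algebraMap A C)
  have hθ : ∀ a, θ a = Ideal.Quotient.mk N (algebraMap A C a) := fun _ => rfl
  have hθinj : Function.Injective θ := by
    rw [injective_iff_map_eq_zero]
    intro a ha
    rw [hθ, Ideal.Quotient.eq_zero_iff_mem, hN] at ha
    obtain ⟨q, hq⟩ := ha
    have h1 : Ideal.Quotient.mk I a = 0 := by
      rw [← pi_algebraMap hπ, ← hq]
      exact RingHom.mem_ker.mp (sQ q).2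
    have h2 : a ∈ I := Ideal.Quotient.eq_zero_iff_mem.mp h1
    have h3 : (q : Cbar I C) = 0 := by
      rw [← hsQ', hq, Ideal.Quotient.eq_zero_iff_mem]
      exact Ideal.mem_map_of_mem _ h2
    have h4 : q = 0 := Subtype.ext h3
    rw [h4, map_zero, Submodule.coe_zero] at hq
    exact hinj (by rw [← hq, map_zero])
  have hθsurj : Function.Surjective θ := by
    intro y
    obtain ⟨c, rfl⟩ := Ideal.Quotient.mk_surjective y
    obtain ⟨a, ha⟩ := exists_lift (π := π) c
    let q : Q hπ := dQ hπ (Ideal.Quotient.mk _ c)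
    have h1 : Ideal.Quotient.mk (I.map (algebraMap A C))
        (c - ((sQ q : RingHom.ker π) : C) - algebraMap A C a) = 0 := by
      rw [map_sub, map_sub, hsQ', dQ_coe, piBar_mk, ← ha, algebraMap_mk]
      ring
    rw [Ideal.Quotient.eq_zero_iff_mem] at h1
    obtain ⟨x, -, hx⟩ := exists_of_mem_map hπ hK h1
    refine ⟨a + x, ?_⟩
    rw [hθ, map_add, hx]
    rw [← sub_eq_zero, ← map_sub, Ideal.Quotient.eq_zero_iff_mem, hN]
    refine ⟨-q, ?_⟩
    rw [map_neg, Submodule.coe_neg]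
    ring
  let e : A ≃+* C ⧸ N := RingEquiv.ofBijective θ ⟨hθinj, hθsurj⟩
  have he : ∀ a, e a = Ideal.Quotient.mk N (algebraMap A C a) := fun _ => rfl
  refine ⟨(e.symm : C ⧸ N →+* A).comp (Ideal.Quotient.mk N), ?_, ?_⟩
  · refine RingHom.ext fun a => ?_
    show e.symm (Ideal.Quotient.mk N (algebraMap A C a)) = a
    rw [← he, RingEquiv.symm_apply_apply]
  · refine RingHom.ext fun c => ?_
    show Ideal.Quotient.mk I (e.symm (Ideal.Quotient.mk N c)) = π c
    have h1 : Ideal.Quotient.mk N (algebraMap A C (e.symm (Ideal.Quotient.mk N c))) =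
        Ideal.Quotient.mk N c := by
      rw [← he, RingEquiv.apply_symm_apply]
    rw [← sub_eq_zero, ← map_sub, Ideal.Quotient.eq_zero_iff_mem] at h1
    have h2 := RingHom.mem_ker.mp (hNK h1)
    rw [map_sub, pi_algebraMap hπ, sub_eq_zero] at h2
    exact h2

end Main

end Groth.Agent.Helper15.FSm
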