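import Mathlib
import Groth.Prelude
import Groth.Agent.Lib.Helper18.UTGlue2
import Groth.Agent.Lib.Helper6.ThickAffB
import Groth.Agent.Lib.Helper3.FormEt
import Groth.Agent.Lib.Helper15.FSm1

set_option autoImplicit false
set_option linter.unusedSectionVars false
universe u
open CategoryTheory CategoryTheory.Limits AlgebraicGeometry

namespace Groth.Agent.Helper15.FSm

open Groth.Agent.Helper3.FormEt

/-- Ring-level lifting for a formally smooth ring map against a surjection with square-zero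
kernel. -/
theorem ring_lift_sm {B C R' R : Type u} [CommRing B] [CommRing C] [CommRing R'] [CommRing R]
    (γ : B →+* C) (hγ : γ.FormallySmooth) (φ : R' →+* R) (hφ : Function.Surjective φ)
    (hker : RingHom.ker φ ^ 2 = ⊥) (α : C →+* R) (β : B →+* R') (h : φ.comp β = α.comp γ) :
    ∃ ψ : C →+* R', φ.comp ψ = α ∧ ψ.comp γ = β := by
  let := γ.toAlgebra
  let := β.toAlgebra
  let := (φ.comp β).toAlgebra
  have : Algebra.FormallySmooth B C := hγ
  let φ' : R' →ₐ[B] R := { φ with commutes' := fun _ => rfl }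
  let α' : C →ₐ[B] R := { α with commutes' := fun b => (RingHom.congr_fun h b).symm }
  have hφ' : Function.Surjective φ' := hφ
  have hnil : IsNilpotent (RingHom.ker (φ' : R' →+* R)) := ⟨2, hker⟩
  let ψ := Algebra.FormallySmooth.liftOfSurjective α' φ' hφ' hnil
  refine ⟨ψ.toRingHom, ?_, ?_⟩
  · ext x
    exact Algebra.FormallySmooth.liftOfSurjective_apply α' φ' hφ' hnil x
  · ext b
    exact ψ.commutes b

theorem spec_lift_sm {B C R' R : CommRingCat.{u}} (γ : B ⟶ C) (hγ : γ.hom.FormallySmooth)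
    (φ : R' ⟶ R) (hφ : Function.Surjective φ.hom) (hker : RingHom.ker φ.hom ^ 2 = ⊥)
    (a : Spec R ⟶ Spec C) (b : Spec R' ⟶ Spec B) (h : Spec.map φ ≫ b = a ≫ Spec.map γ) :
    ∃ l : Spec R' ⟶ Spec C, Spec.map φ ≫ l = a ∧ l ≫ Spec.map γ = b := by
  obtain ⟨α, rfl⟩ := Spec.map_surjective a
  obtain ⟨β, rfl⟩ := Spec.map_surjective b
  rw [← Spec.map_comp, ← Spec.map_comp] at h
  have h' := Spec.map_injective h
  obtain ⟨ψ, h1, h2⟩ := ring_lift_sm γ.hom hγ φ.hom hφ hker α.hom β.hom (by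
    rw [← CommRingCat.hom_comp, ← CommRingCat.hom_comp, h'])
  refine ⟨Spec.map (CommRingCat.ofHom ψ), ?_, ?_⟩
  · rw [← Spec.map_comp]
    congr 1
    ext x
    exact RingHom.congr_fun h1 x
  · rw [← Spec.map_comp]
    congr 1
    ext x
    exact RingHom.congr_fun h2 x

/-- Local lift against `Spec R → Spec R'` when the top map factors through an affine open on which
`f` is formally smooth. -/
theorem local_lift_sm {X Y : Scheme.{u}} (f : X ⟶ Y) {V : X.Opens} {W : Y.Opens}
    (hV : IsAffineOpen V) (hW : IsAffineOpen W) (hVW : V ≤ f ⁻¹ᵁ W)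
    (hfe : (f.appLE W V hVW).hom.FormallySmooth)
    {R' R : CommRingCat.{u}} (φ : R' ⟶ R) (hφ : Function.Surjective φ.hom)
    (hker : RingHom.ker φ.hom ^ 2 = ⊥)
    (a : Spec R ⟶ X) (b : Spec R' ⟶ Y) (h : Spec.map φ ≫ b = a ≫ f)
    (ha : Set.range a ⊆ V) :
    ∃ l : Spec R' ⟶ X, Spec.map φ ≫ l = a ∧ l ≫ f = b := by
  have hb : Set.range b ⊆ W := by
    rintro _ ⟨y, rfl⟩
    obtain ⟨x, rfl⟩ := specMap_surjective_of_ker_sq φ hφ hker y
    have : b (Spec.map φ x) = f (a x) := by
      rw [← Scheme.Hom.comp_apply, h, Scheme.Hom.comp_apply]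
    rw [this]
    exact hVW (ha ⟨x, rfl⟩)
  let a'' : Spec R ⟶ Spec Γ(X, V) := IsOpenImmersion.lift hV.fromSpec a (by
    rw [hV.range_fromSpec]; exact ha)
  let b'' : Spec R' ⟶ Spec Γ(Y, W) := IsOpenImmersion.lift hW.fromSpec b (by
    rw [hW.range_fromSpec]; exact hb)
  have ha'' : a'' ≫ hV.fromSpec = a := IsOpenImmersion.lift_fac _ _ _
  have hb'' : b'' ≫ hW.fromSpec = b := IsOpenImmersion.lift_fac _ _ _
  have hsq : Spec.map φ ≫ b'' = a'' ≫ Spec.map (f.appLE W V hVW) := by
    rw [← cancel_mono hW.fromSpec, Category.assoc, hb'', Category.assoc,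
      hW.SpecMap_appLE_fromSpec f hV hVW, ← Category.assoc, ha'', h]
  obtain ⟨l'', h1, h2⟩ := spec_lift_sm (f.appLE W V hVW) hfe φ hφ hker a'' b'' hsq
  refine ⟨l'' ≫ hV.fromSpec, ?_, ?_⟩
  · rw [← Category.assoc, h1, ha'']
  · rw [Category.assoc, ← hW.SpecMap_appLE_fromSpec f hV hVW, ← Category.assoc, h2, hb'']

/-- `Spec` of a surjection with square zero kernel is a first order thickening. -/
theorem isFirstOrderThickening_specMap {R' R : CommRingCat.{u}} (φ : R' ⟶ R)
    (hφ : Function.Surjective φ.hom) (hker : RingHom.ker φ.hom ^ 2 = ⊥) :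
    MoreMor.IsFirstOrderThickening (Spec.map φ) :=
  ⟨⟨IsClosedImmersion.spec_of_surjective _ hφ, ⟨specMap_surjective_of_ker_sq φ hφ hker⟩⟩,
    ker_sq_specMap φ hker⟩

/-- conversely, the kernel of a ring map has square zero if the kernel of `Spec.map` has. -/
theorem ker_sq_of_specMap {R' R : CommRingCat.{u}} (φ : R' ⟶ R)
    (hs : (Spec.map φ).ker * (Spec.map φ).ker = ⊥) : RingHom.ker φ.hom ^ 2 = ⊥ := by
  have hmem : ∀ x ∈ RingHom.ker φ.hom, (Scheme.ΓSpecIso R').inv.hom x ∈
      (Spec.map φ).ker.ideal ⟨⊤, isAffineOpen_top _⟩ := by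
    intro x hx
    rw [Scheme.Hom.ker_apply, RingHom.mem_ker]
    have h1 := Scheme.ΓSpecIso_inv_naturality φ
    have h2 := congr($h1 x)
    refine Eq.trans h2.symm ?_
    show (Scheme.ΓSpecIso R).inv.hom (φ.hom x) = 0
    rw [RingHom.mem_ker.mp hx, map_zero]
  rw [sq, ← le_bot_iff, Ideal.mul_le]
  intro x hx y hy
  have h3 : (Scheme.ΓSpecIso R').inv.hom (x * y) ∈
      ((Spec.map φ).ker * (Spec.map φ).ker).ideal ⟨⊤, isAffineOpen_top _⟩ := by
    rw [map_mul, Scheme.IdealSheafData.ideal_mul, Pi.mul_apply]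
    exact Ideal.mul_mem_mul (hmem x hx) (hmem y hy)
  rw [hs, Scheme.IdealSheafData.ideal_bot, Pi.bot_apply, Ideal.mem_bot] at h3
  rw [Ideal.mem_bot]
  have hinj : Function.Injective (Scheme.ΓSpecIso R').inv.hom :=
    (ConcreteCategory.bijective_of_isIso (Scheme.ΓSpecIso R').inv).1
  exact hinj (by rw [h3, map_zero])


open Groth.Agent.Helper18.UTGlue in
/-- An affine model of the universal first order thickening of a formally unramified morphism
from an affine scheme. -/
theorem exists_spec_thickening {R₀ : Type u} [CommRing R₀] {X' : Scheme.{u}}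
    (h : Spec (CommRingCat.of R₀) ⟶ X') [FormallyUnramified h] :
    ∃ (C : Type u) (_ : CommRing C) (π : C →+* R₀) (hC : Spec (CommRingCat.of C) ⟶ X'),
      RingHom.ker π ^ 2 = ⊥ ∧
      OmegaSh.IsUnivThickening h (Spec.map (CommRingCat.ofHom π)) hC := by
  obtain ⟨hthick, hfac, hUP⟩ := isUnivThickening_glue h
  obtain ⟨⟨hcl, hsurj⟩, hker⟩ := hthick
  haveI : IsAffine (Z' h) :=
    Groth.Agent.Helper6.ThickAff.isAffine_of_isClosedImmersion_of_surjective (iZ h) hsurj.surj
  let e := (Z' h).isoSpec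
  let iC : Spec (CommRingCat.of R₀) ⟶ Spec Γ(Z' h, ⊤) := iZ h ≫ e.hom
  let hC : Spec Γ(Z' h, ⊤) ⟶ X' := e.inv ≫ h'Z h
  let π₀ : Γ(Z' h, ⊤) ⟶ CommRingCat.of R₀ := Spec.preimage iC
  have hπ₀ : Spec.map π₀ = iC := Spec.map_preimage iC
  have hiC : iC ≫ hC = h := by
    simp only [iC, hC, Category.assoc, Iso.hom_inv_id_assoc]
    exact hfac
  have hthickC : MoreMor.IsFirstOrderThickening iC := by
    refine ⟨⟨inferInstance, inferInstance⟩, ?_⟩
    have H : IsPullback iC (𝟙 _) e.inv (iZ h) := IsPullback.of_vert_isIso ⟨by simp [iC]⟩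
    exact ker_sq_of_isPullback (iZ h) iC (𝟙 _) e.inv H hker
  refine ⟨Γ(Z' h, ⊤), inferInstance, π₀.hom, hC, ?_, ?_⟩
  · apply ker_sq_of_specMap π₀
    rw [hπ₀]
    exact hthickC.2
  · have e1 : CommRingCat.ofHom π₀.hom = π₀ := rfl
    rw [e1, hπ₀]
    refine ⟨hthickC, hiC, ?_⟩
    intro T T' j b a hj hcomm
    obtain ⟨m, ⟨hm1, hm2⟩, huniq⟩ := hUP T T' j b a hj hcomm
    refine ⟨m ≫ e.hom, ⟨?_, ?_⟩, ?_⟩
    · rw [← Category.assoc, hm1, Category.assoc]
    · simp only [hC, Category.assoc, Iso.hom_inv_id_assoc]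
      exact hm2
    · rintro m' ⟨hm1', hm2'⟩
      have : m' ≫ e.inv = m := by
        apply huniq
        refine ⟨?_, ?_⟩
        · rw [← Category.assoc, hm1']
          simp only [iC, Category.assoc, Iso.hom_inv_id, Category.comp_id]
        · rw [Category.assoc]
          exact hm2'
      rw [← this, Category.assoc, Iso.inv_hom_id, Category.comp_id]


section LPgeo

variable {X Y : Scheme.{u}} (f : X ⟶ Y) {A : Type u} [CommRing A] (I : Ideal A)
  (b : Spec (CommRingCat.of A) ⟶ Y) {C : Type u} [CommRing C] (φ : A →+* C) (π : C →+* A ⧸ I)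
  (hπ : π.comp φ = Ideal.Quotient.mk I)
  (h : Spec (CommRingCat.of (A ⧸ I)) ⟶ pullback f b) (hC : Spec (CommRingCat.of C) ⟶ pullback f b)
  (hφ : hC ≫ pullback.snd f b = Spec.map (CommRingCat.ofHom φ))
  (hUT : OmegaSh.IsUnivThickening h (Spec.map (CommRingCat.ofHom π)) hC)

include hπ hφ hUT in
/-- The geometric input: the ring of the first order neighbourhood of the section satisfies the
local lifting property. -/
theorem LP_of_local {U : X.Opens} {V : Y.Opens} (hU : IsAffineOpen U) (hV : IsAffineOpen V)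
    (hUV : U ≤ f ⁻¹ᵁ V) (hsm : (f.appLE V U hUV).hom.FormallySmooth) (g : A)
    (hg : ∀ t : Spec (CommRingCat.of (A ⧸ I)),
      Ideal.Quotient.mk I g ∉ (show PrimeSpectrum (A ⧸ I) from t).asIdeal →
        (h ≫ pullback.fst f b) t ∈ U) :
    letI := φ.toAlgebra
    LP I π g := by
  letI := φ.toAlgebra
  intro D D' _ _ β κ 𝔡 ρ hκ hunit h𝔡 hker hcomp hK
  have hcomp' : ρ.comp φ = κ.comp β := hcomp
  obtain ⟨hthick, hfac, hUP⟩ := hUT
  -- notation
  let iC := Spec.map (CommRingCat.ofHom π)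
  let α : Spec (CommRingCat.of D') ⟶ pullback f b := Spec.map (CommRingCat.ofHom ρ) ≫ hC
  let β' : Spec (CommRingCat.of D) ⟶ Spec (CommRingCat.of A) := Spec.map (CommRingCat.ofHom β)
  have hcomm : Spec.map (CommRingCat.ofHom κ) ≫ β' = α ≫ pullback.snd f b := by
    simp only [α, β', Category.assoc, hφ]
    rw [← Spec.map_comp, ← Spec.map_comp, ← CommRingCat.ofHom_comp, ← CommRingCat.ofHom_comp,
      hcomp']
  have hkerκ : RingHom.ker κ ^ 2 = ⊥ := by
    rw [← le_bot_iff, ← h𝔡]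
    exact Ideal.pow_right_mono hker 2
  -- the range condition
  have hrange : Set.range (α ≫ pullback.fst f b) ⊆ U := by
    rintro _ ⟨y, rfl⟩
    obtain ⟨t, ht⟩ := hthick.1.2.surj ((Spec.map (CommRingCat.ofHom ρ)) y)
    have e1 : (α ≫ pullback.fst f b) y = (h ≫ pullback.fst f b) t := by
      rw [← hfac]
      simp only [α, Scheme.Hom.comp_apply]
      rw [ht]
    rw [e1]
    apply hg
    intro hmem
    -- `g` lies in the prime `i t`
    have e2 : (Spec.map (CommRingCat.ofHom (Ideal.Quotient.mk I))) t =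
        (Spec.map (CommRingCat.ofHom β)) ((Spec.map (CommRingCat.ofHom κ)) y) := by
      have e3 : Spec.map (CommRingCat.ofHom (Ideal.Quotient.mk I)) =
          Spec.map (CommRingCat.ofHom π) ≫ Spec.map (CommRingCat.ofHom φ) := by
        rw [← Spec.map_comp, ← CommRingCat.ofHom_comp, hπ]
      rw [e3, Scheme.Hom.comp_apply, ht, ← Scheme.Hom.comp_apply, ← Scheme.Hom.comp_apply,
        ← Spec.map_comp, ← Spec.map_comp, ← CommRingCat.ofHom_comp, ← CommRingCat.ofHom_comp,
        hcomp']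
    have e4 : g ∈ (show PrimeSpectrum A from
        (Spec.map (CommRingCat.ofHom (Ideal.Quotient.mk I))) t).asIdeal := hmem
    rw [e2] at e4
    have e5 : κ (β g) ∈ (show PrimeSpectrum D' from y).asIdeal := e4
    exact (show PrimeSpectrum D' from y).isPrime.ne_top
      (Ideal.eq_top_of_isUnit_mem _ e5 (hunit.map κ))
  -- the local lift
  obtain ⟨l₀, hl1, hl2⟩ := local_lift_sm f hU hV hUV hsm (CommRingCat.ofHom κ) hκ hkerκ
    (α ≫ pullback.fst f b) (β' ≫ b) (by
      calc Spec.map (CommRingCat.ofHom κ) ≫ β' ≫ b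
          = (Spec.map (CommRingCat.ofHom κ) ≫ β') ≫ b := (Category.assoc _ _ _).symm
        _ = (α ≫ pullback.snd f b) ≫ b := by rw [hcomm]
        _ = α ≫ (pullback.snd f b ≫ b) := Category.assoc _ _ _
        _ = α ≫ (pullback.fst f b ≫ f) := by rw [pullback.condition]
        _ = (α ≫ pullback.fst f b) ≫ f := (Category.assoc _ _ _).symm) hrange
  let lam : Spec (CommRingCat.of D) ⟶ pullback f b := pullback.lift l₀ β' hl2
  have hlam1 : Spec.map (CommRingCat.ofHom κ) ≫ lam = α := by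
    apply pullback.hom_ext
    · rw [Category.assoc, pullback.lift_fst, hl1]
    · rw [Category.assoc, pullback.lift_snd, hcomm]
  have hlam2 : lam ≫ pullback.snd f b = β' := pullback.lift_snd _ _ _
  -- the thickenings
  let κ' : D' →+* D ⧸ 𝔡 := RingHom.liftOfSurjective κ hκ ⟨Ideal.Quotient.mk 𝔡, by
    rw [Ideal.mk_ker]; exact hker⟩
  have hκ' : κ'.comp κ = Ideal.Quotient.mk 𝔡 := RingHom.liftOfSurjective_comp _ _ _
  have hκ'0 : ∀ y ∈ 𝔡.map κ, κ' y = 0 := by
    intro y hy
    have : κ' y ∈ (𝔡.map κ).map κ' := Ideal.mem_map_of_mem _ hy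
    rw [Ideal.map_map, hκ', Ideal.map_quotient_self, Ideal.mem_bot] at this
    exact this
  have hφK : ∀ x ∈ I, φ x ∈ RingHom.ker π := by
    intro x hx
    rw [RingHom.mem_ker]
    have := RingHom.congr_fun hπ x
    rw [RingHom.comp_apply] at this
    rw [this, Ideal.Quotient.eq_zero_iff_mem]
    exact hx
  let τ : A ⧸ I →+* D ⧸ 𝔡 := Ideal.Quotient.lift I ((Ideal.Quotient.mk 𝔡).comp β) (by
    intro x hx
    rw [← hκ', RingHom.comp_apply, RingHom.comp_apply]
    have := RingHom.congr_fun hcomp' x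
    rw [RingHom.comp_apply, RingHom.comp_apply] at this
    rw [← this]
    exact hκ'0 _ (hK _ (hφK x hx)))
  have hτmk : ∀ a, τ (Ideal.Quotient.mk I a) = Ideal.Quotient.mk 𝔡 (β a) := fun _ => rfl
  have hτ : τ.comp π = κ'.comp ρ := by
    refine RingHom.ext fun c => ?_
    obtain ⟨a, ha⟩ := Ideal.Quotient.mk_surjective (π c)
    have h1 : c - φ a ∈ RingHom.ker π := by
      rw [RingHom.mem_ker, map_sub, sub_eq_zero]
      have := RingHom.congr_fun hπ a
      rw [RingHom.comp_apply] at this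
      rw [this, ha]
    have h2 := hκ'0 _ (hK _ h1)
    rw [map_sub, map_sub, sub_eq_zero] at h2
    rw [RingHom.comp_apply, RingHom.comp_apply, h2, ← ha, hτmk]
    have := RingHom.congr_fun hcomp' a
    rw [RingHom.comp_apply, RingHom.comp_apply] at this
    rw [this]
    exact (RingHom.congr_fun hκ' (β a)).symm
  let j := Spec.map (CommRingCat.ofHom (Ideal.Quotient.mk 𝔡))
  let j' := Spec.map (CommRingCat.ofHom κ')
  let aT := Spec.map (CommRingCat.ofHom τ)
  have hj : MoreMor.IsFirstOrderThickening j :=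
    Groth.Agent.Helper18.Thick.specMap_mk_isFirstOrderThickening D 𝔡 h𝔡
  have hjj' : j = j' ≫ Spec.map (CommRingCat.ofHom κ) := by
    simp only [j, j']
    rw [← Spec.map_comp, ← CommRingCat.ofHom_comp, hκ']
  have hj'α : j' ≫ α = aT ≫ h := by
    simp only [j', α, aT]
    rw [← hfac, ← Category.assoc, ← Category.assoc, ← Spec.map_comp, ← Spec.map_comp,
      ← CommRingCat.ofHom_comp, ← CommRingCat.ofHom_comp, hτ]
  have hjlam : j ≫ lam = aT ≫ h := by
    rw [hjj', Category.assoc, hlam1, hj'α]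
  obtain ⟨m, ⟨hm1, hm2⟩, -⟩ := hUP _ _ j lam aT hj hjlam
  -- the thickening j'
  have hκ'surj : Function.Surjective κ' := by
    intro z
    obtain ⟨d, rfl⟩ := Ideal.Quotient.mk_surjective z
    exact ⟨κ d, RingHom.congr_fun hκ' d⟩
  have hκ'ker : RingHom.ker κ' ^ 2 = ⊥ := by
    have hle : RingHom.ker κ' ≤ 𝔡.map κ := by
      intro y hy
      obtain ⟨d, rfl⟩ := hκ y
      have : Ideal.Quotient.mk 𝔡 d = 0 := by
        rw [← hκ']
        exact RingHom.mem_ker.mp hy
      exact Ideal.mem_map_of_mem _ (Ideal.Quotient.eq_zero_iff_mem.mp this)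
    rw [← le_bot_iff]
    refine (Ideal.pow_right_mono hle 2).trans ?_
    rw [← Ideal.map_pow, h𝔡, Ideal.map_bot]
  have hj' : MoreMor.IsFirstOrderThickening j' :=
    isFirstOrderThickening_specMap (CommRingCat.ofHom κ') hκ'surj hκ'ker
  obtain ⟨m₀, -, hm₀⟩ := hUP _ _ j' α aT hj' hj'α
  have hmeq : Spec.map (CommRingCat.ofHom κ) ≫ m = Spec.map (CommRingCat.ofHom ρ) := by
    have h1 : Spec.map (CommRingCat.ofHom κ) ≫ m = m₀ := by
      apply hm₀
      refine ⟨?_, ?_⟩
      · rw [← Category.assoc, ← hjj', hm1]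
      · rw [Category.assoc, hm2, hlam1]
    have h2 : Spec.map (CommRingCat.ofHom ρ) = m₀ := by
      apply hm₀
      refine ⟨?_, rfl⟩
      simp only [j', aT]
      rw [← Spec.map_comp, ← Spec.map_comp, ← CommRingCat.ofHom_comp, ← CommRingCat.ofHom_comp,
        hτ]
    rw [h1, h2]
  -- the ring map
  let ρ'₀ : CommRingCat.of C ⟶ CommRingCat.of D := Spec.preimage m
  have hρ'₀ : Spec.map ρ'₀ = m := Spec.map_preimage m
  refine ⟨ρ'₀.hom, ?_, ?_⟩
  · have : ρ'₀ ≫ CommRingCat.ofHom κ = CommRingCat.ofHom ρ := by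
      apply Spec.map_injective
      rw [Spec.map_comp, hρ'₀, hmeq]
    refine RingHom.ext fun c => ?_
    exact congr($this c)
  · have : CommRingCat.ofHom φ ≫ ρ'₀ = CommRingCat.ofHom β := by
      apply Spec.map_injective
      rw [Spec.map_comp, hρ'₀, ← hφ, ← Category.assoc, hm2, hlam2]
    refine RingHom.ext fun c => ?_
    exact congr($this c)

end LPgeo

/-- **Affine-locally formally smooth morphisms are formally smooth** (lifting against first order
thickenings of affine schemes). -/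
theorem isFormallySmoothHom_of_appLE {X Y : Scheme.{u}} (f : X ⟶ Y)
    (H : ∀ (U : X.Opens) (V : Y.Opens) (_ : IsAffineOpen U) (_ : IsAffineOpen V)
      (hUV : U ≤ f ⁻¹ᵁ V), (f.appLE V U hUV).hom.FormallySmooth) :
    MoreMor.IsFormallySmoothHom f := by
  intro A _ I hI a b w
  let i := Spec.map (CommRingCat.ofHom (Ideal.Quotient.mk I))
  let h : Spec (CommRingCat.of (A ⧸ I)) ⟶ pullback f b := pullback.lift a i w.symm
  have hh1 : h ≫ pullback.fst f b = a := pullback.lift_fst _ _ _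
  have hh2 : h ≫ pullback.snd f b = i := pullback.lift_snd _ _ _
  haveI : IsClosedImmersion i :=
    IsClosedImmersion.spec_of_surjective _ Ideal.Quotient.mk_surjective
  haveI : FormallyUnramified (h ≫ pullback.snd f b) := by rw [hh2]; infer_instance
  haveI : FormallyUnramified h := FormallyUnramified.of_comp h (pullback.snd f b)
  obtain ⟨C, _, π, hC, hK, hUT⟩ := exists_spec_thickening h
  let φ₀ : CommRingCat.of A ⟶ CommRingCat.of C := Spec.preimage (hC ≫ pullback.snd f b)
  have hφ₀ : Spec.map φ₀ = hC ≫ pullback.snd f b := Spec.map_preimage _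
  let φ : A →+* C := φ₀.hom
  have hφ : hC ≫ pullback.snd f b = Spec.map (CommRingCat.ofHom φ) := hφ₀.symm
  have hπ : π.comp φ = Ideal.Quotient.mk I := by
    have : CommRingCat.ofHom φ ≫ CommRingCat.ofHom π =
        CommRingCat.ofHom (Ideal.Quotient.mk I) := by
      apply Spec.map_injective
      rw [Spec.map_comp, ← hφ, ← Category.assoc, hUT.2.1, hh2]
    refine RingHom.ext fun x => ?_
    exact congr($this x)
  letI := φ.toAlgebra
  have hloc : ∀ p : PrimeSpectrum A, ∃ g : A, g ∉ p.asIdeal ∧ LP I π g := by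
    intro p
    obtain ⟨t, ht⟩ := specMap_surjective_of_ker_sq
      (CommRingCat.ofHom (Ideal.Quotient.mk I)) Ideal.Quotient.mk_surjective
      (by simpa using hI) (show Spec (CommRingCat.of A) from p)
    obtain ⟨_, ⟨V, hV, rfl⟩, hxV, -⟩ :=
      Y.isBasis_affineOpens.exists_subset_of_mem_open (Set.mem_univ (f (a t))) isOpen_univ
    obtain ⟨_, ⟨U, hU, rfl⟩, hxU, hUV : U ≤ f ⁻¹ᵁ V⟩ :=
      X.isBasis_affineOpens.exists_subset_of_mem_open hxV (f ⁻¹ᵁ V).isOpen
    let O : Set (PrimeSpectrum (A ⧸ I)) :=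
      {t' | a (show Spec (CommRingCat.of (A ⧸ I)) from t') ∈ U}
    have hO : IsOpen O := (a ⁻¹ᵁ U).isOpen
    have htO : (show PrimeSpectrum (A ⧸ I) from t) ∈ O := hxU
    obtain ⟨_, ⟨gb, rfl⟩, htg, hsub⟩ :=
      (PrimeSpectrum.isTopologicalBasis_basic_opens (R := A ⧸ I)).exists_subset_of_mem_open
        htO hO
    obtain ⟨g, rfl⟩ := Ideal.Quotient.mk_surjective gb
    refine ⟨g, ?_, ?_⟩
    · intro hg
      have h1 : g ∈ (show PrimeSpectrum A from
          (Spec.map (CommRingCat.ofHom (Ideal.Quotient.mk I))) t).asIdeal := by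
        rw [ht]; exact hg
      exact htg h1
    · refine LP_of_local f I b φ π hπ h hC hφ hUT hU hV hUV (H U V hU hV hUV) g ?_
      intro t' ht'
      rw [hh1]
      exact hsub ht'
  obtain ⟨r, hr1, hr2⟩ := exists_retraction (A := A) (C := C) (I := I) (π := π) hπ hK hI hloc
  have hr1' : r.comp φ = RingHom.id A := hr1
  refine ⟨Spec.map (CommRingCat.ofHom r) ≫ hC ≫ pullback.fst f b, ?_, ?_⟩
  · rw [← Category.assoc, ← Spec.map_comp, ← CommRingCat.ofHom_comp, hr2, ← Category.assoc,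
      hUT.2.1, hh1]
  · rw [Category.assoc, Category.assoc, pullback.condition, ← Category.assoc hC, hφ,
      ← Category.assoc, ← Spec.map_comp, ← CommRingCat.ofHom_comp, hr1']
    simp

end Groth.Agent.Helper15.FSm
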