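import Mathlib
import Groth.Agent.Lib.Helper15.FSm1
import Groth.Agent.Lib.Helper7.ProjDescent

set_option autoImplicit false
set_option linter.unusedSectionVars false
universe u
open TensorProduct

namespace Groth.Agent.Helper15.FSm

section LPB

variable {A B C : Type u} [CommRing A] [CommRing B] [CommRing C] [Algebra A C] (I : Ideal A)
  (π : C →+* A ⧸ I) (φB : A →+* B)

/-- The lifting property of `C` over `A` for test rings over the `A`-algebra `B`. -/
def LPB : Prop :=
  ∀ (D D' : Type u) [CommRing D] [CommRing D'] (β' : B →+* D) (κ : D →+* D') (𝔡 : Ideal D)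
    (ρ : C →+* D'),
    Function.Surjective κ → 𝔡 ^ 2 = ⊥ → RingHom.ker κ ≤ 𝔡 →
    ρ.comp (algebraMap A C) = κ.comp (β'.comp φB) → (∀ k ∈ RingHom.ker π, ρ k ∈ 𝔡.map κ) →
    ∃ ρ' : C →+* D, κ.comp ρ' = ρ ∧ ρ'.comp (algebraMap A C) = β'.comp φB

variable {I π φB}
variable (hπ : π.comp (algebraMap A C) = Ideal.Quotient.mk I)
variable (hK : RingHom.ker π ^ 2 = ⊥)

include hK in
/-- Projectivity of the conormal module after base change to `B`, from the lifting property. -/
theorem projective_tensor_of_LPB (S : Type u) [CommRing S] [Algebra (A ⧸ I) S] (γ : B →+* S)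
    (hγ : (algebraMap (A ⧸ I) S).comp (Ideal.Quotient.mk I) = γ.comp φB) (hg : LPB I π φB) :
    Module.Projective S (S ⊗[A ⧸ I] Q hπ) := by
  let P := S ⊗[A ⧸ I] Q hπ
  let E := P →₀ S
  let p : E →ₗ[S] P := Finsupp.linearCombination S id
  have hp : Function.Surjective p := Finsupp.linearCombination_id_surjective S P
  let κ : TrivSqZeroExt S E →+* TrivSqZeroExt S P := (TrivSqZeroExt.map p).toRingHom
  let β : A →+* TrivSqZeroExt S E :=
    (TrivSqZeroExt.inlHom S E).comp ((algebraMap (A ⧸ I) S).comp (Ideal.Quotient.mk I))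
  let ρ : C →+* TrivSqZeroExt S P := (rhoBar hπ hK S).comp (Ideal.Quotient.mk _)
  have hκ : ∀ x, κ x = TrivSqZeroExt.map p x := fun _ => rfl
  have hβ : ∀ a, β a = TrivSqZeroExt.inl (algebraMap (A ⧸ I) S (Ideal.Quotient.mk I a)) :=
    fun _ => rfl
  have hρ : ∀ c, ρ c = rhoBar hπ hK S (Ideal.Quotient.mk _ c) := fun _ => rfl
  have hc1 : Function.Surjective κ := by
    intro y
    obtain ⟨e, he⟩ := hp y.snd
    refine ⟨TrivSqZeroExt.inl y.fst + TrivSqZeroExt.inr e, ?_⟩
    rw [hκ, map_add, TrivSqZeroExt.map_inl, TrivSqZeroExt.map_inr, he,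
      TrivSqZeroExt.inl_fst_add_inr_snd_eq]
  have hc2 : β = ((TrivSqZeroExt.inlHom S E).comp γ).comp φB := by
    refine RingHom.ext fun a => ?_
    show TrivSqZeroExt.inl (algebraMap (A ⧸ I) S (Ideal.Quotient.mk I a)) =
      TrivSqZeroExt.inl (γ (φB a))
    have := RingHom.congr_fun hγ a
    rw [RingHom.comp_apply, RingHom.comp_apply] at this
    rw [this]
  have hc3 : RingHom.ker κ ≤ TrivSqZeroExt.kerIdeal S E := by
    intro x hx
    rw [RingHom.mem_ker, hκ] at hx
    have : (TrivSqZeroExt.map p x).fst = 0 := by rw [hx, TrivSqZeroExt.fst_zero]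
    rw [TrivSqZeroExt.fst_map] at this
    show x ∈ RingHom.ker _
    rw [RingHom.mem_ker]
    exact this
  have hc4 : ρ.comp (algebraMap A C) = κ.comp β := by
    refine RingHom.ext fun a => ?_
    show ρ (algebraMap A C a) = κ (β a)
    rw [hρ, rhoBar_apply, dQ_mk_algebraMap, piBar_mk,
      pi_algebraMap hπ, TensorProduct.tmul_zero, TrivSqZeroExt.inr_zero, add_zero, hκ, hβ,
      TrivSqZeroExt.map_inl]
  have hc5 : ∀ k ∈ RingHom.ker π, ρ k ∈ (TrivSqZeroExt.kerIdeal S E).map κ := by
    intro k hk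
    rw [hρ, rhoBar_apply, piBar_mk, RingHom.mem_ker.mp hk, map_zero, TrivSqZeroExt.inl_zero,
      zero_add]
    obtain ⟨e, he⟩ := hp ((1 : S) ⊗ₜ[A ⧸ I] dQ hπ (Ideal.Quotient.mk _ k))
    have : κ (TrivSqZeroExt.inr e) = TrivSqZeroExt.inr ((1 : S) ⊗ₜ[A ⧸ I]
        dQ hπ (Ideal.Quotient.mk _ k)) := by
      rw [hκ, TrivSqZeroExt.map_inr, he]
    rw [← this]
    apply Ideal.mem_map_of_mem
    rw [TrivSqZeroExt.mem_kerIdeal_iff_inr, TrivSqZeroExt.snd_inr]
  obtain ⟨ρ', h1, h2'⟩ := hg (TrivSqZeroExt S E) (TrivSqZeroExt S P)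
    ((TrivSqZeroExt.inlHom S E).comp γ) κ
    (TrivSqZeroExt.kerIdeal S E) ρ hc1 (TrivSqZeroExt.kerIdeal_sq S E) hc3 (by rw [← hc2]; exact hc4)
    hc5
  have h2 : ρ'.comp (algebraMap A C) = β := by rw [hc2]; exact h2'
  have hρ'I : ∀ y ∈ I.map (algebraMap A C), ρ' y = 0 := by
    intro y hy
    obtain ⟨x, hx, rfl⟩ := exists_of_mem_map hπ hK hy
    have := RingHom.congr_fun h2 x
    rw [RingHom.comp_apply] at this
    rw [this, hβ, Ideal.Quotient.eq_zero_iff_mem.mpr hx, map_zero, TrivSqZeroExt.inl_zero]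
  let ρb : Cbar I C →+* TrivSqZeroExt S E := Ideal.Quotient.lift _ ρ' hρ'I
  have hρb : ∀ c, ρb (Ideal.Quotient.mk _ c) = ρ' c := fun _ => rfl
  have hκρb : ∀ x, κ (ρb x) = rhoBar hπ hK S x := by
    intro x
    obtain ⟨c, rfl⟩ := Ideal.Quotient.mk_surjective x
    rw [hρb, ← hρ]
    exact RingHom.congr_fun h1 c
  let σ₀ : Q hπ →ₗ[A ⧸ I] E :=
    { toFun := fun q => (ρb (q : Cbar I C)).snd
      map_add' := fun q q' => by
        rw [Submodule.coe_add, map_add, TrivSqZeroExt.snd_add]
      map_smul' := fun r q => by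
        obtain ⟨a, rfl⟩ := Ideal.Quotient.mk_surjective r
        rw [Submodule.coe_smul_of_tower, Algebra.smul_def, algebraMap_mk, map_mul, hρb]
        have := RingHom.congr_fun h2 a
        rw [RingHom.comp_apply] at this
        rw [this, hβ, TrivSqZeroExt.snd_mul, TrivSqZeroExt.fst_inl, TrivSqZeroExt.snd_inl,
          RingHom.id_apply]
        simp only [smul_zero, add_zero]
        rw [algebraMap_smul] }
  have hσ₀ : ∀ q : Q hπ, p (σ₀ q) = (1 : S) ⊗ₜ[A ⧸ I] q := by
    intro q
    show p ((ρb (q : Cbar I C)).snd) = _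
    rw [← TrivSqZeroExt.snd_map, ← hκ, hκρb, rhoBar_apply, TrivSqZeroExt.snd_add,
      TrivSqZeroExt.snd_inl, TrivSqZeroExt.snd_inr, zero_add, dQ_of_mem]
  let sec : P →ₗ[S] E := LinearMap.liftBaseChange S σ₀
  have hsec : p ∘ₗ sec = LinearMap.id := by
    apply TensorProduct.AlgebraTensorModule.ext
    intro x q
    rw [LinearMap.comp_apply, LinearMap.liftBaseChange_tmul, map_smul, hσ₀,
      TensorProduct.smul_tmul', smul_eq_mul, mul_one, LinearMap.id_apply]
  exact Module.Projective.of_split sec p hsec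

include hK in
/-- Projectivity of the conormal module from the lifting property over a faithfully flat
`A`-algebra (descent of projectivity). -/
theorem projective_Q_of_LPB [Algebra A B] [Module.FaithfullyFlat A B]
    (hg : LPB I π (algebraMap A B)) : Module.Projective (A ⧸ I) (Q hπ) := by
  haveI : Module.Projective ((A ⧸ I) ⊗[A] B) (((A ⧸ I) ⊗[A] B) ⊗[A ⧸ I] Q hπ) :=
    projective_tensor_of_LPB hπ hK ((A ⧸ I) ⊗[A] B)
      (Algebra.TensorProduct.includeRight : B →ₐ[A] (A ⧸ I) ⊗[A] B).toRingHom (by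
        refine RingHom.ext fun a => ?_
        show algebraMap (A ⧸ I) ((A ⧸ I) ⊗[A] B) (Ideal.Quotient.mk I a) =
          (1 : A ⧸ I) ⊗ₜ[A] (algebraMap A B a)
        rw [Algebra.TensorProduct.algebraMap_apply, Algebra.algebraMap_self, RingHom.id_apply,
          Algebra.algebraMap_eq_smul_one a, ← TensorProduct.smul_tmul, ← Algebra.algebraMap_eq_smul_one]
        rfl) hg
  exact Groth.Agent.Helper7.ProjDescent.projective_of_baseChange (R := A ⧸ I)
    (S := (A ⧸ I) ⊗[A] B) (M := Q hπ)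

end LPB

section Main2

variable {A C : Type u} [CommRing A] [CommRing C] [Algebra A C] {I : Ideal A} {π : C →+* A ⧸ I}
variable (hπ : π.comp (algebraMap A C) = Ideal.Quotient.mk I)
variable (hK : RingHom.ker π ^ 2 = ⊥)

include hπ hK in
/-- The retraction from injectivity and projectivity of the conormal module. -/
theorem exists_retraction_of_inj_proj (hinj : Function.Injective (algebraMap A C))
    [Module.Projective (A ⧸ I) (Q hπ)] :
    ∃ r : C →+* A, r.comp (algebraMap A C) = RingHom.id A ∧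
      (Ideal.Quotient.mk I).comp r = π := by
  have htors := isTorsionBySet_ker hπ hK
  letI : Module (A ⧸ I) (RingHom.ker π) := htors.module
  have hsmul : ∀ (a : A) (k : RingHom.ker π), (Ideal.Quotient.mk I a) • k = a • k :=
    fun a k => Module.IsTorsionBySet.mk_smul htors a k
  -- the quotient map K → Q
  let qK : RingHom.ker π →ₗ[A ⧸ I] Q hπ :=
    { toFun := fun k => ⟨Ideal.Quotient.mk _ (k : C), (mk_mem_Q hπ).mpr k.2⟩
      map_add' := fun k k' => by
        apply Subtype.ext
        simp only [Submodule.coe_add, map_add]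
      map_smul' := fun r k => by
        obtain ⟨a, rfl⟩ := Ideal.Quotient.mk_surjective r
        apply Subtype.ext
        rw [hsmul, RingHom.id_apply]
        show Ideal.Quotient.mk (I.map (algebraMap A C)) ((a • k : RingHom.ker π) : C) =
          ((Ideal.Quotient.mk I a • (⟨Ideal.Quotient.mk _ (k : C), (mk_mem_Q hπ).mpr k.2⟩ : Q hπ)
            : Q hπ) : Cbar I C)
        rw [Submodule.coe_smul_of_tower, Submodule.coe_smul_of_tower,
          Algebra.smul_def, Algebra.smul_def, map_mul, algebraMap_mk] }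
  have hqK : ∀ k : RingHom.ker π, ((qK k : Q hπ) : Cbar I C) = Ideal.Quotient.mk _ (k : C) :=
    fun _ => rfl
  have hqKsurj : Function.Surjective qK := by
    intro q
    obtain ⟨c, hc⟩ := Ideal.Quotient.mk_surjective (q : Cbar I C)
    have hcK : c ∈ RingHom.ker π := by
      rw [← mk_mem_Q hπ, hc]; exact q.2
    exact ⟨⟨c, hcK⟩, Subtype.ext hc⟩
  obtain ⟨sQ, hsQ⟩ := Module.projective_lifting_property qK LinearMap.id hqKsurj
  have hsQ' : ∀ q : Q hπ, Ideal.Quotient.mk (I.map (algebraMap A C)) ((sQ q : RingHom.ker π) : C)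
      = (q : Cbar I C) := by
    intro q
    rw [← hqK]
    have := LinearMap.congr_fun hsQ q
    rw [LinearMap.comp_apply, LinearMap.id_apply] at this
    rw [this]
  -- the complement
  let N : Ideal C :=
    { carrier := {c | ∃ q : Q hπ, ((sQ q : RingHom.ker π) : C) = c}
      add_mem' := by
        rintro _ _ ⟨q, rfl⟩ ⟨q', rfl⟩
        exact ⟨q + q', by rw [map_add, Submodule.coe_add]⟩
      zero_mem' := ⟨0, by rw [map_zero, Submodule.coe_zero]⟩
      smul_mem' := by
        rintro c _ ⟨q, rfl⟩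
        obtain ⟨a, ha⟩ := exists_lift (π := π) c
        refine ⟨Ideal.Quotient.mk I a • q, ?_⟩
        rw [map_smul, hsmul, Submodule.coe_smul_of_tower, Algebra.smul_def, smul_eq_mul,
          mul_eq_algebraMap_mul hπ hK c a ha (sQ q).2] }
  have hN : ∀ c, c ∈ N ↔ ∃ q : Q hπ, ((sQ q : RingHom.ker π) : C) = c := fun _ => Iff.rfl
  have hNK : N ≤ RingHom.ker π := by
    rintro _ ⟨q, rfl⟩
    exact (sQ q).2
  let θ : A →+* C ⧸ N := (Ideal.Quotient.mk N).comp (algebraMap A C)
  have hθ : ∀ a, θ a = Ideal.Quotient.mk N (algebraMap A C a) := fun _ => rfl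
  have hθinj : Function.Injective θ := by
    rw [injective_iff_map_eq_zero]
    intro a ha
    rw [hθ, Ideal.Quotient.eq_zero_iff_mem, hN] at ha
    obtain ⟨q, hq⟩ := ha
    have h1 : Ideal.Quotient.mk I a = 0 := by
      rw [← pi_algebraMap hπ, ← hq]
      exact RingHom.mem_ker.mp (sQ q).2
    have h2 : a ∈ I := Ideal.Quotient.eq_zero_iff_mem.mp h1
    have h3 : (q : Cbar I C) = 0 := by
      rw [← hsQ', hq, Ideal.Quotient.eq_zero_iff_mem]
      exact Ideal.mem_map_of_mem _ h2
    have h4 : q = 0 := Subtype.ext h3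
    rw [h4, map_zero, Submodule.coe_zero] at hq
    exact hinj (by rw [← hq, map_zero])
  have hθsurj : Function.Surjective θ := by
    intro y
    obtain ⟨c, rfl⟩ := Ideal.Quotient.mk_surjective y
    obtain ⟨a, ha⟩ := exists_lift (π := π) c
    let q : Q hπ := dQ hπ (Ideal.Quotient.mk _ c)
    have h1 : Ideal.Quotient.mk (I.map (algebraMap A C))
        (c - ((sQ q : RingHom.ker π) : C) - algebraMap A C a) = 0 := by
      rw [map_sub, map_sub, hsQ', dQ_coe, piBar_mk, ← ha, algebraMap_mk]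
      ring
    rw [Ideal.Quotient.eq_zero_iff_mem] at h1
    obtain ⟨x, -, hx⟩ := exists_of_mem_map hπ hK h1
    refine ⟨a + x, ?_⟩
    rw [hθ, map_add, hx]
    rw [← sub_eq_zero, ← map_sub, Ideal.Quotient.eq_zero_iff_mem, hN]
    refine ⟨-q, ?_⟩
    rw [map_neg, Submodule.coe_neg]
    ring
  let e : A ≃+* C ⧸ N := RingEquiv.ofBijective θ ⟨hθinj, hθsurj⟩
  have he : ∀ a, e a = Ideal.Quotient.mk N (algebraMap A C a) := fun _ => rfl
  refine ⟨(e.symm : C ⧸ N →+* A).comp (Ideal.Quotient.mk N), ?_, ?_⟩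
  · refine RingHom.ext fun a => ?_
    show e.symm (Ideal.Quotient.mk N (algebraMap A C a)) = a
    rw [← he, RingEquiv.symm_apply_apply]
  · refine RingHom.ext fun c => ?_
    show Ideal.Quotient.mk I (e.symm (Ideal.Quotient.mk N c)) = π c
    have h1 : Ideal.Quotient.mk N (algebraMap A C (e.symm (Ideal.Quotient.mk N c))) =
        Ideal.Quotient.mk N c := by
      rw [← he, RingEquiv.apply_symm_apply]
    rw [← sub_eq_zero, ← map_sub, Ideal.Quotient.eq_zero_iff_mem] at h1
    have h2 := RingHom.mem_ker.mp (hNK h1)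
    rw [map_sub, pi_algebraMap hπ, sub_eq_zero] at h2
    exact h2

end Main2

end Groth.Agent.Helper15.FSm
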