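import Mathlib
import Groth.Agent.Lib.Helper15.FSm3

set_option autoImplicit false
set_option linter.unusedSectionVars false
universe u
open TensorProduct

namespace Groth.Agent.Helper15.FSm

section LPBpi

variable {A C : Type u} [CommRing A] [CommRing C] [Algebra A C] (I : Ideal A)
  (π : C →+* A ⧸ I)

/-- The lifting property for finitely many algebras gives it for their product. -/
theorem LPB_pi {m : ℕ} (B : Fin m → Type u) [∀ i, CommRing (B i)] (φ : ∀ i, A →+* B i)
    (h : ∀ i, LPB I π (φ i)) : LPB I π (RingHom.pi φ) := by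
  classical
  intro D D' _ _ β' κ 𝔡 ρ hκ h𝔡 hker hcomp hρK
  obtain ⟨e, he_def⟩ : ∃ e : Fin m → D, e = fun i => β' (Pi.single i 1) := ⟨_, rfl⟩
  have he : CompleteOrthogonalIdempotents e := by
    rw [he_def]
    exact (CompleteOrthogonalIdempotents.single B).map β'
  have he' : CompleteOrthogonalIdempotents (κ ∘ e) := he.map κ
  have hΦ := he.bijective_pi
  have hΦ' := he'.bijective_pi
  -- the maps
  have hle : ∀ i, Ideal.span {1 - e i} ≤ (Ideal.span {1 - (κ ∘ e) i}).comap κ := by
    intro i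
    rw [Ideal.span_le, Set.singleton_subset_iff]
    show κ (1 - e i) ∈ Ideal.span {1 - (κ ∘ e) i}
    rw [map_sub, map_one]
    exact Ideal.subset_span rfl
  obtain ⟨κi, hκi⟩ : ∃ κi : ∀ i, D ⧸ Ideal.span {1 - e i} →+* D' ⧸ Ideal.span {1 - (κ ∘ e) i},
      κi = fun i => Ideal.quotientMap _ κ (hle i) := ⟨_, rfl⟩
  have hκimk : ∀ i d, κi i (Ideal.Quotient.mk _ d) = Ideal.Quotient.mk _ (κ d) := by
    intro i d; rw [hκi]; exact Ideal.quotientMap_mk
  have hmk_e : ∀ i, Ideal.Quotient.mk (Ideal.span {1 - e i}) (e i) = 1 := by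
    intro i
    have : Ideal.Quotient.mk (Ideal.span {1 - e i}) (1 - e i) = 0 :=
      Ideal.Quotient.eq_zero_iff_mem.2 (Ideal.subset_span rfl)
    rw [map_sub, map_one, sub_eq_zero] at this
    exact this.symm
  have hmk_e0 : ∀ i j, j ≠ i → Ideal.Quotient.mk (Ideal.span {1 - e i}) (e j) = 0 := by
    intro i j hji
    have h1 : e j * e i = 0 := he.ortho hji
    have : Ideal.Quotient.mk (Ideal.span {1 - e i}) (e j) =
        Ideal.Quotient.mk (Ideal.span {1 - e i}) (e j) * Ideal.Quotient.mk _ (e i) := by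
      rw [hmk_e, mul_one]
    rw [this, ← map_mul, h1, map_zero]
  -- the components of `β'`
  have hsingle_mul : ∀ i (x : ∀ i, B i), x * Pi.single i 1 = Pi.single i (x i) := by
    intro i x
    funext j
    by_cases hj : j = i
    · subst hj; simp
    · simp [hj]
  have hβe : ∀ i (x : ∀ i, B i), Ideal.Quotient.mk (Ideal.span {1 - e i}) (β' x) =
      Ideal.Quotient.mk (Ideal.span {1 - e i}) (β' (Pi.single i (x i))) := by
    intro i x
    have h1 : Ideal.Quotient.mk (Ideal.span {1 - e i}) (β' x) =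
        Ideal.Quotient.mk _ (β' x) * Ideal.Quotient.mk _ (e i) := by rw [hmk_e, mul_one]
    rw [h1, ← map_mul, he_def]
    show Ideal.Quotient.mk _ (β' x * β' (Pi.single i 1)) = _
    rw [← map_mul, hsingle_mul]
  let βi : ∀ i, B i →+* D ⧸ Ideal.span {1 - e i} := fun i =>
    { toFun := fun b => Ideal.Quotient.mk _ (β' (Pi.single i b))
      map_one' := by
        have h1 : e i = β' (Pi.single i 1) := by rw [he_def]
        show Ideal.Quotient.mk (Ideal.span {1 - e i}) (β' (Pi.single i 1)) = 1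
        rw [← h1]
        exact hmk_e i
      map_mul' := fun a b => by rw [Pi.single_mul, map_mul, map_mul]
      map_zero' := by rw [Pi.single_zero, map_zero, map_zero]
      map_add' := fun a b => by rw [Pi.single_add, map_add, map_add] }
  have hβi : ∀ i (x : ∀ i, B i), Ideal.Quotient.mk (Ideal.span {1 - e i}) (β' x) = βi i (x i) :=
    fun i x => hβe i x
  -- the hypotheses of the lifting property for each factor
  have hc1 : ∀ i, Function.Surjective (κi i) := by
    intro i y
    obtain ⟨d', rfl⟩ := Ideal.Quotient.mk_surjective y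
    obtain ⟨d, rfl⟩ := hκ d'
    exact ⟨Ideal.Quotient.mk _ d, hκimk i d⟩
  have hc2 : ∀ i, (𝔡.map (Ideal.Quotient.mk (Ideal.span {1 - e i}))) ^ 2 = ⊥ := by
    intro i
    rw [← Ideal.map_pow, h𝔡, Ideal.map_bot]
  have hc3 : ∀ i, RingHom.ker (κi i) ≤ 𝔡.map (Ideal.Quotient.mk (Ideal.span {1 - e i})) := by
    intro i x hx
    obtain ⟨d, rfl⟩ := Ideal.Quotient.mk_surjective x
    rw [RingHom.mem_ker, hκimk, Ideal.Quotient.eq_zero_iff_mem, Ideal.mem_span_singleton'] at hx
    obtain ⟨y', hy'⟩ := hx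
    obtain ⟨y, rfl⟩ := hκ y'
    have h1 : d - y * (1 - e i) ∈ RingHom.ker κ := by
      rw [RingHom.mem_ker, map_sub, map_mul, map_sub, map_one, sub_eq_zero]
      exact hy'.symm
    have h2 : Ideal.Quotient.mk (Ideal.span {1 - e i}) d =
        Ideal.Quotient.mk (Ideal.span {1 - e i}) (d - y * (1 - e i)) := by
      rw [map_sub, map_mul]
      have : Ideal.Quotient.mk (Ideal.span {1 - e i}) (1 - e i) = 0 :=
        Ideal.Quotient.eq_zero_iff_mem.2 (Ideal.subset_span rfl)
      rw [this, mul_zero, sub_zero]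
    rw [h2]
    exact Ideal.mem_map_of_mem _ (hker h1)
  have hsq : ∀ i, (Ideal.Quotient.mk (Ideal.span {1 - (κ ∘ e) i})).comp κ =
      (κi i).comp (Ideal.Quotient.mk (Ideal.span {1 - e i})) := by
    intro i
    refine RingHom.ext fun d => ?_
    rw [RingHom.comp_apply, RingHom.comp_apply, hκimk]
  have hc4 : ∀ i, ((Ideal.Quotient.mk (Ideal.span {1 - (κ ∘ e) i})).comp ρ).comp
      (algebraMap A C) = (κi i).comp ((βi i).comp (φ i)) := by
    intro i
    refine RingHom.ext fun a => ?_
    have h1 : ρ (algebraMap A C a) = κ (β' (RingHom.pi φ a)) := RingHom.congr_fun hcomp a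
    show Ideal.Quotient.mk _ (ρ (algebraMap A C a)) = κi i (βi i (φ i a))
    rw [h1, ← hκimk, hβi]
    rfl
  have hc5 : ∀ i, ∀ k ∈ RingHom.ker π,
      ((Ideal.Quotient.mk (Ideal.span {1 - (κ ∘ e) i})).comp ρ) k ∈
        (𝔡.map (Ideal.Quotient.mk (Ideal.span {1 - e i}))).map (κi i) := by
    intro i k hk
    rw [Ideal.map_map, ← hsq, ← Ideal.map_map]
    exact Ideal.mem_map_of_mem _ (hρK k hk)
  choose ρi hρi1 hρi2 using fun i => h i (D ⧸ Ideal.span {1 - e i})
    (D' ⧸ Ideal.span {1 - (κ ∘ e) i}) (βi i) (κi i) (𝔡.map (Ideal.Quotient.mk _))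
    ((Ideal.Quotient.mk _).comp ρ) (hc1 i) (hc2 i) (hc3 i) (hc4 i) (hc5 i)
  -- assembling
  let Φ := RingEquiv.ofBijective _ hΦ
  have hΦmk : ∀ d i, Φ d i = Ideal.Quotient.mk (Ideal.span {1 - e i}) d := fun d i => rfl
  obtain ⟨ρ', hρ'⟩ : ∃ ρ' : C →+* D, ρ' = (Φ.symm : _ →+* D).comp (RingHom.pi ρi) := ⟨_, rfl⟩
  have hρ'mk : ∀ c i, Ideal.Quotient.mk (Ideal.span {1 - e i}) (ρ' c) = ρi i c := by
    intro c i
    rw [← hΦmk, hρ']
    show Φ (Φ.symm (RingHom.pi ρi c)) i = _
    rw [RingEquiv.apply_symm_apply]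
    rfl
  refine ⟨ρ', ?_, ?_⟩
  · refine RingHom.ext fun c => ?_
    apply hΦ'.1
    funext i
    show Ideal.Quotient.mk _ (κ (ρ' c)) = Ideal.Quotient.mk _ (ρ c)
    rw [← hκimk, hρ'mk]
    exact RingHom.congr_fun (hρi1 i) c
  · refine RingHom.ext fun a => ?_
    apply hΦ.1
    funext i
    show Ideal.Quotient.mk _ (ρ' (algebraMap A C a)) = Ideal.Quotient.mk _ (β' (RingHom.pi φ a))
    rw [hρ'mk, hβi]
    exact RingHom.congr_fun (hρi2 i) a

end LPBpi

section FF

/-- A finite product of flat algebras which jointly cover the maximal spectrum is faithfully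
flat. -/
theorem faithfullyFlat_pi {A : Type u} [CommRing A] {m : ℕ} (B : Fin m → Type u)
    [∀ i, CommRing (B i)] [∀ i, Algebra A (B i)] [∀ i, Module.Flat A (B i)]
    (hsurj : ∀ M : Ideal A, M.IsMaximal → ∃ (i : Fin m) (q : Ideal (B i)), q.IsPrime ∧
      q.comap (algebraMap A (B i)) = M) :
    Module.FaithfullyFlat A (∀ i, B i) := by
  haveI : Module.Flat A (∀ i, B i) :=
    Module.Flat.of_linearEquiv (DFinsupp.linearEquivFunOnFintype (R := A) (M := B)).symm
  refine ⟨?_⟩
  intro M hM htop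
  obtain ⟨i, q, hq, hqM⟩ := hsurj M hM
  have h1 : ∀ x ∈ M • (⊤ : Submodule A (∀ i, B i)), x i ∈ q := by
    intro x hx
    refine Submodule.smul_induction_on hx ?_ ?_
    · intro a ha y _
      show a • y i ∈ q
      rw [Algebra.smul_def]
      apply Ideal.mul_mem_right
      have : a ∈ q.comap (algebraMap A (B i)) := by rw [hqM]; exact ha
      exact this
    · intro x y hx hy
      exact q.add_mem hx hy
  have h2 : (1 : ∀ i, B i) i ∈ q := h1 1 (by rw [htop]; trivial)
  exact hq.ne_top ((Ideal.eq_top_iff_one q).2 h2)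

end FF

section Retraction

variable {A B C : Type u} [CommRing A] [CommRing B] [CommRing C] [Algebra A C] {I : Ideal A}
  {π : C →+* A ⧸ I}
variable (hπ : π.comp (algebraMap A C) = Ideal.Quotient.mk I)
variable (hK : RingHom.ker π ^ 2 = ⊥)

include hπ hK in
/-- The retraction from the lifting property over a faithfully flat algebra. -/
theorem exists_retraction_of_LPB (hI : I ^ 2 = ⊥) [Algebra A B] [Module.FaithfullyFlat A B]
    (hg : LPB I π (algebraMap A B)) :
    ∃ r : C →+* A, r.comp (algebraMap A C) = RingHom.id A ∧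
      (Ideal.Quotient.mk I).comp r = π := by
  have hinj : Function.Injective (algebraMap A C) := by
    have h𝔡 : (I.map (algebraMap A B)) ^ 2 = ⊥ := by
      rw [← Ideal.map_pow, hI, Ideal.map_bot]
    obtain ⟨ρ', -, hρ'⟩ := hg B (B ⧸ I.map (algebraMap A B))
      (RingHom.id _) (Ideal.Quotient.mk _) (I.map (algebraMap A B))
      ((Ideal.quotientMap (I.map (algebraMap A B)) (algebraMap A B) Ideal.le_comap_map).comp π)
      Ideal.Quotient.mk_surjective h𝔡 (by rw [Ideal.mk_ker])
      (by
        refine RingHom.ext fun x => ?_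
        have h1 : π (algebraMap A C x) = Ideal.Quotient.mk I x := RingHom.congr_fun hπ x
        show Ideal.quotientMap (I.map (algebraMap A B)) (algebraMap A B) Ideal.le_comap_map
          (π (algebraMap A C x)) = Ideal.Quotient.mk _ (algebraMap A B x)
        rw [h1, Ideal.quotientMap_mk])
      (by
        intro k hk
        rw [RingHom.comp_apply, RingHom.mem_ker.mp hk, map_zero]
        exact Ideal.zero_mem _)
    intro x y hxy
    apply FaithfulSMul.algebraMap_injective A B
    have hx := RingHom.congr_fun hρ' x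
    have hy := RingHom.congr_fun hρ' y
    rw [RingHom.comp_apply] at hx hy
    have hx' : algebraMap A B x = ρ' (algebraMap A C x) := hx.symm
    have hy' : algebraMap A B y = ρ' (algebraMap A C y) := hy.symm
    rw [hx', hy', hxy]
  haveI := projective_Q_of_LPB hπ hK hg
  exact exists_retraction_of_inj_proj hπ hK hinj

end Retraction

end Groth.Agent.Helper15.FSm
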