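import Groth.Agent.Lib.Helper15.FppfBridge4
import Groth.Agent.Lib.Helper15.AffDesc4
import Groth.Agent.Lib.Helper15.AlgSpGlue
import Groth.Agent.Lib.Helper21.DescQA5

set_option autoImplicit false
set_option linter.style.haveILetI false
universe u
open CategoryTheory CategoryTheory.Limits AlgebraicGeometry MorphismProperty Opposite
open AlgSp

namespace Groth.Agent.Helper15.Bridge

variable {S : Scheme.{u}}

/-- Being quasi-affine descends along an fppf chart of the target. -/
theorem isQuasiAffineMor_of_chart {F H : Sp S} (f : F ⟶ H) {V : Over S}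
    (p : (yon S).obj V ⟶ H) (hp₁ : RepWith @Flat p)
    (hp₂ : RepWith @LocallyOfFinitePresentation p) (hp₃ : RepWith @Surjective p) {F' : Sp S}
    (fst : F' ⟶ F) (snd : F' ⟶ (yon S).obj V) (sq : IsPullback fst snd f p)
    (h : IsQuasiAffineMor snd) : IsQuasiAffineMor f := by
  intro T hT g
  haveI := hT
  have pb : IsPullback (pullback.fst f g) (pullback.snd f g) f g := IsPullback.of_hasPullback f g
  have hrep := hp₁.rep
  have sqT : IsPullback (hrep.fst g) ((yon S).map (hrep.snd g)) p g := hrep.isPullback g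
  obtain ⟨T'', d, hT'', hd1, hd2, hd3⟩ := exists_affine_refinement (hrep.snd g)
    (hp₁.property_snd g) (hp₂.property_snd g) (hp₃.property_snd g)
  haveI := hT''
  set c := hrep.snd g
  set v := hrep.fst g
  let t : (yon S).obj T'' ⟶ (yon S).obj V := (yon S).map d ≫ v
  obtain ⟨U, i, fstU, sqU, hQi⟩ := h hT'' t
  haveI : U.left.IsQuasiAffine := hQi
  have big : IsPullback (fstU ≫ fst) ((yon S).map i) f (t ≫ p) := sqU.paste_horiz sq
  have htp : t ≫ p = (yon S).map (d ≫ c) ≫ g := by
    change ((yon S).map d ≫ v) ≫ p = _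
    rw [Category.assoc, sqT.w, Functor.map_comp, Category.assoc]
  rw [htp] at big
  have hwℓ : (fstU ≫ fst) ≫ f = ((yon S).map i ≫ (yon S).map (d ≫ c)) ≫ g := by
    rw [Category.assoc _ _ g]; exact big.w
  have hℓ₁ : pb.lift _ _ hwℓ ≫ pullback.fst f g = fstU ≫ fst := pb.lift_fst _ _ _
  have hℓ₂ : pb.lift _ _ hwℓ ≫ pullback.snd f g = (yon S).map i ≫ (yon S).map (d ≫ c) :=
    pb.lift_snd _ _ _
  have left : IsPullback (pb.lift _ _ hwℓ) ((yon S).map i) (pullback.snd f g)
      ((yon S).map (d ≫ c)) := by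
    refine IsPullback.of_right ?_ hℓ₂ pb
    rw [hℓ₁]
    exact big
  have hQA : Groth.Agent.Helper21.DescQA.QA i.left :=
    Groth.Agent.Helper21.DescQA.QA.of_isQuasiAffine i.left
  obtain ⟨W, j, e, he⟩ := exists_rep_of_qa (ι := PUnit.{u + 1}) (T' := fun _ => T'')
    (c := fun _ => d ≫ c) (V' := fun _ => U) (π := fun _ => i)
    (fst := fun _ => pb.lift _ _ hwℓ) (fun _ => left) (fun _ => hd1) (fun _ => hd2)
    (fun x => ⟨⟨⟩, hd3.surj x⟩) (fun _ => hQA)
  obtain ⟨w, hw, sqW⟩ := exists_chart_of_rep j e he left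
  refine ⟨W, j, e.hom ≫ pullback.fst f g, ?_, ?_⟩
  · refine pb.of_iso e.symm (Iso.refl _) (Iso.refl _) (Iso.refl _) ?_ ?_ ?_ ?_
    · simp
    · simp only [Iso.symm_hom, Iso.refl_hom, Category.comp_id]
      rw [← he, Iso.inv_hom_id_assoc]
    · simp
    · simp
  · have sqL : IsPullback w.left i.left j.left (d ≫ c).left := sqW.map (Over.forget S)
    haveI : (pullback j.left (d ≫ c).left).IsQuasiAffine :=
      Scheme.IsQuasiAffine.of_isAffineHom sqL.isoPullback.inv
    haveI : Flat (d ≫ c).left := hd1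
    haveI : Surjective (d ≫ c).left := hd3
    exact Groth.Agent.Helper21.DescQA5.isQuasiAffine_of_flat_surjective j.left (d ≫ c).left
      inferInstance

/-- A quasi-affine morphism of sheaves is representable. -/
theorem representable_of_isQuasiAffineMor {F H : Sp S} (f : F ⟶ H) (h : IsQuasiAffineMor f) :
    Representable f := by
  have : AffRep (⊤ : MorphismProperty Scheme.{u}) f := fun Z hZ g => by
    obtain ⟨W, i, fst, sq, -⟩ := h hZ g
    exact ⟨W, i, fst, sq, trivial⟩
  exact (repWith_of_affRep f this).rep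

end Groth.Agent.Helper15.Bridge
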