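import Mathlib
import Groth.Prelude
import Groth.Agent.Lib.Helper15.EffCart6

/-!
# First order thickenings of algebraic spaces: square-zero kernels on arbitrary affine charts
-/

set_option autoImplicit false
set_option backward.isDefEq.respectTransparency false
universe u
open CategoryTheory CategoryTheory.Limits AlgebraicGeometry MorphismProperty Opposite
open AlgSp

namespace Groth.Agent.Helper15.Thick

open Groth.Agent.Helper15 Groth.Agent.Helper15.IdealEt

/-- On an affine target, the kernel ideal sheaf has square zero iff the kernel on global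
functions has. -/
theorem sqZero_iff_ker_sq {W V : Scheme.{u}} (f : W ⟶ V) [QuasiCompact f] [IsAffine V] :
    sqZero f ↔ RingHom.ker f.appTop.hom ^ 2 = ⊥ := by
  have h1 : (f.ker * f.ker).ideal ⟨⊤, isAffineOpen_top V⟩ = RingHom.ker f.appTop.hom ^ 2 := by
    rw [Scheme.IdealSheafData.ideal_mul, Pi.mul_apply, Scheme.Hom.ker_apply, sq]
  constructor
  · intro h
    rw [← h1, show f.ker * f.ker = ⊥ from h, Scheme.IdealSheafData.ideal_bot, Pi.bot_apply]
  · intro h
    change f.ker * f.ker = ⊥
    apply Scheme.IdealSheafData.ext_of_isAffine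
    rw [h1, h, Scheme.IdealSheafData.ideal_bot, Pi.bot_apply]

/-- A global function vanishing on a jointly surjective family of flat morphisms is zero. -/
theorem eq_zero_of_forall_flat_cover {V : Scheme.{u}} {ι : Type*} (Q : ι → Scheme.{u})
    (q : ∀ v, Q v ⟶ V) (hfl : ∀ v, Flat (q v)) (hsurj : ∀ x : V, ∃ v y, q v y = x)
    (a : Γ(V, ⊤)) (h : ∀ v, (q v).appTop.hom a = 0) : a = 0 := by
  refine TopCat.Presheaf.section_ext V.sheaf ⊤ a 0 (fun x hx => ?_)
  obtain ⟨v, y, rfl⟩ := hsurj x
  haveI := hfl v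
  have h1 := Scheme.Hom.germ_stalkMap_apply (q v) ⊤ y hx a
  have h2 : ((q v).app ⊤).hom a = 0 := h v
  rw [h2, map_zero] at h1
  have hflat : ((q v).stalkMap y).hom.Flat := Flat.stalkMap (q v) y
  have hinj : Function.Injective ((q v).stalkMap y).hom := by
    algebraize [((q v).stalkMap y).hom]
    have : Module.FaithfullyFlat (V.presheaf.stalk ((q v) y)) ((Q v).presheaf.stalk y) :=
      @Module.FaithfullyFlat.of_flat_of_isLocalHom _ _ _ _ _ _ _
        (Flat.stalkMap (q v) y) ((q v).toLRSHom.prop y)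
    exact ‹RingHom.FaithfullyFlat _›.injective
  apply hinj
  rw [map_zero]
  rw [map_zero]
  exact h1


variable {S : Scheme.{u}}

/-- Kernels of closed subschemes cut out by a closed subspace pull back along morphisms of
affine schemes over the ambient sheaf. -/
theorem ker_appTop_eq_map_of_charts {Z U : Sp S} (i : Z ⟶ U) {Q E WQ WE : Over S}
    (hQ : IsAffine Q.left) (hE : IsAffine E.left)
    (e : (yon S).obj E ⟶ U) (q : Q ⟶ E)
    (fstE : (yon S).obj WE ⟶ Z) (cE : WE ⟶ E) (sqE : IsPullback fstE ((yon S).map cE) i e)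
    (hcE : IsClosedImmersion cE.left)
    (fstQ : (yon S).obj WQ ⟶ Z) (cQ : WQ ⟶ Q)
    (sqQ : IsPullback fstQ ((yon S).map cQ) i ((yon S).map q ≫ e)) :
    RingHom.ker cQ.left.appTop.hom = (RingHom.ker cE.left.appTop.hom).map q.left.appTop.hom := by
  haveI := hQ
  haveI := hE
  obtain ⟨m, hm⟩ := (yon S).map_surjective
    (sqE.lift fstQ ((yon S).map cQ ≫ (yon S).map q) (by rw [sqQ.w, Category.assoc]))
  have hm1 : (yon S).map m ≫ fstE = fstQ := by rw [hm, sqE.lift_fst]
  have hm2 : (yon S).map m ≫ (yon S).map cE = (yon S).map cQ ≫ (yon S).map q := by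
    rw [hm, sqE.lift_snd]
  have sqL : IsPullback ((yon S).map m) ((yon S).map cQ) ((yon S).map cE) ((yon S).map q) :=
    IsPullback.of_right (by rw [hm1]; exact sqQ) hm2 sqE
  have hcomm : m ≫ cE = cQ ≫ q := (yon S).map_injective (by
    rw [Functor.map_comp, Functor.map_comp, hm2])
  have sqO : IsPullback m cQ cE q := IsPullback.of_map (yon S) hcomm sqL
  have sqS : IsPullback m.left cQ.left cE.left q.left := sqO.map (Over.forget S)
  have hs := IsClosedImmersion.isAffine_surjective_of_isAffine cE.left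
  haveI : IsAffine WE.left := hs.1
  have po := isPushout_appTop_of_isPullback sqS
  apply le_antisymm
  · exact ker_le_map_of_isPushout po hs.2
  · rw [Ideal.map_le_iff_le_comap]
    intro a ha
    rw [RingHom.mem_ker] at ha
    rw [Ideal.mem_comap, RingHom.mem_ker]
    have h1 : cQ.left.appTop.hom (q.left.appTop.hom a) =
        m.left.appTop.hom (cE.left.appTop.hom a) := by
      rw [← appTop_comp_apply, ← appTop_comp_apply]
      have hw : cQ.left ≫ q.left = m.left ≫ cE.left := sqS.w.symm
      rw [hw]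
    rw [h1, ha, map_zero]


/-- **Square-zero kernels on arbitrary affine charts.**  Let `c : Z ⟶ U` be a closed subspace of
an algebraic space and `g : h_V ⟶ U` any map from an affine scheme.  If the squares of the
functions of the kernel family of `c` on étale affine charts pull back to zero on every scheme
lying over both the chart and `V`, then the kernel of the inverse image of `Z` in `V` has
square zero. -/
theorem ker_sq_eq_bot_of_charts {Z U : Sp S} (hU : IsAlgSpace U) (c : Z ⟶ U)
    (hc : RepWith @IsClosedImmersion c) {V W : Over S} (hV : IsAffine V.left)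
    (g : (yon S).obj V ⟶ U) (fst : (yon S).obj W ⟶ Z) (snd : W ⟶ V)
    (sq : IsPullback fst ((yon S).map snd) c g)
    (H : ∀ (E : EtOver U) (hE : IsAffine E.obj.left.left) (b : Γ(E.obj.left.left, ⊤)),
      b ∈ (idealOfRep hc.1).ideal E hE ^ 2 →
      ∀ (Q : Over S) (qE : Q ⟶ E.obj.left) (qV : Q ⟶ V),
        (yon S).map qE ≫ E.obj.hom = (yon S).map qV ≫ g → qE.left.appTop.hom b = 0) :
    RingHom.ker snd.left.appTop.hom ^ 2 = ⊥ := by
  obtain ⟨ι, E, hEa, hEs⟩ := exists_affine_atlas hU
  rw [eq_bot_iff]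
  intro x hx
  rw [Ideal.mem_bot]
  let R : ι → Over S := fun v => (E v).property.1.pullback g
  let rE : ∀ v, R v ⟶ (E v).obj.left := fun v => (E v).property.1.fst' g
  let rV : ∀ v, R v ⟶ V := fun v => (E v).property.1.snd g
  have sqR : ∀ v, IsPullback ((yon S).map (rE v)) ((yon S).map (rV v)) (E v).obj.hom g :=
    fun v => (E v).property.1.isPullback' g
  have hrVe : ∀ v, Etale (rV v).left := fun v => (E v).property.property_snd g
  have hsndc : IsClosedImmersion snd.left := hc.property g fst snd sq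
  refine eq_zero_of_forall_flat_cover (ι := Σ v, (R v).left.affineOpens)
    (fun p => p.2.1.toScheme) (fun p => p.2.1.ι ≫ (rV p.1).left) (fun p => ?_) (fun y => ?_) x
    (fun p => ?_)
  · haveI := hrVe p.1
    infer_instance
  · obtain ⟨v, t, ht⟩ := hEs (Points.ofPt g y)
    obtain ⟨r, -, hr⟩ := exists_of_ofPt_eq (sqR v) t y ht
    obtain ⟨_, ⟨(O : (R v).left.Opens), hO, rfl⟩, hrO, -⟩ :=
      ((R v).left.isBasis_affineOpens).exists_subset_of_mem_open (Set.mem_univ r) isOpen_univ
    refine ⟨⟨v, ⟨O, hO⟩⟩, ⟨r, hrO⟩, ?_⟩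
    change (rV v).left (O.ι ⟨r, hrO⟩) = y
    exact hr
  · obtain ⟨v, O⟩ := p
    let Q : Over S := Over.mk (O.1.ι ≫ (R v).hom)
    let qR : Q ⟶ R v := Over.homMk O.1.ι rfl
    let qE : Q ⟶ (E v).obj.left := qR ≫ rE v
    let qV : Q ⟶ V := qR ≫ rV v
    have hq : (yon S).map qE ≫ (E v).obj.hom = (yon S).map qV ≫ g := by
      change (yon S).map (qR ≫ rE v) ≫ _ = (yon S).map (qR ≫ rV v) ≫ _
      rw [Functor.map_comp, Functor.map_comp, Category.assoc, Category.assoc, (sqR v).w]
    have hQa : IsAffine Q.left := O.2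
    let cQ := hc.1.snd ((yon S).map qV ≫ g)
    have sqQ : IsPullback (hc.1.fst ((yon S).map qV ≫ g)) ((yon S).map cQ) c
        ((yon S).map qV ≫ g) := hc.1.isPullback _
    have k1 := ker_appTop_eq_map_of_charts c hQa hV g qV fst snd sq hsndc _ cQ sqQ
    have sqQ' : IsPullback (hc.1.fst ((yon S).map qV ≫ g)) ((yon S).map cQ) c
        ((yon S).map qE ≫ (E v).obj.hom) := by rw [hq]; exact sqQ
    have hcE : IsClosedImmersion (EtOver.bcπ hc.1 (E v)).left := hc.property_snd (E v).obj.hom
    have k2 := ker_appTop_eq_map_of_charts c hQa (hEa v) (E v).obj.hom qE _ _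
      (EtOver.isPullback_bcObj hc.1 (E v)) hcE _ cQ sqQ'
    have k3 : (RingHom.ker snd.left.appTop.hom).map qV.left.appTop.hom =
        ((idealOfRep hc.1).ideal (E v) (hEa v)).map qE.left.appTop.hom := by
      rw [← k1, k2]
      rfl
    have h1 : qV.left.appTop.hom x ∈
        (RingHom.ker snd.left.appTop.hom ^ 2).map qV.left.appTop.hom :=
      Ideal.mem_map_of_mem _ hx
    rw [Ideal.map_pow, k3, ← Ideal.map_pow] at h1
    have h2 : ((idealOfRep hc.1).ideal (E v) (hEa v) ^ 2).map qE.left.appTop.hom ≤ ⊥ := by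
      rw [Ideal.map_le_iff_le_comap]
      intro b hb
      rw [Ideal.mem_comap, Ideal.mem_bot]
      exact H (E v) (hEa v) b hb Q qE qV hq
    exact (Ideal.mem_bot).1 (h2 h1)

end Groth.Agent.Helper15.Thick
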