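import Mathlib
import Groth.Prelude
import Groth.Agent.Lib.Helper15.Thick1

/-!
# First order thickenings of algebraic spaces: base change; universal first order thickenings
-/

set_option autoImplicit false
set_option backward.isDefEq.respectTransparency false
universe u
open CategoryTheory CategoryTheory.Limits AlgebraicGeometry MorphismProperty Opposite
open AlgSp

namespace Groth.Agent.Helper15.Thick

open Groth.Agent.Helper15 Groth.Agent.Helper15.IdealEt

variable {S : Scheme.{u}}

theorem thick_le_isClosedImmersion' : (thick.{u}) ≤ @IsClosedImmersion := fun _ _ _ h => h.1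

/-- The kernel family of a first order thickening has square zero. -/
theorem idealOfRep_sq_eq_bot {Z Z' : Sp S} (i : Z ⟶ Z') (hi : IsFOThickMor i)
    (hc : RepWith @IsClosedImmersion i) (E : EtOver Z') (hE : IsAffine E.obj.left.left) :
    (idealOfRep hc.1).ideal E hE ^ 2 = ⊥ := by
  haveI := hE
  have h := hi.2 E.obj.hom (EtOver.bcObj hc.1 E).obj.hom (EtOver.bcπ hc.1 E) hE E.property
    (EtOver.isPullback_bcObj hc.1 E)
  haveI : IsClosedImmersion (EtOver.bcπ hc.1 E).left := hc.property_snd E.obj.hom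
  exact (sqZero_iff_ker_sq _).1 h

/-- A first order thickening has square-zero kernel on every affine scheme mapping to the
target, not only on étale charts. -/
theorem sqZero_of_isFOThickMor {Z Z' : Sp S} (hZ' : IsAlgSpace Z') (i : Z ⟶ Z')
    (hi : IsFOThickMor i) {V W : Over S} (hV : IsAffine V.left) (g : (yon S).obj V ⟶ Z')
    (fst : (yon S).obj W ⟶ Z) (snd : W ⟶ V) (sq : IsPullback fst ((yon S).map snd) i g) :
    sqZero snd.left := by
  have hc : RepWith @IsClosedImmersion i := repWith_mono thick_le_isClosedImmersion' hi.1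
  haveI := hV
  haveI : IsClosedImmersion snd.left := hc.property g fst snd sq
  rw [sqZero_iff_ker_sq]
  refine ker_sq_eq_bot_of_charts hZ' i hc hV g fst snd sq ?_
  intro E hE b hb Q qE qV _
  rw [idealOfRep_sq_eq_bot i hi hc E hE, Ideal.mem_bot] at hb
  rw [hb, map_zero]

/-- First order thickenings are stable under base change. -/
theorem isFOThickMor_of_isPullback {Z Z' P P' : Sp S} (hZ' : IsAlgSpace Z') {i : Z ⟶ Z'}
    {i' : P ⟶ P'} {p : P ⟶ Z} {p' : P' ⟶ Z'} (sq : IsPullback p i' i p')
    (hi : IsFOThickMor i) : IsFOThickMor i' := by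
  refine ⟨(RepWith thick).of_isPullback sq hi.1, ?_⟩
  intro V W b fst snd hV _ sqV
  exact sqZero_of_isFOThickMor hZ' i hi hV (b ≫ p') (fst ≫ p) snd (sqV.paste_horiz sq)

/-- Universal first order thickenings are stable under base change. -/
theorem isUnivFOThick_baseChange {Z X W Y W' P : Sp S} (hW' : IsAlgSpace W') (h : Z ⟶ X)
    (f : Z ⟶ W) (g : X ⟶ Y) (h' : W ⟶ Y) (sq : IsPullback h f g h') (iW : W ⟶ W') (hW : W' ⟶ Y)
    (HU : IsUnivFOThick h' iW hW) (pX : P ⟶ X) (pW : P ⟶ W') (sq' : IsPullback pX pW g hW)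
    (iZ : Z ⟶ P) (w1 : iZ ≫ pX = h) (w2 : iZ ≫ pW = f ≫ iW) :
    IsUnivFOThick h iZ pX := by
  obtain ⟨hiW, hcomp, huniv⟩ := HU
  have sqL : IsPullback iZ f pW iW :=
    IsPullback.of_right (by rw [w1, hcomp]; exact sq) w2 sq'
  refine ⟨isFOThickMor_of_isPullback hW' sqL.flip hiW, w1, ?_⟩
  intro T T' hT hT' j a b hj hjb
  have hcompat : j ≫ (b ≫ g) = (a ≫ f) ≫ h' := by
    rw [← Category.assoc, hjb, Category.assoc, Category.assoc, sq.w]
  obtain ⟨aW, ⟨haW1, haW2⟩, haWu⟩ := huniv hT hT' j (a ≫ f) (b ≫ g) hj hcompat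
  refine ⟨sq'.lift b aW haW2.symm, ⟨?_, sq'.lift_fst _ _ _⟩, ?_⟩
  · apply sq'.hom_ext
    · rw [Category.assoc, sq'.lift_fst, Category.assoc, w1, hjb]
    · rw [Category.assoc, sq'.lift_snd, Category.assoc, w2, haW1, Category.assoc]
  · rintro a'' ⟨h1, h2⟩
    apply sq'.hom_ext
    · rw [sq'.lift_fst, h2]
    · rw [sq'.lift_snd]
      apply haWu
      constructor
      · rw [← Category.assoc, h1, Category.assoc, w2, Category.assoc]
      · rw [Category.assoc, ← sq'.w, ← Category.assoc, h2]

end Groth.Agent.Helper15.Thick
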