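import Mathlib
import Groth.Prelude
import Groth.Agent.Lib.Helper15.EtLift3
import Groth.Agent.Lib.Helper15.Thick2

set_option autoImplicit false
set_option linter.unusedSectionVars false
universe u
open CategoryTheory CategoryTheory.Limits AlgebraicGeometry MorphismProperty Opposite

namespace Groth.Agent.Helper15.UThick

open AlgSp Groth.Agent.Helper15 Groth.Agent.Helper15.EtLift Groth.Agent.Helper15.Thick

variable {S : Scheme.{u}}

theorem sq_eq_bot_iff_forall_mul {R : Type*} [CommRing R] (K : Ideal R) :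
    K ^ 2 = ⊥ ↔ ∀ x ∈ K, ∀ y ∈ K, x * y = 0 := by
  rw [sq, eq_bot_iff, Ideal.mul_le]
  rfl

section Ker

variable {A : Type u} [CommRing A] (J : Ideal A)

theorem mem_ker_appTop_specMap_mk (x : Γ(Spec (.of A), ⊤)) :
    x ∈ RingHom.ker (Spec.map (CommRingCat.ofHom (Ideal.Quotient.mk J))).appTop.hom ↔
      (Scheme.ΓSpecIso (.of A)).hom.hom x ∈ J := by
  rw [RingHom.mem_ker]
  have nat := Scheme.ΓSpecIso_naturality (CommRingCat.ofHom (Ideal.Quotient.mk J))
  have h1 : (Scheme.ΓSpecIso (.of (A ⧸ J))).hom.hom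
      ((Spec.map (CommRingCat.ofHom (Ideal.Quotient.mk J))).appTop.hom x) =
      Ideal.Quotient.mk J ((Scheme.ΓSpecIso (.of A)).hom.hom x) :=
    congrArg (fun t => t.hom x) nat
  constructor
  · intro h
    rw [h, map_zero] at h1
    exact Ideal.Quotient.eq_zero_iff_mem.1 h1.symm
  · intro h
    rw [Ideal.Quotient.eq_zero_iff_mem.2 h] at h1
    have hinj : Function.Injective (Scheme.ΓSpecIso (.of (A ⧸ J))).hom.hom :=
      (ConcreteCategory.bijective_of_isIso (Scheme.ΓSpecIso (.of (A ⧸ J))).hom).1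
    exact hinj (by rw [h1, map_zero])

theorem ker_sq_iff :
    RingHom.ker (Spec.map (CommRingCat.ofHom (Ideal.Quotient.mk J))).appTop.hom ^ 2 = ⊥ ↔
      J ^ 2 = ⊥ := by
  rw [sq_eq_bot_iff_forall_mul, sq_eq_bot_iff_forall_mul]
  have hbij := ConcreteCategory.bijective_of_isIso (Scheme.ΓSpecIso (.of A)).hom
  constructor
  · intro h x hx y hy
    obtain ⟨x', rfl⟩ := hbij.2 x
    obtain ⟨y', rfl⟩ := hbij.2 y
    have := h x' ((mem_ker_appTop_specMap_mk J x').2 hx) y' ((mem_ker_appTop_specMap_mk J y').2 hy)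
    rw [← map_mul, this, map_zero]
  · intro h x hx y hy
    have := h _ ((mem_ker_appTop_specMap_mk J x).1 hx) _ ((mem_ker_appTop_specMap_mk J y).1 hy)
    rw [← map_mul] at this
    exact hbij.1 (by rw [this, map_zero])

theorem le_nilradical_of_sq (hJ : J ^ 2 = ⊥) : J ≤ nilradical A := by
  intro x hx
  rw [mem_nilradical]
  refine ⟨2, ?_⟩
  have : x ^ 2 ∈ J ^ 2 := Ideal.pow_mem_pow hx 2
  rw [hJ] at this
  exact this

variable (s : Spec (.of A) ⟶ S)

theorem isThickMor_jA (hJ : J ≤ nilradical A) : IsThickMor ((yon S).map (jA J s)) := by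
  rw [isThickMor_yon_map_iff]
  exact ⟨IsClosedImmersion.spec_of_surjective _ Ideal.Quotient.mk_surjective,
    ⟨specMap_surjective_of_ker_nil _ Ideal.Quotient.mk_surjective (by
      show RingHom.ker (Ideal.Quotient.mk J) ≤ _
      rw [Ideal.mk_ker]; exact hJ)⟩⟩

/-- `Spec (A ⧸ J) ⟶ Spec A` with `J ^ 2 = 0` is a first order thickening of sheaves. -/
theorem isFOThickMor_jA (hJ : J ^ 2 = ⊥) : IsFOThickMor ((yon S).map (jA J s)) := by
  have hth := isThickMor_jA J s (le_nilradical_of_sq J hJ)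
  refine ⟨hth, ?_⟩
  intro V W b fst snd hV hb sq
  haveI := hV
  obtain ⟨q, rfl⟩ := (yon S).map_surjective b
  haveI : IsClosedImmersion snd.left := (hth.property _ fst snd sq).1
  rw [sqZero_iff_ker_sq]
  have hcl : IsClosedImmersion (jA J s).left :=
    IsClosedImmersion.spec_of_surjective _ Ideal.Quotient.mk_surjective
  have hker := ker_appTop_eq_map_of_charts ((yon S).map (jA J s)) (Q := V) (E := ovA s) (WQ := W)
    (WE := ovAI J s) hV (show IsAffine (Spec (.of A)) from inferInstance) (𝟙 _) q (𝟙 _) (jA J s)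
    (IsPullback.of_horiz_isIso ⟨by simp⟩) hcl fst snd (by rw [Category.comp_id]; exact sq)
  rw [hker, ← Ideal.map_pow]
  have : RingHom.ker (jA J s).left.appTop.hom ^ 2 = ⊥ := (ker_sq_iff J).2 hJ
  rw [this, Ideal.map_bot]

end Ker

section Pull

variable {Z Z' : Sp S} (i : Z ⟶ Z') {A : Type u} [CommRing A] (s : Spec (.of A) ⟶ S)
  (a : (yon S).obj (ovA s) ⟶ Z')

/-- The pullback of a thickening to an affine scheme is `Spec (A ⧸ J)`. -/
theorem exists_ideal_pullback (hi : IsThickMor i) :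
    ∃ (J : Ideal A) (α : (yon S).obj (ovAI J s) ⟶ Z),
      IsPullback α ((yon S).map (jA J s)) i a ∧ J ≤ nilradical A := by
  have sqZ := hi.rep.isPullback a
  set Z₀ := hi.rep.pullback a with hZ
  set fZ := hi.rep.fst a with hfZ
  set jZ := hi.rep.snd a with hjZdef
  have hjZ : thick jZ.left := hi.property_snd a
  haveI : IsClosedImmersion jZ.left := hjZ.1
  obtain ⟨I, ε, hε, hI⟩ := exists_iso_spec_quot_of_thick (A := A) jZ.left hjZ.2.surj
  have hεw : ε.hom ≫ (ovAI I s).hom = Z₀.hom := by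
    show ε.hom ≫ Spec.map _ ≫ s = _
    rw [← Category.assoc, ← hε]
    exact Over.w jZ
  let εO : Z₀ ≅ ovAI I s := Over.isoMk ε hεw
  have hεj : εO.hom ≫ jA I s = jZ := by
    apply Over.OverMorphism.ext
    exact hε.symm
  refine ⟨I, (yon S).map εO.inv ≫ fZ, ?_, hI⟩
  refine IsPullback.of_iso sqZ ((yon S).mapIso εO) (Iso.refl _) (Iso.refl _) (Iso.refl _)
    ?_ ?_ ?_ ?_
  · rw [Iso.refl_hom, Category.comp_id, Functor.mapIso_hom, ← Functor.map_comp_assoc,
      Iso.hom_inv_id, (yon S).map_id, Category.id_comp]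
  · rw [Iso.refl_hom, Category.comp_id, Functor.mapIso_hom, ← Functor.map_comp, hεj]
  · simp
  · simp

variable {i s a}

theorem sq_eq_bot_of_isFOThickMor (hZ' : IsAlgSpace Z') (hi : IsFOThickMor i) {J : Ideal A}
    {α : (yon S).obj (ovAI J s) ⟶ Z} (sq : IsPullback α ((yon S).map (jA J s)) i a) :
    J ^ 2 = ⊥ := by
  have h1 := sqZero_of_isFOThickMor hZ' i hi (V := ovA s) (W := ovAI J s)
    (show IsAffine (Spec (.of A)) from inferInstance) a α (jA J s) sq
  haveI : IsClosedImmersion (jA J s).left :=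
    IsClosedImmersion.spec_of_surjective _ Ideal.Quotient.mk_surjective
  haveI : IsAffine (ovA s).left := show IsAffine (Spec (.of A)) from inferInstance
  rw [sqZero_iff_ker_sq] at h1
  exact (ker_sq_iff J).1 h1

variable {J K : Ideal A}

theorem facO_w (h : J ≤ K) : Spec.map (CommRingCat.ofHom (Ideal.Quotient.factor h)) ≫
    (ovAI J s).hom = (ovAI K s).hom := by
  show Spec.map _ ≫ Spec.map _ ≫ s = Spec.map _ ≫ s
  rw [← Category.assoc, ← Spec.map_comp]
  congr 2

/-- `Spec (A ⧸ K) ⟶ Spec (A ⧸ J)` over `S` for `J ≤ K`. -/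
noncomputable abbrev facO (s : Spec (.of A) ⟶ S) (h : J ≤ K) : ovAI K s ⟶ ovAI J s :=
  Over.homMk (Spec.map (CommRingCat.ofHom (Ideal.Quotient.factor h))) (facO_w h)

theorem facO_jA (h : J ≤ K) : facO s h ≫ jA J s = jA K s := by
  apply Over.OverMorphism.ext
  show Spec.map _ ≫ Spec.map _ = Spec.map _
  rw [← Spec.map_comp]
  congr 1

theorem factor_of_le {α : (yon S).obj (ovAI J s) ⟶ Z}
    (sq : IsPullback α ((yon S).map (jA J s)) i a) (h : J ≤ K) :
    ((yon S).map (facO s h) ≫ α) ≫ i = (yon S).map (jA K s) ≫ a := by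
  rw [Category.assoc, sq.w, ← Functor.map_comp_assoc, facO_jA]

theorem le_of_factor {α : (yon S).obj (ovAI J s) ⟶ Z}
    (sq : IsPullback α ((yon S).map (jA J s)) i a) (c : (yon S).obj (ovAI K s) ⟶ Z)
    (hc : c ≫ i = (yon S).map (jA K s) ≫ a) : J ≤ K := by
  obtain ⟨μ, hμ⟩ := (yon S).map_surjective (sq.lift c ((yon S).map (jA K s)) hc)
  have h1 : μ ≫ jA J s = jA K s := (yon S).map_injective (by
    rw [Functor.map_comp, hμ, sq.lift_snd])
  have h2 : μ.left ≫ Spec.map (CommRingCat.ofHom (Ideal.Quotient.mk J)) =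
      Spec.map (CommRingCat.ofHom (Ideal.Quotient.mk K)) := congrArg (fun k => k.left) h1
  obtain ⟨ν, hν⟩ := Spec.map_surjective μ.left
  rw [← hν, ← Spec.map_comp] at h2
  have h3 := Spec.map_injective h2
  intro x hx
  have h4 : ν.hom (Ideal.Quotient.mk J x) = Ideal.Quotient.mk K x :=
    congrArg (fun t => t.hom x) h3
  rw [Ideal.Quotient.eq_zero_iff_mem.2 hx, map_zero] at h4
  exact Ideal.Quotient.eq_zero_iff_mem.1 h4.symm

end Pull

end Groth.Agent.Helper15.UThick
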