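import Mathlib
import Groth.Prelude
import Groth.Agent.Lib.Helper15.UThick1
import Groth.Agent.Lib.Helper15.AlgSpPoints
import Groth.Agent.Lib.Helper16.AlgSp.FormalSp9
import Groth.Agent.Lib.Helper1.TH2

set_option autoImplicit false
set_option linter.unusedSectionVars false
universe u
open CategoryTheory CategoryTheory.Limits AlgebraicGeometry MorphismProperty Opposite

namespace Groth.Agent.Helper15.UThick

open AlgSp Groth.Agent.Helper15 Groth.Agent.Helper16.AS

variable {S : Scheme.{u}}

/-- An étale morphism out of an algebraic space is formally étale. -/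
theorem isFormallyEtaleMor_of_isEtaleMor {F G : Sp S} (hF : IsAlgSpace F) {f : F ⟶ G}
    (hf : IsEtaleMor f) : IsFormallyEtaleMor f := by
  obtain ⟨U, p, hpe, hps⟩ := hF.atlas
  exact isFormallyEtaleMor_of_comp hpe hps (isFormallyEtaleMor_of_repWith (hf p hpe))

/-- `h_y` is an epimorphism of sheaves for `y` étale surjective. -/
theorem isLocallySurjective_yon_map {W T : Over S} (y : W ⟶ T) (hye : Etale y.left)
    (hys : Surjective y.left) : Sheaf.IsLocallySurjective ((yon S).map y) :=
  isLocallySurjective_of_etale_surjective _ ((repWith_yon_map_iff _ _).2 hye)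
    ((repWith_yon_map_iff _ _).2 hys)

/-- Lifting a scheme point of the target of an étale surjective morphism of algebraic spaces,
étale locally. -/
theorem exists_etale_cover_lift {Z Y : Sp S} (hZ : IsAlgSpace Z) (e : Z ⟶ Y) (he : IsEtaleMor e)
    (hes : IsSurjectiveMor e) {T : Over S} (a : (yon S).obj T ⟶ Y) :
    ∃ (W : Over S) (y : W ⟶ T) (z : (yon S).obj W ⟶ Z),
      Etale y.left ∧ Surjective y.left ∧ z ≫ e = (yon S).map y ≫ a := by
  obtain ⟨Z₀, p, hpe, hps⟩ := hZ.atlas
  have hqe : RepWith @Etale (p ≫ e) := he p hpe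
  have hqs : RepWith @Surjective (p ≫ e) := by
    refine repWith_surjective_of_isSurjectiveMor _ hqe.rep ?_
    intro y
    obtain ⟨z, hz⟩ := hes y
    obtain ⟨u, hu⟩ := isSurjectiveMor_of_repWith_surjective p hps z
    exact ⟨u, by rw [Points.map_comp, hu, hz]⟩
  have sq := hqe.rep.isPullback a
  refine ⟨hqe.rep.pullback a, hqe.rep.snd a, hqe.rep.fst a ≫ p, hqe.property_snd a,
    hqs.property_snd a, ?_⟩
  rw [Category.assoc]
  exact sq.w

/-- Étale schemes lift along thickenings (in `Over S`). -/
theorem exists_etale_lift_over {T T' W : Over S} (j : T ⟶ T') (hj : thick j.left) (y : W ⟶ T)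
    (hye : Etale y.left) (hys : Surjective y.left) :
    ∃ (W' : Over S) (y' : W' ⟶ T') (jW : W ⟶ W'),
      Etale y'.left ∧ Surjective y'.left ∧ IsPullback jW y y' j := by
  haveI : IsClosedImmersion j.left := hj.1
  haveI : Surjective j.left := hj.2
  haveI := hye
  have pb := Groth.Agent.Helper1.TH.isPullback_glued j.left y.left
  have het := Groth.Agent.Helper1.TH.etale_gY j.left y.left
  let W' : Over S := Over.mk (Groth.Agent.Helper1.TH.gY j.left y.left ≫ T'.hom)
  let y' : W' ⟶ T' := Over.homMk (Groth.Agent.Helper1.TH.gY j.left y.left) rfl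
  have hjw : Groth.Agent.Helper1.TH.jY j.left y.left ≫ W'.hom = W.hom := by
    show _ ≫ _ ≫ T'.hom = _
    rw [← Category.assoc, pb.w, Category.assoc, Over.w j, Over.w y]
  let jW : W ⟶ W' := Over.homMk (Groth.Agent.Helper1.TH.jY j.left y.left) hjw
  have hsq : IsPullback jW y y' j :=
    IsPullback.of_map (Over.forget S) (Over.OverMorphism.ext pb.w) pb
  refine ⟨W', y', jW, het, ⟨fun t' => ?_⟩, hsq⟩
  obtain ⟨t, rfl⟩ := hj.2.surj t'
  obtain ⟨w, rfl⟩ := hys.surj t
  refine ⟨jW.left w, ?_⟩
  show (Groth.Agent.Helper1.TH.gY j.left y.left) ((Groth.Agent.Helper1.TH.jY j.left y.left) w) = _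
  rw [← Scheme.Hom.comp_apply, pb.w, Scheme.Hom.comp_apply]

end Groth.Agent.Helper15.UThick
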