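import Mathlib
import Groth.Prelude
import Groth.Agent.Lib.Helper15.UThick2
import Groth.Agent.Lib.Helper15.AlgSpDescent

set_option autoImplicit false
set_option linter.unusedSectionVars false
universe u
open CategoryTheory CategoryTheory.Limits AlgebraicGeometry MorphismProperty Opposite

namespace Groth.Agent.Helper15.UThick

open AlgSp Groth.Agent.Helper15 Groth.Agent.Helper16.AS

variable {S : Scheme.{u}}

/-- Sheaf-level version of étale base change of universal first order thickenings. -/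
theorem isUnivFOThick_etale_bc {Z Y Y' Z' X : Sp S} (hZ' : IsAlgSpace Z') {e : Z ⟶ Y}
    {hY : Y ⟶ X} {iY : Y ⟶ Y'} {hY' : Y' ⟶ X} (HU : IsUnivFOThick hY iY hY') {iZ : Z ⟶ Z'}
    {e' : Z' ⟶ Y'} (he' : IsEtaleMor e') (sq : IsPullback e iZ iY e') :
    IsUnivFOThick (e ≫ hY) iZ (e' ≫ hY') := by
  obtain ⟨h1, h2, h3⟩ := HU
  have hiZ := isFOThickMor_of_isPullback sq he' h1
  have he'f : IsFormallyEtaleMor e' := isFormallyEtaleMor_of_isEtaleMor hZ' he'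
  refine ⟨hiZ, ?_, ?_⟩
  · rw [← Category.assoc, ← sq.w, Category.assoc, h2]
  · intro T T' hT hT' j a b hj hw
    have hw1 : j ≫ b = (a ≫ e) ≫ hY := by rw [Category.assoc]; exact hw
    obtain ⟨b₁, ⟨hb1, hb2⟩, hbu⟩ := h3 hT hT' j (a ≫ e) b hj hw1
    have hw2 : (a ≫ iZ) ≫ e' = j ≫ b₁ := by
      rw [Category.assoc, ← sq.w, ← Category.assoc, hb1]
    obtain ⟨a', ⟨ha1, ha2⟩, hau⟩ := existsUnique_lift_of_foThick hT' hj he'f hw2
    refine ⟨a', ⟨ha1, ?_⟩, ?_⟩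
    · rw [← Category.assoc, ha2, hb2]
    · rintro a'' ⟨h4, h5⟩
      have : a'' ≫ e' = b₁ := by
        apply hbu
        refine ⟨?_, by rw [Category.assoc]; exact h5⟩
        rw [← Category.assoc, h4, Category.assoc, ← sq.w, Category.assoc]
      exact hau a'' ⟨h4, this⟩

/-- Sheaf-level version: composing with a formally étale morphism. -/
theorem isUnivFOThick_comp_formallyEtale {Z Z' Y X : Sp S} {hZ : Z ⟶ Y} {g : Y ⟶ X}
    {i : Z ⟶ Z'} {h' : Z' ⟶ Y} (HU : IsUnivFOThick hZ i h') (hg : IsFormallyEtaleMor g) :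
    IsUnivFOThick (hZ ≫ g) i (h' ≫ g) := by
  obtain ⟨h1, h2, h3⟩ := HU
  refine ⟨h1, ?_, ?_⟩
  · rw [← Category.assoc, h2]
  · intro T T' hT hT' j a b hj hw
    have hw' : (a ≫ hZ) ≫ g = j ≫ b := by
      rw [Category.assoc]; exact hw.symm
    obtain ⟨b', ⟨hb1, hb2⟩, hbu⟩ := existsUnique_lift_of_foThick hT' hj hg hw'
    obtain ⟨a', ⟨ha1, ha2⟩, hau⟩ := h3 hT hT' j a b' hj hb1
    refine ⟨a', ⟨ha1, ?_⟩, ?_⟩
    · rw [← Category.assoc, ha2, hb2]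
    · rintro a'' ⟨h4, h5⟩
      have : a'' ≫ h' = b' := by
        apply hbu
        refine ⟨?_, by rw [Category.assoc]; exact h5⟩
        rw [← Category.assoc, h4, Category.assoc, h2]
      exact hau a'' ⟨h4, this⟩

/-- Universal first order thickenings are unique up to isomorphism. -/
theorem exists_iso_of_isUnivFOThick {W W₁ W₂ X : Sp S} (hW : IsAlgSpace W) (hW₁ : IsAlgSpace W₁)
    (hW₂ : IsAlgSpace W₂) {h : W ⟶ X} {i₁ : W ⟶ W₁} {h₁ : W₁ ⟶ X} {i₂ : W ⟶ W₂} {h₂ : W₂ ⟶ X}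
    (H₁ : IsUnivFOThick h i₁ h₁) (H₂ : IsUnivFOThick h i₂ h₂) :
    ∃ θ : W₁ ≅ W₂, i₁ ≫ θ.hom = i₂ ∧ θ.hom ≫ h₂ = h₁ := by
  have w1 : i₁ ≫ h₁ = 𝟙 W ≫ h := by rw [Category.id_comp]; exact H₁.2.1
  have w2 : i₂ ≫ h₂ = 𝟙 W ≫ h := by rw [Category.id_comp]; exact H₂.2.1
  obtain ⟨θ, ⟨hθ1, hθ2⟩, -⟩ := H₂.2.2 hW hW₁ i₁ (𝟙 W) h₁ H₁.1 w1
  obtain ⟨θ', ⟨hθ'1, hθ'2⟩, -⟩ := H₁.2.2 hW hW₂ i₂ (𝟙 W) h₂ H₂.1 w2
  obtain ⟨c₁, -, hc₁⟩ := H₁.2.2 hW hW₁ i₁ (𝟙 W) h₁ H₁.1 w1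
  obtain ⟨c₂, -, hc₂⟩ := H₂.2.2 hW hW₂ i₂ (𝟙 W) h₂ H₂.1 w2
  rw [Category.id_comp] at hθ1 hθ'1
  refine ⟨⟨θ, θ', ?_, ?_⟩, hθ1, hθ2⟩
  · rw [hc₁ (θ ≫ θ') ⟨by rw [← Category.assoc, hθ1, hθ'1, Category.id_comp],
      by rw [Category.assoc, hθ'2, hθ2]⟩,
      hc₁ (𝟙 _) ⟨by rw [Category.comp_id, Category.id_comp], Category.id_comp _⟩]
  · rw [hc₂ (θ' ≫ θ) ⟨by rw [← Category.assoc, hθ'1, hθ1, Category.id_comp],
      by rw [Category.assoc, hθ2, hθ'2]⟩,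
      hc₂ (𝟙 _) ⟨by rw [Category.comp_id, Category.id_comp], Category.id_comp _⟩]

/-- Scheme-level: the map of universal thickenings induced by an étale map is étale. -/
theorem etale_of_univ_schemes {X : Sp S} {W₁ W₁' Z₁ Z₁' : Over S} (jW : W₁ ⟶ W₁') (jZ : Z₁ ⟶ Z₁')
    (xW : (yon S).obj W₁' ⟶ X) (xZ : (yon S).obj Z₁' ⟶ X) (g₀ : W₁ ⟶ Z₁) (hg₀ : Etale g₀.left)
    (g : W₁' ⟶ Z₁') (hg1 : jW ≫ g = g₀ ≫ jZ) (hg2 : (yon S).map g ≫ xZ = xW)
    (HZ : IsUnivFOThick ((yon S).map jZ ≫ xZ) ((yon S).map jZ) xZ)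
    (HW : IsUnivFOThick ((yon S).map jW ≫ xW) ((yon S).map jW) xW) : Etale g.left := by
  have hjZ : thick jZ.left := (isThickMor_yon_map_iff jZ).1 HZ.1.1
  -- the étale lift of `g₀`; surjectivity is not needed, so use the version without it
  haveI : IsClosedImmersion jZ.left := hjZ.1
  haveI : Surjective jZ.left := hjZ.2
  haveI := hg₀
  have pb := Groth.Agent.Helper1.TH.isPullback_glued jZ.left g₀.left
  have het := Groth.Agent.Helper1.TH.etale_gY jZ.left g₀.left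
  let W'' : Over S := Over.mk (Groth.Agent.Helper1.TH.gY jZ.left g₀.left ≫ Z₁'.hom)
  let y' : W'' ⟶ Z₁' := Over.homMk (Groth.Agent.Helper1.TH.gY jZ.left g₀.left) rfl
  have hjw : Groth.Agent.Helper1.TH.jY jZ.left g₀.left ≫ W''.hom = W₁.hom := by
    show _ ≫ _ ≫ Z₁'.hom = _
    rw [← Category.assoc, pb.w, Category.assoc, Over.w jZ, Over.w g₀]
  let jW'' : W₁ ⟶ W'' := Over.homMk (Groth.Agent.Helper1.TH.jY jZ.left g₀.left) hjw
  have hsq : IsPullback jW'' g₀ y' jZ :=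
    IsPullback.of_map (Over.forget S) (Over.OverMorphism.ext pb.w) pb
  have hy'e : Etale y'.left := het
  have sqY : IsPullback ((yon S).map g₀) ((yon S).map jW'') ((yon S).map jZ) ((yon S).map y') :=
    (hsq.map (yon S)).flip
  have HW'' := isUnivFOThick_etale_bc (IsAlgSpace.yon_obj W'') HZ
    ((isEtaleMor_yon_map_iff y').2 hy'e) sqY
  have hcomm : (yon S).map jW ≫ xW = (yon S).map g₀ ≫ (yon S).map jZ ≫ xZ := by
    rw [← hg2, ← Category.assoc, ← Functor.map_comp, hg1, Functor.map_comp, Category.assoc]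
  rw [hcomm] at HW
  obtain ⟨θ, hθ1, hθ2⟩ := exists_iso_of_isUnivFOThick (IsAlgSpace.yon_obj W₁)
    (IsAlgSpace.yon_obj W₁') (IsAlgSpace.yon_obj W'') HW HW''
  obtain ⟨θ₀, hθ₀⟩ := (yon S).map_surjective θ.hom
  have hθiso : IsIso θ₀ := by
    have : IsIso ((yon S).map θ₀) := by rw [hθ₀]; infer_instance
    exact isIso_of_fully_faithful (yon S) θ₀
  -- `g = θ₀ ≫ y'`
  have hb : (yon S).map jW ≫ xW = (yon S).map g₀ ≫ (yon S).map jZ ≫ xZ := hcomm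
  obtain ⟨a', -, hu⟩ := HZ.2.2 (IsAlgSpace.yon_obj W₁) (IsAlgSpace.yon_obj W₁') ((yon S).map jW)
    ((yon S).map g₀) xW HW.1 hb
  have e1 := hu ((yon S).map g) ⟨by rw [← Functor.map_comp, hg1, Functor.map_comp], hg2⟩
  have e2 := hu (θ.hom ≫ (yon S).map y') ⟨by
    rw [← Category.assoc, hθ1, ← Functor.map_comp, hsq.w, Functor.map_comp], by
    rw [Category.assoc]; exact hθ2⟩
  have e3 : g = θ₀ ≫ y' := (yon S).map_injective (by
    rw [Functor.map_comp, hθ₀, e1, e2])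
  rw [e3, Over.comp_left]
  haveI : IsIso θ₀.left := by
    have : IsIso ((Over.forget S).map θ₀) := inferInstance
    exact this
  infer_instance

end Groth.Agent.Helper15.UThick
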