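import Mathlib
import Groth.Prelude
import Groth.Agent.Lib.Helper15.UThick3

set_option autoImplicit false
set_option linter.unusedSectionVars false
universe u
open CategoryTheory CategoryTheory.Limits AlgebraicGeometry MorphismProperty Opposite

namespace Groth.Agent.Helper15.UThick

open AlgSp Groth.Agent.Helper15 Groth.Agent.Helper16.AS

variable {S : Scheme.{u}}

/-- A morphism of schemes étale over a sheaf `Z` is étale. -/
theorem etale_of_etale_over {Z : Sp S} {W₁ Z₁ : Over S} (a : (yon S).obj W₁ ⟶ Z)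
    (b : (yon S).obj Z₁ ⟶ Z) (ha : RepWith @Etale a) (hb : RepWith @Etale b) (g₀ : W₁ ⟶ Z₁)
    (w : (yon S).map g₀ ≫ b = a) : Etale g₀.left :=
  EtOver.etale_left (EtOver.homMk (E := EtOver.mk a ha) (E' := EtOver.mk b hb) g₀ w)

/-- The map from the universal thickening of a scheme étale over `Z` to the universal thickening
of `Z` is representable étale. -/
theorem repWith_etale_of_univ {Z Z' X : Sp S} (hZ' : IsAlgSpace Z') {h : Z ⟶ X} {iZ : Z ⟶ Z'}
    {hZ'm : Z' ⟶ X} (HZ : IsUnivFOThick h iZ hZ'm) {W W' : Over S} (jW : W ⟶ W')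
    (vW : (yon S).obj W ⟶ Z) (hvW : RepWith @Etale vW) (ε : (yon S).obj W' ⟶ Z')
    (hε : (yon S).map jW ≫ ε = vW ≫ iZ)
    (HW : IsUnivFOThick (vW ≫ h) ((yon S).map jW) (ε ≫ hZ'm)) : RepWith @Etale ε := by
  obtain ⟨Z₁', c, hce, hcs⟩ := hZ'.atlas
  have hεrep : Representable ε := hZ'.representable_from_yon ε
  have hiZw : iZ ≫ hZ'm = h := HZ.2.1
  -- pull back the chart along `ε`
  have sqc := hce.rep.isPullback' ε
  set W₁' := hce.rep.pullback ε with hW₁'
  set pW := hce.rep.snd ε with hpW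
  set g := hce.rep.fst' ε with hg
  have hpWe : Etale pW.left := hce.property_snd ε
  -- pull back `iZ` along the chart
  have sqZ := HZ.1.1.rep.isPullback c
  set Z₁ := HZ.1.1.rep.pullback c with hZ₁
  set fstZ := HZ.1.1.rep.fst c with hfstZ
  set jZ := HZ.1.1.rep.snd c with hjZ
  have hfstZe : RepWith @Etale fstZ := (RepWith @Etale).of_isPullback sqZ.flip hce
  -- pull back `jW` along `pW`
  have sqW₁ : IsPullback (pullback.fst pW jW) (pullback.snd pW jW) pW jW :=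
    IsPullback.of_hasPullback _ _
  set W₁ := pullback pW jW with hW₁
  set jW₁ := pullback.fst pW jW with hjW₁
  set pW₀ := pullback.snd pW jW with hpW₀
  have hpW₀e : Etale pW₀.left :=
    MorphismProperty.of_isPullback (P := @Etale) (sqW₁.map (Over.forget S)) hpWe
  -- the induced map `W₁ ⟶ Z₁`
  have hcomm : ((yon S).map pW₀ ≫ vW) ≫ iZ = ((yon S).map jW₁ ≫ (yon S).map g) ≫ c := by
    rw [Category.assoc, ← hε, ← Category.assoc, ← Functor.map_comp, ← sqW₁.w, Functor.map_comp,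
      Category.assoc, Category.assoc, sqc.w]
  obtain ⟨g₀, hg₀⟩ := (yon S).map_surjective
    (sqZ.lift ((yon S).map pW₀ ≫ vW) ((yon S).map jW₁ ≫ (yon S).map g) hcomm)
  have hg₀1 : (yon S).map g₀ ≫ fstZ = (yon S).map pW₀ ≫ vW := by rw [hg₀, sqZ.lift_fst]
  have hg₀2 : g₀ ≫ jZ = jW₁ ≫ g := (yon S).map_injective (by
    rw [Functor.map_comp, hg₀, sqZ.lift_snd, Functor.map_comp])
  have hg₀e : Etale g₀.left := etale_of_etale_over ((yon S).map pW₀ ≫ vW) fstZ
    ((RepWith @Etale).comp_mem _ _ ((repWith_yon_map_iff _ _).2 hpW₀e) hvW) hfstZe g₀ hg₀1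
  -- universal thickenings
  have hceM : IsEtaleMor c := fun U φ hφ => (RepWith @Etale).comp_mem _ _ hφ hce
  have HZ₁ := isUnivFOThick_etale_bc (IsAlgSpace.yon_obj Z₁') HZ hceM sqZ
  have hpWM : IsEtaleMor ((yon S).map pW) := (isEtaleMor_yon_map_iff pW).2 hpWe
  have HW₁ := isUnivFOThick_etale_bc (IsAlgSpace.yon_obj W₁') HW hpWM (sqW₁.map (yon S)).flip
  have e1 : fstZ ≫ h = (yon S).map jZ ≫ c ≫ hZ'm :=
    calc fstZ ≫ h = fstZ ≫ iZ ≫ hZ'm := congrArg (fstZ ≫ ·) hiZw.symm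
      _ = (fstZ ≫ iZ) ≫ hZ'm := (Category.assoc _ _ _).symm
      _ = ((yon S).map jZ ≫ c) ≫ hZ'm := by rw [sqZ.w]
      _ = _ := Category.assoc _ _ _
  have e2 : (yon S).map pW₀ ≫ vW ≫ h = (yon S).map jW₁ ≫ (yon S).map pW ≫ ε ≫ hZ'm := by
    rw [← hiZw, ← Category.assoc vW, ← hε, ← Category.assoc, ← Category.assoc,
      ← Functor.map_comp, ← sqW₁.w, Functor.map_comp]
    simp only [Category.assoc]
  have HZ₁' : IsUnivFOThick ((yon S).map jZ ≫ c ≫ hZ'm) ((yon S).map jZ) (c ≫ hZ'm) := by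
    rw [← e1]; exact HZ₁
  have HW₁' : IsUnivFOThick ((yon S).map jW₁ ≫ (yon S).map pW ≫ ε ≫ hZ'm) ((yon S).map jW₁)
      ((yon S).map pW ≫ ε ≫ hZ'm) := by
    rw [← e2]; exact HW₁
  have hg2 : (yon S).map g ≫ c ≫ hZ'm = (yon S).map pW ≫ ε ≫ hZ'm := by
    rw [← Category.assoc, sqc.w, Category.assoc]
  have hge : Etale g.left := etale_of_univ_schemes jW₁ jZ ((yon S).map pW ≫ ε ≫ hZ'm) (c ≫ hZ'm)
    g₀ hg₀e g hg₀2.symm hg2 HZ₁' HW₁'
  exact (repWith_iff_of_chart ε hεrep c hce hcs ((yon S).map pW) g sqc.flip @Etale).2 hge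

end Groth.Agent.Helper15.UThick
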