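import Mathlib
import Groth.Prelude
import Groth.Agent.Lib.Helper15.UThick4

set_option autoImplicit false
set_option linter.unusedSectionVars false
universe u
open CategoryTheory CategoryTheory.Limits AlgebraicGeometry MorphismProperty Opposite

namespace Groth.Agent.Helper15.UThick

open AlgSp Groth.Agent.Helper15 Groth.Agent.Helper16.AS

variable {S : Scheme.{u}}

/-- Scheme-level: the square of universal thickenings induced by an étale map is cartesian. -/
theorem isPullback_of_univ_schemes {X : Sp S} {W₁ W₁' Z₁ Z₁' : Over S} (jW : W₁ ⟶ W₁')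
    (jZ : Z₁ ⟶ Z₁') (xW : (yon S).obj W₁' ⟶ X) (xZ : (yon S).obj Z₁' ⟶ X) (g₀ : W₁ ⟶ Z₁)
    (hg₀ : Etale g₀.left) (g : W₁' ⟶ Z₁') (hg1 : jW ≫ g = g₀ ≫ jZ)
    (hg2 : (yon S).map g ≫ xZ = xW)
    (HZ : IsUnivFOThick ((yon S).map jZ ≫ xZ) ((yon S).map jZ) xZ)
    (HW : IsUnivFOThick ((yon S).map jW ≫ xW) ((yon S).map jW) xW) :
    IsPullback jW g₀ g jZ := by
  have hjZ : thick jZ.left := (isThickMor_yon_map_iff jZ).1 HZ.1.1
  haveI : IsClosedImmersion jZ.left := hjZ.1
  haveI : Surjective jZ.left := hjZ.2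
  haveI := hg₀
  have pb := Groth.Agent.Helper1.TH.isPullback_glued jZ.left g₀.left
  have het := Groth.Agent.Helper1.TH.etale_gY jZ.left g₀.left
  let W'' : Over S := Over.mk (Groth.Agent.Helper1.TH.gY jZ.left g₀.left ≫ Z₁'.hom)
  let y' : W'' ⟶ Z₁' := Over.homMk (Groth.Agent.Helper1.TH.gY jZ.left g₀.left) rfl
  have hjw : Groth.Agent.Helper1.TH.jY jZ.left g₀.left ≫ W''.hom = W₁.hom := by
    show _ ≫ _ ≫ Z₁'.hom = _
    rw [← Category.assoc, pb.w, Category.assoc, Over.w jZ, Over.w g₀]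
  let jW'' : W₁ ⟶ W'' := Over.homMk (Groth.Agent.Helper1.TH.jY jZ.left g₀.left) hjw
  have hsq : IsPullback jW'' g₀ y' jZ :=
    IsPullback.of_map (Over.forget S) (Over.OverMorphism.ext pb.w) pb
  have hy'e : Etale y'.left := het
  have sqY : IsPullback ((yon S).map g₀) ((yon S).map jW'') ((yon S).map jZ) ((yon S).map y') :=
    (hsq.map (yon S)).flip
  have HW'' := isUnivFOThick_etale_bc (IsAlgSpace.yon_obj W'') HZ
    ((isEtaleMor_yon_map_iff y').2 hy'e) sqY
  have hcomm : (yon S).map jW ≫ xW = (yon S).map g₀ ≫ (yon S).map jZ ≫ xZ := by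
    rw [← hg2, ← Category.assoc, ← Functor.map_comp, hg1, Functor.map_comp, Category.assoc]
  rw [hcomm] at HW
  obtain ⟨θ, hθ1, hθ2⟩ := exists_iso_of_isUnivFOThick (IsAlgSpace.yon_obj W₁)
    (IsAlgSpace.yon_obj W₁') (IsAlgSpace.yon_obj W'') HW HW''
  obtain ⟨θ₀, hθ₀⟩ := (yon S).map_surjective θ.hom
  have hθiso : IsIso θ₀ := by
    have : IsIso ((yon S).map θ₀) := by rw [hθ₀]; infer_instance
    exact isIso_of_fully_faithful (yon S) θ₀
  have hb : (yon S).map jW ≫ xW = (yon S).map g₀ ≫ (yon S).map jZ ≫ xZ := hcomm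
  obtain ⟨a', -, hu⟩ := HZ.2.2 (IsAlgSpace.yon_obj W₁) (IsAlgSpace.yon_obj W₁') ((yon S).map jW)
    ((yon S).map g₀) xW HW.1 hb
  have e1 := hu ((yon S).map g) ⟨by rw [← Functor.map_comp, hg1, Functor.map_comp], hg2⟩
  have e2 := hu (θ.hom ≫ (yon S).map y') ⟨by
    rw [← Category.assoc, hθ1, ← Functor.map_comp, hsq.w, Functor.map_comp], by
    rw [Category.assoc]; exact hθ2⟩
  have e3 : g = θ₀ ≫ y' := (yon S).map_injective (by
    rw [Functor.map_comp, hθ₀, e1, e2])
  have e4 : jW ≫ θ₀ = jW'' := (yon S).map_injective (by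
    rw [Functor.map_comp, hθ₀, hθ1])
  refine IsPullback.of_iso hsq (Iso.refl _) (asIso θ₀).symm (Iso.refl _) (Iso.refl _) ?_ ?_ ?_ ?_
  · simp only [Iso.refl_hom, Iso.symm_hom, asIso_inv, Category.id_comp, IsIso.comp_inv_eq]
    exact e4.symm
  · simp
  · simp only [Iso.refl_hom, Iso.symm_hom, asIso_inv, Category.comp_id, IsIso.eq_inv_comp]
    exact e3.symm
  · simp

section Univ

variable {X : Sp S} {W W' : Over S} {jW : W ⟶ W'} {xW' : (yon S).obj W' ⟶ X}

/-- Existence part of the universal property, for schemes. -/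
theorem univ_lift (HW : IsUnivFOThick ((yon S).map jW ≫ xW') ((yon S).map jW) xW')
    {T T' : Over S} (jT : T ⟶ T') (hjT : IsFOThickMor ((yon S).map jT)) (a : T ⟶ W)
    (b : (yon S).obj T' ⟶ X)
    (hab : (yon S).map jT ≫ b = (yon S).map a ≫ (yon S).map jW ≫ xW') :
    ∃ r : T' ⟶ W', jT ≫ r = a ≫ jW ∧ (yon S).map r ≫ xW' = b := by
  obtain ⟨r, ⟨hr1, hr2⟩, -⟩ := HW.2.2 (IsAlgSpace.yon_obj T) (IsAlgSpace.yon_obj T')
    ((yon S).map jT) ((yon S).map a) b hjT hab
  obtain ⟨r₀, rfl⟩ := (yon S).map_surjective r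
  refine ⟨r₀, (yon S).map_injective ?_, hr2⟩
  rw [Functor.map_comp, Functor.map_comp, hr1]

/-- Uniqueness part of the universal property, for schemes. -/
theorem univ_ext (HW : IsUnivFOThick ((yon S).map jW ≫ xW') ((yon S).map jW) xW')
    {T T' : Over S} (jT : T ⟶ T') (hjT : IsFOThickMor ((yon S).map jT)) (r r' : T' ⟶ W')
    (a : T ⟶ W) (h1 : jT ≫ r = a ≫ jW) (h2 : jT ≫ r' = a ≫ jW)
    (h3 : (yon S).map r ≫ xW' = (yon S).map r' ≫ xW') : r = r' := by
  have hab : (yon S).map jT ≫ ((yon S).map r ≫ xW') =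
      (yon S).map a ≫ (yon S).map jW ≫ xW' := by
    rw [← Category.assoc, ← Functor.map_comp, h1, Functor.map_comp, Category.assoc]
  obtain ⟨m, -, hu⟩ := HW.2.2 (IsAlgSpace.yon_obj T) (IsAlgSpace.yon_obj T')
    ((yon S).map jT) ((yon S).map a) ((yon S).map r ≫ xW') hjT hab
  have e1 := hu ((yon S).map r) ⟨by rw [← Functor.map_comp, h1, Functor.map_comp], rfl⟩
  have e2 := hu ((yon S).map r') ⟨by rw [← Functor.map_comp, h2, Functor.map_comp], h3.symm⟩
  exact (yon S).map_injective (e1.trans e2.symm)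

/-- Étale base change of a universal thickening of schemes. -/
theorem univ_bc (HW : IsUnivFOThick ((yon S).map jW ≫ xW') ((yon S).map jW) xW')
    {Y Y' : Over S} {jY : Y ⟶ Y'} {g₀ : Y ⟶ W} {g : Y' ⟶ W'} (hg : Etale g.left)
    (sq : IsPullback jY g₀ g jW) :
    IsUnivFOThick ((yon S).map jY ≫ (yon S).map g ≫ xW') ((yon S).map jY)
      ((yon S).map g ≫ xW') := by
  have H := isUnivFOThick_etale_bc (IsAlgSpace.yon_obj Y') HW
    ((isEtaleMor_yon_map_iff g).2 hg) (sq.map (yon S)).flip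
  have e : (yon S).map g₀ ≫ (yon S).map jW ≫ xW' = (yon S).map jY ≫ (yon S).map g ≫ xW' := by
    rw [← Category.assoc, ← Functor.map_comp, ← sq.w, Functor.map_comp, Category.assoc]
  rw [← e]; exact H

end Univ

section SqZero

open Groth.Agent.Helper15.Thick

/-- Square-zero kernels can be checked on a flat affine cover factoring through affine charts on
which the kernel has square zero. -/
theorem sqZero_of_cover {Z Z' : Sp S} (i : Z ⟶ Z') (hc : RepWith @IsClosedImmersion i)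
    {V W : Over S} (hV : IsAffine V.left) (g : (yon S).obj V ⟶ Z')
    (fst : (yon S).obj W ⟶ Z) (snd : W ⟶ V) (sq : IsPullback fst ((yon S).map snd) i g)
    {ι : Type*} (Q E : ι → Over S) (hQ : ∀ α, IsAffine (Q α).left)
    (hE : ∀ α, IsAffine (E α).left) (qV : ∀ α, Q α ⟶ V) (hfl : ∀ α, Flat (qV α).left)
    (hsurj : ∀ x : V.left, ∃ α y, (qV α).left y = x)
    (e : ∀ α, (yon S).obj (E α) ⟶ Z') (qE : ∀ α, Q α ⟶ E α)
    (hq : ∀ α, (yon S).map (qE α) ≫ e α = (yon S).map (qV α) ≫ g)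
    (hE0 : ∀ α (WE : Over S) (fstE : (yon S).obj WE ⟶ Z) (cE : WE ⟶ E α),
      IsPullback fstE ((yon S).map cE) i (e α) → sqZero cE.left) :
    sqZero snd.left := by
  haveI := hV
  have hsndc : IsClosedImmersion snd.left := hc.property g fst snd sq
  rw [sqZero_iff_ker_sq, eq_bot_iff]
  intro x hx
  rw [Ideal.mem_bot]
  refine eq_zero_of_forall_flat_cover (fun α => (Q α).left) (fun α => (qV α).left) hfl hsurj x
    (fun α => ?_)
  have hQa := hQ α
  have hEa := hE α
  haveI := hEa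
  let cQ := hc.1.snd ((yon S).map (qV α) ≫ g)
  have sqQ : IsPullback (hc.1.fst ((yon S).map (qV α) ≫ g)) ((yon S).map cQ) i
      ((yon S).map (qV α) ≫ g) := hc.1.isPullback _
  have k1 := ker_appTop_eq_map_of_charts i hQa hV g (qV α) fst snd sq hsndc _ cQ sqQ
  have sqQ' : IsPullback (hc.1.fst ((yon S).map (qV α) ≫ g)) ((yon S).map cQ) i
      ((yon S).map (qE α) ≫ e α) := by rw [hq α]; exact sqQ
  have sqE := hc.1.isPullback (e α)
  have hcE : IsClosedImmersion (hc.1.snd (e α)).left := hc.property_snd (e α)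
  have k2 := ker_appTop_eq_map_of_charts i hQa hEa (e α) (qE α) _ _ sqE hcE _ cQ sqQ'
  have hz : RingHom.ker (hc.1.snd (e α)).left.appTop.hom ^ 2 = ⊥ :=
    (sqZero_iff_ker_sq _).1 (hE0 α _ _ _ sqE)
  have h1 : (qV α).left.appTop.hom x ∈
      (RingHom.ker snd.left.appTop.hom ^ 2).map (qV α).left.appTop.hom :=
    Ideal.mem_map_of_mem _ hx
  rw [Ideal.map_pow, ← k1, k2, ← Ideal.map_pow, hz, Ideal.map_bot, Ideal.mem_bot] at h1
  exact h1

end SqZero

end Groth.Agent.Helper15.UThick
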