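import Mathlib
import Groth.Prelude
import Groth.Agent.Lib.Helper15.UThick5
import Groth.Agent.Lib.Helper3.FormEt

set_option autoImplicit false
set_option linter.unusedSectionVars false
universe u
open CategoryTheory CategoryTheory.Limits AlgebraicGeometry MorphismProperty Opposite

namespace Groth.Agent.Helper15.UThick

open AlgSp Groth.Agent.Helper15 Groth.Agent.Helper16.AS Groth.Agent.Helper15.Thick

variable {S : Scheme.{u}}

section Chart

variable {V T' : Over S}

/-- An open subscheme as a scheme over `S`. -/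
noncomputable abbrev ovOpen (V : Over S) (O : V.left.Opens) : Over S := Over.mk (O.ι ≫ V.hom)

/-- The inclusion of an open subscheme, over `S`. -/
noncomputable abbrev ovOpenι (V : Over S) (O : V.left.Opens) : ovOpen V O ⟶ V := Over.homMk O.ι rfl

variable (b₀ : V ⟶ T') (O : V.left.Opens) (E₀ : T'.left.Opens) (hle : O ≤ b₀.left ⁻¹ᵁ E₀)

include hle in
theorem range_sub : Set.range (O.ι ≫ b₀.left) ⊆ Set.range E₀.ι := by
  rintro _ ⟨y, rfl⟩
  rw [Scheme.Opens.range_ι]
  have hy : (O.ι y) ∈ (O : Set V.left) := by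
    have := Set.mem_range_self (f := O.ι) y
    rwa [Scheme.Opens.range_ι] at this
  exact hle hy

/-- The restriction of `b₀` to opens. -/
noncomputable def resMap : ovOpen V O ⟶ ovOpen T' E₀ :=
  Over.homMk (IsOpenImmersion.lift E₀.ι (O.ι ≫ b₀.left) (range_sub b₀ O E₀ hle)) (by
    show _ ≫ E₀.ι ≫ T'.hom = O.ι ≫ V.hom
    rw [IsOpenImmersion.lift_fac_assoc, Category.assoc, CategoryTheory.Over.w b₀])

theorem resMap_comp : resMap b₀ O E₀ hle ≫ ovOpenι T' E₀ = ovOpenι V O ≫ b₀ := by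
  apply Over.OverMorphism.ext
  show IsOpenImmersion.lift E₀.ι (O.ι ≫ b₀.left) (range_sub b₀ O E₀ hle) ≫ E₀.ι = _
  rw [IsOpenImmersion.lift_fac]
  rfl

end Chart

/-- A first order thickening of schemes over `S` is a first order thickening of sheaves. -/
theorem isFOThickMor_yon_map_of_fo {T T' : Over S} (j : T ⟶ T')
    (hj : MoreMor.IsFirstOrderThickening j.left) : IsFOThickMor ((yon S).map j) := by
  have hth : IsThickMor ((yon S).map j) := (isThickMor_yon_map_iff j).2 hj.1
  have hc : RepWith @IsClosedImmersion ((yon S).map j) :=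
    repWith_mono thick_le_isClosedImmersion' hth
  haveI : IsClosedImmersion j.left := hj.1.1
  refine ⟨hth, ?_⟩
  intro V W b fst snd hV _ sq
  obtain ⟨b₀, rfl⟩ := (yon S).map_surjective b
  refine sqZero_of_cover ((yon S).map j) hc hV ((yon S).map b₀) fst snd sq
    (ι := {p : V.left.affineOpens × T'.left.affineOpens // p.1.1 ≤ b₀.left ⁻¹ᵁ p.2.1})
    (fun p => ovOpen V p.1.1.1) (fun p => ovOpen T' p.1.2.1)
    (fun p => p.1.1.2) (fun p => p.1.2.2) (fun p => ovOpenι V p.1.1.1) (fun p => ?_) ?_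
    (fun p => (yon S).map (ovOpenι T' p.1.2.1)) (fun p => resMap b₀ p.1.1.1 p.1.2.1 p.2)
    (fun p => ?_) ?_
  · show Flat p.1.1.1.ι
    infer_instance
  · intro x
    obtain ⟨_, ⟨(E₀ : T'.left.Opens), hE₀, rfl⟩, hyE, -⟩ :=
      (T'.left.isBasis_affineOpens).exists_subset_of_mem_open
        (Set.mem_univ (b₀.left x)) isOpen_univ
    have hx : x ∈ ((b₀.left ⁻¹ᵁ E₀ : V.left.Opens) : Set V.left) := hyE
    obtain ⟨_, ⟨(O : V.left.Opens), hO, rfl⟩, hxO, hOE⟩ :=
      (V.left.isBasis_affineOpens).exists_subset_of_mem_open hx (b₀.left ⁻¹ᵁ E₀).2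
    exact ⟨⟨(⟨O, hO⟩, ⟨E₀, hE₀⟩), hOE⟩, ⟨x, hxO⟩, rfl⟩
  · rw [← Functor.map_comp, ← Functor.map_comp, resMap_comp]
  · intro p WE fstE cE sqE
    obtain ⟨f₀, rfl⟩ := (yon S).map_surjective fstE
    have hw : f₀ ≫ j = cE ≫ ovOpenι T' p.1.2.1 := (yon S).map_injective (by
      rw [Functor.map_comp, Functor.map_comp, sqE.w])
    have sqO : IsPullback f₀ cE j (ovOpenι T' p.1.2.1) := IsPullback.of_map (yon S) hw sqE
    have sqS : IsPullback f₀.left cE.left j.left p.1.2.1.ι := sqO.map (Over.forget S)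
    exact Groth.Agent.Helper3.FormEt.ker_sq_of_isPullback j.left cE.left f₀.left p.1.2.1.ι
      sqS.flip hj.2

end Groth.Agent.Helper15.UThick
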