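import Mathlib
import Groth.Prelude
import Groth.Agent.Lib.Helper15.UThick6
import Groth.Agent.Lib.Helper18.UTGlue2
import Groth.Agent.S10630

set_option autoImplicit false
set_option linter.unusedSectionVars false
universe u
open CategoryTheory CategoryTheory.Limits AlgebraicGeometry MorphismProperty Opposite

namespace Groth.Agent.Helper15.UThick

open AlgSp Groth.Agent.Helper15 Groth.Agent.Helper16.AS

variable {S : Scheme.{u}}

/-- The universal first order thickening of a formally unramified morphism of schemes over `S` is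
a universal first order thickening of sheaves. -/
theorem exists_univ_scheme {V U : Over S} (ψ : V ⟶ U) (hψ : FormallyUnramified ψ.left) :
    ∃ (V' : Over S) (jV : V ⟶ V') (pV' : V' ⟶ U),
      IsUnivFOThick ((yon S).map ψ) ((yon S).map jV) ((yon S).map pV') := by
  haveI := hψ
  obtain ⟨hthick, hfac, hUP⟩ := Groth.Agent.Helper18.UTGlue.isUnivThickening_glue ψ.left
  obtain ⟨V', hV'⟩ : ∃ V' : Over S,
      V' = Over.mk (Groth.Agent.Helper18.UTGlue.h'Z ψ.left ≫ U.hom) := ⟨_, rfl⟩
  have hjw : Groth.Agent.Helper18.UTGlue.iZ ψ.left ≫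
      (Over.mk (Groth.Agent.Helper18.UTGlue.h'Z ψ.left ≫ U.hom)).hom = V.hom := by
    show _ ≫ _ ≫ U.hom = _
    rw [← Category.assoc, hfac, CategoryTheory.Over.w ψ]
  subst hV'
  obtain ⟨jV, hjV⟩ : ∃ jV : V ⟶ Over.mk (Groth.Agent.Helper18.UTGlue.h'Z ψ.left ≫ U.hom),
      jV.left = Groth.Agent.Helper18.UTGlue.iZ ψ.left := ⟨Over.homMk _ hjw, rfl⟩
  obtain ⟨pV', hpV'⟩ : ∃ pV' : Over.mk (Groth.Agent.Helper18.UTGlue.h'Z ψ.left ≫ U.hom) ⟶ U,
      pV'.left = Groth.Agent.Helper18.UTGlue.h'Z ψ.left := ⟨Over.homMk _ rfl, rfl⟩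
  have hjp : jV ≫ pV' = ψ := by
    apply Over.OverMorphism.ext
    rw [Over.comp_left, hjV, hpV']
    exact hfac
  have hFO : IsFOThickMor ((yon S).map jV) :=
    isFOThickMor_yon_map_of_fo jV (by rw [hjV]; exact hthick)
  refine ⟨_, jV, pV', ?_⟩
  have key := (Groth.Agent.S10630.result
    (Z := ⟨(yon S).obj V, IsAlgSpace.yon_obj V⟩)
    (Z' := ⟨(yon S).obj (Over.mk (Groth.Agent.Helper18.UTGlue.h'Z ψ.left ≫ U.hom)),
      IsAlgSpace.yon_obj _⟩)
    (X := ⟨(yon S).obj U, IsAlgSpace.yon_obj U⟩)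
    (ObjectProperty.homMk ((yon S).map ψ)) (ObjectProperty.homMk ((yon S).map jV))
    (ObjectProperty.homMk ((yon S).map pV')) hFO
    (ObjectProperty.hom_ext _ (by
      show (yon S).map jV ≫ (yon S).map pV' = (yon S).map ψ
      rw [← Functor.map_comp, hjp]))).2
  apply key
  intro T T' j hT' hj a b hab
  obtain ⟨a₀, rfl⟩ := (yon S).map_surjective a
  obtain ⟨b₀, rfl⟩ := (yon S).map_surjective b
  have hj' : MoreMor.IsFirstOrderThickening j.left :=
    isFirstOrderThickening_of_isFOThickMor_yon_map hT' hj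
  have hab₀ : j ≫ b₀ = a₀ ≫ ψ := (yon S).map_injective (by
    rw [Functor.map_comp, Functor.map_comp]; exact hab)
  obtain ⟨m, ⟨hm1, hm2⟩, hu⟩ := hUP T.left T'.left j.left b₀.left a₀.left hj' (by
    rw [← Over.comp_left, hab₀, Over.comp_left])
  have hmw : m ≫ (Over.mk (Groth.Agent.Helper18.UTGlue.h'Z ψ.left ≫ U.hom)).hom = T'.hom := by
    show m ≫ _ ≫ U.hom = _
    rw [← Category.assoc, hm2, CategoryTheory.Over.w b₀]
  refine ⟨(yon S).map (Over.homMk m hmw), ⟨?_, ?_⟩, ?_⟩
  · show (yon S).map j ≫ (yon S).map (Over.homMk m hmw) = (yon S).map a₀ ≫ (yon S).map jV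
    rw [← Functor.map_comp, ← Functor.map_comp]
    congr 1
    apply Over.OverMorphism.ext
    rw [Over.comp_left, Over.comp_left, hjV]
    exact hm1
  · show (yon S).map (Over.homMk m hmw) ≫ (yon S).map pV' = (yon S).map b₀
    rw [← Functor.map_comp]
    congr 1
    apply Over.OverMorphism.ext
    rw [Over.comp_left, hpV']
    exact hm2
  · rintro m' ⟨h1, h2⟩
    obtain ⟨m₀, rfl⟩ := (yon S).map_surjective m'
    congr 1
    apply Over.OverMorphism.ext
    show m₀.left = m
    apply hu
    refine ⟨?_, ?_⟩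
    · have e : j ≫ m₀ = a₀ ≫ jV := (yon S).map_injective (by
        rw [Functor.map_comp, Functor.map_comp]; exact h1)
      have := congrArg (fun k => k.left) e
      simp only [Over.comp_left, hjV] at this
      exact this
    · have e : m₀ ≫ pV' = b₀ := (yon S).map_injective (by
        rw [Functor.map_comp]; exact h2)
      have := congrArg (fun k => k.left) e
      simp only [Over.comp_left, hpV'] at this
      exact this

end Groth.Agent.Helper15.UThick
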