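import Mathlib
import Groth.Prelude
import Groth.Agent.Lib.Helper15.UThick7

set_option autoImplicit false
set_option linter.unusedSectionVars false
universe u
open CategoryTheory CategoryTheory.Limits AlgebraicGeometry MorphismProperty Opposite

namespace Groth.Agent.Helper15.UThick

open AlgSp Groth.Agent.Helper15 Groth.Agent.Helper16.AS

variable {S : Scheme.{u}}

section YX

variable {X : Sp S}

theorem yx_comp {A B C : Over S} (f : A ⟶ B) (g : B ⟶ C) (x : (yon S).obj C ⟶ X) :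
    (yon S).map f ≫ (yon S).map g ≫ x = (yon S).map (f ≫ g) ≫ x := by
  rw [Functor.map_comp, Category.assoc]

theorem yx_congr {A B : Over S} {f g : A ⟶ B} (h : f = g) (x : (yon S).obj B ⟶ X) :
    (yon S).map f ≫ x = (yon S).map g ≫ x := by rw [h]

end YX

section Groupoid

variable {X : Sp S} {V V' R R' : Over S}

/-- The data of the lifted groupoid. -/
structure GData (jV : V ⟶ V') (xV' : (yon S).obj V' ⟶ X) (s t : R ⟶ V) (jR : R ⟶ R')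
    (s' t' : R' ⟶ V') : Prop where
  HV : IsUnivFOThick ((yon S).map jV ≫ xV') ((yon S).map jV) xV'
  HR : IsUnivFOThick ((yon S).map jR ≫ (yon S).map s' ≫ xV') ((yon S).map jR)
    ((yon S).map s' ≫ xV')
  eqv : IsEtaleEqvRel s t
  sqs : IsPullback jR s s' jV
  sqt : IsPullback jR t t' jV
  hx : (yon S).map t' ≫ xV' = (yon S).map s' ≫ xV'
  es' : Etale s'.left
  et' : Etale t'.left

/-- Construction of `t'`. -/
theorem exists_gdata {jV : V ⟶ V'} {xV' : (yon S).obj V' ⟶ X} {s t : R ⟶ V} {jR : R ⟶ R'}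
    {s' : R' ⟶ V'}
    (HV : IsUnivFOThick ((yon S).map jV ≫ xV') ((yon S).map jV) xV')
    (eqv : IsEtaleEqvRel s t)
    (hst : (yon S).map s ≫ (yon S).map jV ≫ xV' = (yon S).map t ≫ (yon S).map jV ≫ xV')
    (es' : Etale s'.left) (sqs : IsPullback jR s s' jV) :
    ∃ t' : R' ⟶ V', GData jV xV' s t jR s' t' := by
  have HR := univ_bc HV es' sqs
  have hab : (yon S).map jR ≫ (yon S).map s' ≫ xV' =
      (yon S).map t ≫ (yon S).map jV ≫ xV' := by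
    rw [← hst, yx_comp, yx_comp, sqs.w]
  obtain ⟨t', ht1, ht2⟩ := univ_lift HV jR HR.1 t ((yon S).map s' ≫ xV') hab
  have sqt : IsPullback jR t t' jV :=
    isPullback_of_univ_schemes jR jV ((yon S).map s' ≫ xV') xV' t eqv.etale_right t' ht1 ht2
      HV HR
  have et' : Etale t'.left :=
    etale_of_univ_schemes jR jV ((yon S).map s' ≫ xV') xV' t eqv.etale_right t' ht1 ht2 HV HR
  exact ⟨t', ⟨HV, HR, eqv, sqs, sqt, ht2, es', et'⟩⟩

variable {jV : V ⟶ V'} {xV' : (yon S).obj V' ⟶ X} {s t : R ⟶ V} {jR : R ⟶ R'}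
  {s' t' : R' ⟶ V'} (G : GData jV xV' s t jR s' t')

include G

theorem GData.mono_jV : Mono jV := by
  have h : thick jV.left := (isThickMor_yon_map_iff jV).1 G.HV.1.1
  haveI : IsClosedImmersion jV.left := h.1
  exact Over.mono_of_mono_left _

theorem GData.injective (T : Over S) (r r' : T ⟶ R') (ht : r ≫ t' = r' ≫ t')
    (hs : r ≫ s' = r' ≫ s') : r = r' := by
  haveI := G.mono_jV
  have sqT : IsPullback (pullback.fst r jR) (pullback.snd r jR) r jR :=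
    IsPullback.of_hasPullback _ _
  obtain ⟨π₁, hπ₁⟩ : ∃ π₁, π₁ = pullback.fst r jR := ⟨_, rfl⟩
  obtain ⟨π₂, hπ₂⟩ : ∃ π₂, π₂ = pullback.snd r jR := ⟨_, rfl⟩
  rw [← hπ₁, ← hπ₂] at sqT
  have hFO : IsFOThickMor ((yon S).map π₁) :=
    Thick.isFOThickMor_of_isPullback (IsAlgSpace.yon_obj R') (sqT.map (yon S)).flip G.HR.1
  have hc : (π₁ ≫ r') ≫ s' = (π₂ ≫ s) ≫ jV := by
    rw [Category.assoc, ← hs, ← Category.assoc, sqT.w, Category.assoc, G.sqs.w, Category.assoc]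
  have hρ1 : G.sqs.lift (π₁ ≫ r') (π₂ ≫ s) hc ≫ jR = π₁ ≫ r' := G.sqs.lift_fst _ _ _
  have hρ2 : G.sqs.lift (π₁ ≫ r') (π₂ ≫ s) hc ≫ s = π₂ ≫ s := G.sqs.lift_snd _ _ _
  have hρ3 : G.sqs.lift (π₁ ≫ r') (π₂ ≫ s) hc ≫ t = π₂ ≫ t := by
    rw [← cancel_mono jV, Category.assoc, ← G.sqt.w, ← Category.assoc, hρ1, Category.assoc, ← ht,
      ← Category.assoc, sqT.w, Category.assoc, G.sqt.w, Category.assoc]
  have hρ : G.sqs.lift (π₁ ≫ r') (π₂ ≫ s) hc = π₂ := G.eqv.injective _ _ _ hρ3 hρ2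
  refine univ_ext G.HR π₁ hFO r r' π₂ sqT.w (by rw [← hρ1, hρ]) ?_
  rw [yx_comp, yx_comp, hs]

theorem GData.refl : ∃ e' : V' ⟶ R', e' ≫ t' = 𝟙 V' ∧ e' ≫ s' = 𝟙 V' := by
  obtain ⟨e, he1, he2⟩ := (G.eqv.equivalence V).refl (𝟙 V)
  have hab : (yon S).map jV ≫ xV' =
      (yon S).map e ≫ (yon S).map jR ≫ (yon S).map s' ≫ xV' := by
    rw [yx_comp, yx_comp]
    refine yx_congr ?_ _
    rw [Category.assoc, G.sqs.w, ← Category.assoc, he2, Category.id_comp]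
  obtain ⟨e', he'1, he'2⟩ := univ_lift G.HR jV G.HV.1 e xV' hab
  refine ⟨e', ?_, ?_⟩
  · refine univ_ext G.HV jV G.HV.1 (e' ≫ t') (𝟙 V') (𝟙 V) ?_ ?_ ?_
    · rw [← Category.assoc, he'1, Category.assoc, G.sqt.w, ← Category.assoc, he1]
    · rw [Category.comp_id, Category.id_comp]
    · rw [← yx_comp, G.hx, he'2, (yon S).map_id, Category.id_comp]
  · refine univ_ext G.HV jV G.HV.1 (e' ≫ s') (𝟙 V') (𝟙 V) ?_ ?_ ?_
    · rw [← Category.assoc, he'1, Category.assoc, G.sqs.w, ← Category.assoc, he2]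
    · rw [Category.comp_id, Category.id_comp]
    · rw [← yx_comp, he'2, (yon S).map_id, Category.id_comp]

theorem GData.symm : ∃ σ' : R' ⟶ R', σ' ≫ t' = s' ∧ σ' ≫ s' = t' := by
  obtain ⟨σ, hσ1, hσ2⟩ := (G.eqv.equivalence R).symm
    (⟨𝟙 R, Category.id_comp _, Category.id_comp _⟩ : ∃ r : R ⟶ R, r ≫ t = t ∧ r ≫ s = s)
  -- hσ1 : σ ≫ t = s, hσ2 : σ ≫ s = t
  have hst : (yon S).map t ≫ (yon S).map jV ≫ xV' = (yon S).map s ≫ (yon S).map jV ≫ xV' := by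
    rw [yx_comp, yx_comp, ← G.sqt.w, ← G.sqs.w, ← yx_comp, ← yx_comp, G.hx]
  have hab : (yon S).map jR ≫ (yon S).map s' ≫ xV' =
      (yon S).map σ ≫ (yon S).map jR ≫ (yon S).map s' ≫ xV' := by
    have e1 : σ ≫ s ≫ jV = t ≫ jV := by rw [← Category.assoc, hσ2]
    rw [yx_comp jR s', G.sqs.w, yx_comp σ, e1, ← yx_comp s, ← yx_comp t, hst]
  obtain ⟨σ', hσ'1, hσ'2⟩ := univ_lift G.HR jR G.HR.1 σ ((yon S).map s' ≫ xV') hab
  refine ⟨σ', ?_, ?_⟩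
  · refine univ_ext G.HV jR G.HR.1 (σ' ≫ t') s' s ?_ G.sqs.w ?_
    · rw [← Category.assoc, hσ'1, Category.assoc, G.sqt.w, ← Category.assoc, hσ1]
    · rw [← yx_comp, G.hx, hσ'2]
  · refine univ_ext G.HV jR G.HR.1 (σ' ≫ s') t' t ?_ G.sqt.w ?_
    · rw [← Category.assoc, hσ'1, Category.assoc, G.sqs.w, ← Category.assoc, hσ2]
    · rw [← yx_comp, hσ'2, G.hx]

theorem GData.trans : ∃ c' : pullback s' t' ⟶ R',
    c' ≫ t' = pullback.fst s' t' ≫ t' ∧ c' ≫ s' = pullback.snd s' t' ≫ s' := by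
  obtain ⟨p₁, hp₁⟩ : ∃ p₁, p₁ = pullback.fst s t := ⟨_, rfl⟩
  obtain ⟨p₂, hp₂⟩ : ∃ p₂, p₂ = pullback.snd s t := ⟨_, rfl⟩
  have sq2 : IsPullback p₁ p₂ s t := by rw [hp₁, hp₂]; exact IsPullback.of_hasPullback s t
  obtain ⟨p₁', hp₁'⟩ : ∃ p₁', p₁' = pullback.fst s' t' := ⟨_, rfl⟩
  obtain ⟨p₂', hp₂'⟩ : ∃ p₂', p₂' = pullback.snd s' t' := ⟨_, rfl⟩
  have sq2' : IsPullback p₁' p₂' s' t' := by
    rw [hp₁', hp₂']; exact IsPullback.of_hasPullback s' t'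
  rw [← hp₁', ← hp₂']
  have hj₂c : (p₁ ≫ jR) ≫ s' = (p₂ ≫ jR) ≫ t' := by
    rw [Category.assoc, G.sqs.w, ← Category.assoc, sq2.w, Category.assoc, ← G.sqt.w,
      Category.assoc]
  obtain ⟨j₂, hj₂⟩ : ∃ j₂, j₂ = sq2'.lift (p₁ ≫ jR) (p₂ ≫ jR) hj₂c := ⟨_, rfl⟩
  have hj₂1 : j₂ ≫ p₁' = p₁ ≫ jR := by rw [hj₂]; exact sq2'.lift_fst _ _ _
  have hj₂2 : j₂ ≫ p₂' = p₂ ≫ jR := by rw [hj₂]; exact sq2'.lift_snd _ _ _
  have outer : IsPullback (p₂ ≫ jR) p₁ t' (s ≫ jV) := sq2.flip.paste_horiz G.sqt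
  have sq₂ : IsPullback j₂ p₁ p₁' jR := by
    refine IsPullback.of_right ?_ hj₂1 sq2'.flip
    rw [hj₂2, G.sqs.w]; exact outer
  have ep₁' : Etale p₁'.left :=
    MorphismProperty.of_isPullback (P := @Etale) (sq2'.flip.map (Over.forget S)) G.et'
  have HR₂ := univ_bc G.HR ep₁' sq₂
  obtain ⟨c, hc1, hc2⟩ := (G.eqv.equivalence _).trans
    (⟨p₁, rfl, rfl⟩ : ∃ r, r ≫ t = p₁ ≫ t ∧ r ≫ s = p₁ ≫ s)
    (⟨p₂, sq2.w.symm, rfl⟩ : ∃ r, r ≫ t = p₁ ≫ s ∧ r ≫ s = p₂ ≫ s)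
  have hab : (yon S).map j₂ ≫ ((yon S).map p₁' ≫ (yon S).map s' ≫ xV') =
      (yon S).map c ≫ (yon S).map jR ≫ (yon S).map s' ≫ xV' := by
    rw [← G.hx]
    simp only [yx_comp]
    refine yx_congr ?_ _
    have e1 : j₂ ≫ p₁' ≫ t' = p₁ ≫ t ≫ jV := by
      rw [← Category.assoc, hj₂1, Category.assoc, G.sqt.w]
    have e2 : c ≫ jR ≫ t' = p₁ ≫ t ≫ jV := by
      rw [G.sqt.w, ← Category.assoc, hc1, Category.assoc]
    rw [e1, e2]
  obtain ⟨c', hc'1, hc'2⟩ := univ_lift G.HR j₂ HR₂.1 c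
    ((yon S).map p₁' ≫ (yon S).map s' ≫ xV') hab
  refine ⟨c', ?_, ?_⟩
  · refine univ_ext G.HV j₂ HR₂.1 (c' ≫ t') (p₁' ≫ t') (p₁ ≫ t) ?_ ?_ ?_
    · rw [← Category.assoc, hc'1, Category.assoc, G.sqt.w, ← Category.assoc, hc1]
    · rw [← Category.assoc, hj₂1, Category.assoc, G.sqt.w, Category.assoc]
    · rw [← yx_comp, ← yx_comp, G.hx, hc'2]
  · refine univ_ext G.HV j₂ HR₂.1 (c' ≫ s') (p₂' ≫ s') (p₂ ≫ s) ?_ ?_ ?_
    · rw [← Category.assoc, hc'1, Category.assoc, G.sqs.w, ← Category.assoc, hc2]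
    · rw [← Category.assoc, hj₂2, Category.assoc, G.sqs.w, Category.assoc]
    · rw [← yx_comp, hc'2, yx_comp, sq2'.w, ← yx_comp, G.hx, yx_comp]

theorem GData.isEtaleEqvRel : IsEtaleEqvRel s' t' := by
  obtain ⟨e', he1, he2⟩ := G.refl
  obtain ⟨σ', hσ1, hσ2⟩ := G.symm
  obtain ⟨c', hc1, hc2⟩ := G.trans
  refine ⟨⟨G.injective, fun T => ⟨?_, ?_, ?_⟩⟩, G.es', G.et'⟩
  · intro a
    exact ⟨a ≫ e', by rw [Category.assoc, he1, Category.comp_id],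
      by rw [Category.assoc, he2, Category.comp_id]⟩
  · rintro a b ⟨r, hr1, hr2⟩
    exact ⟨r ≫ σ', by rw [Category.assoc, hσ1, hr2], by rw [Category.assoc, hσ2, hr1]⟩
  · rintro a b c ⟨r₁, h11, h12⟩ ⟨r₂, h21, h22⟩
    have hw : r₁ ≫ s' = r₂ ≫ t' := by rw [h12, h21]
    refine ⟨pullback.lift r₁ r₂ hw ≫ c', ?_, ?_⟩
    · rw [Category.assoc, hc1, ← Category.assoc, pullback.lift_fst, h11]
    · rw [Category.assoc, hc2, ← Category.assoc, pullback.lift_snd, h22]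

end Groupoid

end Groth.Agent.Helper15.UThick
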