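import Mathlib
import Groth.Prelude
import Groth.Agent.Lib.Helper15.UThick8
import Groth.Agent.Lib.Helper15.QuotShBridge
import Groth.Agent.Lib.Helper15.AlgSpSI2
import Groth.Agent.Lib.Helper15.FppfBridge5

set_option autoImplicit false
set_option linter.unusedSectionVars false
universe u
open CategoryTheory CategoryTheory.Limits AlgebraicGeometry MorphismProperty Opposite

namespace Groth.Agent.Helper15.UThick

open AlgSp Groth.Agent.Helper15 Groth.Agent.Helper16.AS

variable {S : Scheme.{u}}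

/-- The chart of the quotient thickening is cartesian over the chart of the space. -/
theorem isPullback_quot_chart {Z Z' : Sp S} {V V' R R' : Over S} (v : (yon S).obj V ⟶ Z)
    (hve : RepWith @Etale v) (hvs : RepWith @Surjective v) {s t : R ⟶ V}
    (sqR : IsPullback ((yon S).map t) ((yon S).map s) v v) {jV : V ⟶ V'} (hjV : Mono jV)
    {jR : R ⟶ R'} {s' t' : R' ⟶ V'} (sqs : IsPullback jR s s' jV) (sqt : IsPullback jR t t' jV)
    (p' : (yon S).obj V' ⟶ Z') (sqR' : IsPullback ((yon S).map t') ((yon S).map s') p' p')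
    (i : Z ⟶ Z') (hi : v ≫ i = (yon S).map jV ≫ p') :
    IsPullback v ((yon S).map jV) i p' := by
  obtain ⟨k, hk⟩ : ∃ k : (yon S).obj V ⟶ pullback i p',
      k = pullback.lift v ((yon S).map jV) hi := ⟨_, rfl⟩
  have hk1 : k ≫ pullback.fst i p' = v := by rw [hk, pullback.lift_fst]
  have hk2 : k ≫ pullback.snd i p' = (yon S).map jV := by rw [hk, pullback.lift_snd]
  haveI : Mono k := by
    apply mono_of_yon
    intro T a b hab
    obtain ⟨a₀, rfl⟩ := (yon S).map_surjective a
    obtain ⟨b₀, rfl⟩ := (yon S).map_surjective b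
    have h1 := congrArg (· ≫ pullback.snd i p') hab
    simp only [Category.assoc, hk2, ← Functor.map_comp] at h1
    have h2 : a₀ ≫ jV = b₀ ≫ jV := (yon S).map_injective h1
    rw [(cancel_mono jV).1 h2]
  haveI : Sheaf.IsLocallySurjective k := by
    apply isLocallySurjective_of_local_lift
    intro T z
    have hrep := hve.rep
    obtain ⟨z₂, hz₂⟩ := (yon S).map_surjective (z ≫ pullback.snd i p')
    have sq₁ : IsPullback ((yon S).map (hrep.fst' (z ≫ pullback.fst i p')))
        ((yon S).map (hrep.snd (z ≫ pullback.fst i p'))) v (z ≫ pullback.fst i p') :=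
      hrep.isPullback' _
    obtain ⟨a, ha⟩ : ∃ a, a = hrep.fst' (z ≫ pullback.fst i p') := ⟨_, rfl⟩
    obtain ⟨c₁, hc₁⟩ : ∃ c₁, c₁ = hrep.snd (z ≫ pullback.fst i p') := ⟨_, rfl⟩
    rw [← ha, ← hc₁] at sq₁
    have hc₁e : Etale c₁.left := by rw [hc₁]; exact hve.property_snd _
    have hc₁s : Surjective c₁.left := by rw [hc₁]; exact hvs.property _ _ _ (hrep.isPullback _)
    refine ⟨_, singleton_mem_J c₁ inferInstance inferInstance hc₁s, ?_⟩
    intro T' k' hk'
    obtain ⟨Y, m, g, hg, rfl⟩ := hk'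
    obtain ⟨⟨⟩⟩ := hg
    -- the relation
    have hrel : (yon S).map (a ≫ jV) ≫ p' = (yon S).map (c₁ ≫ z₂) ≫ p' := by
      rw [Functor.map_comp, Functor.map_comp, Category.assoc, ← hi, ← Category.assoc, sq₁.w,
        Category.assoc, Category.assoc, pullback.condition, hz₂, Category.assoc, Category.assoc]
    obtain ⟨r', hr'⟩ := (yon S).map_surjective (sqR'.lift _ _ hrel)
    have hr'1 : r' ≫ t' = a ≫ jV := (yon S).map_injective (by
      rw [Functor.map_comp, hr', sqR'.lift_fst])
    have hr'2 : r' ≫ s' = c₁ ≫ z₂ := (yon S).map_injective (by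
      rw [Functor.map_comp, hr', sqR'.lift_snd])
    have hr1 : sqt.lift r' a hr'1 ≫ jR = r' := sqt.lift_fst _ _ _
    have hr2 : sqt.lift r' a hr'1 ≫ t = a := sqt.lift_snd _ _ _
    refine ⟨(yon S).map (m ≫ sqt.lift r' a hr'1 ≫ s), ?_⟩
    apply pullback.hom_ext
    · rw [Category.assoc, hk1, Category.assoc, Functor.map_comp, Functor.map_comp, Category.assoc,
        Category.assoc, ← sqR.w, ← Category.assoc ((yon S).map (sqt.lift r' a hr'1)),
        ← Functor.map_comp, hr2, sq₁.w, Functor.map_comp, Category.assoc]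
    · rw [Category.assoc, hk2, Category.assoc, ← hz₂, ← Functor.map_comp, ← Functor.map_comp]
      congr 1
      rw [Category.assoc, Category.assoc, ← sqs.w, ← Category.assoc (sqt.lift r' a hr'1), hr1, hr'2,
        Category.assoc]
  haveI : Epi k := (Sheaf.isLocallySurjective_iff_epi k).1 inferInstance
  haveI : IsIso k := isIso_of_mono_of_epi k
  have hpb := IsPullback.of_hasPullback i p'
  refine IsPullback.of_iso hpb (asIso k).symm (Iso.refl _) (Iso.refl _) (Iso.refl _) ?_ ?_ ?_ ?_
  · simp only [Iso.symm_hom, asIso_inv, Iso.refl_hom, Category.comp_id, IsIso.eq_inv_comp, hk1]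
  · simp only [Iso.symm_hom, asIso_inv, Iso.refl_hom, Category.comp_id, IsIso.eq_inv_comp, hk2]
  · simp
  · simp

/-- A closed immersion of schemes is a quasi-affine map of sheaves. -/
theorem isQuasiAffineMor_yon_map_of_isClosedImmersion {V V' : Over S} (jV : V ⟶ V')
    (h : IsClosedImmersion jV.left) : IsQuasiAffineMor ((yon S).map jV) := by
  intro T hT g
  obtain ⟨g₀, rfl⟩ := (yon S).map_surjective g
  have sq : IsPullback (pullback.fst g₀ jV) (pullback.snd g₀ jV) g₀ jV :=
    IsPullback.of_hasPullback _ _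
  refine ⟨pullback g₀ jV, pullback.fst g₀ jV, (yon S).map (pullback.snd g₀ jV),
    (sq.map (yon S)).flip, ?_⟩
  haveI := hT
  haveI : IsClosedImmersion (pullback.fst g₀ jV).left :=
    MorphismProperty.of_isPullback (P := @IsClosedImmersion) (sq.flip.map (Over.forget S)) h
  haveI : IsAffine (pullback g₀ jV).left := isAffine_of_isAffineHom (pullback.fst g₀ jV).left
  infer_instance

/-- First order thickenings descend along an étale chart of the target. -/
theorem isFOThickMor_of_chart {Z Z' : Sp S} {V V' : Over S} (i : Z ⟶ Z')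
    (p' : (yon S).obj V' ⟶ Z') (hp'e : RepWith @Etale p') (hp's : RepWith @Surjective p')
    (v : (yon S).obj V ⟶ Z) (jV : V ⟶ V') (sqV : IsPullback v ((yon S).map jV) i p')
    (hFO : IsFOThickMor ((yon S).map jV)) : IsFOThickMor i := by
  have hth : thick jV.left := (isThickMor_yon_map_iff jV).1 hFO.1
  have hqa : IsQuasiAffineMor i := Bridge.isQuasiAffineMor_of_chart i p'
    (repWith_mono etale_le_flat hp'e) (repWith_mono etale_le_lfp hp'e) hp's v ((yon S).map jV) sqV
    (isQuasiAffineMor_yon_map_of_isClosedImmersion jV hth.1)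
  have hrep : Representable i := Bridge.representable_of_isQuasiAffineMor i hqa
  have h1 : RepWith @IsClosedImmersion i :=
    (repWith_iff_of_chart i hrep p' hp'e hp's v jV sqV @IsClosedImmersion).2 hth.1
  have h2 : RepWith @Surjective i :=
    (repWith_iff_of_chart i hrep p' hp'e hp's v jV sqV @Surjective).2 hth.2
  have hT : IsThickMor i :=
    ⟨hrep, fun T W g fst snd sq => ⟨h1.property g fst snd sq, h2.property g fst snd sq⟩⟩
  refine ⟨hT, ?_⟩
  intro T W b fst snd hTa _ sq
  have hrep' := hp'e.rep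
  obtain ⟨d, hd⟩ : ∃ d, d = hrep'.fst' b := ⟨_, rfl⟩
  obtain ⟨c₁, hc₁⟩ : ∃ c₁, c₁ = hrep'.snd b := ⟨_, rfl⟩
  have sq₁ : IsPullback ((yon S).map d) ((yon S).map c₁) p' b := by
    rw [hd, hc₁]; exact hrep'.isPullback' b
  have hc₁e : Etale c₁.left := by rw [hc₁]; exact hp'e.property_snd b
  have hc₁s : Surjective c₁.left := by
    rw [hc₁]; exact hp's.property _ _ _ (hrep'.isPullback b)
  refine sqZero_of_cover i h1 hTa b fst snd sq
    (ι := (hrep'.pullback b).left.affineOpens)
    (fun O => ovOpen _ O.1) (fun O => ovOpen _ O.1) (fun O => O.2) (fun O => O.2)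
    (fun O => ovOpenι _ O.1 ≫ c₁) (fun O => ?_) ?_
    (fun O => (yon S).map (ovOpenι _ O.1 ≫ d) ≫ p') (fun O => 𝟙 _) (fun O => ?_) ?_
  · show Flat (O.1.ι ≫ c₁.left)
    infer_instance
  · intro x
    obtain ⟨y, rfl⟩ := hc₁s.surj x
    obtain ⟨_, ⟨(O : (hrep'.pullback b).left.Opens), hO, rfl⟩, hyO, -⟩ :=
      ((hrep'.pullback b).left.isBasis_affineOpens).exists_subset_of_mem_open
        (Set.mem_univ y) isOpen_univ
    exact ⟨⟨O, hO⟩, ⟨y, hyO⟩, rfl⟩
  · rw [(yon S).map_id, Category.id_comp, Functor.map_comp, Functor.map_comp, Category.assoc,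
      Category.assoc, sq₁.w]
  · intro O WE fstE cE sqE
    have hw : fstE ≫ i = ((yon S).map cE ≫ (yon S).map (ovOpenι _ O.1 ≫ d)) ≫ p' := by
      rw [Category.assoc]; exact sqE.w
    have hl1 : sqV.lift fstE ((yon S).map cE ≫ (yon S).map (ovOpenι _ O.1 ≫ d)) hw ≫ v = fstE :=
      sqV.lift_fst _ _ _
    have hl2 : sqV.lift fstE ((yon S).map cE ≫ (yon S).map (ovOpenι _ O.1 ≫ d)) hw ≫
        (yon S).map jV = (yon S).map cE ≫ (yon S).map (ovOpenι _ O.1 ≫ d) := sqV.lift_snd _ _ _
    have sqL : IsPullback (sqV.lift fstE ((yon S).map cE ≫ (yon S).map (ovOpenι _ O.1 ≫ d)) hw)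
        ((yon S).map cE) ((yon S).map jV) ((yon S).map (ovOpenι _ O.1 ≫ d)) :=
      IsPullback.of_right (by rw [hl1]; exact sqE) hl2 sqV
    exact Thick.sqZero_of_isFOThickMor (IsAlgSpace.yon_obj V') ((yon S).map jV) hFO
      (show IsAffine (ovOpen _ O.1).left from O.2)
      ((yon S).map (ovOpenι _ O.1 ≫ d)) _ cE sqL

end Groth.Agent.Helper15.UThick
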