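import Mathlib
import Groth.Prelude
import Groth.Agent.Lib.Helper15.UThick9
import Groth.Agent.Lib.Helper15.AlgSpFibre
import Groth.Agent.S9868
import Groth.Agent.S10633

set_option autoImplicit false
set_option linter.unusedSectionVars false
universe u
open CategoryTheory CategoryTheory.Limits AlgebraicGeometry MorphismProperty Opposite

namespace Groth.Agent.Helper15.UThick

open AlgSp Groth.Agent.Helper15 Groth.Agent.Helper16.AS

variable {S : Scheme.{u}}

/-- The universal first order thickening, built from a chart whose universal thickening is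
known. -/
theorem exists_univ_of_charts {Z X : Sp S} (hZ : IsAlgSpace Z) (hX : IsAlgSpace X) (h : Z ⟶ X)
    {V V' : Over S} (v : (yon S).obj V ⟶ Z) (hve : RepWith @Etale v)
    (hvs : RepWith @Surjective v) (jV : V ⟶ V') (xV' : (yon S).obj V' ⟶ X)
    (HV : IsUnivFOThick ((yon S).map jV ≫ xV') ((yon S).map jV) xV')
    (hxV : (yon S).map jV ≫ xV' = v ≫ h) :
    ∃ (Z' : Sp S) (_ : IsAlgSpace Z') (i : Z ⟶ Z') (h' : Z' ⟶ X), IsUnivFOThick h i h' := by
  have hrep := hve.rep
  obtain ⟨t, ht⟩ : ∃ t, t = hrep.fst' v := ⟨_, rfl⟩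
  obtain ⟨s, hs⟩ : ∃ s, s = hrep.snd v := ⟨_, rfl⟩
  have sqR : IsPullback ((yon S).map t) ((yon S).map s) v v := by
    rw [ht, hs]; exact hrep.isPullback' v
  have hse : Etale s.left := hve.property _ _ _ sqR
  have hte : Etale t.left := hve.property _ _ _ sqR.flip
  have hss : Surjective s.left := hvs.property _ _ _ sqR
  have hrel : ∀ (T : Over S) (a b : T ⟶ V),
      (∃ r : T ⟶ hrep.pullback v, r ≫ t = a ∧ r ≫ s = b) ↔
        (yon S).map a ≫ v = (yon S).map b ≫ v := by
    intro T a b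
    constructor
    · rintro ⟨r, rfl, rfl⟩
      rw [Functor.map_comp, Functor.map_comp, Category.assoc, Category.assoc, sqR.w]
    · intro hab
      obtain ⟨r, hr⟩ := (yon S).map_surjective (sqR.lift _ _ hab)
      refine ⟨r, (yon S).map_injective ?_, (yon S).map_injective ?_⟩
      · rw [Functor.map_comp, hr, sqR.lift_fst]
      · rw [Functor.map_comp, hr, sqR.lift_snd]
  have eqv : IsEtaleEqvRel s t := by
    refine ⟨⟨?_, fun T => ⟨?_, ?_, ?_⟩⟩, hse, hte⟩
    · intro T r r' h1 h2
      apply (yon S).map_injective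
      apply sqR.hom_ext
      · rw [← Functor.map_comp, ← Functor.map_comp, h1]
      · rw [← Functor.map_comp, ← Functor.map_comp, h2]
    · intro a
      exact (hrel T a a).2 rfl
    · intro a b hab
      exact (hrel T b a).2 ((hrel T a b).1 hab).symm
    · intro a b c hab hbc
      exact (hrel T a c).2 (((hrel T a b).1 hab).trans ((hrel T b c).1 hbc))
  have hst : (yon S).map s ≫ (yon S).map jV ≫ xV' = (yon S).map t ≫ (yon S).map jV ≫ xV' := by
    rw [hxV, ← Category.assoc, ← Category.assoc, sqR.w]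
  have hjVth : thick jV.left := (isThickMor_yon_map_iff jV).1 HV.1.1
  obtain ⟨R', s', jR, hs'e, -, sqs⟩ := exists_etale_lift_over jV hjVth s hse hss
  obtain ⟨t', G⟩ := exists_gdata HV eqv hst hs'e sqs
  have hE' := G.isEtaleEqvRel
  have hZ' : IsAlgSpace (QuotSh.quot Scheme.fppfPrecoverage s' t') :=
    Groth.Agent.S9868.result S s' t' hE'
  have pres := isPresentation_quotShπ s' t' hE' hZ'
  obtain ⟨p', hp'⟩ : ∃ p', p' = quotShπ s' t' := ⟨_, rfl⟩
  rw [← hp'] at pres
  have hcond : (yon S).map s' ≫ p' = (yon S).map t' ≫ p' := by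
    rw [hp']; exact quotShπ_condition s' t'
  haveI : Sheaf.IsLocallySurjective v := isLocallySurjective_of_etale_surjective v hve hvs
  haveI : Epi v := (Sheaf.isLocallySurjective_iff_epi v).1 inferInstance
  obtain ⟨i, hi⟩ := exists_desc_of_isLocallySurjective v ((yon S).map jV ≫ p') (by
    intro T a b hab
    obtain ⟨a₀, rfl⟩ := (yon S).map_surjective a
    obtain ⟨b₀, rfl⟩ := (yon S).map_surjective b
    obtain ⟨r, rfl, rfl⟩ := (hrel T a₀ b₀).2 hab
    have e1 : (r ≫ t) ≫ jV = (r ≫ jR) ≫ t' := by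
      rw [Category.assoc, ← G.sqt.w, Category.assoc]
    have e2 : (r ≫ s) ≫ jV = (r ≫ jR) ≫ s' := by
      rw [Category.assoc, ← G.sqs.w, Category.assoc]
    rw [yx_comp, yx_comp, e1, e2, ← yx_comp _ t', ← yx_comp _ s', hcond])
  obtain ⟨h', hh'⟩ := exists_quotSh_desc s' t' xV' G.hx.symm
  rw [← hp'] at hh'
  have hih' : i ≫ h' = h := by
    rw [← cancel_epi v, ← Category.assoc, hi, Category.assoc, hh', hxV]
  have sqV := isPullback_quot_chart v hve hvs sqR G.mono_jV G.sqs G.sqt p' pres.isPullback i hi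
  have hiFO := isFOThickMor_of_chart i p' pres.etale pres.surjective v jV sqV HV.1
  have hvM : IsEtaleMor v := fun U φ hφ => (RepWith @Etale).comp_mem _ _ hφ hve
  have hp'M : IsEtaleMor p' := fun U φ hφ => (RepWith @Etale).comp_mem _ _ hφ pres.etale
  have HU : IsUnivFOThick (v ≫ h) ((yon S).map jV) (p' ≫ h') := by
    rw [hh', ← hxV]; exact HV
  have key := Groth.Agent.S10633.result
    (Z := ⟨(yon S).obj V, IsAlgSpace.yon_obj V⟩) (Y := ⟨Z, hZ⟩)
    (Z' := ⟨(yon S).obj V', IsAlgSpace.yon_obj V'⟩) (Y' := ⟨_, hZ'⟩) (X := ⟨X, hX⟩)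
    (ObjectProperty.homMk v) hvM (isSurjectiveMor_of_repWith_surjective v hvs)
    (ObjectProperty.homMk h) (ObjectProperty.homMk ((yon S).map jV)) (ObjectProperty.homMk i)
    HV.1 hiFO (ObjectProperty.homMk p') hp'M (ObjectProperty.hom_ext _ hi.symm)
    (ObjectProperty.homMk h') (ObjectProperty.hom_ext _ hih') HU
  exact ⟨_, hZ', i, h', key⟩

/-- **Existence of the universal first order thickening** of a formally unramified morphism of
algebraic spaces. -/
theorem exists_isUnivFOThick {Z X : Sp S} (hZ : IsAlgSpace Z) (hX : IsAlgSpace X) (h : Z ⟶ X)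
    (hh : IsFormallyUnramifiedMor h) :
    ∃ (Z' : Sp S) (_ : IsAlgSpace Z') (i : Z ⟶ Z') (h' : Z' ⟶ X), IsUnivFOThick h i h' := by
  obtain ⟨U, u, hue, hus⟩ := hX.atlas
  obtain ⟨V, v, ψ, hve, hvs, w⟩ := exists_chart_lift hZ h u hue hus
  have hψ : FormallyUnramified ψ.left := by
    apply formallyUnramified_of_isFormallyUnramifiedMor_yon_map
    apply isFormallyUnramifiedMor_of_comp_right (b := u)
    rw [← w]
    exact isFormallyUnramifiedMor_comp (isFormallyUnramifiedMor_of_repWith_etale hve) hh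
  obtain ⟨V', jV, pV', HV₀⟩ := exists_univ_scheme ψ hψ
  have huf : IsFormallyEtaleMor u := isFormallyEtaleMor_of_repWith hue
  have HV := isUnivFOThick_comp_formallyEtale HV₀ huf
  have e : (yon S).map ψ = (yon S).map jV ≫ (yon S).map pV' := HV₀.2.1.symm
  have HV' : IsUnivFOThick ((yon S).map jV ≫ (yon S).map pV' ≫ u) ((yon S).map jV)
      ((yon S).map pV' ≫ u) := by
    rw [← Category.assoc, ← e]; exact HV
  exact exists_univ_of_charts hZ hX h v hve hvs jV _ HV' (by rw [← Category.assoc, ← e, w])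

end Groth.Agent.Helper15.UThick
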