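import Mathlib
import Groth.Prelude
import Groth.Agent.Lib.Helper15.UThick10
import Groth.Agent.Lib.Helper15.FSm3
import Groth.Agent.Lib.Helper15.FSm2

set_option autoImplicit false
set_option linter.unusedSectionVars false
universe u
open CategoryTheory CategoryTheory.Limits AlgebraicGeometry MorphismProperty Opposite

namespace Groth.Agent.Helper15.FSp

open AlgSp Groth.Agent.Helper15 Groth.Agent.Helper16.AS Groth.Agent.Helper15.UThick

variable {S : Scheme.{u}}

/-- `Spec` of a surjection with square zero kernel, over `S`, is a first order thickening of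
sheaves. -/
theorem isFOThickMor_specMap {R' R : Type u} [CommRing R'] [CommRing R] (ψ : R' →+* R)
    (hψ : Function.Surjective ψ) (hker : RingHom.ker ψ ^ 2 = ⊥) (s' : Spec (.of R') ⟶ S) :
    IsFOThickMor ((yon S).map (Over.homMk (Spec.map (CommRingCat.ofHom ψ)) rfl :
      Over.mk (Spec.map (CommRingCat.ofHom ψ) ≫ s') ⟶ Over.mk s')) :=
  isFOThickMor_yon_map_of_fo _
    (Groth.Agent.Helper15.FSm.isFirstOrderThickening_specMap (CommRingCat.ofHom ψ) hψ hker)

/-- Lifting along a first order thickening of schemes with affine target, for a formally smooth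
map of sheaves. -/
theorem exists_lift_of_isFormallySmoothMor {F G : Sp S} {f : F ⟶ G} (hf : IsFormallySmoothMor f)
    {T T' : Over S} (j : T ⟶ T') (hj : IsFOThickMor ((yon S).map j)) (hT' : IsAffine T'.left)
    (a : (yon S).obj T ⟶ F) (b : (yon S).obj T' ⟶ G) (w : a ≫ f = (yon S).map j ≫ b) :
    ∃ l : (yon S).obj T' ⟶ F, (yon S).map j ≫ l = a ∧ l ≫ f = b := by
  haveI := hT'
  obtain ⟨ε, hε⟩ : ∃ ε : Over.mk (T'.left.isoSpec.inv ≫ T'.hom) ⟶ T',
      ε.left = T'.left.isoSpec.inv := ⟨Over.homMk _ rfl, rfl⟩
  haveI hεl : IsIso ε.left := by rw [hε]; infer_instance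
  haveI hεiso : IsIso ε := by
    have : IsIso ((Over.forget S).map ε) := hεl
    exact isIso_of_reflects_iso ε (Over.forget S)
  have hce : RepWith @Etale ((yon S).map ε) := (repWith_yon_map_iff _ _).2 inferInstance
  obtain ⟨m, hm1, hm2⟩ := exists_isLocalLift_affine hj hf w Γ(T'.left, ⊤)
    (T'.left.isoSpec.inv ≫ T'.hom) ((yon S).map ε) hce
  have pb : IsPullback (𝟙 ((yon S).obj T)) ((yon S).map (j ≫ inv ε)) ((yon S).map j)
      ((yon S).map ε) :=
    IsPullback.of_horiz_isIso ⟨by
      rw [Category.id_comp, ← Functor.map_comp, Category.assoc, IsIso.inv_hom_id,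
        Category.comp_id]⟩
  refine ⟨(yon S).map (inv ε) ≫ m, ?_, ?_⟩
  · rw [← Category.assoc, ← Functor.map_comp, hm1 _ _ pb, Category.id_comp]
  · rw [Category.assoc, hm2, ← Category.assoc, ← Functor.map_comp, IsIso.inv_hom_id,
      (yon S).map_id, Category.id_comp]

/-- The sheaf-level and scheme-level notions of formal smoothness agree for morphisms of
schemes. -/
theorem isFormallySmoothMor_yon_map_iff {U V : Over S} (h : U ⟶ V) :
    IsFormallySmoothMor ((yon S).map h) ↔ MoreMor.IsFormallySmoothHom h.left := by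
  constructor
  · intro hh A _ I hI a0 b0 w
    have hw : a0 ≫ U.hom = Spec.map (CommRingCat.ofHom (Ideal.Quotient.mk I)) ≫ b0 ≫ V.hom := by
      rw [← Over.w h, ← Category.assoc, ← w, Category.assoc]
    let sq : InfSq ((yon S).map h) :=
      { A := A, I := I, sq_zero := hI, str := b0 ≫ V.hom
        top := (yon S).map (Over.homMk a0 hw)
        bot := (yon S).map (Over.homMk b0 rfl)
        comm := by
          rw [← Functor.map_comp, ← Functor.map_comp]
          congr 1
          apply Over.OverMorphism.ext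
          exact w.symm }
    obtain ⟨l, hl1, hl2⟩ := hh sq
    obtain ⟨L, rfl⟩ := (yon S).map_surjective l
    rw [← Functor.map_comp] at hl1 hl2
    have hL1 := congrArg CommaMorphism.left ((yon S).map_injective hl1)
    have hL2 := congrArg CommaMorphism.left ((yon S).map_injective hl2)
    exact ⟨L.left, hL1, hL2⟩
  · intro hh sq
    obtain ⟨t, ht⟩ := (yon S).map_surjective sq.top
    obtain ⟨bb, hbb⟩ := (yon S).map_surjective sq.bot
    have hcomm : t ≫ h = sq.j ≫ bb := by
      apply (yon S).map_injective
      rw [Functor.map_comp, Functor.map_comp, ht, hbb]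
      exact sq.comm
    have hcomm' : Spec.map (CommRingCat.ofHom (Ideal.Quotient.mk sq.I)) ≫ bb.left =
        t.left ≫ h.left := (congrArg CommaMorphism.left hcomm).symm
    obtain ⟨l0, h1, h2⟩ := hh sq.A sq.I sq.sq_zero t.left bb.left hcomm'
    have hl0w : l0 ≫ U.hom = sq.ptT'.hom := by
      rw [← Over.w h, ← Category.assoc, h2]
      exact Over.w bb
    let L : sq.ptT' ⟶ U := Over.homMk l0 hl0w
    refine ⟨(yon S).map L, ?_, ?_⟩
    · rw [← ht, ← Functor.map_comp]; congr 1
      apply Over.OverMorphism.ext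
      exact h1
    · rw [← hbb, ← Functor.map_comp]; congr 1
      apply Over.OverMorphism.ext
      exact h2

end Groth.Agent.Helper15.FSp
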