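import Mathlib
import Groth.Prelude
import Groth.Agent.Lib.Helper15.FSp1
import Groth.Agent.Lib.Helper15.AlgSpCD

set_option autoImplicit false
set_option linter.unusedSectionVars false
universe u
open CategoryTheory CategoryTheory.Limits AlgebraicGeometry MorphismProperty Opposite

namespace Groth.Agent.Helper15.FSp

open AlgSp Groth.Agent.Helper15 Groth.Agent.Helper16.AS Groth.Agent.Helper15.UThick

variable {S : Scheme.{u}}

/-- An affine fppf cover of the big affine scheme of a thickening over whose restriction to the
small scheme a given map lifts to an étale chart. -/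
theorem exists_affine_cover_lift {X : Sp S} {U : Over S} (a : (yon S).obj U ⟶ X)
    (hae : RepWith @Etale a) (has : RepWith @Surjective a) {T T' : Over S} (j : T ⟶ T')
    (hj : thick j.left) (hT' : IsAffine T'.left) (top : (yon S).obj T ⟶ X) :
    ∃ (T'' T₀'' : Over S) (c : T'' ⟶ T') (j'' : T₀'' ⟶ T'') (c₀ : T₀'' ⟶ T) (u : T₀'' ⟶ U),
      IsAffine T''.left ∧ Flat c.left ∧ LocallyOfFinitePresentation c.left ∧
      Surjective c.left ∧ IsPullback j'' c₀ c j ∧
      (yon S).map u ≫ a = (yon S).map c₀ ≫ top := by
  haveI := hT'
  have hrep := hae.rep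
  have sq₁ : IsPullback ((yon S).map (hrep.fst' top)) ((yon S).map (hrep.snd top)) a top :=
    hrep.isPullback' top
  have hye : Etale (hrep.snd top).left := hae.property_snd top
  have hys : Surjective (hrep.snd top).left := has.property _ _ _ (hrep.isPullback top)
  obtain ⟨T₁', y', jW, hy'e, hy's, pb⟩ := exists_etale_lift_over j hj (hrep.snd top) hye hys
  haveI := hy'e
  obtain ⟨T'', d, hT'', hd1, hd2, hd3⟩ := exists_affine_refinement y' inferInstance inferInstance
    hy's
  have pb₂ : IsPullback (pullback.fst d jW) (pullback.snd d jW) d jW :=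
    IsPullback.of_hasPullback _ _
  refine ⟨T'', pullback d jW, d ≫ y', pullback.fst d jW, pullback.snd d jW ≫ hrep.snd top,
    pullback.snd d jW ≫ hrep.fst' top, hT'', hd1, hd2, hd3, pb₂.paste_vert pb, ?_⟩
  rw [Functor.map_comp, Functor.map_comp, Category.assoc, Category.assoc, sq₁.w]

end Groth.Agent.Helper15.FSp
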