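import Mathlib
import Groth.Prelude
import Groth.Agent.Lib.Helper15.FSp2
import Groth.Agent.Lib.Helper15.AffDesc3
import Groth.Agent.Lib.Helper6.ThickAffB

set_option autoImplicit false
set_option linter.unusedSectionVars false
universe u
open CategoryTheory CategoryTheory.Limits AlgebraicGeometry MorphismProperty Opposite

namespace Groth.Agent.Helper15.FSp

open AlgSp Groth.Agent.Helper15 Groth.Agent.Helper16.AS Groth.Agent.Helper15.UThick

variable {S : Scheme.{u}}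

/-- The universal first order thickening of the graph of a lifting problem is an affine
scheme. -/
theorem exists_affine_univ {X Y : Sp S} (hX : IsAlgSpace X) (hY : IsAlgSpace Y) (f : X ⟶ Y)
    {U : Over S} (a : (yon S).obj U ⟶ X) (hae : RepWith @Etale a)
    {T T' : Over S} (j : T ⟶ T') (hjFO : IsFOThickMor ((yon S).map j)) (hT' : IsAffine T'.left)
    (top : (yon S).obj T ⟶ X) (bot : (yon S).obj T' ⟶ Y) (comm : top ≫ f = (yon S).map j ≫ bot)
    {T'' T₀'' : Over S} (c : T'' ⟶ T') (j'' : T₀'' ⟶ T'') (c₀ : T₀'' ⟶ T) (u : T₀'' ⟶ U)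
    (hT'' : IsAffine T''.left) (hc1 : Flat c.left) (hc2 : LocallyOfFinitePresentation c.left)
    (hc3 : Surjective c.left) (pb : IsPullback j'' c₀ c j)
    (hu : (yon S).map u ≫ a = (yon S).map c₀ ≫ top) :
    ∃ (W : Over S) (iW : T ⟶ W) (pW : W ⟶ T') (xW : (yon S).obj W ⟶ X),
      IsAffine W.left ∧ IsFOThickMor ((yon S).map iW) ∧ iW ≫ pW = j ∧
      (yon S).map iW ≫ xW = top ∧ xW ≫ f = (yon S).map pW ≫ bot ∧
      ∀ (E₀ E : Over S) (k : E₀ ⟶ E), IsFOThickMor ((yon S).map k) →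
        ∀ (t₀ : E₀ ⟶ T) (x : (yon S).obj E ⟶ X) (q : E ⟶ T'),
          (yon S).map k ≫ x = (yon S).map t₀ ≫ top → k ≫ q = t₀ ≫ j →
          x ≫ f = (yon S).map q ≫ bot →
          ∃! r : E ⟶ W, k ≫ r = t₀ ≫ iW ∧ (yon S).map r ≫ xW = x ∧ r ≫ pW = q := by
  haveI := hT'
  haveI := hT''
  -- 1. the fibre product
  obtain ⟨pX, hpX⟩ : ∃ pX : pullback f bot ⟶ X, pX = pullback.fst f bot := ⟨_, rfl⟩
  obtain ⟨pT, hpT⟩ : ∃ pT : pullback f bot ⟶ (yon S).obj T', pT = pullback.snd f bot :=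
    ⟨_, rfl⟩
  have sqP : IsPullback pX pT f bot := by
    rw [hpX, hpT]; exact IsPullback.of_hasPullback f bot
  have hP : IsAlgSpace (pullback f bot) :=
    isAlgSpace_of_isPullback hY.diag hX (IsAlgSpace.yon_obj T') sqP
  -- 2. the graph
  obtain ⟨g, hg1, hg2⟩ : ∃ g : (yon S).obj T ⟶ pullback f bot,
      g ≫ pX = top ∧ g ≫ pT = (yon S).map j :=
    ⟨sqP.lift top ((yon S).map j) comm, sqP.lift_fst _ _ _, sqP.lift_snd _ _ _⟩
  have hjth : thick j.left := (isThickMor_yon_map_iff j).1 hjFO.1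
  haveI : IsClosedImmersion j.left := hjth.1
  have hgu : IsFormallyUnramifiedMor g := by
    apply isFormallyUnramifiedMor_of_comp_right (b := pT)
    rw [hg2]
    exact isFormallyUnramifiedMor_yon_map j inferInstance
  -- 4. the universal thickening
  obtain ⟨Z', hZ', i, h', HZ⟩ := exists_isUnivFOThick (IsAlgSpace.yon_obj T) hP g hgu
  have hih' : i ≫ h' = g := HZ.2.1
  obtain ⟨πZ, hπZ⟩ : ∃ πZ : Z' ⟶ (yon S).obj T', πZ = h' ≫ pT := ⟨_, rfl⟩
  have hiπ : i ≫ πZ = (yon S).map j := by rw [hπZ, ← Category.assoc, hih', hg2]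
  -- 6. base change to the cover
  obtain ⟨P'', fP, sP, sqP''⟩ : ∃ (P'' : Sp S) (fP : P'' ⟶ pullback f bot)
      (sP : P'' ⟶ (yon S).obj T''), IsPullback fP sP pT ((yon S).map c) :=
    ⟨_, _, _, IsPullback.of_hasPullback _ _⟩
  obtain ⟨Z'', fZ, sZ, sqZ''⟩ : ∃ (Z'' : Sp S) (fZ : Z'' ⟶ Z') (sZ : Z'' ⟶ (yon S).obj T''),
      IsPullback fZ sZ πZ ((yon S).map c) := ⟨_, _, _, IsPullback.of_hasPullback _ _⟩
  have hZ'' : IsAlgSpace Z'' :=
    isAlgSpace_of_isPullback (IsAlgSpace.yon_obj T').diag hZ' (IsAlgSpace.yon_obj T'') sqZ''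
  have hg''c : ((yon S).map c₀ ≫ g) ≫ pT = (yon S).map j'' ≫ (yon S).map c := by
    rw [Category.assoc, hg2, ← Functor.map_comp, ← Functor.map_comp, pb.w]
  obtain ⟨g'', hg''1, hg''2⟩ : ∃ g'' : (yon S).obj T₀'' ⟶ P'',
      g'' ≫ fP = (yon S).map c₀ ≫ g ∧ g'' ≫ sP = (yon S).map j'' :=
    ⟨sqP''.lift _ _ hg''c, sqP''.lift_fst _ _ _, sqP''.lift_snd _ _ _⟩
  have sq1 : IsPullback g'' ((yon S).map c₀) fP g := by
    refine IsPullback.of_right ?_ hg''1 sqP''.flip
    rw [hg''2, hg2]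
    exact pb.map (yon S)
  have hpbc : (fZ ≫ h') ≫ pT = sZ ≫ (yon S).map c := by
    rw [Category.assoc, ← hπZ]; exact sqZ''.w
  obtain ⟨qZ, hqZ1, hqZ2⟩ : ∃ qZ : Z'' ⟶ P'', qZ ≫ fP = fZ ≫ h' ∧ qZ ≫ sP = sZ :=
    ⟨sqP''.lift _ _ hpbc, sqP''.lift_fst _ _ _, sqP''.lift_snd _ _ _⟩
  have sq2 : IsPullback qZ fZ fP h' := by
    refine IsPullback.of_right ?_ hqZ1 sqP''.flip
    rw [hqZ2, ← hπZ]
    exact sqZ''.flip
  have hic : ((yon S).map c₀ ≫ i) ≫ πZ = (yon S).map j'' ≫ (yon S).map c := by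
    rw [Category.assoc, hiπ, ← Functor.map_comp, ← Functor.map_comp, pb.w]
  obtain ⟨i'', hi''1, hi''2⟩ : ∃ i'' : (yon S).obj T₀'' ⟶ Z'',
      i'' ≫ fZ = (yon S).map c₀ ≫ i ∧ i'' ≫ sZ = (yon S).map j'' :=
    ⟨sqZ''.lift _ _ hic, sqZ''.lift_fst _ _ _, sqZ''.lift_snd _ _ _⟩
  have hw1 : i'' ≫ qZ = g'' := by
    apply sqP''.hom_ext
    · rw [Category.assoc, hqZ1, ← Category.assoc, hi''1, Category.assoc, hih', hg''1]
    · rw [Category.assoc, hqZ2, hi''2, hg''2]
  have HZ'' : IsUnivFOThick g'' i'' qZ :=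
    Thick.isUnivFOThick_baseChange hZ' g'' ((yon S).map c₀) fP g sq1 i h' HZ qZ fZ sq2 i'' hw1
      hi''1
  -- 8. the scheme side
  have hrU := hY.representable_from_yon (a ≫ f)
  obtain ⟨qU, hqU⟩ : ∃ qU, qU = hrU.fst' ((yon S).map c ≫ bot) := ⟨_, rfl⟩
  obtain ⟨qT, hqT⟩ : ∃ qT, qT = hrU.snd ((yon S).map c ≫ bot) := ⟨_, rfl⟩
  have sqU : IsPullback ((yon S).map qU) ((yon S).map qT) (a ≫ f) ((yon S).map c ≫ bot) := by
    rw [hqU, hqT]; exact hrU.isPullback' _
  have big : IsPullback (fP ≫ pX) sP f ((yon S).map c ≫ bot) := sqP''.paste_horiz sqP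
  have heUc : ((yon S).map qU ≫ a) ≫ f = (yon S).map qT ≫ ((yon S).map c ≫ bot) := by
    rw [Category.assoc]; exact sqU.w
  obtain ⟨eU, heU1, heU2⟩ : ∃ eU : (yon S).obj (hrU.pullback ((yon S).map c ≫ bot)) ⟶ P'',
      eU ≫ (fP ≫ pX) = (yon S).map qU ≫ a ∧ eU ≫ sP = (yon S).map qT :=
    ⟨big.lift _ _ heUc, big.lift_fst _ _ _, big.lift_snd _ _ _⟩
  have sqE : IsPullback ((yon S).map qU) eU a (fP ≫ pX) := by
    refine IsPullback.of_bot ?_ heU1.symm big
    rw [heU2]; exact sqU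
  have heUe : RepWith @Etale eU := (RepWith @Etale).of_isPullback sqE hae
  have heUf : IsFormallyEtaleMor eU := isFormallyEtaleMor_of_repWith heUe
  have hgUc : (yon S).map u ≫ (a ≫ f) = (yon S).map j'' ≫ ((yon S).map c ≫ bot) :=
    calc (yon S).map u ≫ (a ≫ f) = ((yon S).map u ≫ a) ≫ f := (Category.assoc _ _ _).symm
      _ = ((yon S).map c₀ ≫ top) ≫ f := by rw [hu]
      _ = (yon S).map c₀ ≫ (yon S).map j ≫ bot := by rw [Category.assoc, comm]
      _ = (yon S).map (c₀ ≫ j) ≫ bot := by rw [Functor.map_comp, Category.assoc]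
      _ = (yon S).map (j'' ≫ c) ≫ bot := by rw [pb.w]
      _ = _ := by rw [Functor.map_comp, Category.assoc]
  obtain ⟨gU, hgU⟩ := (yon S).map_surjective (sqU.lift _ _ hgUc)
  have hgU1 : gU ≫ qU = u := (yon S).map_injective (by
    rw [Functor.map_comp, hgU, sqU.lift_fst])
  have hgU2 : gU ≫ qT = j'' := (yon S).map_injective (by
    rw [Functor.map_comp, hgU, sqU.lift_snd])
  have hj''th : thick j''.left :=
    MorphismProperty.of_isPullback (P := thick) (pb.flip.map (Over.forget S)) hjth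
  haveI : IsClosedImmersion j''.left := hj''th.1
  have hgUu : FormallyUnramified gU.left := by
    haveI : FormallyUnramified (gU.left ≫ qT.left) := by
      rw [← Over.comp_left, hgU2]; infer_instance
    exact FormallyUnramified.of_comp gU.left qT.left
  obtain ⟨W'', jW'', pW'', H''⟩ := exists_univ_scheme gU hgUu
  have H''e := isUnivFOThick_comp_formallyEtale H'' heUf
  have hgg : (yon S).map gU ≫ eU = g'' := by
    apply big.hom_ext
    · calc ((yon S).map gU ≫ eU) ≫ fP ≫ pX = (yon S).map gU ≫ (eU ≫ fP ≫ pX) :=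
            Category.assoc _ _ _
        _ = (yon S).map gU ≫ (yon S).map qU ≫ a := by rw [heU1]
        _ = (yon S).map (gU ≫ qU) ≫ a := by rw [Functor.map_comp, Category.assoc]
        _ = (yon S).map c₀ ≫ top := by rw [hgU1, hu]
        _ = ((yon S).map c₀ ≫ g) ≫ pX := by rw [Category.assoc, hg1]
        _ = (g'' ≫ fP) ≫ pX := by rw [hg''1]
        _ = g'' ≫ fP ≫ pX := Category.assoc _ _ _
    · rw [Category.assoc, heU2, ← Functor.map_comp, hgU2, hg''2]
  have H''e' : IsUnivFOThick g'' ((yon S).map jW'') ((yon S).map pW'' ≫ eU) := by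
    rw [← hgg]; exact H''e
  obtain ⟨θ, hθ1, hθ2⟩ := exists_iso_of_isUnivFOThick (IsAlgSpace.yon_obj T₀'')
    (IsAlgSpace.yon_obj W'') hZ'' H''e' HZ''
  -- 9. affineness upstairs
  haveI : IsAffine T₀''.left := isAffine_of_isAffineHom j''.left
  have hjW''th : thick jW''.left := (isThickMor_yon_map_iff jW'').1 H''.1.1
  haveI : IsClosedImmersion jW''.left := hjW''th.1
  haveI : IsAffine W''.left :=
    Groth.Agent.Helper6.ThickAff.isAffine_of_isClosedImmersion_of_surjective jW''.left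
      hjW''th.2.surj
  -- 10. descent of affineness
  have hθs : θ.hom ≫ sZ = (yon S).map (pW'' ≫ qT) := by
    rw [← hqZ2, ← Category.assoc, hθ2, Category.assoc, heU2, Functor.map_comp]
  have sqD : IsPullback (θ.hom ≫ fZ) ((yon S).map (pW'' ≫ qT)) πZ ((yon S).map c) := by
    rw [← hθs]
    exact IsPullback.of_iso sqZ'' θ.symm (Iso.refl _) (Iso.refl _) (Iso.refl _) (by simp)
      (by simp) (by simp) (by simp)
  obtain ⟨W, jT, e, w, hWa, he1, -, -⟩ :=
    Groth.Agent.Helper15.AffDesc.exists_affine_rep_of_affine_cover πZ c hc1 hc2 hc3 (pW'' ≫ qT)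
      (θ.hom ≫ fZ) sqD
  -- 11. conclusion
  obtain ⟨iW, hiW⟩ := (yon S).map_surjective (i ≫ e.inv)
  obtain ⟨xW, hxW⟩ : ∃ xW : (yon S).obj W ⟶ X, xW = e.hom ≫ h' ≫ pX := ⟨_, rfl⟩
  refine ⟨W, iW, jT, xW, hWa, ?_, ?_, ?_, ?_, ?_⟩
  · rw [hiW]
    refine Thick.isFOThickMor_of_isPullback hZ' (p := 𝟙 _) (p' := e.hom) ?_ HZ.1
    exact IsPullback.of_horiz_isIso ⟨by rw [Category.id_comp, Category.assoc, e.inv_hom_id,
      Category.comp_id]⟩
  · apply (yon S).map_injective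
    rw [Functor.map_comp, hiW, ← he1, Category.assoc, e.inv_hom_id_assoc, hiπ]
  · rw [hiW, hxW, Category.assoc, e.inv_hom_id_assoc, ← Category.assoc, hih', hg1]
  · rw [hxW, Category.assoc, Category.assoc, sqP.w, ← he1, hπZ]
    simp only [Category.assoc]
  · intro E₀ E k hk t₀ x q h1 h2 h3
    obtain ⟨b, hb1, hb2⟩ : ∃ b : (yon S).obj E ⟶ pullback f bot,
        b ≫ pX = x ∧ b ≫ pT = (yon S).map q :=
      ⟨sqP.lift _ _ h3, sqP.lift_fst _ _ _, sqP.lift_snd _ _ _⟩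
    have hcompat : (yon S).map k ≫ b = (yon S).map t₀ ≫ g := by
      apply sqP.hom_ext
      · rw [Category.assoc, hb1, Category.assoc, hg1, h1]
      · rw [Category.assoc, hb2, Category.assoc, hg2, ← Functor.map_comp, ← Functor.map_comp, h2]
    obtain ⟨a', ⟨ha'1, ha'2⟩, ha'u⟩ := HZ.2.2 (IsAlgSpace.yon_obj E₀) (IsAlgSpace.yon_obj E)
      ((yon S).map k) ((yon S).map t₀) b hk hcompat
    obtain ⟨r, hr⟩ := (yon S).map_surjective (a' ≫ e.inv)
    refine ⟨r, ⟨?_, ?_, ?_⟩, ?_⟩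
    · apply (yon S).map_injective
      rw [Functor.map_comp, Functor.map_comp, hr, hiW, ← Category.assoc, ha'1, Category.assoc]
    · rw [hr, hxW, Category.assoc, e.inv_hom_id_assoc, ← Category.assoc, ha'2, hb1]
    · apply (yon S).map_injective
      rw [Functor.map_comp, hr, ← he1, Category.assoc, e.inv_hom_id_assoc, hπZ, ← Category.assoc,
        ha'2, hb2]
    · rintro r' ⟨hr'1, hr'2, hr'3⟩
      apply (yon S).map_injective
      rw [hr]
      have : (yon S).map r' ≫ e.hom = a' := by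
        apply ha'u
        refine ⟨?_, ?_⟩
        · rw [← Category.assoc, ← Functor.map_comp, hr'1, Functor.map_comp, hiW, Category.assoc,
            Category.assoc, e.inv_hom_id, Category.comp_id]
        · apply sqP.hom_ext
          · rw [Category.assoc, Category.assoc, hb1, ← hr'2, hxW]
          · rw [Category.assoc, Category.assoc, hb2, ← hπZ, he1, ← Functor.map_comp, hr'3]
      rw [← this, Category.assoc, e.hom_inv_id, Category.comp_id]

end Groth.Agent.Helper15.FSp
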