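import Mathlib
import Groth.Prelude
import Groth.Agent.Lib.Helper15.FSp3

set_option autoImplicit false
set_option linter.unusedSectionVars false
universe u
open CategoryTheory CategoryTheory.Limits AlgebraicGeometry MorphismProperty Opposite

namespace Groth.Agent.Helper15.FSp

open AlgSp Groth.Agent.Helper15 Groth.Agent.Helper16.AS Groth.Agent.Helper15.UThick

variable {S : Scheme.{u}}

/-- The geometric lifting property of the universal thickening over the cover. -/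
theorem exists_lift_to_univ {X Y : Sp S} (f : X ⟶ Y)
    {U : Over S} (a : (yon S).obj U ⟶ X) (hae : RepWith @Etale a)
    (hUf : IsFormallySmoothMor (a ≫ f))
    {T T' : Over S} (j : T ⟶ T')
    (top : (yon S).obj T ⟶ X) (bot : (yon S).obj T' ⟶ Y)
    {T'' T₀'' : Over S} (c : T'' ⟶ T') (j'' : T₀'' ⟶ T'') (c₀ : T₀'' ⟶ T) (u : T₀'' ⟶ U)
    (pb : IsPullback j'' c₀ c j) (hu : (yon S).map u ≫ a = (yon S).map c₀ ≫ top)
    {W : Over S} (iW : T ⟶ W) (pW : W ⟶ T') (xW : (yon S).obj W ⟶ X)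
    (h1 : iW ≫ pW = j) (h2 : (yon S).map iW ≫ xW = top) (h3 : xW ≫ f = (yon S).map pW ≫ bot)
    (UP : ∀ (E₀ E : Over S) (k : E₀ ⟶ E), IsFOThickMor ((yon S).map k) →
        ∀ (t₀ : E₀ ⟶ T) (x : (yon S).obj E ⟶ X) (q : E ⟶ T'),
          (yon S).map k ≫ x = (yon S).map t₀ ≫ top → k ≫ q = t₀ ≫ j →
          x ≫ f = (yon S).map q ≫ bot →
          ∃! r : E ⟶ W, k ≫ r = t₀ ≫ iW ∧ (yon S).map r ≫ xW = x ∧ r ≫ pW = q)
    {E₀ E' E : Over S} (hE : IsAffine E.left) (k₀' : E₀ ⟶ E') (kE : E' ⟶ E)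
    (hk₀' : IsFOThickMor ((yon S).map k₀')) (hkE : IsFOThickMor ((yon S).map kE))
    (hk₀ : IsFOThickMor ((yon S).map (k₀' ≫ kE)))
    (rE : E' ⟶ W) (bE : E ⟶ T'') (t₀ : E₀ ⟶ T)
    (hr : rE ≫ pW = kE ≫ bE ≫ c) (ht : t₀ ≫ iW = k₀' ≫ rE) :
    ∃ r' : E ⟶ W, kE ≫ r' = rE ∧ r' ≫ pW = bE ≫ c := by
  have htj : t₀ ≫ j = k₀' ≫ kE ≫ bE ≫ c := by
    rw [← h1, ← Category.assoc, ht, Category.assoc, hr]
  -- (i) the map to the chart
  have hm₀c : (k₀' ≫ kE ≫ bE) ≫ c = t₀ ≫ j := by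
    rw [htj]; simp only [Category.assoc]
  have hm₀1 : pb.lift (k₀' ≫ kE ≫ bE) t₀ hm₀c ≫ j'' = k₀' ≫ kE ≫ bE := pb.lift_fst _ _ _
  have hm₀2 : pb.lift (k₀' ≫ kE ≫ bE) t₀ hm₀c ≫ c₀ = t₀ := pb.lift_snd _ _ _
  obtain ⟨u₀, hu₀⟩ : ∃ u₀ : E₀ ⟶ U, u₀ = pb.lift (k₀' ≫ kE ≫ bE) t₀ hm₀c ≫ u := ⟨_, rfl⟩
  have hu₀a : (yon S).map u₀ ≫ a = (yon S).map t₀ ≫ top := by
    rw [hu₀, Functor.map_comp, Category.assoc, hu, ← Category.assoc, ← Functor.map_comp, hm₀2]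
  -- (ii) the étale lift
  have hw2 : (yon S).map u₀ ≫ a = (yon S).map k₀' ≫ ((yon S).map rE ≫ xW) := by
    rw [hu₀a, ← Category.assoc, ← Functor.map_comp, ← ht, Functor.map_comp, Category.assoc, h2]
  obtain ⟨ũ, ⟨hũ1, hũ2⟩, -⟩ := existsUnique_lift_of_foThick (IsAlgSpace.yon_obj E') hk₀'
    (isFormallyEtaleMor_of_repWith hae) hw2
  -- (iii) the smooth lift
  have hw3 : ũ ≫ (a ≫ f) = (yon S).map kE ≫ ((yon S).map (bE ≫ c) ≫ bot) := by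
    rw [← Category.assoc, hũ2, Category.assoc, h3, ← Category.assoc, ← Functor.map_comp, hr,
      Functor.map_comp, Category.assoc]
  obtain ⟨l, hl1, hl2⟩ := exists_lift_of_isFormallySmoothMor hUf kE hkE hE ũ
    ((yon S).map (bE ≫ c) ≫ bot) hw3
  -- (iv) the universal property
  have hx1 : (yon S).map (k₀' ≫ kE) ≫ (l ≫ a) = (yon S).map t₀ ≫ top := by
    rw [Functor.map_comp, Category.assoc, ← Category.assoc ((yon S).map kE), hl1, hũ2, ← hw2, hu₀a]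
  have hx2 : (k₀' ≫ kE) ≫ (bE ≫ c) = t₀ ≫ j := by
    rw [htj]; simp only [Category.assoc]
  have hx3 : (l ≫ a) ≫ f = (yon S).map (bE ≫ c) ≫ bot := by
    rw [Category.assoc]; exact hl2
  obtain ⟨r', ⟨hr'1, hr'2, hr'3⟩, -⟩ := UP E₀ E (k₀' ≫ kE) hk₀ t₀ (l ≫ a) (bE ≫ c) hx1 hx2 hx3
  refine ⟨r', ?_, hr'3⟩
  -- (v) uniqueness over `E'`
  have hy1 : (yon S).map k₀' ≫ ((yon S).map kE ≫ l ≫ a) = (yon S).map t₀ ≫ top := by
    rw [← hx1, Functor.map_comp, Category.assoc]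
  have hy2 : k₀' ≫ (kE ≫ bE ≫ c) = t₀ ≫ j := htj.symm
  have hy3 : ((yon S).map kE ≫ l ≫ a) ≫ f = (yon S).map (kE ≫ bE ≫ c) ≫ bot := by
    have e : ((yon S).map kE ≫ l ≫ a) ≫ f = (yon S).map kE ≫ ((l ≫ a) ≫ f) := by
      simp only [Category.assoc]
    rw [e, hx3, ← Category.assoc, ← Functor.map_comp]
  obtain ⟨r₀, -, hr₀u⟩ := UP E₀ E' k₀' hk₀' t₀ ((yon S).map kE ≫ l ≫ a) (kE ≫ bE ≫ c) hy1 hy2 hy3
  have e1 := hr₀u (kE ≫ r') ⟨by rw [← Category.assoc, hr'1], by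
    rw [Functor.map_comp, Category.assoc, hr'2], by rw [Category.assoc, hr'3]⟩
  have e2 := hr₀u rE ⟨ht.symm, by rw [← hũ2, ← hl1, Category.assoc], hr⟩
  rw [e1, e2]

end Groth.Agent.Helper15.FSp
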