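import Mathlib
import Groth.Prelude
import Groth.Agent.Lib.Helper15.FSp4

set_option autoImplicit false
set_option linter.unusedSectionVars false
universe u
open CategoryTheory CategoryTheory.Limits AlgebraicGeometry MorphismProperty Opposite

namespace Groth.Agent.Helper15.FSp

open AlgSp Groth.Agent.Helper15 Groth.Agent.Helper16.AS Groth.Agent.Helper15.UThick Groth.Agent.Helper15.EtLift

/-- Ring-level bookkeeping for a test of the lifting property. -/
theorem exists_psi_tau {A C D D' : Type u} [CommRing A] [CommRing C] [CommRing D] [CommRing D']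
    (I : Ideal A) (φC : A →+* C) (π : C →+* A ⧸ I) (hπ : π.comp φC = Ideal.Quotient.mk I)
    (φ : A →+* D) (κ : D →+* D') (𝔡 : Ideal D) (ρ : C →+* D') (hκ : Function.Surjective κ)
    (h𝔡 : 𝔡 ^ 2 = ⊥) (hker : RingHom.ker κ ≤ 𝔡) (hcomp : ρ.comp φC = κ.comp φ)
    (hρK : ∀ k ∈ RingHom.ker π, ρ k ∈ 𝔡.map κ) :
    ∃ (ψ : D' →+* D ⧸ 𝔡) (τ : A ⧸ I →+* D ⧸ 𝔡), ψ.comp κ = Ideal.Quotient.mk 𝔡 ∧
      Function.Surjective ψ ∧ RingHom.ker ψ ^ 2 = ⊥ ∧ RingHom.ker κ ^ 2 = ⊥ ∧
      τ.comp (Ideal.Quotient.mk I) = (Ideal.Quotient.mk 𝔡).comp φ ∧ τ.comp π = ψ.comp ρ := by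
  have hker' : RingHom.ker κ ≤ RingHom.ker (Ideal.Quotient.mk 𝔡) := by
    rw [Ideal.mk_ker]; exact hker
  obtain ⟨ψ, hψ⟩ : ∃ ψ : D' →+* D ⧸ 𝔡, ψ.comp κ = Ideal.Quotient.mk 𝔡 :=
    ⟨κ.liftOfSurjective hκ ⟨Ideal.Quotient.mk 𝔡, hker'⟩, RingHom.liftOfSurjective_comp κ hκ _⟩
  have hψκ : ∀ d, ψ (κ d) = Ideal.Quotient.mk 𝔡 d := fun d => RingHom.congr_fun hψ d
  have hmapker : 𝔡.map κ ≤ RingHom.ker ψ := by
    rw [Ideal.map_le_iff_le_comap]
    intro d hd
    rw [Ideal.mem_comap, RingHom.mem_ker, hψκ, Ideal.Quotient.eq_zero_iff_mem]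
    exact hd
  have hsq : ∀ d d' : D, d ∈ 𝔡 → d' ∈ 𝔡 → d * d' = 0 := by
    intro d d' hd hd'
    have : d * d' ∈ 𝔡 ^ 2 := by rw [sq]; exact Ideal.mul_mem_mul hd hd'
    rwa [h𝔡, Ideal.mem_bot] at this
  have hkψ : RingHom.ker ψ ^ 2 = ⊥ := by
    rw [eq_bot_iff, sq, Ideal.mul_le]
    intro x hx y hy
    obtain ⟨d, rfl⟩ := hκ x
    obtain ⟨d', rfl⟩ := hκ y
    rw [RingHom.mem_ker, hψκ, Ideal.Quotient.eq_zero_iff_mem] at hx hy
    rw [Ideal.mem_bot, ← map_mul, hsq d d' hx hy, map_zero]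
  have hkκ : RingHom.ker κ ^ 2 = ⊥ := by
    rw [eq_bot_iff, ← h𝔡]
    exact Ideal.pow_right_mono hker 2
  have hπφ : ∀ a, π (φC a) = Ideal.Quotient.mk I a := fun a => RingHom.congr_fun hπ a
  have hρφ : ∀ a, ρ (φC a) = κ (φ a) := fun a => RingHom.congr_fun hcomp a
  have hτ0 : ∀ a ∈ I, ((Ideal.Quotient.mk 𝔡).comp φ) a = 0 := by
    intro a ha
    rw [RingHom.comp_apply, ← hψκ, ← hρφ]
    apply hmapker
    apply hρK
    rw [RingHom.mem_ker, hπφ, Ideal.Quotient.eq_zero_iff_mem]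
    exact ha
  refine ⟨ψ, Ideal.Quotient.lift I ((Ideal.Quotient.mk 𝔡).comp φ) hτ0, hψ, ?_, hkψ, hkκ, ?_, ?_⟩
  · intro y
    obtain ⟨d, rfl⟩ := Ideal.Quotient.mk_surjective y
    exact ⟨κ d, hψκ d⟩
  · refine RingHom.ext fun a => ?_
    rw [RingHom.comp_apply, Ideal.Quotient.lift_mk]
  · refine RingHom.ext fun c => ?_
    obtain ⟨a, ha⟩ := Ideal.Quotient.mk_surjective (π c)
    have hmem : c - φC a ∈ RingHom.ker π := by
      rw [RingHom.mem_ker, map_sub, hπφ, ha, sub_self]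
    have h0 : ψ (ρ (c - φC a)) = 0 := hmapker (hρK _ hmem)
    rw [map_sub, map_sub, sub_eq_zero] at h0
    rw [RingHom.comp_apply, RingHom.comp_apply, ← ha, Ideal.Quotient.lift_mk, h0, hρφ, hψκ,
      RingHom.comp_apply]

variable {S : Scheme.{u}}

open Groth.Agent.Helper15.FSm in
/-- The lifting problem for `f` against `Spec (A ⧸ I) ⊂ Spec A` has a solution when `f` is formally
smooth after composing with an étale surjective chart. -/
theorem exists_lift_of_cover {X Y : Sp S} (hX : IsAlgSpace X) (hY : IsAlgSpace Y) (f : X ⟶ Y)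
    {U : Over S} (a : (yon S).obj U ⟶ X) (hae : RepWith @Etale a) (has : RepWith @Surjective a)
    (hUf : IsFormallySmoothMor (a ≫ f)) {A : Type u} [CommRing A] (I : Ideal A) (hI : I ^ 2 = ⊥)
    (str : Spec (.of A) ⟶ S) (top : (yon S).obj (ovAI I str) ⟶ X)
    (bot : (yon S).obj (ovA str) ⟶ Y) (comm : top ≫ f = (yon S).map (jA I str) ≫ bot) :
    ∃ l : (yon S).obj (ovA str) ⟶ X, (yon S).map (jA I str) ≫ l = top ∧ l ≫ f = bot := by
  have hjFO := UThick.isFOThickMor_jA I str hI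
  have hjth : thick (jA I str).left := (isThickMor_yon_map_iff _).1 hjFO.1
  have hT'a : IsAffine (ovA str).left := (inferInstance : IsAffine (Spec (.of A)))
  obtain ⟨T'', T₀'', c, j'', c₀, u, hT'', hc1, hc2, hc3, pb, hu⟩ :=
    exists_affine_cover_lift a hae has (jA I str) hjth hT'a top
  obtain ⟨W, iW, pW, xW, hWa, hiWFO, h1, h2, h3, UP⟩ := exists_affine_univ hX hY f a hae
    (jA I str) hjFO hT'a top bot comm c j'' c₀ u hT'' hc1 hc2 hc3 pb hu
  haveI := hWa
  haveI := hT''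
  -- the rings
  obtain ⟨φC, hφC⟩ : ∃ φC : CommRingCat.of A ⟶ Γ(W.left, ⊤),
      Spec.map φC = W.left.isoSpec.inv ≫ pW.left := ⟨Spec.preimage _, Spec.map_preimage _⟩
  obtain ⟨π, hπ'⟩ : ∃ π : Γ(W.left, ⊤) ⟶ CommRingCat.of (A ⧸ I),
      Spec.map π = iW.left ≫ W.left.isoSpec.hom := ⟨Spec.preimage _, Spec.map_preimage _⟩
  obtain ⟨φB, hφB⟩ : ∃ φB : CommRingCat.of A ⟶ Γ(T''.left, ⊤),
      Spec.map φB = T''.left.isoSpec.inv ≫ c.left := ⟨Spec.preimage _, Spec.map_preimage _⟩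
  have hiWl : iW.left = Spec.map π ≫ W.left.isoSpec.inv := by
    rw [hπ', Category.assoc, Iso.hom_inv_id, Category.comp_id]
  have hWhom : W.hom = pW.left ≫ str := (CategoryTheory.Over.w pW).symm
  have hT''hom : T''.hom = c.left ≫ str := (CategoryTheory.Over.w c).symm
  have hπC : φC ≫ π = CommRingCat.ofHom (Ideal.Quotient.mk I) := by
    apply Spec.map_injective
    rw [Spec.map_comp, hπ', hφC, Category.assoc, Iso.hom_inv_id_assoc, ← Over.comp_left, h1]
    rfl
  letI algC : Algebra A Γ(W.left, ⊤) := φC.hom.toAlgebra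
  letI algB : Algebra A Γ(T''.left, ⊤) := φB.hom.toAlgebra
  have hπ : π.hom.comp (algebraMap A Γ(W.left, ⊤)) = Ideal.Quotient.mk I := by
    refine RingHom.ext fun x => ?_
    exact congr($hπC x)
  have hK : RingHom.ker π.hom ^ 2 = ⊥ := by
    apply FSm.ker_sq_of_specMap π
    have hfo := isFirstOrderThickening_of_isFOThickMor_yon_map hWa hiWFO
    haveI : IsClosedImmersion iW.left := hfo.1.1
    have H : IsPullback (Spec.map π) (𝟙 _) W.left.isoSpec.inv iW.left :=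
      IsPullback.of_vert_isIso ⟨by rw [hiWl, Category.id_comp]⟩
    exact Groth.Agent.Helper3.FormEt.ker_sq_of_isPullback iW.left (Spec.map π) (𝟙 _)
      W.left.isoSpec.inv H hfo.2
  have hffB : φB.hom.FaithfullyFlat := by
    have h : Flat (Spec.map φB) ∧ Surjective (Spec.map φB) := by
      rw [hφB]
      haveI := hc1
      haveI := hc3
      exact ⟨inferInstance, inferInstance⟩
    exact (flat_and_surjective_SpecMap_iff φB).1 h
  haveI hff : Module.FaithfullyFlat A Γ(T''.left, ⊤) := hffB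
  have hLPB : FSm.LPB I π.hom (algebraMap A Γ(T''.left, ⊤)) := by
    intro D D' _ _ β' κ 𝔡 ρ hκ h𝔡 hker hcomp hρK
    obtain ⟨ψ, τ, hψκ, hψs, hkψ, hkκ, hτ1, hτ2⟩ := exists_psi_tau I φC.hom π.hom hπ
      (β'.comp φB.hom) κ 𝔡 ρ hκ h𝔡 hker hcomp hρK
    have hcompC : φC ≫ CommRingCat.ofHom ρ =
        CommRingCat.ofHom (β'.comp φB.hom) ≫ CommRingCat.ofHom κ := by
      ext x; exact RingHom.congr_fun hcomp x
    have hβC : φB ≫ CommRingCat.ofHom β' = CommRingCat.ofHom (β'.comp φB.hom) := rfl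
    have hψC : CommRingCat.ofHom κ ≫ CommRingCat.ofHom ψ =
        CommRingCat.ofHom (Ideal.Quotient.mk 𝔡) := by
      ext x; exact RingHom.congr_fun hψκ x
    have hτ1C : CommRingCat.ofHom (Ideal.Quotient.mk I) ≫ CommRingCat.ofHom τ =
        CommRingCat.ofHom (β'.comp φB.hom) ≫ CommRingCat.ofHom (Ideal.Quotient.mk 𝔡) := by
      ext x; exact RingHom.congr_fun hτ1 x
    have hτ2C : π ≫ CommRingCat.ofHom τ = CommRingCat.ofHom ρ ≫ CommRingCat.ofHom ψ := by
      ext x; exact RingHom.congr_fun hτ2 x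
    obtain ⟨sE, hsE⟩ : ∃ sE : Spec (.of D) ⟶ S,
        sE = Spec.map (CommRingCat.ofHom (β'.comp φB.hom)) ≫ str := ⟨_, rfl⟩
    have hkEFO := isFOThickMor_specMap κ hκ hkκ sE
    have hk₀'FO := isFOThickMor_specMap ψ hψs hkψ (Spec.map (CommRingCat.ofHom κ) ≫ sE)
    obtain ⟨kE, hkE⟩ : ∃ kE : Over.mk (Spec.map (CommRingCat.ofHom κ) ≫ sE) ⟶ Over.mk sE,
        kE = CategoryTheory.Over.homMk (Spec.map (CommRingCat.ofHom κ)) rfl := ⟨_, rfl⟩
    obtain ⟨k₀', hk₀'⟩ : ∃ k₀' : Over.mk (Spec.map (CommRingCat.ofHom ψ) ≫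
          Spec.map (CommRingCat.ofHom κ) ≫ sE) ⟶ Over.mk (Spec.map (CommRingCat.ofHom κ) ≫ sE),
        k₀' = CategoryTheory.Over.homMk (Spec.map (CommRingCat.ofHom ψ)) rfl := ⟨_, rfl⟩
    rw [← hkE] at hkEFO
    rw [← hk₀'] at hk₀'FO
    have hkEl : kE.left = Spec.map (CommRingCat.ofHom κ) := by rw [hkE]; rfl
    have hk₀'l : k₀'.left = Spec.map (CommRingCat.ofHom ψ) := by rw [hk₀']; rfl
    have hk₀FO : IsFOThickMor ((yon S).map (k₀' ≫ kE)) := by
      apply isFOThickMor_yon_map_of_fo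
      rw [Over.comp_left, hkEl, hk₀'l, ← Spec.map_comp, hψC]
      exact FSm.isFirstOrderThickening_specMap _ Ideal.Quotient.mk_surjective (by
        rw [show (CommRingCat.ofHom (Ideal.Quotient.mk 𝔡)).hom = Ideal.Quotient.mk 𝔡 from rfl,
          Ideal.mk_ker]
        exact h𝔡)
    have hEa : IsAffine (Over.mk sE).left := (inferInstance : IsAffine (Spec (.of D)))
    have hrEw : (Spec.map (CommRingCat.ofHom ρ) ≫ W.left.isoSpec.inv) ≫ W.hom =
        Spec.map (CommRingCat.ofHom κ) ≫ sE := by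
      rw [hWhom, Category.assoc, ← Category.assoc W.left.isoSpec.inv, ← hφC, ← Category.assoc,
        ← Spec.map_comp, hcompC, Spec.map_comp, Category.assoc, hsE]
    obtain ⟨rE, hrE⟩ : ∃ rE : Over.mk (Spec.map (CommRingCat.ofHom κ) ≫ sE) ⟶ W,
        rE.left = Spec.map (CommRingCat.ofHom ρ) ≫ W.left.isoSpec.inv :=
      ⟨CategoryTheory.Over.homMk _ hrEw, rfl⟩
    have hbEw : (Spec.map (CommRingCat.ofHom β') ≫ T''.left.isoSpec.inv) ≫ T''.hom = sE := by
      rw [hT''hom, Category.assoc, ← Category.assoc T''.left.isoSpec.inv, ← hφB, ← Category.assoc,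
        ← Spec.map_comp, hβC, hsE]
    obtain ⟨bE, hbE⟩ : ∃ bE : Over.mk sE ⟶ T'',
        bE.left = Spec.map (CommRingCat.ofHom β') ≫ T''.left.isoSpec.inv :=
      ⟨CategoryTheory.Over.homMk _ hbEw, rfl⟩
    have ht₀w : Spec.map (CommRingCat.ofHom τ) ≫ (ovAI I str).hom =
        Spec.map (CommRingCat.ofHom ψ) ≫ Spec.map (CommRingCat.ofHom κ) ≫ sE := by
      show Spec.map (CommRingCat.ofHom τ) ≫
        Spec.map (CommRingCat.ofHom (Ideal.Quotient.mk I)) ≫ str = _
      rw [← Category.assoc, ← Spec.map_comp, hτ1C, Spec.map_comp, Category.assoc, ← hsE,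
        ← Category.assoc (Spec.map (CommRingCat.ofHom ψ)), ← Spec.map_comp, hψC]
    obtain ⟨t₀, ht₀⟩ : ∃ t₀ : Over.mk (Spec.map (CommRingCat.ofHom ψ) ≫
          Spec.map (CommRingCat.ofHom κ) ≫ sE) ⟶ ovAI I str,
        t₀.left = Spec.map (CommRingCat.ofHom τ) := ⟨CategoryTheory.Over.homMk _ ht₀w, rfl⟩
    have hr : rE ≫ pW = kE ≫ bE ≫ c := by
      apply Over.OverMorphism.ext
      rw [Over.comp_left, Over.comp_left, Over.comp_left, hrE, hkEl, hbE, Category.assoc, ← hφC,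
        ← Spec.map_comp, hcompC, Category.assoc, ← hφB, ← Spec.map_comp, ← Spec.map_comp, hβC]
    have ht : t₀ ≫ iW = k₀' ≫ rE := by
      apply Over.OverMorphism.ext
      rw [Over.comp_left, Over.comp_left, ht₀, hiWl, hk₀'l, hrE]
      have e1 : Spec.map (CommRingCat.ofHom τ) ≫ Spec.map π =
          Spec.map (CommRingCat.ofHom ψ) ≫ Spec.map (CommRingCat.ofHom ρ) := by
        rw [← Spec.map_comp, ← Spec.map_comp, hτ2C]
      exact (Category.assoc _ _ _).symm.trans ((congrArg (· ≫ W.left.isoSpec.inv) e1).trans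
        (Category.assoc _ _ _))
    obtain ⟨r', hr'1, hr'2⟩ := exists_lift_to_univ f a hae hUf (jA I str) top bot c j'' c₀ u pb
      hu iW pW xW h1 h2 h3 UP hEa k₀' kE hk₀'FO hkEFO hk₀FO rE bE t₀ hr ht
    obtain ⟨ρ', hρ'⟩ : ∃ ρ' : Γ(W.left, ⊤) ⟶ CommRingCat.of D,
        Spec.map ρ' = r'.left ≫ W.left.isoSpec.hom := ⟨Spec.preimage _, Spec.map_preimage _⟩
    refine ⟨ρ'.hom, ?_, ?_⟩
    · have : ρ' ≫ CommRingCat.ofHom κ = CommRingCat.ofHom ρ := by
        apply Spec.map_injective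
        rw [Spec.map_comp, hρ', ← hkEl, ← Category.assoc, ← Over.comp_left, hr'1, hrE,
          Category.assoc, Iso.inv_hom_id, Category.comp_id]
      refine RingHom.ext fun x => ?_
      exact congr($this x)
    · have : φC ≫ ρ' = CommRingCat.ofHom (β'.comp φB.hom) := by
        apply Spec.map_injective
        rw [Spec.map_comp, hρ', hφC, Category.assoc, Iso.hom_inv_id_assoc, ← Over.comp_left, hr'2,
          Over.comp_left, hbE, Category.assoc, ← hφB, ← Spec.map_comp, hβC]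
      refine RingHom.ext fun x => ?_
      exact congr($this x)
  have hinj : Function.Injective (algebraMap A Γ(W.left, ⊤)) := by
    have h𝔡 : (I.map φB.hom) ^ 2 = ⊥ := by
      rw [← Ideal.map_pow, hI, Ideal.map_bot]
    obtain ⟨ρ', -, hρ'⟩ := hLPB Γ(T''.left, ⊤) (Γ(T''.left, ⊤) ⧸ I.map φB.hom)
      (RingHom.id _) (Ideal.Quotient.mk _) (I.map φB.hom)
      ((Ideal.quotientMap (I.map φB.hom) φB.hom Ideal.le_comap_map).comp π.hom)
      Ideal.Quotient.mk_surjective h𝔡 (by rw [Ideal.mk_ker])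
      (by
        refine RingHom.ext fun x => ?_
        have h1 : π.hom (algebraMap A Γ(W.left, ⊤) x) = Ideal.Quotient.mk I x :=
          RingHom.congr_fun hπ x
        show Ideal.quotientMap (I.map φB.hom) φB.hom Ideal.le_comap_map
          (π.hom (algebraMap A Γ(W.left, ⊤) x)) = Ideal.Quotient.mk _ (φB.hom x)
        rw [h1, Ideal.quotientMap_mk])
      (by
        intro k hk
        rw [RingHom.comp_apply, RingHom.mem_ker.mp hk, map_zero]
        exact Ideal.zero_mem _)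
    intro x y hxy
    apply hffB.injective
    have hx := RingHom.congr_fun hρ' x
    have hy := RingHom.congr_fun hρ' y
    rw [RingHom.comp_apply] at hx hy
    have hx' : φB.hom x = ρ' (algebraMap A Γ(W.left, ⊤) x) := hx.symm
    have hy' : φB.hom y = ρ' (algebraMap A Γ(W.left, ⊤) y) := hy.symm
    rw [hx', hy', hxy]
  haveI := FSm.projective_Q_of_LPB hπ hK hLPB
  obtain ⟨r, hr1, hr2⟩ := FSm.exists_retraction_of_inj_proj hπ hK hinj
  have hr1C : φC ≫ CommRingCat.ofHom r = 𝟙 _ := by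
    ext x; exact RingHom.congr_fun hr1 x
  have hr2C : CommRingCat.ofHom r ≫ CommRingCat.ofHom (Ideal.Quotient.mk I) = π := by
    ext x; exact RingHom.congr_fun hr2 x
  have hsec : Spec.map (CommRingCat.ofHom r) ≫ Spec.map φC = 𝟙 _ := by
    rw [← Spec.map_comp, hr1C, Spec.map_id]
  have hsw : (Spec.map (CommRingCat.ofHom r) ≫ W.left.isoSpec.inv) ≫ W.hom = (ovA str).hom := by
    rw [hWhom, Category.assoc, ← Category.assoc W.left.isoSpec.inv, ← hφC, ← Category.assoc,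
      hsec, Category.id_comp]
    rfl
  obtain ⟨s, hs⟩ : ∃ s : ovA str ⟶ W,
      s.left = Spec.map (CommRingCat.ofHom r) ≫ W.left.isoSpec.inv :=
    ⟨CategoryTheory.Over.homMk _ hsw, rfl⟩
  have hjs : jA I str ≫ s = iW := by
    apply Over.OverMorphism.ext
    rw [Over.comp_left, hs, hiWl, ← Category.assoc]
    show (Spec.map (CommRingCat.ofHom (Ideal.Quotient.mk I)) ≫ Spec.map (CommRingCat.ofHom r)) ≫ _
      = _
    rw [← Spec.map_comp, hr2C]
  have hsp : s ≫ pW = 𝟙 _ := by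
    apply Over.OverMorphism.ext
    rw [Over.comp_left, hs, Category.assoc, ← hφC, hsec]
    rfl
  refine ⟨(yon S).map s ≫ xW, ?_, ?_⟩
  · rw [← Category.assoc, ← (yon S).map_comp, hjs, h2]
  · rw [Category.assoc, h3, ← Category.assoc, ← (yon S).map_comp, hsp, (yon S).map_id,
      Category.id_comp]

/-- **Formal smoothness is étale local on the source**: if `a : h_U ⟶ X` is étale surjective and
`a ≫ f` is formally smooth, then `f` is formally smooth. -/
theorem isFormallySmoothMor_of_etale_cover {X Y : Sp S} (hX : IsAlgSpace X) (hY : IsAlgSpace Y)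
    (f : X ⟶ Y) {U : Over S} (a : (yon S).obj U ⟶ X) (hae : RepWith @Etale a)
    (has : RepWith @Surjective a) (hUf : IsFormallySmoothMor (a ≫ f)) :
    IsFormallySmoothMor f := by
  intro sq
  exact exists_lift_of_cover hX hY f a hae has hUf sq.I sq.sq_zero sq.str sq.top sq.bot sq.comm

end Groth.Agent.Helper15.FSp
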