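import Mathlib
import Groth.Prelude
import Groth.Agent.Lib.Helper15.FSp5
import Groth.Agent.Lib.Helper15.AlgSpFibre
import Groth.Agent.Lib.Helper16.AlgSp.FormalSp6
import Groth.Agent.S1488

set_option autoImplicit false
set_option linter.unusedSectionVars false
universe u
open CategoryTheory CategoryTheory.Limits AlgebraicGeometry MorphismProperty Opposite

namespace Groth.Agent.Helper15.FSp

open AlgSp Groth.Agent.Helper15 Groth.Agent.Helper16.AS

variable {S : Scheme.{u}}

/-- A formally smooth morphism is formally smooth on all étale charts. -/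
theorem locP_of_isFormallySmoothMor {X Y : Sp S} (f : X ⟶ Y) (hf : IsFormallySmoothMor f) :
    LocP @MoreMor.IsFormallySmoothHom f := by
  intro U V a b h hae hbe hcomm
  have ha : IsFormallySmoothMor a := (isFormallyEtaleMor_iff.1 (isFormallyEtaleMor_of_repWith hae)).1
  have hb : IsFormallyUnramifiedMor b :=
    (isFormallyEtaleMor_iff.1 (isFormallyEtaleMor_of_repWith hbe)).2
  have h1 : IsFormallySmoothMor (a ≫ f) := isFormallySmoothMor_comp ha hf
  rw [hcomm] at h1
  exact (isFormallySmoothMor_yon_map_iff h).1 (isFormallySmoothMor_of_comp_right h1 hb)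

/-- Formal smoothness can be checked on one chart diagram with étale surjective source chart. -/
theorem isFormallySmoothMor_of_chart {X Y : Sp S} (hX : IsAlgSpace X) (hY : IsAlgSpace Y)
    (f : X ⟶ Y) {U V : Over S} (a : (yon S).obj U ⟶ X) (b : (yon S).obj V ⟶ Y) (h : U ⟶ V)
    (hae : RepWith @Etale a) (has : RepWith @Surjective a) (hbe : RepWith @Etale b)
    (hcomm : a ≫ f = (yon S).map h ≫ b) (hh : MoreMor.IsFormallySmoothHom h.left) :
    IsFormallySmoothMor f := by
  have h1 : IsFormallySmoothMor ((yon S).map h) := (isFormallySmoothMor_yon_map_iff h).2 hh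
  have hb : IsFormallySmoothMor b := (isFormallyEtaleMor_iff.1 (isFormallyEtaleMor_of_repWith hbe)).1
  have h2 : IsFormallySmoothMor (a ≫ f) := by
    rw [hcomm]; exact isFormallySmoothMor_comp h1 hb
  exact isFormallySmoothMor_of_etale_cover hX hY f a hae has h2

/-- If `f` is formally smooth on all étale charts then `f` is formally smooth. -/
theorem isFormallySmoothMor_of_locP {X Y : Sp S} (hX : IsAlgSpace X) (hY : IsAlgSpace Y)
    (f : X ⟶ Y) (hf : LocP @MoreMor.IsFormallySmoothHom f) : IsFormallySmoothMor f := by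
  obtain ⟨V, q, hqe, hqs⟩ := hY.atlas
  obtain ⟨U, p, α, hpe, hps, hcomm⟩ := exists_chart_lift hX f q hqe hqs
  exact isFormallySmoothMor_of_chart hX hY f p q α hpe hps hqe hcomm (hf p q α hpe hqe hcomm)

/-- Smooth = locally of finite presentation + formally smooth, for algebraic spaces. -/
theorem locP_smooth_iff {X Y : Sp S} (hX : IsAlgSpace X) (hY : IsAlgSpace Y) (f : X ⟶ Y) :
    LocP @Smooth f ↔ LocP @LocallyOfFinitePresentation f ∧ IsFormallySmoothMor f := by
  constructor
  · intro hf
    refine ⟨fun U V a b h hae hbe hcomm =>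
      ((Groth.Agent.S1488.result h.left).1 (hf a b h hae hbe hcomm)).1, ?_⟩
    apply isFormallySmoothMor_of_locP hX hY
    intro U V a b h hae hbe hcomm
    exact ((Groth.Agent.S1488.result h.left).1 (hf a b h hae hbe hcomm)).2
  · rintro ⟨h1, h2⟩ U V a b h hae hbe hcomm
    exact (Groth.Agent.S1488.result h.left).2
      ⟨h1 a b h hae hbe hcomm, locP_of_isFormallySmoothMor f h2 a b h hae hbe hcomm⟩

end Groth.Agent.Helper15.FSp
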