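import Mathlib
import Groth.Prelude
import Groth.Agent.Lib.Helper15.FSp5
import Groth.Agent.Lib.Helper15.FSm4

set_option autoImplicit false
set_option linter.unusedSectionVars false
universe u
open CategoryTheory CategoryTheory.Limits AlgebraicGeometry MorphismProperty Opposite

namespace Groth.Agent.Helper15.FSp

open AlgSp Groth.Agent.Helper15 Groth.Agent.Helper16.AS Groth.Agent.Helper15.UThick Groth.Agent.Helper15.EtLift

variable {S : Scheme.{u}}

/-- Formal smoothness is stable under base change. -/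
theorem isFormallySmoothMor_of_isPullback {X Y Xi Yi : Sp S} {f : X ⟶ Y} {g : Yi ⟶ Y}
    {p : Xi ⟶ Yi} {q : Xi ⟶ X} (sq : IsPullback q p f g) (hf : IsFormallySmoothMor f) :
    IsFormallySmoothMor p := by
  intro s
  let s' : InfSq f :=
    { A := s.A, I := s.I, sq_zero := s.sq_zero, str := s.str, top := s.top ≫ q
      bot := s.bot ≫ g
      comm := by rw [Category.assoc, sq.w, ← Category.assoc, s.comm, Category.assoc] }
  obtain ⟨l, hl1, hl2⟩ : ∃ l : (yon S).obj s.ptT' ⟶ X,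
      (yon S).map s.j ≫ l = s.top ≫ q ∧ l ≫ f = s.bot ≫ g := hf s'
  refine ⟨sq.lift l s.bot hl2, ?_, sq.lift_snd _ _ _⟩
  apply sq.hom_ext
  · rw [Category.assoc, sq.lift_fst, hl1]
  · rw [Category.assoc, sq.lift_snd]; exact s.comm.symm

/-- The geometric lifting property of the universal thickening over a member of a covering of
the base over which the base change of `f` is formally smooth. -/
theorem exists_lift_to_univ_bc {X Y Xi Yi : Sp S} (f : X ⟶ Y) (g : Yi ⟶ Y) (p : Xi ⟶ Yi)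
    (q : Xi ⟶ X) (sq : IsPullback q p f g) (hp : IsFormallySmoothMor p)
    {T T' : Over S} (j : T ⟶ T')
    (top : (yon S).obj T ⟶ X) (bot : (yon S).obj T' ⟶ Y)
    {V : Over S} (c : V ⟶ T') (l : (yon S).obj V ⟶ Yi) (hl : l ≫ g = (yon S).map c ≫ bot)
    {W : Over S} (iW : T ⟶ W) (pW : W ⟶ T') (xW : (yon S).obj W ⟶ X)
    (h1 : iW ≫ pW = j) (h2 : (yon S).map iW ≫ xW = top) (h3 : xW ≫ f = (yon S).map pW ≫ bot)
    (UP : ∀ (E₀ E : Over S) (k : E₀ ⟶ E), IsFOThickMor ((yon S).map k) →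
        ∀ (t₀ : E₀ ⟶ T) (x : (yon S).obj E ⟶ X) (q : E ⟶ T'),
          (yon S).map k ≫ x = (yon S).map t₀ ≫ top → k ≫ q = t₀ ≫ j →
          x ≫ f = (yon S).map q ≫ bot →
          ∃! r : E ⟶ W, k ≫ r = t₀ ≫ iW ∧ (yon S).map r ≫ xW = x ∧ r ≫ pW = q)
    {E₀ E' E : Over S} (hE : IsAffine E.left) (k₀' : E₀ ⟶ E') (kE : E' ⟶ E)
    (hk₀' : IsFOThickMor ((yon S).map k₀')) (hkE : IsFOThickMor ((yon S).map kE))
    (hk₀ : IsFOThickMor ((yon S).map (k₀' ≫ kE)))
    (rE : E' ⟶ W) (bE : E ⟶ V) (t₀ : E₀ ⟶ T)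
    (hr : rE ≫ pW = kE ≫ bE ≫ c) (ht : t₀ ≫ iW = k₀' ≫ rE) :
    ∃ r' : E ⟶ W, kE ≫ r' = rE ∧ r' ≫ pW = bE ≫ c := by
  have htj : t₀ ≫ j = k₀' ≫ kE ≫ bE ≫ c := by
    rw [← h1, ← Category.assoc, ht, Category.assoc, hr]
  -- the lifting problem for `p`
  have hw0 : ((yon S).map rE ≫ xW) ≫ f = ((yon S).map kE ≫ (yon S).map bE ≫ l) ≫ g := by
    calc ((yon S).map rE ≫ xW) ≫ f = (yon S).map rE ≫ (yon S).map pW ≫ bot := by
          rw [Category.assoc, h3]
      _ = (yon S).map (rE ≫ pW) ≫ bot := by rw [(yon S).map_comp, Category.assoc]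
      _ = (yon S).map (kE ≫ bE ≫ c) ≫ bot := by rw [hr]
      _ = (yon S).map kE ≫ (yon S).map bE ≫ (yon S).map c ≫ bot := by
          rw [(yon S).map_comp, (yon S).map_comp, Category.assoc, Category.assoc]
      _ = (yon S).map kE ≫ (yon S).map bE ≫ l ≫ g := by rw [hl]
      _ = _ := by simp only [Category.assoc]
  obtain ⟨top', htop'1, htop'2⟩ : ∃ top' : (yon S).obj E' ⟶ Xi,
      top' ≫ q = (yon S).map rE ≫ xW ∧ top' ≫ p = (yon S).map kE ≫ (yon S).map bE ≫ l :=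
    ⟨sq.lift _ _ hw0, sq.lift_fst _ _ _, sq.lift_snd _ _ _⟩
  obtain ⟨l', hl'1, hl'2⟩ := exists_lift_of_isFormallySmoothMor hp kE hkE hE top'
    ((yon S).map bE ≫ l) htop'2
  obtain ⟨x, hx⟩ : ∃ x : (yon S).obj E ⟶ X, x = l' ≫ q := ⟨_, rfl⟩
  have hkx : (yon S).map kE ≫ x = (yon S).map rE ≫ xW := by
    rw [hx, ← Category.assoc, hl'1, htop'1]
  have hx1 : (yon S).map (k₀' ≫ kE) ≫ x = (yon S).map t₀ ≫ top := by
    calc (yon S).map (k₀' ≫ kE) ≫ x = (yon S).map k₀' ≫ (yon S).map kE ≫ x := by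
          rw [(yon S).map_comp, Category.assoc]
      _ = (yon S).map k₀' ≫ (yon S).map rE ≫ xW := by rw [hkx]
      _ = (yon S).map (k₀' ≫ rE) ≫ xW := by rw [(yon S).map_comp, Category.assoc]
      _ = (yon S).map (t₀ ≫ iW) ≫ xW := by rw [ht]
      _ = (yon S).map t₀ ≫ top := by rw [(yon S).map_comp, Category.assoc, h2]
  have hx2 : (k₀' ≫ kE) ≫ (bE ≫ c) = t₀ ≫ j := by
    rw [htj]; simp only [Category.assoc]
  have hx3 : x ≫ f = (yon S).map (bE ≫ c) ≫ bot := by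
    calc x ≫ f = l' ≫ q ≫ f := by rw [hx, Category.assoc]
      _ = l' ≫ p ≫ g := by rw [sq.w]
      _ = ((yon S).map bE ≫ l) ≫ g := by rw [← Category.assoc, hl'2]
      _ = (yon S).map bE ≫ (yon S).map c ≫ bot := by rw [Category.assoc, hl]
      _ = _ := by rw [(yon S).map_comp, Category.assoc]
  obtain ⟨r', ⟨hr'1, hr'2, hr'3⟩, -⟩ := UP E₀ E (k₀' ≫ kE) hk₀ t₀ x (bE ≫ c) hx1 hx2 hx3
  refine ⟨r', ?_, hr'3⟩
  -- uniqueness over `E'`
  have hy1 : (yon S).map k₀' ≫ ((yon S).map kE ≫ x) = (yon S).map t₀ ≫ top := by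
    rw [← hx1, (yon S).map_comp, Category.assoc]
  have hy2 : k₀' ≫ (kE ≫ bE ≫ c) = t₀ ≫ j := htj.symm
  have hy3 : ((yon S).map kE ≫ x) ≫ f = (yon S).map (kE ≫ bE ≫ c) ≫ bot := by
    rw [Category.assoc, hx3, ← Category.assoc, ← (yon S).map_comp]
  obtain ⟨r₀, -, hr₀u⟩ := UP E₀ E' k₀' hk₀' t₀ ((yon S).map kE ≫ x) (kE ≫ bE ≫ c) hy1 hy2 hy3
  have e1 := hr₀u (kE ≫ r') ⟨by rw [← Category.assoc, hr'1], by
    rw [(yon S).map_comp, Category.assoc, hr'2], by rw [Category.assoc, hr'3]⟩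
  have e2 := hr₀u rE ⟨ht.symm, hkx.symm, hr⟩
  rw [e1, e2]

open Groth.Agent.Helper15.FSm in
/-- The lifting problem for `f` against `Spec (A ⧸ I) ⊂ Spec A` has a solution when the base
changes of `f` to the members of an fpqc covering of the target are formally smooth. -/
theorem exists_lift_of_fpqc {X Y : Sp S} (hX : IsAlgSpace X) (hY : IsAlgSpace Y) (f : X ⟶ Y)
    {ι : Type u} (Yi Xi : ι → Sp S) (g : ∀ i, Yi i ⟶ Y) (p : ∀ i, Xi i ⟶ Yi i)
    (q : ∀ i, Xi i ⟶ X) (sq : ∀ i, IsPullback (q i) (p i) f (g i))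
    (hp : ∀ i, IsFormallySmoothMor (p i)) (hcov : IsFpqcCover Yi g)
    {A : Type u} [CommRing A] (I : Ideal A) (hI : I ^ 2 = ⊥)
    (str : Spec (.of A) ⟶ S) (top : (yon S).obj (ovAI I str) ⟶ X)
    (bot : (yon S).obj (ovA str) ⟶ Y) (comm : top ≫ f = (yon S).map (jA I str) ≫ bot) :
    ∃ l : (yon S).obj (ovA str) ⟶ X, (yon S).map (jA I str) ≫ l = top ∧ l ≫ f = bot := by
  obtain ⟨U, a, hae, has⟩ := hX.atlas
  have hjFO := UThick.isFOThickMor_jA I str hI
  have hjth : thick (jA I str).left := (isThickMor_yon_map_iff _).1 hjFO.1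
  have hT'a : IsAffine (ovA str).left := (inferInstance : IsAffine (Spec (.of A)))
  obtain ⟨T'', T₀'', c, j'', c₀, u, hT'', hc1, hc2, hc3, pb, hu⟩ :=
    exists_affine_cover_lift a hae has (jA I str) hjth hT'a top
  obtain ⟨W, iW, pW, xW, hWa, hiWFO, h1, h2, h3, UP⟩ := exists_affine_univ hX hY f a hae
    (jA I str) hjFO hT'a top bot comm c j'' c₀ u hT'' hc1 hc2 hc3 pb hu
  haveI := hWa
  -- the fpqc covering of the big affine scheme
  obtain ⟨m, Wc, cj, hWca, hWcf, hWcs, hWcl⟩ := hcov.2 (ovA str) hT'a bot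
  haveI : ∀ j, IsAffine (Wc j).left := hWca
  choose iof lj hlj using hWcl
  -- the rings
  obtain ⟨φC, hφC⟩ : ∃ φC : CommRingCat.of A ⟶ Γ(W.left, ⊤),
      Spec.map φC = W.left.isoSpec.inv ≫ pW.left := ⟨Spec.preimage _, Spec.map_preimage _⟩
  obtain ⟨π, hπ'⟩ : ∃ π : Γ(W.left, ⊤) ⟶ CommRingCat.of (A ⧸ I),
      Spec.map π = iW.left ≫ W.left.isoSpec.hom := ⟨Spec.preimage _, Spec.map_preimage _⟩
  choose φB hφB using fun j => (⟨Spec.preimage _, Spec.map_preimage _⟩ :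
    ∃ φB : CommRingCat.of A ⟶ Γ((Wc j).left, ⊤),
      Spec.map φB = (Wc j).left.isoSpec.inv ≫ (cj j).left)
  have hiWl : iW.left = Spec.map π ≫ W.left.isoSpec.inv := by
    rw [hπ', Category.assoc, Iso.hom_inv_id, Category.comp_id]
  have hWhom : W.hom = pW.left ≫ str := (CategoryTheory.Over.w pW).symm
  have hWchom : ∀ j, (Wc j).hom = (cj j).left ≫ str := fun j => (CategoryTheory.Over.w (cj j)).symm
  have hπC : φC ≫ π = CommRingCat.ofHom (Ideal.Quotient.mk I) := by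
    apply Spec.map_injective
    rw [Spec.map_comp, hπ', hφC, Category.assoc, Iso.hom_inv_id_assoc, ← Over.comp_left, h1]
    rfl
  letI algC : Algebra A Γ(W.left, ⊤) := φC.hom.toAlgebra
  letI algB : ∀ j, Algebra A Γ((Wc j).left, ⊤) := fun j => (φB j).hom.toAlgebra
  have hπ : π.hom.comp (algebraMap A Γ(W.left, ⊤)) = Ideal.Quotient.mk I := by
    refine RingHom.ext fun x => ?_
    exact congr($hπC x)
  have hK : RingHom.ker π.hom ^ 2 = ⊥ := by
    apply FSm.ker_sq_of_specMap π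
    have hfo := isFirstOrderThickening_of_isFOThickMor_yon_map hWa hiWFO
    haveI : IsClosedImmersion iW.left := hfo.1.1
    have H : IsPullback (Spec.map π) (𝟙 _) W.left.isoSpec.inv iW.left :=
      IsPullback.of_vert_isIso ⟨by rw [hiWl, Category.id_comp]⟩
    exact Groth.Agent.Helper3.FormEt.ker_sq_of_isPullback iW.left (Spec.map π) (𝟙 _)
      W.left.isoSpec.inv H hfo.2
  -- flatness and joint surjectivity
  have hflatB : ∀ j, Module.Flat A Γ((Wc j).left, ⊤) := by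
    intro j
    have h : Flat (Spec.map (φB j)) := by
      rw [hφB]
      haveI := hWcf j
      infer_instance
    exact (HasRingHomProperty.Spec_iff (P := @Flat)).1 h
  haveI := hflatB
  have hsurjB : ∀ M : Ideal A, M.IsMaximal → ∃ (j : Fin m) (𝔮 : Ideal Γ((Wc j).left, ⊤)),
      𝔮.IsPrime ∧ 𝔮.comap (algebraMap A Γ((Wc j).left, ⊤)) = M := by
    intro M hM
    obtain ⟨z, hz⟩ : ∃ z : Spec (.of A), z = (⟨M, hM.isPrime⟩ : PrimeSpectrum A) := ⟨_, rfl⟩
    obtain ⟨j, w, hw⟩ := hWcs z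
    refine ⟨j, ((Wc j).left.isoSpec.hom w).asIdeal, ((Wc j).left.isoSpec.hom w).isPrime, ?_⟩
    have h1 : Spec.map (φB j) ((Wc j).left.isoSpec.hom w) = z := by
      rw [hφB, ← Scheme.Hom.comp_apply, Iso.hom_inv_id_assoc]
      exact hw
    rw [Spec.map_apply, hz] at h1
    exact congrArg PrimeSpectrum.asIdeal h1
  haveI hff : Module.FaithfullyFlat A (∀ j, Γ((Wc j).left, ⊤)) :=
    FSm.faithfullyFlat_pi (fun j => Γ((Wc j).left, ⊤)) hsurjB
  have hLPBj : ∀ j, FSm.LPB I π.hom (φB j).hom := by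
    intro j
    intro D D' _ _ β' κ 𝔡 ρ hκ h𝔡 hker hcomp hρK
    obtain ⟨ψ, τ, hψκ, hψs, hkψ, hkκ, hτ1, hτ2⟩ := exists_psi_tau I φC.hom π.hom hπ
      (β'.comp (φB j).hom) κ 𝔡 ρ hκ h𝔡 hker hcomp hρK
    have hcompC : φC ≫ CommRingCat.ofHom ρ =
        CommRingCat.ofHom (β'.comp (φB j).hom) ≫ CommRingCat.ofHom κ := by
      ext x; exact RingHom.congr_fun hcomp x
    have hβC : φB j ≫ CommRingCat.ofHom β' = CommRingCat.ofHom (β'.comp (φB j).hom) := rfl
    have hψC : CommRingCat.ofHom κ ≫ CommRingCat.ofHom ψ =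
        CommRingCat.ofHom (Ideal.Quotient.mk 𝔡) := by
      ext x; exact RingHom.congr_fun hψκ x
    have hτ1C : CommRingCat.ofHom (Ideal.Quotient.mk I) ≫ CommRingCat.ofHom τ =
        CommRingCat.ofHom (β'.comp (φB j).hom) ≫ CommRingCat.ofHom (Ideal.Quotient.mk 𝔡) := by
      ext x; exact RingHom.congr_fun hτ1 x
    have hτ2C : π ≫ CommRingCat.ofHom τ = CommRingCat.ofHom ρ ≫ CommRingCat.ofHom ψ := by
      ext x; exact RingHom.congr_fun hτ2 x
    obtain ⟨sE, hsE⟩ : ∃ sE : Spec (.of D) ⟶ S,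
        sE = Spec.map (CommRingCat.ofHom (β'.comp (φB j).hom)) ≫ str := ⟨_, rfl⟩
    have hkEFO := isFOThickMor_specMap κ hκ hkκ sE
    have hk₀'FO := isFOThickMor_specMap ψ hψs hkψ (Spec.map (CommRingCat.ofHom κ) ≫ sE)
    obtain ⟨kE, hkE⟩ : ∃ kE : Over.mk (Spec.map (CommRingCat.ofHom κ) ≫ sE) ⟶ Over.mk sE,
        kE = CategoryTheory.Over.homMk (Spec.map (CommRingCat.ofHom κ)) rfl := ⟨_, rfl⟩
    obtain ⟨k₀', hk₀'⟩ : ∃ k₀' : Over.mk (Spec.map (CommRingCat.ofHom ψ) ≫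
          Spec.map (CommRingCat.ofHom κ) ≫ sE) ⟶ Over.mk (Spec.map (CommRingCat.ofHom κ) ≫ sE),
        k₀' = CategoryTheory.Over.homMk (Spec.map (CommRingCat.ofHom ψ)) rfl := ⟨_, rfl⟩
    rw [← hkE] at hkEFO
    rw [← hk₀'] at hk₀'FO
    have hkEl : kE.left = Spec.map (CommRingCat.ofHom κ) := by rw [hkE]; rfl
    have hk₀'l : k₀'.left = Spec.map (CommRingCat.ofHom ψ) := by rw [hk₀']; rfl
    have hk₀FO : IsFOThickMor ((yon S).map (k₀' ≫ kE)) := by
      apply isFOThickMor_yon_map_of_fo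
      rw [Over.comp_left, hkEl, hk₀'l, ← Spec.map_comp, hψC]
      exact FSm.isFirstOrderThickening_specMap _ Ideal.Quotient.mk_surjective (by
        rw [show (CommRingCat.ofHom (Ideal.Quotient.mk 𝔡)).hom = Ideal.Quotient.mk 𝔡 from rfl,
          Ideal.mk_ker]
        exact h𝔡)
    have hEa : IsAffine (Over.mk sE).left := (inferInstance : IsAffine (Spec (.of D)))
    have hrEw : (Spec.map (CommRingCat.ofHom ρ) ≫ W.left.isoSpec.inv) ≫ W.hom =
        Spec.map (CommRingCat.ofHom κ) ≫ sE := by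
      rw [hWhom, Category.assoc, ← Category.assoc W.left.isoSpec.inv, ← hφC, ← Category.assoc,
        ← Spec.map_comp, hcompC, Spec.map_comp, Category.assoc, hsE]
    obtain ⟨rE, hrE⟩ : ∃ rE : Over.mk (Spec.map (CommRingCat.ofHom κ) ≫ sE) ⟶ W,
        rE.left = Spec.map (CommRingCat.ofHom ρ) ≫ W.left.isoSpec.inv :=
      ⟨CategoryTheory.Over.homMk _ hrEw, rfl⟩
    have hbEw : (Spec.map (CommRingCat.ofHom β') ≫ (Wc j).left.isoSpec.inv) ≫ (Wc j).hom = sE := by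
      rw [hWchom, Category.assoc, ← Category.assoc (Wc j).left.isoSpec.inv, ← hφB, ← Category.assoc,
        ← Spec.map_comp, hβC, hsE]
    obtain ⟨bE, hbE⟩ : ∃ bE : Over.mk sE ⟶ Wc j,
        bE.left = Spec.map (CommRingCat.ofHom β') ≫ (Wc j).left.isoSpec.inv :=
      ⟨CategoryTheory.Over.homMk _ hbEw, rfl⟩
    have ht₀w : Spec.map (CommRingCat.ofHom τ) ≫ (ovAI I str).hom =
        Spec.map (CommRingCat.ofHom ψ) ≫ Spec.map (CommRingCat.ofHom κ) ≫ sE := by
      show Spec.map (CommRingCat.ofHom τ) ≫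
        Spec.map (CommRingCat.ofHom (Ideal.Quotient.mk I)) ≫ str = _
      rw [← Category.assoc, ← Spec.map_comp, hτ1C, Spec.map_comp, Category.assoc, ← hsE,
        ← Category.assoc (Spec.map (CommRingCat.ofHom ψ)), ← Spec.map_comp, hψC]
    obtain ⟨t₀, ht₀⟩ : ∃ t₀ : Over.mk (Spec.map (CommRingCat.ofHom ψ) ≫
          Spec.map (CommRingCat.ofHom κ) ≫ sE) ⟶ ovAI I str,
        t₀.left = Spec.map (CommRingCat.ofHom τ) := ⟨CategoryTheory.Over.homMk _ ht₀w, rfl⟩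
    have hr : rE ≫ pW = kE ≫ bE ≫ cj j := by
      apply Over.OverMorphism.ext
      rw [Over.comp_left, Over.comp_left, Over.comp_left, hrE, hkEl, hbE, Category.assoc, ← hφC,
        ← Spec.map_comp, hcompC, Category.assoc, ← hφB, ← Spec.map_comp, ← Spec.map_comp, hβC]
    have ht : t₀ ≫ iW = k₀' ≫ rE := by
      apply Over.OverMorphism.ext
      rw [Over.comp_left, Over.comp_left, ht₀, hiWl, hk₀'l, hrE]
      have e1 : Spec.map (CommRingCat.ofHom τ) ≫ Spec.map π =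
          Spec.map (CommRingCat.ofHom ψ) ≫ Spec.map (CommRingCat.ofHom ρ) := by
        rw [← Spec.map_comp, ← Spec.map_comp, hτ2C]
      exact (Category.assoc _ _ _).symm.trans ((congrArg (· ≫ W.left.isoSpec.inv) e1).trans
        (Category.assoc _ _ _))
    obtain ⟨r', hr'1, hr'2⟩ := exists_lift_to_univ_bc f (g (iof j)) (p (iof j)) (q (iof j))
      (sq (iof j)) (hp (iof j)) (jA I str) top bot (cj j) (lj j) (hlj j) iW pW xW h1 h2 h3 UP
      hEa k₀' kE hk₀'FO hkEFO hk₀FO rE bE t₀ hr ht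
    obtain ⟨ρ', hρ'⟩ : ∃ ρ' : Γ(W.left, ⊤) ⟶ CommRingCat.of D,
        Spec.map ρ' = r'.left ≫ W.left.isoSpec.hom := ⟨Spec.preimage _, Spec.map_preimage _⟩
    refine ⟨ρ'.hom, ?_, ?_⟩
    · have : ρ' ≫ CommRingCat.ofHom κ = CommRingCat.ofHom ρ := by
        apply Spec.map_injective
        rw [Spec.map_comp, hρ', ← hkEl, ← Category.assoc, ← Over.comp_left, hr'1, hrE,
          Category.assoc, Iso.inv_hom_id, Category.comp_id]
      refine RingHom.ext fun x => ?_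
      exact congr($this x)
    · have : φC ≫ ρ' = CommRingCat.ofHom (β'.comp (φB j).hom) := by
        apply Spec.map_injective
        rw [Spec.map_comp, hρ', hφC, Category.assoc, Iso.hom_inv_id_assoc, ← Over.comp_left, hr'2,
          Over.comp_left, hbE, Category.assoc, ← hφB, ← Spec.map_comp, hβC]
      refine RingHom.ext fun x => ?_
      exact congr($this x)
  have hLPB : FSm.LPB I π.hom (algebraMap A (∀ j, Γ((Wc j).left, ⊤))) :=
    FSm.LPB_pi I π.hom (fun j => Γ((Wc j).left, ⊤)) (fun j => (φB j).hom) hLPBj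
  obtain ⟨r, hr1, hr2⟩ := FSm.exists_retraction_of_LPB hπ hK hI hLPB
  have hr1C : φC ≫ CommRingCat.ofHom r = 𝟙 _ := by
    ext x; exact RingHom.congr_fun hr1 x
  have hr2C : CommRingCat.ofHom r ≫ CommRingCat.ofHom (Ideal.Quotient.mk I) = π := by
    ext x; exact RingHom.congr_fun hr2 x
  have hsec : Spec.map (CommRingCat.ofHom r) ≫ Spec.map φC = 𝟙 _ := by
    rw [← Spec.map_comp, hr1C, Spec.map_id]
  have hsw : (Spec.map (CommRingCat.ofHom r) ≫ W.left.isoSpec.inv) ≫ W.hom = (ovA str).hom := by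
    rw [hWhom, Category.assoc, ← Category.assoc W.left.isoSpec.inv, ← hφC, ← Category.assoc,
      hsec, Category.id_comp]
    rfl
  obtain ⟨s, hs⟩ : ∃ s : ovA str ⟶ W,
      s.left = Spec.map (CommRingCat.ofHom r) ≫ W.left.isoSpec.inv :=
    ⟨CategoryTheory.Over.homMk _ hsw, rfl⟩
  have hjs : jA I str ≫ s = iW := by
    apply Over.OverMorphism.ext
    rw [Over.comp_left, hs, hiWl, ← Category.assoc]
    show (Spec.map (CommRingCat.ofHom (Ideal.Quotient.mk I)) ≫ Spec.map (CommRingCat.ofHom r)) ≫ _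
      = _
    rw [← Spec.map_comp, hr2C]
  have hsp : s ≫ pW = 𝟙 _ := by
    apply Over.OverMorphism.ext
    rw [Over.comp_left, hs, Category.assoc, ← hφC, hsec]
    rfl
  refine ⟨(yon S).map s ≫ xW, ?_, ?_⟩
  · rw [← Category.assoc, ← (yon S).map_comp, hjs, h2]
  · rw [Category.assoc, h3, ← Category.assoc, ← (yon S).map_comp, hsp, (yon S).map_id,
      Category.id_comp]

/-- Formal smoothness is fpqc local on the base. -/
theorem isLocalOnBase_fpqc_isFormallySmoothMor :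
    IsLocalOnBase (S := S) IsFpqcCover IsFormallySmoothMor := by
  intro ι Y Yi g hY hYi hcov X f hX Xi p q hXi sq
  constructor
  · intro hf i
    exact isFormallySmoothMor_of_isPullback (sq i) hf
  · intro hp s
    exact exists_lift_of_fpqc hX hY f Yi Xi g p q sq hp hcov s.I s.sq_zero s.str s.top s.bot s.comm

end Groth.Agent.Helper15.FSp
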