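import Mathlib
import Groth.Agent.Lib.Helper12.FEtTrivB
import Groth.Agent.Lib.Helper15.QfSplitA

/-!
# Finite open pieces of a separated flat morphism and their ranks
-/

set_option autoImplicit false
universe u
open CategoryTheory CategoryTheory.Limits AlgebraicGeometry

namespace Groth.Agent.Helper15.FibDeg

variable {Z T : Scheme.{u}} (q : Z ⟶ T)

theorem finrank_congr {U V : Z.Opens} (h : U = V) (t : T) :
    (U.ι ≫ q).finrank t = (V.ι ≫ q).finrank t := by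
  subst h; rfl

theorem isFinite_congr {U V : Z.Opens} (h : U = V) (hU : IsFinite (U.ι ≫ q)) :
    IsFinite (V.ι ≫ q) := by
  subst h; exact hU

/-- An open finite over the base of a separated morphism is closed. -/
theorem isClosed_of_isFinite [IsSeparated q] (U : Z.Opens) [IsFinite (U.ι ≫ q)] :
    IsClosed (U : Set Z) := by
  haveI : IsFinite U.ι := IsFinite.of_comp U.ι q
  rw [← Scheme.Opens.range_ι]
  exact U.ι.isClosedMap.isClosed_range

theorem finrank_sup [Flat q] [IsSeparated q] [LocallyOfFiniteType q] (U V : Z.Opens)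
    (hdisj : Disjoint U V) [IsFinite (U.ι ≫ q)] [IsFinite (V.ι ≫ q)]
    [IsFinite ((U ⊔ V).ι ≫ q)] (t : T) :
    ((U ⊔ V).ι ≫ q).finrank t = (U.ι ≫ q).finrank t + (V.ι ≫ q).finrank t := by
  have hc : IsCompl ((U ⊔ V).ι ⁻¹ᵁ U) ((U ⊔ V).ι ⁻¹ᵁ V) := by
    constructor
    · rw [disjoint_iff, ← Scheme.Hom.preimage_inf, disjoint_iff.mp hdisj]; rfl
    · rw [codisjoint_iff, ← Scheme.Hom.preimage_sup, Scheme.Opens.ι_preimage_self]
  have h := Helper12.FEtTriv.finrank_add ((U ⊔ V).ι ≫ q) _ _ hc t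
  have h1 : ((U ⊔ V).ι ⁻¹ᵁ U).ι ≫ (U ⊔ V).ι ≫ q =
      (Scheme.Opens.isoOfLE (le_sup_left : U ≤ U ⊔ V)).hom ≫ U.ι ≫ q := by
    rw [Scheme.Opens.isoOfLE_hom_ι_assoc]
  have h2 : ((U ⊔ V).ι ⁻¹ᵁ V).ι ≫ (U ⊔ V).ι ≫ q =
      (Scheme.Opens.isoOfLE (le_sup_right : V ≤ U ⊔ V)).hom ≫ V.ι ≫ q := by
    rw [Scheme.Opens.isoOfLE_hom_ι_assoc]
  rw [h1, h2, Scheme.Hom.finrank_comp_left_of_isIso (Scheme.Opens.isoOfLE _).hom (U.ι ≫ q),
    Scheme.Hom.finrank_comp_left_of_isIso (Scheme.Opens.isoOfLE _).hom (V.ι ≫ q)] at h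
  exact h.symm

/-- Complement of a finite piece inside a bigger finite piece. -/
theorem exists_diff [IsSeparated q] {U V : Z.Opens} (h : U ≤ V)
    [IsFinite (U.ι ≫ q)] [IsFinite (V.ι ≫ q)] :
    ∃ W : Z.Opens, IsFinite (W.ι ≫ q) ∧ Disjoint U W ∧ U ⊔ W = V ∧
      (W : Set Z) = (V : Set Z) \ (U : Set Z) := by
  have hUc := isClosed_of_isFinite q U
  let Uc : Z.Opens := ⟨(U : Set Z)ᶜ, hUc.isOpen_compl⟩
  let W : Z.Opens := V ⊓ Uc
  have hWV : W ≤ V := inf_le_left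
  haveI : IsClosedImmersion (Z.homOfLE hWV) := by
    apply IsClosedImmersion.of_isPreimmersion
    have : Set.range (Z.homOfLE hWV) = V.ι ⁻¹' ((U : Set Z)ᶜ) := by
      ext x
      constructor
      · rintro ⟨y, rfl⟩
        have h2 : (y.1 : Z) ∈ Uc := y.2.2
        have h3 : ((Z.homOfLE hWV) y).1 = y.1 := Scheme.homOfLE_apply hWV y
        change ((Z.homOfLE hWV) y).1 ∈ ((U : Set Z)ᶜ)
        rw [h3]
        exact h2
      · intro hx
        refine ⟨⟨x.1, ⟨x.2, hx⟩⟩, Subtype.ext ?_⟩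
        exact Scheme.homOfLE_apply hWV _
    rw [this]
    exact U.isOpen.isClosed_compl.preimage V.ι.continuous
  refine ⟨W, ?_, ?_, ?_, ?_⟩
  · have : W.ι ≫ q = Z.homOfLE hWV ≫ V.ι ≫ q := by rw [Scheme.homOfLE_ι_assoc]
    rw [this]
    infer_instance
  · rw [disjoint_iff]
    ext x
    simp only [W, Uc]
    constructor
    · rintro ⟨hx1, -, hx2⟩
      exact absurd hx1 hx2
    · intro hx; exact absurd hx (by simp)
  · ext x
    constructor
    · rintro (hx | hx)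
      · exact h hx
      · exact hx.1
    · intro hx
      by_cases hxU : x ∈ U
      · exact Or.inl hxU
      · exact Or.inr ⟨hx, hxU⟩
  · ext x
    exact Iff.rfl

theorem finrank_mono [Flat q] [IsSeparated q] [LocallyOfFiniteType q] {U V : Z.Opens} (h : U ≤ V)
    [IsFinite (U.ι ≫ q)] [IsFinite (V.ι ≫ q)] (t : T) :
    (U.ι ≫ q).finrank t ≤ (V.ι ≫ q).finrank t := by
  obtain ⟨W, hW, hdisj, hsup, -⟩ := exists_diff q h
  haveI := hW
  haveI : IsFinite ((U ⊔ W).ι ≫ q) := isFinite_congr q hsup.symm inferInstance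
  rw [← finrank_congr q hsup t, finrank_sup q U W hdisj t]
  exact Nat.le_add_right _ _

theorem finrank_succ_le [Flat q] [IsSeparated q] [LocallyOfFiniteType q] {U V : Z.Opens} (h : U ≤ V)
    [IsFinite (U.ι ≫ q)] [IsFinite (V.ι ≫ q)] (p : Z) (hpV : p ∈ V) (hpU : p ∉ U) :
    (U.ι ≫ q).finrank (q p) + 1 ≤ (V.ι ≫ q).finrank (q p) := by
  obtain ⟨W, hW, hdisj, hsup, hWset⟩ := exists_diff q h
  haveI := hW
  haveI : IsFinite ((U ⊔ W).ι ≫ q) := isFinite_congr q hsup.symm inferInstance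
  rw [← finrank_congr q hsup (q p), finrank_sup q U W hdisj (q p)]
  have hpW : p ∈ W := by
    have : p ∈ (W : Set Z) := by rw [hWset]; exact ⟨hpV, hpU⟩
    exact this
  have h1 := Scheme.Hom.one_le_finrank_map (W.ι ≫ q) ⟨p, hpW⟩
  have h2 : (W.ι ≫ q) ⟨p, hpW⟩ = q p := rfl
  rw [h2] at h1
  omega

section BaseChange

variable {Z' T' : Scheme.{u}} {fst : Z' ⟶ Z} {snd : Z' ⟶ T'} {g : T' ⟶ T}

theorem isPullback_preimage (sq : IsPullback fst snd q g) (V : Z.Opens) :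
    IsPullback (fst ∣_ V) ((fst ⁻¹ᵁ V).ι ≫ snd) (V.ι ≫ q) g :=
  (isPullback_morphismRestrict fst V).paste_vert sq

theorem isFinite_preimage (sq : IsPullback fst snd q g) (V : Z.Opens) [IsFinite (V.ι ≫ q)] :
    IsFinite ((fst ⁻¹ᵁ V).ι ≫ snd) :=
  MorphismProperty.of_isPullback (P := @IsFinite) (isPullback_preimage q sq V) inferInstance

theorem finrank_preimage [Flat q] (sq : IsPullback fst snd q g) (V : Z.Opens) [IsFinite (V.ι ≫ q)]
    (t' : T') : ((fst ⁻¹ᵁ V).ι ≫ snd).finrank t' = (V.ι ≫ q).finrank (g t') :=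
  Scheme.Hom.finrank_of_isPullback _ _ _ _ (isPullback_preimage q sq V) t'

end BaseChange

/-- `q` has a finite open piece of rank at least `d` at `t`. -/
def GeRank (q : Z ⟶ T) (t : T) (d : ℕ) : Prop :=
  ∃ V : Z.Opens, IsFinite (V.ι ≫ q) ∧ d ≤ (V.ι ≫ q).finrank t

theorem GeRank.mono {q : Z ⟶ T} {t : T} {d e : ℕ} (h : GeRank q t d) (hed : e ≤ d) :
    GeRank q t e := by
  obtain ⟨V, hV, hd⟩ := h
  exact ⟨V, hV, hed.trans hd⟩

theorem geRank_zero (q : Z ⟶ T) (t : T) : GeRank q t 0 := by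
  refine ⟨⊥, ?_, Nat.zero_le _⟩
  haveI : IsEmpty ((⊥ : Z.Opens) : Scheme.{u}) := by
    change IsEmpty ((⊥ : Z.Opens) : Set Z)
    simp
  infer_instance

theorem GeRank.of_isPullback {q : Z ⟶ T} [Flat q] {Z' T' : Scheme.{u}} {fst : Z' ⟶ Z} {snd : Z' ⟶ T'}
    {g : T' ⟶ T} (sq : IsPullback fst snd q g) {t' : T'} {d : ℕ} (h : GeRank q (g t') d) :
    GeRank snd t' d := by
  obtain ⟨V, hV, hd⟩ := h
  haveI := hV
  exact ⟨fst ⁻¹ᵁ V, isFinite_preimage q sq V, by rw [finrank_preimage q sq V t']; exact hd⟩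

theorem isFinite_top_ι_comp (q : Z ⟶ T) [IsFinite q] : IsFinite ((⊤ : Z.Opens).ι ≫ q) := by
  have : (⊤ : Z.Opens).ι = Z.topIso.hom := rfl
  rw [this]
  infer_instance

theorem finrank_top_ι_comp (q : Z ⟶ T) [Flat q] [IsFinite q] (t : T) :
    ((⊤ : Z.Opens).ι ≫ q).finrank t = q.finrank t := by
  have : (⊤ : Z.Opens).ι = Z.topIso.hom := rfl
  rw [this, Scheme.Hom.finrank_comp_left_of_isIso]

/-- A finite flat morphism has rank at least `d` iff its `finrank` is at least `d`. -/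
theorem geRank_iff_of_isFinite (q : Z ⟶ T) [Flat q] [IsFinite q] (t : T) (d : ℕ) :
    GeRank q t d ↔ d ≤ q.finrank t := by
  constructor
  · rintro ⟨V, hV, hd⟩
    haveI := hV
    haveI : IsFinite ((⊤ : Z.Opens).ι ≫ q) := isFinite_top_ι_comp q
    have h1 := finrank_mono q (le_top : V ≤ ⊤) t
    have h2 := finrank_top_ι_comp q t
    omega
  · intro hd
    refine ⟨⊤, isFinite_top_ι_comp q, ?_⟩
    rw [finrank_top_ι_comp q t]
    exact hd

end Groth.Agent.Helper15.FibDeg
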