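import Mathlib
import Groth.Agent.Lib.Helper15.FibDeg1

/-!
# Finite pieces of a locally quasi-finite scheme over a field
-/

set_option autoImplicit false
universe u
open CategoryTheory CategoryTheory.Limits AlgebraicGeometry

namespace Groth.Agent.Helper15.FibDeg

section Field

variable {R : CommRingCat.{u}} (hR : IsField R) {Z : Scheme.{u}} (q : Z ⟶ Spec R)
include hR

theorem isLocallyArtinian_spec : IsLocallyArtinian (Spec R) := by
  rw [Scheme.isLocallyArtinianScheme_Spec]
  letI := hR.toField
  infer_instance

theorem isLocallyArtinian_of_lqf [LocallyQuasiFinite q] : IsLocallyArtinian Z := by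
  haveI := isLocallyArtinian_spec hR
  exact IsLocallyArtinian.of_locallyQuasiFinite q

theorem discreteTopology_of_lqf [LocallyQuasiFinite q] : DiscreteTopology Z := by
  haveI := isLocallyArtinian_of_lqf hR q
  infer_instance

omit hR in
/-- every subset of a discrete scheme as an open subscheme -/
def pieceOfSet {Z : Scheme.{u}} [DiscreteTopology Z] (F : Set Z) : Z.Opens := ⟨F, isOpen_discrete F⟩

omit hR in
@[simp] theorem mem_pieceOfSet {Z : Scheme.{u}} [DiscreteTopology Z] (F : Set Z) (z : Z) :
    z ∈ pieceOfSet F ↔ z ∈ F := Iff.rfl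

theorem isFinite_pieceOfSet [LocallyQuasiFinite q] [DiscreteTopology Z] (F : Set Z)
    (hF : F.Finite) : IsFinite ((pieceOfSet F).ι ≫ q) := by
  haveI := isLocallyArtinian_spec hR
  haveI : Finite ((pieceOfSet F : Z.Opens) : Scheme.{u}) := hF
  haveI : CompactSpace ((pieceOfSet F : Z.Opens) : Scheme.{u}) := Finite.compactSpace
  haveI : QuasiCompact ((pieceOfSet F).ι ≫ q) :=
    (HasAffineProperty.iff_of_isAffine (P := @QuasiCompact)).2 inferInstance
  exact IsFinite.of_locallyQuasiFinite _

/-- a piece finite over a field has finitely many points -/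
theorem finite_of_isFinite (V : Z.Opens) [IsFinite (V.ι ≫ q)] : (V : Set Z).Finite := by
  have h := (V.ι ≫ q).finite_preimage_singleton
  have hfin : (Set.univ : Set ((V : Z.Opens) : Scheme.{u})).Finite := by
    have huniv : (Set.univ : Set ((V : Z.Opens) : Scheme.{u})) =
        ⋃ t : Spec R, (V.ι ≫ q) ⁻¹' {t} := by
      ext x; simp
    haveI : Subsingleton (Spec R) := by
      change Subsingleton (PrimeSpectrum R)
      letI := hR.toField
      infer_instance
    haveI : Finite (Spec R) := Finite.of_subsingleton
    rw [huniv]
    exact Set.finite_iUnion fun t => h t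
  have : (V : Set Z) = V.ι '' Set.univ := by
    rw [Set.image_univ, Scheme.Opens.range_ι]
  rw [this]
  exact hfin.image _

theorem subsingleton_spec_field : Subsingleton (Spec R) := by
  change Subsingleton (PrimeSpectrum R)
  letI := hR.toField
  infer_instance

/-- the rank of a finite piece over a field is at least its number of points -/
theorem card_le_finrank [LocallyQuasiFinite q] [Flat q] [IsSeparated q] [LocallyOfFiniteType q]
    [DiscreteTopology Z] (F : Finset Z) (t : Spec R) :
    F.card ≤ ((pieceOfSet (F : Set Z)).ι ≫ q).finrank t := by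
  classical
  haveI := subsingleton_spec_field hR
  induction F using Finset.induction_on with
  | empty => simp
  | insert p F' hp IH =>
    haveI := isFinite_pieceOfSet hR q (F' : Set Z) F'.finite_toSet
    haveI := isFinite_pieceOfSet hR q ((insert p F' : Finset Z) : Set Z) (Finset.finite_toSet _)
    have hle : pieceOfSet (F' : Set Z) ≤ pieceOfSet ((insert p F' : Finset Z) : Set Z) := by
      intro z hz
      have hz' : z ∈ F' := hz
      exact Finset.mem_insert_of_mem hz'
    have h1 := finrank_succ_le q hle p (Finset.mem_insert_self p F') (fun h => hp h)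
    rw [Subsingleton.elim (q p) t] at h1
    rw [Finset.card_insert_of_notMem hp]
    omega

/-- descent of finite pieces along a field extension -/
theorem GeRank.of_field_ext [LocallyQuasiFinite q] [Flat q] [IsSeparated q] [LocallyOfFiniteType q]
    {R' : CommRingCat.{u}} (hR' : IsField R') {Z' : Scheme.{u}} {fst : Z' ⟶ Z} {snd : Z' ⟶ Spec R'}
    {g : Spec R' ⟶ Spec R} (sq : IsPullback fst snd q g)
    {t' : Spec R'} {t : Spec R} {d : ℕ}
    (h : GeRank snd t' d) : GeRank q t d := by
  haveI := subsingleton_spec_field hR
  haveI := discreteTopology_of_lqf hR q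
  haveI : Flat snd := MorphismProperty.of_isPullback (P := @Flat) sq inferInstance
  haveI : IsSeparated snd := MorphismProperty.of_isPullback (P := @IsSeparated) sq inferInstance
  haveI : LocallyOfFiniteType snd :=
    MorphismProperty.of_isPullback (P := @LocallyOfFiniteType) sq inferInstance
  obtain ⟨V', hV', hd⟩ := h
  haveI := hV'
  have hfin := finite_of_isFinite hR' snd V'
  let F : Set Z := fst '' (V' : Set Z')
  have hF : F.Finite := hfin.image _
  haveI := isFinite_pieceOfSet hR q F hF
  haveI := isFinite_preimage q sq (pieceOfSet F)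
  have hle : V' ≤ fst ⁻¹ᵁ (pieceOfSet F) := by
    intro z hz
    exact ⟨z, hz, rfl⟩
  have h1 := finrank_mono snd hle t'
  rw [finrank_preimage q sq (pieceOfSet F) t', Subsingleton.elim (g t') t] at h1
  exact ⟨pieceOfSet F, inferInstance, hd.trans h1⟩

end Field

end Groth.Agent.Helper15.FibDeg
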