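import Mathlib
import Groth.Agent.Lib.Helper15.FibDeg2

set_option autoImplicit false
universe u
open CategoryTheory CategoryTheory.Limits AlgebraicGeometry TopologicalSpace Opposite

namespace Groth.Agent.Helper15.FibDeg

/-- Restriction of global sections to a clopen subset is surjective. -/
theorem restrict_surjective_of_isCompl {Z : Scheme.{u}} (V W : Z.Opens) (hdisj : V ⊓ W = ⊥)
    (hcov : V ⊔ W = ⊤) :
    Function.Surjective (Z.presheaf.map (homOfLE (le_top : V ≤ ⊤)).op).hom := by
  intro s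
  let U : Bool → Opens Z := fun b => cond b V W
  let sf : ∀ b : Bool, ToType (Z.sheaf.1.obj (op (U b))) :=
    fun b => Bool.rec (motive := fun b => ToType (Z.sheaf.1.obj (op (U b))))
      (0 : Γ(Z, W)) (s : Γ(Z, V)) b
  have hcompat : TopCat.Presheaf.IsCompatible Z.sheaf.1 U sf := by
    intro i j
    cases i <;> cases j
    · rfl
    · haveI : Subsingleton (ToType (Z.sheaf.1.obj (op (U false ⊓ U true)))) := by
        have : U false ⊓ U true = ⊥ := by
          change W ⊓ V = ⊥
          rw [inf_comm]; exact hdisj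
        rw [this]
        exact inferInstanceAs (Subsingleton Γ(Z, ⊥))
      exact Subsingleton.elim _ _
    · haveI : Subsingleton (ToType (Z.sheaf.1.obj (op (U true ⊓ U false)))) := by
        have : U true ⊓ U false = ⊥ := hdisj
        rw [this]
        exact inferInstanceAs (Subsingleton Γ(Z, ⊥))
      exact Subsingleton.elim _ _
    · rfl
  have hcover : (⊤ : Opens Z) ≤ iSup U := by
    rw [← hcov]
    refine sup_le ?_ ?_
    · exact le_iSup U true
    · exact le_iSup U false
  obtain ⟨g, hg, -⟩ := Z.sheaf.existsUnique_gluing' U ⊤ (fun b => homOfLE le_top) hcover sf hcompat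
  exact ⟨g, hg true⟩

/-- The rank of a finite flat morphism to the spectrum of a field is the dimension of the ring
of global sections. -/
theorem finrank_eq_finrank_gamma {K : Type u} [Field K] {Y : Scheme.{u}}
    (π : Y ⟶ Spec (CommRingCat.of K)) [IsFinite π] [Flat π] (t : Spec (CommRingCat.of K)) :
    π.finrank t =
      (letI := ((Scheme.ΓSpecIso (CommRingCat.of K)).inv ≫ π.appTop).hom.toAlgebra
       Module.finrank K Γ(Y, ⊤)) := by
  haveI : IsAffine Y := isAffine_of_isAffineHom π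
  let φ : CommRingCat.of K ⟶ Γ(Y, ⊤) := (Scheme.ΓSpecIso (CommRingCat.of K)).inv ≫ π.appTop
  have hπ : π = Y.isoSpec.hom ≫ Spec.map φ := by
    change π = Y.toSpecΓ ≫ Spec.map ((Scheme.ΓSpecIso (CommRingCat.of K)).inv ≫ π.appTop)
    rw [Spec.map_comp, ← Scheme.toSpecΓ_naturality_assoc, toSpecΓ_SpecMap_ΓSpecIso_inv,
      Category.comp_id]
  have hfin : IsFinite (Spec.map φ) := by
    have : Spec.map φ = Y.isoSpec.inv ≫ π := by rw [hπ, Iso.inv_hom_id_assoc]
    rw [this]; infer_instance
  have hfl : Flat (Spec.map φ) := by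
    have : Spec.map φ = Y.isoSpec.inv ≫ π := by rw [hπ, Iso.inv_hom_id_assoc]
    rw [this]; infer_instance
  have hfinR := (IsFinite.SpecMap_iff φ).1 hfin
  have hflR := (Flat.SpecMap_iff).1 hfl
  have h1 : π.finrank t = (Spec.map φ).finrank t := by
    conv_lhs => rw [hπ]
    rw [Scheme.Hom.finrank_comp_left_of_isIso]
  rw [h1, Scheme.Hom.finrank_SpecMap_eq_finrank hfinR hflR]
  letI := φ.hom.toAlgebra
  change Module.rankAtStalk (R := K) Γ(Y, ⊤) t = Module.finrank K Γ(Y, ⊤)
  rw [Module.rankAtStalk_eq_finrank_of_free]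
  rfl

theorem module_finite_gamma {K : Type u} [Field K] {Y : Scheme.{u}}
    (π : Y ⟶ Spec (CommRingCat.of K)) [IsFinite π] :
    letI := ((Scheme.ΓSpecIso (CommRingCat.of K)).inv ≫ π.appTop).hom.toAlgebra
    Module.Finite K Γ(Y, ⊤) := by
  haveI : IsAffine Y := isAffine_of_isAffineHom π
  let φ : CommRingCat.of K ⟶ Γ(Y, ⊤) := (Scheme.ΓSpecIso (CommRingCat.of K)).inv ≫ π.appTop
  have hπ : π = Y.isoSpec.hom ≫ Spec.map φ := by
    change π = Y.toSpecΓ ≫ Spec.map ((Scheme.ΓSpecIso (CommRingCat.of K)).inv ≫ π.appTop)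
    rw [Spec.map_comp, ← Scheme.toSpecΓ_naturality_assoc, toSpecΓ_SpecMap_ΓSpecIso_inv,
      Category.comp_id]
  have hfin : IsFinite (Spec.map φ) := by
    have : Spec.map φ = Y.isoSpec.inv ≫ π := by rw [hπ, Iso.inv_hom_id_assoc]
    rw [this]; infer_instance
  exact (IsFinite.SpecMap_iff φ).1 hfin

section Rank

variable {K : Type u} [Field K] {Z : Scheme.{u}} (q : Z ⟶ Spec (CommRingCat.of K))

theorem le_rank_of_geRank [Flat q] [IsSeparated q]
    (t : Spec (CommRingCat.of K)) (d : ℕ) (h : GeRank q t d) :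
    (d : Cardinal.{u}) ≤
      (letI := ((Scheme.ΓSpecIso (CommRingCat.of K)).inv ≫ q.appTop).hom.toAlgebra
       Module.rank K Γ(Z, ⊤)) := by
  obtain ⟨V, hV, hd⟩ := h
  haveI := hV
  letI algZ : Algebra K Γ(Z, ⊤) :=
    ((Scheme.ΓSpecIso (CommRingCat.of K)).inv ≫ q.appTop).hom.toAlgebra
  letI algV : Algebra K Γ(V, ⊤) :=
    ((Scheme.ΓSpecIso (CommRingCat.of K)).inv ≫ (V.ι ≫ q).appTop).hom.toAlgebra
  change (d : Cardinal.{u}) ≤ Module.rank K Γ(Z, ⊤)
  rw [finrank_eq_finrank_gamma (V.ι ≫ q) t] at hd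
  change d ≤ Module.finrank K Γ(V, ⊤) at hd
  rcases Nat.eq_zero_or_pos d with h0 | hpos
  · subst h0; simp
  haveI : Module.Finite K Γ(V, ⊤) := Module.finite_of_finrank_pos (lt_of_lt_of_le hpos hd)
  -- the restriction map
  have hclosed := isClosed_of_isFinite q V
  let W : Z.Opens := ⟨(V : Set Z)ᶜ, hclosed.isOpen_compl⟩
  have himg : V.ι ''ᵁ ⊤ = V := Scheme.Opens.ι_image_top V
  have hsurj : Function.Surjective (V.ι.appTop).hom := by
    rw [Scheme.Opens.ι_appTop]
    refine restrict_surjective_of_isCompl (V.ι ''ᵁ ⊤) W ?_ ?_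
    · rw [himg]
      ext x
      constructor
      · rintro ⟨h1, h2⟩; exact absurd h1 h2
      · intro hx; exact absurd hx (by simp)
    · rw [himg]
      ext x
      constructor
      · intro _; trivial
      · intro _
        by_cases hx : x ∈ V
        · exact Or.inl hx
        · exact Or.inr hx
  have halg : ∀ c : K, (V.ι.appTop).hom (algebraMap K Γ(Z, ⊤) c) = algebraMap K Γ(V, ⊤) c := by
    intro c
    change (V.ι.appTop).hom (((Scheme.ΓSpecIso (CommRingCat.of K)).inv ≫ q.appTop).hom c) =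
      ((Scheme.ΓSpecIso (CommRingCat.of K)).inv ≫ (V.ι ≫ q).appTop).hom c
    rw [Scheme.Hom.comp_appTop]
    rfl
  let ρ : Γ(Z, ⊤) →ₗ[K] Γ(V, ⊤) :=
    { toFun := (V.ι.appTop).hom
      map_add' := map_add _
      map_smul' := by
        intro c x
        rw [Algebra.smul_def, map_mul, halg, RingHom.id_apply, Algebra.smul_def] }
  have h1 : Module.rank K Γ(V, ⊤) ≤ Module.rank K Γ(Z, ⊤) :=
    LinearMap.rank_le_of_surjective ρ hsurj
  have h2 : (Module.finrank K Γ(V, ⊤) : Cardinal.{u}) = Module.rank K Γ(V, ⊤) :=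
    Module.finrank_eq_rank K _
  calc (d : Cardinal.{u}) ≤ (Module.finrank K Γ(V, ⊤) : Cardinal.{u}) := by exact_mod_cast hd
    _ = Module.rank K Γ(V, ⊤) := h2
    _ ≤ _ := h1

theorem geRank_of_le_rank [LocallyQuasiFinite q] [Flat q] [IsSeparated q] [LocallyOfFiniteType q]
    (t : Spec (CommRingCat.of K)) (d : ℕ)
    (h : (d : Cardinal.{u}) ≤
      (letI := ((Scheme.ΓSpecIso (CommRingCat.of K)).inv ≫ q.appTop).hom.toAlgebra
       Module.rank K Γ(Z, ⊤))) : GeRank q t d := by
  classical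
  have hK : IsField (CommRingCat.of K) := Field.toIsField K
  haveI := discreteTopology_of_lqf hK q
  by_cases hfin : Finite Z
  · haveI : CompactSpace Z := Finite.compactSpace
    haveI : QuasiCompact q :=
      (HasAffineProperty.iff_of_isAffine (P := @QuasiCompact)).2 inferInstance
    haveI : IsLocallyArtinian (Spec (CommRingCat.of K)) := by
      rw [Scheme.isLocallyArtinianScheme_Spec]
      change IsArtinianRing K
      infer_instance
    haveI : IsFinite q := IsFinite.of_locallyQuasiFinite q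
    rw [geRank_iff_of_isFinite, finrank_eq_finrank_gamma q t]
    letI algZ : Algebra K Γ(Z, ⊤) :=
      ((Scheme.ΓSpecIso (CommRingCat.of K)).inv ≫ q.appTop).hom.toAlgebra
    haveI : Module.Finite K Γ(Z, ⊤) := module_finite_gamma q
    change (d : Cardinal.{u}) ≤ Module.rank K Γ(Z, ⊤) at h
    change d ≤ Module.finrank K Γ(Z, ⊤)
    rw [← Module.finrank_eq_rank K] at h
    exact_mod_cast h
  · rw [not_finite_iff_infinite] at hfin
    obtain ⟨F, hF⟩ := Infinite.exists_subset_card_eq Z d
    haveI := isFinite_pieceOfSet hK q (F : Set Z) F.finite_toSet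
    exact ⟨pieceOfSet (F : Set Z), inferInstance, hF ▸ card_le_finrank hK q F t⟩

end Rank

end Groth.Agent.Helper15.FibDeg
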