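import Mathlib
import Groth.Agent.Lib.Helper15.FibDeg3

/-!
# The fibre degree of a flat separated locally quasi-finite morphism
-/

set_option autoImplicit false
universe u
open CategoryTheory CategoryTheory.Limits AlgebraicGeometry

namespace Groth.Agent.Helper15.FibDeg

variable {X S : Scheme.{u}} (f : X ⟶ S)

/-- The fibre of `f` over `s` has a finite open piece of rank at least `d`. -/
def GeDeg (s : S) (d : ℕ) : Prop :=
  ∃ t : Spec (S.residueField s), GeRank (f.fiberToSpecResidueField s) t d

theorem isField_residueField (s : S) : IsField (S.residueField s) :=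
  Field.toIsField _

theorem exists_factor {R : CommRingCat.{u}} (hR : IsField R) (g : Spec R ⟶ S) (t : Spec R) :
    ∃ φ : S.residueField (g t) ⟶ R, g = Spec.map φ ≫ S.fromSpecResidueField (g t) := by
  letI := hR.toField
  haveI := subsingleton_spec_field hR
  let g' : Spec (CommRingCat.of R) ⟶ S := g
  obtain rfl : t = IsLocalRing.closedPoint R := Subsingleton.elim _ _
  refine ⟨Scheme.descResidueField (Scheme.stalkClosedPointTo g'), ?_⟩
  exact (Scheme.descResidueField_stalkClosedPointTo_fromSpecResidueField R S g').symm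

/-- Independence of the field-valued point. -/
theorem geRank_iff_geDeg [Flat f] [IsSeparated f] [LocallyOfFiniteType f] [LocallyQuasiFinite f]
    {R : CommRingCat.{u}} (hR : IsField R) (g : Spec R ⟶ S) (t : Spec R) {s : S} (hg : g t = s)
    {Z : Scheme.{u}} {a : Z ⟶ X} {b : Z ⟶ Spec R} (sq : IsPullback a b f g) (d : ℕ) :
    GeRank b t d ↔ GeDeg f s d := by
  subst hg
  obtain ⟨φ, hφ⟩ := exists_factor hR g t
  have hκ := isField_residueField (g t)
  haveI := subsingleton_spec_field hκ
  -- the comparison map to the fibre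
  let c : Z ⟶ f.fiber (g t) := pullback.lift a (b ≫ Spec.map φ) (by
    rw [sq.w, Category.assoc]
    congr 1)
  have hc1 : c ≫ f.fiberι (g t) = a := pullback.lift_fst _ _ _
  have hc2 : c ≫ f.fiberToSpecResidueField (g t) = b ≫ Spec.map φ := pullback.lift_snd _ _ _
  have sqfib : IsPullback (f.fiberι (g t)) (f.fiberToSpecResidueField (g t)) f
      (S.fromSpecResidueField (g t)) := IsPullback.of_hasPullback _ _
  have sqc : IsPullback c b (f.fiberToSpecResidueField (g t)) (Spec.map φ) := by
    refine IsPullback.of_right ?_ hc2 sqfib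
    rw [hc1, ← hφ]
    exact sq
  haveI : Flat (f.fiberToSpecResidueField (g t)) :=
    MorphismProperty.of_isPullback (P := @Flat) sqfib inferInstance
  haveI : IsSeparated (f.fiberToSpecResidueField (g t)) :=
    MorphismProperty.of_isPullback (P := @IsSeparated) sqfib inferInstance
  haveI : LocallyOfFiniteType (f.fiberToSpecResidueField (g t)) :=
    MorphismProperty.of_isPullback (P := @LocallyOfFiniteType) sqfib inferInstance
  haveI : LocallyQuasiFinite (f.fiberToSpecResidueField (g t)) :=
    MorphismProperty.of_isPullback (P := @LocallyQuasiFinite) sqfib inferInstance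
  constructor
  · intro h
    exact ⟨Spec.map φ t, GeRank.of_field_ext hκ _ hR sqc h⟩
  · rintro ⟨t₀, h⟩
    refine GeRank.of_isPullback sqc ?_
    rw [Subsingleton.elim (Spec.map φ t) t₀]
    exact h

theorem GeDeg.mono {f : X ⟶ S} {s : S} {d e : ℕ} (h : GeDeg f s d) (hed : e ≤ d) : GeDeg f s e := by
  obtain ⟨t, ht⟩ := h
  exact ⟨t, ht.mono hed⟩

theorem nonempty_spec_residueField (s : S) : Nonempty (Spec (S.residueField s)) := by
  change Nonempty (PrimeSpectrum (S.residueField s))
  infer_instance

theorem geDeg_zero (s : S) : GeDeg f s 0 := by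
  obtain ⟨t⟩ := nonempty_spec_residueField s
  exact ⟨t, geRank_zero _ _⟩

/-- Compatibility of the fibre degree with base change. -/
theorem geDeg_baseChange [Flat f] [IsSeparated f] [LocallyOfFiniteType f] [LocallyQuasiFinite f]
    {T XT : Scheme.{u}} {g : T ⟶ S} {fst : XT ⟶ X} {snd : XT ⟶ T} (sq : IsPullback fst snd f g)
    (t : T) (d : ℕ) : GeDeg snd t d ↔ GeDeg f (g t) d := by
  have sqfib : IsPullback (snd.fiberι t) (snd.fiberToSpecResidueField t) snd
      (T.fromSpecResidueField t) := IsPullback.of_hasPullback _ _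
  have sqbig := sqfib.paste_horiz sq
  have hκ := isField_residueField t
  constructor
  · rintro ⟨t₀, h⟩
    exact (geRank_iff_geDeg f hκ (T.fromSpecResidueField t ≫ g) t₀ (by simp) sqbig d).1 h
  · intro h
    obtain ⟨t₀⟩ := nonempty_spec_residueField t
    exact ⟨t₀, (geRank_iff_geDeg f hκ (T.fromSpecResidueField t ≫ g) t₀ (by simp) sqbig d).2 h⟩

/-- For a finite flat morphism the fibre degree is the rank. -/
theorem geDeg_iff_of_isFinite [Flat f] [IsFinite f] (s : S) (d : ℕ) :
    GeDeg f s d ↔ d ≤ f.finrank s := by
  have sqfib : IsPullback (f.fiberι s) (f.fiberToSpecResidueField s) f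
      (S.fromSpecResidueField s) := IsPullback.of_hasPullback _ _
  haveI : Flat (f.fiberToSpecResidueField s) :=
    MorphismProperty.of_isPullback (P := @Flat) sqfib inferInstance
  haveI : IsFinite (f.fiberToSpecResidueField s) :=
    MorphismProperty.of_isPullback (P := @IsFinite) sqfib inferInstance
  have key : ∀ t₀ : Spec (S.residueField s),
      (f.fiberToSpecResidueField s).finrank t₀ = f.finrank s := by
    intro t₀
    rw [Scheme.Hom.finrank_of_isPullback _ _ _ _ sqfib t₀, Scheme.fromSpecResidueField_apply]
  constructor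
  · rintro ⟨t₀, h⟩
    rw [geRank_iff_of_isFinite, key] at h
    exact h
  · intro h
    obtain ⟨t₀⟩ := nonempty_spec_residueField s
    refine ⟨t₀, ?_⟩
    rw [geRank_iff_of_isFinite, key]
    exact h

end Groth.Agent.Helper15.FibDeg
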