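import Groth.Agent.Lib.Helper15.QfMulti2

/-!
# Étale-local splitting at finitely many quasi-finite points (schemes)
-/

set_option autoImplicit false
universe u
open CategoryTheory CategoryTheory.Limits AlgebraicGeometry TensorProduct

namespace Groth.Agent.Helper15.QfMulti

/-- A union of two open subschemes finite over the base is finite over the base (for a separated,
locally quasi-finite morphism locally of finite type). -/
theorem isFinite_sup {Z B : Scheme.{u}} (q : Z ⟶ B) [IsSeparated q] [LocallyOfFiniteType q]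
    [LocallyQuasiFinite q] (A₁ A₂ : Z.Opens) [IsFinite (A₁.ι ≫ q)] [IsFinite (A₂.ι ≫ q)] :
    IsFinite ((A₁ ⊔ A₂).ι ≫ q) := by
  let A := A₁ ⊔ A₂
  let c : (A₁ : Scheme.{u}) ⨿ (A₂ : Scheme.{u}) ⟶ A :=
    coprod.desc (Z.homOfLE le_sup_left) (Z.homOfLE le_sup_right)
  have hc : c ≫ (A.ι ≫ q) = coprod.desc (A₁.ι ≫ q) (A₂.ι ≫ q) := by
    apply coprod.hom_ext
    · simp [c, A]
    · simp [c, A]
  haveI hfin : IsFinite (c ≫ (A.ι ≫ q)) := by rw [hc]; infer_instance
  haveI : Surjective c := ⟨fun a => by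
    rcases a.2 with h | h
    · refine ⟨(coprod.inl : (A₁ : Scheme.{u}) ⟶ _) ⟨a.1, h⟩, ?_⟩
      rw [← Scheme.Hom.comp_apply, coprod.inl_desc]
      apply Subtype.ext
      simp
    · refine ⟨(coprod.inr : (A₂ : Scheme.{u}) ⟶ _) ⟨a.1, h⟩, ?_⟩
      rw [← Scheme.Hom.comp_apply, coprod.inr_desc]
      apply Subtype.ext
      simp⟩
  haveI : UniversallyClosed (A.ι ≫ q) := UniversallyClosed.of_comp_surjective c _
  haveI : QuasiCompact (A.ι ≫ q) := ⟨fun U hU hU' => by
    have h1 : IsCompact ((c ≫ (A.ι ≫ q)) ⁻¹' U) :=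
      (inferInstance : QuasiCompact (c ≫ (A.ι ≫ q))).isCompact_preimage U hU hU'
    have h2 : (A.ι ≫ q) ⁻¹' U = c '' ((c ≫ (A.ι ≫ q)) ⁻¹' U) := by
      ext a
      constructor
      · intro ha
        obtain ⟨b, rfl⟩ := (inferInstance : Surjective c).surj a
        exact ⟨b, by simpa using ha, rfl⟩
      · rintro ⟨b, hb, rfl⟩
        simpa using hb
    rw [h2]
    exact h1.image c.continuous⟩
  haveI : IsProper (A.ι ≫ q) := {}
  exact IsFinite.of_isProper_of_locallyQuasiFinite _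

theorem exists_split {E T : Scheme.{u}} (φ : E ⟶ T) [IsSeparated φ] [LocallyOfFiniteType φ]
    [LocallyQuasiFinite φ] (t : T) (F : Finset E) (hF : ∀ x ∈ F, φ x = t) :
    ∃ (T₁ : Scheme.{u}) (g : T₁ ⟶ T) (t₁ : T₁), Etale g ∧ g t₁ = t ∧ FibInj g t₁ ∧
      ∃ (E₁ : Scheme.{u}) (p₁ : E₁ ⟶ E) (p₂ : E₁ ⟶ T₁), IsPullback p₁ p₂ φ g ∧
      ∃ V : E₁.Opens, IsClosed (V : Set E₁) ∧ IsFinite (V.ι ≫ p₂) ∧
        ∀ p : E₁, p₂ p = t₁ → (p ∈ V ↔ p₁ p ∈ F) := by
  classical
  induction F using Finset.induction_on with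
  | empty =>
    refine ⟨T, 𝟙 T, t, inferInstance, rfl, fibInj_of_isOpenImmersion _ _, E, 𝟙 E, φ,
      IsPullback.id_horiz φ, ⊥, by simp, ?_, fun p _ => by simp⟩
    haveI : IsEmpty ((⊥ : E.Opens) : Scheme.{u}) := by
      change IsEmpty ((⊥ : E.Opens) : Set E)
      simp
    infer_instance
  | insert x F' hx IH =>
    obtain ⟨T₁, g₁, t₁, hg₁, hgt₁, hfib₁, E₁, p₁, p₂, sq₁, V₁, hV₁c, hV₁f, hV₁⟩ :=
      IH (fun y hy => hF y (Finset.mem_insert_of_mem hy))
    haveI := hg₁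
    haveI := hV₁f
    have hxt : φ x = g₁ t₁ := by rw [hgt₁]; exact hF x (Finset.mem_insert_self _ _)
    obtain ⟨x', hx'1, hx'2⟩ := Scheme.exists_preimage_of_isPullback sq₁ x t₁ hxt
    haveI : IsSeparated p₂ := MorphismProperty.of_isPullback (P := @IsSeparated) sq₁ inferInstance
    haveI : LocallyOfFiniteType p₂ :=
      MorphismProperty.of_isPullback (P := @LocallyOfFiniteType) sq₁ inferInstance
    haveI : LocallyQuasiFinite p₂ :=
      MorphismProperty.of_isPullback (P := @LocallyQuasiFinite) sq₁ inferInstance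
    obtain ⟨T₂, g₂, t₂, hg₂, hgt₂, hfib₂, V₂, W₂, v₂, hcompl, hfin₂, hv₂1, hv₂2, huniq⟩ :=
      exists_etale_isCompl_unique p₂ hx'2 (p₂.quasiFiniteAt x')
    haveI := hg₂
    haveI := hfin₂
    have sq₂ := IsPullback.of_hasPullback p₂ g₂
    haveI : IsSeparated (pullback.snd p₂ g₂) :=
      MorphismProperty.of_isPullback (P := @IsSeparated) sq₂ inferInstance
    haveI : LocallyOfFiniteType (pullback.snd p₂ g₂) :=
      MorphismProperty.of_isPullback (P := @LocallyOfFiniteType) sq₂ inferInstance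
    haveI : LocallyQuasiFinite (pullback.snd p₂ g₂) :=
      MorphismProperty.of_isPullback (P := @LocallyQuasiFinite) sq₂ inferInstance
    have hV₂closed : IsClosed (V₂ : Set ↑(pullback p₂ g₂)) := by
      have : (V₂ : Set ↑(pullback p₂ g₂)) = (↑W₂)ᶜ :=
        eq_compl_iff_isCompl.mpr (hcompl.map TopologicalSpace.Opens.frameHom)
      rw [this]
      exact W₂.2.isClosed_compl
    haveI : IsFinite (((pullback.fst p₂ g₂) ⁻¹ᵁ V₁).ι ≫ pullback.snd p₂ g₂) := by
      have h1 := (isPullback_morphismRestrict (pullback.fst p₂ g₂) V₁).paste_vert sq₂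
      exact MorphismProperty.of_isPullback (P := @IsFinite) h1 hV₁f
    refine ⟨T₂, g₂ ≫ g₁, t₂, inferInstance, ?_, hfib₂.comp hfib₁ hgt₂, pullback p₂ g₂,
      pullback.fst p₂ g₂ ≫ p₁, pullback.snd p₂ g₂, sq₂.paste_horiz sq₁,
      (pullback.fst p₂ g₂) ⁻¹ᵁ V₁ ⊔ V₂, ?_, isFinite_sup _ _ _, ?_⟩
    · rw [Scheme.Hom.comp_apply, hgt₂, hgt₁]
    · rw [TopologicalSpace.Opens.coe_sup]
      exact (hV₁c.preimage (pullback.fst p₂ g₂).continuous).union hV₂closed
    · intro p hp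
      have hp1 : p₂ (pullback.fst p₂ g₂ p) = t₁ := by
        rw [← Scheme.Hom.comp_apply, pullback.condition, Scheme.Hom.comp_apply, hp, hgt₂]
      have e1 : p ∈ (pullback.fst p₂ g₂) ⁻¹ᵁ V₁ ↔ p₁ (pullback.fst p₂ g₂ p) ∈ F' :=
        hV₁ _ hp1
      have e2 : p ∈ V₂ ↔ p₁ (pullback.fst p₂ g₂ p) = x := by
        constructor
        · intro hpV
          rw [huniq p hpV hp, hv₂1, hx'1]
        · intro hpx
          have h3 : pullback.fst p₂ g₂ p = x' :=
            hfib₁ φ p₁ p₂ sq₁ _ _ hp1 hx'2 (by rw [hpx, hx'1])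
          have h4 : p = v₂.1 := hfib₂ p₂ _ _ sq₂ p v₂.1 hp hv₂2 (by rw [h3, hv₂1])
          rw [h4]
          exact v₂.2
      change p ∈ ((pullback.fst p₂ g₂) ⁻¹ᵁ V₁ ⊔ V₂ : (pullback p₂ g₂).Opens) ↔
        p₁ (pullback.fst p₂ g₂ p) ∈ insert x F'
      rw [Finset.mem_insert, ← e1, ← e2]
      constructor
      · rintro (h | h)
        · exact Or.inr h
        · exact Or.inl h
      · rintro (h | h)
        · exact Or.inr h
        · exact Or.inl h

end Groth.Agent.Helper15.QfMulti
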