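import Mathlib
import Groth.Agent.Lib.Helper15.FibDeg4
import Groth.Agent.Lib.Helper15.QfMulti3

/-!
# Openness of the loci where the fibre degree is at least `d`
-/

set_option autoImplicit false
universe u
open CategoryTheory CategoryTheory.Limits AlgebraicGeometry

namespace Groth.Agent.Helper15.FibDeg

variable {X S : Scheme.{u}} (f : X ⟶ S)

theorem exists_fiber_comparison {R : CommRingCat.{u}} (hR : IsField R) (g : Spec R ⟶ S) (t : Spec R)
    {s : S} (hg : g t = s) {Z : Scheme.{u}} {a : Z ⟶ X} {b : Z ⟶ Spec R}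
    (sq : IsPullback a b f g) :
    ∃ (φ : S.residueField s ⟶ R) (c : Z ⟶ f.fiber s), c ≫ f.fiberι s = a ∧
      IsPullback c b (f.fiberToSpecResidueField s) (Spec.map φ) := by
  subst hg
  obtain ⟨φ, hφ⟩ := exists_factor hR g t
  let c : Z ⟶ f.fiber (g t) := pullback.lift a (b ≫ Spec.map φ) (by
    rw [sq.w, Category.assoc]
    congr 1)
  have hc1 : c ≫ f.fiberι (g t) = a := pullback.lift_fst _ _ _
  have hc2 : c ≫ f.fiberToSpecResidueField (g t) = b ≫ Spec.map φ := pullback.lift_snd _ _ _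
  have sqfib : IsPullback (f.fiberι (g t)) (f.fiberToSpecResidueField (g t)) f
      (S.fromSpecResidueField (g t)) := IsPullback.of_hasPullback _ _
  refine ⟨φ, c, hc1, ?_⟩
  refine IsPullback.of_right ?_ hc2 sqfib
  rw [hc1, ← hφ]
  exact sq

variable [Flat f] [IsSeparated f] [LocallyOfFiniteType f] [LocallyQuasiFinite f]

theorem fiber_instances (s : S) :
    Flat (f.fiberToSpecResidueField s) ∧ IsSeparated (f.fiberToSpecResidueField s) ∧
    LocallyOfFiniteType (f.fiberToSpecResidueField s) ∧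
    LocallyQuasiFinite (f.fiberToSpecResidueField s) := by
  have sqfib : IsPullback (f.fiberι s) (f.fiberToSpecResidueField s) f
      (S.fromSpecResidueField s) := IsPullback.of_hasPullback _ _
  exact ⟨MorphismProperty.of_isPullback (P := @Flat) sqfib inferInstance,
    MorphismProperty.of_isPullback (P := @IsSeparated) sqfib inferInstance,
    MorphismProperty.of_isPullback (P := @LocallyOfFiniteType) sqfib inferInstance,
    MorphismProperty.of_isPullback (P := @LocallyQuasiFinite) sqfib inferInstance⟩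

/-- Local structure: a finite piece `Vs` of the fibre over `s` spreads out, after an étale base
change `(T₁, t₁) ⟶ (S, s)`, to a clopen piece `V` finite over `T₁`, of rank at `t₁` at least the rank
of `Vs`; moreover the points of `V` over `t₁` are exactly those mapping into the image of `Vs`. -/
theorem exists_local_piece (s : S) (Vs : (f.fiber s).Opens)
    [IsFinite (Vs.ι ≫ f.fiberToSpecResidueField s)] (t₀ : Spec (S.residueField s)) :
    ∃ (T₁ : Scheme.{u}) (g : T₁ ⟶ S) (t₁ : T₁), Etale g ∧ g t₁ = s ∧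
      ∃ (E₁ : Scheme.{u}) (p₁ : E₁ ⟶ X) (p₂ : E₁ ⟶ T₁), IsPullback p₁ p₂ f g ∧
      ∃ V : E₁.Opens, IsFinite (V.ι ≫ p₂) ∧
        (∀ p : E₁, p₂ p = t₁ → (p ∈ V ↔ p₁ p ∈ f.fiberι s '' (Vs : Set (f.fiber s)))) ∧
        (Vs.ι ≫ f.fiberToSpecResidueField s).finrank t₀ ≤ (V.ι ≫ p₂).finrank t₁ := by
  classical
  obtain ⟨i1, i2, i3, i4⟩ := fiber_instances f s
  have hκ := isField_residueField s
  haveI := subsingleton_spec_field hκ
  have hfin := finite_of_isFinite hκ (f.fiberToSpecResidueField s) Vs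
  have hFfin : (f.fiberι s '' (Vs : Set (f.fiber s))).Finite := hfin.image _
  let F : Finset X := hFfin.toFinset
  have hF : ∀ x ∈ F, f x = s := by
    intro x hx
    rw [Set.Finite.mem_toFinset] at hx
    obtain ⟨z, -, rfl⟩ := hx
    have : f.fiberι s z ∈ Set.range (f.fiberι s) := ⟨z, rfl⟩
    rw [Scheme.Hom.range_fiberι] at this
    exact this
  obtain ⟨T₁, g, t₁, hget, hgt, -, E₁, p₁, p₂, sq, V, -, hVfin, hVchar⟩ :=
    QfMulti.exists_split f s F hF
  haveI := hVfin
  haveI : Flat p₂ := MorphismProperty.of_isPullback (P := @Flat) sq inferInstance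
  haveI : IsSeparated p₂ := MorphismProperty.of_isPullback (P := @IsSeparated) sq inferInstance
  haveI : LocallyOfFiniteType p₂ :=
    MorphismProperty.of_isPullback (P := @LocallyOfFiniteType) sq inferInstance
  haveI : LocallyQuasiFinite p₂ :=
    MorphismProperty.of_isPullback (P := @LocallyQuasiFinite) sq inferInstance
  have hVchar' : ∀ p : E₁, p₂ p = t₁ →
      (p ∈ V ↔ p₁ p ∈ f.fiberι s '' (Vs : Set (f.fiber s))) := by
    intro p hp
    rw [hVchar p hp, Set.Finite.mem_toFinset]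
  refine ⟨T₁, g, t₁, hget, hgt, E₁, p₁, p₂, sq, V, hVfin, hVchar', ?_⟩
  -- the rank estimate
  have hκ₁ := isField_residueField t₁
  haveI := subsingleton_spec_field hκ₁
  obtain ⟨j1, j2, j3, j4⟩ := fiber_instances p₂ t₁
  have sqfib₁ : IsPullback (p₂.fiberι t₁) (p₂.fiberToSpecResidueField t₁) p₂
      (T₁.fromSpecResidueField t₁) := IsPullback.of_hasPullback _ _
  have sqbig := sqfib₁.paste_horiz sq
  obtain ⟨t₀'⟩ := nonempty_spec_residueField t₁
  have hpt : (T₁.fromSpecResidueField t₁ ≫ g) t₀' = s := by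
    rw [Scheme.Hom.comp_apply, Scheme.fromSpecResidueField_apply, hgt]
  obtain ⟨φ, c, hc1, sqc⟩ := exists_fiber_comparison f hκ₁ _ t₀' hpt sqbig
  -- the two pieces of the fibre over `t₁`
  haveI : IsFinite ((c ⁻¹ᵁ Vs).ι ≫ p₂.fiberToSpecResidueField t₁) :=
    isFinite_preimage _ sqc Vs
  haveI : IsFinite (((p₂.fiberι t₁) ⁻¹ᵁ V).ι ≫ p₂.fiberToSpecResidueField t₁) :=
    isFinite_preimage _ sqfib₁ V
  have h1 := finrank_preimage _ sqc Vs t₀'
  have h2 := finrank_preimage _ sqfib₁ V t₀'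
  rw [Scheme.fromSpecResidueField_apply] at h2
  rw [Subsingleton.elim (Spec.map φ t₀') t₀] at h1
  have hle : c ⁻¹ᵁ Vs ≤ (p₂.fiberι t₁) ⁻¹ᵁ V := by
    intro z hz
    have hz' : c z ∈ Vs := hz
    change p₂.fiberι t₁ z ∈ V
    have hp2 : p₂ (p₂.fiberι t₁ z) = t₁ := by
      have : p₂.fiberι t₁ z ∈ Set.range (p₂.fiberι t₁) := ⟨z, rfl⟩
      rw [Scheme.Hom.range_fiberι] at this
      exact this
    rw [hVchar' _ hp2]
    refine ⟨c z, hz', ?_⟩
    rw [← Scheme.Hom.comp_apply, hc1, Scheme.Hom.comp_apply]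
  have h3 := finrank_mono (p₂.fiberToSpecResidueField t₁) hle t₀'
  omega

omit [IsSeparated f] [LocallyOfFiniteType f] [LocallyQuasiFinite f] in
/-- A finite piece of rank `≥ d` at `t` gives fibre degree `≥ d` at `t`. -/
theorem GeRank.geDeg {s : S} {d : ℕ} (h : GeRank f s d) : GeDeg f s d := by
  obtain ⟨V, hV, hd⟩ := h
  haveI := hV
  have sqfib : IsPullback (f.fiberι s) (f.fiberToSpecResidueField s) f
      (S.fromSpecResidueField s) := IsPullback.of_hasPullback _ _
  obtain ⟨t₀⟩ := nonempty_spec_residueField s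
  refine ⟨t₀, (f.fiberι s) ⁻¹ᵁ V, isFinite_preimage _ sqfib V, ?_⟩
  rw [finrank_preimage _ sqfib V t₀, Scheme.fromSpecResidueField_apply]
  exact hd

theorem isOpen_geDeg [LocallyOfFinitePresentation f] (d : ℕ) : IsOpen {s : S | GeDeg f s d} := by
  rw [isOpen_iff_forall_mem_open]
  rintro s ⟨t₀, Vs, hVs, hd⟩
  haveI := hVs
  obtain ⟨T₁, g, t₁, hget, hgt, E₁, p₁, p₂, sq, V, hVfin, -, hrank⟩ :=
    exists_local_piece f s Vs t₀
  haveI := hVfin
  haveI := hget
  haveI : Flat p₂ := MorphismProperty.of_isPullback (P := @Flat) sq inferInstance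
  haveI : IsSeparated p₂ := MorphismProperty.of_isPullback (P := @IsSeparated) sq inferInstance
  haveI : LocallyOfFiniteType p₂ :=
    MorphismProperty.of_isPullback (P := @LocallyOfFiniteType) sq inferInstance
  haveI : LocallyQuasiFinite p₂ :=
    MorphismProperty.of_isPullback (P := @LocallyQuasiFinite) sq inferInstance
  haveI : LocallyOfFinitePresentation p₂ :=
    MorphismProperty.of_isPullback (P := @LocallyOfFinitePresentation) sq inferInstance
  have hlc := Scheme.Hom.isLocallyConstant_finrank (V.ι ≫ p₂)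
  refine ⟨g '' {t | d ≤ (V.ι ≫ p₂).finrank t}, ?_, ?_, ?_⟩
  · rintro _ ⟨t, ht, rfl⟩
    have h1 : GeRank p₂ t d := ⟨V, hVfin, ht⟩
    exact (geDeg_baseChange f sq t d).1 (GeRank.geDeg p₂ h1)
  · exact g.isOpenMap _ (hlc {n | d ≤ n})
  · exact ⟨t₁, hd.trans hrank, hgt⟩

end Groth.Agent.Helper15.FibDeg
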