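import Mathlib
import Groth.Agent.Lib.Helper15.FibDeg5
import Groth.Agent.Lib.Helper15.AlgSpDescent

/-!
# Constant fibre degree implies finite locally free
-/

set_option autoImplicit false
universe u
open CategoryTheory CategoryTheory.Limits AlgebraicGeometry

namespace Groth.Agent.Helper15.FibDeg

/-- If a finite piece contains every point, the morphism is finite. -/
theorem isFinite_of_forall_mem {Z T : Scheme.{u}} (q : Z ⟶ T) (V : Z.Opens)
    [IsFinite (V.ι ≫ q)] (h : ∀ p : Z, p ∈ V) : IsFinite q := by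
  have hV : V = ⊤ := by
    ext p
    exact ⟨fun _ => trivial, fun _ => h p⟩
  subst hV
  have : q = Z.topIso.inv ≫ (⊤ : Z.Opens).ι ≫ q := by
    have h1 : (⊤ : Z.Opens).ι = Z.topIso.hom := rfl
    rw [h1, Iso.inv_hom_id_assoc]
  rw [this]
  infer_instance

/-- If a finite piece has rank `r` at `t` and the fibre degree at `t` is not `≥ r + 1`, the piece
contains the whole fibre over `t`. -/
theorem mem_of_not_geDeg {Z T : Scheme.{u}} (q : Z ⟶ T) [Flat q] [IsSeparated q]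
    [LocallyOfFiniteType q] [LocallyQuasiFinite q] (V : Z.Opens) [IsFinite (V.ι ≫ q)] (p : Z)
    (hn : ¬ GeDeg q (q p) ((V.ι ≫ q).finrank (q p) + 1)) : p ∈ V := by
  classical
  by_contra hpV
  apply hn
  obtain ⟨i1, i2, i3, i4⟩ := fiber_instances q (q p)
  have hκ := isField_residueField (q p)
  haveI := subsingleton_spec_field hκ
  haveI := discreteTopology_of_lqf hκ (q.fiberToSpecResidueField (q p))
  have sqfib : IsPullback (q.fiberι (q p)) (q.fiberToSpecResidueField (q p)) q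
      (T.fromSpecResidueField (q p)) := IsPullback.of_hasPullback _ _
  let V'' : (q.fiber (q p)).Opens := (q.fiberι (q p)) ⁻¹ᵁ V
  haveI : IsFinite (V''.ι ≫ q.fiberToSpecResidueField (q p)) := isFinite_preimage _ sqfib V
  let z : q.fiber (q p) := q.asFiber p
  have hz : q.fiberι (q p) z = p := Scheme.Hom.fiberι_asFiber q p
  have hzV : z ∉ V'' := by
    intro h
    have : q.fiberι (q p) z ∈ V := h
    rw [hz] at this
    exact hpV this
  have hfin : ((V'' : Set (q.fiber (q p))) ∪ {z}).Finite :=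
    (finite_of_isFinite hκ (q.fiberToSpecResidueField (q p)) V'').union (Set.finite_singleton z)
  let P : (q.fiber (q p)).Opens := pieceOfSet ((V'' : Set (q.fiber (q p))) ∪ {z})
  haveI : IsFinite (P.ι ≫ q.fiberToSpecResidueField (q p)) :=
    isFinite_pieceOfSet hκ _ _ hfin
  have hle : V'' ≤ P := fun x hx => Or.inl hx
  have hzP : z ∈ P := Or.inr rfl
  have h1 := finrank_succ_le (q.fiberToSpecResidueField (q p)) hle z hzP hzV
  have h2 := finrank_preimage _ sqfib V ((q.fiberToSpecResidueField (q p)) z)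
  rw [Scheme.fromSpecResidueField_apply] at h2
  change (V''.ι ≫ q.fiberToSpecResidueField (q p)).finrank _ = _ at h2
  rw [h2] at h1
  exact ⟨_, P, inferInstance, h1⟩

variable {X S : Scheme.{u}} (f : X ⟶ S) [Flat f] [IsSeparated f] [LocallyOfFinitePresentation f]
  [LocallyQuasiFinite f]

/-- Local finiteness when the fibre degree is constant. -/
theorem exists_nbhd_isFinite (r : ℕ) (h : ∀ s, GeDeg f s r ∧ ¬ GeDeg f s (r + 1)) (s : S) :
    ∃ O : S.Opens, s ∈ O ∧ IsFinite (f ∣_ O) := by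
  obtain ⟨⟨t₀, Vs, hVs, hd⟩, hns⟩ := h s
  haveI := hVs
  obtain ⟨T₁, g, t₁, hget, hgt, E₁, p₁, p₂, sq, V, hVfin, -, hrank⟩ :=
    exists_local_piece f s Vs t₀
  haveI := hVfin
  haveI := hget
  haveI : Flat p₂ := MorphismProperty.of_isPullback (P := @Flat) sq inferInstance
  haveI : IsSeparated p₂ := MorphismProperty.of_isPullback (P := @IsSeparated) sq inferInstance
  haveI : LocallyOfFiniteType p₂ :=
    MorphismProperty.of_isPullback (P := @LocallyOfFiniteType) sq inferInstance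
  haveI : LocallyQuasiFinite p₂ :=
    MorphismProperty.of_isPullback (P := @LocallyQuasiFinite) sq inferInstance
  haveI : LocallyOfFinitePresentation p₂ :=
    MorphismProperty.of_isPullback (P := @LocallyOfFinitePresentation) sq inferInstance
  have hlc := Scheme.Hom.isLocallyConstant_finrank (V.ι ≫ p₂)
  -- the rank of `V` at `t₁` is `r`
  have hbound : ∀ t : T₁, (V.ι ≫ p₂).finrank t ≤ r := by
    intro t
    by_contra hlt
    have h1 : GeRank p₂ t (r + 1) := ⟨V, hVfin, by omega⟩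
    exact (h (g t)).2 ((geDeg_baseChange f sq t (r + 1)).1 (GeRank.geDeg p₂ h1))
  have ht₁ : (V.ι ≫ p₂).finrank t₁ = r := le_antisymm (hbound t₁) (hd.trans hrank)
  let T₂ : T₁.Opens := ⟨{t | (V.ι ≫ p₂).finrank t = r}, hlc {r}⟩
  have ht₁T₂ : t₁ ∈ T₂ := ht₁
  -- over `T₂` everything lies in `V`
  let q₂ := p₂ ∣_ T₂
  have sq₂ : IsPullback (p₂ ⁻¹ᵁ T₂).ι q₂ p₂ T₂.ι := (isPullback_morphismRestrict p₂ T₂).flip
  let V₂ := (p₂ ⁻¹ᵁ T₂).ι ⁻¹ᵁ V
  haveI : IsFinite (V₂.ι ≫ q₂) := isFinite_preimage p₂ sq₂ V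
  have hall : ∀ p' : ((p₂ ⁻¹ᵁ T₂ : E₁.Opens) : Scheme.{u}), p' ∈ V₂ := by
    intro p'
    change (p₂ ⁻¹ᵁ T₂).ι p' ∈ V
    have hpT : p₂ ((p₂ ⁻¹ᵁ T₂).ι p') ∈ T₂ := p'.2
    have hfr : (V.ι ≫ p₂).finrank (p₂ ((p₂ ⁻¹ᵁ T₂).ι p')) = r := hpT
    refine mem_of_not_geDeg p₂ V _ ?_
    rw [hfr]
    intro hge
    exact (h (g (p₂ ((p₂ ⁻¹ᵁ T₂).ι p')))).2 ((geDeg_baseChange f sq _ (r + 1)).1 hge)
  haveI hq₂fin : IsFinite q₂ := isFinite_of_forall_mem q₂ V₂ hall
  -- the open neighbourhood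
  let O : S.Opens := ⟨g '' (T₂ : Set T₁), g.isOpenMap _ T₂.2⟩
  have hsO : s ∈ O := ⟨t₁, ht₁T₂, hgt⟩
  refine ⟨O, hsO, ?_⟩
  have hrange : Set.range (T₂.ι ≫ g) ⊆ Set.range O.ι := by
    rintro _ ⟨t, rfl⟩
    rw [Scheme.Opens.range_ι]
    exact ⟨t.1, t.2, rfl⟩
  let g₂ := IsOpenImmersion.lift O.ι (T₂.ι ≫ g) hrange
  have hg₂ : g₂ ≫ O.ι = T₂.ι ≫ g := IsOpenImmersion.lift_fac _ _ _
  have hrange' : Set.range ((p₂ ⁻¹ᵁ T₂).ι ≫ p₁) ⊆ Set.range (f ⁻¹ᵁ O).ι := by
    rintro _ ⟨p', rfl⟩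
    rw [Scheme.Opens.range_ι]
    change f (((p₂ ⁻¹ᵁ T₂).ι ≫ p₁) p') ∈ O
    rw [← Scheme.Hom.comp_apply, Category.assoc, sq.w, Scheme.Hom.comp_apply,
      Scheme.Hom.comp_apply]
    exact ⟨_, p'.2, rfl⟩
  let l := IsOpenImmersion.lift (f ⁻¹ᵁ O).ι ((p₂ ⁻¹ᵁ T₂).ι ≫ p₁) hrange'
  have hl : l ≫ (f ⁻¹ᵁ O).ι = (p₂ ⁻¹ᵁ T₂).ι ≫ p₁ := IsOpenImmersion.lift_fac _ _ _
  have sqbig : IsPullback ((p₂ ⁻¹ᵁ T₂).ι ≫ p₁) q₂ f (T₂.ι ≫ g) := sq₂.paste_horiz sq
  have hcomm : l ≫ (f ∣_ O) = q₂ ≫ g₂ := by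
    rw [← cancel_mono O.ι, Category.assoc, Category.assoc, morphismRestrict_ι, hg₂,
      ← Category.assoc, hl, Category.assoc, sq.w]
    change _ = (p₂ ∣_ T₂) ≫ T₂.ι ≫ g
    rw [← Category.assoc (p₂ ∣_ T₂), morphismRestrict_ι, Category.assoc]
  have sqdesc : IsPullback l q₂ (f ∣_ O) g₂ := by
    refine IsPullback.of_right ?_ hcomm (isPullback_morphismRestrict f O).flip
    rw [hl, hg₂]
    exact sqbig
  -- `g₂` is an fppf covering
  have hg₂et : Etale g₂ := by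
    have h1 : Etale (g₂ ≫ O.ι) := by rw [hg₂]; infer_instance
    exact MorphismProperty.of_postcomp (W := @Etale) (W' := @Etale) g₂ O.ι inferInstance h1
  have hg₂surj : Surjective g₂ := ⟨by
    intro o
    obtain ⟨t, htT₂, hto⟩ := o.2
    refine ⟨⟨t, htT₂⟩, ?_⟩
    apply O.ι.isOpenEmbedding.injective
    rw [← Scheme.Hom.comp_apply, hg₂]
    exact hto⟩
  have hQ : (@Surjective ⊓ @Flat ⊓ @LocallyOfFinitePresentation : MorphismProperty Scheme.{u}) g₂ :=
    ⟨⟨hg₂surj, inferInstance⟩, inferInstance⟩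
  haveI : IsProper (f ∣_ O) :=
    MorphismProperty.of_isPullback_of_descendsAlong (P := @IsProper)
      (Q := (@Surjective ⊓ @Flat ⊓ @LocallyOfFinitePresentation : MorphismProperty Scheme.{u}))
      sqdesc.flip hQ inferInstance
  exact IsFinite.of_isProper_of_locallyQuasiFinite _

/-- Constant fibre degree `r` implies finite (locally free) of rank `r`. -/
theorem isFinite_of_geDeg_const (r : ℕ) (h : ∀ s, GeDeg f s r ∧ ¬ GeDeg f s (r + 1)) :
    IsFinite f ∧ ∀ s, f.finrank s = r := by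
  have hfin : IsFinite f := by
    choose O hO hOfin using exists_nbhd_isFinite f r h
    refine (IsZariskiLocalAtTarget.iff_of_iSup_eq_top (P := @IsFinite) O ?_).2 hOfin
    rw [eq_top_iff]
    intro s _
    exact TopologicalSpace.Opens.mem_iSup.2 ⟨s, hO s⟩
  refine ⟨hfin, fun s => ?_⟩
  have h1 := (geDeg_iff_of_isFinite f s r).1 (h s).1
  have h2 : ¬ (r + 1 ≤ f.finrank s) := fun hh => (h s).2 ((geDeg_iff_of_isFinite f s (r + 1)).2 hh)
  omega

end Groth.Agent.Helper15.FibDeg
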