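import Mathlib
import Groth.Agent.Lib.Helper15.FibDeg6

/-!
# The degree stratification of a flat separated locally quasi-finite morphism
-/

set_option autoImplicit false
universe u
open CategoryTheory CategoryTheory.Limits AlgebraicGeometry

namespace Groth.Agent.Helper15.FibDeg

variable {X S : Scheme.{u}} (f : X ⟶ S) [Flat f] [IsSeparated f] [LocallyOfFinitePresentation f]
  [LocallyQuasiFinite f]

/-- The fibre degree at the image of a field valued point via the rank of global sections. -/
theorem geDeg_iff_le_rank (K : Type u) [Field K] (g : Spec (CommRingCat.of K) ⟶ S)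
    (t : Spec (CommRingCat.of K)) (d : ℕ) :
    GeDeg f (g t) d ↔ (d : Cardinal.{u}) ≤
      (letI := ((Scheme.ΓSpecIso (CommRingCat.of K)).inv ≫ (pullback.snd f g).appTop).hom.toAlgebra
       Module.rank K Γ(pullback f g, ⊤)) := by
  have hK : IsField (CommRingCat.of K) := Field.toIsField K
  rw [← geRank_iff_geDeg f hK g t rfl (IsPullback.of_hasPullback f g) d]
  exact ⟨le_rank_of_geRank _ t d, geRank_of_le_rank _ t d⟩

/-- The opens where the fibre degree is at least `d`. -/
def degOpen (d : ℕ) : S.Opens := ⟨{s | GeDeg f s d}, isOpen_geDeg f d⟩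

theorem exists_opens_rank :
    ∃ U : ℕ → S.Opens, Antitone U ∧ U 0 = ⊤ ∧ ∀ (K : Type u) [Field K]
      (g : Spec (CommRingCat.of K) ⟶ S) (d : ℕ),
      Set.range ⇑g ⊆ (U d : Set ↑S) ↔ (d : Cardinal.{u}) ≤
        (letI := ((Scheme.ΓSpecIso (CommRingCat.of K)).inv ≫
          (pullback.snd f g).appTop).hom.toAlgebra
        Module.rank K (Γ(pullback f g, ⊤) : Type u)) := by
  refine ⟨degOpen f, ?_, ?_, ?_⟩
  · intro d e hde s hs
    exact GeDeg.mono hs hde
  · ext s
    exact ⟨fun _ => trivial, fun _ => geDeg_zero f s⟩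
  · intro K _ g d
    have hK : IsField (CommRingCat.of K) := Field.toIsField K
    haveI := subsingleton_spec_field hK
    have t : Spec (CommRingCat.of K) := IsLocalRing.closedPoint K
    rw [← geDeg_iff_le_rank f K g t d]
    constructor
    · intro h
      exact h ⟨t, rfl⟩
    · rintro h _ ⟨t', rfl⟩
      rw [Subsingleton.elim t' t]
      exact h

end Groth.Agent.Helper15.FibDeg
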