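import Mathlib
import Groth.Prelude
import Groth.Agent.Lib.Helper15.FibDeg7

/-!
# The degree function: closed sublevel sets and the finite locally free criterion
-/

set_option autoImplicit false
universe u
open CategoryTheory CategoryTheory.Limits AlgebraicGeometry

namespace Groth.Agent.Helper15.FibDeg

variable {X S : Scheme.{u}} (f : X ⟶ S) [Flat f] [IsSeparated f] [LocallyOfFinitePresentation f]
  [LocallyQuasiFinite f]

theorem isClosed_sublevel (deg : S → ℕ) (hdeg : ∀ s d, GeDeg f s d ↔ d ≤ deg s) (r : ℕ) :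
    IsClosed {s : S | deg s ≤ r} := by
  have : {s : S | deg s ≤ r} = {s : S | GeDeg f s (r + 1)}ᶜ := by
    ext s
    simp only [Set.mem_ofPred_eq, Set.mem_compl_iff, hdeg]
    omega
  rw [this]
  exact (isOpen_geDeg f (r + 1)).isClosed_compl

theorem isFinLocFreeOfDeg_iff (deg : S → ℕ) (hdeg : ∀ s d, GeDeg f s d ↔ d ≤ deg s)
    (T : Scheme.{u}) (g : T ⟶ S) (r : ℕ) :
    Mor2.IsFinLocFreeOfDeg r (pullback.snd f g) ↔ ∀ t : T, deg (g t) = r := by
  have sqT : IsPullback (pullback.fst f g) (pullback.snd f g) f g := IsPullback.of_hasPullback f g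
  constructor
  · rintro ⟨⟨hfin, hflat, -⟩, hrank⟩ t
    have key : ∀ d, d ≤ deg (g t) ↔ d ≤ r := by
      intro d
      rw [← hdeg, ← geDeg_baseChange f sqT t d, geDeg_iff_of_isFinite, hrank]
    have h1 := (key (deg (g t))).1 le_rfl
    have h2 := (key r).2 le_rfl
    omega
  · intro h
    have h' : ∀ t : T, GeDeg (pullback.snd f g) t r ∧ ¬ GeDeg (pullback.snd f g) t (r + 1) := by
      intro t
      rw [geDeg_baseChange f sqT t r, geDeg_baseChange f sqT t (r + 1), hdeg, hdeg, h t]
      omega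
    obtain ⟨hfin, hrank⟩ := isFinite_of_geDeg_const (pullback.snd f g) r h'
    exact ⟨⟨hfin, inferInstance, inferInstance⟩, hrank⟩

/-- The fibre degree is bounded by a bound on the ranks of the fibres. -/
theorem le_of_geDeg_of_rank_le (n : ℕ)
    (hn : ∀ (K : Type u) [Field K] (g : Spec (CommRingCat.of K) ⟶ S),
      (letI := ((Scheme.ΓSpecIso (CommRingCat.of K)).inv ≫ (pullback.snd f g).appTop).hom.toAlgebra
       Module.rank K (Γ(pullback f g, ⊤) : Type u)) ≤ (n : Cardinal.{u}))
    (s : S) (d : ℕ) (h : GeDeg f s d) : d ≤ n := by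
  let K : Type u := S.residueField s
  let g : Spec (CommRingCat.of K) ⟶ S := S.fromSpecResidueField s
  obtain ⟨t⟩ : Nonempty (Spec (CommRingCat.of K)) := nonempty_spec_residueField s
  have hgt : g t = s := Scheme.fromSpecResidueField_apply s t
  rw [← hgt, geDeg_iff_le_rank f K g t d] at h
  have := h.trans (hn K g)
  exact_mod_cast this

theorem exists_deg_of_rank_le (n : ℕ)
    (hn : ∀ (K : Type u) [Field K] (g : Spec (CommRingCat.of K) ⟶ S),
      (letI := ((Scheme.ΓSpecIso (CommRingCat.of K)).inv ≫ (pullback.snd f g).appTop).hom.toAlgebra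
       Module.rank K (Γ(pullback f g, ⊤) : Type u)) ≤ (n : Cardinal.{u})) :
    ∃ deg : ↑S → ℕ, (∀ s, deg s ≤ n) ∧ (∀ r : ℕ, IsClosed {s : ↑S | deg s ≤ r}) ∧
      ∀ (T : Scheme.{u}) (g : T ⟶ S) (r : ℕ),
        Mor2.IsFinLocFreeOfDeg r (pullback.snd f g) ↔ ∀ t : T, deg (g t) = r := by
  classical
  let deg : S → ℕ := fun s => Nat.findGreatest (fun d => GeDeg f s d) n
  have hdeg : ∀ s d, GeDeg f s d ↔ d ≤ deg s := by
    intro s d
    constructor
    · intro h
      exact Nat.le_findGreatest (le_of_geDeg_of_rank_le f n hn s d h) h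
    · intro h
      have h0 : GeDeg f s (deg s) :=
        Nat.findGreatest_spec (P := fun d => GeDeg f s d) (Nat.zero_le n) (geDeg_zero f s)
      exact h0.mono h
  exact ⟨deg, fun s => Nat.findGreatest_le n, isClosed_sublevel f deg hdeg,
    isFinLocFreeOfDeg_iff f deg hdeg⟩

end Groth.Agent.Helper15.FibDeg
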