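import Mathlib
import Groth.Agent.Lib.Helper15.FibDeg8
import Groth.Agent.Lib.Helper15.CdStrat2

/-!
# Auxiliary results for the retrocompactness of the degree strata
-/

set_option autoImplicit false
universe u
open CategoryTheory CategoryTheory.Limits AlgebraicGeometry Topology

namespace Groth.Agent.Helper15.FibDeg

/-- In a spectral space constructible sets are compact. -/
theorem isCompact_of_isConstructible {X : Type*} [TopologicalSpace X] [CompactSpace X]
    [QuasiSober X] [PrespectralSpace X] [QuasiSeparatedSpace X] {s : Set X}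
    (hs : IsConstructible s) : IsCompact s := by
  classical
  rw [isCompact_iff_finite_subcover]
  intro ι U hUo hsU
  -- refine by compact opens
  have hx : ∀ x : s, ∃ V : Set X, IsOpen V ∧ IsCompact V ∧ x.1 ∈ V ∧ ∃ i, V ⊆ U i := by
    intro x
    obtain ⟨i, hi⟩ := Set.mem_iUnion.1 (hsU x.2)
    obtain ⟨V, ⟨hV₁, hV₂⟩, hxV, hVU⟩ :=
      PrespectralSpace.isTopologicalBasis.mem_nhds_iff.mp ((hUo i).mem_nhds hi)
    exact ⟨V, hV₁, hV₂, hxV, i, hVU⟩
  choose V hVo hVc hxV i hVU using hx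
  let C : Option s → Set X := fun o => match o with
    | none => sᶜ
    | some x => V x
  have hC : ∀ o, IsConstructible (C o) := by
    intro o
    cases o with
    | none => exact hs.compl
    | some x => exact (hVc x).isConstructible (hVo x)
  have hcov : ∀ x, ∃ o, x ∈ C o := by
    intro x
    by_cases hx : x ∈ s
    · exact ⟨some ⟨x, hx⟩, hxV ⟨x, hx⟩⟩
    · exact ⟨none, hx⟩
  obtain ⟨t, ht⟩ := CdStrat.exists_finite_subcover_of_isConstructible C hC hcov
  refine ⟨t.biUnion (fun o => o.elim ∅ (fun x => {i x})), ?_⟩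
  intro x hx
  obtain ⟨o, hot, hxo⟩ := ht x
  cases o with
  | none => exact absurd hx hxo
  | some y =>
    refine Set.mem_iUnion₂.2 ⟨i y, ?_, hVU y hxo⟩
    rw [Finset.mem_biUnion]
    exact ⟨some y, hot, by simp⟩

/-- If a finite piece contains the whole fibre over `t`, the fibre degree at `t` is its rank. -/
theorem geDeg_iff_of_fiber_subset {Z T : Scheme.{u}} (q : Z ⟶ T) [Flat q] [IsSeparated q]
    [LocallyOfFiniteType q] [LocallyQuasiFinite q] (V : Z.Opens) [IsFinite (V.ι ≫ q)] (t : T)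
    (hV : ∀ p : Z, q p = t → p ∈ V) (d : ℕ) :
    GeDeg q t d ↔ d ≤ (V.ι ≫ q).finrank t := by
  constructor
  · rintro ⟨t₀, P, hP, hd⟩
    haveI := hP
    obtain ⟨i1, i2, i3, i4⟩ := fiber_instances q t
    have sqfib : IsPullback (q.fiberι t) (q.fiberToSpecResidueField t) q
        (T.fromSpecResidueField t) := IsPullback.of_hasPullback _ _
    haveI : IsFinite (((q.fiberι t) ⁻¹ᵁ V).ι ≫ q.fiberToSpecResidueField t) :=
      isFinite_preimage _ sqfib V
    have hle : P ≤ (q.fiberι t) ⁻¹ᵁ V := by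
      intro z _
      change q.fiberι t z ∈ V
      apply hV
      have : q.fiberι t z ∈ Set.range (q.fiberι t) := ⟨z, rfl⟩
      rw [Scheme.Hom.range_fiberι] at this
      exact this
    have h1 := finrank_mono (q.fiberToSpecResidueField t) hle t₀
    have h2 := finrank_preimage _ sqfib V t₀
    rw [Scheme.fromSpecResidueField_apply] at h2
    omega
  · intro hd
    exact GeRank.geDeg q ⟨V, inferInstance, hd⟩

variable {X S : Scheme.{u}} (f : X ⟶ S) [Flat f] [IsSeparated f] [LocallyOfFiniteType f]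
  [LocallyQuasiFinite f]

/-- `exists_local_piece` with an affine étale neighbourhood. -/
theorem exists_local_piece_affine (s : S) (Vs : (f.fiber s).Opens)
    [IsFinite (Vs.ι ≫ f.fiberToSpecResidueField s)] (t₀ : Spec (S.residueField s)) :
    ∃ (T₁ : Scheme.{u}) (g : T₁ ⟶ S) (t₁ : T₁), IsAffine T₁ ∧ Etale g ∧ g t₁ = s ∧
      ∃ (E₁ : Scheme.{u}) (p₁ : E₁ ⟶ X) (p₂ : E₁ ⟶ T₁), IsPullback p₁ p₂ f g ∧
      ∃ V : E₁.Opens, IsFinite (V.ι ≫ p₂) ∧
        (Vs.ι ≫ f.fiberToSpecResidueField s).finrank t₀ ≤ (V.ι ≫ p₂).finrank t₁ := by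
  obtain ⟨T₁, g, t₁, hget, hgt, E₁, p₁, p₂, sq, V, hVfin, -, hrank⟩ :=
    exists_local_piece f s Vs t₀
  haveI := hVfin
  haveI := hget
  haveI : Flat p₂ := MorphismProperty.of_isPullback (P := @Flat) sq inferInstance
  obtain ⟨_, ⟨A₀, hA, rfl⟩, ht₁A, -⟩ := T₁.isBasis_affineOpens.exists_subset_of_mem_open
    (Set.mem_univ t₁) isOpen_univ
  obtain ⟨A, rfl⟩ : ∃ A : T₁.Opens, A = A₀ := ⟨A₀, rfl⟩
  have sqA : IsPullback (p₂ ⁻¹ᵁ A).ι (p₂ ∣_ A) p₂ A.ι := (isPullback_morphismRestrict p₂ A).flip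
  have sq' := sqA.paste_horiz sq
  refine ⟨A, A.ι ≫ g, ⟨t₁, ht₁A⟩, hA, inferInstance, hgt, _, _, _, sq',
    (p₂ ⁻¹ᵁ A).ι ⁻¹ᵁ V, isFinite_preimage p₂ sqA V, ?_⟩
  rw [finrank_preimage p₂ sqA V ⟨t₁, ht₁A⟩]
  exact hrank

end Groth.Agent.Helper15.FibDeg
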