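import Mathlib
import Groth.Agent.Lib.Helper15.FibDeg9

/-!
# Retrocompactness of the degree strata of a quasi-compact morphism
-/

set_option autoImplicit false
universe u
open CategoryTheory CategoryTheory.Limits AlgebraicGeometry Topology

namespace Groth.Agent.Helper15.FibDeg

variable {X S : Scheme.{u}} (f : X ⟶ S) [Flat f] [IsSeparated f] [LocallyOfFinitePresentation f]
  [LocallyQuasiFinite f] [QuasiCompact f]

/-- Each point has a constructible neighbourhood on which the degree is constant. -/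
theorem exists_constructible_nbhd [CompactSpace S] [QuasiSeparatedSpace S]
    (deg : S → ℕ) (hdeg : ∀ s d, GeDeg f s d ↔ d ≤ deg s) (s : S) :
    ∃ E : Set S, IsConstructible E ∧ s ∈ E ∧ ∀ s' ∈ E, deg s' = deg s := by
  obtain ⟨t₀, Vs, hVs, hd⟩ := (hdeg s (deg s)).2 le_rfl
  haveI := hVs
  obtain ⟨T₁, g, t₁, hT₁aff, hget, hgt, E₁, p₁, p₂, sq, V, hVfin, hrank⟩ :=
    exists_local_piece_affine f s Vs t₀
  haveI := hVfin
  haveI := hget
  haveI := hT₁aff
  haveI : Flat p₂ := MorphismProperty.of_isPullback (P := @Flat) sq inferInstance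
  haveI : IsSeparated p₂ := MorphismProperty.of_isPullback (P := @IsSeparated) sq inferInstance
  haveI : LocallyOfFiniteType p₂ :=
    MorphismProperty.of_isPullback (P := @LocallyOfFiniteType) sq inferInstance
  haveI : LocallyQuasiFinite p₂ :=
    MorphismProperty.of_isPullback (P := @LocallyQuasiFinite) sq inferInstance
  haveI : LocallyOfFinitePresentation p₂ :=
    MorphismProperty.of_isPullback (P := @LocallyOfFinitePresentation) sq inferInstance
  haveI : QuasiCompact p₂ := MorphismProperty.of_isPullback (P := @QuasiCompact) sq inferInstance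
  have hlc := Scheme.Hom.isLocallyConstant_finrank (V.ι ≫ p₂)
  have hbase : ∀ (t : T₁) (d : ℕ), GeDeg p₂ t d ↔ d ≤ deg (g t) := by
    intro t d
    rw [geDeg_baseChange f sq t d, hdeg]
  have hbound : ∀ t : T₁, (V.ι ≫ p₂).finrank t ≤ deg (g t) := by
    intro t
    rw [← hbase]
    exact GeRank.geDeg p₂ ⟨V, hVfin, le_rfl⟩
  have ht₁ : (V.ι ≫ p₂).finrank t₁ = deg s := by
    have := hbound t₁
    rw [hgt] at this
    exact le_antisymm this (hd.trans hrank)
  haveI : CompactSpace E₁ := QuasiCompact.compactSpace_of_compactSpace p₂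
  haveI : QuasiSeparatedSpace E₁ := quasiSeparatedSpace_of_quasiSeparated p₂
  have hVclosed := isClosed_of_isFinite p₂ V
  have hWconstr : IsConstructible ((V : Set E₁)ᶜ) :=
    (V.isOpen.isClosed_compl.isCompact).isConstructible hVclosed.isOpen_compl
  have hIm : IsConstructible (p₂ '' ((V : Set E₁)ᶜ)) := p₂.isConstructible_image hWconstr
  have hC : IsConstructible {t : T₁ | (V.ι ≫ p₂).finrank t = deg s} :=
    ((hlc.isClosed_fiber (deg s)).isCompact).isConstructible (hlc.isOpen_fiber (deg s))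
  have hE' : IsConstructible
      ({t : T₁ | (V.ι ≫ p₂).finrank t = deg s} ∩ (p₂ '' ((V : Set E₁)ᶜ))ᶜ) :=
    hC.inter hIm.compl
  refine ⟨g '' ({t : T₁ | (V.ι ≫ p₂).finrank t = deg s} ∩ (p₂ '' ((V : Set E₁)ᶜ))ᶜ),
    g.isConstructible_image hE', ⟨t₁, ⟨ht₁, ?_⟩, hgt⟩, ?_⟩
  · rintro ⟨p, hpW, hpt⟩
    apply hpW
    refine mem_of_not_geDeg p₂ V p ?_
    rw [hpt, ht₁, hbase, hgt]
    omega
  · rintro _ ⟨t, ⟨htC, htW⟩, rfl⟩
    have hfib : ∀ p : E₁, p₂ p = t → p ∈ V := by
      intro p hp
      by_contra hpV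
      exact htW ⟨p, hpV, hp⟩
    have key : ∀ d, d ≤ deg (g t) ↔ d ≤ deg s := by
      intro d
      rw [← hbase, geDeg_iff_of_fiber_subset p₂ V t hfib d]
      have : (V.ι ≫ p₂).finrank t = deg s := htC
      rw [this]
    have h1 := (key (deg (g t))).1 le_rfl
    have h2 := (key (deg s)).2 le_rfl
    omega

/-- On a quasi-compact quasi-separated base the degree strata are compact. -/
theorem isCompact_level [CompactSpace S] [QuasiSeparatedSpace S]
    (deg : S → ℕ) (hdeg : ∀ s d, GeDeg f s d ↔ d ≤ deg s) (r : ℕ) :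
    IsCompact {s : S | deg s = r} := by
  classical
  choose E hEc hEs hEdeg using exists_constructible_nbhd f deg hdeg
  obtain ⟨t, ht⟩ := CdStrat.exists_finite_subcover_of_isConstructible E hEc
    (fun x => ⟨x, hEs x⟩)
  have hL : {s : S | deg s = r} = ⋃ s ∈ (t.filter (fun s => deg s = r) : Finset S), E s := by
    ext x
    simp only [Set.mem_ofPred_eq, Set.mem_iUnion, Finset.mem_filter, exists_prop]
    constructor
    · intro hx
      obtain ⟨s, hst, hxs⟩ := ht x
      exact ⟨s, ⟨hst, by rw [← hEdeg s x hxs]; exact hx⟩, hxs⟩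
    · rintro ⟨s, ⟨-, hsr⟩, hxs⟩
      rw [hEdeg s x hxs]; exact hsr
  rw [hL]
  apply isCompact_of_isConstructible
  exact IsConstructible.biUnion (Finset.finite_toSet _) (fun s _ => hEc s)

/-- The intersection of a degree stratum with an affine open is compact. -/
theorem isCompact_level_inter_affine (deg : S → ℕ) (hdeg : ∀ s d, GeDeg f s d ↔ d ≤ deg s)
    (r : ℕ) (A : S.Opens) (hA : IsAffineOpen A) :
    IsCompact ({s : S | deg s = r} ∩ (A : Set S)) := by
  have sqA : IsPullback (f ⁻¹ᵁ A).ι (f ∣_ A) f A.ι := (isPullback_morphismRestrict f A).flip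
  haveI : Flat (f ∣_ A) := MorphismProperty.of_isPullback (P := @Flat) sqA inferInstance
  haveI : IsSeparated (f ∣_ A) :=
    MorphismProperty.of_isPullback (P := @IsSeparated) sqA inferInstance
  haveI : LocallyOfFinitePresentation (f ∣_ A) :=
    MorphismProperty.of_isPullback (P := @LocallyOfFinitePresentation) sqA inferInstance
  haveI : LocallyQuasiFinite (f ∣_ A) :=
    MorphismProperty.of_isPullback (P := @LocallyQuasiFinite) sqA inferInstance
  haveI : QuasiCompact (f ∣_ A) :=
    MorphismProperty.of_isPullback (P := @QuasiCompact) sqA inferInstance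
  haveI : IsAffine (A : Scheme.{u}) := hA
  let degA : ↑(A.toScheme) → ℕ := fun a => deg (A.ι a)
  have hdegA : ∀ a d, GeDeg (f ∣_ A) a d ↔ d ≤ degA a := by
    intro a d
    rw [geDeg_baseChange f sqA a d, hdeg]
  have hc := isCompact_level (f ∣_ A) degA hdegA r
  have himg : {s : S | deg s = r} ∩ (A : Set S) = A.ι '' {a | degA a = r} := by
    ext x
    constructor
    · rintro ⟨hx, hxA⟩
      exact ⟨⟨x, hxA⟩, hx, rfl⟩
    · rintro ⟨a, ha, rfl⟩
      exact ⟨ha, a.2⟩
  rw [himg]
  exact hc.image A.ι.continuous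

theorem isRetrocompact_level (deg : S → ℕ) (hdeg : ∀ s d, GeDeg f s d ↔ d ≤ deg s) (r : ℕ) :
    IsRetrocompact {s : S | deg s = r} := by
  intro W hWc hWo
  have hx : ∀ w : W, ∃ A : S.Opens, IsAffineOpen A ∧ w.1 ∈ A ∧ (A : Set S) ⊆ W := by
    intro w
    obtain ⟨_, ⟨A, hA, rfl⟩, hwA, hAW⟩ := S.isBasis_affineOpens.exists_subset_of_mem_open w.2 hWo
    exact ⟨A, hA, hwA, hAW⟩
  choose A hA hwA hAW using hx
  obtain ⟨t, ht⟩ := hWc.elim_finite_subcover (fun w : W => ((A w : S.Opens) : Set S))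
    (fun w => (A w).2) (fun x hx => Set.mem_iUnion.2 ⟨⟨x, hx⟩, hwA ⟨x, hx⟩⟩)
  have hL : {s : S | deg s = r} ∩ W = ⋃ w ∈ t, ({s : S | deg s = r} ∩ (A w : Set S)) := by
    ext x
    simp only [Set.mem_inter_iff, Set.mem_iUnion, exists_prop]
    constructor
    · rintro ⟨hx, hxW⟩
      obtain ⟨w, hwt, hxw⟩ := Set.mem_iUnion₂.1 (ht hxW)
      exact ⟨w, hwt, hx, hxw⟩
    · rintro ⟨w, -, hx, hxw⟩
      exact ⟨hx, hAW w hxw⟩
  rw [hL]
  exact t.isCompact_biUnion fun w _ => isCompact_level_inter_affine f deg hdeg r (A w) (hA w)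

/-- The degree stratification for quasi-compact morphisms. -/
theorem exists_deg_of_quasiCompact :
    ∃ deg : ↑S → ℕ, (∀ r : ℕ, IsClosed {s : ↑S | deg s ≤ r}) ∧
      (∀ r : ℕ, IsRetrocompact {s : ↑S | deg s = r}) ∧
      ∀ (T : Scheme.{u}) (g : T ⟶ S) (r : ℕ),
        Mor2.IsFinLocFreeOfDeg r (pullback.snd f g) ↔ ∀ t : T, deg (g t) = r := by
  classical
  let pt : ∀ s : S, Spec (S.residueField s) := fun s =>
    Classical.choice (nonempty_spec_residueField s)
  let deg : S → ℕ := fun s => (f.fiberToSpecResidueField s).finrank (pt s)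
  have hdeg : ∀ s d, GeDeg f s d ↔ d ≤ deg s := by
    intro s d
    obtain ⟨i1, -, -, -⟩ := fiber_instances f s
    haveI := subsingleton_spec_field (isField_residueField s)
    constructor
    · rintro ⟨t, ht⟩
      rw [geRank_iff_of_isFinite, Subsingleton.elim t (pt s)] at ht
      exact ht
    · intro h
      exact ⟨pt s, (geRank_iff_of_isFinite _ _ _).2 h⟩
  exact ⟨deg, isClosed_sublevel f deg hdeg, isRetrocompact_level f deg hdeg,
    isFinLocFreeOfDeg_iff f deg hdeg⟩

end Groth.Agent.Helper15.FibDeg
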