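import Mathlib
import Groth.Prelude
import Groth.Agent.Lib.Helper15.FibDeg10
import Groth.Agent.Lib.Helper15.AlgSpTop
import Groth.Agent.Lib.Helper15.AlgSpPoints

/-!
# The fibre degree on the points of an algebraic space
-/

set_option autoImplicit false
universe u
open CategoryTheory CategoryTheory.Limits AlgebraicGeometry Opposite
open AlgSp

namespace Groth.Agent.Helper15.FibDegSp

open Groth.Agent.Helper15.FibDeg

variable {S : Scheme.{u}}

/-- The standing hypotheses on `w : h_W ⟶ X`. -/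
structure Hyp {X : Sp S} {W : Over S} (w : (yon S).obj W ⟶ X) : Prop where
  fl : RepWith @Flat w
  fp : RepWith @LocallyOfFinitePresentation w
  sep : RepWith @IsSeparated w
  qf : RepWith @LocallyQuasiFinite w

/-- Base change of a represented pullback along a morphism of schemes. -/
theorem exists_isPullback_left {X : Sp S} {W : Over S} (w : (yon S).obj W ⟶ X)
    {T V T' V' : Over S} {a : (yon S).obj T ⟶ X} {fst : (yon S).obj V ⟶ (yon S).obj W} {snd : V ⟶ T}
    (sq : IsPullback fst ((yon S).map snd) w a) (c : T' ⟶ T)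
    {fst' : (yon S).obj V' ⟶ (yon S).obj W} {snd' : V' ⟶ T'}
    (sq' : IsPullback fst' ((yon S).map snd') w ((yon S).map c ≫ a)) :
    ∃ k : V' ⟶ V, IsPullback k.left snd'.left snd.left c.left := by
  have hw : fst' ≫ w = ((yon S).map snd' ≫ (yon S).map c) ≫ a := by
    rw [sq'.w, Category.assoc]
  let k₀ : (yon S).obj V' ⟶ (yon S).obj V := sq.lift fst' ((yon S).map snd' ≫ (yon S).map c) hw
  have hk1 : k₀ ≫ fst = fst' := sq.lift_fst _ _ _
  have hk2 : k₀ ≫ (yon S).map snd = (yon S).map snd' ≫ (yon S).map c := sq.lift_snd _ _ _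
  let k : V' ⟶ V := (yon S).preimage k₀
  have hk : (yon S).map k = k₀ := (yon S).map_preimage k₀
  have sqy : IsPullback ((yon S).map k) ((yon S).map snd') ((yon S).map snd) ((yon S).map c) := by
    rw [hk]
    refine IsPullback.of_right ?_ hk2 sq
    rw [hk1]
    exact sq'
  have hcomm : k ≫ snd = snd' ≫ c := by
    apply (yon S).map_injective
    rw [Functor.map_comp, Functor.map_comp, hk, hk2]
  have sqO : IsPullback k snd' snd c := IsPullback.of_map (yon S) hcomm sqy
  exact ⟨k, sqO.map (Over.forget S)⟩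

section

variable {X : Sp S} {W : Over S} (w : (yon S).obj W ⟶ X)

/-- The fibre degree of `w` at the point `x` of `X` is at least `d`. -/
def GeDegSp (x : Points X) (d : ℕ) : Prop :=
  ∃ (T V : Over S) (a : (yon S).obj T ⟶ X) (fst : (yon S).obj V ⟶ (yon S).obj W) (snd : V ⟶ T)
    (t : T.left), IsPullback fst ((yon S).map snd) w a ∧ Points.ofPt a t = x ∧ GeDeg snd.left t d

variable {w}

theorem Hyp.instances (hw : Hyp w) {T V : Over S} {a : (yon S).obj T ⟶ X}
    {fst : (yon S).obj V ⟶ (yon S).obj W} {snd : V ⟶ T}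
    (sq : IsPullback fst ((yon S).map snd) w a) :
    Flat snd.left ∧ LocallyOfFinitePresentation snd.left ∧ IsSeparated snd.left ∧
      LocallyQuasiFinite snd.left :=
  ⟨hw.fl.property a fst snd sq, hw.fp.property a fst snd sq, hw.sep.property a fst snd sq,
    hw.qf.property a fst snd sq⟩

/-- Base change compatibility of the fibre degree along a morphism of schemes. -/
theorem geDeg_of_comp (hw : Hyp w) {T V T' V' : Over S} {a : (yon S).obj T ⟶ X}
    {fst : (yon S).obj V ⟶ (yon S).obj W} {snd : V ⟶ T}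
    (sq : IsPullback fst ((yon S).map snd) w a) (c : T' ⟶ T)
    {fst' : (yon S).obj V' ⟶ (yon S).obj W} {snd' : V' ⟶ T'}
    (sq' : IsPullback fst' ((yon S).map snd') w ((yon S).map c ≫ a)) (t' : T'.left) (d : ℕ) :
    GeDeg snd'.left t' d ↔ GeDeg snd.left (c.left t') d := by
  obtain ⟨i1, i2, i3, i4⟩ := hw.instances sq
  obtain ⟨k, sqk⟩ := exists_isPullback_left w sq c sq'
  exact geDeg_baseChange snd.left sqk t' d

/-- Independence of the chart: the fibre degree of the base change at `t` only depends on the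
point of `X` defined by `t`. -/
theorem geDeg_iff_geDegSp (hw : Hyp w) {T V : Over S} {a : (yon S).obj T ⟶ X}
    {fst : (yon S).obj V ⟶ (yon S).obj W} {snd : V ⟶ T}
    (sq : IsPullback fst ((yon S).map snd) w a) (t : T.left) (d : ℕ) :
    GeDeg snd.left t d ↔ GeDegSp w (Points.ofPt a t) d := by
  constructor
  · intro h
    exact ⟨T, V, a, fst, snd, t, sq, rfl, h⟩
  · rintro ⟨T₂, V₂, a₂, fst₂, snd₂, t₂, sq₂, hpt, h₂⟩
    rw [ofPt_eq_ofField, ofPt_eq_ofField, ofField_eq_iff] at hpt
    obtain ⟨Ω, hΩ, w₀, α, β, hαβ⟩ := hpt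
    let ι₂ : Over.mk (T₂.left.fromSpecResidueField t₂ ≫ T₂.hom) ⟶ T₂ :=
      Over.homMk (T₂.left.fromSpecResidueField t₂) rfl
    let ι : Over.mk (T.left.fromSpecResidueField t ≫ T.hom) ⟶ T :=
      Over.homMk (T.left.fromSpecResidueField t) rfl
    let c₂ : Over.mk w₀ ⟶ T₂ := α ≫ ι₂
    let c : Over.mk w₀ ⟶ T := β ≫ ι
    have hc : (yon S).map c₂ ≫ a₂ = (yon S).map c ≫ a := by
      simp only [c₂, c, Functor.map_comp, Category.assoc]
      exact hαβ
    obtain ⟨VΩ, sndΩ, fstΩ, sqΩ⟩ : ∃ (VΩ : Over S) (sndΩ : VΩ ⟶ Over.mk w₀)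
        (fstΩ : (yon S).obj VΩ ⟶ (yon S).obj W),
        IsPullback fstΩ ((yon S).map sndΩ) w ((yon S).map c ≫ a) :=
      ⟨_, _, _, hw.fl.rep.isPullback' _⟩
    have sqΩ₂ : IsPullback fstΩ ((yon S).map sndΩ) w ((yon S).map c₂ ≫ a₂) := by
      rw [hc]; exact sqΩ
    let pt : (Over.mk w₀).left := IsLocalRing.closedPoint Ω
    have e1 := geDeg_of_comp hw sq c sqΩ pt d
    have e2 := geDeg_of_comp hw sq₂ c₂ sqΩ₂ pt d
    have hpt1 : c.left pt = t := by
      change (β.left ≫ T.left.fromSpecResidueField t) pt = t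
      rw [Scheme.Hom.comp_apply, Scheme.fromSpecResidueField_apply]
    have hpt2 : c₂.left pt = t₂ := by
      change (α.left ≫ T₂.left.fromSpecResidueField t₂) pt = t₂
      rw [Scheme.Hom.comp_apply, Scheme.fromSpecResidueField_apply]
    rw [hpt1] at e1
    rw [hpt2] at e2
    exact e1.1 (e2.2 h₂)

theorem GeDegSp.mono {x : Points X} {d e : ℕ} (h : GeDegSp w x d) (hed : e ≤ d) :
    GeDegSp w x e := by
  obtain ⟨T, V, a, fst, snd, t, sq, hx, hd⟩ := h
  exact ⟨T, V, a, fst, snd, t, sq, hx, hd.mono hed⟩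

/-- Every point comes from a scheme point of some represented pullback. -/
theorem exists_chart_point (hw : Hyp w) (x : Points X) :
    ∃ (T V : Over S) (a : (yon S).obj T ⟶ X) (fst : (yon S).obj V ⟶ (yon S).obj W) (snd : V ⟶ T)
      (t : T.left), IsPullback fst ((yon S).map snd) w a ∧ Points.ofPt a t = x := by
  obtain ⟨p, rfl⟩ := Points.mk_surjective x
  refine ⟨p.pt, _, p.toHom, _, _, IsLocalRing.closedPoint p.K, hw.fl.rep.isPullback' p.toHom,
    Points.ofPt_toHom p _⟩

theorem geDegSp_zero (hw : Hyp w) (x : Points X) : GeDegSp w x 0 := by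
  obtain ⟨T, V, a, fst, snd, t, sq, hx⟩ := exists_chart_point hw x
  exact ⟨T, V, a, fst, snd, t, sq, hx, geDeg_zero _ _⟩

end

end Groth.Agent.Helper15.FibDegSp
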