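import Mathlib
import Groth.Prelude
import Groth.Agent.Lib.Helper15.FibDegSp1
import Groth.Agent.Lib.Helper15.AlgSpCD2

/-!
# The degree stratification for algebraic spaces
-/

set_option autoImplicit false
universe u
open CategoryTheory CategoryTheory.Limits AlgebraicGeometry Opposite
open AlgSp

namespace Groth.Agent.Helper15.FibDegSp

open Groth.Agent.Helper15.FibDeg

variable {S : Scheme.{u}} {X : Sp S} {W : Over S} {w : (yon S).obj W ⟶ X}

theorem le_of_geDegSp (hw : Hyp w) {n : ℕ} (hb : W4dec.DegFibresLE n w) (x : Points X) (d : ℕ)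
    (h : GeDegSp w x d) : d ≤ n := by
  obtain ⟨p, rfl⟩ := Points.mk_surjective x
  have sq := hw.fl.rep.isPullback' p.toHom
  obtain ⟨hfin, hrank⟩ := hb p _ (hw.fl.rep.snd p.toHom) _ sq.flip
  obtain ⟨i1, -, -, -⟩ := hw.instances sq
  let pt : p.pt.left := IsLocalRing.closedPoint p.K
  rw [← Points.ofPt_toHom p pt, ← geDeg_iff_geDegSp hw sq pt d, geDeg_iff_of_isFinite] at h
  exact h.trans (hrank pt)

theorem isOpen_geDegSp (hw : Hyp w) (d : ℕ) : IsOpen {x : Points X | GeDegSp w x d} := by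
  rw [Points.isOpen_iff]
  intro T g
  have sq := hw.fl.rep.isPullback' g
  obtain ⟨i1, i2, i3, i4⟩ := hw.instances sq
  have : Points.ofPt g ⁻¹' {x : Points X | GeDegSp w x d} =
      {t : T.left | GeDeg (hw.fl.rep.snd g).left t d} := by
    ext t
    exact (geDeg_iff_geDegSp hw sq t d).symm
  rw [this]
  exact isOpen_geDeg _ d

theorem main (X : AlgSp.Space S) {W : Over S}
    (w : (AlgSp.yon S).obj W ⟶ X.obj) (hfl : AlgSp.RepWith @Flat w)
    (hfp : AlgSp.RepWith @LocallyOfFinitePresentation w)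
    (hsep : AlgSp.RepWith @IsSeparated w) (hqf : AlgSp.RepWith @LocallyQuasiFinite w)
    (hb : W4dec.HasUnivBddFibres w) :
    ∃ (n : ℕ) (Zs : ℕ → AlgSp.Space S) (i : ∀ r, Zs r ⟶ X),
      (∀ r, AlgSp.IsRedInduced (Set.range (AlgSp.Points.map (i r).hom)) (i r).hom) ∧
      IsEmpty (AlgSp.Points (Zs 0).obj) ∧
      Set.range (AlgSp.Points.map (i (n + 1)).hom) = Set.univ ∧
      (∀ r, Set.range (AlgSp.Points.map (i r).hom) ⊆
        Set.range (AlgSp.Points.map (i (r + 1)).hom)) ∧
      ∀ (r : ℕ) (T : AlgSp.Space S) (g : T ⟶ X) (P : AlgSp.Sp S)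
        (fst : P ⟶ (AlgSp.yon S).obj W) (snd : P ⟶ T.obj),
        IsPullback fst snd w g.hom →
          (AlgSp.IsFinLocFreeOfDegMor r snd ↔
            Set.range (AlgSp.Points.map g.hom) ⊆
              Set.range (AlgSp.Points.map (i (r + 1)).hom) \
                Set.range (AlgSp.Points.map (i r).hom)) := by
  have hw : Hyp w := ⟨hfl, hfp, hsep, hqf⟩
  obtain ⟨n, hn⟩ := hb
  let Tset : ℕ → Set (Points X.obj) := fun r => {x | ¬ GeDegSp w x r}
  have hclosed : ∀ r, IsClosed (Tset r) := fun r => (isOpen_geDegSp hw r).isClosed_compl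
  choose Z₀ i₀ hZ₀ hi₀ using fun r => exists_isRedInduced X.property (Tset r) (hclosed r)
  let Zs : ℕ → AlgSp.Space S := fun r => ⟨Z₀ r, hZ₀ r⟩
  let i : ∀ r, Zs r ⟶ X := fun r => ObjectProperty.homMk (i₀ r)
  have hrange : ∀ r, Set.range (Points.map (i r).hom) = Tset r := fun r => (hi₀ r).2.1
  refine ⟨n, Zs, i, ?_, ?_, ?_, ?_, ?_⟩
  · intro r
    rw [hrange r]
    exact hi₀ r
  · refine ⟨fun z => ?_⟩
    have h1 : Points.map (i 0).hom z ∈ Tset 0 := by rw [← hrange 0]; exact ⟨z, rfl⟩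
    exact h1 (geDegSp_zero hw _)
  · rw [hrange]
    ext x
    refine ⟨fun _ => trivial, fun _ h => ?_⟩
    have := le_of_geDegSp hw hn x (n + 1) h
    omega
  · intro r
    rw [hrange, hrange]
    intro x hx h
    exact hx (h.mono (Nat.le_succ r))
  · intro r T g P fst snd sq
    rw [hrange, hrange]
    constructor
    · intro hfin₀
      have hfin : RepWith (finLocFreeOfDeg r) snd := hfin₀
      rintro _ ⟨y, rfl⟩
      obtain ⟨p, rfl⟩ := Points.mk_surjective y
      obtain ⟨V, snd'', fst'', sqξ⟩ : ∃ (V : Over S) (snd'' : V ⟶ p.pt)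
          (fst'' : (yon S).obj V ⟶ P), IsPullback fst'' ((yon S).map snd'') snd p.toHom :=
        ⟨_, _, _, hfin.rep.isPullback p.toHom⟩
      have hprop : Mor2.IsFinLocFreeOfDeg r snd''.left := hfin.property p.toHom _ _ sqξ
      obtain ⟨⟨hf1, hf2, -⟩, hrank⟩ := hprop
      have big := sqξ.paste_horiz sq
      let pt : p.pt.left := IsLocalRing.closedPoint p.K
      have key : ∀ d, GeDegSp w (Points.map g.hom (Points.mk p)) d ↔ d ≤ r := by
        intro d
        rw [← Points.ofPt_toHom p pt, Points.map_ofPt, ← geDeg_iff_geDegSp hw big pt d,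
          geDeg_iff_of_isFinite, hrank]
      refine ⟨fun h => ?_, fun h => h ((key r).2 le_rfl)⟩
      have := (key (r + 1)).1 h
      omega
    · intro hsub
      have hsnd_fl : RepWith @Flat snd := (RepWith @Flat).of_isPullback sq hfl
      refine ⟨hsnd_fl.rep, fun T' V b fst'' snd'' sq'' => ?_⟩
      have big := sq''.paste_horiz sq
      obtain ⟨i1, i2, i3, i4⟩ := hw.instances big
      have hconst : ∀ t' : T'.left, GeDeg snd''.left t' r ∧ ¬ GeDeg snd''.left t' (r + 1) := by
        intro t'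
        rw [geDeg_iff_geDegSp hw big t' r, geDeg_iff_geDegSp hw big t' (r + 1),
          ← Points.map_ofPt]
        have := hsub ⟨Points.ofPt b t', rfl⟩
        exact ⟨not_not.1 this.2, this.1⟩
      obtain ⟨hfin, hrank⟩ := isFinite_of_geDeg_const snd''.left r hconst
      exact ⟨⟨hfin, i1, i2⟩, hrank⟩

end Groth.Agent.Helper15.FibDegSp
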