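import Groth.Agent.Lib.Helper15.FibDim0
import Groth.Agent.Lib.Helper15.TrdegQF

set_option autoImplicit false
universe u

open CategoryTheory CategoryTheory.Limits AlgebraicGeometry Opposite

namespace Groth.Agent.Helper15.FibDim

open AlgSp Groth.Agent.Helper15.Trdeg

variable {S : Scheme.{u}}

theorem locP_lqf_iff_fibreDimAt_zero {X Y : Sp S} (hX : IsAlgSpace X) (hY : IsAlgSpace Y)
    (f : X ⟶ Y) (hf : LocP @LocallyOfFiniteType f) :
    LocP (@LocallyQuasiFinite ⊓ @LocallyOfFiniteType) f ↔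
      ∀ x : Points X, HasAtMor (fun _ _ h u => FlatMor.fibreDimAt h u = 0) f x := by
  constructor
  · intro h x
    obtain ⟨U, V, a, b, k, u, ha, hb, comm, hx, hP⟩ := exists_chart_at hX hY f h x
    haveI : LocallyQuasiFinite k.left := hP.1
    haveI : LocallyOfFiniteType k.left := hP.2
    exact ⟨U, V, a, b, k, u, ha, hb, comm, hx,
      (fibreDimAt_eq_zero_iff_quasiFiniteAt k.left u).2 (k.left.quasiFiniteAt u)⟩
  · intro h
    rw [locP_listed_iff_forall_hasAtMor_nbhd (@LocallyQuasiFinite ⊓ @LocallyOfFiniteType)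
      (Or.inr (Or.inr (Or.inr (Or.inr (Or.inr (Or.inl (fun A B g => Iff.rfl))))))) hX hY f]
    intro x
    obtain ⟨U, V, a, b, k, u, ha, hb, comm, hx, hQ⟩ := h x
    haveI : LocallyOfFiniteType k.left := hf a b k ha hb comm
    have hq : k.left.QuasiFiniteAt u := (fibreDimAt_eq_zero_iff_quasiFiniteAt k.left u).1 hQ
    refine ⟨U, V, a, b, k, u, ha, hb, comm, hx, k.left.quasiFiniteLocus, hq, ?_, ?_⟩
    · exact (inferInstance : LocallyQuasiFinite (k.left.quasiFiniteLocus.ι ≫ k.left))
    · exact (inferInstance : LocallyOfFiniteType (k.left.quasiFiniteLocus.ι ≫ k.left))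

end Groth.Agent.Helper15.FibDim
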