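import Mathlib

set_option autoImplicit false

universe u

open TensorProduct Polynomial

namespace Groth.Agent.Helper15.FibEt

section RL

variable {R A κ : Type u} [CommRing R] [CommRing A] [Field κ] [Algebra R A] [Algebra R κ]

/-- Clearing denominators in `A ⊗[R] κ`. -/
theorem exists_clear_denominator
    (hκ : ∀ k : κ, ∃ r σ : R, algebraMap R κ σ ≠ 0 ∧ k * algebraMap R κ σ = algebraMap R κ r)
    (c : A ⊗[R] κ) :
    ∃ σ : R, algebraMap R κ σ ≠ 0 ∧ ∃ a : A, c * (1 ⊗ₜ algebraMap R κ σ) = a ⊗ₜ 1 := by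
  induction c using TensorProduct.induction_on with
  | zero => exact ⟨1, by simp, 0, by simp⟩
  | tmul a k =>
    obtain ⟨r, σ, hσ, hk⟩ := hκ k
    refine ⟨σ, hσ, r • a, ?_⟩
    rw [Algebra.TensorProduct.tmul_mul_tmul, mul_one, hk, Algebra.algebraMap_eq_smul_one,
      TensorProduct.tmul_smul, TensorProduct.smul_tmul']
  | add x y hx hy =>
    obtain ⟨σ₁, h₁, a₁, e₁⟩ := hx
    obtain ⟨σ₂, h₂, a₂, e₂⟩ := hy
    refine ⟨σ₁ * σ₂, by rw [map_mul]; exact mul_ne_zero h₁ h₂, σ₂ • a₁ + σ₁ • a₂, ?_⟩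
    have hm : (1 : A) ⊗ₜ[R] algebraMap R κ (σ₁ * σ₂) =
        ((1 : A) ⊗ₜ[R] algebraMap R κ σ₁) * ((1 : A) ⊗ₜ[R] algebraMap R κ σ₂) := by
      rw [Algebra.TensorProduct.tmul_mul_tmul, mul_one, map_mul]
    have h1 : ∀ (a : A) (τ : R), (a ⊗ₜ[R] (1 : κ)) * ((1 : A) ⊗ₜ[R] algebraMap R κ τ) =
        (τ • a) ⊗ₜ[R] (1 : κ) := by
      intro a τ
      rw [Algebra.TensorProduct.tmul_mul_tmul, mul_one, one_mul, Algebra.algebraMap_eq_smul_one,
        TensorProduct.tmul_smul, TensorProduct.smul_tmul']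
    rw [hm, add_mul, ← mul_assoc, e₁, mul_comm ((1 : A) ⊗ₜ[R] algebraMap R κ σ₁), ← mul_assoc, e₂,
      h1, h1, TensorProduct.add_tmul]

/-- Clearing denominators of finitely many elements of `A ⊗[R] κ` simultaneously. -/
theorem exists_clear_denominator_finset
    (hκ : ∀ k : κ, ∃ r σ : R, algebraMap R κ σ ≠ 0 ∧ k * algebraMap R κ σ = algebraMap R κ r)
    (F : Finset (A ⊗[R] κ)) :
    ∃ σ : R, algebraMap R κ σ ≠ 0 ∧
      ∀ c ∈ F, ∃ a : A, c * (1 ⊗ₜ algebraMap R κ σ) = a ⊗ₜ 1 := by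
  classical
  induction F using Finset.induction_on with
  | empty => exact ⟨1, by simp, by simp⟩
  | insert c F hc ih =>
    obtain ⟨σ₁, h₁, H₁⟩ := ih
    obtain ⟨σ₂, h₂, a₂, e₂⟩ := exists_clear_denominator hκ c
    have hm : (1 : A) ⊗ₜ[R] algebraMap R κ (σ₁ * σ₂) =
        ((1 : A) ⊗ₜ[R] algebraMap R κ σ₁) * ((1 : A) ⊗ₜ[R] algebraMap R κ σ₂) := by
      rw [Algebra.TensorProduct.tmul_mul_tmul, mul_one, map_mul]
    have h1 : ∀ (a : A) (τ : R), (a ⊗ₜ[R] (1 : κ)) * ((1 : A) ⊗ₜ[R] algebraMap R κ τ) =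
        (τ • a) ⊗ₜ[R] (1 : κ) := by
      intro a τ
      rw [Algebra.TensorProduct.tmul_mul_tmul, mul_one, one_mul, Algebra.algebraMap_eq_smul_one,
        TensorProduct.tmul_smul, TensorProduct.smul_tmul']
    refine ⟨σ₁ * σ₂, by rw [map_mul]; exact mul_ne_zero h₁ h₂, ?_⟩
    intro c' hc'
    rcases Finset.mem_insert.1 hc' with rfl | hc'
    · exact ⟨σ₁ • a₂, by
        rw [hm, mul_comm ((1 : A) ⊗ₜ[R] algebraMap R κ σ₁), ← mul_assoc, e₂, h1]⟩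
    · obtain ⟨a, e⟩ := H₁ c' hc'
      exact ⟨σ₂ • a, by rw [hm, ← mul_assoc, e, h1]⟩

end RL

end Groth.Agent.Helper15.FibEt
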