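import Mathlib
import Groth.Agent.Lib.Helper15.FibEt1

set_option autoImplicit false

universe u

open TensorProduct Polynomial

namespace Groth.Agent.Helper15.FibEt

section RL

variable {R A κ : Type u} [CommRing R] [CommRing A] [Field κ] [Algebra R A] [Algebra R κ]

theorem includeLeft_algebraMap (σ : R) :
    (Algebra.TensorProduct.includeLeftRingHom : A →+* A ⊗[R] κ) (algebraMap R A σ) =
      (1 : A) ⊗ₜ[R] algebraMap R κ σ := by
  change (algebraMap R A σ) ⊗ₜ[R] (1 : κ) = _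
  rw [Algebra.algebraMap_eq_smul_one, Algebra.algebraMap_eq_smul_one, TensorProduct.smul_tmul]

theorem isUnit_one_tmul (σ : R) (hσ : algebraMap R κ σ ≠ 0) :
    IsUnit ((1 : A) ⊗ₜ[R] algebraMap R κ σ) := by
  have : IsUnit (algebraMap R κ σ) := isUnit_iff_ne_zero.2 hσ
  exact this.map (Algebra.TensorProduct.includeRight : κ →ₐ[R] A ⊗[R] κ)

/-- The canonical map `A_σ ⟶ A ⊗[R] κ` for `σ` invertible in `κ`. -/
noncomputable def alpha (σ : R) (hσ : algebraMap R κ σ ≠ 0) :
    Localization.Away (algebraMap R A σ) →+* A ⊗[R] κ :=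
  IsLocalization.Away.lift (algebraMap R A σ)
    (g := (Algebra.TensorProduct.includeLeftRingHom : A →+* A ⊗[R] κ)) (by
      rw [includeLeft_algebraMap]; exact isUnit_one_tmul σ hσ)

theorem alpha_algebraMap (σ : R) (hσ : algebraMap R κ σ ≠ 0) (a : A) :
    alpha (A := A) (κ := κ) σ hσ (algebraMap A _ a) = a ⊗ₜ 1 :=
  IsLocalization.Away.lift_eq _ _ a

theorem alpha_comp (σ : R) (hσ : algebraMap R κ σ ≠ 0) :
    (alpha (A := A) (κ := κ) σ hσ).comp (algebraMap A (Localization.Away (algebraMap R A σ))) =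
      Algebra.TensorProduct.includeLeftRingHom := by
  ext a
  exact alpha_algebraMap σ hσ a

theorem mem_range_alpha (σ : R) (hσ : algebraMap R κ σ ≠ 0) {c : A ⊗[R] κ} {a : A}
    (h : c * (1 ⊗ₜ algebraMap R κ σ) = a ⊗ₜ 1) : c ∈ Set.range (alpha (A := A) (κ := κ) σ hσ) := by
  refine ⟨IsLocalization.mk' _ a (⟨algebraMap R A σ, Submonoid.mem_powers _⟩ :
    Submonoid.powers (algebraMap R A σ)), ?_⟩
  have hu := isUnit_one_tmul (A := A) σ hσ
  apply hu.mul_left_injective
  beta_reduce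
  rw [h, ← includeLeft_algebraMap (A := A) (κ := κ) σ]
  have e1 : (Algebra.TensorProduct.includeLeftRingHom : A →+* A ⊗[R] κ) (algebraMap R A σ) =
      alpha (A := A) (κ := κ) σ hσ (algebraMap A _ (algebraMap R A σ)) :=
    (alpha_algebraMap σ hσ (algebraMap R A σ)).symm
  rw [e1, ← map_mul, IsLocalization.mk'_spec, alpha_algebraMap]

/-- Lifting polynomials along `alpha`. -/
theorem mem_lifts_alpha (σ : R) (hσ : algebraMap R κ σ ≠ 0) (q : (A ⊗[R] κ)[X])
    (h : ∀ c ∈ q.coeffs, ∃ a : A, c * (1 ⊗ₜ algebraMap R κ σ) = a ⊗ₜ 1) :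
    q ∈ Polynomial.lifts (alpha (A := A) (κ := κ) σ hσ) := by
  rw [Polynomial.lifts_iff_coeff_lifts]
  intro n
  by_cases hn : q.coeff n = 0
  · rw [hn]; exact ⟨0, map_zero _⟩
  · obtain ⟨a, ha⟩ := h _ (Polynomial.coeff_mem_coeffs hn)
    exact mem_range_alpha σ hσ ha

end RL

end Groth.Agent.Helper15.FibEt
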