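import Mathlib
import Groth.Agent.Lib.Helper15.FibEt2

set_option autoImplicit false

universe u

open TensorProduct Polynomial CategoryTheory CategoryTheory.Limits

namespace Groth.Agent.Helper15.FibEt

/-- A standard etale pair over `C` whose polynomials lift along `α : A' ⟶ C` (the second one up to
a power) gives a pushout square of standard etale algebras. -/
theorem isPushout_of_map_eq {A' C : Type u} [CommRing A'] [CommRing C] (α : A' →+* C)
    (P' : StandardEtalePair A') (P : StandardEtalePair C) (n : ℕ)
    (hf : P'.f.map α = P.f) (hg : P'.g.map α = P.g ^ (n + 1)) :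
    ∃ θ : P'.Ring →+* P.Ring,
      IsPushout (CommRingCat.ofHom (algebraMap A' P'.Ring)) (CommRingCat.ofHom α)
        (CommRingCat.ofHom θ) (CommRingCat.ofHom (algebraMap C P.Ring)) := by
  letI algC : Algebra A' C := α.toAlgebra
  -- the key transfer of `HasMap`
  have key : ∀ {W : Type u} [CommRing W] [Algebra A' W] [Algebra C W] [IsScalarTower A' C W]
      (x : W), P'.HasMap x → P.HasMap x := by
    intro W _ _ _ _ x hx
    have h2 := hx.map_algebraMap (S := C)
    obtain ⟨h2a, h2b⟩ := h2
    have e1 : (P'.map (algebraMap A' C)).f = P.f := hf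
    have e2 : (P'.map (algebraMap A' C)).g = P.g ^ (n + 1) := hg
    rw [e1] at h2a
    rw [e2, map_pow] at h2b
    exact ⟨h2a, (isUnit_pow_iff (Nat.succ_ne_zero n)).1 h2b⟩
  letI algP : Algebra A' P.Ring := ((algebraMap C P.Ring).comp α).toAlgebra
  haveI : IsScalarTower A' C P.Ring := IsScalarTower.of_algebraMap_eq (fun _ => rfl)
  -- `P.X` satisfies the equations of `P'`
  have hasMap0 : P'.HasMap (S := P.Ring) P.X := by
    constructor
    · have := (P.hasMap_X (R := C)).1
      rw [← hf] at this
      rwa [show P'.f.map α = P'.f.map (algebraMap A' C) from rfl,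
        Polynomial.aeval_map_algebraMap] at this
    · have := ((P.hasMap_X (R := C)).2).pow (n + 1)
      rw [← map_pow, ← hg, show P'.g.map α = P'.g.map (algebraMap A' C) from rfl,
        Polynomial.aeval_map_algebraMap] at this
      exact this
  let θA : P'.Ring →ₐ[A'] P.Ring := P'.lift P.X hasMap0
  refine ⟨θA.toRingHom, ?_⟩
  have hw : CommRingCat.ofHom (algebraMap A' P'.Ring) ≫ CommRingCat.ofHom θA.toRingHom =
      CommRingCat.ofHom α ≫ CommRingCat.ofHom (algebraMap C P.Ring) := by
    ext r
    exact θA.commutes r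
  refine ⟨⟨hw⟩, ⟨PushoutCocone.IsColimit.mk hw ?_ ?_ ?_ ?_⟩⟩
  · intro s
    letI : Algebra C s.pt := s.inr.hom.toAlgebra
    letI : Algebra A' s.pt := (s.inr.hom.comp α).toAlgebra
    haveI : IsScalarTower A' C s.pt := IsScalarTower.of_algebraMap_eq (fun _ => rfl)
    let inlA : P'.Ring →ₐ[A'] s.pt :=
      { s.inl.hom with commutes' := fun r => congr($(s.condition) r) }
    have h3 : P.HasMap (inlA P'.X) := key _ (P'.hasMap_X.map inlA)
    exact CommRingCat.ofHom (P.lift (inlA P'.X) h3).toRingHom
  · intro s
    letI : Algebra C s.pt := s.inr.hom.toAlgebra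
    letI : Algebra A' s.pt := (s.inr.hom.comp α).toAlgebra
    haveI : IsScalarTower A' C s.pt := IsScalarTower.of_algebraMap_eq (fun _ => rfl)
    let inlA : P'.Ring →ₐ[A'] s.pt :=
      { s.inl.hom with commutes' := fun r => congr($(s.condition) r) }
    have h3 : P.HasMap (inlA P'.X) := key _ (P'.hasMap_X.map inlA)
    have : ((P.lift (inlA P'.X) h3).restrictScalars A').comp θA = inlA := by
      apply P'.hom_ext
      simp [θA]
    ext y
    exact congr($this y)
  · intro s
    letI : Algebra C s.pt := s.inr.hom.toAlgebra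
    letI : Algebra A' s.pt := (s.inr.hom.comp α).toAlgebra
    haveI : IsScalarTower A' C s.pt := IsScalarTower.of_algebraMap_eq (fun _ => rfl)
    let inlA : P'.Ring →ₐ[A'] s.pt :=
      { s.inl.hom with commutes' := fun r => congr($(s.condition) r) }
    have h3 : P.HasMap (inlA P'.X) := key _ (P'.hasMap_X.map inlA)
    ext c
    exact (P.lift (inlA P'.X) h3).commutes c
  · intro s m hm1 hm2
    letI : Algebra C s.pt := s.inr.hom.toAlgebra
    letI : Algebra A' s.pt := (s.inr.hom.comp α).toAlgebra
    haveI : IsScalarTower A' C s.pt := IsScalarTower.of_algebraMap_eq (fun _ => rfl)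
    let inlA : P'.Ring →ₐ[A'] s.pt :=
      { s.inl.hom with commutes' := fun r => congr($(s.condition) r) }
    have h3 : P.HasMap (inlA P'.X) := key _ (P'.hasMap_X.map inlA)
    let mA : P.Ring →ₐ[C] s.pt := { m.hom with commutes' := fun c => congr($hm2 c) }
    have : mA = P.lift (inlA P'.X) h3 := by
      apply P.hom_ext
      rw [StandardEtalePair.lift_X]
      have h4 : θA P'.X = P.X := P'.lift_X _ _
      change m.hom P.X = s.inl.hom P'.X
      rw [← h4]
      exact congr($hm1 P'.X)
    ext y
    exact congr($this y)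

end Groth.Agent.Helper15.FibEt
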