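import Mathlib
import Groth.Agent.Lib.Helper15.FibEt3

set_option autoImplicit false

universe u

open TensorProduct Polynomial CategoryTheory CategoryTheory.Limits

namespace Groth.Agent.Helper15.FibEt

variable {R A κ : Type u} [CommRing R] [CommRing A] [Field κ] [Algebra R A] [Algebra R κ]

/-- A standard etale pair over `A ⊗[R] κ` lifts (up to replacing `g` by a power) to a standard etale
pair over `A_σ` for some `σ` invertible in `κ`. -/
theorem exists_lift_pair
    (hκ : ∀ k : κ, ∃ r σ : R, algebraMap R κ σ ≠ 0 ∧ k * algebraMap R κ σ = algebraMap R κ r)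
    (P : StandardEtalePair (A ⊗[R] κ)) :
    ∃ (σ : R) (hσ : algebraMap R κ σ ≠ 0)
      (P' : StandardEtalePair (Localization.Away (algebraMap R A σ))) (n : ℕ),
      P'.f.map (alpha σ hσ) = P.f ∧ P'.g.map (alpha σ hσ) = P.g ^ (n + 1) := by
  classical
  obtain ⟨p₁, p₂, n, hcond⟩ := P.cond
  obtain ⟨σ, hσ, H⟩ := exists_clear_denominator_finset hκ
    (P.f.coeffs ∪ P.g.coeffs ∪ p₁.coeffs ∪ p₂.coeffs)
  have hfl : P.f ∈ Polynomial.lifts (alpha (A := A) (κ := κ) σ hσ) :=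
    mem_lifts_alpha σ hσ _ (fun c hc => H c (by simp [hc]))
  have hgl : P.g ∈ Polynomial.lifts (alpha (A := A) (κ := κ) σ hσ) :=
    mem_lifts_alpha σ hσ _ (fun c hc => H c (by simp [hc]))
  have h1l : p₁ ∈ Polynomial.lifts (alpha (A := A) (κ := κ) σ hσ) :=
    mem_lifts_alpha σ hσ _ (fun c hc => H c (by simp [hc]))
  have h2l : p₂ ∈ Polynomial.lifts (alpha (A := A) (κ := κ) σ hσ) :=
    mem_lifts_alpha σ hσ _ (fun c hc => H c (by simp [hc]))
  obtain ⟨f', hf', hmonic⟩ : ∃ f' : (Localization.Away (algebraMap R A σ))[X],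
      f'.map (alpha σ hσ) = P.f ∧ f'.Monic := by
    rcases subsingleton_or_nontrivial (A ⊗[R] κ) with hs | hn
    · exact ⟨1, Subsingleton.elim _ _, Polynomial.monic_one⟩
    · obtain ⟨f', hf', -, hmonic⟩ := Polynomial.lifts_and_degree_eq_and_monic hfl P.monic_f
      exact ⟨f', hf', hmonic⟩
  obtain ⟨g', hg'⟩ := (Polynomial.mem_lifts _).1 hgl
  obtain ⟨q₁, hq₁⟩ := (Polynomial.mem_lifts _).1 h1l
  obtain ⟨q₂, hq₂⟩ := (Polynomial.mem_lifts _).1 h2l
  refine ⟨σ, hσ, ⟨f', hmonic, g' * (derivative f' * q₁ + f' * q₂),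
    ⟨g' * q₁, g' * q₂, 1, by ring⟩⟩, n, hf', ?_⟩
  change (g' * (derivative f' * q₁ + f' * q₂)).map (alpha σ hσ) = P.g ^ (n + 1)
  rw [Polynomial.map_mul, Polynomial.map_add, Polynomial.map_mul, Polynomial.map_mul,
    ← Polynomial.derivative_map, hf', hg', hq₁, hq₂, hcond, pow_succ']

/-- The combined ring-theoretic lifting statement. -/
theorem exists_lift_isPushout
    (hκ : ∀ k : κ, ∃ r σ : R, algebraMap R κ σ ≠ 0 ∧ k * algebraMap R κ σ = algebraMap R κ r)
    (P : StandardEtalePair (A ⊗[R] κ)) :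
    ∃ (σ : R) (hσ : algebraMap R κ σ ≠ 0)
      (P' : StandardEtalePair (Localization.Away (algebraMap R A σ)))
      (θ : P'.Ring →+* P.Ring),
      IsPushout (CommRingCat.ofHom (algebraMap (Localization.Away (algebraMap R A σ)) P'.Ring))
        (CommRingCat.ofHom (alpha (A := A) (κ := κ) σ hσ))
        (CommRingCat.ofHom θ) (CommRingCat.ofHom (algebraMap (A ⊗[R] κ) P.Ring)) := by
  obtain ⟨σ, hσ, P', n, hf, hg⟩ := exists_lift_pair hκ P
  obtain ⟨θ, hθ⟩ := isPushout_of_map_eq (alpha σ hσ) P' P n hf hg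
  exact ⟨σ, hσ, P', θ, hθ⟩

end Groth.Agent.Helper15.FibEt
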