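import Mathlib
import Groth.Agent.Lib.Helper15.LiftBound
import Groth.Agent.Lib.Helper15.SoberAux
import Groth.Agent.Lib.Helper15.AlgSpDescent

/-!
# Separated etale morphisms with finite fibres over a Noetherian scheme are quasi-compact
-/

set_option autoImplicit false
universe u
open CategoryTheory CategoryTheory.Limits AlgebraicGeometry TopologicalSpace

namespace Groth.Agent.Helper15.QcNoeth

open Groth.Agent.Helper15 Groth.Agent.Helper15.LiftCount Groth.Agent.Helper15.SoberAux

/-- A finite set of points of a locally Noetherian scheme lies in an open all of whose subsets are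
quasi-compact. -/
theorem exists_opens_noetherian {Y : Scheme.{u}} [IsLocallyNoetherian Y] (F : Set Y)
    (hF : F.Finite) : ∃ R' : Y.Opens, F ⊆ R' ∧ ∀ A : Set Y, A ⊆ R' → IsCompact A := by
  classical
  have hO : ∀ r : Y, ∃ O : Y.Opens, IsAffineOpen O ∧ r ∈ O := fun r => by
    obtain ⟨_, ⟨O, hO, rfl⟩, hrO, -⟩ :=
      (Y.isBasis_affineOpens).exists_subset_of_mem_open (Set.mem_univ r) isOpen_univ
    exact ⟨O, hO, hrO⟩
  choose O hOaff hOmem using hO
  refine ⟨⨆ r ∈ hF.toFinset, O r, ?_, ?_⟩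
  · intro r hr
    simp only [Opens.coe_iSup, Set.mem_iUnion, SetLike.mem_coe, exists_prop]
    exact ⟨r, hF.mem_toFinset.2 hr, hOmem r⟩
  · intro A hA
    have hAeq : A = ⋃ r ∈ hF.toFinset, (A ∩ (O r : Set Y)) := by
      ext a
      constructor
      · intro ha
        have := hA ha
        simp only [Opens.coe_iSup, Set.mem_iUnion, SetLike.mem_coe, exists_prop] at this
        obtain ⟨r, hr, har⟩ := this
        exact Set.mem_iUnion₂.2 ⟨r, hr, ha, har⟩
      · intro ha
        obtain ⟨r, -, ha', -⟩ := Set.mem_iUnion₂.1 ha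
        exact ha'
    rw [hAeq]
    refine hF.toFinset.isCompact_biUnion fun r _ => ?_
    haveI : IsNoetherianRing Γ(Y, O r) :=
      IsLocallyNoetherian.component_noetherian ⟨O r, hOaff r⟩
    have hns : NoetherianSpace ((O r : Set Y)) := by
      convert! noetherianSpace_of_isAffineOpen (O r) (hOaff r)
    exact (noetherianSpace_set_iff (O r : Set Y)).mp hns _ Set.inter_subset_right

/-- A separated etale morphism with finite fibres to a Noetherian scheme has quasi-compact
source. -/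
theorem compactSpace_of_etale_finite_fibres {Y Z : Scheme.{u}} (f : Y ⟶ Z) [Etale f]
    [IsSeparated f] [IsNoetherian Z] (hfin : ∀ z : Z, (f ⁻¹' {z}).Finite) : CompactSpace Y := by
  classical
  haveI : IsLocallyNoetherian Y := LocallyOfFiniteType.isLocallyNoetherian f
  haveI : LocallyQuasiFinite f := locallyQuasiFinite_of_etale f
  let E : ℕ → Set Z := fun n => {u | HasLifts f n u}
  have hEopen : ∀ n, IsOpen (E n) := fun n => isOpen_hasLifts n f
  have hEanti : ∀ n m, n ≤ m → E m ⊆ E n := fun n m hnm u hu => HasLifts.of_le hu hnm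
  have key : ∀ C : Closeds Z, IsCompact (f ⁻¹' (C : Set Z)) := by
    intro C
    induction C using WellFoundedLT.induction with
    | ind C ih =>
    by_cases hCe : (C : Set Z) = ∅
    · rw [hCe, Set.preimage_empty]; exact isCompact_empty
    obtain ⟨c₀, hc₀⟩ := Set.nonempty_iff_ne_empty.2 hCe
    -- boundedness of the number of lifts on `C`
    have h7 : ∃ n, ∀ u ∈ (C : Set Z), u ∉ E n := by
      obtain ⟨Sf, hSirr, hSsup⟩ := NoetherianSpace.exists_finset_irreducible C
      have hgen : ∀ t ∈ Sf, ∃ n, ∀ u ∈ (t : Set Z), u ∉ E n := by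
        intro t ht
        obtain ⟨η, hη⟩ := QuasiSober.sober (hSirr ⟨t, ht⟩) t.isClosed
        obtain ⟨N, hN⟩ := exists_bound_of_finite_fibre f η (hfin η)
        refine ⟨N + 1, fun u hu huE => ?_⟩
        have hηu : η ⤳ u := by
          rw [specializes_iff_mem_closure, hη.def]; exact hu
        have := hN (N + 1) (hηu.mem_open (hEopen _) huE)
        omega
      choose! nn hnn using hgen
      refine ⟨Sf.sup nn, fun u hu huE => ?_⟩
      have huS : u ∈ ((Sf.sup id : Closeds Z) : Set Z) := by rw [← hSsup]; exact hu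
      rw [Closeds.coe_finset_sup] at huS
      simp only [id_eq, Finset.sup_set_eq_biUnion, Set.mem_iUnion, SetLike.mem_coe,
        exists_prop] at huS
      obtain ⟨t, ht, hut⟩ := huS
      exact hnn t ht u hut (hEanti _ _ (Finset.le_sup ht) huE)
    let n₀ := Nat.find h7
    have hn₀ : ∀ u ∈ (C : Set Z), u ∉ E n₀ := Nat.find_spec h7
    have hn₀pos : n₀ ≠ 0 := by
      intro h0
      exact hn₀ c₀ hc₀ (by rw [h0]; exact hasLifts_zero _ _)
    obtain ⟨m, hm⟩ : ∃ m, n₀ = m + 1 := Nat.exists_eq_succ_of_ne_zero hn₀pos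
    have hm1 : ∃ a ∈ (C : Set Z), a ∈ E m := by
      have := Nat.find_min h7 (show m < n₀ by omega)
      push Not at this
      exact this
    have hm2 : ∀ u ∈ (C : Set Z), ¬ HasLifts f (m + 1) u := by
      intro u hu
      rw [← hm]
      exact hn₀ u hu
    -- good neighbourhoods
    have hR : ∀ ζ : Z, ∃ R' : Y.Opens, f ⁻¹' {ζ} ⊆ R' ∧ ∀ A : Set Y, A ⊆ R' → IsCompact A :=
      fun ζ => exists_opens_noetherian _ (hfin ζ)
    choose R' hR'sub hR'cpt using hR
    let N : Z → Set Z := fun ζ => {u | HasLifts ((R' ζ).ι ≫ f) m u}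
    have hNopen : ∀ ζ, IsOpen (N ζ) := fun ζ => isOpen_hasLifts m ((R' ζ).ι ≫ f)
    have hNmem : ∀ ζ, ζ ∈ E m → ζ ∈ N ζ := fun ζ hζ =>
      hasLifts_comp_of_preimage_subset (R' ζ).ι hζ (by
        rw [Scheme.Opens.range_ι]; exact hR'sub ζ)
    have hNsub : ∀ ζ, f ⁻¹' ((C : Set Z) ∩ N ζ) ⊆ R' ζ := by
      intro ζ r hr
      by_contra hrR
      exact hm2 _ hr.1 (HasLifts.succ_of_notMem_range (R' ζ).ι hr.2 r rfl (by
        rw [Scheme.Opens.range_ι]; exact hrR))
    -- finite subcover of `C ∩ E m`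
    have hcpt : IsCompact ((C : Set Z) ∩ E m) := NoetherianSpace.isCompact _
    obtain ⟨F, hFsub, hFfin, hFcover⟩ := hcpt.elim_finite_subcover_image
      (b := (C : Set Z) ∩ E m) (c := N) (fun ζ _ => hNopen ζ)
      (fun ζ hζ => Set.mem_iUnion₂.2 ⟨ζ, hζ, hNmem ζ hζ.2⟩)
    let NN : Set Z := ⋃ ζ ∈ F, N ζ
    have hNNopen : IsOpen NN := isOpen_biUnion fun ζ _ => hNopen ζ
    let C' : Closeds Z := ⟨(C : Set Z) ∩ NNᶜ, C.isClosed.inter hNNopen.isClosed_compl⟩
    have hC'lt : C' < C := by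
      refine lt_of_le_of_ne (fun u hu => hu.1) ?_
      intro heq
      obtain ⟨a, haC, haE⟩ := hm1
      have h1 : a ∈ (C' : Set Z) := by rw [heq]; exact haC
      exact h1.2 (hFcover ⟨haC, haE⟩)
    have hih := ih C' hC'lt
    have hcover : f ⁻¹' (C : Set Z) =
        f ⁻¹' (C' : Set Z) ∪ ⋃ ζ ∈ F, f ⁻¹' ((C : Set Z) ∩ N ζ) := by
      ext r
      constructor
      · intro hr
        by_cases hrN : f r ∈ NN
        · obtain ⟨ζ, hζ, hrζ⟩ := Set.mem_iUnion₂.1 hrN
          exact Or.inr (Set.mem_iUnion₂.2 ⟨ζ, hζ, hr, hrζ⟩)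
        · exact Or.inl ⟨hr, hrN⟩
      · rintro (hr | hr)
        · exact hr.1
        · obtain ⟨ζ, -, hr'⟩ := Set.mem_iUnion₂.1 hr
          exact hr'.1
    rw [hcover]
    exact hih.union (hFfin.isCompact_biUnion fun ζ _ => hR'cpt ζ _ (hNsub ζ))
  refine ⟨?_⟩
  have := key ⊤
  simpa using this

end Groth.Agent.Helper15.QcNoeth
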