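import Mathlib
import Groth.Agent.Lib.Helper15.QcNoeth
import Groth.Agent.Lib.Helper15.SoberDecent
import Groth.Agent.Lib.Helper15.AlgSpDiag

/-!
# Locally Noetherian decent algebraic spaces are quasi-separated
-/

set_option autoImplicit false
universe u
open CategoryTheory CategoryTheory.Limits AlgebraicGeometry Opposite MorphismProperty
open AlgSp

namespace Groth.Agent.Helper15.QsNoeth

open Groth.Agent.Helper15 Groth.Agent.Helper15.LiftCount Groth.Agent.Helper15.SoberAux
  Groth.Agent.Helper15.QcNoeth Groth.Agent.Helper15.QcLocal Groth.Agent.Helper15.MonoPtFibre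
  Groth.Agent.Helper15.SoberDecent

variable {S : Scheme.{u}}

/-- Points of a pullback square of schemes. -/
theorem exists_preimage_of_isPullback {P X Y Z : Scheme.{u}} {fst : P ⟶ X} {snd : P ⟶ Y}
    {f : X ⟶ Z} {g : Y ⟶ Z} (sq : IsPullback fst snd f g) (x : X) (y : Y) (h : f x = g y) :
    ∃ p : P, fst p = x ∧ snd p = y := by
  obtain ⟨p', hp1, hp2⟩ := Scheme.Pullback.exists_preimage_pullback x y h
  refine ⟨sq.isoPullback.inv p', ?_, ?_⟩
  · rw [← hp1, ← Scheme.Hom.comp_apply, sq.isoPullback_inv_fst]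
  · rw [← hp2, ← Scheme.Hom.comp_apply, sq.isoPullback_inv_snd]

/-- Fibres of the projection from the fibre product of two charts of a decent space, the second
one etale with quasi-compact source, are finite. -/
theorem finite_fibre_pullback_of_isDecent {X : Sp S} (hXa : IsAlgSpace X) (hX : IsDecent X)
    {V₁ V₂ W : Over S} [CompactSpace V₂.left] (g₁ : (yon S).obj V₁ ⟶ X)
    (g₂ : (yon S).obj V₂ ⟶ X) (hg₂ : RepWith @Etale g₂) (r₁ : W ⟶ V₁) (r₂ : W ⟶ V₂)
    (sq : IsPullback ((yon S).map r₁) ((yon S).map r₂) g₁ g₂) (u : V₁.left) :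
    (r₁.left ⁻¹' {u}).Finite := by
  let q := FieldPt.ofPt g₁ u
  obtain ⟨p, hp, -, hpq⟩ := hX (Points.mk q)
  have hq : RepWith @QuasiCompact q.toHom := repWith_quasiCompact_of_mk_eq hXa p q hp.symm hpq
  have sqB := hq.rep.isPullback' g₂
  have he : Etale (hq.rep.fst' g₂).left := hg₂.property q.toHom _ _ sqB.flip
  haveI : Finite (hq.rep.pullback g₂).left :=
    finite_pullback_of_quasiCompact_fieldPt q hq g₂ _ _ sqB he
  have sqB' : IsPullback ((yon S).map (hq.rep.fst' g₂)) ((yon S).map (hq.rep.snd g₂))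
      ((yon S).map (iota g₁ u) ≫ g₁) g₂ := by
    rw [← toHom_ofPt_eq]; exact sqB
  obtain ⟨m, -, sqm⟩ := exists_factor_isPullback g₁ (iota g₁ u) g₂ _ _ sqB' r₁ r₂ sq
  have sqL := sqm.map (Over.forget S)
  refine (Set.finite_range m.left).subset ?_
  intro w hw
  obtain ⟨w', hw'1, -⟩ := exists_preimage_of_isPullback sqL w
    (IsLocalRing.closedPoint _) (by
      change r₁.left w = (iota g₁ u).left _
      rw [iota_left_apply]; exact hw)
  exact ⟨w', hw'1⟩

/-- The projection from a fibre product of charts to the first factor is separated when the second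
chart has affine source. -/
theorem isSeparated_pullback_fst_left {X : Sp S} (hX : Representable (Limits.diag X))
    {V₁ V₂ W : Over S} [IsAffine V₂.left] {g₁ : (yon S).obj V₁ ⟶ X} {g₂ : (yon S).obj V₂ ⟶ X}
    {r₁ : W ⟶ V₁} {r₂ : W ⟶ V₂} (sq : IsPullback ((yon S).map r₁) ((yon S).map r₂) g₁ g₂) :
    IsSeparated r₁.left := by
  haveI : Mono (prod.lift r₁ r₂).left := mono_prod_lift_left hX sq
  haveI : IsSeparated V₂.hom := by
    haveI : IsSeparated (V₂.hom ≫ terminal.from S) := by
      have : V₂.hom ≫ terminal.from S = terminal.from V₂.left := Subsingleton.elim _ _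
      rw [this]
      infer_instance
    exact IsSeparated.of_comp V₂.hom (terminal.from S)
  haveI : IsSeparated (prod.fst : V₁ ⨯ V₂ ⟶ V₁).left :=
    prod_fst_left_of @IsSeparated V₁ V₂ inferInstance
  have : r₁.left = (prod.lift r₁ r₂).left ≫ (prod.fst : V₁ ⨯ V₂ ⟶ V₁).left := by
    rw [← Over.comp_left, prod.lift_fst]
  rw [this]
  infer_instance

/-- Fibre products of Noetherian and affine etale charts of a decent space are quasi-compact. -/
theorem compactSpace_pullback_of_isDecent {X : Sp S} (hXa : IsAlgSpace X) (hX : IsDecent X)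
    {V₁ V₂ W : Over S} [IsNoetherian V₁.left] [IsAffine V₂.left] (g₁ : (yon S).obj V₁ ⟶ X)
    (g₂ : (yon S).obj V₂ ⟶ X) (hg₂ : RepWith @Etale g₂) (r₁ : W ⟶ V₁) (r₂ : W ⟶ V₂)
    (sq : IsPullback ((yon S).map r₁) ((yon S).map r₂) g₁ g₂) : CompactSpace W.left := by
  haveI : Etale r₁.left := hg₂.property g₁ _ _ sq.flip
  haveI : IsSeparated r₁.left := isSeparated_pullback_fst_left hXa.diag sq
  exact compactSpace_of_etale_finite_fibres r₁.left
    (finite_fibre_pullback_of_isDecent hXa hX g₁ g₂ hg₂ r₁ r₂ sq)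


/-- In the relation of a locally Noetherian etale chart of a decent space, the part lying over a
pair of affine opens has only quasi-compact subsets. -/
theorem isCompact_of_subset_rel {X : Sp S} (hXa : IsAlgSpace X) (hX : IsDecent X) {U R : Over S}
    [IsLocallyNoetherian U.left] (p : (yon S).obj U ⟶ X) (hpe : RepWith @Etale p) (t s : R ⟶ U)
    (sq : IsPullback ((yon S).map t) ((yon S).map s) p p) (O₁ O₂ : U.left.Opens)
    (hO₁ : IsAffineOpen O₁) (hO₂ : IsAffineOpen O₂) (B : Set R.left)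
    (hB : B ⊆ t.left ⁻¹' (O₁ : Set U.left) ∩ s.left ⁻¹' (O₂ : Set U.left)) : IsCompact B := by
  let V₁ : Over S := Over.mk (O₁.ι ≫ U.hom)
  let V₂ : Over S := Over.mk (O₂.ι ≫ U.hom)
  let j₁ : V₁ ⟶ U := Over.homMk O₁.ι rfl
  let j₂ : V₂ ⟶ U := Over.homMk O₂.ι rfl
  have hj₁ : RepWith @Etale ((yon S).map j₁) :=
    (repWith_yon_map_iff _ j₁).2 (show Etale O₁.ι from inferInstance)
  have hj₂ : RepWith @Etale ((yon S).map j₂) :=
    (repWith_yon_map_iff _ j₂).2 (show Etale O₂.ι from inferInstance)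
  have hg₁ : RepWith @Etale ((yon S).map j₁ ≫ p) := (RepWith @Etale).comp_mem _ _ hj₁ hpe
  have hg₂ : RepWith @Etale ((yon S).map j₂ ≫ p) := (RepWith @Etale).comp_mem _ _ hj₂ hpe
  haveI : IsAffine V₂.left := hO₂
  haveI : IsAffine V₁.left := hO₁
  haveI : IsNoetherian V₁.left :=
    { toIsLocallyNoetherian := (inferInstance : IsLocallyNoetherian (O₁ : Scheme.{u}))
      toCompactSpace := inferInstance }
  have sqW := hg₂.rep.isPullback' ((yon S).map j₁ ≫ p)
  set W := hg₂.rep.pullback ((yon S).map j₁ ≫ p) with hW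
  set r₁ := hg₂.rep.fst' ((yon S).map j₁ ≫ p) with hr₁
  set r₂ := hg₂.rep.snd ((yon S).map j₁ ≫ p) with hr₂
  -- careful: `isPullback'` has the chart `g₂` first
  have sqW' : IsPullback ((yon S).map r₂) ((yon S).map r₁) ((yon S).map j₁ ≫ p)
      ((yon S).map j₂ ≫ p) := sqW.flip
  haveI : CompactSpace W.left :=
    compactSpace_pullback_of_isDecent hXa hX _ _ hg₂ r₂ r₁ sqW'
  -- the comparison map to the relation
  have hcond : (yon S).map (r₂ ≫ j₁) ≫ p = (yon S).map (r₁ ≫ j₂) ≫ p := by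
    rw [Functor.map_comp, Functor.map_comp, Category.assoc, Category.assoc]
    exact sqW'.w
  let μ : W ⟶ R := (yon S).preimage (sq.lift _ _ hcond)
  have hμt : μ ≫ t = r₂ ≫ j₁ := by
    apply (yon S).map_injective
    rw [Functor.map_comp, Functor.map_preimage, sq.lift_fst]
  have hμs : μ ≫ s = r₁ ≫ j₂ := by
    apply (yon S).map_injective
    rw [Functor.map_comp, Functor.map_preimage, sq.lift_snd]
  have hrange : t.left ⁻¹' (O₁ : Set U.left) ∩ s.left ⁻¹' (O₂ : Set U.left) ⊆
      Set.range μ.left := by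
    rintro r ⟨hr1, hr2⟩
    let ρ := R.left.fromSpecResidueField r
    have hρ1 : Set.range (ρ ≫ t.left) ⊆ Set.range O₁.ι := by
      rintro _ ⟨z, rfl⟩
      rw [Scheme.Opens.range_ι]
      change t.left (ρ z) ∈ O₁
      rw [Scheme.fromSpecResidueField_apply]; exact hr1
    have hρ2 : Set.range (ρ ≫ s.left) ⊆ Set.range O₂.ι := by
      rintro _ ⟨z, rfl⟩
      rw [Scheme.Opens.range_ι]
      change s.left (ρ z) ∈ O₂
      rw [Scheme.fromSpecResidueField_apply]; exact hr2
    let α₁ := IsOpenImmersion.lift O₁.ι (ρ ≫ t.left) hρ1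
    let α₂ := IsOpenImmersion.lift O₂.ι (ρ ≫ s.left) hρ2
    have hα₁ : α₁ ≫ O₁.ι = ρ ≫ t.left := IsOpenImmersion.lift_fac _ _ _
    have hα₂ : α₂ ≫ O₂.ι = ρ ≫ s.left := IsOpenImmersion.lift_fac _ _ _
    let T : Over S := Over.mk (ρ ≫ R.hom)
    let ρ' : T ⟶ R := Over.homMk ρ rfl
    let α₁' : T ⟶ V₁ := Over.homMk α₁ (by
      change α₁ ≫ O₁.ι ≫ U.hom = ρ ≫ R.hom
      rw [← Category.assoc, hα₁, Category.assoc, Over.w t])
    let α₂' : T ⟶ V₂ := Over.homMk α₂ (by
      change α₂ ≫ O₂.ι ≫ U.hom = ρ ≫ R.hom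
      rw [← Category.assoc, hα₂, Category.assoc, Over.w s])
    have e1 : α₁' ≫ j₁ = ρ' ≫ t := Over.OverMorphism.ext hα₁
    have e2 : α₂' ≫ j₂ = ρ' ≫ s := Over.OverMorphism.ext hα₂
    have hc2 : (yon S).map α₁' ≫ (yon S).map j₁ ≫ p = (yon S).map α₂' ≫ (yon S).map j₂ ≫ p := by
      rw [← Category.assoc, ← Category.assoc, ← Functor.map_comp, ← Functor.map_comp, e1, e2,
        Functor.map_comp, Functor.map_comp, Category.assoc, Category.assoc, sq.w]
    let ω : T ⟶ W := (yon S).preimage (sqW'.lift _ _ hc2)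
    have hω1 : ω ≫ r₂ = α₁' := by
      apply (yon S).map_injective
      rw [Functor.map_comp, Functor.map_preimage, sqW'.lift_fst]
    have hω2 : ω ≫ r₁ = α₂' := by
      apply (yon S).map_injective
      rw [Functor.map_comp, Functor.map_preimage, sqW'.lift_snd]
    have hωμ : (ω ≫ μ).left = ρ'.left := by
      apply rel_hom_ext sq
      · rw [← Over.comp_left, ← Over.comp_left, Category.assoc, hμt, ← Category.assoc, hω1, e1]
      · rw [← Over.comp_left, ← Over.comp_left, Category.assoc, hμs, ← Category.assoc, hω2, e2]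
    refine ⟨ω.left (IsLocalRing.closedPoint _), ?_⟩
    have := congrArg (fun h : T.left ⟶ R.left => h (IsLocalRing.closedPoint _)) hωμ
    simp only [Over.comp_left, Scheme.Hom.comp_apply] at this
    rw [this]
    exact Scheme.fromSpecResidueField_apply _ _
  -- the open part of the relation is a Noetherian space
  haveI : IsLocallyNoetherian R.left := by
    haveI : Etale t.left := hpe.property p _ _ sq.flip
    exact LocallyOfFiniteType.isLocallyNoetherian t.left
  let R₁₂ : R.left.Opens := t.left ⁻¹ᵁ O₁ ⊓ s.left ⁻¹ᵁ O₂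
  have hR₁₂c : IsCompact (R₁₂ : Set R.left) := by
    have h1 : (R₁₂ : Set R.left) = Set.range μ.left := by
      apply subset_antisymm hrange
      rintro _ ⟨w, rfl⟩
      constructor
      · change t.left (μ.left w) ∈ O₁
        have : t.left (μ.left w) = O₁.ι (r₂.left w) := by
          exact congrArg (fun h : W ⟶ U => h.left w) hμt
        rw [this]; exact (r₂.left w).2
      · change s.left (μ.left w) ∈ O₂
        have : s.left (μ.left w) = O₂.ι (r₁.left w) := by
          exact congrArg (fun h : W ⟶ U => h.left w) hμs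
        rw [this]; exact (r₁.left w).2
    rw [h1]
    exact isCompact_range μ.left.continuous
  haveI : CompactSpace (R₁₂ : Scheme.{u}) := isCompact_iff_compactSpace.1 hR₁₂c
  haveI : IsNoetherian (R₁₂ : Scheme.{u}) := { }
  have hns : TopologicalSpace.NoetherianSpace ((R₁₂ : Set R.left)) := by
    convert! (inferInstance : TopologicalSpace.NoetherianSpace (R₁₂ : Scheme.{u}))
  exact (TopologicalSpace.noetherianSpace_set_iff (R₁₂ : Set R.left)).mp hns B hB

/-- S10354: a locally Noetherian decent algebraic space is quasi-separated. -/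
theorem isQuasiSeparatedSp_of_isLocNoethSp_of_isDecent {X : Sp S} (hXa : IsAlgSpace X)
    (hN : IsLocNoethSp X) (hX : IsDecent X) : IsQuasiSeparatedSp X := by
  obtain ⟨U, p, hpe, hps, hUN⟩ := hN
  haveI : IsLocallyNoetherian U.left := hUN
  have sq := hpe.rep.isPullback' p
  set R := hpe.rep.pullback p
  set t := hpe.rep.fst' p
  set s := hpe.rep.snd p
  refine repWith_diag_of_chart hXa.diag p hpe hps s t sq @QuasiCompact ?_
  rw [quasiCompact_iff_forall_isAffineOpen]
  intro A hA
  let π₁ : (U ⨯ U).left ⟶ U.left := (prod.fst : U ⨯ U ⟶ U).left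
  let π₂ : (U ⨯ U).left ⟶ U.left := (prod.snd : U ⨯ U ⟶ U).left
  have hf1 : (prod.lift t s).left ≫ π₁ = t.left := by
    rw [← Over.comp_left, prod.lift_fst]
  have hf2 : (prod.lift t s).left ≫ π₂ = s.left := by
    rw [← Over.comp_left, prod.lift_snd]
  have hO : ∀ v : U.left, ∃ O : U.left.Opens, IsAffineOpen O ∧ v ∈ O := fun v => by
    obtain ⟨_, ⟨O, hO, rfl⟩, hvO, -⟩ :=
      (U.left.isBasis_affineOpens).exists_subset_of_mem_open (Set.mem_univ v) isOpen_univ
    exact ⟨O, hO, hvO⟩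
  choose O hOaff hOmem using hO
  let N : (U ⨯ U).left → Set (U ⨯ U).left := fun a =>
    π₁ ⁻¹' (O (π₁ a) : Set U.left) ∩ π₂ ⁻¹' (O (π₂ a) : Set U.left)
  have hNopen : ∀ a, IsOpen (N a) := fun a =>
    ((O (π₁ a)).isOpen.preimage π₁.continuous).inter ((O (π₂ a)).isOpen.preimage π₂.continuous)
  obtain ⟨F, -, hFfin, hFcover⟩ := hA.isCompact.elim_finite_subcover_image
    (b := (A : Set (U ⨯ U).left)) (c := N) (fun a _ => hNopen a)
    (fun a ha => Set.mem_iUnion₂.2 ⟨a, ha, hOmem _, hOmem _⟩)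
  have hcover : (((prod.lift t s).left ⁻¹ᵁ A : R.left.Opens) : Set R.left) =
      ⋃ a ∈ F, ((prod.lift t s).left ⁻¹' (A : Set (U ⨯ U).left) ∩
        (prod.lift t s).left ⁻¹' (N a)) := by
    ext r
    constructor
    · intro hr
      obtain ⟨a, ha, hra⟩ := Set.mem_iUnion₂.1 (hFcover hr)
      exact Set.mem_iUnion₂.2 ⟨a, ha, hr, hra⟩
    · intro hr
      obtain ⟨a, -, hr', -⟩ := Set.mem_iUnion₂.1 hr
      exact hr'
  rw [hcover]
  refine hFfin.isCompact_biUnion fun a _ => ?_
  refine isCompact_of_subset_rel hXa hX p hpe t s sq (O (π₁ a)) (O (π₂ a)) (hOaff _) (hOaff _) _ ?_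
  rintro r ⟨-, hr1, hr2⟩
  constructor
  · change t.left r ∈ O (π₁ a)
    rw [← hf1]; exact hr1
  · change s.left r ∈ O (π₂ a)
    rw [← hf2]; exact hr2

end Groth.Agent.Helper15.QsNoeth
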