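import Mathlib
import Groth.Prelude.Def_MoreMor
import Groth.Agent.Lib.Helper15.CatLemmas
import Groth.Agent.Lib.Helper15.QsNoeth

set_option autoImplicit false

universe u

open CategoryTheory CategoryTheory.Limits AlgebraicGeometry TensorProduct

namespace Groth.Agent.Helper15.FibEt

/-- The fibre of a composite is the base change of the fibre. -/
theorem isPullback_fiberMap {U X S : Scheme.{u}} (p : U ⟶ X) (f : X ⟶ S) (s : S) :
    IsPullback ((p ≫ f).fiberι s) (MoreMor.fiberMap p f s) p (f.fiberι s) := by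
  have h2 : MoreMor.fiberMap p f s ≫ f.fiberToSpecResidueField s =
      (p ≫ f).fiberToSpecResidueField s := pullback.lift_snd _ _ _
  have h1 : MoreMor.fiberMap p f s ≫ f.fiberι s = (p ≫ f).fiberι s ≫ p := pullback.lift_fst _ _ _
  have right : IsPullback (f.fiberToSpecResidueField s) (f.fiberι s)
      (S.fromSpecResidueField s) f := (IsPullback.of_hasPullback f (S.fromSpecResidueField s)).flip
  have big : IsPullback (MoreMor.fiberMap p f s ≫ f.fiberToSpecResidueField s)
      ((p ≫ f).fiberι s) (S.fromSpecResidueField s) (p ≫ f) := by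
    rw [h2]
    exact (IsPullback.of_hasPullback (p ≫ f) (S.fromSpecResidueField s)).flip
  exact (IsPullback.of_right big h1 right).flip

theorem SpecMap_evaluation_fromSpec {S : Scheme.{u}} {S₀ : S.Opens} (hS₀ : IsAffineOpen S₀)
    (s : S) (hs : s ∈ S₀) :
    Spec.map (S.evaluation S₀ s hs) ≫ hS₀.fromSpec = S.fromSpecResidueField s := by
  rw [Scheme.fromSpecResidueField, ← hS₀.fromSpecStalk_eq_fromSpecStalk hs,
    IsAffineOpen.fromSpecStalk, ← Spec.map_comp_assoc, Scheme.germ_residue]

/-- Elements of the residue field at a point of an affine open are fractions of sections. -/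
theorem residueField_fraction {S : Scheme.{u}} {S₀ : S.Opens} (hS₀ : IsAffineOpen S₀)
    (s : S) (hs : s ∈ S₀) (k : S.residueField s) :
    ∃ r σ : Γ(S, S₀), (S.evaluation S₀ s hs) σ ≠ 0 ∧
      k * (S.evaluation S₀ s hs) σ = (S.evaluation S₀ s hs) r := by
  obtain ⟨z, rfl⟩ := Scheme.residue_surjective S s k
  letI := S.presheaf.algebra_section_stalk ⟨s, hs⟩
  haveI := hS₀.isLocalization_stalk ⟨s, hs⟩
  obtain ⟨r, σ, rfl⟩ := IsLocalization.exists_mk'_eq
    (hS₀.primeIdealOf ⟨s, hs⟩).asIdeal.primeCompl z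
  refine ⟨r, σ.1, ?_, ?_⟩
  · have hu : IsUnit (algebraMap Γ(S, S₀) (S.presheaf.stalk s) σ.1) :=
      IsLocalization.map_units (S.presheaf.stalk s) σ
    have hu' : IsUnit ((S.residue s).hom (algebraMap Γ(S, S₀) (S.presheaf.stalk s) σ.1)) :=
      hu.map _
    exact hu'.ne_zero
  · change (S.residue s).hom _ * (S.residue s).hom (algebraMap Γ(S, S₀) (S.presheaf.stalk s) σ.1) =
      (S.residue s).hom (algebraMap Γ(S, S₀) (S.presheaf.stalk s) r)
    rw [← map_mul, IsLocalization.mk'_spec]

end Groth.Agent.Helper15.FibEt
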