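import Mathlib
import Groth.Agent.Lib.Helper15.FibEt4
import Groth.Agent.Lib.Helper15.FibEt5

set_option autoImplicit false

universe u

open CategoryTheory CategoryTheory.Limits AlgebraicGeometry TensorProduct

namespace Groth.Agent.Helper15.FibEt

/-- For a mono `j` and a map `c = c' ≫ j`, the evident square is a pullback. -/
theorem isPullback_of_mono_factor {C : Type*} [Category C] {Z Y' Y : C} (c' : Z ⟶ Y') (j : Y' ⟶ Y)
    [Mono j] (c : Z ⟶ Y) (h : c' ≫ j = c) : IsPullback c' (𝟙 Z) j c := by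
  refine ⟨⟨by rw [Category.id_comp, h]⟩, ⟨PullbackCone.IsLimit.mk _ (fun s => s.snd) ?_ ?_ ?_⟩⟩
  · intro s
    rw [← cancel_mono j, Category.assoc, h, s.condition]
  · intro s
    exact Category.comp_id _
  · intro s m _ hm2
    rw [← hm2, Category.comp_id]

set_option maxHeartbeats 1600000 in
theorem main {X S V : Scheme.{u}} (f : X ⟶ S) (x : X)
    (g : V ⟶ f.fiber (f x)) [Etale g] (v : V) (hv : g v = f.asFiber x) :
    ∃ (U : Scheme.{u}) (p : U ⟶ X) (u : U) (m : (p ≫ f).fiber (f x) ⟶ V)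
      (u' : ↑((p ≫ f).fiber (f x))),
      Etale p ∧ p u = x ∧ IsOpenImmersion m ∧ m ≫ g = MoreMor.fiberMap p f (f x) ∧
      (p ≫ f).fiberι (f x) u' = u ∧ m u' = v := by
  -- affine charts
  let g₀ : V ⟶ pullback f (S.fromSpecResidueField (f x)) := g
  haveI : Etale g₀ := ‹Etale g›
  have hv₀ : g₀ v = f.asFiber x := hv
  obtain ⟨S₀, hS₀, hs, -⟩ := exists_isAffineOpen_mem_and_subset
    (x := f x) (U := (⊤ : S.Opens)) trivial
  obtain ⟨X₀, hX₀, hxX₀, hX₀S'⟩ := exists_isAffineOpen_mem_and_subset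
    (x := x) (U := f ⁻¹ᵁ S₀) hs
  have hX₀S : X₀ ≤ f ⁻¹ᵁ S₀ := hX₀S'
  letI algA : Algebra Γ(S, S₀) Γ(X, X₀) := (f.appLE S₀ X₀ hX₀S).hom.toAlgebra
  letI algκ : Algebra Γ(S, S₀) (IsLocalRing.ResidueField (S.presheaf.stalk (f x))) :=
    (S.evaluation S₀ (f x) hs).hom.toAlgebra
  have hκ : ∀ k : IsLocalRing.ResidueField (S.presheaf.stalk (f x)), ∃ r σ : Γ(S, S₀),
      algebraMap Γ(S, S₀) (IsLocalRing.ResidueField (S.presheaf.stalk (f x))) σ ≠ 0 ∧
      k * algebraMap Γ(S, S₀) (IsLocalRing.ResidueField (S.presheaf.stalk (f x))) σ =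
        algebraMap Γ(S, S₀) (IsLocalRing.ResidueField (S.presheaf.stalk (f x))) r :=
    fun k => residueField_fraction hS₀ (f x) hs k
  -- the chart of the fibre
  let C : CommRingCat.{u} := CommRingCat.of
    (Γ(X, X₀) ⊗[Γ(S, S₀)] IsLocalRing.ResidueField (S.presheaf.stalk (f x)))
  let incL : Γ(X, X₀) ⟶ C := CommRingCat.ofHom Algebra.TensorProduct.includeLeftRingHom
  let incR : S.residueField (f x) ⟶ C :=
    CommRingCat.ofHom Algebra.TensorProduct.includeRight.toRingHom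
  have sq0 : IsPullback (Spec.map incL) (Spec.map incR) (Spec.map (f.appLE S₀ X₀ hX₀S))
      (Spec.map (S.evaluation S₀ (f x) hs)) :=
    isPullback_SpecMap_of_isPushout _ _ _ _
      (CommRingCat.isPushout_tensorProduct Γ(S, S₀) Γ(X, X₀)
        (IsLocalRing.ResidueField (S.presheaf.stalk (f x))))
  have sq1 := isPullback_comp_mono hS₀.fromSpec sq0
  rw [IsAffineOpen.SpecMap_appLE_fromSpec f hS₀ hX₀ hX₀S,
    SpecMap_evaluation_fromSpec hS₀ (f x) hs] at sq1
  let ιU : Spec C ⟶ pullback f (S.fromSpecResidueField (f x)) :=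
    pullback.lift (Spec.map incL ≫ hX₀.fromSpec) (Spec.map incR) (by
      rw [Category.assoc, sq1.w])
  have hιU1 : ιU ≫ pullback.fst f (S.fromSpecResidueField (f x)) = Spec.map incL ≫ hX₀.fromSpec :=
    pullback.lift_fst _ _ _
  have hιU2 : ιU ≫ pullback.snd f (S.fromSpecResidueField (f x)) = Spec.map incR :=
    pullback.lift_snd _ _ _
  have sqU : IsPullback (Spec.map incL) ιU hX₀.fromSpec
      (pullback.fst f (S.fromSpecResidueField (f x))) := by
    refine IsPullback.of_bot ?_ hιU1.symm (IsPullback.of_hasPullback f (S.fromSpecResidueField (f x)))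
    rw [hιU2]
    exact sq1
  have hιUoi : IsOpenImmersion ιU :=
    MorphismProperty.of_isPullback (P := @IsOpenImmersion) sqU inferInstance
  -- the point `g v` lies in the chart
  have hgv : g₀ v ∈ ιU.opensRange := by
    have h1 : (pullback.fst f (S.fromSpecResidueField (f x))) (g₀ v) ∈ Set.range hX₀.fromSpec := by
      rw [hv₀]
      change f.fiberι (f x) (f.asFiber x) ∈ _
      rw [Scheme.Hom.fiberι_asFiber, hX₀.range_fromSpec]
      exact hxX₀
    obtain ⟨a, ha⟩ := h1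
    obtain ⟨y₁, -, hy₁⟩ := QsNoeth.exists_preimage_of_isPullback sqU a (g₀ v) ha
    exact ⟨y₁, hy₁⟩
  obtain ⟨V₁, hV₁, hvV₁, hV₁g'⟩ := exists_isAffineOpen_mem_and_subset
    (x := v) (U := g₀ ⁻¹ᵁ ιU.opensRange) hgv
  have hrange : Set.range (hV₁.fromSpec ≫ g₀) ⊆ Set.range ιU := by
    rintro _ ⟨y, rfl⟩
    rw [Scheme.Hom.comp_apply]
    have : hV₁.fromSpec y ∈ Set.range hV₁.fromSpec := ⟨y, rfl⟩
    rw [hV₁.range_fromSpec] at this
    exact hV₁g' this
  let gh : Spec Γ(V, V₁) ⟶ Spec C := IsOpenImmersion.lift ιU (hV₁.fromSpec ≫ g₀) hrange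
  have hgh : gh ≫ ιU = hV₁.fromSpec ≫ g₀ := IsOpenImmersion.lift_fac _ _ _
  let ψ : C ⟶ Γ(V, V₁) := Spec.preimage gh
  have hψ : Spec.map ψ = gh := Spec.map_preimage gh
  have hghet : Etale gh := by
    have h1 : Etale (gh ≫ ιU) := by rw [hgh]; infer_instance
    exact MorphismProperty.of_postcomp (W := @Etale) (W' := @Etale) gh ιU
      inferInstance h1
  have hψet : ψ.hom.Etale := by
    rw [← hψ] at hghet
    exact (HasRingHomProperty.Spec_iff (P := @Etale)).1 hghet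
  letI algB : Algebra C Γ(V, V₁) := ψ.hom.toAlgebra
  have hBet : Algebra.Etale C Γ(V, V₁) := RingHom.etale_algebraMap.1 hψet
  -- the point of `Spec B` over `v`
  obtain ⟨y, hy⟩ : ∃ y : Spec Γ(V, V₁), hV₁.fromSpec y = v := by
    have : v ∈ Set.range hV₁.fromSpec := by rw [hV₁.range_fromSpec]; exact hvV₁
    exact this
  haveI : y.asIdeal.IsPrime := y.2
  obtain ⟨h, hhy, hstd⟩ := Algebra.IsEtaleAt.exists_isStandardEtale (R := C) y.asIdeal
  obtain ⟨Pres⟩ := hstd.nonempty_standardEtalePresentation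
  -- the ring-theoretic lifting
  obtain ⟨σ, hσ, P', θ, hPO⟩ := exists_lift_isPushout (A := Γ(X, X₀)) hκ Pres.P
  have square1 := isPullback_SpecMap_of_isPushout _ _ _ _ hPO
  let Aσ : CommRingCat.{u} := CommRingCat.of (Localization.Away (algebraMap Γ(S, S₀) Γ(X, X₀) σ))
  let loc : Γ(X, X₀) ⟶ Aσ := CommRingCat.ofHom (algebraMap Γ(X, X₀) _)
  let αc : Aσ ⟶ C := CommRingCat.ofHom (alpha (A := Γ(X, X₀))
    (κ := IsLocalRing.ResidueField (S.presheaf.stalk (f x))) σ hσ)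
  have hlocα : loc ≫ αc = incL := by
    refine CommRingCat.hom_ext (RingHom.ext fun a => ?_)
    exact alpha_algebraMap σ hσ a
  haveI : IsOpenImmersion (Spec.map loc) :=
    IsOpenImmersion.of_isLocalization (algebraMap Γ(S, S₀) Γ(X, X₀) σ)
  have monoSq : IsPullback (Spec.map αc) (𝟙 (Spec C)) (Spec.map loc) (Spec.map incL) :=
    isPullback_of_mono_factor _ _ _ (by rw [← Spec.map_comp, hlocα])
  have sqC := monoSq.paste_vert sqU
  have sqBig := square1.paste_vert sqC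
  -- the etale neighbourhood
  let P'c : CommRingCat.{u} := CommRingCat.of P'.Ring
  let st : Aσ ⟶ P'c := CommRingCat.ofHom (algebraMap _ P'.Ring)
  let p : Spec P'c ⟶ X := Spec.map st ≫ Spec.map loc ≫ hX₀.fromSpec
  have hpet : Etale p := by
    have h1 : Etale (Spec.map st) := by
      rw [HasRingHomProperty.Spec_iff (P := @Etale)]
      exact RingHom.etale_algebraMap.2 inferInstance
    infer_instance
  have sqFib := isPullback_fiberMap p f (f x)
  let e : (p ≫ f).fiber (f x) ≅ Spec (CommRingCat.of Pres.P.Ring) :=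
    sqFib.isoIsPullback _ _ sqBig
  have he1 : e.hom ≫ Spec.map (CommRingCat.ofHom θ) = (p ≫ f).fiberι (f x) :=
    sqFib.isoIsPullback_hom_fst _ _ sqBig
  have he2 : e.hom ≫ (Spec.map (CommRingCat.ofHom (algebraMap C Pres.P.Ring)) ≫ 𝟙 _ ≫ ιU) =
      MoreMor.fiberMap p f (f x) := sqFib.isoIsPullback_hom_snd _ _ sqBig
  -- the open immersion into `V`
  let Bh : CommRingCat.{u} := CommRingCat.of (Localization.Away h)
  let eqv : Bh ⟶ CommRingCat.of Pres.P.Ring := CommRingCat.ofHom Pres.equivRing.toRingHom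
  haveI : IsIso eqv :=
    ⟨CommRingCat.ofHom Pres.equivRing.symm.toRingHom, by ext z; simp [eqv], by ext z; simp [eqv]⟩
  let locB : Γ(V, V₁) ⟶ Bh := CommRingCat.ofHom (algebraMap Γ(V, V₁) (Localization.Away h))
  haveI : IsOpenImmersion (Spec.map locB) := IsOpenImmersion.of_isLocalization h
  let jV : Spec (CommRingCat.of Pres.P.Ring) ⟶ V :=
    Spec.map eqv ≫ Spec.map locB ≫ hV₁.fromSpec
  have hjVg : jV ≫ g₀ = Spec.map (CommRingCat.ofHom (algebraMap C Pres.P.Ring)) ≫ ιU := by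
    change (Spec.map eqv ≫ Spec.map locB ≫ hV₁.fromSpec) ≫ g₀ = _
    rw [Category.assoc, Category.assoc, ← hgh, ← hψ, ← Spec.map_comp_assoc,
      ← Spec.map_comp_assoc]
    congr 2
    refine CommRingCat.hom_ext (RingHom.ext fun c => ?_)
    change Pres.equivRing (algebraMap Γ(V, V₁) (Localization.Away h) (algebraMap C Γ(V, V₁) c)) = _
    rw [← IsScalarTower.algebraMap_apply C Γ(V, V₁) (Localization.Away h), AlgEquiv.commutes]
    rfl
  let m : (p ≫ f).fiber (f x) ⟶ V := e.hom ≫ jV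
  have hmg : m ≫ g = MoreMor.fiberMap p f (f x) := by
    have h0 : m ≫ g =
        e.hom ≫ (Spec.map (CommRingCat.ofHom (algebraMap C Pres.P.Ring)) ≫ 𝟙 _ ≫ ιU) := by
      have ha : (e.hom ≫ jV) ≫ g₀ = e.hom ≫ (jV ≫ g₀) := Category.assoc _ _ _
      have hb : e.hom ≫ (jV ≫ g₀) =
          e.hom ≫ (Spec.map (CommRingCat.ofHom (algebraMap C Pres.P.Ring)) ≫ ιU) :=
        congrArg (fun t => e.hom ≫ t) hjVg
      have hc : (Spec.map (CommRingCat.ofHom (algebraMap C Pres.P.Ring)) ≫ ιU) =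
          (Spec.map (CommRingCat.ofHom (algebraMap C Pres.P.Ring)) ≫ 𝟙 _ ≫ ιU) := by
        rw [Category.id_comp]
      exact ha.trans (hb.trans (congrArg (fun t => e.hom ≫ t) hc))
    exact h0.trans he2
  -- the points
  have hy' : y ∈ Set.range (Spec.map locB) := by
    have := PrimeSpectrum.localization_away_comap_range (Localization.Away h) h
    change y ∈ Set.range (PrimeSpectrum.comap (algebraMap Γ(V, V₁) (Localization.Away h)))
    rw [this]
    exact hhy
  obtain ⟨y₂, hy₂⟩ := hy'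
  obtain ⟨y₃, hy₃⟩ : ∃ y₃, Spec.map eqv y₃ = y₂ :=
    ⟨(inv (Spec.map eqv)) y₂, by rw [← Scheme.Hom.comp_apply, IsIso.inv_hom_id]; rfl⟩
  have hjV : jV y₃ = v := by
    change (Spec.map eqv ≫ Spec.map locB ≫ hV₁.fromSpec) y₃ = v
    rw [Scheme.Hom.comp_apply, Scheme.Hom.comp_apply, hy₃, hy₂, hy]
  have h1 : ∀ w : ↑((p ≫ f).fiber (f x)),
      p ((p ≫ f).fiberι (f x) w) = f.fiberι (f x) (MoreMor.fiberMap p f (f x) w) := by
    intro w
    rw [← Scheme.Hom.comp_apply, ← Scheme.Hom.comp_apply, sqFib.w]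
  have hmu : ∀ w : ↑((p ≫ f).fiber (f x)), w = e.inv y₃ → m w = v := by
    intro w hw
    subst hw
    change (e.hom ≫ jV) (e.inv y₃) = v
    rw [← Scheme.Hom.comp_apply, Iso.inv_hom_id_assoc, hjV]
  obtain ⟨u', hu'⟩ : ∃ u' : ↑((p ≫ f).fiber (f x)), u' = e.inv y₃ := ⟨_, rfl⟩
  have hmu' : m u' = v := hmu u' hu'
  refine ⟨Spec P'c, p, (p ≫ f).fiberι (f x) u', m, u', hpet, ?_, inferInstance, hmg, rfl, hmu'⟩
  -- `p u = x`
  have h2 : MoreMor.fiberMap p f (f x) u' = g (m u') := by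
    rw [← hmg, Scheme.Hom.comp_apply]
  rw [h1, h2, hmu', hv, Scheme.Hom.fiberι_asFiber]

end Groth.Agent.Helper15.FibEt
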