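import Mathlib
import Groth.Agent.Lib.Helper15.CatLemmas
import Groth.Agent.Lib.Helper15.QsNoeth

set_option autoImplicit false

universe u

open CategoryTheory CategoryTheory.Limits AlgebraicGeometry TensorProduct

namespace Groth.Agent.Helper15.FibNbhd

/-- Every element of `B ⊗[R] A` comes from `B ⊗[R] R[F]` for all large enough finite sets `F` of
elements of `A`. -/
theorem exists_finset_mem_range {R A B : Type u} [CommRing R] [CommRing A] [CommRing B]
    [Algebra R A] [Algebra R B] (τ : B ⊗[R] A) :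
    ∃ F₀ : Finset A, ∀ F : Finset A, F₀ ⊆ F →
      τ ∈ Set.range (Algebra.TensorProduct.map (AlgHom.id R B)
        (MvPolynomial.aeval (fun a : F => (a : A)) : MvPolynomial F R →ₐ[R] A)) := by
  classical
  induction τ using TensorProduct.induction_on with
  | zero => exact ⟨∅, fun F _ => ⟨0, map_zero _⟩⟩
  | tmul b a =>
    refine ⟨{a}, fun F hF => ⟨b ⊗ₜ MvPolynomial.X ⟨a, hF (Finset.mem_singleton_self a)⟩, ?_⟩⟩
    simp
  | add x y hx hy =>
    obtain ⟨F₁, h₁⟩ := hx
    obtain ⟨F₂, h₂⟩ := hy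
    refine ⟨F₁ ∪ F₂, fun F hF => ?_⟩
    obtain ⟨x', hx'⟩ := h₁ F (Finset.union_subset_left hF)
    obtain ⟨y', hy'⟩ := h₂ F (Finset.union_subset_right hF)
    exact ⟨x' + y', by rw [map_add, hx', hy']⟩

section Setup

variable {X S T : Scheme.{u}} (f : X ⟶ S) (g : T ⟶ S) {S₀ : S.Opens} (hS₀ : IsAffineOpen S₀)
  {V : T.Opens} (hV : IsAffineOpen V) (hVS : V ≤ g ⁻¹ᵁ S₀)

/-- The polynomial ring over `Γ(S, S₀)` on a finite set of sections over `V`. -/
noncomputable def stageRing (_hVS : V ≤ g ⁻¹ᵁ S₀) (F : Finset Γ(T, V)) : CommRingCat.{u} :=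
  CommRingCat.of (MvPolynomial F Γ(S, S₀))

/-- The evaluation map to `Γ(T, V)`. -/
noncomputable def stageHom (F : Finset Γ(T, V)) : stageRing g hVS F ⟶ Γ(T, V) :=
  CommRingCat.ofHom (MvPolynomial.eval₂Hom (g.appLE S₀ V hVS).hom (fun a : F => (a : Γ(T, V))))

/-- The structure map of the polynomial ring. -/
noncomputable def stageC (F : Finset Γ(T, V)) : Γ(S, S₀) ⟶ stageRing g hVS F :=
  CommRingCat.ofHom (MvPolynomial.C : Γ(S, S₀) →+* MvPolynomial F Γ(S, S₀))

theorem stageC_comp_stageHom (F : Finset Γ(T, V)) :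
    stageC g hVS F ≫ stageHom g hVS F = g.appLE S₀ V hVS := by
  ext r
  exact MvPolynomial.eval₂_C _ _ _

/-- The finitely presented affine scheme `T'` over `S`. -/
noncomputable def stageB (F : Finset Γ(T, V)) : Spec (stageRing g hVS F) ⟶ S :=
  Spec.map (stageC g hVS F) ≫ hS₀.fromSpec

/-- The map `V ⟶ T'`. -/
noncomputable def stageA (F : Finset Γ(T, V)) : (V : Scheme.{u}) ⟶ Spec (stageRing g hVS F) :=
  hV.isoSpec.hom ≫ Spec.map (stageHom g hVS F)

theorem stageA_comp_stageB (F : Finset Γ(T, V)) :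
    stageA g hV hVS F ≫ stageB g hS₀ hVS F = V.ι ≫ g := by
  rw [stageA, stageB, Category.assoc, ← Spec.map_comp_assoc, stageC_comp_stageHom,
    IsAffineOpen.SpecMap_appLE_fromSpec g hS₀ hV hVS, ← IsAffineOpen.isoSpec_inv_ι]
  simp only [Category.assoc, Iso.hom_inv_id_assoc]

instance (F : Finset Γ(T, V)) : LocallyOfFinitePresentation (stageB g hS₀ hVS F) := by
  have h1 : LocallyOfFinitePresentation (Spec.map (stageC g hVS F)) := by
    rw [HasRingHomProperty.Spec_iff (P := @LocallyOfFinitePresentation)]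
    change (algebraMap Γ(S, S₀) (MvPolynomial F Γ(S, S₀))).FinitePresentation
    rw [RingHom.finitePresentation_algebraMap]
    infer_instance
  rw [stageB]
  infer_instance

/-- The canonical map `X_V ⟶ X_{T'}`. -/
noncomputable def stageM (F : Finset Γ(T, V)) :
    pullback f (V.ι ≫ g) ⟶ pullback f (stageB g hS₀ hVS F) :=
  pullback.lift (pullback.fst f (V.ι ≫ g)) (pullback.snd f (V.ι ≫ g) ≫ stageA g hV hVS F) (by
    rw [Category.assoc, stageA_comp_stageB, pullback.condition])

@[reassoc]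
theorem stageM_fst (F : Finset Γ(T, V)) :
    stageM f g hS₀ hV hVS F ≫ pullback.fst f (stageB g hS₀ hVS F) = pullback.fst f (V.ι ≫ g) :=
  pullback.lift_fst _ _ _

@[reassoc]
theorem stageM_snd (F : Finset Γ(T, V)) :
    stageM f g hS₀ hV hVS F ≫ pullback.snd f (stageB g hS₀ hVS F) =
      pullback.snd f (V.ι ≫ g) ≫ stageA g hV hVS F :=
  pullback.lift_snd _ _ _

theorem isPullback_stageM (F : Finset Γ(T, V)) :
    IsPullback (stageM f g hS₀ hV hVS F) (pullback.snd f (V.ι ≫ g))
      (pullback.snd f (stageB g hS₀ hVS F)) (stageA g hV hVS F) := by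
  refine IsPullback.of_right ?_ (stageM_snd f g hS₀ hV hVS F)
    (IsPullback.of_hasPullback f (stageB g hS₀ hVS F))
  rw [stageM_fst, stageA_comp_stageB]
  exact IsPullback.of_hasPullback f (V.ι ≫ g)

end Setup

end Groth.Agent.Helper15.FibNbhd
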