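import Mathlib
import Groth.Agent.Lib.Helper15.FibNbhd1

set_option autoImplicit false

universe u

open CategoryTheory CategoryTheory.Limits AlgebraicGeometry TensorProduct

namespace Groth.Agent.Helper15.FibNbhd

variable {X S T : Scheme.{u}} (f : X ⟶ S) (g : T ⟶ S) {S₀ : S.Opens} (hS₀ : IsAffineOpen S₀)
  {V : T.Opens} (hV : IsAffineOpen V) (hVS : V ≤ g ⁻¹ᵁ S₀)

set_option maxHeartbeats 1000000 in
/-- Around a point of `X_V` lying over an affine open `U` of `X` mapping into `S₀`, every open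
neighbourhood contains a neighbourhood which is pulled back from all large enough stages. -/
theorem exists_basic_nbhd (U : X.Opens) (hU : IsAffineOpen U) (hUS : U ≤ f ⁻¹ᵁ S₀)
    (W : (pullback f (V.ι ≫ g)).Opens) (x : ↥(pullback f (V.ι ≫ g)))
    (hxU : (pullback.fst f (V.ι ≫ g)) x ∈ U) (hxW : x ∈ W) :
    ∃ D : (pullback f (V.ι ≫ g)).Opens, x ∈ D ∧ D ≤ W ∧ ∃ F₀ : Finset Γ(T, V), ∀ F, F₀ ⊆ F →
      ∃ D' : (pullback f (stageB g hS₀ hVS F)).Opens,
        ∀ x₁ : ↥(pullback f (V.ι ≫ g)), stageM f g hS₀ hV hVS F x₁ ∈ D' ↔ x₁ ∈ D := by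
  letI algA : Algebra Γ(S, S₀) Γ(T, V) := (g.appLE S₀ V hVS).hom.toAlgebra
  letI algB : Algebra Γ(S, S₀) Γ(X, U) := (f.appLE S₀ U hUS).hom.toAlgebra
  have hφA : CommRingCat.ofHom (algebraMap Γ(S, S₀) Γ(T, V)) = g.appLE S₀ V hVS := rfl
  have hφB : CommRingCat.ofHom (algebraMap Γ(S, S₀) Γ(X, U)) = f.appLE S₀ U hUS := rfl
  -- the affine piece `U ×_S V`
  let C : CommRingCat.{u} := CommRingCat.of (Γ(X, U) ⊗[Γ(S, S₀)] Γ(T, V))
  let incL : Γ(X, U) ⟶ C := CommRingCat.ofHom Algebra.TensorProduct.includeLeftRingHom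
  let incR : Γ(T, V) ⟶ C := CommRingCat.ofHom Algebra.TensorProduct.includeRight.toRingHom
  have sq0 : IsPullback (Spec.map incL) (Spec.map incR) (Spec.map (f.appLE S₀ U hUS))
      (Spec.map (g.appLE S₀ V hVS)) :=
    isPullback_SpecMap_of_isPushout _ _ _ _
      (CommRingCat.isPushout_tensorProduct Γ(S, S₀) Γ(X, U) Γ(T, V))
  have sq1 := isPullback_comp_mono hS₀.fromSpec sq0
  rw [IsAffineOpen.SpecMap_appLE_fromSpec f hS₀ hU hUS,
    IsAffineOpen.SpecMap_appLE_fromSpec g hS₀ hV hVS] at sq1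
  have sq2 : IsPullback (Spec.map incL) (Spec.map incR ≫ hV.isoSpec.inv) (hU.fromSpec ≫ f)
      (V.ι ≫ g) := by
    refine IsPullback.of_iso sq1 (Iso.refl _) (Iso.refl _) hV.isoSpec.symm (Iso.refl _) ?_ ?_ ?_ ?_
    · simp
    · simp
    · simp
    · rw [Iso.refl_hom, Category.comp_id, Iso.symm_hom, ← IsAffineOpen.isoSpec_inv_ι,
        Category.assoc]
  let ιU : Spec C ⟶ pullback f (V.ι ≫ g) :=
    pullback.lift (Spec.map incL ≫ hU.fromSpec) (Spec.map incR ≫ hV.isoSpec.inv) (by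
      rw [Category.assoc, sq2.w])
  have hιU1 : ιU ≫ pullback.fst f (V.ι ≫ g) = Spec.map incL ≫ hU.fromSpec := pullback.lift_fst _ _ _
  have hιU2 : ιU ≫ pullback.snd f (V.ι ≫ g) = Spec.map incR ≫ hV.isoSpec.inv :=
    pullback.lift_snd _ _ _
  have sqU : IsPullback (Spec.map incL) ιU hU.fromSpec (pullback.fst f (V.ι ≫ g)) := by
    refine IsPullback.of_bot ?_ hιU1.symm (IsPullback.of_hasPullback f (V.ι ≫ g))
    rw [hιU2]
    exact sq2
  have hιUoi : IsOpenImmersion ιU :=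
    MorphismProperty.of_isPullback (P := @IsOpenImmersion) sqU inferInstance
  -- the point `x` comes from `y`
  have hcover : ∀ x₁ : ↥(pullback f (V.ι ≫ g)), (pullback.fst f (V.ι ≫ g)) x₁ ∈ U →
      ∃ y₁ : ↥(Spec C), ιU y₁ = x₁ := by
    intro x₁ hx₁
    have : (pullback.fst f (V.ι ≫ g)) x₁ ∈ Set.range hU.fromSpec := by
      rw [hU.range_fromSpec]; exact hx₁
    obtain ⟨u, hu⟩ := this
    obtain ⟨y₁, -, hy₁⟩ := QsNoeth.exists_preimage_of_isPullback sqU u x₁ hu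
    exact ⟨y₁, hy₁⟩
  obtain ⟨y, rfl⟩ := hcover x hxU
  -- a basic open neighbourhood of `y`
  obtain ⟨_, ⟨_, ⟨r, rfl⟩, rfl⟩, hyr, hrW⟩ := (isBasis_basicOpen (Spec C)).exists_subset_of_mem_open
    (show y ∈ ((ιU ⁻¹ᵁ W : (Spec C).Opens) : Set ↥(Spec C)) from hxW) (ιU ⁻¹ᵁ W).2
  refine ⟨ιU ''ᵁ (Spec C).basicOpen r, ⟨y, hyr, rfl⟩, ?_, ?_⟩
  · rintro _ ⟨y₁, hy₁, rfl⟩
    exact hrW hy₁
  obtain ⟨F₀, hF₀⟩ := exists_finset_mem_range ((Scheme.ΓSpecIso C).hom r)
  refine ⟨F₀, fun F hF => ?_⟩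
  obtain ⟨z', hz'⟩ := hF₀ F hF
  -- the affine piece `U ×_S T'`
  let θ := Algebra.TensorProduct.map (AlgHom.id Γ(S, S₀) Γ(X, U))
    (MvPolynomial.aeval (fun a : F => (a : Γ(T, V))) : MvPolynomial F Γ(S, S₀) →ₐ[Γ(S, S₀)] Γ(T, V))
  let C' : CommRingCat.{u} := CommRingCat.of (Γ(X, U) ⊗[Γ(S, S₀)] MvPolynomial F Γ(S, S₀))
  let incL' : Γ(X, U) ⟶ C' := CommRingCat.ofHom Algebra.TensorProduct.includeLeftRingHom
  let incR' : stageRing g hVS F ⟶ C' :=
    CommRingCat.ofHom Algebra.TensorProduct.includeRight.toRingHom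
  have sq0' : IsPullback (Spec.map incL') (Spec.map incR') (Spec.map (f.appLE S₀ U hUS))
      (Spec.map (stageC g hVS F)) :=
    isPullback_SpecMap_of_isPushout _ _ _ _
      (CommRingCat.isPushout_tensorProduct Γ(S, S₀) Γ(X, U) (MvPolynomial F Γ(S, S₀)))
  have sq1' := isPullback_comp_mono hS₀.fromSpec sq0'
  rw [IsAffineOpen.SpecMap_appLE_fromSpec f hS₀ hU hUS] at sq1'
  have sq2' : IsPullback (Spec.map incL') (Spec.map incR') (hU.fromSpec ≫ f)
      (stageB g hS₀ hVS F) := sq1'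
  let ιU' : Spec C' ⟶ pullback f (stageB g hS₀ hVS F) :=
    pullback.lift (Spec.map incL' ≫ hU.fromSpec) (Spec.map incR') (by
      rw [Category.assoc, sq2'.w])
  have hιU1' : ιU' ≫ pullback.fst f (stageB g hS₀ hVS F) = Spec.map incL' ≫ hU.fromSpec :=
    pullback.lift_fst _ _ _
  have hιU2' : ιU' ≫ pullback.snd f (stageB g hS₀ hVS F) = Spec.map incR' :=
    pullback.lift_snd _ _ _
  have sqU' : IsPullback (Spec.map incL') ιU' hU.fromSpec (pullback.fst f (stageB g hS₀ hVS F)) := by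
    refine IsPullback.of_bot ?_ hιU1'.symm (IsPullback.of_hasPullback f (stageB g hS₀ hVS F))
    rw [hιU2']
    exact sq2'
  have hιUoi' : IsOpenImmersion ιU' :=
    MorphismProperty.of_isPullback (P := @IsOpenImmersion) sqU' inferInstance
  -- the map between the affine pieces
  let θc : C' ⟶ C := CommRingCat.ofHom θ.toRingHom
  have hθL : incL' ≫ θc = incL := by
    ext b
    change θ (b ⊗ₜ 1) = b ⊗ₜ 1
    simp [θ]
  have hθR : incR' ≫ θc = stageHom g hVS F ≫ incR := by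
    ext p
    change θ (1 ⊗ₜ p) = 1 ⊗ₜ (MvPolynomial.eval₂Hom (g.appLE S₀ V hVS).hom (fun a : F => (a : Γ(T, V))) p)
    simp only [θ, Algebra.TensorProduct.map_tmul, map_one]
    rfl
  have hcompat : Spec.map θc ≫ ιU' = ιU ≫ stageM f g hS₀ hV hVS F := by
    apply pullback.hom_ext
    · rw [Category.assoc, hιU1', Category.assoc, stageM_fst, hιU1, ← Spec.map_comp_assoc, hθL]
    · rw [Category.assoc, hιU2', Category.assoc, stageM_snd, ← Category.assoc ιU, hιU2,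
        ← Spec.map_comp, hθR, stageA, Spec.map_comp]
      simp only [Category.assoc, Iso.inv_hom_id_assoc]
  -- the section downstairs
  let r' : Γ(Spec C', ⊤) := (Scheme.ΓSpecIso C').inv z'
  have hr' : (Spec.map θc).appTop r' = r := by
    have h1 : (Spec.map θc).appTop = (Scheme.ΓSpecIso C').hom ≫ θc ≫ (Scheme.ΓSpecIso C).inv := by
      rw [← Category.assoc, ← Scheme.ΓSpecIso_naturality, Category.assoc, Iso.hom_inv_id,
        Category.comp_id]
    rw [h1]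
    change (Scheme.ΓSpecIso C).inv (θ ((Scheme.ΓSpecIso C').hom ((Scheme.ΓSpecIso C').inv z'))) = r
    have h2 : (Scheme.ΓSpecIso C').hom ((Scheme.ΓSpecIso C').inv z') = z' := by
      rw [← CommRingCat.comp_apply, Iso.inv_hom_id]; rfl
    rw [h2, hz', ← CommRingCat.comp_apply, Iso.hom_inv_id]; rfl
  have hpre : (Spec.map θc) ⁻¹ᵁ (Spec C').basicOpen r' = (Spec C).basicOpen r := by
    rw [Scheme.preimage_basicOpen_top, hr']
  refine ⟨ιU' ''ᵁ (Spec C').basicOpen r', fun x₁ => ⟨?_, ?_⟩⟩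
  · rintro ⟨y', hy', hy'x0⟩
    have hy'x : ιU' y' = stageM f g hS₀ hV hVS F x₁ := hy'x0
    have hx₁U : (pullback.fst f (V.ι ≫ g)) x₁ ∈ U := by
      have e1 : (pullback.fst f (V.ι ≫ g)) x₁ =
          (pullback.fst f (stageB g hS₀ hVS F)) (stageM f g hS₀ hV hVS F x₁) := by
        rw [← Scheme.Hom.comp_apply, stageM_fst]
      rw [e1, ← hy'x, ← Scheme.Hom.comp_apply, hιU1', Scheme.Hom.comp_apply]
      have : hU.fromSpec ((Spec.map incL') y') ∈ Set.range hU.fromSpec := ⟨_, rfl⟩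
      rwa [hU.range_fromSpec] at this
    obtain ⟨y₁, rfl⟩ := hcover x₁ hx₁U
    have e2 : ιU' ((Spec.map θc) y₁) = ιU' y' := by
      rw [← Scheme.Hom.comp_apply, hcompat, Scheme.Hom.comp_apply]
      exact hy'x.symm
    have e3 : (Spec.map θc) y₁ = y' := ιU'.isOpenEmbedding.injective e2
    refine ⟨y₁, ?_, rfl⟩
    change y₁ ∈ ((Spec C).basicOpen r : Set ↥(Spec C))
    rw [← hpre]
    change (Spec.map θc) y₁ ∈ (Spec C').basicOpen r'
    rw [e3]
    exact hy'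
  · rintro ⟨y₁, hy₁, rfl⟩
    refine ⟨(Spec.map θc) y₁, ?_, ?_⟩
    · have : y₁ ∈ (Spec.map θc) ⁻¹ᵁ (Spec C').basicOpen r' := by
        rw [hpre]; exact hy₁
      exact this
    · change ιU' ((Spec.map θc) y₁) = stageM f g hS₀ hV hVS F (ιU y₁)
      rw [← Scheme.Hom.comp_apply, hcompat, Scheme.Hom.comp_apply]

end Groth.Agent.Helper15.FibNbhd
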