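import Mathlib
import Groth.Agent.Lib.Helper15.FibNbhd2

set_option autoImplicit false

universe u

open CategoryTheory CategoryTheory.Limits AlgebraicGeometry TensorProduct

namespace Groth.Agent.Helper15.FibNbhd

set_option maxHeartbeats 1000000 in
theorem main {X S T : Scheme.{u}} (f : X ⟶ S) [QuasiCompact f] (g : T ⟶ S) (t : T)
    (Z : Set ↥(pullback f g)) (hZ : IsClosed Z)
    (hZt : ∀ z ∈ Z, (pullback.snd f g).base z ≠ t) :
    ∃ (V : T.Opens) (ht : t ∈ V) (T' : Scheme.{u}) (b : T' ⟶ S) (a : (V : Scheme.{u}) ⟶ T')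
      (n : pullback f (V.ι ≫ g) ⟶ pullback f g) (m : pullback f (V.ι ≫ g) ⟶ pullback f b)
      (Z' : Set ↥(pullback f b)),
      IsAffineOpen V ∧ IsAffine T' ∧ LocallyOfFinitePresentation b ∧ a ≫ b = V.ι ≫ g ∧
      n ≫ pullback.fst f g = pullback.fst f (V.ι ≫ g) ∧
      n ≫ pullback.snd f g = pullback.snd f (V.ι ≫ g) ≫ V.ι ∧
      m ≫ pullback.fst f b = pullback.fst f (V.ι ≫ g) ∧
      m ≫ pullback.snd f b = pullback.snd f (V.ι ≫ g) ≫ a ∧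
      IsClosed Z' ∧ (∀ z' ∈ Z', (pullback.snd f b).base z' ≠ a.base ⟨t, ht⟩) ∧
      ∀ z : ↥(pullback f (V.ι ≫ g)), n.base z ∈ Z → m.base z ∈ Z' := by
  classical
  obtain ⟨S₀, hS₀, hs₀, -⟩ := exists_isAffineOpen_mem_and_subset
    (x := g t) (U := (⊤ : S.Opens)) trivial
  obtain ⟨V, hV, ht, hVS'⟩ := exists_isAffineOpen_mem_and_subset
    (x := t) (U := g ⁻¹ᵁ S₀) hs₀
  have hVS : V ≤ g ⁻¹ᵁ S₀ := hVS'
  let n : pullback f (V.ι ≫ g) ⟶ pullback f g :=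
    pullback.lift (pullback.fst f (V.ι ≫ g)) (pullback.snd f (V.ι ≫ g) ≫ V.ι) (by
      rw [Category.assoc, pullback.condition])
  have hn1 : n ≫ pullback.fst f g = pullback.fst f (V.ι ≫ g) := pullback.lift_fst _ _ _
  have hn2 : n ≫ pullback.snd f g = pullback.snd f (V.ι ≫ g) ≫ V.ι := pullback.lift_snd _ _ _
  let W : (pullback f (V.ι ≫ g)).Opens := ⟨n ⁻¹' Zᶜ, hZ.isOpen_compl.preimage n.continuous⟩
  let tV : (V : Scheme.{u}) := ⟨t, ht⟩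
  let K : Set ↥(pullback f (V.ι ≫ g)) := (pullback.snd f (V.ι ≫ g)) ⁻¹' {tV}
  have hK : IsCompact K := (pullback.snd f (V.ι ≫ g)).isCompact_preimage_singleton tV
  have hKW : ∀ x ∈ K, x ∈ W := by
    intro x hx hxZ
    have hx' : (pullback.snd f (V.ι ≫ g)) x = tV := hx
    change n x ∈ Z at hxZ
    refine hZt _ hxZ ?_
    change (pullback.snd f g) (n x) = t
    rw [← Scheme.Hom.comp_apply, hn2, Scheme.Hom.comp_apply, hx']
    rfl
  have hfst : ∀ x : ↥(pullback f (V.ι ≫ g)), (pullback.fst f (V.ι ≫ g)) x ∈ f ⁻¹ᵁ S₀ := by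
    intro x
    change f ((pullback.fst f (V.ι ≫ g)) x) ∈ S₀
    rw [← Scheme.Hom.comp_apply, pullback.condition, Scheme.Hom.comp_apply,
      Scheme.Hom.comp_apply]
    exact hVS ((pullback.snd f (V.ι ≫ g)) x).2
  have hloc : ∀ x : K, ∃ D : (pullback f (V.ι ≫ g)).Opens, x.1 ∈ D ∧ D ≤ W ∧
      ∃ F₀ : Finset Γ(T, V), ∀ F, F₀ ⊆ F →
        ∃ D' : (pullback f (stageB g hS₀ hVS F)).Opens,
          ∀ x₁ : ↥(pullback f (V.ι ≫ g)), stageM f g hS₀ hV hVS F x₁ ∈ D' ↔ x₁ ∈ D := by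
    intro x
    obtain ⟨U, hU, hxU, hUS⟩ := exists_isAffineOpen_mem_and_subset (hfst x.1)
    exact exists_basic_nbhd f g hS₀ hV hVS U hU hUS W x.1 hxU (hKW x.1 x.2)
  choose D hxD hDW F₀ D' hD' using hloc
  have hcov : K ⊆ ⋃ x : K, (D x : Set ↥(pullback f (V.ι ≫ g))) :=
    fun x hx => Set.mem_iUnion.2 ⟨⟨x, hx⟩, hxD ⟨x, hx⟩⟩
  obtain ⟨s, hs⟩ := hK.elim_finite_subcover
    (fun x : K => (D x : Set ↥(pullback f (V.ι ≫ g)))) (fun x => (D x).2) hcov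
  let F : Finset Γ(T, V) := s.sup F₀
  have hF : ∀ x ∈ s, F₀ x ⊆ F := fun x hx => Finset.le_sup (f := F₀) hx
  let Z' : Set ↥(pullback f (stageB g hS₀ hVS F)) :=
    (⋃ x : s, (D' x.1 F (hF x.1 x.2) : Set _))ᶜ
  refine ⟨V, ht, Spec (stageRing g hVS F), stageB g hS₀ hVS F, stageA g hV hVS F, n,
    stageM f g hS₀ hV hVS F, Z', hV, inferInstance, inferInstance,
    stageA_comp_stageB g hS₀ hV hVS F, hn1, hn2, stageM_fst f g hS₀ hV hVS F,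
    stageM_snd f g hS₀ hV hVS F, ?_, ?_, ?_⟩
  · exact isClosed_compl_iff.2 (isOpen_iUnion fun x => (D' x.1 F (hF x.1 x.2)).2)
  · intro z' hz' hcontra
    have hcontra' : (pullback.snd f (stageB g hS₀ hVS F)) z' = (stageA g hV hVS F) tV := hcontra
    obtain ⟨x, hx1, hx2⟩ := QsNoeth.exists_preimage_of_isPullback
      (isPullback_stageM f g hS₀ hV hVS F) z' tV hcontra'
    have hxK : x ∈ K := hx2
    obtain ⟨x₀, hx₀s, hx₀⟩ := Set.mem_iUnion₂.1 (hs hxK)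
    have : stageM f g hS₀ hV hVS F x ∈ D' x₀ F (hF x₀ hx₀s) := (hD' x₀ F (hF x₀ hx₀s) x).2 hx₀
    rw [hx1] at this
    exact hz' (Set.mem_iUnion.2 ⟨⟨x₀, hx₀s⟩, this⟩)
  · intro z hz hmz
    obtain ⟨x₀, hx₀⟩ := Set.mem_iUnion.1 hmz
    have h1 : z ∈ D x₀.1 := (hD' x₀.1 F (hF x₀.1 x₀.2) z).1 hx₀
    exact hDW x₀.1 h1 hz

end Groth.Agent.Helper15.FibNbhd
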