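import Mathlib
import Groth.Agent.Lib.Helper15.AlgSpDecent2
import Groth.Agent.Lib.Helper15.MonoPtFibre
import Groth.Agent.Lib.Helper15.AlgSpOpen
import Groth.Agent.Lib.Helper15.AlgSpTop
import Groth.Agent.Lib.Helper15.AlgSpPoints

/-!
# The fibre over a point represented by a quasi-compact monomorphism embeds topologically
-/

set_option autoImplicit false
set_option linter.style.haveILetI false
universe u
open CategoryTheory CategoryTheory.Limits AlgebraicGeometry Opposite MorphismProperty Topology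
open AlgSp

namespace Groth.Agent.Helper15.FibreEmb

open Groth.Agent.Helper15 Groth.Agent.Helper15.QcEtDecent Groth.Agent.Helper15.MonoPtFibre

variable {S : Scheme.{u}}

section
attribute [local instance] specializationPreorder

/-- No nontrivial specializations in the fibre of an etale chart over a point all of whose fibres on
affine etale charts are finite. -/
theorem eq_of_specializes_of_ofPt_eq_of_finite {X : Sp S} {U : Over S}
    (a : (yon S).obj U ⟶ X) (ha : RepWith @Etale a) (u u' : U.left)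
    (hfin : ∀ (V : Over S) (_ : IsAffine V.left) (ψ : (yon S).obj V ⟶ X), RepWith @Etale ψ →
      (Points.ofPt ψ ⁻¹' {Points.ofPt a u}).Finite)
    (he : Points.ofPt a u = Points.ofPt a u') (hs : u' ⤳ u) : u = u' := by
  obtain ⟨_, ⟨U₀, hU₀, rfl⟩, huU₀, -⟩ :=
    (U.left.isBasis_affineOpens).exists_subset_of_mem_open (Set.mem_univ u) isOpen_univ
  let U₀' : U.left.Opens := U₀
  let V : Over S := Over.mk (U₀'.ι ≫ U.hom)
  let j₀ : V ⟶ U := Over.homMk U₀'.ι rfl
  haveI : IsAffine V.left := hU₀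
  have hj₀ : Etale j₀.left := (inferInstance : Etale U₀'.ι)
  have ha₀ : RepWith @Etale ((yon S).map j₀ ≫ a) :=
    (RepWith @Etale).comp_mem _ _ ((repWith_yon_map_iff _ j₀).2 hj₀) ha
  have hfin₀ := hfin V hU₀ ((yon S).map j₀ ≫ a) ha₀
  let G : Set U.left := {y | Points.ofPt a y = Points.ofPt a u ∧ y ⤳ u}
  have hG : G.Finite := by
    refine (hfin₀.image U₀'.ι).subset ?_
    rintro y ⟨hy1, hy2⟩
    have hyU : y ∈ U₀' := hy2.mem_open U₀'.2 huU₀
    refine ⟨⟨y, hyU⟩, ?_, rfl⟩
    change Points.ofPt ((yon S).map j₀ ≫ a) ⟨y, hyU⟩ = _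
    rw [ofPt_comp_yon_map]
    exact hy1
  by_contra hne
  have hu'G : u' ∈ G := ⟨he.symm, hs⟩
  obtain ⟨b, hb1, hb2⟩ := hG.exists_le_maximal hu'G
  have hbu' : b ⤳ u' := hb1
  have hbG : b ∈ G := hb2.prop
  have hbu : b ≠ u := by
    rintro rfl
    exact hne (hbu'.antisymm hs).eq
  have sq := ha.rep.isPullback' a
  haveI h1 : Etale (ha.rep.snd a).left := ha.property_snd a
  haveI h2 : Etale (ha.rep.fst' a).left := ha.property a _ _ sq.flip
  obtain ⟨r, hr1, hr2⟩ := exists_of_ofPt_eq sq u b hbG.1.symm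
  have hgen : GeneralizingMap (ha.rep.fst' a).left := Flat.generalizingMap _
  obtain ⟨r', hr'r, hr'b⟩ := hgen (show b ⤳ (ha.rep.fst' a).left r by rw [hr1]; exact hbG.2)
  have hy₀b : (ha.rep.snd a).left r' ⤳ b := by
    rw [← hr2]; exact hr'r.map (ha.rep.snd a).left.continuous
  have hy₀x : Points.ofPt a ((ha.rep.snd a).left r') = Points.ofPt a u := by
    rw [← ofPt_comp_yon_map, ← sq.w, ofPt_comp_yon_map, hr'b]
    exact hbG.1
  have hy₀G : (ha.rep.snd a).left r' ∈ G := ⟨hy₀x, hy₀b.trans hbG.2⟩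
  have hby₀ : b ⤳ (ha.rep.snd a).left r' := hb2.le_of_ge hy₀G hy₀b
  have hy₀ : (ha.rep.snd a).left r' = b := (hy₀b.antisymm hby₀).eq
  haveI : LocallyQuasiFinite (ha.rep.snd a).left := locallyQuasiFinite_of_etale _
  have hrr' : r' = r := eq_of_specializes_of_map_eq (ha.rep.snd a).left hr'r (by rw [hy₀, hr2])
  exact hbu (by rw [← hr'b, hrr', hr1])

end


/-- An etale chart containing exactly one point over a point with a quasi-compact
representative. -/
theorem exists_isolating_chart {Y : Sp S} (hY : IsAlgSpace Y) (r : FieldPt Y)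
    (hq : RepWith @QuasiCompact r.toHom) :
    ∃ (V : Over S) (b : (yon S).obj V ⟶ Y) (v : V.left), RepWith @Etale b ∧
      Points.ofPt b v = Points.mk r ∧ ∀ v', Points.ofPt b v' = Points.mk r → v' = v := by
  obtain ⟨V₀, p, hpe, hps⟩ := hY.atlas
  obtain ⟨v₀, hv₀⟩ := surjective_ofPt p hps (Points.mk r)
  obtain ⟨_, ⟨V₁, hV₁, rfl⟩, hv₀V₁, -⟩ :=
    (V₀.left.isBasis_affineOpens).exists_subset_of_mem_open (Set.mem_univ v₀) isOpen_univ
  let V₁' : V₀.left.Opens := V₁
  let W₁ : Over S := Over.mk (V₁'.ι ≫ V₀.hom)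
  let j₁ : W₁ ⟶ V₀ := Over.homMk V₁'.ι rfl
  haveI : IsAffine W₁.left := hV₁
  have hj₁ : Etale j₁.left := (inferInstance : Etale V₁'.ι)
  have hb₁ : RepWith @Etale ((yon S).map j₁ ≫ p) :=
    (RepWith @Etale).comp_mem _ _ ((repWith_yon_map_iff _ j₁).2 hj₁) hpe
  have hfin₁ := finite_fibre_of_repWith_quasiCompact_fieldPt r hq ((yon S).map j₁ ≫ p) hb₁
  let F : Set V₀.left := (V₁'.ι '' (Points.ofPt ((yon S).map j₁ ≫ p) ⁻¹' {Points.mk r})) \ {v₀}
  have hF : F.Finite := (hfin₁.image _).sdiff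
  have hFmem : ∀ x, x ∈ F ↔ x ∈ V₁' ∧ Points.ofPt p x = Points.mk r ∧ x ≠ v₀ := by
    intro x
    constructor
    · rintro ⟨⟨y, hy, rfl⟩, hne⟩
      refine ⟨y.2, ?_, hne⟩
      have : Points.ofPt ((yon S).map j₁ ≫ p) y = Points.mk r := hy
      rwa [ofPt_comp_yon_map] at this
    · rintro ⟨hx1, hx2, hx3⟩
      refine ⟨⟨⟨x, hx1⟩, ?_, rfl⟩, hx3⟩
      change Points.ofPt ((yon S).map j₁ ≫ p) ⟨x, hx1⟩ = Points.mk r
      rw [ofPt_comp_yon_map]
      exact hx2
  have hv₀C : v₀ ∉ closure F := by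
    intro hmem
    rw [← Set.biUnion_of_singleton F, hF.closure_biUnion, Set.mem_iUnion₂] at hmem
    obtain ⟨x, hxF, hx⟩ := hmem
    have hspec : x ⤳ v₀ := specializes_iff_mem_closure.2 hx
    obtain ⟨-, hx2, hx3⟩ := (hFmem x).1 hxF
    have := eq_of_specializes_of_ofPt_eq_of_finite p hpe v₀ x
      (fun V hV ψ hψ => by
        rw [hv₀]
        haveI := hV
        exact finite_fibre_of_repWith_quasiCompact_fieldPt r hq ψ hψ)
      (by rw [hv₀, hx2]) hspec
    exact hx3 this.symm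
  let V₂ : V₀.left.Opens := V₁' ⊓ ⟨(closure F)ᶜ, isClosed_closure.isOpen_compl⟩
  have hv₀V₂ : v₀ ∈ V₂ := ⟨hv₀V₁, hv₀C⟩
  let W₂ : Over S := Over.mk (V₂.ι ≫ V₀.hom)
  let j₂ : W₂ ⟶ V₀ := Over.homMk V₂.ι rfl
  have hj₂ : Etale j₂.left := (inferInstance : Etale V₂.ι)
  have hb₂ : RepWith @Etale ((yon S).map j₂ ≫ p) :=
    (RepWith @Etale).comp_mem _ _ ((repWith_yon_map_iff _ j₂).2 hj₂) hpe
  refine ⟨W₂, (yon S).map j₂ ≫ p, ⟨v₀, hv₀V₂⟩, hb₂, ?_, ?_⟩
  · rw [ofPt_comp_yon_map]
    exact hv₀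
  · intro v' hv'
    rw [ofPt_comp_yon_map] at hv'
    have hv'1 : (j₂.left v' : V₀.left) = v'.1 := rfl
    rw [hv'1] at hv'
    by_contra hne
    have hne' : v'.1 ≠ v₀ := fun h => hne (Subtype.ext h)
    have : v'.1 ∈ F := (hFmem _).2 ⟨v'.2.1, hv', hne'⟩
    exact v'.2.2 (subset_closure this)


/-- S10390: the points of the fibre over a point represented by a quasi-compact monomorphism embed
topologically, with image the set-theoretic fibre. -/
theorem isEmbedding_fibre {X Y Xk : Sp S} (hX : IsAlgSpace X) (hY : IsAlgSpace Y) (f : X ⟶ Y)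
    (r : FieldPt Y) (hm : Mono r.toHom) (hq : RepWith @QuasiCompact r.toHom)
    (fst : Xk ⟶ X) (snd : Xk ⟶ (yon S).obj r.pt) (hsq : IsPullback fst snd f r.toHom) :
    IsEmbedding (Points.map fst) ∧
      Set.range (Points.map fst) = Points.map f ⁻¹' {Points.mk r} := by
  haveI := hm
  haveI : Mono fst := hsq.mono_fst_of_mono
  have hinj : Function.Injective (Points.map fst) :=
    (injOnFieldPts_of_mono fst).injective_points_map
  have hpt : ∀ ξ : Points ((yon S).obj r.pt), Points.map r.toHom ξ = Points.mk r := by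
    intro ξ
    obtain ⟨t, rfl⟩ := (Points.schemeEquiv r.pt).surjective ξ
    change Points.map r.toHom (Points.ofScheme r.pt t) = _
    rw [← Points.ofPt_eq_map_ofScheme]
    exact Points.ofPt_toHom r t
  have hfib : ∀ ξ, Points.map f (Points.map fst ξ) = Points.mk r := by
    intro ξ
    rw [← Points.map_comp, hsq.w, Points.map_comp, hpt]
  have hrange : Set.range (Points.map fst) = Points.map f ⁻¹' {Points.mk r} := by
    ext x
    constructor
    · rintro ⟨ξ, rfl⟩
      exact hfib ξ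
    · intro hx
      obtain ⟨ξ, h1, -⟩ := exists_point_of_isPullback hsq x
        (Points.ofScheme r.pt (IsLocalRing.closedPoint r.K)) (by rw [hpt]; exact hx)
      exact ⟨ξ, h1⟩
  refine ⟨⟨⟨?_⟩, hinj⟩, hrange⟩
  -- the isolating chart of `Y` and an atlas of `X`
  obtain ⟨V, b, v, hbe, hbv, hbuniq⟩ := exists_isolating_chart hY r hq
  obtain ⟨U, a, hae, has⟩ := hX.atlas
  obtain ⟨c, hc⟩ := exists_factor_of_mono_fieldPt hY r (FieldPt.ofPt b v) hm hbv
  -- the fibre product `W = V ×_Y U`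
  have sqW := hbe.rep.isPullback' (a ≫ f)
  set g := hbe.rep.fst' (a ≫ f) with hg
  set pU := hbe.rep.snd (a ≫ f) with hpU
  haveI hpUe : Etale pU.left := hbe.property_snd (a ≫ f)
  -- the scheme-theoretic fibre of `g` over `v`
  let Wv : Over S := Over.mk (g.left.fiberι v ≫ (hbe.rep.pullback (a ≫ f)).hom)
  let ι : Wv ⟶ hbe.rep.pullback (a ≫ f) := Over.homMk (g.left.fiberι v) rfl
  let τ : Wv ⟶ (FieldPt.ofPt b v).pt := Over.homMk (g.left.fiberToSpecResidueField v) (by
    change g.left.fiberToSpecResidueField v ≫ V.left.fromSpecResidueField v ≫ V.hom = _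
    rw [← Category.assoc, ← Scheme.Hom.fiber_fac, Category.assoc, Over.w g]
    rfl)
  have hιτ : ι ≫ g = τ ≫ iota b v := by
    ext1
    exact Scheme.Hom.fiber_fac g.left v
  have hcompat : ((yon S).map ι ≫ (yon S).map pU ≫ a) ≫ f = (yon S).map (τ ≫ c) ≫ r.toHom := by
    rw [Functor.map_comp, Category.assoc, Category.assoc, Category.assoc, hc, toHom_ofPt_eq,
      ← sqW.w, ← Category.assoc ((yon S).map τ), ← Functor.map_comp, ← hιτ, Functor.map_comp,
      Category.assoc]
  let β : (yon S).obj Wv ⟶ Xk := hsq.lift _ _ hcompat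
  have hβ : β ≫ fst = (yon S).map ι ≫ (yon S).map pU ≫ a := hsq.lift_fst _ _ _
  have hιrange : Set.range ι.left = g.left ⁻¹' {v} := g.left.range_fiberι v
  have hιind : IsInducing ι.left := (g.left.fiberι v).isEmbedding.isInducing
  -- the composite on points
  have hπ : ∀ w : Wv.left, Points.map fst (Points.ofPt β w) = Points.ofPt a (pU.left (ι.left w)) := by
    intro w
    rw [Points.map_ofPt, hβ, ofPt_comp_yon_map, ofPt_comp_yon_map]
  -- Claim A: surjectivity of `β` on points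
  have hA : ∀ ξ : Points Xk, ∃ w : Wv.left, Points.ofPt β w = ξ := by
    intro ξ
    obtain ⟨u, hu⟩ := surjective_ofPt a has (Points.map fst ξ)
    have huv : Points.ofPt b v = Points.ofPt (a ≫ f) u := by
      rw [hbv, ← Points.map_ofPt, hu, hfib]
    obtain ⟨w, hw1, hw2⟩ := exists_of_ofPt_eq sqW v u huv
    have hwmem : w ∈ Set.range ι.left := by rw [hιrange]; exact hw1
    obtain ⟨w', rfl⟩ := hwmem
    refine ⟨w', hinj ?_⟩
    rw [hπ, hw2, hu]
  apply le_antisymm
  · exact (Points.continuous_map fst).le_induced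
  · intro O hO
    have hO' : IsOpen (Points.ofPt β ⁻¹' O) := hO.preimage (Points.continuous_ofPt β)
    obtain ⟨O'', hO''open, hO''eq⟩ := hιind.isOpen_iff.1 hO'
    have hΩopen : IsOpen (Points.ofPt a '' (pU.left '' O'')) :=
      isOpenMap_ofPt_of_etale a hae _ (pU.left.isOpenMap _ hO''open)
    refine ⟨_, hΩopen, ?_⟩
    ext ξ
    constructor
    · rintro ⟨_, ⟨w'', hw'', rfl⟩, hz⟩
      -- `g w'' = v`
      have hgw : g.left w'' = v := by
        apply hbuniq
        rw [← ofPt_comp_yon_map, sqW.w, ofPt_comp_yon_map, ← Points.map_ofPt, hz, hfib]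
      have hwmem : w'' ∈ Set.range ι.left := by rw [hιrange]; exact hgw
      obtain ⟨w', rfl⟩ := hwmem
      have hw'O : w' ∈ Points.ofPt β ⁻¹' O := by
        rw [← hO''eq]; exact hw''
      have : Points.ofPt β w' = ξ := hinj (by rw [hπ, hz])
      rw [← this]
      exact hw'O
    · intro hξ
      obtain ⟨w, rfl⟩ := hA ξ
      have hwO'' : ι.left w ∈ O'' := by
        have : w ∈ ι.left ⁻¹' O'' := by rw [hO''eq]; exact hξ
        exact this
      exact ⟨_, ⟨_, hwO'', rfl⟩, (hπ w).symm⟩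

end Groth.Agent.Helper15.FibreEmb
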