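import Mathlib
import Groth.Agent.Lib.Helper15.QcLocal
import Groth.Prelude.Def_W4decUnivBdd

/-!
# Universally bounded fibres on affine etale charts imply decency
-/

set_option autoImplicit false
universe u
open CategoryTheory CategoryTheory.Limits AlgebraicGeometry Opposite MorphismProperty
open AlgSp

namespace Groth.Agent.Helper15.UbfDecent

open Groth.Agent.Helper15 Groth.Agent.Helper15.QsDecent Groth.Agent.Helper15.QcEtDecent
  Groth.Agent.Helper15.MonoPtFibre Groth.Agent.Helper15.QcLocal

variable {S : Scheme.{u}}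

/-- A finite scheme over a field has finitely many points. -/
theorem finite_of_isFinite_over_field {K : Type u} [Field K] {T : Scheme.{u}}
    (c : T ⟶ Spec (CommRingCat.of K)) [IsFinite c] : Finite T := by
  have h1 := c.finite_preimage_singleton (IsLocalRing.closedPoint K)
  refine Set.finite_univ_iff.1 (h1.subset ?_)
  intro w _
  exact Subsingleton.elim (α := Spec (CommRingCat.of K)) _ _

/-- If the fibres of `φ` over field points are finite schemes, then the fibres of `|U| → |X|`
are finite. -/
theorem finite_fibre_of_finite_fibres {X : Sp S} {U : Over S} (φ : (yon S).obj U ⟶ X)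
    (hφ : Representable φ)
    (h : ∀ (q : FieldPt X) (T : Over S) (c : T ⟶ q.pt)
      (snd : (yon S).obj T ⟶ (yon S).obj U),
      IsPullback ((yon S).map c) snd q.toHom φ → IsFinite c.left) (x : Points X) :
    (Points.ofPt φ ⁻¹' {x}).Finite := by
  obtain ⟨q, rfl⟩ := Points.mk_surjective x
  have sqT := (hφ.isPullback' q.toHom).flip
  let c₀ : (hφ.pullback q.toHom).left ⟶ Spec (CommRingCat.of q.K) := (hφ.snd q.toHom).left
  haveI : IsFinite c₀ := h q _ _ _ sqT
  haveI : Finite (hφ.pullback q.toHom).left := finite_of_isFinite_over_field c₀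
  refine (Set.finite_range (hφ.fst' q.toHom).left).subset ?_
  intro v hv
  obtain ⟨w, -, hw⟩ := exists_of_ofPt_eq sqT (IsLocalRing.closedPoint q.K) v (by
    rw [Points.ofPt_toHom]; exact hv.symm)
  exact ⟨w, hw⟩

/-- If the fibres of `φ` over field points are finite schemes, then the fibres of the first
projection of the kernel pair of `φ` are finite. -/
theorem finite_relation_fibre_of_finite_fibres {X : Sp S} {U : Over S} (φ : (yon S).obj U ⟶ X)
    (h : ∀ (q : FieldPt X) (T : Over S) (c : T ⟶ q.pt)
      (snd : (yon S).obj T ⟶ (yon S).obj U),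
      IsPullback ((yon S).map c) snd q.toHom φ → IsFinite c.left)
    {R : Over S} (s t : R ⟶ U) (sqR : IsPullback ((yon S).map t) ((yon S).map s) φ φ)
    (v : U.left) : {r : R.left | s.left r = v}.Finite := by
  have sq1 : IsPullback (pullback.fst (iota φ v) s) (pullback.snd (iota φ v) s) (iota φ v) s :=
    IsPullback.of_hasPullback _ _
  have sq1' := sq1.map (yon S)
  have hbot : IsPullback ((yon S).map (pullback.snd (iota φ v) s ≫ t))
      ((yon S).map (pullback.fst (iota φ v) s)) φ ((yon S).map (iota φ v) ≫ φ) := by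
    rw [Functor.map_comp]
    exact sq1'.flip.paste_horiz sqR
  rw [← toHom_ofPt_eq] at hbot
  let c₀ : (pullback (iota φ v) s).left ⟶ Spec (CommRingCat.of (FieldPt.ofPt φ v).K) :=
    (pullback.fst (iota φ v) s).left
  haveI : IsFinite c₀ := h (FieldPt.ofPt φ v) _ _ _ hbot.flip
  haveI : Finite (pullback (iota φ v) s).left := finite_of_isFinite_over_field c₀
  refine (Set.finite_range (pullback.snd (iota φ v) s).left).subset ?_
  intro r hr
  let z : (FieldPt.ofPt φ v).pt.left := IsLocalRing.closedPoint (FieldPt.ofPt φ v).K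
  obtain ⟨r₁, -, hr₁⟩ := exists_of_ofPt_eq sq1' z r (by
    rw [ofPt_yon_map, ofPt_yon_map, iota_left_apply]
    congr 1
    exact hr.symm)
  exact ⟨r₁, hr₁⟩

/-- If every etale morphism from an affine scheme to `X` has universally bounded fibres, then `X`
is decent. -/
theorem isDecent_of_hasUnivBddFibres {X : Sp S} (hX : IsAlgSpace X)
    (h : ∀ (U : Over S) (φ : (yon S).obj U ⟶ X), IsAffine U.left → RepWith @Etale φ →
      W4dec.HasUnivBddFibres φ) : IsDecent X := by
  intro x
  refine (finite_fibres_iff_mono_quasiCompact hX x).1 ?_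
  intro U φ hU hφ R s t sqR
  obtain ⟨n, hn⟩ := h U φ hU hφ
  have hfin : ∀ (q : FieldPt X) (T : Over S) (c : T ⟶ q.pt)
      (snd : (yon S).obj T ⟶ (yon S).obj U),
      IsPullback ((yon S).map c) snd q.toHom φ → IsFinite c.left :=
    fun q T c snd sq => (hn q T c snd sq).1
  have hfinU : (Points.ofPt φ ⁻¹' {x}).Finite := finite_fibre_of_finite_fibres φ hφ.rep hfin x
  refine ⟨hfinU, ?_⟩
  have hsub : Points.ofPt ((yon S).map t ≫ φ) ⁻¹' {x} ⊆
      ⋃ v ∈ Points.ofPt φ ⁻¹' {x}, {r : R.left | s.left r = v} := by
    intro r hr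
    have hr'' : Points.ofPt φ (s.left r) = x := by
      rw [← ofPt_comp_yon_map, ← sqR.w]; exact hr
    simp only [Set.mem_iUnion]
    exact ⟨s.left r, hr'', rfl⟩
  refine Set.Finite.subset ?_ hsub
  exact hfinU.biUnion (fun v _ => finite_relation_fibre_of_finite_fibres φ hfin s t sqR v)

end Groth.Agent.Helper15.UbfDecent
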