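import Mathlib
import Groth.Agent.Lib.Helper15.FibreEmb
import Groth.Agent.Lib.Helper15.UbfDecent
import Groth.Agent.Lib.Helper15.CatLemmas

/-!
# Finiteness of the points of a fibre product over a pair of points
-/

set_option autoImplicit false
set_option linter.style.haveILetI false
universe u
open CategoryTheory CategoryTheory.Limits AlgebraicGeometry Opposite MorphismProperty Topology
open AlgSp

namespace Groth.Agent.Helper15.FibreProdPts

open Groth.Agent.Helper15 Groth.Agent.Helper15.QcEtDecent Groth.Agent.Helper15.MonoPtFibre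

variable {S : Scheme.{u}}

/-- A quasi-finite-at-a-point morphism has a chart by affine schemes which is locally
quasi-finite. -/
theorem exists_affine_lqf_chart {Y Z : Sp S} (g : Z ⟶ Y) (z : Points Z)
    (hg : HasAtMor (fun U _ h u => ∃ W : U.Opens, u ∈ W ∧ LocallyQuasiFinite (W.ι ≫ h) ∧
      LocallyOfFiniteType (W.ι ≫ h)) g z) :
    ∃ (U T : Over S) (a : (yon S).obj U ⟶ Z) (b : (yon S).obj T ⟶ Y) (h : U ⟶ T) (u : U.left),
      IsAffine U.left ∧ IsAffine T.left ∧ RepWith @Etale a ∧ RepWith @Etale b ∧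
        a ≫ g = (yon S).map h ≫ b ∧ Points.ofPt a u = z ∧ LocallyQuasiFinite h.left := by
  obtain ⟨U, T, a, b, h, u, hae, hbe, hcomm, hu, W₀, huW₀, hlqf, -⟩ := hg
  obtain ⟨_, ⟨T', hT', rfl⟩, htT', -⟩ := (T.left.isBasis_affineOpens).exists_subset_of_mem_open
    (Set.mem_univ (h.left u)) isOpen_univ
  let T'' : T.left.Opens := T'
  obtain ⟨_, ⟨U', hU', rfl⟩, huU', hU'le⟩ := (U.left.isBasis_affineOpens).exists_subset_of_mem_open
    (show u ∈ ((W₀ ⊓ h.left ⁻¹ᵁ T'' : U.left.Opens) : Set U.left) from ⟨huW₀, htT'⟩)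
    (W₀ ⊓ h.left ⁻¹ᵁ T'').2
  let U'' : U.left.Opens := U'
  have hle : U'' ≤ h.left ⁻¹ᵁ T'' := fun x hx => (hU'le hx).2
  have hleW : U'' ≤ W₀ := fun x hx => (hU'le hx).1
  let h' : U''.toScheme ⟶ T''.toScheme := h.left.resLE T'' U'' hle
  have hh' : h' ≫ T''.ι = U''.ι ≫ h.left := Scheme.Hom.resLE_comp_ι _ _
  haveI : LocallyQuasiFinite (h' ≫ T''.ι) := by
    rw [hh', ← U.left.homOfLE_ι hleW, Category.assoc]
    haveI := hlqf
    infer_instance
  haveI hlqf' : LocallyQuasiFinite h' := LocallyQuasiFinite.of_comp h' T''.ι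
  let UO : Over S := Over.mk (U''.ι ≫ U.hom)
  let TO : Over S := Over.mk (T''.ι ≫ T.hom)
  let jU : UO ⟶ U := Over.homMk U''.ι rfl
  let jT : TO ⟶ T := Over.homMk T''.ι rfl
  let hO : UO ⟶ TO := Over.homMk h' (by
    change h' ≫ T''.ι ≫ T.hom = U''.ι ≫ U.hom
    rw [← Category.assoc, hh', Category.assoc, Over.w h])
  have hjh : jU ≫ h = hO ≫ jT := by
    ext1
    exact hh'.symm
  have hjU : Etale jU.left := (inferInstance : Etale U''.ι)
  have hjT : Etale jT.left := (inferInstance : Etale T''.ι)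
  refine ⟨UO, TO, (yon S).map jU ≫ a, (yon S).map jT ≫ b, hO, ⟨u, huU'⟩, hU', hT',
    (RepWith @Etale).comp_mem _ _ ((repWith_yon_map_iff _ jU).2 hjU) hae,
    (RepWith @Etale).comp_mem _ _ ((repWith_yon_map_iff _ jT).2 hjT) hbe, ?_, ?_, hlqf'⟩
  · rw [Category.assoc, hcomm, ← Category.assoc, ← Functor.map_comp, hjh, Functor.map_comp,
      Category.assoc]
  · rw [ofPt_comp_yon_map]
    exact hu


/-- S10389: finiteness of the set of points of a fibre product over a pair of points, when the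
base point is represented by a monomorphism and one of the morphisms is quasi-finite at its
point. -/
theorem finite_points_over_pair {X Y Z W : Sp S} (hY : IsAlgSpace Y)
    (f : X ⟶ Y) (g : Z ⟶ Y) (p : W ⟶ X) (q : W ⟶ Z) (hW : IsPullback p q f g)
    (x : Points X) (z : Points Z) (hxz : Points.map f x = Points.map g z)
    (r : FieldPt Y) (hr : Points.mk r = Points.map g z) (hm : Mono r.toHom)
    (hg : HasAtMor (fun U _ h u => ∃ W : U.Opens, u ∈ W ∧ LocallyQuasiFinite (W.ι ≫ h) ∧
      LocallyOfFiniteType (W.ι ≫ h)) g z) :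
    {w : Points W | Points.map p w = x ∧ Points.map q w = z}.Finite := by
  haveI := hm
  obtain ⟨U, T, a, b, h, u, hUaff, hTaff, hae, hbe, hcomm, hu, hlqf⟩ := exists_affine_lqf_chart g z hg
  haveI := hUaff
  haveI := hTaff
  haveI := hlqf
  set t := h.left u with ht
  have hbt : Points.ofPt b t = Points.mk r := by
    rw [ht, ← ofPt_comp_yon_map, ← hcomm, ← Points.map_ofPt, hu, hr]
  -- the scheme-theoretic fibre of `h` over `t`
  let Q : Over S := Over.mk (h.left.fiberι t ≫ U.hom)
  let ιQ : Q ⟶ U := Over.homMk (h.left.fiberι t) rfl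
  let τ : Q ⟶ (FieldPt.ofPt b t).pt := Over.homMk (h.left.fiberToSpecResidueField t) (by
    change h.left.fiberToSpecResidueField t ≫ T.left.fromSpecResidueField t ≫ T.hom = _
    rw [← Category.assoc, ← Scheme.Hom.fiber_fac, Category.assoc, Over.w h]
    rfl)
  have hιτ : ιQ ≫ h = τ ≫ iota b t := by
    ext1
    exact Scheme.Hom.fiber_fac h.left t
  obtain ⟨ut, hut⟩ : ∃ ut : Q.left, ιQ.left ut = u := by
    have : u ∈ Set.range (h.left.fiberι t) := by
      rw [h.left.range_fiberι t]; rfl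
    exact this
  obtain ⟨ct, hct⟩ := exists_factor_of_mono_fieldPt hY r (FieldPt.ofPt b t) hm hbt
  haveI hcte : Etale ct.left := etale_factor_ofPt_of_mono r hm b hbe t ct hct
  haveI : IsAffine (FieldPt.ofPt b t).pt.left :=
    (inferInstance : IsAffine (Spec (CommRingCat.of (FieldPt.ofPt b t).K)))
  haveI : IsAffine r.pt.left := (inferInstance : IsAffine (Spec (CommRingCat.of r.K)))
  haveI hctfin : IsFinite ct.left := by
    haveI : QuasiCompact ct.left :=
      (HasAffineProperty.iff_of_isAffine (P := @QuasiCompact)).2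
        (inferInstance : CompactSpace (FieldPt.ofPt b t).pt.left)
    haveI : LocallyQuasiFinite ct.left := locallyQuasiFinite_of_etale _
    haveI : IsLocallyArtinian r.pt.left :=
      (inferInstance : IsLocallyArtinian (Spec (CommRingCat.of r.K)))
    exact IsFinite.of_locallyQuasiFinite ct.left
  haveI hτfin : IsFinite τ.left := by
    haveI : QuasiCompact h.left := by
      haveI : IsAffineHom h.left := isAffineHom_of_isAffine h.left
      infer_instance
    exact (inferInstance : IsFinite (h.left.fiberToSpecResidueField t))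
  let cQ : Q ⟶ r.pt := τ ≫ ct
  haveI hcQfin : IsFinite cQ.left := by
    change IsFinite (τ.left ≫ ct.left)
    infer_instance
  let ζ : (yon S).obj Q ⟶ Z := (yon S).map ιQ ≫ a
  have hζ : ζ ≫ g = (yon S).map cQ ≫ r.toHom := by
    change ((yon S).map ιQ ≫ a) ≫ g = (yon S).map (τ ≫ ct) ≫ r.toHom
    rw [Category.assoc, hcomm, ← Category.assoc, ← Functor.map_comp, hιτ, Functor.map_comp,
      Functor.map_comp, Category.assoc, Category.assoc, hct, toHom_ofPt_eq]
  -- a representative of `x`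
  obtain ⟨q₀, rfl⟩ := Points.mk_surjective x
  have hq₀r : Points.mk (q₀.map f) = Points.mk r := by
    rw [← Points.map_mk, hxz, hr]
  obtain ⟨cK₀, hcK₀⟩ := exists_factor_of_mono_fieldPt hY r (q₀.map f) hm hq₀r
  rw [FieldPt.toHom_map] at hcK₀
  let cK : q₀.pt ⟶ r.pt := cK₀
  have hcK : (yon S).map cK ≫ r.toHom = q₀.toHom ≫ f := hcK₀
  -- the fibre product `R = Q ×_Y Spec K`
  have hrep : Representable (ζ ≫ g) := hY.representable_from_yon _
  have sqR := hrep.isPullback' (q₀.toHom ≫ f)
  set rQ := hrep.fst' (q₀.toHom ≫ f) with hrQ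
  set rK := hrep.snd (q₀.toHom ≫ f) with hrK
  -- `R` is finite
  haveI hRfin : Finite (hrep.pullback (q₀.toHom ≫ f)).left := by
    have sq1 : IsPullback ((yon S).map rQ) ((yon S).map rK) ((yon S).map cQ ≫ r.toHom)
        ((yon S).map cK ≫ r.toHom) := by
      rw [← hζ, hcK]; exact sqR
    have sq2 := isPullback_of_comp_mono r.toHom sq1
    have sq3 : IsPullback rQ rK cQ cK := IsPullback.of_map (yon S)
      ((yon S).map_injective (by simpa only [Functor.map_comp] using sq2.w)) sq2
    have sq4 := sq3.map (Over.forget S)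
    haveI : IsFinite rK.left := MorphismProperty.of_isPullback (P := @IsFinite) sq4 hcQfin
    exact UbfDecent.finite_of_isFinite_over_field (K := q₀.K) rK.left
  -- the first auxiliary fibre product `P₁ = Spec K ×_X W`
  have sqA := IsPullback.of_hasPullback q₀.toHom p
  set fstA := pullback.fst q₀.toHom p with hfstA
  set sndA := pullback.snd q₀.toHom p with hsndA
  have sqB : IsPullback (sndA ≫ q) fstA g (q₀.toHom ≫ f) := sqA.flip.paste_horiz hW.flip
  have hw : ((yon S).map rQ ≫ ζ) ≫ g = (yon S).map rK ≫ q₀.toHom ≫ f := by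
    exact (Category.assoc _ _ _).trans sqR.w
  let n : (yon S).obj (hrep.pullback (q₀.toHom ≫ f)) ⟶ pullback q₀.toHom p :=
    sqB.lift ((yon S).map rQ ≫ ζ) ((yon S).map rK) hw
  have hn1 : n ≫ sndA ≫ q = (yon S).map rQ ≫ ζ := sqB.lift_fst _ _ _
  have hn2 : n ≫ fstA = (yon S).map rK := sqB.lift_snd _ _ _
  have sqL : IsPullback n ((yon S).map rQ) (sndA ≫ q) ζ := by
    refine IsPullback.of_right ?_ hn1 sqB.flip
    rw [hn2]
    exact sqR.flip
  -- conclusion
  refine (Set.finite_range (Points.ofPt (n ≫ sndA))).subset ?_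
  rintro w ⟨hw1, hw2⟩
  let s₀ : q₀.pt.left := IsLocalRing.closedPoint q₀.K
  obtain ⟨π₁, -, hπ₁⟩ := exists_point_of_isPullback sqA (Points.ofScheme q₀.pt s₀) w (by
    rw [← Points.ofPt_eq_map_ofScheme, Points.ofPt_toHom, hw1])
  obtain ⟨ρ, hρ, -⟩ := exists_point_of_isPullback sqL π₁ (Points.ofScheme Q ut) (by
    rw [Points.map_comp, hπ₁, hw2, ← Points.ofPt_eq_map_ofScheme]
    change z = Points.ofPt ((yon S).map ιQ ≫ a) ut
    rw [ofPt_comp_yon_map, hut, hu])
  obtain ⟨ρ', rfl⟩ := (Points.schemeEquiv _).surjective ρ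
  refine ⟨ρ', ?_⟩
  rw [Points.ofPt_eq_map_ofScheme, Points.map_comp]
  change Points.map sndA (Points.map n (Points.ofScheme _ ρ')) = w
  rw [show Points.map n (Points.ofScheme _ ρ') = π₁ from hρ, hπ₁]

end Groth.Agent.Helper15.FibreProdPts
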