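import Mathlib
import Groth.Prelude
import Groth.Agent.Lib.Helper13.QCohStalk
import Groth.Agent.Lib.Helper13.ToAbExact
import Groth.Agent.Lib.Helper28.H0Const
import Groth.Agent.Lib.Helper23.QsGeo1

/-!
# Finite covers with `H⁰(coker(O_Y → ρ_* O_X)) = 0` are geometrically connected (helper15)

`geometricallyConnected_of_bijective` is copied from `Groth.Agent.Lib.Helper18.CurveH0` (helper18)
to avoid its heavier imports.
-/

set_option autoImplicit false
set_option linter.unusedSectionVars false
set_option linter.unusedVariables false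
set_option linter.style.haveILetI false
universe u

open CategoryTheory CategoryTheory.Limits AlgebraicGeometry Opposite TopologicalSpace

namespace Groth.Agent.Helper15.FinCovConn

variable {k : Type u} [Field k] {X : Scheme.{u}}

/-- if `k → Γ(X, ⊤)` is bijective and `X` is qcqs over `k`, then `X` is geometrically connected -/
theorem geometricallyConnected_of_bijective (f : X ⟶ Spec (CommRingCat.of k)) [QuasiCompact f]
    [QuasiSeparated f] (hb : Function.Bijective (Coh.toGlobal f)) : GeometricallyConnected f := by
  refine ⟨fun K _ y Z fst snd h => ?_⟩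
  haveI : Flat y := by
    rw [← Spec.map_preimage y, HasRingHomProperty.Spec_iff (P := @Flat)]
    letI : Algebra k K := (Spec.preimage y).hom.toAlgebra
    exact (RingHom.flat_algebraMap_iff).2 inferInstance
  haveI : CompactSpace X := (quasiCompact_iff_compactSpace f).mp inferInstance
  haveI : QuasiSeparatedSpace X := quasiSeparatedSpace_of_quasiSeparated f
  have hiso := isIso_pushoutSection_of_isQuasiSeparated_of_flat_right h (US := ⊤) (UT := ⊤)
    (UX := ⊤) (UY := ⊤) le_top le_top (by simp) (isAffineOpen_top _) (isAffineOpen_top _)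
    isCompact_univ isQuasiSeparated_univ
  have hpo := (isIso_pushoutSection_iff h _ _ _).mp hiso
  -- `f.appLE ⊤ ⊤` is an isomorphism
  have hfiso : IsIso (f.appLE ⊤ ⊤ le_top) := by
    have hbij : Function.Bijective (f.appLE ⊤ ⊤ le_top).hom := by
      have h1 : (f.appLE ⊤ ⊤ le_top) = f.appTop := by simp [Scheme.Hom.appLE]
      rw [h1]
      have h2 : ∀ a, f.appTop.hom a =
          (Coh.toGlobal f) ((Scheme.ΓSpecIso (CommRingCat.of k)).hom.hom a) := by
        intro a
        have hh : (Scheme.ΓSpecIso (CommRingCat.of k)).inv.hom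
            ((Scheme.ΓSpecIso (CommRingCat.of k)).hom.hom a) = a := by
          rw [← CommRingCat.comp_apply, Iso.hom_inv_id]
          rfl
        show f.appTop.hom a = f.appTop.hom ((Scheme.ΓSpecIso (CommRingCat.of k)).inv.hom
            ((Scheme.ΓSpecIso (CommRingCat.of k)).hom.hom a))
        rw [hh]
      have h3 : (f.appTop.hom : _ → _) =
          (Coh.toGlobal f) ∘ (Scheme.ΓSpecIso (CommRingCat.of k)).hom.hom := funext h2
      rw [h3]
      exact hb.comp (ConcreteCategory.bijective_of_isIso (Scheme.ΓSpecIso (CommRingCat.of k)).hom)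
    exact (ConcreteCategory.isIso_iff_bijective _).mpr hbij
  have hle : (⊤ : Z.Opens) ≤ snd ⁻¹ᵁ ⊤ := by simp
  have hsiso : IsIso (snd.appLE ⊤ ⊤ hle) := hpo.isIso_inr_of_isIso hfiso
  -- Γ(Z, ⊤) is ring-isomorphic to `K`
  let e : K ≃+* Γ(Z, ⊤) :=
    ((Scheme.ΓSpecIso (CommRingCat.of K)).symm ≪≫
      asIso (snd.appLE ⊤ ⊤ hle)).commRingCatIsoToRingEquiv
  haveI : Nontrivial Γ(Z, ⊤) := e.injective.nontrivial
  have hpre : PreconnectedSpace Z := by
    by_contra hnp
    obtain ⟨a, ha, ha0, ha1⟩ :=
      Groth.Agent.Helper23.QsGeo.exists_idempotent_of_not_preconnected Z hnp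
    have hid : IsIdempotentElem (e.symm a) := ha.map e.symm
    rcases (IsIdempotentElem.iff_eq_zero_or_one.mp hid) with h0 | h1
    · exact ha0 (by simpa using congrArg e h0)
    · exact ha1 (by simpa using congrArg e h1)
  have hne : Nonempty Z := by
    by_contra hne
    haveI : IsEmpty Z := not_nonempty_iff.mp hne
    have htop : (⊤ : Z.Opens) = ⊥ := by
      ext z
      exact isEmptyElim z
    have : (1 : Γ(Z, ⊤)) = 0 := by
      haveI : Subsingleton Γ(Z, ⊤) := by
        rw [htop]
        infer_instance
      exact Subsingleton.elim _ _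
    exact one_ne_zero this
  exact { toPreconnectedSpace := hpre, toNonempty := hne }

end Groth.Agent.Helper15.FinCovConn
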