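import Mathlib
import Groth.Prelude
import Groth.Agent.Lib.Helper15.FinCovConn1

set_option autoImplicit false
set_option linter.unusedSectionVars false
set_option linter.unusedVariables false
set_option linter.style.haveILetI false
universe u

open CategoryTheory CategoryTheory.Limits AlgebraicGeometry Opposite TopologicalSpace

namespace Groth.Agent.Helper15.FinCovConn

open Groth.Agent.Helper13.ToAbExact

variable {X Y : Scheme.{u}}

theorem isReduced_of_geometricallyReduced {k : Type u} [Field k] (g : Y ⟶ Spec (CommRingCat.of k))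
    [GeometricallyReduced g] : IsReduced Y := by
  have h := GeometricallyReduced.geometrically_isReduced (f := g)
  exact h (𝟙 _) (𝟙 Y) g (IsPullback.id_horiz g)

theorem mono_unitToPush_of_surjective [IsReduced Y] (ρ : X ⟶ Y) [Surjective ρ] [QuasiCompact ρ] :
    Mono (ClSub.unitToPush ρ) := by
  haveI : IsSchemeTheoreticallyDominant ρ := .of_isDominant ρ
  rw [Groth.Agent.Helper13.QCoh.mono_iff_app_injective]
  intro U
  exact ρ.app_injective U

/-- If `H⁰` of the cokernel of `O_Y ⟶ ρ_* O_X` vanishes (and the map is mono), then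
`Γ(Y, ⊤) ⟶ Γ(X, ⊤)` is surjective. -/
theorem appTop_surjective (ρ : X ⟶ Y) [Mono (ClSub.unitToPush ρ)]
    (h0 : Subsingleton (Coh.HH Y (cokernel (ClSub.unitToPush ρ)) 0)) :
    Function.Surjective ρ.appTop := by
  let S : ShortComplex Y.Modules :=
    ShortComplex.mk (ClSub.unitToPush ρ) (cokernel.π _) (cokernel.condition _)
  have hS : S.ShortExact :=
    { exact := ShortComplex.exact_cokernel _
      mono_f := inferInstance
      epi_g := inferInstance }
  have hS' := toAb_shortExact S hS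
  intro s
  let hT : IsTerminal (⊤ : Opens Y) := isTerminalTop
  let x₂ : Coh.HH Y S.X₂ 0 := (Sheaf.H.equiv₀ (Coh.toAb S.X₂) hT).symm s
  have hx₂ : x₂.comp (Abelian.Ext.mk₀ (S.map (toAbF Y)).g) (add_zero 0) = 0 :=
    Subsingleton.elim (α := Coh.HH Y (cokernel (ClSub.unitToPush ρ)) 0) _ _
  obtain ⟨x₁, hx₁⟩ := Abelian.Ext.covariant_sequence_exact₂ _ hS' x₂ hx₂
  have hnat := Sheaf.H.equiv₀_naturality ((toAbF Y).map S.f) (hT := hT) x₁
  refine ⟨(Sheaf.H.equiv₀ ((toAbF Y).obj S.X₁) hT) x₁, ?_⟩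
  have e1 : (Sheaf.H.map ((toAbF Y).map S.f) 0) x₁ = x₂ := hx₁
  rw [e1] at hnat
  have e2 : (Sheaf.H.equiv₀ ((toAbF Y).obj S.X₂) hT) x₂ = s :=
    (Sheaf.H.equiv₀ (Coh.toAb S.X₂) hT).apply_symm_apply s
  rw [e2] at hnat
  exact hnat

theorem main18926
    (k : Type u) [Field k] (X Y : Scheme.{u}) (g : Y ⟶ Spec (CommRingCat.of k)) (ρ : X ⟶ Y)
    [IsProper g] [GeometricallyConnected g] [GeometricallyReduced g]
    [IsFinite ρ] [Flat ρ] [Surjective ρ]
    (h0 : Subsingleton (Coh.HH Y (cokernel (ClSub.unitToPush ρ)) 0)) :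
    GeometricallyConnected (ρ ≫ g) := by
  haveI : IsReduced Y := isReduced_of_geometricallyReduced g
  haveI : Mono (ClSub.unitToPush ρ) := mono_unitToPush_of_surjective ρ
  have hsurj := appTop_surjective ρ h0
  obtain ⟨hg, hnt⟩ := Groth.Agent.Helper28.H0Const.toGlobal_surjective k Y g
  haveI : Nontrivial (Coh.Γtop Y) := hnt
  haveI : IsSchemeTheoreticallyDominant ρ := .of_isDominant ρ
  have hinj : Function.Injective ρ.appTop := ρ.app_injective ⊤
  have hcomp : ∀ a, Coh.toGlobal (ρ ≫ g) a = ρ.appTop (Coh.toGlobal g a) := by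
    intro a
    unfold Coh.toGlobal
    rw [Scheme.Hom.comp_appTop]
    rfl
  apply geometricallyConnected_of_bijective
  constructor
  · intro a b hab
    rw [hcomp, hcomp] at hab
    exact (Coh.toGlobal g).injective (hinj hab)
  · intro s
    obtain ⟨r, rfl⟩ := hsurj s
    obtain ⟨a, rfl⟩ := hg r
    exact ⟨a, hcomp a⟩

end Groth.Agent.Helper15.FinCovConn
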