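import Mathlib
import Groth.Agent.Lib.Helper15.FibDim1
import Groth.Agent.Lib.Helper14.FibreGeneric
import Groth.Agent.S10649
import Groth.Agent.S10653

set_option autoImplicit false
set_option linter.unusedSectionVars false
set_option linter.unusedVariables false
set_option linter.style.haveILetI false
universe u

open CategoryTheory CategoryTheory.Limits AlgebraicGeometry MorphismProperty Opposite
open AlgSp
open Groth.Agent.Helper15

namespace Groth.Agent.Helper15.FinDense

variable {S : Scheme.{u}}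

/-- a flat proper morphism which is finite over a dense open is finite -/
theorem isFiniteMor_of_dense_open {X Y V : AlgSp.Space S} (f : X ⟶ Y) (j : V ⟶ Y)
    (hf1 : AlgSp.LocP @Flat f.hom) (hf2 : AlgSp.IsProperMor f.hom)
    (hj1 : AlgSp.RepWith @IsOpenImmersion j.hom)
    (hj2 : Dense (Set.range (AlgSp.Points.map j.hom)))
    (P : AlgSp.Space S) (fst : P ⟶ X) (snd : P ⟶ V)
    (hP : IsPullback fst.hom snd.hom f.hom j.hom)
    (hV : AlgSp.IsFiniteMor snd.hom)
    (h : AlgSp.LocP @LocallyOfFinitePresentation f.hom ∨ AlgSp.IsQuasiCompactMor j.hom) :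
    AlgSp.IsFiniteMor f.hom := by
  have hlft : LocP @LocallyOfFiniteType f.hom := hf2.2.1.1
  -- the base change is locally quasi-finite
  have hsnd := ((Groth.Agent.S10649.result snd).out 0 1).1 hV
  have hsndlft : LocP @LocallyOfFiniteType snd.hom := hsnd.1.2.1.1
  have hsnd0 := (FibDim.locP_lqf_iff_fibreDimAt_zero P.property V.property snd.hom hsndlft).1 hsnd.2
  have hsnd0' : ∀ x, AlgSp.HasAtMor
      (fun _ _ h u => FlatMor.fibreDimAt h u ≤ ((0 : ℕ) : WithBot ℕ∞)) snd.hom x := by
    intro x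
    obtain ⟨U, V', a, b, k, u, ha, hb, comm, hx, hd⟩ := hsnd0 x
    refine ⟨U, V', a, b, k, u, ha, hb, comm, hx, ?_⟩
    change FlatMor.fibreDimAt k.left u ≤ _
    rw [hd]; simp
  have hf0' := Groth.Agent.S10653.result f j 0 hf1 hlft hj1 hj2 P fst snd hP hsnd0' h
  have hf0 : ∀ x, AlgSp.HasAtMor (fun _ _ h u => FlatMor.fibreDimAt h u = 0) f.hom x := by
    intro x
    obtain ⟨U, V', a, b, k, u, ha, hb, comm, hx, hd⟩ := hf0' x
    refine ⟨U, V', a, b, k, u, ha, hb, comm, hx, le_antisymm ?_ ?_⟩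
    · simpa using hd
    · exact Groth.Agent.Helper14.FibreGeneric.zero_le_localDim _
  have hlqf := (FibDim.locP_lqf_iff_fibreDimAt_zero X.property Y.property f.hom hlft).2 hf0
  have key : AlgSp.IsFiniteMor f.hom ↔ (AlgSp.IsProperMor f.hom ∧
      AlgSp.LocP (@LocallyQuasiFinite ⊓ @LocallyOfFiniteType) f.hom) :=
    (Groth.Agent.S10649.result f).out 0 1
  exact key.2 ⟨hf2, hlqf⟩

end Groth.Agent.Helper15.FinDense
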