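import Mathlib
import Groth.Prelude
import Groth.Agent.Lib.Helper1.TP3
import Groth.Agent.Lib.Helper1.IH1
import Groth.Agent.Lib.Helper4.EssEtHensel
import Groth.Agent.Lib.Helper5.FinComplete

set_option autoImplicit false
set_option linter.unusedSectionVars false
set_option linter.unusedVariables false
set_option linter.style.haveILetI false

universe u

namespace Groth.Agent.Helper15.FinEtTens

open IsLocalRing TensorProduct Groth.Agent.Helper1

/-- an essentially étale local algebra over a henselian local ring is finite -/
theorem finite_of_essEt (A E : Type u) [CommRing A] [HenselianLocalRing A] [CommRing E]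
    [Algebra A E] (hE : EGA4loc.IsEssentiallyEtale A E) : Module.Finite A E := by
  obtain ⟨C, _, _, q, _, hC, hq, ⟨e⟩⟩ := hE
  haveI := hC
  haveI : q.LiesOver (maximalIdeal A) := ⟨hq.symm⟩
  haveI : Algebra.FiniteType A C := inferInstance
  haveI : Algebra.QuasiFinite A C := inferInstance
  haveI : Algebra.QuasiFiniteAt A q := inferInstance
  haveI := TP.finite_localization_of_quasiFiniteAt A C q
  exact Module.Finite.of_surjective e.symm.toLinearMap e.symm.surjective

theorem formallyEtale_of_essEt (A E : Type u) [CommRing A] [IsLocalRing A] [CommRing E]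
    [Algebra A E] (hE : EGA4loc.IsEssentiallyEtale A E) : Algebra.FormallyEtale A E := by
  obtain ⟨C, _, _, q, _, hC, hq, ⟨e⟩⟩ := hE
  haveI := hC
  haveI : Algebra.FormallyEtale C (Localization.AtPrime q) :=
    Algebra.FormallyEtale.of_isLocalization q.primeCompl
  haveI : Algebra.FormallyEtale A (Localization.AtPrime q) := Algebra.FormallyEtale.comp A C _
  exact Algebra.FormallyEtale.of_equiv e.symm

theorem etale_of_essEt (A E : Type u) [CommRing A] [IsLocalRing A] [IsNoetherianRing A]
    [CommRing E] [Algebra A E] (hE : EGA4loc.IsEssentiallyEtale A E) [Module.Finite A E] :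
    Algebra.Etale A E := by
  haveI := formallyEtale_of_essEt A E hE
  haveI : Algebra.FinitePresentation A E :=
    Algebra.FinitePresentation.of_finiteType.mp inferInstance
  exact {}

/-- a finite algebra over a local ring whose closed fibre is a field is local -/
theorem isLocalRing_of_isField_quotient (R S : Type u) [CommRing R] [IsLocalRing R] [CommRing S]
    [Algebra R S] [Algebra.IsIntegral R S]
    (h : IsField (S ⧸ (maximalIdeal R).map (algebraMap R S))) :
    IsLocalRing S ∧ ∀ [IsLocalRing S], maximalIdeal S = (maximalIdeal R).map (algebraMap R S) := by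
  have hmax : ((maximalIdeal R).map (algebraMap R S)).IsMaximal :=
    Ideal.Quotient.maximal_of_isField _ h
  have hloc : IsLocalRing S := by
    refine IsLocalRing.of_unique_max_ideal ⟨_, hmax, fun M hM => ?_⟩
    haveI := hM
    have h1 : (M.comap (algebraMap R S)).IsMaximal :=
      Ideal.isMaximal_comap_of_isIntegral_of_isMaximal M
    have h2 : M.comap (algebraMap R S) = maximalIdeal R := IsLocalRing.eq_maximalIdeal h1
    have h3 : (maximalIdeal R).map (algebraMap R S) ≤ M := by
      rw [← h2]
      exact Ideal.map_comap_le
    exact (hmax.eq_of_le hM.ne_top h3).symm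
  refine ⟨hloc, ?_⟩
  intro _
  exact (IsLocalRing.eq_maximalIdeal hmax).symm

/-- a local étale algebra is essentially étale -/
theorem essEt_of_etale_local (R S : Type u) [CommRing R] [IsLocalRing R] [CommRing S]
    [IsLocalRing S] [Algebra R S] [IsLocalHom (algebraMap R S)] [Algebra.Etale R S] :
    EGA4loc.IsEssentiallyEtale R S := by
  refine ⟨S, inferInstance, inferInstance, maximalIdeal S, inferInstance, inferInstance, ?_, ?_⟩
  · exact ((local_hom_TFAE (algebraMap R S)).out 0 4 rfl rfl).mp inferInstance
  · have hunits : (maximalIdeal S).primeCompl ≤ IsUnit.submonoid S := by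
      intro x hx
      exact (IsLocalRing.notMem_maximalIdeal.mp hx)
    exact ⟨(IsLocalization.atUnits S (maximalIdeal S).primeCompl hunits).restrictScalars R⟩

end Groth.Agent.Helper15.FinEtTens
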