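import Mathlib
import Groth.Prelude
import Groth.Agent.Lib.Helper15.FinEtTens1
import Groth.Agent.S0518

set_option autoImplicit false
set_option linter.unusedSectionVars false
set_option linter.unusedVariables false
set_option linter.style.haveILetI false

universe u

namespace Groth.Agent.Helper15.FinEtTens

open IsLocalRing TensorProduct Groth.Agent.Helper1

theorem main (R A E : Type u) [CommRing R] [HenselianLocalRing R] [IsNoetherianRing R]
    [CommRing A] [IsLocalRing A] [IsNoetherianRing A] [IsAdicComplete (maximalIdeal A) A]
    [Algebra R A] [IsLocalHom (algebraMap R A)]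
    (hres : Function.Bijective (ResidueField.map (algebraMap R A)))
    [CommRing E] [IsLocalRing E] [Algebra A E] [IsLocalHom (algebraMap A E)]
    (hE : EGA4loc.IsEssentiallyEtale A E) :
    ∃ (S : Type u) (_ : CommRing S) (_ : IsLocalRing S) (_ : Algebra R S),
      Module.Finite R S ∧ Algebra.Etale R S ∧ Nonempty (E ≃ₐ[A] A ⊗[R] S) := by
  classical
  haveI : HenselianLocalRing A :=
    Groth.Agent.Helper5.FinComplete.henselianLocalRing_of_isAdicComplete A
  haveI : Module.Finite A E := finite_of_essEt A E hE
  haveI : Algebra.Etale A E := etale_of_essEt A E hE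
  haveI : HenselianLocalRing E := IH.henselianLocalRing_of_finite A E
  letI : Algebra R E := ((algebraMap A E).comp (algebraMap R A)).toAlgebra
  haveI : IsScalarTower R A E := IsScalarTower.of_algebraMap_eq (fun _ => rfl)
  haveI : IsLocalHom (algebraMap R E) := by
    show IsLocalHom ((algebraMap A E).comp (algebraMap R A))
    infer_instance
  -- residue field of `E` over that of `R`
  have hmapRA : algebraMap (ResidueField R) (ResidueField A) =
      ResidueField.map (algebraMap R A) := by
    ext x
    obtain ⟨r, rfl⟩ := residue_surjective x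
    rfl
  haveI : Module.Finite (ResidueField R) (ResidueField A) :=
    Module.Finite.of_surjective (Algebra.linearMap (ResidueField R) (ResidueField A))
      (by
        intro y
        obtain ⟨x, hx⟩ := hres.surjective y
        exact ⟨x, by rw [Algebra.linearMap_apply, hmapRA, hx]⟩)
  haveI : Algebra.IsSeparable (ResidueField R) (ResidueField A) :=
    ⟨fun y => by
      obtain ⟨x, hx⟩ := hres.surjective y
      rw [← hx, ← hmapRA]
      exact isSeparable_algebraMap x⟩
  haveI : Module.Finite (ResidueField A) (ResidueField E) := inferInstance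
  haveI : Algebra.IsSeparable (ResidueField A) (ResidueField E) := inferInstance
  haveI : Module.Finite (ResidueField R) (ResidueField E) :=
    Module.Finite.trans (ResidueField A) (ResidueField E)
  haveI : Algebra.IsSeparable (ResidueField R) (ResidueField E) :=
    Algebra.IsSeparable.trans (ResidueField R) (ResidueField A) (ResidueField E)
  haveI : Algebra.FormallyEtale (ResidueField R) (ResidueField E) :=
    Algebra.FormallyEtale.of_isSeparable (ResidueField R) (ResidueField E)
  haveI : Algebra.FinitePresentation (ResidueField R) (ResidueField E) :=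
    Algebra.FinitePresentation.of_finiteType.mp inferInstance
  haveI : Algebra.Etale (ResidueField R) (ResidueField E) := {}
  obtain ⟨S, _, _, hSfin, hSet, ⟨φ₀⟩⟩ := Groth.Agent.S0518.result R (ResidueField E)
  haveI := hSfin
  haveI := hSet
  -- `S` is local
  let e₀ : (S ⧸ (maximalIdeal R).map (algebraMap R S)) ≃ₐ[R] S ⊗[R] ResidueField R :=
    (Algebra.TensorProduct.quotIdealMapEquivTensorQuot S (maximalIdeal R)).restrictScalars R
  let e₁ : (S ⧸ (maximalIdeal R).map (algebraMap R S)) ≃ₐ[R] ResidueField E :=
    e₀.trans ((Algebra.TensorProduct.comm R S (ResidueField R)).trans (φ₀.restrictScalars R))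
  have hfield : IsField (S ⧸ (maximalIdeal R).map (algebraMap R S)) :=
    e₁.toMulEquiv.isField (Field.toIsField (ResidueField E))
  obtain ⟨hSloc, hmS⟩ := isLocalRing_of_isField_quotient R S hfield
  haveI := hSloc
  have hmS' : maximalIdeal S = (maximalIdeal R).map (algebraMap R S) := hmS
  haveI : IsLocalHom (algebraMap R S) :=
    ((local_hom_TFAE (algebraMap R S)).out 0 2 rfl rfl).mpr hmS'.ge
  refine ⟨S, inferInstance, hSloc, inferInstance, hSfin, hSet, ?_⟩
  -- the residue field map
  let α₀ : ResidueField S →+* ResidueField E :=
    Ideal.Quotient.lift (maximalIdeal S)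
      ((e₁ : _ →+* ResidueField E).comp (Ideal.Quotient.mk _))
      (fun s hs => by
        rw [hmS'] at hs
        rw [RingHom.comp_apply, Ideal.Quotient.eq_zero_iff_mem.mpr hs, map_zero])
  have hα₀ : ∀ s : S, α₀ (residue S s) = φ₀ ((1 : ResidueField R) ⊗ₜ[R] s) := fun s => rfl
  have hα₀surj : Function.Surjective α₀ := by
    intro y
    obtain ⟨x, rfl⟩ := e₁.surjective y
    obtain ⟨s, rfl⟩ := Ideal.Quotient.mk_surjective x
    exact ⟨residue S s, rfl⟩
  have hα₀comp : α₀.comp (ResidueField.map (algebraMap R S)) =
      ResidueField.map (algebraMap R E) := by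
    ext x
    obtain ⟨r, rfl⟩ := residue_surjective x
    show α₀ (residue S (algebraMap R S r)) = residue E (algebraMap R E r)
    rw [hα₀]
    have h1 : ((1 : ResidueField R) ⊗ₜ[R] (algebraMap R S r) : ResidueField R ⊗[R] S) =
        algebraMap (ResidueField R) (ResidueField R ⊗[R] S) (residue R r) := by
      rw [Algebra.TensorProduct.algebraMap_apply, Algebra.algebraMap_eq_smul_one,
        ← TensorProduct.smul_tmul]
      congr 1
      rw [Algebra.smul_def, mul_one]
      rfl
    rw [h1, φ₀.commutes]
    rfl
  -- the map `S → E`
  have hSess : EGA4loc.IsEssentiallyEtale R S := essEt_of_etale_local R S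
  obtain ⟨g, ⟨hgloc, hgcomp, hgres⟩, -⟩ :=
    Groth.Agent.Helper4.EssEt.existsUnique_localHom_of_essentiallyEtale R S hSess E
      (algebraMap R E) α₀ hα₀comp
  let gAlg : S →ₐ[R] E :=
    { g with commutes' := fun r => RingHom.congr_fun hgcomp r }
  let Ψ : A ⊗[R] S →ₐ[A] E :=
    Algebra.TensorProduct.lift (Algebra.ofId A E) gAlg (fun _ _ => Commute.all _ _)
  have hΨ : ∀ s : S, Ψ ((1 : A) ⊗ₜ[R] s) = g s := by
    intro s
    show Algebra.TensorProduct.lift (Algebra.ofId A E) gAlg _ ((1 : A) ⊗ₜ[R] s) = g s
    rw [Algebra.TensorProduct.lift_tmul, map_one, one_mul]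
    rfl
  -- surjectivity by Nakayama
  have hsurj : Function.Surjective Ψ := by
    have hle : (⊤ : Submodule A E) ≤ LinearMap.range Ψ.toLinearMap := by
      refine Submodule.le_of_le_smul_of_le_jacobson_bot
        (Module.finite_def.mp inferInstance) (IsLocalRing.maximalIdeal_le_jacobson ⊥) ?_
      intro e _
      obtain ⟨y, hy⟩ := hα₀surj (residue E e)
      obtain ⟨s, rfl⟩ := residue_surjective y
      have h1 : residue E (e - g s) = 0 := by
        rw [map_sub, hgres, hy, sub_self]
      have h2 : e - g s ∈ maximalIdeal E := (residue_eq_zero_iff _).mp h1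
      rw [← Algebra.FormallyUnramified.map_maximalIdeal (R := A) (S := E)] at h2
      have h3 : e - g s ∈ (maximalIdeal A • ⊤ : Submodule A E) := by
        rw [Ideal.smul_top_eq_map]
        exact h2
      refine Submodule.mem_sup.mpr ⟨g s, ⟨(1 : A) ⊗ₜ[R] s, hΨ s⟩, e - g s, h3, by ring⟩
    intro e
    obtain ⟨x, hx⟩ := hle (Submodule.mem_top : e ∈ ⊤)
    exact ⟨x, hx⟩
  -- ranks
  haveI : Module.Flat R S := inferInstance
  haveI : Module.Free R S := Module.free_of_flat_of_isLocalRing
  haveI : Module.Flat A E := inferInstance
  haveI : Module.Free A E := Module.free_of_flat_of_isLocalRing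
  haveI : Module.FaithfullyFlat R S := Module.FaithfullyFlat.of_flat_of_isLocalHom
  haveI : Module.FaithfullyFlat A E := Module.FaithfullyFlat.of_flat_of_isLocalHom
  have r1 : Module.finrank A (A ⊗[R] S) = Module.finrank R S := Module.finrank_baseChange
  have r2 : Module.finrank R S = Module.finrank (ResidueField R) (ResidueField S) :=
    IsLocalRing.finrank_eq_finrank_residueField
  have r3 : Module.finrank A E = Module.finrank (ResidueField A) (ResidueField E) :=
    IsLocalRing.finrank_eq_finrank_residueField
  have r4 : Module.finrank (ResidueField R) (ResidueField S) =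
      Module.finrank (ResidueField R) (ResidueField E) := by
    let αAlg : ResidueField S →ₐ[ResidueField R] ResidueField E :=
      { α₀ with commutes' := fun x => RingHom.congr_fun hα₀comp x }
    have hbij : Function.Bijective αAlg := ⟨α₀.injective, hα₀surj⟩
    exact (AlgEquiv.ofBijective αAlg hbij).toLinearEquiv.finrank_eq
  have r5 : Module.finrank (ResidueField R) (ResidueField A) = 1 := by
    have hbij : Function.Bijective (Algebra.linearMap (ResidueField R) (ResidueField A)) := by
      have : ⇑(Algebra.linearMap (ResidueField R) (ResidueField A)) =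
          ⇑(ResidueField.map (algebraMap R A)) := by
        rw [← hmapRA]
        rfl
      rw [this]
      exact hres
    rw [← (LinearEquiv.ofBijective _ hbij).finrank_eq, Module.finrank_self]
  have r6 : Module.finrank (ResidueField R) (ResidueField E) =
      Module.finrank (ResidueField A) (ResidueField E) := by
    rw [← Module.finrank_mul_finrank (ResidueField R) (ResidueField A) (ResidueField E), r5,
      one_mul]
  have hrank : Module.finrank A (A ⊗[R] S) ≤ Module.finrank A E := by
    rw [r1, r2, r4, r6, r3]
  have hbij : Function.Bijective Ψ.toLinearMap :=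
    OrzechProperty.bijective_of_surjective_of_finrank_le Ψ.toLinearMap hsurj hrank
  exact ⟨(AlgEquiv.ofBijective Ψ hbij).symm⟩

end Groth.Agent.Helper15.FinEtTens
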