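import Mathlib
import Groth.Agent.Lib.Helper15.AlgSpTop
import Groth.Agent.Lib.Helper15.AlgSpOnePt
import Groth.Agent.Lib.Helper15.CatLemmas
import Groth.Agent.Lib.Helper15.AlgSpPoints
import Groth.Agent.Lib.Helper16.AlgSp.FlatSp

/-!
# Flat quasi-compact surjective monomorphisms of algebraic spaces are isomorphisms
-/

set_option autoImplicit false
universe u
open CategoryTheory CategoryTheory.Limits AlgebraicGeometry Opposite MorphismProperty
open AlgSp

namespace Groth.Agent.Helper15.FlatMono

open Groth.Agent.Helper15 Groth.Agent.Helper16.AS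

variable {S : Scheme.{u}}

/-- Affine case: a monomorphism from a quasi-compact algebraic space to an affine scheme which is
flat and surjective is an isomorphism. -/
theorem isIso_of_mono_flat_surjective_affine {P : Sp S} {V : Over S}
    [IsAffine V.left] (g : P ⟶ (yon S).obj V) [Mono g] (hqc : IsQuasiCompactSp P)
    (hflat : LocP @Flat g) (hsurj : IsSurjectiveMor g) : IsIso g := by
  obtain ⟨U, a, hU, hae, has⟩ := exists_affine_chart_of_isQuasiCompactSp hqc
  haveI : IsAffine U.left := hU
  obtain ⟨h₀, hh₀⟩ := (yon S).map_surjective (a ≫ g)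
  -- `h₀` is flat, surjective and quasi-compact
  have h1 : Flat h₀.left :=
    hflat a (𝟙 _) h₀ hae (repWith_id _ V) (by rw [hh₀, Category.comp_id])
  have h2 : Surjective h₀.left := by
    refine ⟨fun v => ?_⟩
    obtain ⟨y, hy⟩ := hsurj (Points.ofScheme V v)
    obtain ⟨u, rfl⟩ := surjective_ofPt a has y
    refine ⟨u, ?_⟩
    rw [Points.map_ofPt, ← hh₀, ofPt_yon_map] at hy
    exact (Points.schemeEquiv V).injective hy
  have h3 : QuasiCompact h₀.left := inferInstance
  -- the kernel pair of `h₀` is etale over `U`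
  have sq := hae.rep.isPullback' a
  have h4 : Etale (hae.rep.snd a).left := hae.property_snd a
  have sq' : IsPullback ((yon S).map (hae.rep.fst' a)) ((yon S).map (hae.rep.snd a))
      ((yon S).map h₀) ((yon S).map h₀) := by
    rw [hh₀]; exact isPullback_comp_mono g sq
  have sq'' : IsPullback (hae.rep.fst' a) (hae.rep.snd a) h₀ h₀ := IsPullback.of_map (yon S)
    ((yon S).map_injective (by rw [Functor.map_comp, Functor.map_comp]; exact sq'.w)) sq'
  have sq3 := sq''.map (Over.forget S)
  have h5 : Etale h₀.left :=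
    MorphismProperty.of_isPullback_of_descendsAlong (P := @Etale)
      (Q := @Surjective ⊓ @Flat ⊓ @QuasiCompact) sq3.flip ⟨⟨h2, h1⟩, h3⟩ h4
  exact isIso_of_mono_of_fac_etale_surjective g ((yon S).map h₀)
    ((repWith_yon_map_iff _ h₀).2 h5) ((repWith_yon_map_iff _ h₀).2 h2) a hh₀.symm

/-- A monomorphism of algebraic spaces which is quasi-compact, flat and surjective is an
isomorphism. -/
theorem isIso_of_mono_flat_qc_surjective {X Y : Sp S} (hX : IsAlgSpace X) (hY : IsAlgSpace Y)
    (f : X ⟶ Y) [Mono f] (hqc : IsQuasiCompactMor f) (hflat : LocP @Flat f)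
    (hsurj : IsSurjectiveMor f) : IsIso f := by
  haveI : Sheaf.IsLocallySurjective f := by
    constructor
    intro T s
    obtain ⟨x, rfl⟩ := (yonEquiv (T := T) (F := Y)).surjective s
    let 𝒰 := T.left.affineCover
    let V : 𝒰.I₀ → Over S := fun i => Over.mk (𝒰.f i ≫ T.hom)
    let g : ∀ i, V i ⟶ T := fun i => Over.homMk (𝒰.f i) rfl
    have hcov : Sieve.ofArrows V g ∈ (J S) T := by
      refine ofArrows_mem_J V g (fun i => ?_) (fun i => ?_) (fun t => ?_)
      · exact (inferInstance : Flat (𝒰.f i))
      · exact (inferInstance : LocallyOfFinitePresentation (𝒰.f i))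
      · obtain ⟨i, y, hy⟩ := 𝒰.exists_eq t
        exact ⟨i, y, hy⟩
    refine (J S).superset_covering ?_ hcov
    rw [Sieve.ofArrows, Sieve.generate_le_iff]
    rintro _ _ ⟨i⟩
    -- the base change to the affine open `V i`
    haveI : IsAffine (V i).left := (inferInstance : IsAffine (𝒰.X i))
    have sq : IsPullback (pullback.fst f ((yon S).map (g i) ≫ x))
        (pullback.snd f ((yon S).map (g i) ≫ x)) f ((yon S).map (g i) ≫ x) :=
      IsPullback.of_hasPullback _ _
    have hPa : IsAlgSpace (pullback f ((yon S).map (g i) ≫ x)) :=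
      isAlgSpace_of_isPullback hY.diag hX (IsAlgSpace.yon_obj _) sq
    haveI : Mono (pullback.snd f ((yon S).map (g i) ≫ x)) := inferInstance
    have hq : IsQuasiCompactSp (pullback f ((yon S).map (g i) ≫ x)) :=
      hqc (IsAlgSpace.yon_obj _)
        ⟨V i, 𝟙 _, repWith_id _ _, repWith_id _ _, (inferInstance : CompactSpace (V i).left)⟩
        _ _ _ sq
    haveI : IsIso (pullback.snd f ((yon S).map (g i) ≫ x)) :=
      isIso_of_mono_flat_surjective_affine _ hq
        (locP_flat_of_isPullback hX hY (IsAlgSpace.yon_obj _) sq hflat)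
        (isSurjectiveMor_of_isPullback sq hsurj)
    let l : (yon S).obj (V i) ⟶ X :=
      inv (pullback.snd f ((yon S).map (g i) ≫ x)) ≫ pullback.fst f ((yon S).map (g i) ≫ x)
    have hl : l ≫ f = (yon S).map (g i) ≫ x := by
      rw [Category.assoc, sq.w, IsIso.inv_hom_id_assoc]
    refine ⟨yonEquiv l, ?_⟩
    have h1 := GrothendieckTopology.uliftYonedaEquiv_comp (J S) l f
    have h2 := GrothendieckTopology.uliftYonedaEquiv_naturality (J S) x (g i)
    rw [← hl] at h2
    exact h1.symm.trans h2.symm
  haveI : Epi f := Sheaf.epi_of_isLocallySurjective f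
  exact isIso_of_mono_of_epi f

end Groth.Agent.Helper15.FlatMono
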