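import Groth.Agent.Lib.Helper15.AffDesc3
import Groth.Prelude.Def_DescFam

set_option autoImplicit false
universe u
open CategoryTheory CategoryTheory.Limits AlgebraicGeometry Opposite
open AlgSp

namespace Groth.Agent.Helper15.Bridge

variable {S : Scheme.{u}} {G : Sp S} {ι : Type u} {V' : ι → Over S}
  (fst : ∀ i, (yon S).obj (V' i) ⟶ G)

/-- Two `Z`-points of the charts `V' i`, `V' j` define the same `Z`-point of `G`. -/
def Rel {Z : Scheme.{u}} {i j : ι} (v : Z ⟶ (V' i).left) (v' : Z ⟶ (V' j).left) : Prop :=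
  ∃ (s : Z ⟶ S) (h₀ : v ≫ (V' i).hom = s) (h₁ : v' ≫ (V' j).hom = s),
    (yon S).map (Over.homMk v h₀ : Over.mk s ⟶ V' i) ≫ fst i =
      (yon S).map (Over.homMk v' h₁ : Over.mk s ⟶ V' j) ≫ fst j

variable {fst}

theorem Rel.forall {Z : Scheme.{u}} {i j : ι} {v : Z ⟶ (V' i).left} {v' : Z ⟶ (V' j).left}
    (h : Rel fst v v') (s : Z ⟶ S) (h₀ : v ≫ (V' i).hom = s) (h₁ : v' ≫ (V' j).hom = s) :
    (yon S).map (Over.homMk v h₀ : Over.mk s ⟶ V' i) ≫ fst i =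
      (yon S).map (Over.homMk v' h₁ : Over.mk s ⟶ V' j) ≫ fst j := by
  obtain ⟨s', h₀', h₁', e⟩ := h
  obtain rfl : s' = s := h₀'.symm.trans h₀
  exact e

theorem rel_of_eq {Z : Over S} {i j : ι} (a : Z ⟶ V' i) (b : Z ⟶ V' j)
    (h : (yon S).map a ≫ fst i = (yon S).map b ≫ fst j) : Rel fst a.left b.left :=
  ⟨Z.hom, Over.w a, Over.w b, h⟩

theorem Rel.eq {Z : Over S} {i j : ι} {a : Z ⟶ V' i} {b : Z ⟶ V' j}
    (h : Rel fst a.left b.left) : (yon S).map a ≫ fst i = (yon S).map b ≫ fst j :=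
  h.forall Z.hom (Over.w a) (Over.w b)

theorem Rel.refl {Z : Scheme.{u}} {i : ι} (v : Z ⟶ (V' i).left) : Rel fst v v :=
  ⟨_, rfl, rfl, rfl⟩

theorem Rel.symm {Z : Scheme.{u}} {i j : ι} {v : Z ⟶ (V' i).left} {v' : Z ⟶ (V' j).left}
    (h : Rel fst v v') : Rel fst v' v := by
  obtain ⟨s, h₀, h₁, e⟩ := h
  exact ⟨s, h₁, h₀, e.symm⟩

theorem Rel.trans {Z : Scheme.{u}} {i j k : ι} {v : Z ⟶ (V' i).left} {v' : Z ⟶ (V' j).left}
    {v'' : Z ⟶ (V' k).left} (h : Rel fst v v') (h' : Rel fst v' v'') : Rel fst v v'' := by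
  obtain ⟨s, h₀, h₁, e⟩ := h
  have h₂ : v'' ≫ (V' k).hom = s := by
    obtain ⟨s', a, b, -⟩ := h'
    exact b.trans (a.symm.trans h₁)
  exact ⟨s, h₀, h₂, e.trans (h'.forall s h₁ h₂)⟩

theorem Rel.precomp {Z Z' : Scheme.{u}} (g : Z' ⟶ Z) {i j : ι} {v : Z ⟶ (V' i).left}
    {v' : Z ⟶ (V' j).left} (h : Rel fst v v') : Rel fst (g ≫ v) (g ≫ v') := by
  obtain ⟨s, h₀, h₁, e⟩ := h
  have k₀ : (g ≫ v) ≫ (V' i).hom = g ≫ s := by rw [Category.assoc, h₀]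
  have k₁ : (g ≫ v') ≫ (V' j).hom = g ≫ s := by rw [Category.assoc, h₁]
  refine ⟨g ≫ s, k₀, k₁, ?_⟩
  let γ : Over.mk (g ≫ s) ⟶ Over.mk s := Over.homMk g rfl
  have e1 : (Over.homMk (g ≫ v) k₀ : Over.mk (g ≫ s) ⟶ V' i) =
      γ ≫ (Over.homMk v h₀ : Over.mk s ⟶ V' i) := by ext; rfl
  have e2 : (Over.homMk (g ≫ v') k₁ : Over.mk (g ≫ s) ⟶ V' j) =
      γ ≫ (Over.homMk v' h₁ : Over.mk s ⟶ V' j) := by ext; rfl
  rw [e1, e2, Functor.map_comp, Functor.map_comp, Category.assoc, Category.assoc, e]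


variable {T : Over S} {m : G ⟶ (yon S).obj T} {T' : ι → Over S} {c : ∀ i, T' i ⟶ T}
  {π : ∀ i, V' i ⟶ T' i}
  (sq : ∀ i, IsPullback (fst i) ((yon S).map (π i)) m ((yon S).map (c i)))

include sq in
theorem exists_rel {Z : Scheme.{u}} {i j : ι} (v : Z ⟶ (V' i).left) (x₁ : Z ⟶ (T' j).left)
    (h : (v ≫ (π i).left) ≫ (c i).left = x₁ ≫ (c j).left) :
    ∃ v' : Z ⟶ (V' j).left, v' ≫ (π j).left = x₁ ∧ Rel fst v v' := by
  let s : Z ⟶ S := v ≫ (V' i).hom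
  let a : Over.mk s ⟶ V' i := Over.homMk v rfl
  have hx₁ : x₁ ≫ (T' j).hom = s := by
    rw [← Over.w (c j), ← Category.assoc, ← h, Category.assoc, Category.assoc, Over.w (c i),
      Over.w (π i)]
  let b : Over.mk s ⟶ T' j := Over.homMk x₁ hx₁
  have hab : a ≫ π i ≫ c i = b ≫ c j := by
    ext
    change v ≫ (π i).left ≫ (c i).left = x₁ ≫ (c j).left
    simpa using h
  have hw : ((yon S).map a ≫ fst i) ≫ m = (yon S).map b ≫ (yon S).map (c j) := by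
    rw [Category.assoc, (sq i).w, ← Functor.map_comp, ← Functor.map_comp, ← Functor.map_comp, hab]
  obtain ⟨w, hw'⟩ := (yon S).map_surjective ((sq j).lift _ _ hw)
  have h1 : (yon S).map w ≫ fst j = (yon S).map a ≫ fst i := by
    rw [hw', (sq j).lift_fst]
  have h2 : w ≫ π j = b := by
    apply (yon S).map_injective
    rw [Functor.map_comp, hw', (sq j).lift_snd]
  refine ⟨w.left, ?_, ?_⟩
  · exact congrArg (fun t => t.left) h2
  · exact rel_of_eq a w h1.symm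

include sq in
theorem rel_unique {Z : Scheme.{u}} {i j : ι} {v : Z ⟶ (V' i).left} {v' v'' : Z ⟶ (V' j).left}
    (h : Rel fst v v') (h' : Rel fst v v'') (hπ : v' ≫ (π j).left = v'' ≫ (π j).left) :
    v' = v'' := by
  obtain ⟨s, h₀, h₁, e⟩ := h.symm.trans h'
  let a : Over.mk s ⟶ V' j := Over.homMk v' h₀
  let b : Over.mk s ⟶ V' j := Over.homMk v'' h₁
  have hab : (yon S).map a = (yon S).map b := by
    apply (sq j).hom_ext e
    rw [← Functor.map_comp, ← Functor.map_comp]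
    congr 1
    ext
    exact hπ
  exact congrArg (fun t => t.left) ((yon S).map_injective hab)


theorem phi_aux {Z : Scheme.{u}} {i j : ι} (x₀ : Z ⟶ (T' i).left) (x₁ : Z ⟶ (T' j).left)
    (h : x₀ ≫ (c i).left = x₁ ≫ (c j).left) (v : Desc.Lifts (Over.mk (π i).left) x₀) :
    (v.1 ≫ (π i).left) ≫ (c i).left = x₁ ≫ (c j).left := by
  have := v.2
  change v.1 ≫ (π i).left = x₀ at this
  rw [this, h]

/-- The transition map of the descent datum defined by `G`. -/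
noncomputable def phiFun {Z : Scheme.{u}} {i j : ι} (x₀ : Z ⟶ (T' i).left) (x₁ : Z ⟶ (T' j).left)
    (h : x₀ ≫ (c i).left = x₁ ≫ (c j).left) (v : Desc.Lifts (Over.mk (π i).left) x₀) :
    Desc.Lifts (Over.mk (π j).left) x₁ :=
  ⟨(exists_rel sq v.1 x₁ (phi_aux x₀ x₁ h v)).choose,
    (exists_rel sq v.1 x₁ (phi_aux x₀ x₁ h v)).choose_spec.1⟩

theorem phiFun_rel {Z : Scheme.{u}} {i j : ι} (x₀ : Z ⟶ (T' i).left) (x₁ : Z ⟶ (T' j).left)
    (h : x₀ ≫ (c i).left = x₁ ≫ (c j).left) (v : Desc.Lifts (Over.mk (π i).left) x₀) :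
    Rel fst v.1 (phiFun sq x₀ x₁ h v).1 :=
  (exists_rel sq v.1 x₁ (phi_aux x₀ x₁ h v)).choose_spec.2

theorem phiFun_unique {Z : Scheme.{u}} {i j : ι} (x₀ : Z ⟶ (T' i).left) (x₁ : Z ⟶ (T' j).left)
    (h : x₀ ≫ (c i).left = x₁ ≫ (c j).left) (v : Desc.Lifts (Over.mk (π i).left) x₀)
    (w : Z ⟶ (V' j).left) (hw : w ≫ (π j).left = x₁) (hr : Rel fst v.1 w) :
    (phiFun sq x₀ x₁ h v).1 = w := by
  refine rel_unique sq (phiFun_rel sq x₀ x₁ h v) hr ?_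
  have := (phiFun sq x₀ x₁ h v).2
  change (phiFun sq x₀ x₁ h v).1 ≫ (π j).left = x₁ at this
  rw [this, hw]

/-- The descent datum relative to the family `c` defined by the sheaf `G` over `T` with charts
`V' i` over `T' i`. -/
noncomputable def ddFam :
    Desc.SchDDFam (S := T.left) (X := fun i => (T' i).left) (fun i => (c i).left) where
  obj i := Over.mk (π i).left
  φ Z i j x₀ x₁ h :=
    { toFun := phiFun sq x₀ x₁ h
      invFun := phiFun sq x₁ x₀ h.symm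
      left_inv := fun v => Subtype.ext (phiFun_unique sq x₁ x₀ h.symm _ v.1 v.2
        (phiFun_rel sq x₀ x₁ h v).symm)
      right_inv := fun v => Subtype.ext (phiFun_unique sq x₀ x₁ h _ v.1 v.2
        (phiFun_rel sq x₁ x₀ h.symm v).symm) }
  φ_natural Z Z' g i j x₀ x₁ h y₀ y₁ hy₀ hy₁ h' v v' hv' := by
    change (phiFun sq y₀ y₁ h' v').1 = g ≫ (phiFun sq x₀ x₁ h v).1
    refine phiFun_unique sq y₀ y₁ h' v' _ ?_ ?_
    · have := (phiFun sq x₀ x₁ h v).2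
      change (phiFun sq x₀ x₁ h v).1 ≫ (π j).left = x₁ at this
      rw [Category.assoc, this, hy₁]
    · rw [hv']
      exact (phiFun_rel sq x₀ x₁ h v).precomp g
  φ_self Z i x v := Subtype.ext (phiFun_unique sq x x rfl v v.1 v.2 (Rel.refl _))
  φ_comp Z i j k x₀ x₁ x₂ h₀₁ h₁₂ v := Subtype.ext ((phiFun_unique sq x₀ x₂ (h₀₁.trans h₁₂) v _
    (phiFun sq x₁ x₂ h₁₂ (phiFun sq x₀ x₁ h₀₁ v)).2
    ((phiFun_rel sq x₀ x₁ h₀₁ v).trans (phiFun_rel sq x₁ x₂ h₁₂ _))).symm)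

@[simp] theorem ddFam_obj (i : ι) : (ddFam sq).obj i = Over.mk (π i).left := rfl

theorem ddFam_φ_rel {Z : Scheme.{u}} {i j : ι} (x₀ : Z ⟶ (T' i).left) (x₁ : Z ⟶ (T' j).left)
    (h : x₀ ≫ (c i).left = x₁ ≫ (c j).left) (v : Desc.Lifts (Over.mk (π i).left) x₀) :
    Rel fst v.1 ((ddFam sq).φ x₀ x₁ h v).1 :=
  phiFun_rel sq x₀ x₁ h v

end Groth.Agent.Helper15.Bridge
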