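import Groth.Agent.Lib.Helper15.FppfBridge1
import Groth.Agent.Lib.Helper15.AlgSpSI2
import Groth.Agent.Lib.Helper15.AlgSpInter

set_option autoImplicit false
universe u
open CategoryTheory CategoryTheory.Limits AlgebraicGeometry Opposite
open AlgSp

namespace Groth.Agent.Helper15.Bridge

variable {S : Scheme.{u}}

/-- Maps into the target of an fppf covering family lift locally. -/
theorem exists_local_lift_of_fppf_family {T : Over S} {ι : Type*} (T' : ι → Over S)
    (c : ∀ i, T' i ⟶ T)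
    (hflat : ∀ i, Flat (c i).left) (hlfp : ∀ i, LocallyOfFinitePresentation (c i).left)
    (hsurj : ∀ x : T.left, ∃ i y, (c i).left y = x) (X : Over S)
    (x : (yon S).obj X ⟶ (yon S).obj T) :
    ∃ R ∈ (J S) X, ∀ ⦃X' : Over S⦄ (k : X' ⟶ X), R k →
      ∃ (i : ι) (τ : (yon S).obj X' ⟶ (yon S).obj (T' i)),
        τ ≫ (yon S).map (c i) = (yon S).map k ≫ x := by
  obtain ⟨x', rfl⟩ := (yon S).map_surjective x
  let Q : ι → Over S := fun i => Over.mk (pullback.fst x'.left (c i).left ≫ X.hom)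
  let q1 : ∀ i, Q i ⟶ X := fun i => Over.homMk (pullback.fst _ _) rfl
  let q2 : ∀ i, Q i ⟶ T' i := fun i => Over.homMk (pullback.snd _ _) (by
    change pullback.snd x'.left (c i).left ≫ (T' i).hom = pullback.fst x'.left (c i).left ≫ X.hom
    rw [← CategoryTheory.Over.w (c i), ← CategoryTheory.Over.w x', pullback.condition_assoc])
  have hq : ∀ i, q1 i ≫ x' = q2 i ≫ c i := fun i => by ext; exact pullback.condition
  refine ⟨Sieve.ofArrows Q q1, ofArrows_mem_J _ _ (fun i => ?_) (fun i => ?_) (fun t => ?_), ?_⟩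
  · haveI := hflat i
    change Flat (pullback.fst x'.left (c i).left)
    infer_instance
  · haveI := hlfp i
    change LocallyOfFinitePresentation (pullback.fst x'.left (c i).left)
    infer_instance
  · obtain ⟨i, y, hy⟩ := hsurj (x'.left t)
    obtain ⟨q, hq1, -⟩ := Scheme.Pullback.exists_preimage_pullback t y hy.symm
    exact ⟨i, q, hq1⟩
  · rintro X' k ⟨X'', e, _, ⟨i⟩, rfl⟩
    refine ⟨i, (yon S).map (e ≫ q2 i), ?_⟩
    rw [← Functor.map_comp, ← Functor.map_comp, Category.assoc, ← hq i, Category.assoc]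

/-- A map of sheaves over `K` which becomes an isomorphism after base change along each member of
a jointly locally surjective family is an isomorphism. -/
theorem isIso_of_isPullback_family {ι : Type*} {G H K : Sp S} {P K' : ι → Sp S}
    {f₁ : ∀ i, P i ⟶ G} {f₂ : ∀ i, P i ⟶ H} {p : ∀ i, P i ⟶ K' i} {m : G ⟶ K} {n : H ⟶ K}
    {b : ∀ i, K' i ⟶ K}
    (hcov : ∀ (X : Over S) (x : (yon S).obj X ⟶ K), ∃ R ∈ (J S) X,
      ∀ ⦃X' : Over S⦄ (k : X' ⟶ X), R k →
        ∃ (i : ι) (τ : (yon S).obj X' ⟶ K' i), τ ≫ b i = (yon S).map k ≫ x)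
    (sq₁ : ∀ i, IsPullback (f₁ i) (p i) m (b i)) (sq₂ : ∀ i, IsPullback (f₂ i) (p i) n (b i))
    (γ : G ⟶ H) (h₁ : ∀ i, f₁ i ≫ γ = f₂ i) (h₂ : γ ≫ n = m) : IsIso γ := by
  haveI : Mono γ := by
    apply mono_of_yon
    intro X x y hxy
    have hm : x ≫ m = y ≫ m := by rw [← h₂, ← Category.assoc, hxy, Category.assoc]
    obtain ⟨R, hR, hlift⟩ := hcov X (x ≫ m)
    apply yon_hom_ext_of_cover x y R hR
    intro X' k hk
    obtain ⟨i, τ, hτ⟩ := hlift k hk
    have hwx : ((yon S).map k ≫ x) ≫ m = τ ≫ b i := by rw [Category.assoc, hτ]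
    have hwy : ((yon S).map k ≫ y) ≫ m = τ ≫ b i := by rw [Category.assoc, ← hm, hτ]
    have heq : (sq₁ i).lift _ _ hwx = (sq₁ i).lift _ _ hwy := by
      apply (sq₂ i).hom_ext
      · rw [← h₁ i, ← Category.assoc, ← Category.assoc, (sq₁ i).lift_fst, (sq₁ i).lift_fst,
          Category.assoc, Category.assoc, hxy]
      · rw [(sq₁ i).lift_snd, (sq₁ i).lift_snd]
    have := congrArg (fun l => l ≫ f₁ i) heq
    simpa using this
  haveI : Sheaf.IsLocallySurjective γ := by
    apply isLocallySurjective_of_local_lift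
    intro X z
    obtain ⟨R, hR, hlift⟩ := hcov X (z ≫ n)
    refine ⟨R, hR, fun X' k hk => ?_⟩
    obtain ⟨i, τ, hτ⟩ := hlift k hk
    have hw : ((yon S).map k ≫ z) ≫ n = τ ≫ b i := by rw [Category.assoc, hτ]
    refine ⟨(sq₂ i).lift _ _ hw ≫ f₁ i, ?_⟩
    rw [Category.assoc, h₁ i, (sq₂ i).lift_fst]
  haveI : Epi γ := (Sheaf.isLocallySurjective_iff_epi γ).1 inferInstance
  exact isIso_of_mono_of_epi γ


section Main

variable {G : Sp S} {ι : Type u} {V' : ι → Over S} {fst : ∀ i, (yon S).obj (V' i) ⟶ G}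
  {T : Over S} {m : G ⟶ (yon S).obj T} {T' : ι → Over S} {c : ∀ i, T' i ⟶ T}
  {π : ∀ i, V' i ⟶ T' i}
  (sq : ∀ i, IsPullback (fst i) ((yon S).map (π i)) m ((yon S).map (c i)))

/-- Unpacking an isomorphism from a canonical descent datum to `ddFam sq`. -/
theorem exists_of_iso (W₀ : Over T.left)
    (θ : (Desc.toDDFam fun i => (c i).left).obj W₀ ≅ ddFam sq) :
    ∃ (a : ∀ i, pullback (c i).left W₀.hom ⟶ (V' i).left)
      (b : ∀ i, (V' i).left ⟶ pullback (c i).left W₀.hom),
      (∀ i, a i ≫ b i = 𝟙 _) ∧ (∀ i, b i ≫ a i = 𝟙 _) ∧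
      (∀ i, a i ≫ (π i).left = pullback.fst (c i).left W₀.hom) ∧
      (∀ (Z : Scheme.{u}) (i j : ι) (g : Z ⟶ pullback (c i).left W₀.hom)
        (g' : Z ⟶ pullback (c j).left W₀.hom),
        g ≫ pullback.snd (c i).left W₀.hom = g' ≫ pullback.snd (c j).left W₀.hom →
        Rel fst (g ≫ a i) (g' ≫ a j)) := by
  refine ⟨fun i => (θ.hom.hom i).left, fun i => (θ.inv.hom i).left, fun i => ?_, fun i => ?_,
    fun i => Over.w (θ.hom.hom i), ?_⟩
  · exact congrArg (fun a => (Desc.SchDDFam.Hom.hom a i).left) θ.hom_inv_id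
  · exact congrArg (fun a => (Desc.SchDDFam.Hom.hom a i).left) θ.inv_hom_id
  · intro Z i j g g' hg
    let f : ∀ i, (T' i).left ⟶ T.left := fun i => (c i).left
    let x₀ : Z ⟶ (T' i).left := g ≫ pullback.fst (f i) W₀.hom
    let x₁ : Z ⟶ (T' j).left := g' ≫ pullback.fst (f j) W₀.hom
    have hx : x₀ ≫ f i = x₁ ≫ f j := by
      change (g ≫ pullback.fst (f i) W₀.hom) ≫ f i = (g' ≫ pullback.fst (f j) W₀.hom) ≫ f j
      rw [Category.assoc, Category.assoc, pullback.condition, pullback.condition, ← Category.assoc,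
        hg, Category.assoc]
    let v : Desc.Lifts (((Desc.toDDFam f).obj W₀).obj i) x₀ := ⟨g, rfl⟩
    have hw : (g ≫ (θ.hom.hom i).left) ≫ (π i).left = x₀ := by
      rw [Category.assoc]
      exact congrArg (g ≫ ·) (Over.w (θ.hom.hom i))
    let w : Desc.Lifts ((ddFam sq).obj i) x₀ := ⟨g ≫ (θ.hom.hom i).left, hw⟩
    have key := θ.hom.comm x₀ x₁ hx v w rfl
    have hcan : (((Desc.toDDFam f).obj W₀).φ x₀ x₁ hx v).1 = g' := by
      apply pullback.hom_ext
      · change (Desc.canMapFam f W₀ x₀ x₁ hx v).1 ≫ _ = _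
        rw [Desc.canMapFam_val, pullback.lift_fst]
      · change (Desc.canMapFam f W₀ x₀ x₁ hx v).1 ≫ _ = _
        rw [Desc.canMapFam_val, pullback.lift_snd]
        exact hg
    rw [hcan] at key
    have hrel := ddFam_φ_rel sq x₀ x₁ hx w
    rw [key] at hrel
    exact hrel

/-- If the descent datum defined by a sheaf `G` over `T` with charts over an fppf covering family
is effective, then `G` is representable. -/
theorem exists_rep_of_isEffective (hflat : ∀ i, Flat (c i).left)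
    (hlfp : ∀ i, LocallyOfFinitePresentation (c i).left)
    (hsurj : ∀ x : T.left, ∃ i y, (c i).left y = x)
    (hD : (ddFam sq).IsEffective) :
    ∃ (W : Over S) (j : W ⟶ T) (e : (yon S).obj W ≅ G), e.hom ≫ m = (yon S).map j := by
  obtain ⟨W₀, ⟨θ⟩⟩ := hD
  obtain ⟨a, b, hab, hba, haπ, harel⟩ := exists_of_iso sq W₀ θ
  let f : ∀ i, (T' i).left ⟶ T.left := fun i => (c i).left
  let W : Over S := Over.mk (W₀.hom ≫ T.hom)
  let j : W ⟶ T := Over.homMk W₀.hom rfl
  let P : ι → Over S := fun i => Over.mk (pullback.fst (f i) W₀.hom ≫ (T' i).hom)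
  let p₁ : ∀ i, P i ⟶ T' i := fun i => Over.homMk (pullback.fst (f i) W₀.hom) rfl
  let p₂ : ∀ i, P i ⟶ W := fun i => Over.homMk (pullback.snd (f i) W₀.hom) (by
    change pullback.snd (f i) W₀.hom ≫ W₀.hom ≫ T.hom = pullback.fst (f i) W₀.hom ≫ (T' i).hom
    rw [← pullback.condition_assoc, Over.w (c i)])
  have sqP : ∀ i, IsPullback (p₂ i) (p₁ i) j (c i) := fun i =>
    IsPullback.of_map_of_faithful (Over.forget S) (IsPullback.of_hasPullback (f i) W₀.hom).flip
  let ψ : ∀ i, P i ⟶ V' i := fun i => Over.homMk (a i) (by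
    change a i ≫ (V' i).hom = pullback.fst (f i) W₀.hom ≫ (T' i).hom
    rw [← haπ i, Category.assoc, Over.w (π i)])
  let ψinv : ∀ i, V' i ⟶ P i := fun i => Over.homMk (b i) (by
    change b i ≫ pullback.fst (f i) W₀.hom ≫ (T' i).hom = (V' i).hom
    rw [← haπ i, Category.assoc, ← Category.assoc (b i), hba i, Category.id_comp, Over.w (π i)])
  have hψ1 : ∀ i, ψ i ≫ ψinv i = 𝟙 _ := fun i => by ext; exact hab i
  have hψ2 : ∀ i, ψinv i ≫ ψ i = 𝟙 _ := fun i => by ext; exact hba i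
  have hψπ : ∀ i, ψ i ≫ π i = p₁ i := fun i => by ext; exact haπ i
  let ψiso : ∀ i, P i ≅ V' i := fun i => ⟨ψ i, ψinv i, hψ1 i, hψ2 i⟩
  let h : ∀ i, (yon S).obj (P i) ⟶ G := fun i => (yon S).map (ψ i) ≫ fst i
  -- compatibility of the `h i`
  have compat : ∀ (Z : Over S) (i j : ι) (gi : Z ⟶ P i) (gj : Z ⟶ P j),
      gi ≫ p₂ i = gj ≫ p₂ j → (yon S).map gi ≫ h i = (yon S).map gj ≫ h j := by
    intro Z i j gi gj hg
    have hg' : gi.left ≫ pullback.snd (f i) W₀.hom = gj.left ≫ pullback.snd (f j) W₀.hom :=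
      congrArg (fun t => t.left) hg
    have hrel' : Rel fst (gi ≫ ψ i).left (gj ≫ ψ j).left := harel Z.left i j gi.left gj.left hg'
    have := hrel'.eq
    simpa [h] using this
  -- the covering of `W`
  have hcovW : Sieve.ofArrows P p₂ ∈ (J S) W := by
    refine ofArrows_mem_J _ _ (fun i => ?_) (fun i => ?_) (fun t => ?_)
    · haveI := hflat i
      change Flat (pullback.snd (f i) W₀.hom)
      infer_instance
    · haveI := hlfp i
      change LocallyOfFinitePresentation (pullback.snd (f i) W₀.hom)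
      infer_instance
    · obtain ⟨i, y, hy⟩ := hsurj (W₀.hom t)
      obtain ⟨q, -, hq2⟩ := Scheme.Pullback.exists_preimage_pullback (f := f i) (g := W₀.hom) y t hy
      exact ⟨i, q, hq2⟩
  -- glue
  have hsh : Presieve.IsSheafFor G.obj (Presieve.ofArrows P p₂) := by
    rw [Presieve.isSheafFor_iff_generate]
    exact ((isSheaf_iff_isSheaf_of_type _ _).1 G.property) _ hcovW
  rw [Presieve.isSheafFor_arrows_iff] at hsh
  obtain ⟨t, ht, -⟩ := hsh (fun i => yonEquiv (h i)) (by
    intro i j Z gi gj hg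
    change G.obj.map gi.op (yonEquiv (h i)) = G.obj.map gj.op (yonEquiv (h j))
    rw [GrothendieckTopology.uliftYonedaEquiv_naturality,
      GrothendieckTopology.uliftYonedaEquiv_naturality]
    exact congrArg _ (compat Z i j gi gj hg))
  let γ : (yon S).obj W ⟶ G := yonEquiv.symm t
  have hγ : ∀ i, (yon S).map (p₂ i) ≫ γ = h i := fun i => by
    apply yonEquiv.injective
    rw [← GrothendieckTopology.uliftYonedaEquiv_naturality, Equiv.apply_symm_apply]
    exact ht i
  have hγm : γ ≫ m = (yon S).map j := by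
    apply yon_hom_ext_of_cover _ _ _ hcovW
    rintro X' k ⟨X'', e, _, ⟨i⟩, rfl⟩
    rw [Functor.map_comp, Category.assoc, ← Category.assoc ((yon S).map (p₂ i)), hγ i]
    change (yon S).map e ≫ ((yon S).map (ψ i) ≫ fst i) ≫ m = _
    rw [Category.assoc, (sq i).w, ← Functor.map_comp, ← Functor.map_comp, ← Functor.map_comp,
      ← Functor.map_comp, ← Functor.map_comp, ← Category.assoc (ψ i), hψπ i, (sqP i).w.symm,
      Category.assoc]
  have sq₂ : ∀ i, IsPullback (h i) ((yon S).map (p₁ i)) m ((yon S).map (c i)) := fun i => by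
    refine (sq i).of_iso ((yon S).mapIso (ψiso i)).symm (Iso.refl _) (Iso.refl _) (Iso.refl _)
      ?_ ?_ ?_ ?_
    · change fst i ≫ 𝟙 _ = (yon S).map (ψinv i) ≫ (yon S).map (ψ i) ≫ fst i
      rw [Category.comp_id, ← Category.assoc, ← Functor.map_comp, hψ2 i, (yon S).map_id,
        Category.id_comp]
    · change (yon S).map (π i) ≫ 𝟙 _ = (yon S).map (ψinv i) ≫ (yon S).map (p₁ i)
      rw [Category.comp_id, ← Functor.map_comp, ← hψπ i, ← Category.assoc, hψ2 i, Category.id_comp]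
    · simp
    · simp
  haveI : IsIso γ := isIso_of_isPullback_family
    (exists_local_lift_of_fppf_family T' c hflat hlfp hsurj)
    (fun i => (sqP i).map (yon S)) sq₂ γ hγ hγm
  exact ⟨W, j, asIso γ, hγm⟩

end Main

end Groth.Agent.Helper15.Bridge
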