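import Groth.Agent.Lib.Helper15.AlgSpBasic
import Groth.Prelude.Def_AlgSpGpd
import Mathlib.CategoryTheory.Monoidal.Cartesian.Grp

/-!
# Free actions: `(g, x) ↦ (g x, x)` is a monomorphism
-/

set_option autoImplicit false
universe u
open CategoryTheory CategoryTheory.Limits AlgebraicGeometry MorphismProperty Opposite MonoidalCategory
  CartesianMonoidalCategory MonObj
open AlgSp

namespace Groth.Agent.Helper15

variable {S : Scheme.{u}} {B : Sp S} {G X : Over B} [GrpObj G] (a : GAction G X)

theorem GAction.one_smul {T : Over B} (x : T ⟶ X) : lift (1 : T ⟶ G) x ≫ a.act = x := by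
  have h := a.one_act
  have e : lift (1 : T ⟶ G) x = lift (toUnit T) x ≫ (η[G] ▷ X) := by
    rw [Hom.one_def]
    simp
  rw [e, Category.assoc, h]
  simp

theorem GAction.mul_smul {T : Over B} (g h : T ⟶ G) (x : T ⟶ X) :
    lift (g * h) x ≫ a.act = lift g (lift h x ≫ a.act) ≫ a.act := by
  have hm := a.mul_act
  have e : lift (g * h) x = lift (lift g h) x ≫ (μ[G] ▷ X) := by
    rw [Hom.mul_def]
    simp
  rw [e, Category.assoc, hm]
  simp

/-- If the action is free then `(g, x) ↦ (g x, x)` is a monomorphism (on `T`-points for `T` a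
scheme over `S` with a map to `B`). -/
theorem GAction.eq_of_smul_eq (ha : a.IsFree) {T : Over S} (β : (yon S).obj T ⟶ B)
    (g₁ g₂ : Over.mk β ⟶ G) (x : Over.mk β ⟶ X)
    (h : lift g₁ x ≫ a.act = lift g₂ x ≫ a.act) : g₁ = g₂ := by
  have h1 : lift (g₂⁻¹ * g₁) x ≫ a.act = x := by
    rw [GAction.mul_smul, h, ← GAction.mul_smul, inv_mul_cancel, GAction.one_smul]
  have h2 := ha β (g₂⁻¹ * g₁) x h1
  rw [← Hom.one_def] at h2
  have := congrArg (fun z => g₂ * z) h2
  simpa using this

theorem GAction.mono_of_isFree (ha : a.IsFree) : Mono (lift a.act (snd G X)).left := by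
  apply mono_of_yon
  intro T u v huv
  set m := lift a.act (snd G X) with hm
  have hmw : m.left ≫ (X ⊗ X).hom = (G ⊗ X).hom := Over.w m
  have hv : v ≫ (G ⊗ X).hom = u ≫ (G ⊗ X).hom := by
    rw [← hmw, ← Category.assoc, ← Category.assoc, huv]
  let β : (yon S).obj T ⟶ B := u ≫ (G ⊗ X).hom
  let u' : Over.mk β ⟶ G ⊗ X := Over.homMk u rfl
  let v' : Over.mk β ⟶ G ⊗ X := Over.homMk v hv
  have huv' : u' ≫ m = v' ≫ m := by
    apply Over.OverMorphism.ext
    exact huv
  have hx : u' ≫ snd G X = v' ≫ snd G X := by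
    have := congrArg (fun z => z ≫ snd X X) huv'
    simpa [m] using this
  have hg : lift (u' ≫ fst G X) (u' ≫ snd G X) ≫ a.act =
      lift (v' ≫ fst G X) (u' ≫ snd G X) ≫ a.act := by
    have := congrArg (fun z => z ≫ fst X X) huv'
    simp only [m, Category.assoc, lift_fst] at this
    rw [hx]
    have e1 : lift (u' ≫ fst G X) (v' ≫ snd G X) = u' := by
      rw [← hx]; simp
    have e2 : lift (v' ≫ fst G X) (v' ≫ snd G X) = v' := by simp
    rw [e1, e2]
    exact this
  have hfst := GAction.eq_of_smul_eq a ha β _ _ _ hg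
  have : u' = v' := by
    apply CartesianMonoidalCategory.hom_ext
    · exact hfst
    · exact hx
  exact congrArg (fun z => z.left) this

end Groth.Agent.Helper15
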