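import Mathlib
import Groth.Prelude
import Groth.Agent.Lib.Helper15.GUPunct2

/-!
# Generic points of irreducible components and stalks of dimension zero (helper15)
-/

set_option autoImplicit false
set_option linter.unusedSectionVars false
set_option linter.unusedVariables false
set_option linter.style.haveILetI false
universe u
open CategoryTheory CategoryTheory.Limits AlgebraicGeometry Opposite

namespace Groth.Agent.Helper15.GUPunct
open IsLocalRing

theorem closure_mem_irreducibleComponents_iff (X : Scheme.{u}) (x : X) :
    closure ({x} : Set X) ∈ irreducibleComponents X ↔ ∀ y : X, y ⤳ x → y = x := by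
  constructor
  · intro h y hy
    have h1 : closure ({x} : Set X) ⊆ closure {y} :=
      closure_minimal (Set.singleton_subset_iff.mpr (specializes_iff_mem_closure.mp hy))
        isClosed_closure
    have h2 : closure ({y} : Set X) ⊆ closure {x} :=
      h.2 isIrreducible_singleton.closure h1
    have h3 : x ⤳ y := specializes_iff_mem_closure.mpr (h2 (subset_closure rfl))
    exact (h3.antisymm hy).eq.symm
  · intro h
    refine ⟨isIrreducible_singleton.closure, fun t ht hle => ?_⟩
    obtain ⟨z, hz⟩ := QuasiSober.sober ht.closure isClosed_closure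
    have hx : x ∈ closure t := subset_closure (hle (subset_closure rfl))
    have hzx : z ⤳ x := by
      rw [specializes_iff_mem_closure, hz.def]
      exact hx
    have := h z hzx
    subst this
    show t ⊆ closure {z}
    rw [hz.def]
    exact subset_closure

theorem forall_specializes_iff (X : Scheme.{u}) (x : X) :
    (∀ y : X, y ⤳ x → y = x) ↔
      maximalIdeal (X.presheaf.stalk x) ∈ minimalPrimes (X.presheaf.stalk x) := by
  constructor
  · intro h
    refine ⟨⟨inferInstance, bot_le⟩, fun P hP _ => ?_⟩
    have hPp : P.IsPrime := hP.1
    have hy : (X.fromSpecStalk x) ⟨P, hPp⟩ ⤳ x := by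
      have : (X.fromSpecStalk x) ⟨P, hPp⟩ ∈ Set.range (X.fromSpecStalk x) := ⟨_, rfl⟩
      rwa [Scheme.range_fromSpecStalk] at this
    have h1 := h _ hy
    have h2 : (X.fromSpecStalk x) ⟨P, hPp⟩ =
        (X.fromSpecStalk x) (closedPoint (X.presheaf.stalk x)) := by
      rw [h1, Scheme.fromSpecStalk_closedPoint]
    have h3 := (X.fromSpecStalk x).isEmbedding.injective h2
    have h4 : P = maximalIdeal (X.presheaf.stalk x) := congrArg PrimeSpectrum.asIdeal h3
    exact h4.ge
  · intro h y hy
    have hmem : y ∈ Set.range (X.fromSpecStalk x) := by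
      rw [Scheme.range_fromSpecStalk]
      exact hy
    obtain ⟨P, rfl⟩ := hmem
    have hP : P.asIdeal = maximalIdeal (X.presheaf.stalk x) := by
      have hle : P.asIdeal ≤ maximalIdeal (X.presheaf.stalk x) :=
        le_maximalIdeal P.2.ne_top
      exact le_antisymm hle (h.2 ⟨P.2, bot_le⟩ hle)
    have : P = closedPoint (X.presheaf.stalk x) := PrimeSpectrum.ext hP
    rw [this, Scheme.fromSpecStalk_closedPoint]

/-- `x` is the generic point of an irreducible component iff its local ring has a single prime. -/
theorem closure_mem_irreducibleComponents_iff_stalk (X : Scheme.{u}) (x : X) :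
    closure ({x} : Set X) ∈ irreducibleComponents X ↔
      maximalIdeal (X.presheaf.stalk x) ∈ minimalPrimes (X.presheaf.stalk x) :=
  (closure_mem_irreducibleComponents_iff X x).trans (forall_specializes_iff X x)

theorem maximalIdeal_mem_minimalPrimes_iff {R A : Type u} [CommRing R] [CommRing A] [Algebra R A]
    (p : Ideal R) [p.IsPrime] [IsLocalization.AtPrime A p] [IsLocalRing A] :
    maximalIdeal A ∈ minimalPrimes A ↔ p ∈ minimalPrimes R := by
  have := IsLocalization.minimalPrimes_map p.primeCompl A (⊥ : Ideal R)
  rw [Ideal.map_bot] at this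
  show maximalIdeal A ∈ (⊥ : Ideal A).minimalPrimes ↔ _
  rw [this, Set.mem_preimage, IsLocalization.AtPrime.under_maximalIdeal A p]

end Groth.Agent.Helper15.GUPunct
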