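import Groth.Agent.Lib.Helper15.GpdSpField2

/-!
# Restriction of a groupoid over a field along a field extension: the statement
-/

set_option autoImplicit false
universe u
open CategoryTheory CategoryTheory.Limits AlgebraicGeometry MorphismProperty Opposite
open AlgSp AlgSp.GroupoidSp

namespace Groth.Agent.Helper15

variable {S : Scheme.{u}}

/-- Points of a sheaf isomorphic to the spectrum of a field form a one point set. -/
theorem subsingleton_points_of_iso_field {k : Type u} [Field k] (σ : Spec (CommRingCat.of k) ⟶ S)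
    {Y : Sp S} (e : Y ≅ (yon S).obj (Over.mk σ)) : Subsingleton (Points Y) := by
  constructor
  intro a b
  have h : Points.map e.hom a = Points.map e.hom b := by
    apply (Points.schemeEquiv (Over.mk σ)).symm.injective
    exact @Subsingleton.elim ↥(Spec (CommRingCat.of k)) inferInstance _ _
  have := congrArg (Points.map e.inv) h
  rwa [← Points.map_comp, ← Points.map_comp, e.hom_inv_id, Points.map_id, Points.map_id] at this

theorem nonempty_points_of_iso_field {k : Type u} [Field k] (σ : Spec (CommRingCat.of k) ⟶ S)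
    {Y : Sp S} (e : Y ≅ (yon S).obj (Over.mk σ)) : Nonempty (Points Y) := by
  have x : ↥(Spec (CommRingCat.of k)) := Classical.arbitrary _
  exact ⟨Points.map e.inv (Points.schemeEquiv (Over.mk σ) x)⟩

/-- Source and target of a groupoid over a field are surjective, flat and universally open. -/
theorem st_of_field {B : Sp S} (G : GroupoidSp B) (hR : IsAlgSpace G.R)
    {k : Type u} [Field k] (σ : Spec (CommRingCat.of k) ⟶ S)
    (eU : G.U ≅ (yon S).obj (Over.mk σ)) :
    ∀ f ∈ [G.s, G.t], IsSurjectiveMor f ∧ LocP @Flat f ∧ IsUnivOpenMor f := by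
  have hsurj : ∀ f : G.R ⟶ G.U, G.e ≫ f = 𝟙 _ → IsSurjectiveMor f := by
    intro f hf x
    refine ⟨Points.map G.e x, ?_⟩
    rw [← Points.map_comp, hf, Points.map_id]
  intro f hf
  have hf' : f = G.s ∨ f = G.t := by simpa using hf
  refine ⟨?_, locP_flat_to_field_iso σ eU f, isUnivOpenMor_to_field_iso σ hR eU f⟩
  rcases hf' with rfl | rfl
  · exact hsurj _ G.e_s
  · exact hsurj _ G.e_t

theorem restriction_field_main {B : Sp S} (hB : IsAlgSpace B)
    (G G' : GroupoidSp B) (hR : IsAlgSpace G.R) (hR' : IsAlgSpace G'.R)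
    (k k' : Type u) [Field k] [Field k'] [Algebra k k'] (σ : Spec (CommRingCat.of k) ⟶ S)
    (eU : G.U ≅ ((yon S).obj (Over.mk σ)))
    (eU' : G'.U ≅ ((yon S).obj (Over.mk (Spec.map (CommRingCat.ofHom (algebraMap k k')) ≫ σ))))
    (φ : GroupoidSp.Hom G' G) (hφ : φ.IsRestriction)
    (hfU : φ.fU = eU'.hom ≫ (yon S).map (Over.homMk (Spec.map (CommRingCat.ofHom (algebraMap k k'))) rfl :
      Over.mk (Spec.map (CommRingCat.ofHom (algebraMap k k')) ≫ σ) ⟶ Over.mk σ) ≫ eU.inv) :
    (∀ f ∈ [G.s, G.t], IsSurjectiveMor f ∧ LocP @Flat f ∧ IsUnivOpenMor f) ∧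
      (∀ f ∈ [G'.s, G'.t], IsSurjectiveMor f ∧ LocP @Flat f ∧ IsUnivOpenMor f) ∧
      (IsSurjectiveMor φ.fU ∧ LocP @Flat φ.fU ∧ IsUnivOpenMor φ.fU) ∧
      (IsSurjectiveMor φ.fR ∧ LocP @Flat φ.fR ∧ IsUnivOpenMor φ.fR ∧ IsAffineMor φ.fR) := by
  have hU : IsAlgSpace G.U := (IsAlgSpace.yon_obj _).of_iso eU.symm
  have hU' : IsAlgSpace G'.U := (IsAlgSpace.yon_obj _).of_iso eU'.symm
  have hfUs : IsSurjectiveMor φ.fU := by
    haveI := subsingleton_points_of_iso_field σ eU
    haveI := nonempty_points_of_iso_field _ eU'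
    exact Function.surjective_to_subsingleton _
  have hfUa : IsAffineMor φ.fU := by
    rw [isAffineMor_iff_affRep, hfU]
    have h1 : AffRep (S := S) @IsAffineHom eU'.hom := affRep_of_repWith (repWith_of_isIso _ _)
    have h3 : AffRep (S := S) @IsAffineHom eU.inv := affRep_of_repWith (repWith_of_isIso _ _)
    have h2 : AffRep (S := S) @IsAffineHom ((yon S).map (Over.homMk (Spec.map (CommRingCat.ofHom (algebraMap k k'))) rfl :
      Over.mk (Spec.map (CommRingCat.ofHom (algebraMap k k')) ≫ σ) ⟶ Over.mk σ)) := by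
      apply affRep_of_repWith
      rw [repWith_yon_map_iff]
      change IsAffineHom (Spec.map (CommRingCat.ofHom (algebraMap k k')))
      infer_instance
    exact (AffRep (S := S) @IsAffineHom).comp_mem _ _ h1
      ((AffRep (S := S) @IsAffineHom).comp_mem _ _ h2 h3)
  have hfU' : SFUA φ.fU :=
    ⟨hU', hU, hfUs, locP_flat_to_field_iso σ eU φ.fU, isUnivOpenMor_to_field_iso σ hU' eU φ.fU, hfUa⟩
  have hprod : SFUA φ.prodMap := by
    have key : ∀ (p' : G'.U ⟶ B) (hp' : φ.fU ≫ G.pU = p'),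
        SFUA (pullback.map p' p' G.pU G.pU φ.fU φ.fU (𝟙 B) (by rw [hp', Category.comp_id])
          (by rw [hp', Category.comp_id])) := by
      intro p' hp'
      subst hp'
      exact SFUA.prodMap hB G.pU φ.fU hfU'
    exact key G'.pU φ.fU_over
  have hfR : SFUA φ.fR := SFUA.of_isPullback (IsPullback.flip hφ) hR hprod
  exact ⟨st_of_field G hR σ eU, st_of_field G' hR' _ eU', ⟨hfUs, hfU'.2.2.2.1, hfU'.2.2.2.2.1⟩,
    ⟨hfR.2.2.1, hfR.2.2.2.1, hfR.2.2.2.2.1, hfR.2.2.2.2.2⟩⟩

end Groth.Agent.Helper15
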