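import Mathlib
import Groth.Agent.Lib.Helper15.AlgSpField
import Groth.Agent.Lib.Helper15.AlgSpGrpField
import Groth.Agent.Lib.Helper15.GpdSpField3
import Groth.Agent.Lib.Helper15.AlgSpLim36

set_option autoImplicit false
set_option linter.unusedSectionVars false
set_option linter.unusedVariables false
set_option linter.style.haveILetI false
universe u

open CategoryTheory CategoryTheory.Limits AlgebraicGeometry MorphismProperty Opposite
open AlgSp

namespace Groth.Agent.Helper15.GalPts

/-- Two embeddings of a normal extension agreeing on the base differ by an automorphism. -/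
theorem exists_algEquiv_comp_eq {k K Ω : Type u} [Field k] [Field K] [Field Ω] [Algebra k K]
    [Normal k K] (ι ι' : K →+* Ω) (h : ι.comp (algebraMap k K) = ι'.comp (algebraMap k K)) :
    ∃ σ : K ≃ₐ[k] K, ι' = ι.comp σ.toRingEquiv.toRingHom := by
  letI : Algebra K Ω := ι.toAlgebra
  letI : Algebra k Ω := (ι.comp (algebraMap k K)).toAlgebra
  haveI : IsScalarTower k K Ω := IsScalarTower.of_algebraMap_eq (fun _ => rfl)
  let ι'a : K →ₐ[k] Ω := { ι' with commutes' := fun r => (RingHom.congr_fun h r).symm }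
  refine ⟨Normal.algHomEquivAut k Ω K ι'a, ?_⟩
  have := (Normal.algHomEquivAut k Ω K).left_inv ι'a
  ext x
  have h2 := congrArg (fun f => f x) this
  exact h2.symm

variable {k K : Type u} [Field k] [Field K] [Algebra k K]

/-- `Spec K` over `Spec k`. -/
noncomputable abbrev oK (k K : Type u) [Field k] [Field K] [Algebra k K] :
    Over (Spec (CommRingCat.of k)) :=
  Over.mk (Spec.map (CommRingCat.ofHom (algebraMap k K)))

/-- The automorphism of `Spec K` over `Spec k` induced by an element of the Galois group. -/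
noncomputable def gσ (σ : K ≃ₐ[k] K) : oK k K ⟶ oK k K :=
  Over.homMk (Spec.map (CommRingCat.ofHom σ.toRingEquiv.toRingHom)) (by
    change Spec.map (CommRingCat.ofHom σ.toRingEquiv.toRingHom) ≫
      Spec.map (CommRingCat.ofHom (algebraMap k K)) = Spec.map (CommRingCat.ofHom (algebraMap k K))
    rw [← Spec.map_comp, ← CommRingCat.ofHom_comp]
    congr 2
    exact RingHom.ext (fun z => σ.commutes z))

theorem gσ_left (σ : K ≃ₐ[k] K) :
    (gσ σ).left = Spec.map (CommRingCat.ofHom (σ : K ≃ₐ[k] K).toRingHom) := rfl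

/-- Points of `X_K` with the same image in `X` are conjugate under the Galois group. -/
theorem orbit_of_fst_eq [Normal k K] (X : Sp (Spec (CommRingCat.of k)))
    (z z' : Points (X ⨯ (yon (Spec (CommRingCat.of k))).obj (oK k K)))
    (h : Points.map (Limits.prod.fst) z = Points.map (Limits.prod.fst) z') :
    ∃ σ : K ≃ₐ[k] K, Points.map (Limits.prod.map (𝟙 X)
      ((yon (Spec (CommRingCat.of k))).map (gσ σ))) z = z' := by
  obtain ⟨L, _, strL, ζ, rfl⟩ := exists_ofField z
  obtain ⟨L', _, strL', ζ', rfl⟩ := exists_ofField z'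
  rw [map_ofField, map_ofField, ofField_eq_iff] at h
  obtain ⟨Ω, _, w, a, b, hab⟩ := h
  let c₁ : Over.mk w ⟶ oK k K :=
    (yon (Spec (CommRingCat.of k))).preimage (((yon _).map a ≫ ζ) ≫ Limits.prod.snd)
  let c₂ : Over.mk w ⟶ oK k K :=
    (yon (Spec (CommRingCat.of k))).preimage (((yon _).map b ≫ ζ') ≫ Limits.prod.snd)
  have hc₁ : (yon _).map c₁ = ((yon _).map a ≫ ζ) ≫ Limits.prod.snd := (yon _).map_preimage _
  have hc₂ : (yon _).map c₂ = ((yon _).map b ≫ ζ') ≫ Limits.prod.snd := (yon _).map_preimage _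
  let ι₁ : K →+* Ω := (Spec.preimage c₁.left).hom
  let ι₂ : K →+* Ω := (Spec.preimage c₂.left).hom
  have hι₁ : Spec.map (CommRingCat.ofHom ι₁) = c₁.left := Spec.map_preimage _
  have hι₂ : Spec.map (CommRingCat.ofHom ι₂) = c₂.left := Spec.map_preimage _
  have hιk : ι₁.comp (algebraMap k K) = ι₂.comp (algebraMap k K) := by
    have h1 : Spec.map (CommRingCat.ofHom ι₁) ≫ Spec.map (CommRingCat.ofHom (algebraMap k K)) = w := by
      rw [hι₁]; exact Over.w c₁
    have h2 : Spec.map (CommRingCat.ofHom ι₂) ≫ Spec.map (CommRingCat.ofHom (algebraMap k K)) = w := by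
      rw [hι₂]; exact Over.w c₂
    rw [← h2, ← Spec.map_comp, ← Spec.map_comp] at h1
    have h3 := Spec.map_injective h1
    exact congrArg (fun m => m.hom) h3
  obtain ⟨σ, hσ⟩ := exists_algEquiv_comp_eq ι₁ ι₂ hιk
  refine ⟨σ, ?_⟩
  rw [map_ofField, ofField_eq_iff]
  refine ⟨Ω, inferInstance, w, a, b, ?_⟩
  have hcc : c₁ ≫ gσ σ = c₂ := by
    apply Over.OverMorphism.ext
    change c₁.left ≫ Spec.map (CommRingCat.ofHom σ.toRingEquiv.toRingHom) = c₂.left
    rw [← hι₁, ← hι₂, ← Spec.map_comp, ← CommRingCat.ofHom_comp, hσ]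
  rw [← Category.assoc]
  apply Limits.prod.hom_ext
  · rw [Category.assoc, Limits.prod.map_fst, Category.comp_id]
    simpa only [Category.assoc] using hab
  · rw [Category.assoc, Limits.prod.map_snd, ← Category.assoc, ← hc₁, ← Functor.map_comp, hcc, hc₂]

/-- The projection `X_K ⟶ X` is open and surjective on points. -/
theorem isOpenMap_surjective_fst (X : Sp (Spec (CommRingCat.of k))) (hX : IsAlgSpace X) :
    IsOpenMap (Points.map (Limits.prod.fst :
      X ⨯ (yon (Spec (CommRingCat.of k))).obj (oK k K) ⟶ X)) ∧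
    Function.Surjective (Points.map (Limits.prod.fst :
      X ⨯ (yon (Spec (CommRingCat.of k))).obj (oK k K) ⟶ X)) := by
  let hTm : IsTerminal ((yon (Spec (CommRingCat.of k))).obj (Over.mk (𝟙 _))) :=
    AlgSpLim.isTerminalYonBase
  have sq : IsPullback (Limits.prod.fst : X ⨯ (yon _).obj (oK k K) ⟶ X) Limits.prod.snd
      (hTm.from X) (hTm.from ((yon _).obj (oK k K))) :=
    IsPullback.of_is_product' (prodIsProd X _) hTm
  have huo : IsUnivOpenMor (hTm.from ((yon (Spec (CommRingCat.of k))).obj (oK k K))) :=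
    isUnivOpenMor_to_field (𝟙 _) (IsAlgSpace.yon_obj _) _
  constructor
  · exact huo hX (hTm.from X) _ _ sq.flip
  · have hs : IsSurjectiveMor (hTm.from ((yon (Spec (CommRingCat.of k))).obj (oK k K))) := by
      intro y
      haveI := subsingleton_points_of_iso_field (𝟙 (Spec (CommRingCat.of k)))
        (Iso.refl ((yon (Spec (CommRingCat.of k))).obj (Over.mk (𝟙 _))))
      obtain ⟨x⟩ := nonempty_points_of_iso_field (Spec.map (CommRingCat.ofHom (algebraMap k K)))
        (Iso.refl ((yon (Spec (CommRingCat.of k))).obj (oK k K)))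
      exact ⟨x, Subsingleton.elim _ _⟩
    exact isSurjectiveMor_of_isPullback sq.flip hs

theorem main10470 (k : Type u) [Field k] (X : AlgSp.Space (Spec (CommRingCat.of k))) (K : Type u) [Field K] [Algebra k K] [IsGalois k K]
    (T : Set (AlgSp.Points (X.obj ⨯ (AlgSp.yon (Spec (CommRingCat.of k))).obj (Over.mk (Spec.map (CommRingCat.ofHom (algebraMap k K))))))) (hT : IsClosed T)
    (hσ : ∀ (σ : K ≃ₐ[k] K) (g : (Over.mk (Spec.map (CommRingCat.ofHom (algebraMap k K))) : Over (Spec (CommRingCat.of k))) ⟶ Over.mk (Spec.map (CommRingCat.ofHom (algebraMap k K)))),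
      g.left = Spec.map (CommRingCat.ofHom (σ : K ≃ₐ[k] K).toRingHom) →
        AlgSp.Points.map (Limits.prod.map (𝟙 X.obj) ((AlgSp.yon (Spec (CommRingCat.of k))).map g)) '' T = T) :
    ∃ T₀ : Set (AlgSp.Points X.obj), IsClosed T₀ ∧
      AlgSp.Points.map (Limits.prod.fst : (X.obj ⨯ (AlgSp.yon (Spec (CommRingCat.of k))).obj (Over.mk (Spec.map (CommRingCat.ofHom (algebraMap k K))))) ⟶ X.obj) ⁻¹' T₀ = T := by
  set p := AlgSp.Points.map (Limits.prod.fst : (X.obj ⨯ (AlgSp.yon (Spec (CommRingCat.of k))).obj (Over.mk (Spec.map (CommRingCat.ofHom (algebraMap k K))))) ⟶ X.obj) with hp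
  have hsat : ∀ z z', z ∈ T → p z = p z' → z' ∈ T := by
    intro z z' hz h
    obtain ⟨σ, hσz⟩ := orbit_of_fst_eq X.obj z z' h
    rw [← hσ σ (gσ σ) rfl]
    exact ⟨z, hz, hσz⟩
  obtain ⟨hopen, hsurj⟩ := isOpenMap_surjective_fst (K := K) X.obj X.property
  refine ⟨p '' T, ?_, ?_⟩
  · rw [← isOpen_compl_iff]
    have : (p '' T)ᶜ = p '' Tᶜ := by
      ext x
      constructor
      · intro hx
        obtain ⟨z, rfl⟩ := hsurj x
        exact ⟨z, fun hz => hx ⟨z, hz, rfl⟩, rfl⟩
      · rintro ⟨z, hz, rfl⟩ ⟨z', hz', h⟩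
        exact hz (hsat z' z hz' h)
    rw [this]
    exact hopen _ hT.isOpen_compl
  · ext z
    constructor
    · rintro ⟨z', hz', h⟩
      exact hsat z' z hz' h
    · intro hz
      exact ⟨z, hz, rfl⟩

end Groth.Agent.Helper15.GalPts
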