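import Mathlib
import Groth.Agent.Lib.Helper15.GalPts1
import Groth.Agent.Lib.Helper15.AlgSpTop
import Groth.Agent.Lib.Helper15.CatLemmas
import Groth.Agent.Lib.Helper15.BaseChg3

set_option autoImplicit false
set_option linter.unusedSectionVars false
set_option linter.unusedVariables false
set_option linter.style.haveILetI false
universe u

open CategoryTheory CategoryTheory.Limits AlgebraicGeometry MorphismProperty Opposite
open AlgSp
open scoped TensorProduct

namespace Groth.Agent.Helper15.GalPts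

variable {k K : Type u} [Field k] [Field K] [Algebra k K]

/-- The endomorphism `id ⊗ σ` of `A ⊗ K`. -/
noncomputable def tmap (A : Type u) [CommRing A] [Algebra k A] (σ : K ≃ₐ[k] K) :
    A ⊗[k] K →ₐ[k] A ⊗[k] K :=
  Algebra.TensorProduct.map (AlgHom.id k A) (σ : K →ₐ[k] K)

theorem tmap_tmul (A : Type u) [CommRing A] [Algebra k A] (σ : K ≃ₐ[k] K) (a : A) (l : K) :
    tmap A σ (a ⊗ₜ[k] l) = a ⊗ₜ[k] σ l := by
  simp [tmap]

/-- Every element of `A ⊗ K` is fixed by an open subgroup of the Galois group. -/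
theorem exists_open_subgroup_fixing [IsGalois k K] (A : Type u) [CommRing A] [Algebra k A]
    (f : A ⊗[k] K) :
    ∃ H : Subgroup (K ≃ₐ[k] K), IsOpen (H : Set (K ≃ₐ[k] K)) ∧ ∀ σ ∈ H, tmap A σ f = f := by
  induction f using TensorProduct.induction_on with
  | zero => exact ⟨⊤, by simp, fun σ _ => map_zero _⟩
  | tmul a l =>
    haveI : FiniteDimensional k (IntermediateField.adjoin k {l}) :=
      IntermediateField.adjoin.finiteDimensional (Algebra.IsIntegral.isIntegral l)
    refine ⟨(IntermediateField.adjoin k {l}).fixingSubgroup,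
      IntermediateField.fixingSubgroup_isOpen _, fun σ hσ => ?_⟩
    rw [tmap_tmul]
    congr 1
    exact (IntermediateField.mem_fixingSubgroup_iff _ _).1 hσ l
      (IntermediateField.mem_adjoin_simple_self k l)
  | add x y hx hy =>
    obtain ⟨H₁, h₁o, h₁⟩ := hx
    obtain ⟨H₂, h₂o, h₂⟩ := hy
    refine ⟨H₁ ⊓ H₂, ?_, fun σ hσ => ?_⟩
    · rw [Subgroup.coe_inf]; exact h₁o.inter h₂o
    · rw [map_add, h₁ σ hσ.1, h₂ σ hσ.2]

end Groth.Agent.Helper15.GalPts
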