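import Mathlib
import Groth.Agent.Lib.Helper15.GalPts1
import Groth.Agent.Lib.Helper15.AlgSpTop
import Groth.Agent.Lib.Helper15.CatLemmas
import Groth.Agent.Lib.Helper15.BaseChg3
import Groth.Agent.Lib.Helper15.GalPts2a

set_option autoImplicit false
set_option linter.unusedSectionVars false
set_option linter.unusedVariables false
set_option linter.style.haveILetI false
universe u

open CategoryTheory CategoryTheory.Limits AlgebraicGeometry MorphismProperty Opposite
open AlgSp
open scoped TensorProduct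

namespace Groth.Agent.Helper15.GalPts

variable {k K : Type u} [Field k] [Field K] [Algebra k K]

/-- `Spec A` over `Spec k`. -/
noncomputable abbrev oA (k A : Type u) [Field k] [CommRing A] [Algebra k A] :
    Over (Spec (CommRingCat.of k)) :=
  Over.mk (Spec.map (CommRingCat.ofHom (algebraMap k A)))

section
variable (k K) (A : Type u) [CommRing A] [Algebra k A]

/-- `Spec (A ⊗ K)` over `Spec k`. -/
noncomputable abbrev oAK : Over (Spec (CommRingCat.of k)) :=
  Over.mk (Spec.map (CommRingCat.ofHom (algebraMap k (A ⊗[k] K))))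

theorem sqSch : IsPullback
    (Spec.map (CommRingCat.ofHom (Algebra.TensorProduct.includeLeftRingHom : A →+* A ⊗[k] K)))
    (Spec.map (CommRingCat.ofHom (Algebra.TensorProduct.includeRight : K →ₐ[k] A ⊗[k] K).toRingHom))
    (Spec.map (CommRingCat.ofHom (algebraMap k A)))
    (Spec.map (CommRingCat.ofHom (algebraMap k K))) :=
  isPullback_SpecMap_of_isPushout _ _ _ _ (CommRingCat.isPushout_tensorProduct k A K)

/-- First projection. -/
noncomputable def p₁ : oAK k K A ⟶ oA k A :=
  Over.homMk (Spec.map (CommRingCat.ofHom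
    (Algebra.TensorProduct.includeLeftRingHom : A →+* A ⊗[k] K))) (by
    change Spec.map _ ≫ Spec.map _ = Spec.map _
    rw [← Spec.map_comp, ← CommRingCat.ofHom_comp])

/-- Second projection. -/
noncomputable def p₂ : oAK k K A ⟶ oK k K :=
  Over.homMk (Spec.map (CommRingCat.ofHom
    (Algebra.TensorProduct.includeRight : K →ₐ[k] A ⊗[k] K).toRingHom)) (by
    change Spec.map _ ≫ Spec.map _ = Spec.map _
    rw [← Spec.map_comp, ← CommRingCat.ofHom_comp]
    congr 2
    exact RingHom.ext (fun z => (Algebra.TensorProduct.includeRight : K →ₐ[k] A ⊗[k] K).commutes z))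

variable {k K}

/-- The automorphism `Spec (id ⊗ σ)`. -/
noncomputable def τ (σ : K ≃ₐ[k] K) : oAK k K A ⟶ oAK k K A :=
  Over.homMk (Spec.map (CommRingCat.ofHom (tmap A σ).toRingHom)) (by
    change Spec.map _ ≫ Spec.map _ = Spec.map _
    rw [← Spec.map_comp, ← CommRingCat.ofHom_comp]
    congr 2
    exact RingHom.ext (fun z => (tmap A σ).commutes z))

theorem τ_p₁ (σ : K ≃ₐ[k] K) : τ A σ ≫ p₁ k K A = p₁ k K A := by
  apply Over.OverMorphism.ext
  rw [Over.comp_left]
  unfold τ p₁
  simp only [Over.homMk_left]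
  rw [← Spec.map_comp, ← CommRingCat.ofHom_comp]
  congr 2
  refine RingHom.ext (fun a => ?_)
  change tmap A σ (a ⊗ₜ[k] (1 : K)) = a ⊗ₜ[k] (1 : K)
  rw [tmap_tmul, map_one]

theorem τ_p₂ (σ : K ≃ₐ[k] K) : τ A σ ≫ p₂ k K A = p₂ k K A ≫ gσ σ := by
  apply Over.OverMorphism.ext
  rw [Over.comp_left, Over.comp_left]
  unfold τ p₂ gσ
  simp only [Over.homMk_left]
  rw [← Spec.map_comp, ← CommRingCat.ofHom_comp, ← Spec.map_comp, ← CommRingCat.ofHom_comp]
  congr 2

theorem τ_mem_basicOpen (σ : K ≃ₐ[k] K) (f : A ⊗[k] K) (hf : tmap A σ f = f)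
    (t : (oAK k K A).left)
    (ht : t ∈ ((PrimeSpectrum.basicOpen f : TopologicalSpace.Opens (PrimeSpectrum (A ⊗[k] K))) :
      Set (PrimeSpectrum (A ⊗[k] K)))) :
    (τ A σ).left t ∈ ((PrimeSpectrum.basicOpen f :
      TopologicalSpace.Opens (PrimeSpectrum (A ⊗[k] K))) : Set (PrimeSpectrum (A ⊗[k] K))) := by
  change f ∉ (PrimeSpectrum.comap (tmap A σ).toRingHom t).asIdeal
  change f ∉ PrimeSpectrum.asIdeal t at ht
  intro h
  apply ht
  have : (tmap A σ).toRingHom f ∈ PrimeSpectrum.asIdeal t := h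
  change tmap A σ f ∈ PrimeSpectrum.asIdeal t at this
  rwa [hf] at this

end

end Groth.Agent.Helper15.GalPts
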