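import Mathlib
import Groth.Agent.Lib.Helper15.GalPts2b

set_option autoImplicit false
set_option linter.unusedSectionVars false
set_option linter.unusedVariables false
set_option linter.style.haveILetI false
universe u

open CategoryTheory CategoryTheory.Limits AlgebraicGeometry MorphismProperty Opposite
open AlgSp
open scoped TensorProduct

namespace Groth.Agent.Helper15.GalPts

variable {k K : Type u} [Field k] [Field K] [Algebra k K]
variable (A : Type u) [CommRing A] [Algebra k A] {X : Sp (Spec (CommRingCat.of k))}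
  (a : (yon (Spec (CommRingCat.of k))).obj (oA k A) ⟶ X)

/-- The chart of `X_K` induced by an affine chart of `X`. -/
noncomputable def ψ : (yon (Spec (CommRingCat.of k))).obj (oAK k K A) ⟶
    X ⨯ (yon (Spec (CommRingCat.of k))).obj (oK k K) :=
  prod.lift ((yon _).map (p₁ k K A) ≫ a) ((yon _).map (p₂ k K A))

theorem ψ_fst : ψ (K := K) A a ≫ prod.fst = (yon _).map (p₁ k K A) ≫ a := prod.lift_fst _ _

theorem ψ_snd : ψ (K := K) A a ≫ prod.snd = (yon _).map (p₂ k K A) := prod.lift_snd _ _

theorem ψ_equivariant (σ : K ≃ₐ[k] K) :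
    (yon _).map (τ A σ) ≫ ψ A a = ψ A a ≫ prod.map (𝟙 X) ((yon _).map (gσ σ)) := by
  apply Limits.prod.hom_ext
  · rw [Category.assoc, Category.assoc, prod.map_fst, Category.comp_id, ψ_fst,
      ← Category.assoc, ← Functor.map_comp, τ_p₁]
  · rw [Category.assoc, Category.assoc, prod.map_snd, ψ_snd, ← Functor.map_comp, τ_p₂,
      Functor.map_comp, ← Category.assoc, ψ_snd]

theorem isPullback_outer :
    IsPullback ((yon (Spec (CommRingCat.of k))).map (p₁ k K A)) ((yon _).map (p₂ k K A))
      ((AlgSpLim.isTerminalYonBase (S := Spec (CommRingCat.of k))).from _)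
      ((AlgSpLim.isTerminalYonBase (S := Spec (CommRingCat.of k))).from _) := by
  refine BaseChg.isPullback_yon_of_forall _ _ _ _ (AlgSpLim.isTerminalYonBase.hom_ext _ _) ?_ ?_
  · intro W r r' h1 h2
    apply Over.OverMorphism.ext
    exact (sqSch k K A).hom_ext (congrArg (fun m => m.left) h1) (congrArg (fun m => m.left) h2)
  · intro W x y _
    have hxy : x.left ≫ Spec.map (CommRingCat.ofHom (algebraMap k A)) =
        y.left ≫ Spec.map (CommRingCat.ofHom (algebraMap k K)) :=
      (Over.w x).trans (Over.w y).symm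
    refine ⟨Over.homMk ((sqSch k K A).lift x.left y.left hxy) ?_, ?_, ?_⟩
    · have h1 : (sqSch k K A).lift x.left y.left hxy ≫ (p₁ k K A).left = x.left :=
        (sqSch k K A).lift_fst _ _ _
      rw [← Over.w (p₁ k K A), ← Category.assoc, h1]
      exact Over.w x
    · apply Over.OverMorphism.ext
      exact (sqSch k K A).lift_fst _ _ _
    · apply Over.OverMorphism.ext
      exact (sqSch k K A).lift_snd _ _ _

theorem isPullback_ψ :
    IsPullback (ψ (K := K) A a) ((yon _).map (p₁ k K A)) prod.fst a := by
  let hTm : IsTerminal ((yon (Spec (CommRingCat.of k))).obj (Over.mk (𝟙 _))) :=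
    AlgSpLim.isTerminalYonBase
  have sq : IsPullback (Limits.prod.fst : X ⨯ (yon _).obj (oK k K) ⟶ X) Limits.prod.snd
      (hTm.from X) (hTm.from ((yon _).obj (oK k K))) :=
    IsPullback.of_is_product' (prodIsProd X _) hTm
  have hout := (isPullback_outer (k := k) (K := K) A).flip
  have e1 : (yon _).map (p₂ k K A) = ψ (K := K) A a ≫ prod.snd := (ψ_snd A a).symm
  have e2 : hTm.from ((yon (Spec (CommRingCat.of k))).obj (oA k A)) = a ≫ hTm.from X :=
    hTm.hom_ext _ _
  change IsPullback ((yon _).map (p₂ k K A)) ((yon _).map (p₁ k K A)) (hTm.from _) (hTm.from _)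
    at hout
  rw [e1, e2] at hout
  exact IsPullback.of_right hout (ψ_fst A a) sq.flip

theorem repWith_etale_ψ (ha : RepWith @Etale a) : RepWith @Etale (ψ (K := K) A a) :=
  (RepWith @Etale).of_isPullback (isPullback_ψ A a).flip ha

/-- Points of `X_K` over a point in the image of the chart come from the base-changed chart. -/
theorem exists_point_ψ (z : Points (X ⨯ (yon (Spec (CommRingCat.of k))).obj (oK k K)))
    (u : (oA k A).left) (h : Points.ofPt a u = Points.map prod.fst z) :
    ∃ t : (oAK k K A).left, Points.ofPt (ψ (K := K) A a) t = z := by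
  have sq := isPullback_ψ (K := K) A a
  have h' : Points.map prod.fst z = Points.map a (Points.ofScheme (oA k A) u) := by
    rw [← Points.ofPt_eq_map_ofScheme]; exact h.symm
  obtain ⟨p, hp1, hp2⟩ := exists_point_of_isPullback sq z (Points.ofScheme (oA k A) u) h'
  obtain ⟨t, rfl⟩ := (Points.schemeEquiv (oAK k K A)).surjective p
  change Points.map _ (Points.ofScheme _ t) = _ at hp1
  rw [← Points.ofPt_eq_map_ofScheme] at hp1
  exact ⟨t, hp1⟩

end Groth.Agent.Helper15.GalPts
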