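import Mathlib
import Groth.Agent.Lib.Helper15.GalPts2c

set_option autoImplicit false
set_option linter.unusedSectionVars false
set_option linter.unusedVariables false
set_option linter.style.haveILetI false
universe u

open CategoryTheory CategoryTheory.Limits AlgebraicGeometry MorphismProperty Opposite
open AlgSp
open scoped TensorProduct

namespace Groth.Agent.Helper15.GalPts

variable {k K : Type u} [Field k] [Field K] [Algebra k K]

/-- Affine étale chart through a point, in algebra form. -/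
theorem exists_affine_alg_chart (X : Sp (Spec (CommRingCat.of k))) (hX : IsAlgSpace X)
    (x : Points X) :
    ∃ (A : Type u) (_ : CommRing A) (_ : Algebra k A)
      (a : (yon (Spec (CommRingCat.of k))).obj (oA k A) ⟶ X) (u : (oA k A).left),
      RepWith @Etale a ∧ Points.ofPt a u = x := by
  obtain ⟨V₀, q₀, hqe, hqs⟩ := hX.atlas
  obtain ⟨v, rfl⟩ := surjective_ofPt q₀ hqs x
  obtain ⟨_, ⟨O, hO, rfl⟩, hvO, -⟩ :=
    (V₀.left.isBasis_affineOpens).exists_subset_of_mem_open (Set.mem_univ v) isOpen_univ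
  let R : CommRingCat := Γ(V₀.left, O)
  let str : Spec R ⟶ Spec (CommRingCat.of k) := hO.fromSpec ≫ V₀.hom
  let φ : CommRingCat.of k ⟶ R := Spec.preimage str
  have hφ : Spec.map φ = str := Spec.map_preimage str
  letI : Algebra k R := φ.hom.toAlgebra
  let j : oA k R ⟶ V₀ := Over.homMk hO.fromSpec (by
    change hO.fromSpec ≫ V₀.hom = Spec.map (CommRingCat.ofHom (algebraMap k R))
    exact hφ.symm)
  have hje : RepWith @Etale ((yon _).map j) :=
    (repWith_yon_map_iff _ j).2 (show Etale hO.fromSpec from inferInstance)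
  obtain ⟨w, hw⟩ : ∃ w : Spec R, hO.fromSpec w = v := by
    have : v ∈ Set.range hO.fromSpec := by rw [hO.range_fromSpec]; exact hvO
    exact this
  refine ⟨R, inferInstance, inferInstance, (yon _).map j ≫ q₀, w,
    (RepWith @Etale).comp_mem _ _ hje hqe, ?_⟩
  rw [ofPt_comp_yon_map]
  congr 1

theorem exists_nbhd_stable [IsGalois k K] (X : Sp (Spec (CommRingCat.of k))) (hX : IsAlgSpace X)
    (V : Set (Points (X ⨯ (yon (Spec (CommRingCat.of k))).obj (oK k K)))) (hV : IsOpen V)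
    (z : Points (X ⨯ (yon (Spec (CommRingCat.of k))).obj (oK k K))) (hz : z ∈ V) :
    ∃ W : Set (Points (X ⨯ (yon (Spec (CommRingCat.of k))).obj (oK k K))),
      IsOpen W ∧ z ∈ W ∧ W ⊆ V ∧
      ∃ H : Subgroup (K ≃ₐ[k] K), IsOpen (H : Set (K ≃ₐ[k] K)) ∧
        ∀ σ ∈ H, ∀ w ∈ W, Points.map (prod.map (𝟙 X) ((yon _).map (gσ σ))) w ∈ W := by
  obtain ⟨A, _, _, a, u, hae, hu⟩ := exists_affine_alg_chart X hX (Points.map prod.fst z)
  obtain ⟨t, rfl⟩ := exists_point_ψ (K := K) A a z u hu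
  have hpre : IsOpen (Points.ofPt (ψ (K := K) A a) ⁻¹' V) :=
    hV.preimage (Points.continuous_ofPt _)
  obtain ⟨_, ⟨f, rfl⟩, htf, hfV⟩ :=
    (PrimeSpectrum.isTopologicalBasis_basic_opens (R := A ⊗[k] K)).exists_subset_of_mem_open
      (show t ∈ Points.ofPt (ψ (K := K) A a) ⁻¹' V from hz) hpre
  obtain ⟨H, hHo, hH⟩ := exists_open_subgroup_fixing (K := K) A f
  refine ⟨Points.ofPt (ψ (K := K) A a) '' ((PrimeSpectrum.basicOpen f :
      TopologicalSpace.Opens (PrimeSpectrum (A ⊗[k] K))) : Set (PrimeSpectrum (A ⊗[k] K))),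
    isOpenMap_ofPt_of_etale _ (repWith_etale_ψ A a hae) _ (PrimeSpectrum.basicOpen f).isOpen,
    ⟨t, htf, rfl⟩, ?_, H, hHo, ?_⟩
  · rintro _ ⟨s, hs, rfl⟩; exact hfV hs
  · rintro σ hσ _ ⟨s, hs, rfl⟩
    refine ⟨(τ A σ).left s, τ_mem_basicOpen A σ f (hH σ hσ) s hs, ?_⟩
    rw [Points.map_ofPt, ← ψ_equivariant, ofPt_comp_yon_map]

theorem gσ_inv_comp (σ : K ≃ₐ[k] K) : gσ σ⁻¹ ≫ gσ σ = 𝟙 (oK k K) := by
  apply Over.OverMorphism.ext
  rw [Over.comp_left]
  unfold gσ
  simp only [Over.homMk_left]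
  rw [← Spec.map_comp, ← CommRingCat.ofHom_comp]
  have : (σ⁻¹ : K ≃ₐ[k] K).toRingEquiv.toRingHom.comp σ.toRingEquiv.toRingHom = RingHom.id K := by
    refine RingHom.ext (fun x => ?_)
    change σ⁻¹ (σ x) = x
    rw [AlgEquiv.aut_inv, AlgEquiv.symm_apply_apply]
  rw [this]
  exact Spec.map_id _

theorem T_inv (X : Sp (Spec (CommRingCat.of k))) (σ : K ≃ₐ[k] K)
    (v : Points (X ⨯ (yon (Spec (CommRingCat.of k))).obj (oK k K))) :
    Points.map (prod.map (𝟙 X) ((yon _).map (gσ σ)))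
      (Points.map (prod.map (𝟙 X) ((yon _).map (gσ σ⁻¹))) v) = v := by
  rw [← Points.map_comp, prod.map_map, Category.comp_id, ← Functor.map_comp, gσ_inv_comp,
    CategoryTheory.Functor.map_id, prod.map_id_id, Points.map_id]

theorem main10471 (k : Type u) [Field k] (X : AlgSp.Space (Spec (CommRingCat.of k))) (K : Type u) [Field K] [Algebra k K]
    [IsGalois k K] (V : Set (AlgSp.Points (X.obj ⨯ (AlgSp.yon (Spec (CommRingCat.of k))).obj (Over.mk (Spec.map (CommRingCat.ofHom (algebraMap k K))))))) (hV : IsOpen V) (hVc : IsCompact V) :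
    ∃ H : Subgroup (K ≃ₐ[k] K), IsOpen (H : Set (K ≃ₐ[k] K)) ∧
      ∀ σ ∈ H, ∀ (g : (Over.mk (Spec.map (CommRingCat.ofHom (algebraMap k K))) : Over (Spec (CommRingCat.of k))) ⟶ Over.mk (Spec.map (CommRingCat.ofHom (algebraMap k K)))),
        g.left = Spec.map (CommRingCat.ofHom (σ : K ≃ₐ[k] K).toRingHom) →
          AlgSp.Points.map (Limits.prod.map (𝟙 X.obj) ((AlgSp.yon (Spec (CommRingCat.of k))).map g)) '' V = V := by
  have hloc := fun z hz => exists_nbhd_stable (K := K) X.obj X.property V hV z hz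
  choose W hWo hzW hWV H hHo hHW using hloc
  obtain ⟨t, ht⟩ := hVc.elim_finite_subcover (fun z : V => W z.1 z.2) (fun z => hWo z.1 z.2)
    (fun z hz => Set.mem_iUnion.2 ⟨⟨z, hz⟩, hzW z hz⟩)
  refine ⟨⨅ z ∈ t, H z.1 z.2, ?_, ?_⟩
  · have : ((⨅ z ∈ t, H z.1 z.2 : Subgroup (K ≃ₐ[k] K)) : Set (K ≃ₐ[k] K)) =
        ⋂ z ∈ t, (H z.1 z.2 : Set (K ≃ₐ[k] K)) := by
      simp only [Subgroup.coe_iInf]
    rw [this]
    exact isOpen_biInter_finset (fun z _ => hHo z.1 z.2)
  · intro σ hσ g hg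
    have hgσ : g = gσ σ := Over.OverMorphism.ext hg
    subst hgσ
    have hsub : ∀ τ' ∈ (⨅ z ∈ t, H z.1 z.2 : Subgroup (K ≃ₐ[k] K)), ∀ v ∈ V,
        Points.map (prod.map (𝟙 X.obj) ((yon _).map (gσ τ'))) v ∈ V := by
      intro τ' hτ' v hv
      have hv' := ht hv
      simp only [Set.mem_iUnion] at hv'
      obtain ⟨z, hzt, hvz⟩ := hv'
      have hτz : τ' ∈ H z.1 z.2 := by
        have := (Subgroup.mem_iInf.1 hτ') z
        exact (Subgroup.mem_iInf.1 this) hzt
      exact hWV z.1 z.2 (hHW z.1 z.2 τ' hτz v hvz)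
    apply Set.Subset.antisymm
    · rintro _ ⟨v, hv, rfl⟩
      exact hsub σ hσ v hv
    · intro v hv
      exact ⟨_, hsub σ⁻¹ (Subgroup.inv_mem _ hσ) v hv, T_inv X.obj σ v⟩

end Groth.Agent.Helper15.GalPts
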