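import Mathlib
import Groth.Agent.Lib.Helper15.GalPts2d

set_option autoImplicit false
set_option linter.unusedSectionVars false
set_option linter.unusedVariables false
set_option linter.style.haveILetI false
universe u

open CategoryTheory CategoryTheory.Limits AlgebraicGeometry MorphismProperty Opposite
open AlgSp
open scoped TensorProduct

namespace Groth.Agent.Helper15.GalPts

section
variable (k k' K : Type u) [Field k] [Field k'] [Field K] [Algebra k k'] [Algebra k' K]
  [Algebra k K] [IsScalarTower k k' K]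

/-- `Spec K ⟶ Spec k'` over `Spec k`. -/
noncomputable def gT : oK k K ⟶ oK k k' :=
  Over.homMk (Spec.map (CommRingCat.ofHom (algebraMap k' K))) (by
    change Spec.map _ ≫ Spec.map _ = Spec.map _
    rw [← Spec.map_comp, ← CommRingCat.ofHom_comp, ← IsScalarTower.algebraMap_eq])

theorem gT_left : (gT k k' K).left = Spec.map (CommRingCat.ofHom (algebraMap k' K)) := rfl

variable {k k' K}

/-- Points of `X_K` with the same image in `X_{k'}` are conjugate under `Gal(K/k')`. -/
theorem orbit_of_map_eq [Normal k' K] (X : Sp (Spec (CommRingCat.of k)))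
    (z z' : Points (X ⨯ (yon (Spec (CommRingCat.of k))).obj (oK k K)))
    (h : Points.map (prod.map (𝟙 X) ((yon _).map (gT k k' K))) z =
      Points.map (prod.map (𝟙 X) ((yon _).map (gT k k' K))) z') :
    ∃ σ : K ≃ₐ[k'] K, Points.map (Limits.prod.map (𝟙 X)
      ((yon (Spec (CommRingCat.of k))).map (gσ (σ.restrictScalars k)))) z = z' := by
  obtain ⟨L, _, strL, ζ, rfl⟩ := exists_ofField z
  obtain ⟨L', _, strL', ζ', rfl⟩ := exists_ofField z'
  rw [map_ofField, map_ofField, ofField_eq_iff] at h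
  obtain ⟨Ω, _, w, a, b, hab⟩ := h
  let c₁ : Over.mk w ⟶ oK k K :=
    (yon (Spec (CommRingCat.of k))).preimage (((yon _).map a ≫ ζ) ≫ Limits.prod.snd)
  let c₂ : Over.mk w ⟶ oK k K :=
    (yon (Spec (CommRingCat.of k))).preimage (((yon _).map b ≫ ζ') ≫ Limits.prod.snd)
  have hc₁ : (yon _).map c₁ = ((yon _).map a ≫ ζ) ≫ Limits.prod.snd := (yon _).map_preimage _
  have hc₂ : (yon _).map c₂ = ((yon _).map b ≫ ζ') ≫ Limits.prod.snd := (yon _).map_preimage _
  let ι₁ : K →+* Ω := (Spec.preimage c₁.left).hom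
  let ι₂ : K →+* Ω := (Spec.preimage c₂.left).hom
  have hι₁ : Spec.map (CommRingCat.ofHom ι₁) = c₁.left := Spec.map_preimage _
  have hι₂ : Spec.map (CommRingCat.ofHom ι₂) = c₂.left := Spec.map_preimage _
  have hcg : c₁ ≫ gT k k' K = c₂ ≫ gT k k' K := by
    apply (yon (Spec (CommRingCat.of k))).map_injective
    rw [Functor.map_comp, Functor.map_comp, hc₁, hc₂]
    have := congrArg (fun m => m ≫ Limits.prod.snd) hab
    simpa only [Category.assoc, prod.map_snd] using this
  have hιk : ι₁.comp (algebraMap k' K) = ι₂.comp (algebraMap k' K) := by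
    have h1 : c₁.left ≫ Spec.map (CommRingCat.ofHom (algebraMap k' K)) =
        c₂.left ≫ Spec.map (CommRingCat.ofHom (algebraMap k' K)) :=
      congrArg (fun m => m.left) hcg
    rw [← hι₁, ← hι₂, ← Spec.map_comp, ← Spec.map_comp] at h1
    have h3 := Spec.map_injective h1
    exact congrArg (fun m => m.hom) h3
  obtain ⟨σ, hσ⟩ := exists_algEquiv_comp_eq ι₁ ι₂ hιk
  refine ⟨σ, ?_⟩
  rw [map_ofField, ofField_eq_iff]
  refine ⟨Ω, inferInstance, w, a, b, ?_⟩
  have hcc : c₁ ≫ gσ (σ.restrictScalars k) = c₂ := by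
    apply Over.OverMorphism.ext
    change c₁.left ≫ Spec.map (CommRingCat.ofHom σ.toRingEquiv.toRingHom) = c₂.left
    rw [← hι₁, ← hι₂, ← Spec.map_comp, ← CommRingCat.ofHom_comp, hσ]
  rw [← Category.assoc]
  apply Limits.prod.hom_ext
  · rw [Category.assoc, Limits.prod.map_fst, Category.comp_id]
    have := congrArg (fun m => m ≫ Limits.prod.fst) hab
    simpa only [Category.assoc, prod.map_fst, Category.comp_id] using this
  · rw [Category.assoc, Limits.prod.map_snd, ← Category.assoc, ← hc₁, ← Functor.map_comp, hcc, hc₂]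

/-- The projection `X_K ⟶ X_{k'}` is open and surjective on points. -/
theorem isOpenMap_surjective_map (X : Sp (Spec (CommRingCat.of k))) (hX : IsAlgSpace X) :
    IsOpenMap (Points.map (prod.map (𝟙 X) ((yon (Spec (CommRingCat.of k))).map (gT k k' K)))) ∧
    Function.Surjective
      (Points.map (prod.map (𝟙 X) ((yon (Spec (CommRingCat.of k))).map (gT k k' K)))) := by
  have hZ : IsAlgSpace (X ⨯ (yon (Spec (CommRingCat.of k))).obj (oK k k')) :=
    isAlgSpace_of_isPullback (IsAlgSpace.yon_obj (Over.mk (𝟙 (Spec (CommRingCat.of k))))).diag hX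
      (IsAlgSpace.yon_obj _)
      (IsPullback.of_is_product' (prodIsProd _ _) AlgSpLim.isTerminalYonBase)
  have sq := isPullback_prod_id_map ((yon (Spec (CommRingCat.of k))).map (gT k k' K)) X
  have huo : IsUnivOpenMor ((yon (Spec (CommRingCat.of k))).map (gT k k' K)) :=
    isUnivOpenMor_to_field (Spec.map (CommRingCat.ofHom (algebraMap k k')))
      (IsAlgSpace.yon_obj _) _
  constructor
  · exact huo hZ _ _ _ sq.flip
  · have hs : IsSurjectiveMor ((yon (Spec (CommRingCat.of k))).map (gT k k' K)) := by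
      intro y
      haveI := subsingleton_points_of_iso_field (Spec.map (CommRingCat.ofHom (algebraMap k k')))
        (Iso.refl ((yon (Spec (CommRingCat.of k))).obj (oK k k')))
      obtain ⟨x⟩ := nonempty_points_of_iso_field (Spec.map (CommRingCat.ofHom (algebraMap k K)))
        (Iso.refl ((yon (Spec (CommRingCat.of k))).obj (oK k K)))
      exact ⟨x, Subsingleton.elim _ _⟩
    exact isSurjectiveMor_of_isPullback sq.flip hs

/-- A `Gal(K/k')`-invariant set of points of `X_K` is the preimage of its image in `X_{k'}`. -/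
theorem preimage_image_of_invariant [Normal k' K] (X : Sp (Spec (CommRingCat.of k)))
    (T : Set (Points (X ⨯ (yon (Spec (CommRingCat.of k))).obj (oK k K))))
    (hT : ∀ σ : K ≃ₐ[k'] K, ∀ v ∈ T, Points.map (Limits.prod.map (𝟙 X)
      ((yon (Spec (CommRingCat.of k))).map (gσ (σ.restrictScalars k)))) v ∈ T) :
    Points.map (prod.map (𝟙 X) ((yon (Spec (CommRingCat.of k))).map (gT k k' K))) ⁻¹'
      (Points.map (prod.map (𝟙 X) ((yon (Spec (CommRingCat.of k))).map (gT k k' K))) '' T) = T := by
  ext z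
  constructor
  · rintro ⟨v, hv, hvz⟩
    obtain ⟨σ, rfl⟩ := orbit_of_map_eq X v z hvz
    exact hT σ v hv
  · intro hz
    exact ⟨z, hz, rfl⟩

end

theorem main10472 (k : Type u) [Field k] (X : AlgSp.Space (Spec (CommRingCat.of k))) (K : Type u) [Field K] [Algebra k K]
    [IsGalois k K] (V : Set (AlgSp.Points (X.obj ⨯ (AlgSp.yon (Spec (CommRingCat.of k))).obj (Over.mk (Spec.map (CommRingCat.ofHom (algebraMap k K))))))) (hV : IsOpen V) (hVc : IsCompact V) :
    ∃ (k' : IntermediateField k K) (_ : FiniteDimensional k k')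
      (g : (Over.mk (Spec.map (CommRingCat.ofHom (algebraMap k K))) : Over (Spec (CommRingCat.of k))) ⟶ Over.mk (Spec.map (CommRingCat.ofHom (algebraMap k k')))),
      g.left = Spec.map (CommRingCat.ofHom (algebraMap k' K)) ∧
      ∃ V' : Set (AlgSp.Points (X.obj ⨯ (AlgSp.yon (Spec (CommRingCat.of k))).obj (Over.mk (Spec.map (CommRingCat.ofHom (algebraMap k k')))))), IsOpen V' ∧ IsCompact V' ∧
        AlgSp.Points.map (Limits.prod.map (𝟙 X.obj) ((AlgSp.yon (Spec (CommRingCat.of k))).map g)) ⁻¹' V' = V := by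
  obtain ⟨H, hHo, hH⟩ := main10471 k X K V hV hVc
  have h1 : (H : Set (K ≃ₐ[k] K)) ∈ nhds (1 : K ≃ₐ[k] K) := hHo.mem_nhds H.one_mem
  obtain ⟨E, hfin, hE⟩ := (krullTopology_mem_nhds_one_iff k K _).1 h1
  obtain ⟨hopen, -⟩ := isOpenMap_surjective_map (k := k) (k' := E) (K := K) X.obj X.property
  refine ⟨E, hfin, gT k E K, rfl, _, hopen _ hV, hVc.image (Points.continuous_map _), ?_⟩
  apply preimage_image_of_invariant
  intro σ v hv
  have hσ : σ.restrictScalars k ∈ H := hE (by
    rw [SetLike.mem_coe, IntermediateField.mem_fixingSubgroup_iff]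
    intro x hx
    exact σ.commutes ⟨x, hx⟩)
  rw [← hH _ hσ (gσ _) rfl]
  exact ⟨v, hv, rfl⟩

end Groth.Agent.Helper15.GalPts
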