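import Mathlib
import Groth.Agent.Lib.Helper15.GalPts3a

set_option autoImplicit false
set_option linter.unusedSectionVars false
set_option linter.unusedVariables false
set_option linter.style.haveILetI false
universe u

open CategoryTheory CategoryTheory.Limits AlgebraicGeometry MorphismProperty Opposite
open AlgSp
open scoped TensorProduct Pointwise

namespace Groth.Agent.Helper15.GalPts

variable {k K : Type u} [Field k] [Field K] [Algebra k K]

/-- The action of the Galois group on the points of `X_K`. -/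
noncomputable abbrev T (X : Sp (Spec (CommRingCat.of k))) (σ : K ≃ₐ[k] K) :
    Points (X ⨯ (yon (Spec (CommRingCat.of k))).obj (oK k K)) →
      Points (X ⨯ (yon (Spec (CommRingCat.of k))).obj (oK k K)) :=
  Points.map (prod.map (𝟙 X) ((yon _).map (gσ σ)))

theorem gσ_comp (σ τ : K ≃ₐ[k] K) : gσ τ ≫ gσ σ = gσ (τ * σ) := by
  apply Over.OverMorphism.ext
  rw [Over.comp_left]
  unfold gσ
  simp only [Over.homMk_left]
  rw [← Spec.map_comp, ← CommRingCat.ofHom_comp]
  rfl

theorem gσ_one : gσ (1 : K ≃ₐ[k] K) = 𝟙 (oK k K) := by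
  apply Over.OverMorphism.ext
  unfold gσ
  simp only [Over.homMk_left]
  exact Spec.map_id _

theorem T_comp (X : Sp (Spec (CommRingCat.of k))) (σ τ : K ≃ₐ[k] K)
    (z : Points (X ⨯ (yon (Spec (CommRingCat.of k))).obj (oK k K))) :
    T X σ (T X τ z) = T X (τ * σ) z := by
  change Points.map _ (Points.map _ z) = Points.map _ z
  rw [← Points.map_comp, prod.map_map, Category.comp_id, ← Functor.map_comp, gσ_comp]

theorem T_one (X : Sp (Spec (CommRingCat.of k)))
    (z : Points (X ⨯ (yon (Spec (CommRingCat.of k))).obj (oK k K))) :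
    T X (1 : K ≃ₐ[k] K) z = z := by
  change Points.map _ z = z
  rw [gσ_one, CategoryTheory.Functor.map_id, prod.map_id_id, Points.map_id]

/-- If all finite levels `X_E` are connected, so is `X_K` (`K/k` Galois). -/
theorem connectedSpace_of_finite_levels [IsGalois k K] (X : Sp (Spec (CommRingCat.of k)))
    (hX : IsAlgSpace X)
    (h : ∀ E : IntermediateField k K, FiniteDimensional k E →
      ConnectedSpace (Points (X ⨯ (yon (Spec (CommRingCat.of k))).obj (oK k E)))) :
    ConnectedSpace (Points (X ⨯ (yon (Spec (CommRingCat.of k))).obj (oK k K))) := by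
  rw [connectedSpace_iff_clopen]
  constructor
  · haveI := h ⊥ inferInstance
    obtain ⟨y⟩ : Nonempty (Points (X ⨯ (yon (Spec (CommRingCat.of k))).obj
      (oK k (⊥ : IntermediateField k K)))) := inferInstance
    obtain ⟨-, hs⟩ := isOpenMap_surjective_map (k := k) (k' := (⊥ : IntermediateField k K))
      (K := K) X hX
    obtain ⟨z, -⟩ := hs y
    exact ⟨z⟩
  · intro U hU
    by_contra hne
    obtain ⟨hU0, hU1⟩ := not_or.1 hne
    obtain ⟨z₁, hz₁⟩ := Set.nonempty_iff_ne_empty.2 hU0
    obtain ⟨z₂, hz₂⟩ : ∃ z, z ∉ U := by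
      by_contra hh
      exact hU1 (Set.eq_univ_of_forall (fun z => by
        by_contra hz
        exact hh ⟨z, hz⟩))
    obtain ⟨W₁, hW₁o, hz₁W, hW₁U, H₁, hH₁o, hH₁⟩ :=
      exists_nbhd_stable (K := K) X hX U hU.isOpen z₁ hz₁
    obtain ⟨E, hfin, hE⟩ :=
      (krullTopology_mem_nhds_one_iff k K _).1 (hH₁o.mem_nhds H₁.one_mem)
    haveI := hfin
    set H : Subgroup (K ≃ₐ[k] K) := E.fixingSubgroup with hHdef
    let U' : Set (Points (X ⨯ (yon (Spec (CommRingCat.of k))).obj (oK k K))) :=
      {z | ∀ σ ∈ H, T X σ z ∈ U}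
    have hU'U : U' ⊆ U := fun z hz => by
      have := hz 1 H.one_mem
      rwa [T_one] at this
    have hz₁U' : z₁ ∈ U' := fun σ hσ => hW₁U (hH₁ σ (hE hσ) z₁ hz₁W)
    have hU'inv : ∀ τ ∈ H, ∀ z ∈ U', T X τ z ∈ U' := fun τ hτ z hz σ hσ => by
      rw [T_comp]; exact hz _ (H.mul_mem hτ hσ)
    have hU'closed : IsClosed U' := by
      have : U' = ⋂ σ ∈ H, T X σ ⁻¹' U := by
        ext z; simp only [U', Set.mem_ofPred_eq, Set.mem_iInter, Set.mem_preimage]
      rw [this]
      exact isClosed_biInter (fun σ _ => hU.isClosed.preimage (Points.continuous_map _))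
    have hU'open : IsOpen U' := by
      rw [isOpen_iff_forall_mem_open]
      intro z hz
      have hch : ∀ σ : H, ∃ W : Set (Points (X ⨯ (yon (Spec (CommRingCat.of k))).obj (oK k K))),
          IsOpen W ∧ T X σ.1 z ∈ W ∧ W ⊆ U ∧ ∃ Hσ : Subgroup (K ≃ₐ[k] K),
            IsOpen (Hσ : Set (K ≃ₐ[k] K)) ∧ ∀ η ∈ Hσ, ∀ w ∈ W, T X η w ∈ W :=
        fun σ => exists_nbhd_stable (K := K) X hX U hU.isOpen _ (hz σ.1 σ.2)
      choose W hWo hzW hWU Hs hHso hHs using hch
      have hHc : IsCompact (H : Set (K ≃ₐ[k] K)) :=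
        (IntermediateField.fixingSubgroup_isClosed E).isCompact
      obtain ⟨t, ht⟩ := hHc.elim_finite_subcover
        (fun σ : H => (σ.1 : K ≃ₐ[k] K) • (Hs σ : Set (K ≃ₐ[k] K)))
        (fun σ => (hHso σ).leftCoset _)
        (fun σ hσ => Set.mem_iUnion.2 ⟨⟨σ, hσ⟩, by
          rw [mem_leftCoset_iff]
          simp only [inv_mul_cancel]
          exact (Hs _).one_mem⟩)
      refine ⟨⋂ σ ∈ t, T X σ.1 ⁻¹' W σ, ?_, ?_, ?_⟩
      · intro y hy σ' hσ'
        have hc := ht hσ'
        simp only [Set.mem_iUnion] at hc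
        obtain ⟨σ, hσt, hmem⟩ := hc
        rw [mem_leftCoset_iff] at hmem
        have hy' : T X σ.1 y ∈ W σ := by
          simp only [Set.mem_iInter] at hy
          exact hy σ hσt
        have e : T X σ' y = T X (σ.1⁻¹ * σ') (T X σ.1 y) := by
          rw [T_comp, mul_inv_cancel_left]
        rw [e]
        exact hWU σ (hHs σ _ hmem _ hy')
      · exact isOpen_biInter_finset (fun σ _ => (hWo σ).preimage (Points.continuous_map _))
      · simp only [Set.mem_iInter]
        intro σ _
        exact hzW σ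
    obtain ⟨hopen, hsurj⟩ := isOpenMap_surjective_map (k := k) (k' := E) (K := K) X hX
    set π := Points.map (prod.map (𝟙 X) ((yon (Spec (CommRingCat.of k))).map (gT k E K))) with hπ
    have hsat : π ⁻¹' (π '' U') = U' := by
      apply preimage_image_of_invariant
      intro σ v hv
      refine hU'inv _ ?_ v hv
      rw [hHdef, IntermediateField.mem_fixingSubgroup_iff]
      intro x hx
      exact σ.commutes ⟨x, hx⟩
    haveI := h E hfin
    have hclosed : IsClosed (π '' U') := by
      rw [← isOpen_compl_iff]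
      have : (π '' U')ᶜ = π '' U'ᶜ := by
        ext y
        constructor
        · intro hy
          obtain ⟨z, rfl⟩ := hsurj y
          exact ⟨z, fun hz => hy ⟨z, hz, rfl⟩, rfl⟩
        · rintro ⟨z, hz, rfl⟩ hy
          have : z ∈ π ⁻¹' (π '' U') := hy
          rw [hsat] at this
          exact hz this
      rw [this]
      exact hopen _ hU'closed.isOpen_compl
    have hclopen : IsClopen (π '' U') := ⟨hclosed, hopen _ hU'open⟩
    rcases isClopen_iff.1 hclopen with h0 | h1
    · have : π z₁ ∈ π '' U' := ⟨z₁, hz₁U', rfl⟩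
      rw [h0] at this
      exact this
    · have : π z₂ ∈ π '' U' := by rw [h1]; exact Set.mem_univ _
      have : z₂ ∈ π ⁻¹' (π '' U') := this
      rw [hsat] at this
      exact hz₂ (hU'U this)

end Groth.Agent.Helper15.GalPts
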