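import Mathlib
import Groth.Agent.Lib.Helper15.GalPts4a
import Groth.Agent.Lib.Helper19.ConnBC.Apps

set_option autoImplicit false
set_option linter.unusedSectionVars false
set_option linter.unusedVariables false
set_option linter.style.haveILetI false
universe u

open CategoryTheory CategoryTheory.Limits AlgebraicGeometry MorphismProperty Opposite
open AlgSp
open scoped TensorProduct Pointwise

namespace Groth.Agent.Helper15.GalPts

/-- If `X_{ks}` is connected for a separably closed algebraic extension `ks/k`, then `X_K` is
connected for every field extension `K/k`. -/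
theorem connectedSpace_of_sepClosure (k : Type u) [Field k] (X : Sp (Spec (CommRingCat.of k)))
    (hX : IsAlgSpace X) (ks : Type u) [Field ks] [Algebra k ks] [IsSepClosed ks]
    [Algebra.IsAlgebraic k ks]
    (hks : ConnectedSpace (Points (X ⨯ (yon (Spec (CommRingCat.of k))).obj (oK k ks))))
    (K : Type u) [Field K] [Algebra k K] :
    ConnectedSpace (Points (X ⨯ (yon (Spec (CommRingCat.of k))).obj (oK k K))) := by
  let Ω := AlgebraicClosure K
  let φ : ks →ₐ[k] Ω := IsAlgClosed.lift
  letI : Algebra ks Ω := φ.toRingHom.toAlgebra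
  haveI : IsScalarTower k ks Ω := IsScalarTower.of_algebraMap_eq (fun x => (φ.commutes x).symm)
  have hZ : IsAlgSpace (X ⨯ (yon (Spec (CommRingCat.of k))).obj (oK k ks)) :=
    Groth.Agent.Helper19.ConnBC.isAlgSpace_prod hX (IsAlgSpace.yon_obj _)
  have sq := isPullback_prod_id_map ((yon (Spec (CommRingCat.of k))).map (gT k ks Ω)) X
  have hΩ : ConnectedSpace (Points (X ⨯ (yon (Spec (CommRingCat.of k))).obj (oK k Ω))) :=
    (Groth.Agent.Helper19.ConnBC.connectedSpace_iff_of_isSepClosed hZ sq).2 hks
  obtain ⟨-, hs⟩ := isOpenMap_surjective_map (k := k) (k' := K) (K := Ω) X hX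
  exact hs.connectedSpace (Points.continuous_map _)

theorem main10469 (k : Type u) [Field k] (X : AlgSp.Space (Spec (CommRingCat.of k))) :
    (∀ (K : Type u) [Field K] [Algebra k K], ConnectedSpace (AlgSp.Points (X.obj ⨯ (AlgSp.yon (Spec (CommRingCat.of k))).obj (Over.mk (Spec.map (CommRingCat.ofHom (algebraMap k K))))))) ↔
      ∀ (k' : Type u) [Field k'] [Algebra k k'], Module.Finite k k' → Algebra.IsSeparable k k' →
        ConnectedSpace (AlgSp.Points (X.obj ⨯ (AlgSp.yon (Spec (CommRingCat.of k))).obj (Over.mk (Spec.map (CommRingCat.ofHom (algebraMap k k')))))) := by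
  constructor
  · intro h k' _ _ _ _
    exact h k'
  · intro h K _ _
    have hks : ConnectedSpace (Points (X.obj ⨯ (yon (Spec (CommRingCat.of k))).obj
        (oK k (SeparableClosure k)))) :=
      connectedSpace_of_finite_levels X.obj X.property (fun E hfin =>
        h E hfin (Algebra.isSeparable_tower_bot_of_isSeparable k E (SeparableClosure k)))
    exact connectedSpace_of_sepClosure k X.obj X.property (SeparableClosure k) hks K

end Groth.Agent.Helper15.GalPts
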