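import Mathlib
import Groth.Agent.Lib.Helper15.EtNbhdResField

set_option autoImplicit false
set_option linter.unusedSectionVars false
set_option linter.unusedVariables false
set_option linter.style.haveILetI false
universe u

open AlgebraicGeometry CategoryTheory Limits

namespace Groth.Agent.Helper15.UnivInj

/-- fields: if `B ∘ A` is finite then `A` is finite. -/
theorem finite_of_comp_finite {k E L : Type u} [Field k] [Field E] [Field L] (A : k →+* E)
    (B : E →+* L) (h : (B.comp A).Finite) : A.Finite := by
  algebraize [A, B, B.comp A]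
  have h1 : Module.Finite k L := h
  have hinj : Function.Injective (IsScalarTower.toAlgHom k E L).toLinearMap := B.injective
  exact Module.Finite.of_injective (IsScalarTower.toAlgHom k E L).toLinearMap hinj

theorem finite_comp {k E L : Type u} [CommRing k] [CommRing E] [CommRing L] (A : k →+* E)
    (B : E →+* L) (hA : A.Finite) (hB : B.Finite) : (B.comp A).Finite :=
  RingHom.Finite.comp hB hA

/-- etale morphisms induce finite residue field extensions -/
theorem finite_residueFieldMap_of_etale {X Y : Scheme.{u}} (f : X ⟶ Y) [Etale f] (x : X) :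
    (f.residueFieldMap x).hom.Finite := by
  algebraize [(f.stalkMap x).hom]
  have : IsLocalHom (algebraMap (Y.presheaf.stalk (f x)) (X.presheaf.stalk x)) :=
    inferInstanceAs <| IsLocalHom (f.stalkMap x).hom
  have : Algebra.EssFiniteType (Y.presheaf.stalk (f x)) (X.presheaf.stalk x) := by
    rw [← RingHom.essFiniteType_algebraMap, RingHom.algebraMap_toAlgebra]
    exact LocallyOfFiniteType.stalkMap f x
  have : Algebra.FormallyUnramified (Y.presheaf.stalk (f x)) (X.presheaf.stalk x) := by
    rw [← RingHom.formallyUnramified_algebraMap, RingHom.algebraMap_toAlgebra]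
    exact FormallyUnramified.stalkMap f x
  have h : Module.Finite (IsLocalRing.ResidueField <| Y.presheaf.stalk (f x))
      (IsLocalRing.ResidueField <| X.presheaf.stalk x) := inferInstance
  have h2 : (algebraMap (IsLocalRing.ResidueField (Y.presheaf.stalk (f x)))
      (IsLocalRing.ResidueField (X.presheaf.stalk x))).Finite := RingHom.finite_algebraMap.2 h
  have h3 : (f.residueFieldMap x).hom = algebraMap (IsLocalRing.ResidueField (Y.presheaf.stalk (f x)))
      (IsLocalRing.ResidueField (X.presheaf.stalk x)) := by
    ext t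
    obtain ⟨t, rfl⟩ := IsLocalRing.residue_surjective t
    rfl
  rw [h3]; exact h2

/-- a lft morphism has, in every nonempty fibre, a point with finite residue field extension -/
theorem exists_finite_residueFieldMap {U V : Scheme.{u}} (h : U ⟶ V) [LocallyOfFiniteType h]
    (u₀ : U) : ∃ u₁ : U, h u₁ = h u₀ ∧ (h.residueFieldMap u₁).hom.Finite := by
  let v := h u₀
  let F := h.fiber v
  obtain ⟨x₁, -, hx₁⟩ := nonempty_inter_closedPoints (X := F) (Z := Set.univ)
    ⟨h.asFiber u₀, trivial⟩ isOpen_univ.isLocallyClosed
  have hx₁' : IsClosed ({x₁} : Set F) := hx₁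
  have hlft : LocallyOfFiniteType (F.fromSpecResidueField x₁) :=
    isClosed_singleton_iff_locallyOfFiniteType.mp hx₁'
  have hlft2 : LocallyOfFiniteType (h.fiberToSpecResidueField v) :=
    MorphismProperty.pullback_snd _ _ inferInstance
  let K : Type u := F.residueField x₁
  let c : Spec (.of K) ⟶ Spec (V.residueField v) :=
    F.fromSpecResidueField x₁ ≫ h.fiberToSpecResidueField v
  have hc : LocallyOfFiniteType c := inferInstanceAs (LocallyOfFiniteType
    (F.fromSpecResidueField x₁ ≫ h.fiberToSpecResidueField v))
  have hfin : IsFinite c := (isFinite_iff_locallyOfFiniteType_of_jacobsonSpace (f := c)).mpr hc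
  obtain ⟨ψ, hψ⟩ := Spec.map_surjective c
  rw [← hψ, IsFinite.SpecMap_iff] at hfin
  -- the K-point of U
  let y : Spec (.of K) ⟶ U := F.fromSpecResidueField x₁ ≫ h.fiberι v
  have hy : y ≫ h = Spec.map ψ ≫ V.fromSpecResidueField v := by
    rw [hψ]
    change (F.fromSpecResidueField x₁ ≫ h.fiberι v) ≫ h =
      (F.fromSpecResidueField x₁ ≫ h.fiberToSpecResidueField v) ≫ V.fromSpecResidueField v
    rw [Category.assoc, Scheme.Hom.fiber_fac, Category.assoc]
  obtain ⟨e, he⟩ := exists_residueField_compat K y h v ψ hy
  refine ⟨y (IsLocalRing.closedPoint K), e, ?_⟩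
  have h1 : (((V.residueFieldCongr e).inv ≫ h.residueFieldMap (y (IsLocalRing.closedPoint K))) ≫
      U.descResidueField (Scheme.stalkClosedPointTo y)).hom.Finite := by
    rw [Category.assoc, he]; exact hfin
  have h2 := finite_of_comp_finite _ _ h1
  have h3 : h.residueFieldMap (y (IsLocalRing.closedPoint K)) = (V.residueFieldCongr e).hom ≫
      ((V.residueFieldCongr e).inv ≫ h.residueFieldMap (y (IsLocalRing.closedPoint K))) := by
    rw [Iso.hom_inv_id_assoc]
  rw [h3, CommRingCat.hom_comp]
  refine RingHom.Finite.comp h2 ?_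
  exact RingHom.Finite.of_surjective _
    (ConcreteCategory.bijective_of_isIso (V.residueFieldCongr e).hom).2

theorem finite_of_iso_comp {A B C : CommRingCat.{u}} (e : A ≅ B) (g : B ⟶ C) (h : g.hom.Finite) :
    (e.hom ≫ g).hom.Finite := by
  rw [CommRingCat.hom_comp]
  exact RingHom.Finite.comp h (RingHom.Finite.of_surjective _
    (ConcreteCategory.bijective_of_isIso e.hom).2)

theorem finite_residueFieldMap_of_related {R U V : Scheme.{u}} (s t : R ⟶ U) (h : U ⟶ V)
    [Etale s] [Etale t] (w : s ≫ h = t ≫ h) (r : R)
    (ht : (h.residueFieldMap (t r)).hom.Finite) : (h.residueFieldMap (s r)).hom.Finite := by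
  have h1 : ((t ≫ h).residueFieldMap r).hom.Finite := by
    rw [Scheme.residueFieldMap_comp]
    exact RingHom.Finite.comp (finite_residueFieldMap_of_etale t r) ht
  have h2 : ((s ≫ h).residueFieldMap r).hom.Finite := by
    rw [Scheme.Hom.residueFieldMap_congr w r]
    exact finite_of_iso_comp _ _ h1
  rw [Scheme.residueFieldMap_comp] at h2
  exact finite_of_comp_finite (h.residueFieldMap (s r)).hom (s.residueFieldMap r).hom h2

end Groth.Agent.Helper15.UnivInj
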