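import Mathlib
import Groth.Agent.Lib.Helper15.EtNbhdResField
import Groth.Agent.Lib.Helper15.UnivInj1

set_option autoImplicit false
set_option linter.unusedSectionVars false
set_option linter.unusedVariables false
set_option linter.style.haveILetI false
universe u

open AlgebraicGeometry CategoryTheory Limits

namespace Groth.Agent.Helper15.UnivInj

theorem exists_desc_of_apply_eq {X : Scheme.{u}} {K : Type u} [Field K] (c : Spec (.of K) ⟶ X)
    (x : X) (hx : c (IsLocalRing.closedPoint K) = x) :
    ∃ φ : X.residueField x ⟶ .of K, c = Spec.map φ ≫ X.fromSpecResidueField x := by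
  subst hx
  exact ⟨_, (Scheme.descResidueField_stalkClosedPointTo_fromSpecResidueField K X c).symm⟩

theorem comp_eq_of_purelyInseparable {k'' E F K : Type u} [Field k''] [Field E] [Field F] [Field K]
    [Algebra k'' E] [IsPurelyInseparable k'' E]
    (P : E →+* F) (Q : k'' →+* F) (φ₁ φ₂ : F →+* K)
    (h1 : (φ₂.comp P).comp (algebraMap k'' E) = φ₂.comp Q) (h2 : φ₁.comp Q = φ₂.comp Q) :
    φ₁.comp P = φ₂.comp P := by
  have hPQ : P.comp (algebraMap k'' E) = Q := by
    ext x; apply φ₂.injective; exact RingHom.congr_fun h1 x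
  apply IsPurelyInseparable.injective_comp_algebraMap k'' E K
  change (φ₁.comp P).comp (algebraMap k'' E) = (φ₂.comp P).comp (algebraMap k'' E)
  rw [RingHom.comp_assoc, RingHom.comp_assoc, hPQ, h2]

/-- residue-field form of composing a `K`-point at `x` with a morphism -/
theorem specMap_fromSpec_comp {X Y : Scheme.{u}} (f : X ⟶ Y) {K : Type u} [Field K] (x : X)
    (φ : X.residueField x ⟶ .of K) :
    (Spec.map φ ≫ X.fromSpecResidueField x) ≫ f =
      Spec.map (f.residueFieldMap x ≫ φ) ≫ Y.fromSpecResidueField (f x) := by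
  rw [Category.assoc, ← Scheme.Hom.SpecMap_residueFieldMap_fromSpecResidueField, Spec.map_comp,
    Category.assoc]

theorem residueFieldMap_comp_eq_of_comp_eq {X Y : Scheme.{u}} (f : X ⟶ Y) {K : Type u} [Field K]
    (x : X) (φ₁ φ₂ : X.residueField x ⟶ .of K)
    (h : (Spec.map φ₁ ≫ X.fromSpecResidueField x) ≫ f =
      (Spec.map φ₂ ≫ X.fromSpecResidueField x) ≫ f) :
    f.residueFieldMap x ≫ φ₁ = f.residueFieldMap x ≫ φ₂ := by
  rw [specMap_fromSpec_comp, specMap_fromSpec_comp, cancel_mono] at h
  exact Spec.map_injective h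

theorem rel_of_connected {U V : Scheme.{u}} (h : U ⟶ V) [LocallyOfFiniteType h]
    (Rel : ∀ (T : Scheme.{u}), (T ⟶ U) → (T ⟶ U) → Prop)
    (hRel : ∀ (T T' : Scheme.{u}) (e : T' ⟶ T) (c₁ c₂ : T ⟶ U), Rel T c₁ c₂ →
      Rel T' (e ≫ c₁) (e ≫ c₂))
    (hC : ∀ (V' : Scheme.{u}) (g : V' ⟶ V) [Etale g] (U' : Scheme.{u}) (p : U' ⟶ U)
      (q : U' ⟶ V'), IsPullback p q h g → ∀ (u₁ u₂ : U'), q u₁ = q u₂ →
      ∃ (R' : Scheme.{u}) (s' t' : R' ⟶ U') (r' : R'), Etale s' ∧ Etale t' ∧ s' ≫ q = t' ≫ q ∧
        Rel R' (s' ≫ p) (t' ≫ p) ∧ s' r' = u₁ ∧ t' r' = u₂)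
    (K : Type u) [Field K] [IsAlgClosed K] (a b : Spec (.of K) ⟶ U) (hab : a ≫ h = b ≫ h) :
    Rel (Spec (.of K)) a b := by
  classical
  let pt : Spec (.of K) := IsLocalRing.closedPoint K
  let ub : U := b pt
  let v : V := h ub
  -- Step A: finiteness of the residue field extension at `ub`
  have hfin : (h.residueFieldMap ub).hom.Finite := by
    obtain ⟨u₁, hu₁, hu₁fin⟩ := exists_finite_residueFieldMap h ub
    obtain ⟨R, s, t, r, hs, ht, hst, -, hsr, htr⟩ := hC V (𝟙 V) U (𝟙 U) h
      (IsPullback.of_horiz_isIso ⟨by simp⟩) ub u₁ hu₁.symm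
    subst htr
    have := finite_residueFieldMap_of_related s t h hst r hu₁fin
    rw [hsr] at this
    exact this
  -- Step B: fields
  let k : Type u := V.residueField v
  let E : Type u := U.residueField ub
  letI algkE : Algebra k E := (h.residueFieldMap ub).hom.toAlgebra
  haveI : Module.Finite k E := hfin
  haveI : Algebra.IsAlgebraic k E := Algebra.IsAlgebraic.of_finite k E
  let k'' := separableClosure k E
  obtain ⟨V', g, v', hv', hg, ⟨e⟩⟩ := Groth.Agent.Helper15.exists_etale_nbhd_residueField V v k''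
  -- Step C
  let ψb : U.residueField ub ⟶ .of K := U.descResidueField (Scheme.stalkClosedPointTo b)
  have hb : b = Spec.map ψb ≫ U.fromSpecResidueField ub :=
    (Scheme.descResidueField_stalkClosedPointTo_fromSpecResidueField K U b).symm
  letI algkv' : Algebra k (V'.residueField v') :=
    ((V.residueFieldCongr hv').inv ≫ g.residueFieldMap v').hom.toAlgebra
  let θr : (V'.residueField v') →+* K :=
    (ψb.hom.comp (algebraMap k'' E)).comp (e.symm : (V'.residueField v') →+* k'')
  let θ : V'.residueField v' ⟶ .of K := CommRingCat.ofHom θr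
  let y' : Spec (.of K) ⟶ V' := Spec.map θ ≫ V'.fromSpecResidueField v'
  have hθ : ((V.residueFieldCongr hv').inv ≫ g.residueFieldMap v') ≫ θ =
      h.residueFieldMap ub ≫ ψb := by
    ext x
    change θr (algebraMap k (V'.residueField v') x) = ψb.hom (algebraMap k E x)
    change ψb.hom (algebraMap k'' E (e.symm (algebraMap k (V'.residueField v') x))) = _
    rw [e.symm.commutes]
    rfl
  have hy' : y' ≫ g = b ≫ h := by
    have h1 : V'.fromSpecResidueField v' ≫ g =
        Spec.map ((V.residueFieldCongr hv').inv ≫ g.residueFieldMap v') ≫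
          V.fromSpecResidueField v := by
      rw [Spec.map_comp, Category.assoc, ← Scheme.Hom.SpecMap_residueFieldMap_fromSpecResidueField]
      congr 1
      rw [← Scheme.residueFieldCongr_fromSpecResidueField hv', ← Category.assoc, ← Spec.map_comp,
        Iso.hom_inv_id, Spec.map_id, Category.id_comp]
    change (Spec.map θ ≫ V'.fromSpecResidueField v') ≫ g = _
    rw [Category.assoc, h1, ← Category.assoc, ← Spec.map_comp, hθ]
    conv_rhs => rw [hb]
    rw [specMap_fromSpec_comp]
  -- Step D
  let U' := pullback h g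
  let p : U' ⟶ U := pullback.fst h g
  let q : U' ⟶ V' := pullback.snd h g
  have sq : IsPullback p q h g := IsPullback.of_hasPullback h g
  let a' : Spec (.of K) ⟶ U' := pullback.lift a y' (hab.trans hy'.symm)
  let b' : Spec (.of K) ⟶ U' := pullback.lift b y' hy'.symm
  have ha'p : a' ≫ p = a := pullback.lift_fst _ _ _
  have ha'q : a' ≫ q = y' := pullback.lift_snd _ _ _
  have hb'p : b' ≫ p = b := pullback.lift_fst _ _ _
  have hb'q : b' ≫ q = y' := pullback.lift_snd _ _ _
  have hqab : q (a' pt) = q (b' pt) := by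
    rw [← Scheme.Hom.comp_apply, ← Scheme.Hom.comp_apply, ha'q, hb'q]
  -- Step E
  obtain ⟨R', s', t', r', hs', ht', hst', hrel, hs'r, ht'r⟩ := hC V' g U' p q sq (a' pt) (b' pt) hqab
  -- Step F
  have hdef : (default : Spec (.of K)) = pt := Subsingleton.elim _ _
  obtain ⟨ρ, hρ1, hρ2⟩ := Scheme.exists_fac_of_etale_of_isSepClosed s' a' r' (by rw [hs'r]; exact congrArg a' hdef.symm)
  -- Step G
  let c₁ : Spec (.of K) ⟶ U' := ρ ≫ t'
  have hq : c₁ ≫ q = b' ≫ q := by
    change (ρ ≫ t') ≫ q = _
    rw [Category.assoc, ← hst', ← Category.assoc, hρ1, ha'q, hb'q]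
  have hc₁pt : c₁ pt = b' pt := by
    change (ρ ≫ t') pt = _
    rw [Scheme.Hom.comp_apply, ← hdef, hρ2, ht'r, hdef]
  let u' : U' := b' pt
  let φ₂ : U'.residueField u' ⟶ .of K := U'.descResidueField (Scheme.stalkClosedPointTo b')
  have hb' : b' = Spec.map φ₂ ≫ U'.fromSpecResidueField u' :=
    (Scheme.descResidueField_stalkClosedPointTo_fromSpecResidueField K U' b').symm
  obtain ⟨φ₁, hφ₁⟩ := exists_desc_of_apply_eq c₁ u' hc₁pt
  obtain ⟨e₁, he₁⟩ := Groth.Agent.Helper15.exists_residueField_compat K b' p ub ψb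
    (hb'p.trans hb)
  obtain ⟨e₂, he₂⟩ := Groth.Agent.Helper15.exists_residueField_compat K b' q v' θ hb'q
  have hii : q.residueFieldMap u' ≫ φ₁ = q.residueFieldMap u' ≫ φ₂ := by
    apply residueFieldMap_comp_eq_of_comp_eq
    rw [← hφ₁, ← hb']; exact hq
  have hp : c₁ ≫ p = b' ≫ p := by
    have key : p.residueFieldMap u' ≫ φ₁ = p.residueFieldMap u' ≫ φ₂ := by
      have := comp_eq_of_purelyInseparable (k'' := k'') (E := E) (F := U'.residueField u') (K := K)
        ((U.residueFieldCongr e₁).inv ≫ p.residueFieldMap u').hom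
        ((((V'.residueFieldCongr e₂).inv ≫ q.residueFieldMap u').hom).comp
          (e : k'' →+* V'.residueField v')) φ₁.hom φ₂.hom ?_ ?_
      · rw [← cancel_epi (U.residueFieldCongr e₁).inv]
        ext x
        exact RingHom.congr_fun this x
      · ext x
        have h1 : φ₂.hom (p.residueFieldMap u' ((U.residueFieldCongr e₁).inv.hom
            (algebraMap k'' E x))) = ψb.hom (algebraMap k'' E x) :=
          congrArg (fun m => m.hom (algebraMap k'' E x)) he₁
        have h2 : φ₂.hom (q.residueFieldMap u' ((V'.residueFieldCongr e₂).inv.hom (e x))) =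
            θ.hom (e x) := congrArg (fun m => m.hom (e x)) he₂
        have h3 : θ.hom (e x) = ψb.hom (algebraMap k'' E x) := by
          change ψb.hom (algebraMap k'' E (e.symm (e x))) = _
          rw [e.symm_apply_apply]
        exact h1.trans (h3.symm.trans h2.symm)
      · ext x
        exact congrArg (fun m => m.hom ((V'.residueFieldCongr e₂).inv.hom (e x))) hii
    rw [hφ₁, hb', specMap_fromSpec_comp, specMap_fromSpec_comp, key]
  have hc₁ : c₁ = b' := pullback.hom_ext hp hq
  -- Step H
  have := hRel R' (Spec (.of K)) ρ (s' ≫ p) (t' ≫ p) hrel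
  rw [← Category.assoc, ← Category.assoc, hρ1, ha'p] at this
  have h4 : (ρ ≫ t') ≫ p = b := by
    change c₁ ≫ p = b
    rw [hc₁, hb'p]
  rw [h4] at this
  exact this

end Groth.Agent.Helper15.UnivInj
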