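import Mathlib
import Groth.Agent.Lib.Helper15.UnivInj2

set_option autoImplicit false
set_option linter.unusedSectionVars false
set_option linter.unusedVariables false
set_option linter.style.haveILetI false
universe u

open AlgebraicGeometry CategoryTheory Limits

namespace Groth.Agent.Helper15.GalQ

/-- The "field of definition" of a field-valued point: the image of the residue field. -/
noncomputable def fod {X : Scheme.{u}} {K : Type u} [Field K] (c : Spec (.of K) ⟶ X) : Set K :=
  Set.range (X.descResidueField (Scheme.stalkClosedPointTo c)).hom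

theorem fod_eq {X : Scheme.{u}} {K : Type u} [Field K] (x : X) (ψ : X.residueField x ⟶ .of K) :
    fod (Spec.map ψ ≫ X.fromSpecResidueField x) = Set.range ψ.hom := by
  obtain ⟨ψ', hψ'⟩ : ∃ ψ' : X.residueField ((Spec.map ψ ≫ X.fromSpecResidueField x)
      (IsLocalRing.closedPoint K)) ⟶ .of K,
      Spec.map ψ ≫ X.fromSpecResidueField x = Spec.map ψ' ≫ X.fromSpecResidueField _ ∧
      fod (Spec.map ψ ≫ X.fromSpecResidueField x) = Set.range ψ'.hom :=
    ⟨_, (Scheme.descResidueField_stalkClosedPointTo_fromSpecResidueField K X _).symm, rfl⟩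
  obtain ⟨h1, h2⟩ := hψ'
  rw [h2]
  have hx : (Spec.map ψ ≫ X.fromSpecResidueField x) (IsLocalRing.closedPoint K) = x := by
    rw [Scheme.Hom.comp_apply, Scheme.fromSpecResidueField_apply]
  generalize (Spec.map ψ ≫ X.fromSpecResidueField x) (IsLocalRing.closedPoint K) = y at ψ' h1 hx
  subst hx
  rw [cancel_mono] at h1
  rw [Spec.map_injective h1]

theorem fod_precomp {X : Scheme.{u}} {K K' : Type u} [Field K] [Field K'] (ι : K →+* K')
    (c : Spec (.of K) ⟶ X) :
    fod (Spec.map (CommRingCat.ofHom ι) ≫ c) = ι '' fod c := by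
  obtain ⟨ψ, hψ⟩ := UnivInj.exists_desc_of_apply_eq c _ rfl
  rw [hψ, ← Category.assoc, ← Spec.map_comp, fod_eq, fod_eq]
  ext z
  constructor
  · rintro ⟨y, rfl⟩
    exact ⟨ψ.hom y, ⟨y, rfl⟩, rfl⟩
  · rintro ⟨_, ⟨y, rfl⟩, rfl⟩
    exact ⟨y, rfl⟩

theorem fod_postcomp_le {X Y : Scheme.{u}} {K : Type u} [Field K] (c : Spec (.of K) ⟶ X)
    (α : X ⟶ Y) : fod (c ≫ α) ⊆ fod c := by
  obtain ⟨ψ, hψ⟩ := UnivInj.exists_desc_of_apply_eq c _ rfl
  rw [hψ, UnivInj.specMap_fromSpec_comp, fod_eq, fod_eq]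
  rintro _ ⟨y, rfl⟩
  exact ⟨_, rfl⟩

theorem fod_postcomp_iso {X : Scheme.{u}} {K : Type u} [Field K] (c : Spec (.of K) ⟶ X)
    (α : X ⟶ X) [IsIso α] : fod (c ≫ α) = fod c := by
  apply Set.Subset.antisymm (fod_postcomp_le c α)
  have := fod_postcomp_le (c ≫ α) (inv α)
  rwa [Category.assoc, IsIso.hom_inv_id, Category.comp_id] at this

/-- Normality from invariance of the image of a generating set. -/
theorem normal_of_image_invariant {k k' : Type u} [Field k] [Field k'] [Algebra k k']
    [Algebra.IsAlgebraic k k'] (A : Set k') (hA : IntermediateField.adjoin k A = ⊤)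
    (h : ∀ ι : k' →ₐ[k] AlgebraicClosure k',
      ι '' A = (algebraMap k' (AlgebraicClosure k')) '' A) : Normal k k' := by
  let L := AlgebraicClosure k'
  let ι₀ : k' →ₐ[k] L := IsScalarTower.toAlgHom k k' L
  haveI : Algebra.IsAlgebraic k L := Algebra.IsAlgebraic.trans k k' L
  haveI : Normal k L := inferInstance
  let K : IntermediateField k L := ι₀.fieldRange
  have hK : Normal k K := by
    rw [IntermediateField.normal_iff_forall_fieldRange_le]
    intro σ
    let e : k' ≃ₐ[k] K := AlgEquiv.ofInjectiveField ι₀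
    let ι : k' →ₐ[k] L := σ.comp e.toAlgHom
    have h1 : σ.fieldRange = ι.fieldRange := by
      apply le_antisymm
      · rintro _ ⟨y, rfl⟩
        exact ⟨e.symm y, by simp [ι]⟩
      · rintro _ ⟨y, rfl⟩
        exact ⟨e y, rfl⟩
    have h2 : ∀ τ : k' →ₐ[k] L, τ.fieldRange = IntermediateField.adjoin k (τ '' A) := by
      intro τ
      rw [← IntermediateField.adjoin_map, hA, AlgHom.fieldRange_eq_map]
    rw [h1, h2 ι, h ι]
    have := h2 ι₀
    rw [show (ι₀ : k' → L) = algebraMap k' L from rfl] at this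
    rw [← this]
  let e' : k' ≃ₐ[k] K := AlgEquiv.ofInjectiveField ι₀
  exact Normal.of_algEquiv e'.symm

end Groth.Agent.Helper15.GalQ
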