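import Mathlib
import Groth.Agent.Lib.Helper15.AlgSpField
import Groth.Agent.Lib.Helper15.AlgSpTop
import Groth.Agent.Lib.Helper15.UnivInj1

set_option autoImplicit false
set_option linter.unusedSectionVars false
set_option linter.unusedVariables false
set_option linter.style.haveILetI false
universe u

open CategoryTheory CategoryTheory.Limits AlgebraicGeometry MorphismProperty Opposite
open AlgSp

namespace Groth.Agent.Helper15.GalQ

variable {S : Scheme.{u}}

/-- The residue field of the point of `Spec k` is `k`. -/
theorem bijective_preimage_fromSpecResidueField (k : Type u) [Field k]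
    (y : Spec (CommRingCat.of k)) :
    Function.Bijective (Spec.preimage ((Spec (CommRingCat.of k)).fromSpecResidueField y)).hom := by
  set ε := Spec.preimage ((Spec (CommRingCat.of k)).fromSpecResidueField y) with hε
  have h1 : Spec.map ε = (Spec (CommRingCat.of k)).fromSpecResidueField y := Spec.map_preimage _
  haveI : Mono (Spec.map ε) := by rw [h1]; infer_instance
  haveI : Nonempty ↥(Spec ((Spec (CommRingCat.of k)).residueField y)) := inferInstance
  haveI : IsIso (Spec.map ε) := isIso_of_mono_to_field (K := k) (Spec.map ε)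
  haveI : IsIso ε := by
    have : IsIso (Scheme.Spec.map ε.op) := ‹IsIso (Spec.map ε)›
    have := isIso_of_reflects_iso ε.op Scheme.Spec
    exact isIso_of_op ε
  exact ConcreteCategory.bijective_of_isIso ε

/-- A point of a scheme étale over a field has a finite separable residue field. -/
theorem finite_separable_of_etale {W : Scheme.{u}} {k : Type u} [Field k]
    (f : W ⟶ Spec (CommRingCat.of k)) [Etale f] (w : W) :
    letI : Algebra k (W.residueField w) :=
      (Spec.preimage (W.fromSpecResidueField w ≫ f)).hom.toAlgebra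
    Module.Finite k (W.residueField w) ∧ Algebra.IsSeparable k (W.residueField w) := by
  letI : Algebra k (W.residueField w) :=
    (Spec.preimage (W.fromSpecResidueField w ≫ f)).hom.toAlgebra
  set j := Spec.preimage (W.fromSpecResidueField w ≫ f) with hj
  have hj1 : Spec.map j = W.fromSpecResidueField w ≫ f := Spec.map_preimage _
  set ε := Spec.preimage ((Spec (CommRingCat.of k)).fromSpecResidueField (f w)) with hε
  have hε1 : Spec.map ε = (Spec (CommRingCat.of k)).fromSpecResidueField (f w) :=
    Spec.map_preimage _
  have hεbij := bijective_preimage_fromSpecResidueField k (f w)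
  have hcomp : j = ε ≫ f.residueFieldMap w := by
    apply Spec.map_injective
    rw [hj1, Spec.map_comp, hε1, Scheme.Hom.SpecMap_residueFieldMap_fromSpecResidueField]
  letI algκ : Algebra ((Spec (CommRingCat.of k)).residueField (f w)) (W.residueField w) :=
    (f.residueFieldMap w).hom.toAlgebra
  have hfin : (f.residueFieldMap w).hom.Finite := UnivInj.finite_residueFieldMap_of_etale f w
  haveI hsep : Algebra.IsSeparable ((Spec (CommRingCat.of k)).residueField (f w))
      (W.residueField w) := inferInstance
  let e₁ : ((Spec (CommRingCat.of k)).residueField (f w)) ≃+* k :=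
    (RingEquiv.ofBijective ε.hom hεbij).symm
  constructor
  · have : j.hom.Finite := by
      rw [hcomp]
      exact UnivInj.finite_comp _ _ (RingHom.Finite.of_surjective _ hεbij.2) hfin
    exact this
  · refine Algebra.IsSeparable.of_equiv_equiv e₁ (RingEquiv.refl (W.residueField w)) ?_
    ext x
    obtain ⟨y, rfl⟩ := hεbij.2 x
    change j.hom (e₁ (ε.hom y)) = (f.residueFieldMap w).hom (ε.hom y)
    have : e₁ (ε.hom y) = y := (RingEquiv.ofBijective ε.hom hεbij).symm_apply_apply y
    rw [this, hcomp]
    rfl

/-- A field point of the target of a representable étale surjective map lifts after a finite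
separable extension. -/
theorem exists_finite_separable_lift {Q : Sp S} {U : Over S} (π : (yon S).obj U ⟶ Q)
    (hπe : RepWith @Etale π) (hπs : RepWith @Surjective π) {k : Type u} [Field k]
    {σ : Spec (CommRingCat.of k) ⟶ S} (ξ : (yon S).obj (Over.mk σ) ⟶ Q) :
    ∃ (k₁ : Type u) (_ : Field k₁) (_ : Algebra k k₁) (_ : Module.Finite k k₁)
      (_ : Algebra.IsSeparable k k₁)
      (x₁ : Over.mk (Spec.map (CommRingCat.ofHom (algebraMap k k₁)) ≫ σ) ⟶ U),
      (yon S).map x₁ ≫ π = (yon S).map (Over.homMk (Spec.map (CommRingCat.ofHom (algebraMap k k₁)))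
        rfl : Over.mk (Spec.map (CommRingCat.ofHom (algebraMap k k₁)) ≫ σ) ⟶ Over.mk σ) ≫ ξ := by
  have sq := hπe.rep.isPullback' ξ
  set Wo := hπe.rep.pullback ξ with hWo
  set fst' : Wo ⟶ U := hπe.rep.fst' ξ with hfst
  set snd : Wo ⟶ Over.mk σ := hπe.rep.snd ξ with hsnd
  haveI het : Etale snd.left := hπe.property_snd ξ
  haveI hsurj : Surjective snd.left := hπs.property_snd ξ
  obtain ⟨w, -⟩ := hsurj.surj (IsLocalRing.closedPoint k)
  let f : Wo.left ⟶ Spec (CommRingCat.of k) := snd.left
  letI alg : Algebra k (Wo.left.residueField w) :=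
    (Spec.preimage (Wo.left.fromSpecResidueField w ≫ f)).hom.toAlgebra
  obtain ⟨hfin, hsep⟩ := finite_separable_of_etale f w
  have hj1 : Spec.map (CommRingCat.ofHom (algebraMap k (Wo.left.residueField w))) =
      Wo.left.fromSpecResidueField w ≫ f := Spec.map_preimage _
  have hw1 : (Wo.left.fromSpecResidueField w ≫ fst'.left) ≫ U.hom =
      Spec.map (CommRingCat.ofHom (algebraMap k (Wo.left.residueField w))) ≫ σ := by
    rw [hj1, Category.assoc, Category.assoc, Over.w fst', ← Over.w snd]
    rfl
  refine ⟨Wo.left.residueField w, inferInstance, alg, hfin, hsep,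
    Over.homMk (Wo.left.fromSpecResidueField w ≫ fst'.left) hw1, ?_⟩
  have hw2 : Wo.left.fromSpecResidueField w ≫ Wo.hom =
      Spec.map (CommRingCat.ofHom (algebraMap k (Wo.left.residueField w))) ≫ σ := by
    rw [hj1, Category.assoc, ← Over.w snd]; rfl
  let wo : Over.mk (Spec.map (CommRingCat.ofHom (algebraMap k (Wo.left.residueField w))) ≫ σ) ⟶ Wo :=
    Over.homMk (Wo.left.fromSpecResidueField w) hw2
  have e1 : (Over.homMk (Wo.left.fromSpecResidueField w ≫ fst'.left) hw1 :
      Over.mk (Spec.map (CommRingCat.ofHom (algebraMap k (Wo.left.residueField w))) ≫ σ) ⟶ U) =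
      wo ≫ fst' := by
    apply Over.OverMorphism.ext; rfl
  have e2 : (Over.homMk (Spec.map (CommRingCat.ofHom (algebraMap k (Wo.left.residueField w)))) rfl :
      Over.mk (Spec.map (CommRingCat.ofHom (algebraMap k (Wo.left.residueField w))) ≫ σ) ⟶
        Over.mk σ) = wo ≫ snd := by
    apply Over.OverMorphism.ext
    exact hj1
  rw [e1, e2, Functor.map_comp, Functor.map_comp, Category.assoc, Category.assoc, sq.w]

end Groth.Agent.Helper15.GalQ
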