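import Mathlib
import Groth.Agent.Lib.Helper15.GalQ1
import Groth.Agent.Lib.Helper15.GalQ2
import Groth.Agent.Lib.Helper15.QuotNC2

set_option autoImplicit false
set_option linter.unusedSectionVars false
set_option linter.unusedVariables false
set_option linter.style.haveILetI false
universe u

open CategoryTheory CategoryTheory.Limits AlgebraicGeometry MorphismProperty Opposite
open AlgSp

namespace Groth.Agent.Helper15.GalQ

variable {S : Scheme.{u}}

/-- `Spec` of a field homomorphism is an epimorphism of schemes. -/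
theorem epi_spec_map_field {K K' : Type u} [Field K] [Field K'] (ι : K →+* K') :
    Epi (Spec.map (CommRingCat.ofHom ι)) := by
  haveI : Flat (Spec.map (CommRingCat.ofHom ι)) := inferInstance
  haveI : Surjective (Spec.map (CommRingCat.ofHom ι)) := ⟨fun y => by
    exact ⟨IsLocalRing.closedPoint K', Subsingleton.elim _ _⟩⟩
  exact Flat.epi_of_flat_of_surjective _

section Action

variable {U : Over S} {G : Type u} [Group G] (ρ : G →* Aut U)
  (c : Cofan (fun _ : G => U)) (hc : IsColimit c) (s t : c.pt ⟶ U)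
  (hs : ∀ g, c.inj g ≫ s = 𝟙 U) (ht : ∀ g, c.inj g ≫ t = (ρ g).hom)

include hc hs ht in
/-- Two field points of `U` with the same image in the quotient differ by a group element. -/
theorem exists_translate_of_field
    (hpb : IsPullback ((yon S).map t) ((yon S).map s) (quotShπ s t) (quotShπ s t))
    {Ω : Type u} [Field Ω] {str : Spec (CommRingCat.of Ω) ⟶ S} (a b : Over.mk str ⟶ U)
    (hab : (yon S).map a ≫ quotShπ s t = (yon S).map b ≫ quotShπ s t) :
    ∃ g : G, b = a ≫ (ρ g).hom := by
  obtain ⟨r, hr1, hr2⟩ : ∃ r : Over.mk str ⟶ c.pt, r ≫ t = b ∧ r ≫ s = a := by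
    refine ⟨(yon S).preimage (hpb.lift ((yon S).map b) ((yon S).map a) hab.symm), ?_, ?_⟩
    · apply (yon S).map_injective
      rw [Functor.map_comp, Functor.map_preimage, IsPullback.lift_fst]
    · apply (yon S).map_injective
      rw [Functor.map_comp, Functor.map_preimage, IsPullback.lift_snd]
  obtain ⟨g, N, j, r', hj1, ⟨z, hz⟩, hj3⟩ :=
    QuotNC.exists_local_of_cofan c hc r (IsLocalRing.closedPoint Ω : ↥(Spec (CommRingCat.of Ω)))
  refine ⟨g, ?_⟩
  have h1 : j ≫ b = j ≫ a ≫ (ρ g).hom := by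
    rw [← hr1, ← hr2, ← Category.assoc, hj3, Category.assoc, ht, ← Category.assoc j,
      ← Category.assoc j, hj3, Category.assoc r', hs, Category.comp_id]
  haveI : IsOpenImmersion j.left := hj1
  haveI : Epi j.left.base := by
    rw [TopCat.epi_iff_surjective]
    intro y
    exact ⟨z, Subsingleton.elim (α := ↥(Spec (CommRingCat.of Ω))) _ _⟩
  haveI : IsIso j.left := IsOpenImmersion.isIso j.left
  haveI : IsIso ((Over.forget S).map j) := ‹IsIso j.left›
  haveI : IsIso j := isIso_of_reflects_iso j (Over.forget S)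
  exact (cancel_epi j).1 h1

/-- Freeness: a field point is fixed by the identity only. -/
theorem eq_one_of_fixes_field
    (hfree : ∀ (g : G) (x : U.left), g ≠ 1 →
      U.left.fromSpecResidueField x ≫ (ρ g).hom.left ≠ U.left.fromSpecResidueField x)
    {Ω : Type u} [Field Ω] (a : Spec (CommRingCat.of Ω) ⟶ U.left) (g : G)
    (h : a ≫ (ρ g).hom.left = a) : g = 1 := by
  by_contra hg
  obtain ⟨ψ, hψ⟩ := UnivInj.exists_desc_of_apply_eq a _ rfl
  rw [hψ, Category.assoc] at h
  haveI : Epi (Spec.map ψ) := epi_spec_map_field ψ.hom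
  exact hfree g _ hg ((cancel_epi (Spec.map ψ)).1 h)

end Action


set_option maxHeartbeats 1600000 in
theorem main9895 (S : Scheme.{u}) (U : Over S) (G : Type u) [Group G]
    (ρ : G →* Aut U)
    (hfree : ∀ (g : G) (x : U.left), g ≠ 1 →
      U.left.fromSpecResidueField x ≫ (ρ g).hom.left ≠ U.left.fromSpecResidueField x)
    (c : Cofan (fun _ : G => U)) (hc : IsColimit c) (s t : c.pt ⟶ U)
    (hs : ∀ g, c.inj g ≫ s = 𝟙 U) (ht : ∀ g, c.inj g ≫ t = (ρ g).hom)
    (k : Type u) [Field k] (σ : Spec (CommRingCat.of k) ⟶ S)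
    (ξ : (AlgSp.yon S).obj (Over.mk σ) ⟶ QuotSh.quot Scheme.fppfPrecoverage s t) :
    ∃ (k' : Type u) (_ : Field k') (_ : Algebra k k') (_ : FiniteDimensional k k') (_ : IsGalois k k')
      (H : Subgroup G) (_ : Finite H) (e : H ≃* (k' ≃ₐ[k] k'))
      (x' : Over.mk (Spec.map (CommRingCat.ofHom (algebraMap k k')) ≫ σ) ⟶ U),
      (∀ h : H, Spec.map (CommRingCat.ofHom (e h).symm.toRingEquiv.toRingHom) ≫ x'.left =
        x'.left ≫ (ρ (h : G)).hom.left) ∧
      (AlgSp.yon S).map x' ≫ (QuotSh.repIsoUliftYoneda Scheme.fppfPrecoverage U).inv ≫ QuotSh.quotπ Scheme.fppfPrecoverage s t =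
        (AlgSp.yon S).map (Over.homMk (Spec.map (CommRingCat.ofHom (algebraMap k k'))) :
          Over.mk (Spec.map (CommRingCat.ofHom (algebraMap k k')) ≫ σ) ⟶ Over.mk σ) ≫ ξ := by
  classical
  have hE : IsEtaleEqvRel s t := isEtaleEqvRel_of_free_action c hc ρ s t hs ht hfree
  have hF := Groth.Agent.S9868.result S s t hE
  have hq := isPresentation_quotShπ s t hE hF
  have hpb := hq.isPullback
  -- Step 1: a finite separable lift
  obtain ⟨k₁, instF₁, instA₁, hfin₁, hsep₁, x₁, hx₁⟩ :=
    exists_finite_separable_lift (quotShπ s t) hq.etale hq.surjective ξ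
  -- Step 2: residue field presentation
  let u : U.left := x₁.left (IsLocalRing.closedPoint k₁)
  obtain ⟨φ₁, hφ₁⟩ := UnivInj.exists_desc_of_apply_eq x₁.left u rfl
  -- Step 3: the subfield generated by the residue field
  let k' : IntermediateField k k₁ := IntermediateField.adjoin k (Set.range φ₁.hom)
  have hmem : ∀ y, φ₁.hom y ∈ k' := fun y => IntermediateField.subset_adjoin k _ ⟨y, rfl⟩
  let φ' : U.left.residueField u →+* k' := φ₁.hom.codRestrict k' hmem
  let inc : k' →+* k₁ := algebraMap k' k₁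
  have hincφ : inc.comp φ' = φ₁.hom := rfl
  let x'l : Spec (CommRingCat.of k') ⟶ U.left :=
    Spec.map (CommRingCat.ofHom φ') ≫ U.left.fromSpecResidueField u
  have hx'l : Spec.map (CommRingCat.ofHom inc) ≫ x'l = x₁.left := by
    rw [hφ₁]
    change Spec.map (CommRingCat.ofHom inc) ≫ Spec.map (CommRingCat.ofHom φ') ≫ _ = _
    rw [← Category.assoc, ← Spec.map_comp]
    have : CommRingCat.ofHom φ' ≫ CommRingCat.ofHom inc = φ₁ := by ext y; rfl
    rw [this]
  have hinck : Spec.map (CommRingCat.ofHom (algebraMap k k₁)) =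
      Spec.map (CommRingCat.ofHom inc) ≫ Spec.map (CommRingCat.ofHom (algebraMap k k')) := by
    rw [← Spec.map_comp]; rfl
  haveI hepi : Epi (Spec.map (CommRingCat.ofHom inc)) := epi_spec_map_field inc
  have hw' : x'l ≫ U.hom = Spec.map (CommRingCat.ofHom (algebraMap k k')) ≫ σ := by
    rw [← cancel_epi (Spec.map (CommRingCat.ofHom inc)), ← Category.assoc, hx'l, ← Category.assoc,
      ← hinck]
    exact Over.w x₁
  let U'o : Over S := Over.mk (Spec.map (CommRingCat.ofHom (algebraMap k k')) ≫ σ)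
  let x' : U'o ⟶ U := Over.homMk x'l hw'
  let πk : U'o ⟶ Over.mk σ := Over.homMk (Spec.map (CommRingCat.ofHom (algebraMap k k'))) rfl
  let inco : Over.mk (Spec.map (CommRingCat.ofHom (algebraMap k k₁)) ≫ σ) ⟶ U'o :=
    Over.homMk (Spec.map (CommRingCat.ofHom inc)) (by
      change Spec.map (CommRingCat.ofHom inc) ≫ (Spec.map (CommRingCat.ofHom (algebraMap k k')) ≫ σ) =
        Spec.map (CommRingCat.ofHom (algebraMap k k₁)) ≫ σ
      rw [hinck, Category.assoc])
  have hinco1 : inco ≫ x' = x₁ := by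
    apply Over.OverMorphism.ext; exact hx'l
  have hinco2 : inco ≫ πk = (Over.homMk (Spec.map (CommRingCat.ofHom (algebraMap k k₁))) rfl :
      Over.mk (Spec.map (CommRingCat.ofHom (algebraMap k k₁)) ≫ σ) ⟶ Over.mk σ) := by
    apply Over.OverMorphism.ext; exact hinck.symm
  have hlift : (yon S).map x' ≫ quotShπ s t = (yon S).map πk ≫ ξ := by
    apply eq_of_yon_map_comp_eq hF.diag inco
    rw [← Category.assoc, ← Functor.map_comp, hinco1, hx₁, ← Category.assoc, ← Functor.map_comp,
      hinco2]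
  -- Step 4: `k'` is finite separable and generated by the image of `φ'`
  haveI hfin' : FiniteDimensional k k' := inferInstance
  haveI hsep' : Algebra.IsSeparable k k' := inferInstance
  haveI halg' : Algebra.IsAlgebraic k k' := Algebra.IsAlgebraic.of_finite k k'
  let A : Set k' := Set.range φ'
  have hA : IntermediateField.adjoin k A = ⊤ := by
    apply IntermediateField.map_injective k'.val
    rw [IntermediateField.adjoin_map]
    have h1 : (k'.val : k' → k₁) '' A = Set.range φ₁.hom := by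
      ext z
      constructor
      · rintro ⟨_, ⟨y, rfl⟩, rfl⟩
        exact ⟨y, rfl⟩
      · rintro ⟨y, rfl⟩
        exact ⟨φ' y, ⟨y, rfl⟩, rfl⟩
    rw [h1]
    change k' = _
    rw [← AlgHom.fieldRange_eq_map, IntermediateField.fieldRange_val]
  -- translation lemma specialised
  have htrans : ∀ {Ω : Type u} [Field Ω] {str : Spec (CommRingCat.of Ω) ⟶ S}
      (a b : Over.mk str ⟶ U), (yon S).map a ≫ quotShπ s t = (yon S).map b ≫ quotShπ s t →
      ∃ g : G, b = a ≫ (ρ g).hom := fun a b hab =>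
    exists_translate_of_field ρ c hc s t hs ht hpb a b hab
  -- normality
  have hnormal : Normal k k' := by
    apply normal_of_image_invariant A hA
    intro ι
    let L := AlgebraicClosure k'
    let ι₀ : k' →+* L := algebraMap k' L
    have hιk : (ι : k' →+* L).comp (algebraMap k k') = ι₀.comp (algebraMap k k') := by
      ext z
      change ι (algebraMap k k' z) = algebraMap k' L (algebraMap k k' z)
      rw [ι.commutes, ← IsScalarTower.algebraMap_apply]
    let strL : Spec (CommRingCat.of L) ⟶ S := Spec.map (CommRingCat.ofHom ι₀) ≫ U'o.hom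
    let o₁ : Over.mk strL ⟶ U'o := Over.homMk (Spec.map (CommRingCat.ofHom ι₀)) rfl
    have hw₂ : Spec.map (CommRingCat.ofHom (ι : k' →+* L)) ≫ U'o.hom = strL := by
      change Spec.map (CommRingCat.ofHom (ι : k' →+* L)) ≫
        (Spec.map (CommRingCat.ofHom (algebraMap k k')) ≫ σ) =
        Spec.map (CommRingCat.ofHom ι₀) ≫ (Spec.map (CommRingCat.ofHom (algebraMap k k')) ≫ σ)
      rw [← Category.assoc, ← Category.assoc, ← Spec.map_comp, ← Spec.map_comp,
        ← CommRingCat.ofHom_comp, ← CommRingCat.ofHom_comp, hιk]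
    let o₂ : Over.mk strL ⟶ U'o := Over.homMk (Spec.map (CommRingCat.ofHom (ι : k' →+* L))) hw₂
    have ho : o₁ ≫ πk = o₂ ≫ πk := by
      apply Over.OverMorphism.ext
      change Spec.map (CommRingCat.ofHom ι₀) ≫ Spec.map (CommRingCat.ofHom (algebraMap k k')) =
        Spec.map (CommRingCat.ofHom (ι : k' →+* L)) ≫ Spec.map (CommRingCat.ofHom (algebraMap k k'))
      rw [← Spec.map_comp, ← Spec.map_comp, ← CommRingCat.ofHom_comp, ← CommRingCat.ofHom_comp, hιk]
    obtain ⟨g, hg⟩ := htrans (o₁ ≫ x') (o₂ ≫ x') (by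
      rw [Functor.map_comp, Functor.map_comp, Category.assoc, Category.assoc, hlift,
        ← Category.assoc, ← Category.assoc, ← Functor.map_comp, ← Functor.map_comp, ho])
    have hg' : Spec.map (CommRingCat.ofHom (ι : k' →+* L)) ≫ x'l =
        (Spec.map (CommRingCat.ofHom ι₀) ≫ x'l) ≫ (ρ g).hom.left :=
      congrArg (fun m => m.left) hg
    haveI : IsIso (ρ g).hom.left := inferInstance
    have hfx : fod x'l = A := fod_eq u (CommRingCat.ofHom φ')
    have e1 : fod (Spec.map (CommRingCat.ofHom (ι : k' →+* L)) ≫ x'l) = (ι : k' →+* L) '' A :=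
      (fod_precomp (ι : k' →+* L) x'l).trans (congrArg _ hfx)
    have e2 : fod ((Spec.map (CommRingCat.ofHom ι₀) ≫ x'l) ≫ (ρ g).hom.left) = ι₀ '' A :=
      (fod_postcomp_iso _ _).trans ((fod_precomp ι₀ x'l).trans (congrArg _ hfx))
    have h1 := congrArg fod hg'
    rw [e1, e2] at h1
    exact h1
  haveI hgal : IsGalois k k' := ⟨⟩
  -- Step 5: the homomorphism Θ : Gal → G
  have hτw : ∀ τ : k' ≃ₐ[k] k',
      Spec.map (CommRingCat.ofHom τ.toRingEquiv.toRingHom) ≫ U'o.hom = U'o.hom := by
    intro τ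
    change Spec.map (CommRingCat.ofHom τ.toRingEquiv.toRingHom) ≫
      (Spec.map (CommRingCat.ofHom (algebraMap k k')) ≫ σ) =
      Spec.map (CommRingCat.ofHom (algebraMap k k')) ≫ σ
    rw [← Category.assoc, ← Spec.map_comp, ← CommRingCat.ofHom_comp]
    congr 3
    exact RingHom.ext (fun z => τ.commutes z)
  let τo : (k' ≃ₐ[k] k') → (U'o ⟶ U'o) := fun τ =>
    Over.homMk (Spec.map (CommRingCat.ofHom τ.toRingEquiv.toRingHom)) (hτw τ)
  have hτπ : ∀ τ, τo τ ≫ πk = πk := by
    intro τ
    apply Over.OverMorphism.ext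
    change Spec.map (CommRingCat.ofHom τ.toRingEquiv.toRingHom) ≫
      Spec.map (CommRingCat.ofHom (algebraMap k k')) = Spec.map (CommRingCat.ofHom (algebraMap k k'))
    rw [← Spec.map_comp, ← CommRingCat.ofHom_comp]
    congr 2
    exact RingHom.ext (fun z => τ.commutes z)
  have hΘex : ∀ τ : k' ≃ₐ[k] k', ∃ g : G, τo τ.symm ≫ x' = x' ≫ (ρ g).hom := by
    intro τ
    apply htrans x' (τo τ.symm ≫ x')
    rw [Functor.map_comp, Category.assoc, hlift, ← Category.assoc, ← Functor.map_comp, hτπ]
  have hone : (ρ 1).hom = 𝟙 U := by rw [map_one]; rfl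
  have hmul : ∀ g g' : G, (ρ (g * g')).hom = (ρ g').hom ≫ (ρ g).hom := by
    intro g g'; rw [map_mul]; rfl
  have huniq : ∀ g g' : G, x' ≫ (ρ g).hom = x' ≫ (ρ g').hom → g = g' := by
    intro g g' h
    have h3 : x' ≫ (ρ (g'⁻¹ * g)).hom = x' := by
      rw [hmul, ← Category.assoc, h, Category.assoc, ← hmul, inv_mul_cancel, hone,
        Category.comp_id]
    have h2 : x'l ≫ (ρ (g'⁻¹ * g)).hom.left = x'l := congrArg (fun m => m.left) h3
    have := eq_one_of_fixes_field ρ hfree x'l (g'⁻¹ * g) h2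
    exact (inv_mul_eq_one.1 this).symm
  choose Θf hΘf using hΘex
  have hΘmul : ∀ τ₁ τ₂, Θf (τ₁ * τ₂) = Θf τ₁ * Θf τ₂ := by
    intro τ₁ τ₂
    apply huniq
    rw [← hΘf (τ₁ * τ₂)]
    have hcomp : τo (τ₁ * τ₂).symm = τo τ₂.symm ≫ τo τ₁.symm := by
      apply Over.OverMorphism.ext
      change Spec.map (CommRingCat.ofHom (τ₁ * τ₂).symm.toRingEquiv.toRingHom) =
        Spec.map (CommRingCat.ofHom τ₂.symm.toRingEquiv.toRingHom) ≫
          Spec.map (CommRingCat.ofHom τ₁.symm.toRingEquiv.toRingHom)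
      rw [← Spec.map_comp, ← CommRingCat.ofHom_comp]
      rfl
    rw [hcomp, Category.assoc, hΘf τ₁, ← Category.assoc, hΘf τ₂, Category.assoc, hmul]
  let Θ : (k' ≃ₐ[k] k') →* G := MonoidHom.mk' Θf hΘmul
  have hΘinj : Function.Injective Θ := by
    rw [injective_iff_map_eq_one]
    intro τ hτ
    have h1 : τo τ.symm ≫ x' = x' := by
      rw [hΘf τ]
      change x' ≫ (ρ (Θ τ)).hom = x'
      rw [hτ, hone, Category.comp_id]
    have h2 : Spec.map (CommRingCat.ofHom τ.symm.toRingEquiv.toRingHom) ≫ x'l = x'l :=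
      congrArg (fun m => m.left) h1
    have h3 : Spec.map (CommRingCat.ofHom τ.symm.toRingEquiv.toRingHom) ≫
        Spec.map (CommRingCat.ofHom φ') = Spec.map (CommRingCat.ofHom φ') := by
      rw [← cancel_mono (U.left.fromSpecResidueField u), Category.assoc]
      exact h2
    rw [← Spec.map_comp] at h3
    have h4 := Spec.map_injective h3
    have h5 : ∀ y, τ.symm (φ' y) = φ' y := fun y => congrArg (fun m => m.hom y) h4
    have h6 : (τ.symm : k' →ₐ[k] k') = AlgHom.id k k' := by
      apply AlgHom.ext_of_adjoin_eq_top (s := A)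
      · rw [← IntermediateField.adjoin_toSubalgebra_of_isAlgebraic
          (fun x _ => Algebra.IsAlgebraic.isAlgebraic x), hA]
        rfl
      · rintro _ ⟨y, rfl⟩
        exact h5 y
    ext z
    have := congrArg (fun f => f (τ z)) h6
    simpa using this.symm
  -- Step 6
  let H : Subgroup G := Θ.range
  let e : H ≃* (k' ≃ₐ[k] k') := (MonoidHom.ofInjective hΘinj).symm
  haveI : Finite H := Finite.of_equiv _ e.symm.toEquiv
  refine ⟨k', inferInstance, inferInstance, hfin', hgal, H, inferInstance, e, x', ?_, ?_⟩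
  · intro h
    have h1 : ((h : G)) = Θ (e h) := by
      have := (MonoidHom.ofInjective hΘinj).apply_symm_apply h
      exact (congrArg Subtype.val this).symm
    have h2 : Spec.map (CommRingCat.ofHom (e h).symm.toRingEquiv.toRingHom) ≫ x'l =
        x'l ≫ (ρ (Θf (e h))).hom.left := congrArg (fun m => m.left) (hΘf (e h))
    rw [h1]
    exact h2
  · exact hlift

end Groth.Agent.Helper15.GalQ
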