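import Groth.Prelude.Def_CAlg2
import Mathlib

set_option autoImplicit false
universe u
open CAlg2

namespace Groth.Agent.Helper15

theorem isGeomUnibranch_of_isIntegrallyClosed (A : Type u) [CommRing A] [IsLocalRing A]
    [IsDomain A] [IsIntegrallyClosed A] : CAlg2.IsGeomUnibranch A := by
  have hnil : nilradical A = ⊥ := nilradical_eq_zero A
  -- the equivalence A ≃ red A
  let e : A ≃+* red A := (RingEquiv.quotientBot A).symm.trans (Ideal.quotEquivOfEq hnil.symm)
  have he : ∀ a, e a = Ideal.Quotient.mk (nilradical A) a := fun a => rfl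
  haveI hdom : IsDomain (red A) := MulEquiv.isDomain A e.symm.toMulEquiv
  haveI hic : IsIntegrallyClosed (red A) := IsIntegrallyClosed.of_equiv e
  have hbot : integralClosure (red A) (FractionRing (red A)) = ⊥ :=
    IsIntegrallyClosed.integralClosure_eq_bot (red A) (FractionRing (red A))
  have hsurj : Function.Surjective (algebraMap (red A) (normRed A)) := by
    rintro ⟨y, hy⟩
    have hy' : y ∈ (⊥ : Subalgebra (red A) (FractionRing (red A))) := hbot ▸ hy
    obtain ⟨r, rfl⟩ := Algebra.mem_bot.1 hy'
    exact ⟨r, Subtype.ext rfl⟩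
  have hinj : Function.Injective (algebraMap (red A) (normRed A)) := by
    intro a b hab
    have := congrArg (fun z : normRed A => (z : FractionRing (red A))) hab
    exact IsFractionRing.injective (red A) (FractionRing (red A)) this
  let e' : red A ≃+* normRed A := RingEquiv.ofBijective (algebraMap (red A) (normRed A)) ⟨hinj, hsurj⟩
  haveI : IsLocalRing (red A) := e.isLocalRing
  haveI : IsLocalRing (normRed A) := e'.isLocalRing
  refine ⟨⟨hdom, inferInstance⟩, ?_⟩
  intro m' _ x
  obtain ⟨y, rfl⟩ := Ideal.Quotient.mk_surjective x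
  obtain ⟨r, rfl⟩ := hsurj y
  obtain ⟨a, rfl⟩ := e.surjective r
  refine ⟨0, ?_⟩
  rw [pow_zero, pow_one]
  exact ⟨a, rfl⟩

end Groth.Agent.Helper15
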