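import Mathlib
import Groth.Prelude
import Groth.Agent.S2005

set_option autoImplicit false
set_option linter.unusedSectionVars false
set_option linter.unusedVariables false
set_option linter.style.haveILetI false

universe u

open TensorProduct

namespace Groth.Agent.Helper15.GlueEt

variable (R R' : Type u) [CommRing R] [CommRing R'] [Algebra R R'] (f : R)

/-- For a glueing pair, glueability is injectivity on `f`-power torsion. -/
theorem isGlueable_iff (hRR' : EtGlue.IsGlueingPair R R' f) (M : Type u) [AddCommGroup M]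
    [Module R M] :
    EtGlue.IsGlueable R R' f M ↔
      ∀ m : M, (∃ n : ℕ, f ^ n • m = 0) → (1 : R') ⊗ₜ[R] m = 0 → m = 0 :=
  (Groth.Agent.S2005.result R R' f hRR'.1 M).2 hRR'

/-- `1 ⊗ a = 0` iff `a ⊗ 1 = 0`. -/
theorem one_tmul_eq_zero_iff (M : Type u) [AddCommGroup M] [Module R M] (m : M) :
    (1 : R') ⊗ₜ[R] m = 0 ↔ m ⊗ₜ[R] (1 : R') = 0 := by
  constructor
  · intro h
    have := congrArg (TensorProduct.comm R R' M) h
    simpa using this
  · intro h
    have := congrArg (TensorProduct.comm R M R') h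
    simpa using this

/-- Glueability ascends along flat ring maps. -/
theorem isGlueable_of_flat (hRR' : EtGlue.IsGlueingPair R R' f) (A B : Type u) [CommRing A]
    [CommRing B] [Algebra R A] [Algebra R B] [Algebra A B] [IsScalarTower R A B]
    [Module.Flat A B] (hA : EtGlue.IsGlueable R R' f A) : EtGlue.IsGlueable R R' f B := by
  rw [isGlueable_iff R R' f hRR'] at hA ⊢
  rintro b ⟨n, hn⟩ hb
  rw [one_tmul_eq_zero_iff] at hb
  -- the A-linear map a ↦ (f^n a, a ⊗ 1)
  let φ₂ : A →ₗ[A] A ⊗[R] R' :=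
    { toFun := fun a => a ⊗ₜ[R] (1 : R')
      map_add' := fun a a' => TensorProduct.add_tmul a a' 1
      map_smul' := fun c a => by simp [TensorProduct.smul_tmul'] }
  let φ₁ : A →ₗ[A] A := (algebraMap R A (f ^ n)) • LinearMap.id
  let φ : A →ₗ[A] A × (A ⊗[R] R') := φ₁.prod φ₂
  have hφ : Function.Injective φ := by
    rw [← LinearMap.ker_eq_bot, LinearMap.ker_eq_bot']
    intro a ha
    have h1 : φ₁ a = 0 := congrArg Prod.fst ha
    have h2 : φ₂ a = 0 := congrArg Prod.snd ha
    apply hA a ⟨n, ?_⟩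
    · rw [one_tmul_eq_zero_iff]
      exact h2
    · simpa [φ₁] using h1
  have hinj := Module.Flat.lTensor_preserves_injective_linearMap (M := B) φ hφ
  have hzero : (φ.lTensor B) (b ⊗ₜ[A] (1 : A)) = 0 := by
    rw [LinearMap.lTensor_tmul]
    have e : φ 1 = LinearMap.inl A A (A ⊗[R] R') (φ₁ 1) + LinearMap.inr A A (A ⊗[R] R') (φ₂ 1) := by
      simp [φ]
    rw [e, TensorProduct.tmul_add]
    have z1 : b ⊗ₜ[A] (LinearMap.inl A A (A ⊗[R] R') (φ₁ 1)) = 0 := by
      have : φ₁ 1 = algebraMap R A (f ^ n) • (1 : A) := rfl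
      rw [this, map_smul, TensorProduct.tmul_smul, TensorProduct.smul_tmul',
        algebraMap_smul, hn, TensorProduct.zero_tmul]
    have z2 : b ⊗ₜ[A] (LinearMap.inr A A (A ⊗[R] R') (φ₂ 1)) = 0 := by
      have h3 : b ⊗ₜ[A] (φ₂ 1) = 0 := by
        apply (TensorProduct.AlgebraTensorModule.cancelBaseChange R A B B R').injective
        rw [map_zero]
        change (TensorProduct.AlgebraTensorModule.cancelBaseChange R A B B R')
          (b ⊗ₜ[A] ((1 : A) ⊗ₜ[R] (1 : R'))) = 0
        rw [TensorProduct.AlgebraTensorModule.cancelBaseChange_tmul, one_smul]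
        exact hb
      have := congrArg ((LinearMap.inr A A (A ⊗[R] R')).lTensor B) h3
      rw [LinearMap.lTensor_tmul, map_zero] at this
      exact this
    rw [z1, z2, add_zero]
  have h0 : b ⊗ₜ[A] (1 : A) = 0 := hinj (by rw [hzero, map_zero])
  have := congrArg (TensorProduct.rid A B) h0
  simpa using this

/-- functoriality of the torsion conditions -/
theorem torsion_cond_map (A B : Type u) [CommRing A] [CommRing B] [Algebra R A] [Algebra R B]
    (ψ : A →ₐ[R] B) (a : A) (n : ℕ) (h1 : f ^ n • a = 0) (h2 : (1 : R') ⊗ₜ[R] a = 0) :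
    f ^ n • ψ a = 0 ∧ (1 : R') ⊗ₜ[R] ψ a = 0 := by
  constructor
  · rw [← map_smul, h1, map_zero]
  · have := congrArg (ψ.toLinearMap.lTensor R') h2
    rw [LinearMap.lTensor_tmul, map_zero] at this
    exact this

end Groth.Agent.Helper15.GlueEt
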