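import Mathlib
import Groth.Prelude

set_option autoImplicit false
set_option linter.unusedSectionVars false
set_option linter.unusedVariables false
set_option linter.style.haveILetI false

universe u

open CategoryTheory CategoryTheory.Limits AlgebraicGeometry Opposite

namespace Groth.Agent.Helper15.GlueEt

/-- stalk maps of flat morphisms are injective -/
theorem stalkMap_injective_of_flat {P W : Scheme.{u}} (π : P ⟶ W) [Flat π] (q : P) :
    Function.Injective (π.stalkMap q).hom := by
  have hflat := Flat.stalkMap π q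
  algebraize [(π.stalkMap q).hom]
  haveI : IsLocalHom (algebraMap (W.presheaf.stalk (π q)) (P.presheaf.stalk q)) :=
    inferInstanceAs <| IsLocalHom (π.stalkMap q).hom
  haveI : Module.FaithfullyFlat (W.presheaf.stalk (π q)) (P.presheaf.stalk q) :=
    Module.FaithfullyFlat.of_flat_of_isLocalHom
  exact FaithfulSMul.algebraMap_injective (W.presheaf.stalk (π q)) (P.presheaf.stalk q)

/-- a global section vanishing on a flat cover (pointwise, on some neighbourhood upstairs)
vanishes -/
theorem section_eq_zero_of_flat_cover {W : Scheme.{u}} (s : Γ(W, ⊤))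
    (h : ∀ w : W, ∃ (P : Scheme.{u}) (π : P ⟶ W) (_ : Flat π) (q : P) (V : P.Opens),
      π q = w ∧ q ∈ V ∧ π.appLE ⊤ V le_top s = 0) : s = 0 := by
  refine TopCat.Presheaf.section_ext W.sheaf ⊤ s 0 (fun w hw => ?_)
  obtain ⟨P, π, hπ, q, V, rfl, hqV, hs⟩ := h w
  haveI := hπ
  apply stalkMap_injective_of_flat π q
  rw [map_zero]
  have h1 := Scheme.Hom.germ_stalkMap_apply π ⊤ q hw s
  have h2 : P.presheaf.germ (π ⁻¹ᵁ ⊤) q hw (π.app ⊤ s) =
      P.presheaf.germ V q hqV (π.appLE ⊤ V le_top s) := by
    rw [Scheme.Hom.appLE]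
    exact (TopCat.Presheaf.germ_res_apply P.presheaf (homOfLE le_top) q hqV _).symm
  rw [h2, hs, map_zero] at h1
  exact h1.trans (map_zero _).symm

end Groth.Agent.Helper15.GlueEt
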