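import Mathlib
import Groth.Prelude
import Groth.Agent.Lib.Helper15.GlueEt1
import Groth.Agent.Lib.Helper15.GlueEt2
import Groth.Agent.Lib.Helper15.AlgSpDimEt

set_option autoImplicit false
set_option linter.unusedSectionVars false
set_option linter.unusedVariables false
set_option linter.style.haveILetI false

universe u

open CategoryTheory CategoryTheory.Limits AlgebraicGeometry Opposite MorphismProperty TensorProduct
open AlgSp

namespace Groth.Agent.Helper15.GlueEt

variable {R : Type u} [CommRing R]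

/-- for an `Over (Spec R)`-morphism to `Spec A`, the induced map `A → Γ(P, V)` is compatible with
the maps from `R` -/
theorem algebraMap_comp_secMap {A : Type u} [CommRing A] [Algebra R A]
    {P : Over (Spec (CommRingCat.of R))}
    (π : P ⟶ Over.mk (Spec.map (CommRingCat.ofHom (algebraMap R A)))) (V : P.left.Opens) :
    CommRingCat.ofHom (algebraMap R A) ≫ (Scheme.ΓSpecIso (CommRingCat.of A)).inv ≫
        π.left.appLE ⊤ V le_top =
      (Scheme.ΓSpecIso (CommRingCat.of R)).inv ≫ P.hom.appLE ⊤ V le_top := by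
  have hw : π.left ≫ Spec.map (CommRingCat.ofHom (algebraMap R A)) = P.hom := Over.w π
  have h1 : P.hom.appLE ⊤ V le_top =
      (π.left ≫ Spec.map (CommRingCat.ofHom (algebraMap R A))).appLE ⊤ V le_top := by
    congr 1
    exact hw.symm
  rw [h1, Scheme.Hom.comp_appLE, ← Category.assoc, ← Category.assoc,
    Scheme.ΓSpecIso_inv_naturality]
  rfl

variable (R' : Type u) [CommRing R'] [Algebra R R'] (f : R)

theorem secMap_eq_zero (hRR' : EtGlue.IsGlueingPair R R' f) {A Ak : Type u} [CommRing A]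
    [CommRing Ak] [Algebra R A] [Algebra R Ak] (hglue : EtGlue.IsGlueable R R' f Ak)
    {P : Over (Spec (CommRingCat.of R))}
    (π₁ : P ⟶ Over.mk (Spec.map (CommRingCat.ofHom (algebraMap R Ak))))
    (π₂ : P ⟶ Over.mk (Spec.map (CommRingCat.ofHom (algebraMap R A))))
    [Flat π₁.left] (V : P.left.Opens) (hV : IsAffineOpen V)
    (a : A) (n : ℕ) (hn : f ^ n • a = 0) (ha : (1 : R') ⊗ₜ[R] a = 0) :
    π₂.left.appLE ⊤ V le_top ((Scheme.ΓSpecIso (CommRingCat.of A)).inv a) = 0 := by
  let α : A →+* Γ(P.left, V) :=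
    ((Scheme.ΓSpecIso (CommRingCat.of A)).inv ≫ π₂.left.appLE ⊤ V le_top).hom
  let β : Ak →+* Γ(P.left, V) :=
    ((Scheme.ΓSpecIso (CommRingCat.of Ak)).inv ≫ π₁.left.appLE ⊤ V le_top).hom
  letI : Algebra R Γ(P.left, V) := (α.comp (algebraMap R A)).toAlgebra
  letI : Algebra Ak Γ(P.left, V) := β.toAlgebra
  have hcomp : α.comp (algebraMap R A) = β.comp (algebraMap R Ak) := by
    have e1 := congrArg CommRingCat.Hom.hom (algebraMap_comp_secMap π₂ V)
    have e2 := congrArg CommRingCat.Hom.hom (algebraMap_comp_secMap π₁ V)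
    exact e1.trans e2.symm
  haveI : IsScalarTower R Ak Γ(P.left, V) := IsScalarTower.of_algebraMap_eq' hcomp
  haveI : Module.Flat Ak Γ(P.left, V) := by
    have h1 : (π₁.left.appLE ⊤ V le_top).hom.Flat :=
      Scheme.Hom.flat_appLE π₁.left (isAffineOpen_top (Spec (CommRingCat.of Ak))) hV le_top
    have h2 : ((Scheme.ΓSpecIso (CommRingCat.of Ak)).inv).hom.Flat :=
      RingHom.Flat.of_bijective (ConcreteCategory.bijective_of_isIso _)
    exact RingHom.Flat.comp h2 h1
  have hB := isGlueable_of_flat R R' f hRR' Ak Γ(P.left, V) hglue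
  let ψ : A →ₐ[R] Γ(P.left, V) := { α with commutes' := fun r => rfl }
  obtain ⟨h1, h2⟩ := torsion_cond_map R R' f A Γ(P.left, V) ψ a n hn ha
  exact (isGlueable_iff R R' f hRR' Γ(P.left, V)).mp hB (ψ a) ⟨n, h1⟩ h2

end Groth.Agent.Helper15.GlueEt
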