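import Mathlib
import Groth.Prelude
import Groth.Agent.Lib.Helper15.GlueEt3

set_option autoImplicit false
set_option linter.unusedSectionVars false
set_option linter.unusedVariables false
set_option linter.style.haveILetI false

universe u

open CategoryTheory CategoryTheory.Limits AlgebraicGeometry Opposite MorphismProperty TensorProduct
open AlgSp

namespace Groth.Agent.Helper15.GlueEt

variable {R : Type u} [CommRing R] (R' : Type u) [CommRing R'] [Algebra R R'] (f : R)

/-- (1) ⇒ (2) -/
theorem glueable_of_cover (hRR' : EtGlue.IsGlueingPair R R' f)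
    {Y : Sp (Spec (CommRingCat.of R))}
    {ι : Type u} (Ak : ι → Type u) [∀ k, CommRing (Ak k)] [∀ k, Algebra R (Ak k)]
    (gk : ∀ k, (yon (Spec (CommRingCat.of R))).obj
      (Over.mk (Spec.map (CommRingCat.ofHom (algebraMap R (Ak k)))) :
        Over (Spec (CommRingCat.of R))) ⟶ Y)
    (hgk : ∀ k, RepWith @Etale (gk k))
    (hcov : ∀ y : Points Y, ∃ k, y ∈ Set.range (Points.map (gk k)))
    (hglue : ∀ k, EtGlue.IsGlueable R R' f (Ak k))
    (A : Type u) [CommRing A] [Algebra R A]
    (g : (yon (Spec (CommRingCat.of R))).obj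
      (Over.mk (Spec.map (CommRingCat.ofHom (algebraMap R A))) :
        Over (Spec (CommRingCat.of R))) ⟶ Y)
    (hg : RepWith @Etale g) : EtGlue.IsGlueable R R' f A := by
  rw [isGlueable_iff R R' f hRR']
  rintro a ⟨n, hn⟩ ha
  have hs : (Scheme.ΓSpecIso (CommRingCat.of A)).inv a = 0 := by
    apply section_eq_zero_of_flat_cover
    intro w
    obtain ⟨k, z, hz⟩ := hcov (Points.ofPt g w)
    obtain ⟨z', rfl⟩ := (Points.schemeEquiv _).surjective z
    change Points.map (gk k) (Points.ofScheme _ z') = _ at hz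
    rw [← Points.ofPt_eq_map_ofScheme] at hz
    have sq := (hgk k).rep.isPullback' g
    haveI e1 : Etale ((hgk k).rep.snd g).left := (hgk k).property_snd g
    haveI e2 : Etale ((hgk k).rep.fst' g).left := hg.property (gk k) _ _ sq.flip
    obtain ⟨q, hq1, hq2⟩ := exists_of_ofPt_eq sq z' w hz
    obtain ⟨_, ⟨V, hV, rfl⟩, hqV, -⟩ :=
      (Scheme.isBasis_affineOpens _).exists_subset_of_mem_open (Set.mem_univ q) isOpen_univ
    refine ⟨_, ((hgk k).rep.snd g).left, inferInstance, q, V, hq2, hqV, ?_⟩
    exact secMap_eq_zero R' f hRR' (hglue k) ((hgk k).rep.fst' g) ((hgk k).rep.snd g) V hV a n hn ha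
  have := congrArg (Scheme.ΓSpecIso (CommRingCat.of A)).hom hs
  rw [map_zero] at this
  simpa using this

end Groth.Agent.Helper15.GlueEt
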