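import Mathlib
import Groth.Prelude
import Groth.Agent.Lib.Helper15.GlueEt4

set_option autoImplicit false
set_option linter.unusedSectionVars false
set_option linter.unusedVariables false
set_option linter.style.haveILetI false

universe u

open CategoryTheory CategoryTheory.Limits AlgebraicGeometry Opposite MorphismProperty TensorProduct
open AlgSp

namespace Groth.Agent.Helper15.GlueEt

variable {R : Type u} [CommRing R] (R' : Type u) [CommRing R'] [Algebra R R'] (f : R)

/-- (2) ⇒ (1) -/
theorem exists_cover_of_forall {Y : Sp (Spec (CommRingCat.of R))} (hY : IsAlgSpace Y)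
    (h : ∀ (A : Type u) [CommRing A] [Algebra R A]
      (g : (yon (Spec (CommRingCat.of R))).obj
        (Over.mk (Spec.map (CommRingCat.ofHom (algebraMap R A))) :
          Over (Spec (CommRingCat.of R))) ⟶ Y),
      RepWith @Etale g → EtGlue.IsGlueable R R' f A) :
    ∃ (ι : Type u) (A : ι → Type u) (_ : ∀ k, CommRing (A k)) (_ : ∀ k, Algebra R (A k))
      (g : ∀ k, (yon (Spec (CommRingCat.of R))).obj
        (Over.mk (Spec.map (CommRingCat.ofHom (algebraMap R (A k)))) :
          Over (Spec (CommRingCat.of R))) ⟶ Y),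
      (∀ k, RepWith @Etale (g k)) ∧
        (∀ y : Points Y, ∃ k, y ∈ Set.range (Points.map (g k))) ∧
          ∀ k, EtGlue.IsGlueable R R' f (A k) := by
  obtain ⟨U, p, hpe, hps⟩ := hY.atlas
  let ρ : ∀ V : U.left.affineOpens, R →+* Γ(U.left, V.1) :=
    fun V => (Spec.preimage (V.2.fromSpec ≫ U.hom)).hom
  refine ⟨U.left.affineOpens, fun V => Γ(U.left, V.1), fun V => inferInstance,
    fun V => (ρ V).toAlgebra, ?_⟩
  letI : ∀ V : U.left.affineOpens, Algebra R Γ(U.left, V.1) := fun V => (ρ V).toAlgebra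
  have hw : ∀ V : U.left.affineOpens, V.2.fromSpec ≫ U.hom =
      Spec.map (CommRingCat.ofHom (algebraMap R Γ(U.left, V.1))) :=
    fun V => (Spec.map_preimage _).symm
  let j : ∀ V : U.left.affineOpens,
      (Over.mk (Spec.map (CommRingCat.ofHom (algebraMap R Γ(U.left, V.1)))) :
        Over (Spec (CommRingCat.of R))) ⟶ U :=
    fun V => CategoryTheory.Over.homMk V.2.fromSpec (hw V)
  refine ⟨fun V => (yon _).map (j V) ≫ p, fun V => ?_, fun y => ?_, fun V => ?_⟩
  · exact (RepWith @Etale).comp_mem _ _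
      ((repWith_yon_map_iff _ _).2 (inferInstance : Etale V.2.fromSpec)) hpe
  · obtain ⟨u, rfl⟩ := surjective_ofPt p hps y
    obtain ⟨_, ⟨V, hV, rfl⟩, huV, -⟩ :=
      (Scheme.isBasis_affineOpens U.left).exists_subset_of_mem_open (Set.mem_univ u) isOpen_univ
    refine ⟨⟨V, hV⟩, ?_⟩
    have hu : u ∈ Set.range hV.fromSpec := by
      rw [hV.range_fromSpec]; exact huV
    obtain ⟨z, rfl⟩ := hu
    refine ⟨Points.ofScheme _ z, ?_⟩
    rw [← Points.ofPt_eq_map_ofScheme, ofPt_comp_yon_map]
    rfl
  · exact h Γ(U.left, V.1) ((yon _).map (j V) ≫ p)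
      ((RepWith @Etale).comp_mem _ _
        ((repWith_yon_map_iff _ _).2 (inferInstance : Etale V.2.fromSpec)) hpe)

end Groth.Agent.Helper15.GlueEt
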