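import Mathlib

set_option autoImplicit false
set_option linter.unusedSectionVars false
set_option linter.unusedVariables false
set_option linter.style.haveILetI false
universe u

open Cardinal

namespace Groth.Agent.Helper15.GpdFieldAut

theorem exists_ringEquiv_of_trdeg_eq (k K₁ K₂ : Type u) [Field k] [Field K₁] [Field K₂]
    [IsAlgClosed K₁] [IsAlgClosed K₂] [Algebra k K₁] [Algebra k K₂]
    (h : Algebra.trdeg k K₁ = Algebra.trdeg k K₂) :
    ∃ β : K₁ ≃+* K₂, ∀ x, β (algebraMap k K₁ x) = algebraMap k K₂ x := by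
  obtain ⟨s₁, hs₁⟩ := exists_isTranscendenceBasis k K₁
  obtain ⟨s₂, hs₂⟩ := exists_isTranscendenceBasis k K₂
  have hc : #s₁ = #s₂ := by rw [hs₁.cardinalMk_eq_trdeg, hs₂.cardinalMk_eq_trdeg, h]
  obtain ⟨e⟩ := Cardinal.eq.1 hc
  letI := IsAlgClosed.isAlgClosure_of_transcendence_basis _ hs₁
  letI := IsAlgClosed.isAlgClosure_of_transcendence_basis _ hs₂
  let e' : Algebra.adjoin k (Set.range ((↑) : s₁ → K₁)) ≃ₐ[k]
      Algebra.adjoin k (Set.range ((↑) : s₂ → K₂)) :=
    hs₁.1.aevalEquiv.symm.trans ((MvPolynomial.renameEquiv k e).trans hs₂.1.aevalEquiv)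
  refine ⟨IsAlgClosure.equivOfEquiv K₁ K₂ e'.toRingEquiv, fun x => ?_⟩
  have h1 : algebraMap k K₁ x =
      algebraMap (Algebra.adjoin k (Set.range ((↑) : s₁ → K₁))) K₁ (algebraMap k _ x) := rfl
  rw [h1, IsAlgClosure.equivOfEquiv_algebraMap]
  have h2 : e'.toRingEquiv (algebraMap k _ x) = algebraMap k _ x := e'.commutes x
  rw [h2]
  rfl

theorem trdeg_eq_of_tower (k L K : Type u) [Field k] [Field L] [Field K] [Algebra k L]
    [Algebra L K] [Algebra k K] [IsScalarTower k L K] (c : Cardinal.{u}) (hc : ℵ₀ ≤ c)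
    (hL : #L ≤ c) (hK : Algebra.trdeg L K = c) : Algebra.trdeg k K = c := by
  have h1 : Algebra.trdeg k L + Algebra.trdeg L K = Algebra.trdeg k K :=
    trdeg_add_eq k L (A := K)
  have h3 : Algebra.trdeg k L ≤ c := by
    obtain ⟨s, hs⟩ := exists_isTranscendenceBasis k L
    rw [← hs.cardinalMk_eq_trdeg]
    exact (mk_set_le s).trans hL
  rw [← h1, hK, Cardinal.add_eq_right hc h3]

theorem exists_algClosed_aut (k L : Type u) [Field k] [Field L] (i₁ i₂ : k →+* L) :
    ∃ (k' : Type u) (_ : Field k') (_ : IsAlgClosed k') (lam : L →+* k') (β : k' ≃+* k'),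
      ∀ x, β (lam (i₁ x)) = lam (i₂ x) := by
  let I : Type u := ULift.{u} ℕ ⊕ L
  let P := MvPolynomial I L
  let k' := AlgebraicClosure (FractionRing P)
  let lam : L →+* k' := algebraMap L k'
  have hI1 : ℵ₀ ≤ #I := by
    simp only [I, mk_sum, mk_uLift, mk_nat, lift_aleph0, lift_id]
    exact le_self_add
  have hI2 : #L ≤ #I := by
    simp only [I, mk_sum, lift_id]
    exact le_add_self
  haveI : Algebra.IsAlgebraic P (FractionRing P) :=
    IsLocalization.isAlgebraic _ (nonZeroDivisors P)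
  haveI : Algebra.IsAlgebraic P k' := Algebra.IsAlgebraic.trans P (FractionRing P) k'
  haveI : FaithfulSMul P k' := (faithfulSMul_iff_algebraMap_injective P k').2 (by
    rw [IsScalarTower.algebraMap_eq P (FractionRing P) k']
    exact (algebraMap (FractionRing P) k').injective.comp (IsFractionRing.injective P (FractionRing P)))
  have h2 : Algebra.trdeg L k' = #I := by
    have := trdeg_add_eq L P (A := k')
    rw [MvPolynomial.trdeg_of_isDomain, trdeg_eq_zero, add_zero] at this
    simpa using this.symm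
  have key : ∀ i : k →+* L, @Algebra.trdeg k k' _ _ ((lam.comp i).toAlgebra) = #I := by
    intro i
    exact @trdeg_eq_of_tower k L k' _ _ _ i.toAlgebra _ (lam.comp i).toAlgebra
      (@IsScalarTower.of_algebraMap_eq k L k' _ _ _ i.toAlgebra _ (lam.comp i).toAlgebra
        (fun _ => rfl)) #I hI1 hI2 h2
  obtain ⟨β, hβ⟩ := @exists_ringEquiv_of_trdeg_eq k k' k' _ _ _ _ _ (lam.comp i₁).toAlgebra
    (lam.comp i₂).toAlgebra (by rw [key i₁, key i₂])
  exact ⟨k', inferInstance, inferInstance, lam, β, hβ⟩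

end Groth.Agent.Helper15.GpdFieldAut
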