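import Mathlib
import Groth.Prelude.Def_AlgSpGpd
import Groth.Agent.Lib.Helper15.AlgSpPoints
import Groth.Agent.Lib.Helper15.GpdFieldAut

set_option autoImplicit false
set_option linter.unusedSectionVars false
set_option linter.unusedVariables false
set_option linter.style.haveILetI false
universe u

open CategoryTheory CategoryTheory.Limits AlgebraicGeometry Opposite
open AlgSp AlgSp.GroupoidSp

namespace Groth.Agent.Helper15.GpdFieldPt

theorem main10146 (S : Scheme.{u}) (B : AlgSp.Sp S) (hB : AlgSp.IsAlgSpace B)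
    (G : AlgSp.GroupoidSp B) (hR : AlgSp.IsAlgSpace G.R) (k : Type u) [Field k]
    (σ : Spec (CommRingCat.of k) ⟶ S) (eU : G.U ≅ (AlgSp.yon S).obj (Over.mk σ)) (r : AlgSp.Points G.R) :
    ∃ (k' : Type u) (_ : Field k') (_ : Algebra k k'), IsAlgClosed k' ∧
      ∀ (G' : AlgSp.GroupoidSp B) (φ : AlgSp.GroupoidSp.Hom G' G), φ.IsRestriction → AlgSp.IsAlgSpace G'.R →
        ∀ (eU' : G'.U ≅ (AlgSp.yon S).obj (Over.mk (Spec.map (CommRingCat.ofHom (algebraMap k k')) ≫ σ))),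
          φ.fU = eU'.hom ≫ (AlgSp.yon S).map (Over.homMk (Spec.map (CommRingCat.ofHom (algebraMap k k'))) rfl :
            Over.mk (Spec.map (CommRingCat.ofHom (algebraMap k k')) ≫ σ) ⟶ Over.mk σ) ≫ eU.inv →
          ∃ r' : G'.U ⟶ G'.R, (∀ x : AlgSp.Points G'.U, AlgSp.Points.map (r' ≫ φ.fR) x = r) ∧
            IsIso (r' ≫ G'.s) ∧ IsIso (r' ≫ G'.t) := by
  obtain ⟨L, _, strL, ξ, rfl⟩ := exists_ofField r
  let τ₁ : Over.mk strL ⟶ Over.mk σ := (yon S).preimage (ξ ≫ G.t ≫ eU.hom)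
  let τ₂ : Over.mk strL ⟶ Over.mk σ := (yon S).preimage (ξ ≫ G.s ≫ eU.hom)
  have hτ₁ : (yon S).map τ₁ = ξ ≫ G.t ≫ eU.hom := (yon S).map_preimage _
  have hτ₂ : (yon S).map τ₂ = ξ ≫ G.s ≫ eU.hom := (yon S).map_preimage _
  have hξt : ξ ≫ G.t = (yon S).map τ₁ ≫ eU.inv := by
    rw [hτ₁, Category.assoc, Category.assoc, Iso.hom_inv_id, Category.comp_id]
  have hξs : ξ ≫ G.s = (yon S).map τ₂ ≫ eU.inv := by
    rw [hτ₂, Category.assoc, Category.assoc, Iso.hom_inv_id, Category.comp_id]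
  let i₁ : k →+* L := (Spec.preimage τ₁.left).hom
  let i₂ : k →+* L := (Spec.preimage τ₂.left).hom
  have hi₁ : Spec.map (CommRingCat.ofHom i₁) = τ₁.left := Spec.map_preimage _
  have hi₂ : Spec.map (CommRingCat.ofHom i₂) = τ₂.left := Spec.map_preimage _
  have hw₁ : Spec.map (CommRingCat.ofHom i₁) ≫ σ = strL := by rw [hi₁]; exact Over.w τ₁
  have hw₂ : Spec.map (CommRingCat.ofHom i₂) ≫ σ = strL := by rw [hi₂]; exact Over.w τ₂
  obtain ⟨k', instF, instAC, lam, β, hβ⟩ := GpdFieldAut.exists_algClosed_aut k L i₁ i₂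
  refine ⟨k', instF, (lam.comp i₁).toAlgebra, instAC, ?_⟩
  letI : Algebra k k' := (lam.comp i₁).toAlgebra
  intro G' φ hres hR' eU' hfU
  have hj : algebraMap k k' = lam.comp i₁ := rfl
  have hjspec : Spec.map (CommRingCat.ofHom (algebraMap k k')) =
      Spec.map (CommRingCat.ofHom lam) ≫ Spec.map (CommRingCat.ofHom i₁) := by
    rw [← Spec.map_comp, hj]; rfl
  have hβspec : Spec.map (CommRingCat.ofHom β.toRingHom) ≫
      Spec.map (CommRingCat.ofHom (algebraMap k k')) =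
      Spec.map (CommRingCat.ofHom lam) ≫ Spec.map (CommRingCat.ofHom i₂) := by
    rw [← Spec.map_comp, ← Spec.map_comp]
    congr 1
    ext x
    exact hβ x
  let U'o : Over S := Over.mk (Spec.map (CommRingCat.ofHom (algebraMap k k')) ≫ σ)
  let πo : U'o ⟶ Over.mk σ := Over.homMk (Spec.map (CommRingCat.ofHom (algebraMap k k'))) rfl
  have hlamw : Spec.map (CommRingCat.ofHom lam) ≫ strL =
      Spec.map (CommRingCat.ofHom (algebraMap k k')) ≫ σ := by
    rw [hjspec, Category.assoc, hw₁]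
  let lamo : U'o ⟶ Over.mk strL := Over.homMk (Spec.map (CommRingCat.ofHom lam)) hlamw
  have hBw : Spec.map (CommRingCat.ofHom β.toRingHom) ≫
      (Spec.map (CommRingCat.ofHom (algebraMap k k')) ≫ σ) =
      Spec.map (CommRingCat.ofHom (algebraMap k k')) ≫ σ := by
    rw [← Category.assoc, hβspec, Category.assoc, hw₂, hlamw]
  let Bo : U'o ⟶ U'o := Over.homMk (Spec.map (CommRingCat.ofHom β.toRingHom)) hBw
  haveI : IsIso (CommRingCat.ofHom β.toRingHom) :=
    (RingEquiv.toCommRingCatIso β).isIso_hom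
  haveI : IsIso Bo.left := by
    change IsIso (Spec.map (CommRingCat.ofHom β.toRingHom))
    infer_instance
  haveI : IsIso ((Over.forget S).map Bo) := ‹IsIso Bo.left›
  haveI hBiso : IsIso Bo := isIso_of_reflects_iso Bo (Over.forget S)
  have hlτ₁ : lamo ≫ τ₁ = πo := by
    apply Over.OverMorphism.ext
    change Spec.map (CommRingCat.ofHom lam) ≫ τ₁.left = Spec.map (CommRingCat.ofHom (algebraMap k k'))
    rw [← hi₁, hjspec]
  have hlτ₂ : lamo ≫ τ₂ = Bo ≫ πo := by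
    apply Over.OverMorphism.ext
    change Spec.map (CommRingCat.ofHom lam) ≫ τ₂.left =
      Spec.map (CommRingCat.ofHom β.toRingHom) ≫ Spec.map (CommRingCat.ofHom (algebraMap k k'))
    rw [← hi₂, hβspec]
  let ρ₀ : (yon S).obj U'o ⟶ G.R := (yon S).map lamo ≫ ξ
  let ρ : G'.U ⟶ G.R := eU'.hom ≫ ρ₀
  let b : G'.U ⟶ G'.U := eU'.hom ≫ (yon S).map Bo ≫ eU'.inv
  have hT : ρ ≫ G.t = 𝟙 G'.U ≫ φ.fU := by
    rw [Category.id_comp, hfU]
    change (eU'.hom ≫ (yon S).map lamo ≫ ξ) ≫ G.t = _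
    rw [Category.assoc, Category.assoc, hξt, ← Category.assoc ((yon S).map lamo),
      ← Functor.map_comp, hlτ₁]
  have hS : ρ ≫ G.s = b ≫ φ.fU := by
    rw [hfU]
    change (eU'.hom ≫ (yon S).map lamo ≫ ξ) ≫ G.s = (eU'.hom ≫ (yon S).map Bo ≫ eU'.inv) ≫ _
    rw [Category.assoc, Category.assoc, hξs, ← Category.assoc ((yon S).map lamo),
      ← Functor.map_comp, hlτ₂, Functor.map_comp]
    simp only [Category.assoc, Iso.inv_hom_id_assoc]
    rfl
  have hab : 𝟙 G'.U ≫ G'.pU = b ≫ G'.pU := by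
    calc 𝟙 G'.U ≫ G'.pU = (𝟙 G'.U ≫ φ.fU) ≫ G.pU := by rw [Category.assoc, φ.fU_over]
      _ = (ρ ≫ G.t) ≫ G.pU := by rw [hT]
      _ = (ρ ≫ G.s) ≫ G.pU := by rw [Category.assoc ρ, Category.assoc ρ, G.t_over, G.s_over]
      _ = (b ≫ φ.fU) ≫ G.pU := by rw [hS]
      _ = b ≫ G'.pU := by rw [Category.assoc, φ.fU_over]
  let pair : G'.U ⟶ pullback G'.pU G'.pU := pullback.lift (𝟙 G'.U) b hab
  have hcond : ρ ≫ G.j = pair ≫ φ.prodMap := by
    have hp1 : φ.prodMap ≫ pullback.fst G.pU G.pU = pullback.fst G'.pU G'.pU ≫ φ.fU := by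
      unfold Hom.prodMap pullback.map; exact pullback.lift_fst _ _ _
    have hp2 : φ.prodMap ≫ pullback.snd G.pU G.pU = pullback.snd G'.pU G'.pU ≫ φ.fU := by
      unfold Hom.prodMap pullback.map; exact pullback.lift_snd _ _ _
    have hq1 : pair ≫ pullback.fst G'.pU G'.pU = 𝟙 G'.U := pullback.lift_fst _ _ _
    have hq2 : pair ≫ pullback.snd G'.pU G'.pU = b := pullback.lift_snd _ _ _
    apply pullback.hom_ext
    · calc (ρ ≫ G.j) ≫ pullback.fst G.pU G.pU = ρ ≫ G.t := by rw [Category.assoc ρ, G.j_fst]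
        _ = 𝟙 G'.U ≫ φ.fU := hT
        _ = (pair ≫ pullback.fst G'.pU G'.pU) ≫ φ.fU := by rw [hq1]
        _ = (pair ≫ φ.prodMap) ≫ pullback.fst G.pU G.pU := by
          rw [Category.assoc pair, ← hp1, Category.assoc pair]
    · calc (ρ ≫ G.j) ≫ pullback.snd G.pU G.pU = ρ ≫ G.s := by rw [Category.assoc ρ, G.j_snd]
        _ = b ≫ φ.fU := hS
        _ = (pair ≫ pullback.snd G'.pU G'.pU) ≫ φ.fU := by rw [hq2]
        _ = (pair ≫ φ.prodMap) ≫ pullback.snd G.pU G.pU := by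
          rw [Category.assoc pair, ← hp2, Category.assoc pair]
  let r' : G'.U ⟶ G'.R := hres.lift ρ pair hcond
  have hr'1 : r' ≫ φ.fR = ρ := hres.lift_fst _ _ _
  have hr'2 : r' ≫ G'.j = pair := hres.lift_snd _ _ _
  have hr't : r' ≫ G'.t = 𝟙 G'.U := by
    rw [← G'.j_fst, ← Category.assoc, hr'2]; exact pullback.lift_fst _ _ _
  have hr's : r' ≫ G'.s = b := by
    rw [← G'.j_snd, ← Category.assoc, hr'2]; exact pullback.lift_snd _ _ _
  refine ⟨r', ?_, ?_, ?_⟩
  · intro x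
    rw [hr'1]
    change Points.map (eU'.hom ≫ ρ₀) x = _
    rw [Points.map_comp]
    haveI : Subsingleton ↥U'o.left := by
      change Subsingleton ↥(Spec (CommRingCat.of k'))
      infer_instance
    haveI : Subsingleton (Points ((yon S).obj U'o)) :=
      (Points.schemeEquiv U'o).symm.injective.subsingleton
    have hy : Points.map eU'.hom x = ofField (𝟙 ((yon S).obj U'o)) := Subsingleton.elim _ _
    rw [hy, map_ofField, Category.id_comp]
    exact ofField_comp lamo ξ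
  · rw [hr's]; infer_instance
  · rw [hr't]; infer_instance

end Groth.Agent.Helper15.GpdFieldPt
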