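import Groth.Agent.Lib.Helper15.AlgSpLocPListed
import Groth.Agent.Lib.Helper15.GpdSp

set_option autoImplicit false
universe u
open CategoryTheory CategoryTheory.Limits AlgebraicGeometry MorphismProperty Opposite
open AlgSp AlgSp.GroupoidSp Groth.Agent.Helper16.AS

namespace Groth.Agent.Helper15

section Cat
variable {C : Type*} [Category C] [HasPullbacks C] {R U R' U' : C} {s t : R ⟶ U} {g : U' ⟶ U}
  {s' t' : R' ⟶ U'} {r : R' ⟶ R}

theorem isPullback_restrict_s (ws : s' ≫ g = r ≫ s) (wt : t' ≫ g = r ≫ t)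
    (hlift : ∀ {T : C} (a b : T ⟶ U') (ρ : T ⟶ R), ρ ≫ t = a ≫ g → ρ ≫ s = b ≫ g →
      ∃ x : T ⟶ R', x ≫ t' = a ∧ x ≫ s' = b ∧ x ≫ r = ρ)
    (hext : ∀ {T : C} (x y : T ⟶ R'), x ≫ t' = y ≫ t' → x ≫ s' = y ≫ s' → x ≫ r = y ≫ r → x = y) :
    IsPullback t' (pullback.lift r s' ws.symm) g (pullback.fst s g ≫ t) := by
  refine ⟨⟨by rw [← Category.assoc, pullback.lift_fst, wt]⟩, ⟨PullbackCone.IsLimit.mk _
    (fun c => (hlift c.fst (c.snd ≫ pullback.snd s g) (c.snd ≫ pullback.fst s g)
      (by rw [Category.assoc, c.condition]) (by rw [Category.assoc, Category.assoc, pullback.condition])).choose)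
    (fun c => (hlift c.fst (c.snd ≫ pullback.snd s g) (c.snd ≫ pullback.fst s g)
      (by rw [Category.assoc, c.condition]) (by rw [Category.assoc, Category.assoc, pullback.condition])).choose_spec.1)
    (fun c => ?_) (fun c m h1 h2 => ?_)⟩⟩
  · obtain ⟨e1, e2, e3⟩ := (hlift c.fst (c.snd ≫ pullback.snd s g) (c.snd ≫ pullback.fst s g)
      (by rw [Category.assoc, c.condition]) (by rw [Category.assoc, Category.assoc, pullback.condition])).choose_spec
    apply pullback.hom_ext
    · rw [Category.assoc, pullback.lift_fst, e3]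
    · rw [Category.assoc, pullback.lift_snd, e2]
  · obtain ⟨e1, e2, e3⟩ := (hlift c.fst (c.snd ≫ pullback.snd s g) (c.snd ≫ pullback.fst s g)
      (by rw [Category.assoc, c.condition]) (by rw [Category.assoc, Category.assoc, pullback.condition])).choose_spec
    apply hext
    · rw [h1, e1]
    · rw [e2, ← h2, Category.assoc, pullback.lift_snd]
    · rw [e3, ← h2, Category.assoc, pullback.lift_fst]

theorem isPullback_restrict_t (ws : s' ≫ g = r ≫ s) (wt : t' ≫ g = r ≫ t)
    (hlift : ∀ {T : C} (a b : T ⟶ U') (ρ : T ⟶ R), ρ ≫ t = a ≫ g → ρ ≫ s = b ≫ g →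
      ∃ x : T ⟶ R', x ≫ t' = a ∧ x ≫ s' = b ∧ x ≫ r = ρ)
    (hext : ∀ {T : C} (x y : T ⟶ R'), x ≫ t' = y ≫ t' → x ≫ s' = y ≫ s' → x ≫ r = y ≫ r → x = y) :
    IsPullback s' (pullback.lift r t' wt.symm) g (pullback.fst t g ≫ s) := by
  refine ⟨⟨by rw [← Category.assoc, pullback.lift_fst, ws]⟩, ⟨PullbackCone.IsLimit.mk _
    (fun c => (hlift (c.snd ≫ pullback.snd t g) c.fst (c.snd ≫ pullback.fst t g)
      (by rw [Category.assoc, Category.assoc, pullback.condition]) (by rw [Category.assoc, c.condition])).choose)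
    (fun c => (hlift (c.snd ≫ pullback.snd t g) c.fst (c.snd ≫ pullback.fst t g)
      (by rw [Category.assoc, Category.assoc, pullback.condition]) (by rw [Category.assoc, c.condition])).choose_spec.2.1)
    (fun c => ?_) (fun c m h1 h2 => ?_)⟩⟩
  · obtain ⟨e1, e2, e3⟩ := (hlift (c.snd ≫ pullback.snd t g) c.fst (c.snd ≫ pullback.fst t g)
      (by rw [Category.assoc, Category.assoc, pullback.condition]) (by rw [Category.assoc, c.condition])).choose_spec
    apply pullback.hom_ext
    · rw [Category.assoc, pullback.lift_fst, e3]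
    · rw [Category.assoc, pullback.lift_snd, e1]
  · obtain ⟨e1, e2, e3⟩ := (hlift (c.snd ≫ pullback.snd t g) c.fst (c.snd ≫ pullback.fst t g)
      (by rw [Category.assoc, Category.assoc, pullback.condition]) (by rw [Category.assoc, c.condition])).choose_spec
    apply hext
    · rw [e1, ← h2, Category.assoc, pullback.lift_snd]
    · rw [h1, e2]
    · rw [e3, ← h2, Category.assoc, pullback.lift_fst]

end Cat

variable {S : Scheme.{u}}

section Gpd
variable {B : Sp S} {G G' : GroupoidSp B} (φ : GroupoidSp.Hom G' G) (hφ : φ.IsRestriction)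
include hφ

theorem restriction_hlift {T : Sp S} (a b : T ⟶ G'.U) (ρ : T ⟶ G.R)
    (h1 : ρ ≫ G.t = a ≫ φ.fU) (h2 : ρ ≫ G.s = b ≫ φ.fU) :
    ∃ x : T ⟶ G'.R, x ≫ G'.t = a ∧ x ≫ G'.s = b ∧ x ≫ φ.fR = ρ := by
  have hab : a ≫ G'.pU = b ≫ G'.pU := by
    rw [← φ.fU_over, ← Category.assoc, ← h1, ← Category.assoc, ← h2, Category.assoc, Category.assoc,
      G.t_over, G.s_over]
  have hw : ρ ≫ G.j = pullback.lift a b hab ≫ φ.prodMap := by
    apply pullback.hom_ext
    · rw [Category.assoc, GroupoidSp.j_fst, Category.assoc, GroupoidSp.Hom.prodMap, pullback.lift_fst,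
        pullback.lift_fst_assoc, h1]
    · rw [Category.assoc, GroupoidSp.j_snd, Category.assoc, GroupoidSp.Hom.prodMap, pullback.lift_snd,
        pullback.lift_snd_assoc, h2]
  refine ⟨hφ.lift ρ (pullback.lift a b hab) hw, ?_, ?_, hφ.lift_fst _ _ hw⟩
  · have := congrArg (· ≫ pullback.fst _ _) (hφ.lift_snd ρ (pullback.lift a b hab) hw)
    simpa only [Category.assoc, GroupoidSp.j_fst, pullback.lift_fst] using this
  · have := congrArg (· ≫ pullback.snd _ _) (hφ.lift_snd ρ (pullback.lift a b hab) hw)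
    simpa only [Category.assoc, GroupoidSp.j_snd, pullback.lift_snd] using this

theorem restriction_hext {T : Sp S} (x y : T ⟶ G'.R) (h1 : x ≫ G'.t = y ≫ G'.t)
    (h2 : x ≫ G'.s = y ≫ G'.s) (h3 : x ≫ φ.fR = y ≫ φ.fR) : x = y := by
  apply hφ.hom_ext h3
  apply pullback.hom_ext
  · simpa only [Category.assoc, GroupoidSp.j_fst] using h1
  · simpa only [Category.assoc, GroupoidSp.j_snd] using h2

theorem restriction_locP {P : MorphismProperty Scheme.{u}} (hP : GoodP P) (hsrc : SrcEtLoc P)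
    (hU : IsAlgSpace G.U) (hR : IsAlgSpace G.R) (hU' : IsAlgSpace G'.U) (hR' : IsAlgSpace G'.R)
    (hs : LocP P G.s) (ht : LocP P G.t) (hg : LocP P φ.fU) : LocP P G'.s ∧ LocP P G'.t := by
  have ws : G'.s ≫ φ.fU = φ.fR ≫ G.s := φ.comm_s.symm
  have wt : G'.t ≫ φ.fU = φ.fR ≫ G.t := φ.comm_t.symm
  have hPs : IsAlgSpace (pullback G.s φ.fU) :=
    isAlgSpace_of_isPullback hU.diag hR hU' (IsPullback.of_hasPullback _ _)
  have hPt : IsAlgSpace (pullback G.t φ.fU) :=
    isAlgSpace_of_isPullback hU.diag hR hU' (IsPullback.of_hasPullback _ _)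
  constructor
  · have sq := isPullback_restrict_s ws wt (fun a b ρ => restriction_hlift φ hφ a b ρ)
      (fun x y => restriction_hext φ hφ x y)
    have h1 : LocP P (pullback.lift φ.fR G'.s ws.symm) :=
      locP_of_isPullback hP hsrc hU' hU hPs sq hg
    have h2 : LocP P (pullback.snd G.s φ.fU) :=
      locP_of_isPullback hP hsrc hR hU hU' (IsPullback.of_hasPullback G.s φ.fU) hs
    have := locP_comp hP hsrc hR' hPs hU' _ _ h1 h2
    rwa [pullback.lift_snd] at this
  · have sq := isPullback_restrict_t ws wt (fun a b ρ => restriction_hlift φ hφ a b ρ)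
      (fun x y => restriction_hext φ hφ x y)
    have h1 : LocP P (pullback.lift φ.fR G'.t wt.symm) :=
      locP_of_isPullback hP hsrc hU' hU hPt sq hg
    have h2 : LocP P (pullback.snd G.t φ.fU) :=
      locP_of_isPullback hP hsrc hR hU hU' (IsPullback.of_hasPullback G.t φ.fU) ht
    have := locP_comp hP hsrc hR' hPt hU' _ _ h1 h2
    rwa [pullback.lift_snd] at this

end Gpd

end Groth.Agent.Helper15
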