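import Groth.Agent.Lib.Helper15.AlgSpGrpField

/-!
# Groupoids over a field: composition is a base change of the target map
-/

set_option autoImplicit false
universe u
open CategoryTheory CategoryTheory.Limits AlgebraicGeometry MorphismProperty Opposite
open AlgSp AlgSp.GroupoidSp

namespace Groth.Agent.Helper15

variable {S : Scheme.{u}} {B : Sp S} (G : GroupoidSp B)

/-- `(α, β) ↦ (α, α ∘ β)` identifies `R ×_{s,U,t} R` with `R ×_{t,U,t} R`: the composition is a base
change of the target map. -/
theorem isPullback_fst_c : IsPullback (pullback.fst G.s G.t) G.c G.t G.t := by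
  have hw : pullback.fst G.s G.t ≫ G.t = G.c ≫ G.t := by
    rw [c_eq_gcomp, gcomp_t]
  refine ⟨⟨hw⟩, ⟨PullbackCone.IsLimit.mk _
    (fun c => pullback.lift c.fst
      (gcomp G (c.fst ≫ G.i) c.snd (by rw [Category.assoc, G.i_s, c.condition]))
      (by rw [gcomp_t, Category.assoc, G.i_t])) ?_ ?_ ?_⟩⟩
  · intro c
    exact pullback.lift_fst _ _ _
  · intro c
    rw [comp_c_eq]
    have := gcomp_i_gcomp' G c.fst c.snd c.condition
    refine Eq.trans ?_ this
    exact gcomp_congr G _ (pullback.lift_fst _ _ _) (pullback.lift_snd _ _ _)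
  · intro c m h1 h2
    apply pullback.hom_ext
    · rw [pullback.lift_fst]; exact h1
    · rw [pullback.lift_snd]
      have hc : (m ≫ pullback.fst G.s G.t) ≫ G.s = (m ≫ pullback.snd G.s G.t) ≫ G.t := by
        rw [Category.assoc, Category.assoc, pullback.condition]
      have h3 := i_gcomp_gcomp G (m ≫ pullback.fst G.s G.t) (m ≫ pullback.snd G.s G.t) hc
      refine h3.symm.trans ?_
      refine gcomp_congr G _ (by rw [h1]) ?_
      rw [← h2, comp_c_eq]

/-- For a groupoid whose object space is the spectrum of a field, the composition is flat and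
universally open. -/
theorem comp_flat_univOpen_of_field (hB : IsAlgSpace B) (hR : IsAlgSpace G.R)
    {k : Type u} [Field k] (σ : Spec (CommRingCat.of k) ⟶ S)
    (eU : G.U ≅ (yon S).obj (Over.mk σ)) :
    LocP @Flat G.c ∧ IsUnivOpenMor G.c := by
  have sq : IsPullback (pullback.fst G.s G.t) G.c (G.t ≫ eU.hom) (G.t ≫ eU.hom) := by
    have := isPullback_fst_c G
    refine ⟨⟨by rw [← Category.assoc, this.w, Category.assoc]⟩, ⟨PullbackCone.IsLimit.mk _
      (fun c => this.lift c.fst c.snd (by
        have := c.condition
        rw [← Category.assoc, ← Category.assoc, cancel_mono] at this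
        exact this)) ?_ ?_ ?_⟩⟩
    · intro c; exact this.lift_fst _ _ _
    · intro c; exact this.lift_snd _ _ _
    · intro c m h1 h2
      apply this.hom_ext
      · rw [this.lift_fst]; exact h1
      · rw [this.lift_snd]; exact h2
  have hT : IsAlgSpace ((yon S).obj (Over.mk σ)) := IsAlgSpace.yon_obj _
  refine ⟨?_, ?_⟩
  · exact locP_listed_of_isPullback @Flat (Or.inr (Or.inr (Or.inl rfl))) hR hT hR sq
      (locP_flat_to_field σ _)
  · exact UnivSp.of_isPullback sq (isUnivOpenMor_to_field σ hR _)

end Groth.Agent.Helper15
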