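import Groth.Agent.Lib.Helper15.GpdSpField
import Groth.Agent.Lib.Helper15.AlgSpAff
import Groth.Agent.Lib.Helper15.AlgSpPoints

/-!
# Restriction of a groupoid over a field along a field extension
-/

set_option autoImplicit false
universe u
open CategoryTheory CategoryTheory.Limits AlgebraicGeometry MorphismProperty Opposite
open AlgSp AlgSp.GroupoidSp

namespace Groth.Agent.Helper15

variable {S : Scheme.{u}}

/-- Every morphism to (a sheaf isomorphic to) the spectrum of a field is flat. -/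
theorem locP_flat_to_field_iso {k : Type u} [Field k] (σ : Spec (CommRingCat.of k) ⟶ S)
    {X Y : Sp S} (e : Y ≅ (yon S).obj (Over.mk σ)) (p : X ⟶ Y) : LocP @Flat p := by
  intro U V a b h ha hb comm
  have hb' : RepWith @Etale (b ≫ e.hom) :=
    (RepWith @Etale).comp_mem _ _ hb (repWith_of_isIso _ e.hom)
  exact locP_flat_to_field σ (p ≫ e.hom) a (b ≫ e.hom) h ha hb'
    (by rw [← Category.assoc, comm, Category.assoc])

/-- Every morphism from an algebraic space to (a sheaf isomorphic to) the spectrum of a field is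
universally open. -/
theorem isUnivOpenMor_to_field_iso {k : Type u} [Field k] (σ : Spec (CommRingCat.of k) ⟶ S)
    {X Y : Sp S} (hX : IsAlgSpace X) (e : Y ≅ (yon S).obj (Over.mk σ)) (p : X ⟶ Y) :
    IsUnivOpenMor p := by
  intro Z Z' hZ g fst snd sq
  exact isUnivOpenMor_to_field σ hX (p ≫ e.hom) hZ (g ≫ e.hom) fst snd
    (isPullback_comp_mono e.hom sq)

/-- Composition of universally open morphisms (through an algebraic space). -/
theorem isUnivOpenMor_comp {X Y W : Sp S} (hY : IsAlgSpace Y) (hW : Representable (Limits.diag W))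
    (f : X ⟶ Y) (g : Y ⟶ W) (hf : IsUnivOpenMor f) (hg : IsUnivOpenMor g) :
    IsUnivOpenMor (f ≫ g) := by
  intro Z Z' hZ t fstZ sndZ sqZ
  have sqY : IsPullback (pullback.fst g t) (pullback.snd g t) g t := IsPullback.of_hasPullback _ _
  have hYZ : IsAlgSpace (pullback g t) := isAlgSpace_of_isPullback hW hY hZ sqY
  have hw : (fstZ ≫ f) ≫ g = sndZ ≫ t := by rw [Category.assoc, sqZ.w]
  have sqL : IsPullback fstZ (sqY.lift _ _ hw) f (pullback.fst g t) := by
    refine IsPullback.of_bot ?_ (sqY.lift_fst _ _ hw).symm sqY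
    rw [sqY.lift_snd]
    exact sqZ
  have h1 : IsOpenMor (sqY.lift _ _ hw) := hf hYZ _ _ _ sqL
  have h2 : IsOpenMor (pullback.snd g t) := hg hZ t _ _ sqY
  have e : sndZ = sqY.lift _ _ hw ≫ pullback.snd g t := (sqY.lift_snd _ _ hw).symm
  intro C hC
  rw [e]
  have : Points.map (sqY.lift _ _ hw ≫ pullback.snd g t) '' C =
      Points.map (pullback.snd g t) '' (Points.map (sqY.lift _ _ hw) '' C) := by
    rw [Set.image_image]
    apply Set.image_congr
    intro x _
    exact Points.map_comp _ _ _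
  rw [this]
  exact h2 _ (h1 _ hC)

/-- The four properties of the statement, bundled with algebraicity of source and target. -/
def SFUA {X Y : Sp S} (f : X ⟶ Y) : Prop :=
  IsAlgSpace X ∧ IsAlgSpace Y ∧ IsSurjectiveMor f ∧ LocP @Flat f ∧ IsUnivOpenMor f ∧ IsAffineMor f

theorem SFUA.of_isPullback {X Y X' Y' : Sp S} {f : X ⟶ Y} {g : Y' ⟶ Y} {f' : X' ⟶ Y'}
    {g' : X' ⟶ X} (sq : IsPullback g' f' f g) (hY' : IsAlgSpace Y') (hf : SFUA f) : SFUA f' := by
  obtain ⟨hX, hY, h1, h2, h3, h4⟩ := hf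
  have hX' : IsAlgSpace X' := isAlgSpace_of_isPullback hY.diag hX hY' sq
  refine ⟨hX', hY', isSurjectiveMor_of_isPullback sq h1,
    locP_listed_of_isPullback @Flat (Or.inr (Or.inr (Or.inl rfl))) hX hY hY' sq h2,
    UnivSp.of_isPullback sq h3, ?_⟩
  rw [isAffineMor_iff_affRep] at h4 ⊢
  exact (AffRep (S := S) @IsAffineHom).of_isPullback sq h4

theorem SFUA.comp {X Y Z : Sp S} {f : X ⟶ Y} {g : Y ⟶ Z} (hf : SFUA f) (hg : SFUA g) :
    SFUA (f ≫ g) := by
  obtain ⟨hX, hY, h1, h2, h3, h4⟩ := hf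
  obtain ⟨-, hZ, g1, g2, g3, g4⟩ := hg
  refine ⟨hX, hZ, ?_, locP_listed_comp @Flat (Or.inr (Or.inr (Or.inl rfl))) hX hY hZ f g h2 g2,
    isUnivOpenMor_comp hY hZ.diag f g h3 g3, ?_⟩
  · intro z
    obtain ⟨y, rfl⟩ := g1 z
    obtain ⟨x, rfl⟩ := h1 y
    exact ⟨x, Points.map_comp _ _ _⟩
  · rw [isAffineMor_iff_affRep] at h4 g4 ⊢
    exact (AffRep (S := S) @IsAffineHom).comp_mem _ _ h4 g4

/-- The map `U' ×_B U' ⟶ U ×_B U` induced by `f : U' ⟶ U` inherits the four properties. -/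
theorem SFUA.prodMap {U U' B : Sp S} (hB : IsAlgSpace B) (pU : U ⟶ B) (f : U' ⟶ U)
    (hf : SFUA f) :
    SFUA (pullback.map (f ≫ pU) (f ≫ pU) pU pU f f (𝟙 B) (by rw [Category.comp_id])
      (by rw [Category.comp_id])) := by
  obtain ⟨hU', hU, -⟩ := id hf
  -- first factor: `U' ×_B U' ⟶ U ×_B U'`
  have sqM : IsPullback (pullback.fst pU (f ≫ pU)) (pullback.snd pU (f ≫ pU)) pU (f ≫ pU) :=
    IsPullback.of_hasPullback _ _
  have sq' : IsPullback (pullback.fst (f ≫ pU) (f ≫ pU)) (pullback.snd (f ≫ pU) (f ≫ pU))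
      (f ≫ pU) (f ≫ pU) := IsPullback.of_hasPullback _ _
  have sq0 : IsPullback (pullback.fst pU pU) (pullback.snd pU pU) pU pU :=
    IsPullback.of_hasPullback _ _
  have hM : IsAlgSpace (pullback pU (f ≫ pU)) := isAlgSpace_of_isPullback hB.diag hU hU' sqM
  have h0 : IsAlgSpace (pullback pU pU) := isAlgSpace_of_isPullback hB.diag hU hU sq0
  let m1 : pullback (f ≫ pU) (f ≫ pU) ⟶ pullback pU (f ≫ pU) :=
    pullback.lift (pullback.fst _ _ ≫ f) (pullback.snd _ _)
      (by rw [Category.assoc, pullback.condition])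
  let m2 : pullback pU (f ≫ pU) ⟶ pullback pU pU :=
    pullback.lift (pullback.fst _ _) (pullback.snd _ _ ≫ f)
      (by rw [Category.assoc, pullback.condition])
  have e : pullback.map (f ≫ pU) (f ≫ pU) pU pU f f (𝟙 B) (by rw [Category.comp_id])
      (by rw [Category.comp_id]) = m1 ≫ m2 := by
    have a1 : m2 ≫ pullback.fst pU pU = pullback.fst _ _ := pullback.lift_fst _ _ _
    have a2 : m1 ≫ pullback.fst pU (f ≫ pU) = pullback.fst _ _ ≫ f := pullback.lift_fst _ _ _
    have b1 : m2 ≫ pullback.snd pU pU = pullback.snd _ _ ≫ f := pullback.lift_snd _ _ _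
    have b2 : m1 ≫ pullback.snd pU (f ≫ pU) = pullback.snd _ _ := pullback.lift_snd _ _ _
    apply pullback.hom_ext
    · calc _ = pullback.fst _ _ ≫ f := pullback.lift_fst _ _ _
        _ = m1 ≫ pullback.fst pU (f ≫ pU) := a2.symm
        _ = m1 ≫ m2 ≫ pullback.fst pU pU := by rw [a1]
        _ = (m1 ≫ m2) ≫ _ := (Category.assoc _ _ _).symm
    · calc _ = pullback.snd _ _ ≫ f := pullback.lift_snd _ _ _
        _ = (m1 ≫ pullback.snd pU (f ≫ pU)) ≫ f := by rw [b2]
        _ = m1 ≫ m2 ≫ pullback.snd pU pU := by rw [b1, Category.assoc]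
        _ = (m1 ≫ m2) ≫ _ := (Category.assoc _ _ _).symm
  rw [e]
  -- `m1` is a base change of `f` along `fst : U ×_B U' ⟶ U`
  have sq1 : IsPullback (pullback.fst (f ≫ pU) (f ≫ pU)) m1 f (pullback.fst pU (f ≫ pU)) := by
    refine IsPullback.of_bot ?_ (pullback.lift_fst _ _ _).symm sqM
    rw [show m1 ≫ pullback.snd pU (f ≫ pU) = pullback.snd _ _ from pullback.lift_snd _ _ _]
    exact sq'
  -- `m2` is a base change of `f` along `snd : U ×_B U ⟶ U`
  have sq2 : IsPullback (pullback.snd pU (f ≫ pU)) m2 f (pullback.snd pU pU) := by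
    refine IsPullback.of_bot ?_ (pullback.lift_snd _ _ _).symm sq0.flip
    rw [show m2 ≫ pullback.fst pU pU = pullback.fst _ _ from pullback.lift_fst _ _ _]
    exact sqM.flip
  exact (SFUA.of_isPullback sq1 hM hf).comp (SFUA.of_isPullback sq2 h0 hf)

end Groth.Agent.Helper15
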