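import Groth.Agent.Lib.Helper15.GpdSpStab

/-!
# Separation of `j` versus the stabilizer and its unit section
-/

set_option autoImplicit false
universe u
open CategoryTheory CategoryTheory.Limits AlgebraicGeometry MorphismProperty Opposite
open AlgSp AlgSp.GroupoidSp

namespace Groth.Agent.Helper15

variable {S : Scheme.{u}} {B : Sp S} (G : GroupoidSp B)

theorem stabilizer_separation (hB : IsAlgSpace B) (hU : IsAlgSpace G.U) (hR : IsAlgSpace G.R)
    (eG : G.U ⟶ G.stabilizer) (heG : eG ≫ G.stabilizerι = G.e) :
    ((IsSeparatedMor G.j ↔ IsSeparatedMor G.stabilizerToU) ∧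
        (IsSeparatedMor G.j ↔ RepWith @IsClosedImmersion eG)) ∧
      ((IsQuasiSeparatedMor G.j ↔ IsQuasiSeparatedMor G.stabilizerToU) ∧
        (IsQuasiSeparatedMor G.j ↔ IsQuasiCompactMor eG)) ∧
      ((IsLocallySeparatedMor G.j → RepWith @IsImmersion eG) ∧
        (IsLocallySeparatedMor G.stabilizerToU → RepWith @IsImmersion eG)) := by
  have heU := eG_toU G eG heG
  have sqStab : IsPullback G.stabilizerι G.stabilizerToU G.j G.diag := IsPullback.of_hasPullback _ _
  have hUU : IsAlgSpace (pullback G.pU G.pU) :=
    isAlgSpace_of_isPullback hB.diag hU hU (IsPullback.of_hasPullback _ _)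
  have hStab : IsAlgSpace G.stabilizer := isAlgSpace_of_isPullback hUU.diag hR hU sqStab
  have sqD := (isPullback_diagonal_j G eG heG).flip
  have hrep : Representable eG :=
    (repWith_section G.stabilizerToU eG heU (diagonal_properties hStab G.stabilizerToU).2.1).rep
  -- the three generic steps
  have step1 : ∀ (P : MorphismProperty Scheme.{u}) [P.IsStableUnderBaseChange],
      RepWith P (pullback.diagonal G.j) → RepWith P (pullback.diagonal G.stabilizerToU) :=
    fun P _ h => (RepWith P).diagonal.of_isPullback sqStab h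
  have step2 : ∀ (P : MorphismProperty Scheme.{u}),
      RepWith P (pullback.diagonal G.stabilizerToU) → RepWith P eG :=
    fun P h => repWith_section G.stabilizerToU eG heU h
  have step3 : ∀ (P : MorphismProperty Scheme.{u}) [P.IsStableUnderBaseChange],
      RepWith P eG → RepWith P (pullback.diagonal G.j) :=
    fun P _ h => (RepWith P).of_isPullback sqD h
  refine ⟨⟨⟨step1 _, fun h => step3 _ (step2 _ h)⟩, ⟨fun h => step2 _ (step1 _ h), step3 _⟩⟩,
    ⟨⟨step1 _, fun h => step3 _ (step2 _ h)⟩,
      ⟨fun h => isQuasiCompactMor_of_repWith _ (step2 _ (step1 _ h)),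
        fun h => step3 _ (repWith_quasiCompact_of_isQuasiCompactMor _ hrep h)⟩⟩,
    ⟨fun h => step2 _ (step1 _ h), step2 _⟩⟩

end Groth.Agent.Helper15
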