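import Groth.Agent.Lib.Helper15.AlgSpSectionClosed
import Groth.Agent.Lib.Helper15.GpdSpStab2

/-!
# A groupoid over a field whose arrow space is decent has separated arrow space
-/

set_option autoImplicit false
universe u
open CategoryTheory CategoryTheory.Limits AlgebraicGeometry MorphismProperty Opposite
open AlgSp AlgSp.GroupoidSp

namespace Groth.Agent.Helper15

variable {S : Scheme.{u}}

/-- The product of two sheaves separated over `S` is separated over `S`. -/
theorem isSeparatedSp_prod {X Y : Sp S} (hX : IsSeparatedSp X) (hY : IsSeparatedSp Y) :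
    IsSeparatedSp (X ⨯ Y) := by
  have h1 : IsSeparatedMor (terminal.from Y) := repWith_diagonal_of_repWith_diag _ hY
  have h2 : IsSeparatedMor (prod.fst : X ⨯ Y ⟶ X) :=
    (RepWith @IsClosedImmersion).diagonal.of_isPullback
      (IsPullback.of_hasBinaryProduct' X Y).flip h1
  exact isSeparatedSp_of_isSeparatedMor _ h2 hX

theorem groupoid_field_decent_separated {B : Sp S} (hB : IsAlgSpace B) (G : GroupoidSp B)
    (hR : IsAlgSpace G.R) {k : Type u} [Field k] (σ : Spec (CommRingCat.of k) ⟶ S)
    (eU : G.U ≅ (yon S).obj (Over.mk σ)) (hd : IsDecent G.R) : IsSeparatedSp G.R := by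
  have hU : IsAlgSpace G.U := (IsAlgSpace.yon_obj _).of_iso eU.symm
  have hUs : IsSeparatedSp G.U := IsSeparatedSp.of_iso (isSeparatedSp_yon_field σ) eU.symm
  -- the identity section is a closed immersion
  have hp : RepWith @IsClosedImmersion (eU.inv ≫ G.e) :=
    repWith_isClosedImmersion_of_section_field hR hd σ (G.s ≫ eU.hom) (eU.inv ≫ G.e)
      (by rw [Category.assoc, ← Category.assoc G.e, G.e_s, Category.id_comp, eU.inv_hom_id])
  have he : RepWith @IsClosedImmersion G.e := by
    have : G.e = eU.hom ≫ (eU.inv ≫ G.e) := by rw [eU.hom_inv_id_assoc]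
    rw [this]
    exact (RepWith @IsClosedImmersion).comp_mem _ _ (repWith_of_isIso _ _) hp
  -- the unit section of the stabilizer
  let eG : G.U ⟶ G.stabilizer := pullback.lift G.e (𝟙 _) (by rw [e_j, Category.id_comp])
  have heG : eG ≫ G.stabilizerι = G.e := pullback.lift_fst _ _ _
  haveI : Mono G.diag := mono_of_mono_fac (diag_fst G)
  haveI : Mono G.stabilizerι := (inferInstance : Mono (pullback.fst G.j G.diag))
  have heGc : RepWith @IsClosedImmersion eG :=
    repWith_of_comp_mono eG G.stabilizerι (by rw [heG]; exact he)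
  have hj : IsSeparatedMor G.j := ((stabilizer_separation G hB hU hR eG heG).1.2).2 heGc
  -- `R ⟶ U × U` is separated
  have hm : IsSeparatedMor (G.j ≫ prod.lift (pullback.fst G.pU G.pU) (pullback.snd G.pU G.pU)) :=
    (RepWith @IsClosedImmersion).diagonal.comp_mem _ _ hj (isSeparatedMor_of_mono _)
  exact isSeparatedSp_of_isSeparatedMor _ hm (isSeparatedSp_prod hUs hUs)

end Groth.Agent.Helper15
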