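import Groth.Agent.Lib.Helper15.GpdSp
import Groth.Agent.Lib.Helper15.AlgSpOpen
import Groth.Agent.Lib.Helper15.AlgSpQc
import Groth.Agent.Lib.Helper15.AlgSpTop
import Groth.Agent.Lib.Helper15.AlgSpPoints

/-!
# Invariant quasi-compact opens for groupoids with open quasi-compact source and target
-/

set_option autoImplicit false
universe u
open CategoryTheory CategoryTheory.Limits AlgebraicGeometry MorphismProperty Opposite
open AlgSp AlgSp.GroupoidSp

namespace Groth.Agent.Helper15

variable {S : Scheme.{u}} {B : Sp S} (G : GroupoidSp B)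

/-- The saturation `t(s⁻¹ V)` of a set of points is invariant: `s ρ ∈ t(s⁻¹ V) → t ρ ∈ t(s⁻¹ V)`. -/
theorem saturation_invariant_aux (V : Set (Points G.U)) (ρ : Points G.R)
    (h : Points.map G.s ρ ∈ Points.map G.t '' (Points.map G.s ⁻¹' V)) :
    Points.map G.t ρ ∈ Points.map G.t '' (Points.map G.s ⁻¹' V) := by
  obtain ⟨ρ', hρ', hst⟩ := h
  have sq : IsPullback (pullback.fst G.s G.t) (pullback.snd G.s G.t) G.s G.t :=
    IsPullback.of_hasPullback _ _
  obtain ⟨π, h1, h2⟩ := exists_point_of_isPullback sq ρ ρ' hst.symm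
  refine ⟨Points.map G.c π, ?_, ?_⟩
  · change Points.map G.s (Points.map G.c π) ∈ V
    rw [← Points.map_comp]
    have : G.c ≫ G.s = pullback.snd G.s G.t ≫ G.s := by rw [c_eq_gcomp, gcomp_s]
    rw [this, Points.map_comp, h2]
    exact hρ'
  · rw [← Points.map_comp]
    have : G.c ≫ G.t = pullback.fst G.s G.t ≫ G.t := by rw [c_eq_gcomp, gcomp_t]
    rw [this, Points.map_comp, h1]

theorem saturation_invariant (V : Set (Points G.U)) (ρ : Points G.R) :
    Points.map G.t ρ ∈ Points.map G.t '' (Points.map G.s ⁻¹' V) ↔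
      Points.map G.s ρ ∈ Points.map G.t '' (Points.map G.s ⁻¹' V) := by
  constructor
  · intro h
    have := saturation_invariant_aux G V (Points.map G.i ρ)
      (by rw [← Points.map_comp, G.i_s]; exact h)
    rwa [← Points.map_comp, G.i_t] at this
  · exact saturation_invariant_aux G V ρ

/-- S10131. -/
theorem exists_invariant_quasiCompact_open (hU : IsAlgSpace G.U) (hR : IsAlgSpace G.R)
    (hs : IsQuasiCompactMor G.s) (ht : IsOpenMor G.t) (x : Points G.U) :
    ∃ (W : Sp S) (w : W ⟶ G.U), RepWith @IsOpenImmersion w ∧ G.IsInvariant w ∧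
      IsQuasiCompactSp W ∧ x ∈ Set.range (Points.map w) := by
  obtain ⟨V, hVo, hVc, hxV⟩ := exists_isOpen_isCompact_mem hU x
  obtain ⟨W', j', hW', hj', hr'⟩ := exists_open_subspace_of_isOpen hU V hVo
  have hemb' := (isEmbedding_points_of_immersion hU j'
    (repWith_mono (fun _ _ f hf => by haveI : IsOpenImmersion f := hf; infer_instance) hj')).1
  have hW'c : IsQuasiCompactSp W' := by
    rw [isQuasiCompactSp_iff_compactSpace_points hW', ← isCompact_univ_iff,
      hemb'.isCompact_iff, Set.image_univ, hr']
    exact hVc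
  have sqP : IsPullback (pullback.fst G.s j') (pullback.snd G.s j') G.s j' :=
    IsPullback.of_hasPullback _ _
  have hPc : IsQuasiCompactSp (pullback G.s j') := hs hW' hW'c j' _ _ sqP
  haveI := compactSpace_points_of_isQuasiCompactSp hPc
  set Wset : Set (Points G.U) := Points.map G.t '' (Points.map G.s ⁻¹' V) with hWset
  have hWo : IsOpen Wset := ht _ (hVo.preimage (Points.continuous_map G.s))
  have hWeq : Wset = Set.range (Points.map (pullback.fst G.s j' ≫ G.t)) := by
    ext y
    constructor
    · rintro ⟨ρ, hρ, rfl⟩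
      have hρ' : Points.map G.s ρ ∈ Set.range (Points.map j') := by rw [hr']; exact hρ
      obtain ⟨z, hz⟩ := hρ'
      obtain ⟨π, h1, -⟩ := exists_point_of_isPullback sqP ρ z hz.symm
      exact ⟨π, by rw [Points.map_comp, h1]⟩
    · rintro ⟨π, rfl⟩
      refine ⟨Points.map (pullback.fst G.s j') π, ?_, (Points.map_comp _ _ _).symm⟩
      change Points.map G.s _ ∈ V
      rw [← Points.map_comp, sqP.w, Points.map_comp, ← hr']
      exact ⟨_, rfl⟩
  have hWc : IsCompact Wset := by
    rw [hWeq]
    exact isCompact_range (Points.continuous_map _)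
  obtain ⟨W, w, hW, hw, hr⟩ := exists_open_subspace_of_isOpen hU Wset hWo
  have hemb := (isEmbedding_points_of_immersion hU w
    (repWith_mono (fun _ _ f hf => by haveI : IsOpenImmersion f := hf; infer_instance) hw)).1
  refine ⟨W, w, hw, ?_, ?_, ?_⟩
  · intro T r
    rw [factors_through_open_iff w hw, factors_through_open_iff w hw, hr]
    constructor
    · rintro h _ ⟨p, rfl⟩
      rw [Points.map_comp]
      exact (saturation_invariant G V _).1 (by rw [← Points.map_comp]; exact h ⟨p, rfl⟩)
    · rintro h _ ⟨p, rfl⟩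
      rw [Points.map_comp]
      exact (saturation_invariant G V _).2 (by rw [← Points.map_comp]; exact h ⟨p, rfl⟩)
  · rw [isQuasiCompactSp_iff_compactSpace_points hW, ← isCompact_univ_iff,
      hemb.isCompact_iff, Set.image_univ, hr]
    exact hWc
  · rw [hr]
    refine ⟨Points.map G.e x, ?_, ?_⟩
    · change Points.map G.s _ ∈ V
      rw [← Points.map_comp, G.e_s, Points.map_id]
      exact hxV
    · rw [← Points.map_comp, G.e_t, Points.map_id]

end Groth.Agent.Helper15
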