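import Groth.Agent.Lib.Helper15.GpdSp
import Groth.Agent.Lib.Helper15.AlgSpDiagMor
import Groth.Agent.Lib.Helper15.AlgSpUniv
import Groth.Agent.Lib.Helper15.AlgSpFibre

/-!
# The diagonal of `j : R ⟶ U ×_B U` is a base change of the unit section of the stabilizer
-/

set_option autoImplicit false
universe u
open CategoryTheory CategoryTheory.Limits AlgebraicGeometry MorphismProperty Opposite
open AlgSp AlgSp.GroupoidSp

namespace Groth.Agent.Helper15

variable {S : Scheme.{u}} {B : Sp S} (G : GroupoidSp B)

theorem diag_fst : G.diag ≫ pullback.fst G.pU G.pU = 𝟙 _ := pullback.lift_fst _ _ _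
theorem diag_snd : G.diag ≫ pullback.snd G.pU G.pU = 𝟙 _ := pullback.lift_snd _ _ _

theorem e_j : G.e ≫ G.j = G.diag := by
  apply pullback.hom_ext
  · rw [Category.assoc, GroupoidSp.j_fst, G.e_t, diag_fst]
  · rw [Category.assoc, GroupoidSp.j_snd, G.e_s, diag_snd]

/-- A lift of the identity section to the stabilizer is a section of the structure map. -/
theorem eG_toU (eG : G.U ⟶ G.stabilizer) (heG : eG ≫ G.stabilizerι = G.e) :
    eG ≫ G.stabilizerToU = 𝟙 _ := by
  have h1 : eG ≫ G.stabilizerToU ≫ G.diag = G.diag := by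
    have : G.stabilizerι ≫ G.j = G.stabilizerToU ≫ G.diag := pullback.condition
    rw [← this, ← Category.assoc, heG, e_j]
  have := congrArg (fun z => z ≫ pullback.fst G.pU G.pU) h1
  simpa only [Category.assoc, diag_fst, Category.comp_id] using this

theorem pj_t : pullback.fst G.j G.j ≫ G.t = pullback.snd G.j G.j ≫ G.t := by
  have := congrArg (fun z => z ≫ pullback.fst G.pU G.pU) (pullback.condition (f := G.j) (g := G.j))
  simpa only [Category.assoc, GroupoidSp.j_fst] using this

theorem pj_s : pullback.fst G.j G.j ≫ G.s = pullback.snd G.j G.j ≫ G.s := by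
  have := congrArg (fun z => z ≫ pullback.snd G.pU G.pU) (pullback.condition (f := G.j) (g := G.j))
  simpa only [Category.assoc, GroupoidSp.j_snd] using this

/-- `(r, r') ↦ r⁻¹ ∘ r'` on `R ×_{U ×_B U} R`. -/
noncomputable def rho : pullback G.j G.j ⟶ G.R :=
  gcomp G (pullback.fst G.j G.j ≫ G.i) (pullback.snd G.j G.j)
    (by rw [Category.assoc, G.i_s, pj_t])

theorem rho_t : rho G ≫ G.t = pullback.snd G.j G.j ≫ G.s := by
  unfold rho
  rw [gcomp_t, Category.assoc, G.i_t, pj_s]

theorem rho_s : rho G ≫ G.s = pullback.snd G.j G.j ≫ G.s := by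
  unfold rho
  rw [gcomp_s]

/-- `(r, r') ↦ r⁻¹ ∘ r'` as a map to the stabilizer. -/
noncomputable def delta : pullback G.j G.j ⟶ G.stabilizer :=
  pullback.lift (rho G) (pullback.snd G.j G.j ≫ G.s) (by
    apply pullback.hom_ext
    · rw [Category.assoc, GroupoidSp.j_fst, rho_t, Category.assoc, Category.assoc, diag_fst,
        Category.comp_id]
    · rw [Category.assoc, GroupoidSp.j_snd, rho_s, Category.assoc, Category.assoc, diag_snd,
        Category.comp_id])

theorem delta_ι : delta G ≫ G.stabilizerι = rho G := pullback.lift_fst _ _ _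
theorem delta_toU : delta G ≫ G.stabilizerToU = pullback.snd G.j G.j ≫ G.s :=
  pullback.lift_snd _ _ _

theorem comp_rho {T : Sp S} (x : T ⟶ pullback G.j G.j) :
    x ≫ rho G = gcomp G ((x ≫ pullback.fst G.j G.j) ≫ G.i) (x ≫ pullback.snd G.j G.j)
      (by rw [Category.assoc, Category.assoc, G.i_s, pj_t, Category.assoc]) := by
  unfold rho
  rw [precomp_gcomp]
  exact gcomp_congr G _ (by rw [Category.assoc]) rfl

/-- The diagonal of `j` is a base change of the unit section of the stabilizer. -/
theorem isPullback_diagonal_j (eG : G.U ⟶ G.stabilizer) (heG : eG ≫ G.stabilizerι = G.e) :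
    IsPullback (pullback.diagonal G.j) G.s (delta G) eG := by
  have heU := eG_toU G eG heG
  have hw : pullback.diagonal G.j ≫ delta G = G.s ≫ eG := by
    apply pullback.hom_ext
    · change _ ≫ G.stabilizerι = _ ≫ G.stabilizerι
      rw [Category.assoc, delta_ι, Category.assoc, heG, comp_rho]
      have := i_gcomp G (𝟙 G.R)
      refine Eq.trans ?_ (this.trans (by rw [Category.id_comp]))
      exact gcomp_congr G _ (by simp) (by simp)
    · change _ ≫ G.stabilizerToU = _ ≫ G.stabilizerToU
      rw [Category.assoc, delta_toU, Category.assoc, heU, Category.comp_id, ← Category.assoc,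
        pullback.diagonal_snd, Category.id_comp]
  refine ⟨⟨hw⟩, ⟨PullbackCone.IsLimit.mk _ (fun c => c.fst ≫ pullback.snd G.j G.j) ?_ ?_ ?_⟩⟩
  · intro c
    -- key: the two components of `c.fst` agree
    have hc := c.condition
    have h1 : c.fst ≫ rho G = c.snd ≫ G.e := by
      have := congrArg (fun z => z ≫ G.stabilizerι) hc
      simpa only [Category.assoc, delta_ι, heG] using this
    have h2 : (c.fst ≫ pullback.snd G.j G.j) ≫ G.s = c.snd := by
      have := congrArg (fun z => z ≫ G.stabilizerToU) hc
      simpa only [Category.assoc, delta_toU, heU, Category.comp_id] using this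
    have ht : (c.fst ≫ pullback.fst G.j G.j) ≫ G.t = (c.fst ≫ pullback.snd G.j G.j) ≫ G.t := by
      rw [Category.assoc, Category.assoc, pj_t]
    have hs : (c.fst ≫ pullback.fst G.j G.j) ≫ G.s = (c.fst ≫ pullback.snd G.j G.j) ≫ G.s := by
      rw [Category.assoc, Category.assoc, pj_s]
    have key : c.fst ≫ pullback.fst G.j G.j = c.fst ≫ pullback.snd G.j G.j := by
      have h3 := gcomp_i_gcomp' G (c.fst ≫ pullback.fst G.j G.j) (c.fst ≫ pullback.snd G.j G.j) ht
      rw [comp_rho] at h1
      have h4 := gcomp_e G (c.fst ≫ pullback.fst G.j G.j) (c.snd ≫ G.e) (by rw [hs, h2])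
      refine h4.symm.trans (Eq.trans ?_ h3)
      exact gcomp_congr G _ rfl h1.symm
    apply pullback.hom_ext
    · rw [Category.assoc, pullback.diagonal_fst, Category.comp_id, key]
    · rw [Category.assoc, pullback.diagonal_snd, Category.comp_id]
  · intro c
    have hc := c.condition
    have := congrArg (fun z => z ≫ G.stabilizerToU) hc
    simpa only [Category.assoc, delta_toU, heU, Category.comp_id] using this
  · intro c m h1 _
    rw [← h1, Category.assoc, pullback.diagonal_snd, Category.comp_id]

end Groth.Agent.Helper15
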