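import Mathlib

set_option autoImplicit false
universe u
open CategoryTheory CategoryTheory.Limits AlgebraicGeometry TensorProduct

namespace Groth.Agent.Helper15

/-- `x` has an open neighbourhood on which `f` is formally unramified. -/
def UnrNear {X Y : Scheme.{u}} (f : X ⟶ Y) (x : X) : Prop :=
  ∃ U : X.Opens, x ∈ U ∧ FormallyUnramified (U.ι ≫ f)

section T
variable {V X Y Z : Scheme.{u}}

lemma formallyUnramified_comp_of_range_le (j : V ⟶ X) [IsOpenImmersion j] (h : X ⟶ Y)
    (U : X.Opens) (hU : FormallyUnramified (U.ι ≫ h)) (hj : j.opensRange ≤ U) :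
    FormallyUnramified (j ≫ h) := by
  have hsub : Set.range j ⊆ Set.range U.ι := by
    rw [Scheme.Opens.range_ι]
    exact hj
  have hfac : IsOpenImmersion.lift U.ι j hsub ≫ U.ι = j := IsOpenImmersion.lift_fac _ _ _
  have : IsOpenImmersion (IsOpenImmersion.lift U.ι j hsub) := by
    have : IsOpenImmersion (IsOpenImmersion.lift U.ι j hsub ≫ U.ι) := by rw [hfac]; infer_instance
    exact IsOpenImmersion.of_comp _ U.ι
  rw [← hfac, Category.assoc]
  exact MorphismProperty.comp_mem _ _ _ inferInstance hU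

lemma UnrNear.of_comp_openImmersion (j : V ⟶ X) [IsOpenImmersion j] (h : X ⟶ Y)
    (hjh : FormallyUnramified (j ≫ h)) (y : V) : UnrNear h (j y) := by
  refine ⟨j.opensRange, ⟨y, rfl⟩, ?_⟩
  have e : j.opensRange.ι = (IsOpenImmersion.isoOfRangeEq j.opensRange.ι j (by simp)).hom ≫ j :=
    (IsOpenImmersion.isoOfRangeEq_hom_fac _ _ _).symm
  rw [e, Category.assoc]
  exact MorphismProperty.comp_mem _ _ _ inferInstance hjh

lemma UnrNear.comp_openImmersion_left (j : V ⟶ X) [IsOpenImmersion j] (h : X ⟶ Y) (y : V)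
    (H : UnrNear h (j y)) : UnrNear (j ≫ h) y := by
  obtain ⟨U, hyU, hU⟩ := H
  refine ⟨j ⁻¹ᵁ U, hyU, ?_⟩
  rw [← Category.assoc]
  refine formallyUnramified_comp_of_range_le ((j ⁻¹ᵁ U).ι ≫ j) h U hU ?_
  rintro _ ⟨z, rfl⟩
  exact z.2

lemma UnrNear.of_comp_openImmersion_left (j : V ⟶ X) [IsOpenImmersion j] (h : X ⟶ Y) (y : V)
    (H : UnrNear (j ≫ h) y) : UnrNear h (j y) := by
  obtain ⟨U₀, hy, hU₀⟩ := H
  rw [← Category.assoc] at hU₀
  exact UnrNear.of_comp_openImmersion (U₀.ι ≫ j) h hU₀ ⟨y, hy⟩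

lemma UnrNear.of_comp_right (h : X ⟶ Y) (i : Y ⟶ Z) (y : X) (H : UnrNear (h ≫ i) y) :
    UnrNear h y := by
  obtain ⟨U, hy, hU⟩ := H
  rw [← Category.assoc] at hU
  exact ⟨U, hy, FormallyUnramified.of_comp _ i⟩

lemma UnrNear.comp_right (h : X ⟶ Y) (i : Y ⟶ Z) [FormallyUnramified i] (y : X) (H : UnrNear h y) :
    UnrNear (h ≫ i) y := by
  obtain ⟨U, hy, hU⟩ := H
  refine ⟨U, hy, ?_⟩
  rw [← Category.assoc]
  exact MorphismProperty.comp_mem _ _ _ hU inferInstance

end T


section SpecA
variable {R A : Type u} [CommRing R] [CommRing A] [Algebra R A]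

lemma formallyUnramified_SpecMap_away_iff (a : A) :
    FormallyUnramified (Spec.map (CommRingCat.ofHom (algebraMap A (Localization.Away a))) ≫
      Spec.map (CommRingCat.ofHom (algebraMap R A))) ↔
      Algebra.FormallyUnramified R (Localization.Away a) := by
  rw [← Spec.map_comp, HasRingHomProperty.Spec_iff (P := @FormallyUnramified),
    ← RingHom.formallyUnramified_algebraMap (R := R) (S := Localization.Away a)]
  rfl

lemma mem_unramifiedLocus_of_unrNear (x : PrimeSpectrum A)
    (H : UnrNear (Spec.map (CommRingCat.ofHom (algebraMap R A))) x) :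
    x ∈ Algebra.unramifiedLocus R A := by
  obtain ⟨U, hxU, hU⟩ := H
  obtain ⟨_, ⟨_, ⟨a, rfl⟩, rfl⟩, hxa, haU⟩ :=
    PrimeSpectrum.isBasis_basic_opens.exists_subset_of_mem_open hxU U.2
  have hr : Set.range (Spec.map (CommRingCat.ofHom (algebraMap A (Localization.Away a)))) =
      (PrimeSpectrum.basicOpen a : Set (PrimeSpectrum A)) :=
    PrimeSpectrum.localization_away_comap_range _ a
  have := formallyUnramified_comp_of_range_le
    (Spec.map (CommRingCat.ofHom (algebraMap A (Localization.Away a)))) _ U hU (by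
      intro z hz
      apply haU
      rw [← hr]
      exact hz)
  rw [formallyUnramified_SpecMap_away_iff] at this
  exact Algebra.basicOpen_subset_unramifiedLocus_iff.mpr this hxa

lemma unrNear_of_mem_unramifiedLocus [Algebra.FiniteType R A] (x : PrimeSpectrum A)
    (hx : x ∈ Algebra.unramifiedLocus R A) :
    UnrNear (Spec.map (CommRingCat.ofHom (algebraMap R A))) x := by
  have : Algebra.IsUnramifiedAt R x.asIdeal := hx
  obtain ⟨a, hax, hFU⟩ := Algebra.exists_formallyUnramified_of_isUnramifiedAt (R := R) x.asIdeal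
  have hr : Set.range (Spec.map (CommRingCat.ofHom (algebraMap A (Localization.Away a)))) =
      (PrimeSpectrum.basicOpen a : Set (PrimeSpectrum A)) :=
    PrimeSpectrum.localization_away_comap_range _ a
  have hxr : x ∈ Set.range (Spec.map (CommRingCat.ofHom (algebraMap A (Localization.Away a)))) := by
    rw [hr]; exact hax
  obtain ⟨y, rfl⟩ := hxr
  exact UnrNear.of_comp_openImmersion _ _ ((formallyUnramified_SpecMap_away_iff a).mpr hFU) y

end SpecA

/-- support of a finite module pulls back under base change (one direction). -/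
lemma mem_support_baseChange_of_comap_mem {A A' M : Type*} [CommRing A] [CommRing A'] [Algebra A A']
    [AddCommGroup M] [Module A M] [Module.Finite A M] (q' : PrimeSpectrum A')
    (h : q'.comap (algebraMap A A') ∈ Module.support A M) :
    q' ∈ Module.support A' (A' ⊗[A] M) := by
  rw [Module.mem_support_iff_nontrivial_residueField_tensorProduct] at h ⊢
  set q := q'.comap (algebraMap A A') with hq
  let K := q.asIdeal.ResidueField
  let K' := q'.asIdeal.ResidueField
  let φ : K →+* K' := Ideal.ResidueField.map q.asIdeal q'.asIdeal (algebraMap A A') rfl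
  let _ : Algebra K K' := φ.toAlgebra
  have : IsScalarTower A K K' := IsScalarTower.of_algebraMap_eq' (by
    ext r
    simp only [RingHom.coe_comp, Function.comp_apply]
    rw [RingHom.algebraMap_toAlgebra]
    change _ = φ _
    rw [Ideal.ResidueField.map_algebraMap]
    exact (IsScalarTower.algebraMap_apply A A' K' r))
  have e1 : K' ⊗[A'] (A' ⊗[A] M) ≃ₗ[K'] K' ⊗[A] M :=
    AlgebraTensorModule.cancelBaseChange A A' K' K' M
  have e2 : K' ⊗[K] (K ⊗[A] M) ≃ₗ[K'] K' ⊗[A] M :=
    AlgebraTensorModule.cancelBaseChange A K K' K' M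
  rw [e1.nontrivial_congr, ← e2.nontrivial_congr]
  exact (Module.FaithfullyFlat.nontrivial_tensorProduct_iff_right (R := K) (M := K')).mpr h

/-- The unramified locus pulls back under base change (the non-formal direction). -/
lemma comap_mem_unramifiedLocus_of_isPushout {R S A B : Type*} [CommRing R] [CommRing S]
    [CommRing A] [CommRing B] [Algebra R S] [Algebra R A] [Algebra R B] [Algebra S B] [Algebra A B]
    [IsScalarTower R S B] [IsScalarTower R A B] [Algebra.IsPushout R S A B]
    [Algebra.FiniteType R A] (q' : PrimeSpectrum B) (h : q' ∈ Algebra.unramifiedLocus S B) :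
    q'.comap (algebraMap A B) ∈ Algebra.unramifiedLocus R A := by
  rw [Algebra.unramifiedLocus_eq_compl_support] at h ⊢
  intro hq
  apply h
  have := mem_support_baseChange_of_comap_mem (M := Ω[A⁄R]) q' hq
  rwa [(KaehlerDifferential.tensorKaehlerEquiv R S A B).support_eq] at this


section SpecCase
variable {R A R' : Type u} [CommRing R] [CommRing A] [CommRing R'] [Algebra R A] [Algebra R R']

attribute [local instance] Algebra.TensorProduct.rightAlgebra in
lemma unrNear_fst_of_unrNear_snd_Spec [Algebra.FiniteType R A]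
    (x' : ↑(pullback (Spec.map (CommRingCat.ofHom (algebraMap R A)))
      (Spec.map (CommRingCat.ofHom (algebraMap R R')))))
    (H : UnrNear (pullback.snd (Spec.map (CommRingCat.ofHom (algebraMap R A)))
      (Spec.map (CommRingCat.ofHom (algebraMap R R')))) x') :
    UnrNear (Spec.map (CommRingCat.ofHom (algebraMap R A)))
      (pullback.fst (Spec.map (CommRingCat.ofHom (algebraMap R A)))
        (Spec.map (CommRingCat.ofHom (algebraMap R R'))) x') := by
  let e := pullbackSpecIso R A R'
  have hx' : x' = e.inv (e.hom x') := by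
    rw [← Scheme.Hom.comp_apply, Iso.hom_inv_id]; rfl
  rw [hx'] at H
  have H1 := UnrNear.comp_openImmersion_left e.inv _ _ H
  rw [pullbackSpecIso_inv_snd] at H1
  have H2 : (e.hom x' : PrimeSpectrum (A ⊗[R] R')) ∈ Algebra.unramifiedLocus R' (A ⊗[R] R') :=
    mem_unramifiedLocus_of_unrNear (R := R') (A := A ⊗[R] R') _ H1
  have H3 := comap_mem_unramifiedLocus_of_isPushout (R := R) (S := R') (A := A) (B := A ⊗[R] R')
    _ H2
  have H4 := unrNear_of_mem_unramifiedLocus _ H3
  convert H4 using 1
  rw [← pullbackSpecIso_hom_fst' R A R', Scheme.Hom.comp_apply]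
  rfl

end SpecCase


section General
variable {X S S' : Scheme.{u}}

theorem unrNear_fst_of_unrNear_snd (f : X ⟶ S) [LocallyOfFiniteType f] (g : S' ⟶ S)
    (x' : ↑(pullback f g)) (H : UnrNear (pullback.snd f g) x') :
    UnrNear f (pullback.fst f g x') := by
  have hcond : f (pullback.fst f g x') = g (pullback.snd f g x') := by
    rw [← Scheme.Hom.comp_apply, ← Scheme.Hom.comp_apply, pullback.condition]
  obtain ⟨W, hW, hsW, -⟩ := TopologicalSpace.Opens.isBasis_iff_nbhd.mp S.isBasis_affineOpens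
    (TopologicalSpace.Opens.mem_top (f (pullback.fst f g x')))
  obtain ⟨V, hV, hxV, eV⟩ := TopologicalSpace.Opens.isBasis_iff_nbhd.mp X.isBasis_affineOpens
    (show pullback.fst f g x' ∈ f ⁻¹ᵁ W from hsW)
  obtain ⟨W', hW', hsW', eW'⟩ := TopologicalSpace.Opens.isBasis_iff_nbhd.mp S'.isBasis_affineOpens
    (show pullback.snd f g x' ∈ g ⁻¹ᵁ W from (show g (pullback.snd f g x') ∈ W from hcond ▸ hsW))
  have hft : (f.appLE W V eV).hom.FiniteType :=
    HasRingHomProperty.appLE (P := @LocallyOfFiniteType) _ ‹_› ⟨W, hW⟩ ⟨V, hV⟩ eV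
  have e₁ : Spec.map (f.appLE W V eV) ≫ hW.fromSpec = hV.fromSpec ≫ f :=
    IsAffineOpen.SpecMap_appLE_fromSpec f hW hV eV
  have e₂ : Spec.map (g.appLE W W' eW') ≫ hW.fromSpec = hW'.fromSpec ≫ g :=
    IsAffineOpen.SpecMap_appLE_fromSpec g hW hW' eW'
  let j := pullback.map (Spec.map (f.appLE W V eV)) (Spec.map (g.appLE W W' eW')) f g
    hV.fromSpec hW'.fromSpec hW.fromSpec e₁ e₂
  have hxj : x' ∈ Set.range j := by
    rw [Scheme.Pullback.range_map]
    refine ⟨?_, ?_⟩
    · change pullback.fst f g x' ∈ Set.range hV.fromSpec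
      rw [hV.range_fromSpec]; exact hxV
    · change pullback.snd f g x' ∈ Set.range hW'.fromSpec
      rw [hW'.range_fromSpec]; exact hsW'
  obtain ⟨y, rfl⟩ := hxj
  have H1 := UnrNear.comp_openImmersion_left j _ y H
  have hj2 : j ≫ pullback.snd f g = pullback.snd _ _ ≫ hW'.fromSpec := pullback.lift_snd _ _ _
  have hj1 : j ≫ pullback.fst f g = pullback.fst _ _ ≫ hV.fromSpec := pullback.lift_fst _ _ _
  rw [hj2] at H1
  have H2 := UnrNear.of_comp_right _ _ y H1
  algebraize [(f.appLE W V eV).hom, (g.appLE W W' eW').hom]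
  have H3 := unrNear_fst_of_unrNear_snd_Spec (R := Γ(S, W)) (A := Γ(X, V)) (R' := Γ(S', W')) y H2
  have H4 := UnrNear.comp_right _ hW.fromSpec _ H3
  have e₁' : Spec.map (CommRingCat.ofHom (algebraMap Γ(S, W) Γ(X, V))) ≫ hW.fromSpec =
      hV.fromSpec ≫ f := e₁
  rw [e₁'] at H4
  have H5 := UnrNear.of_comp_openImmersion_left hV.fromSpec f _ H4
  convert H5 using 1
  rw [← Scheme.Hom.comp_apply, hj1, Scheme.Hom.comp_apply]
  rfl

theorem unrNear_snd_of_unrNear_fst (f : X ⟶ S) (g : S' ⟶ S)
    (x' : ↑(pullback f g)) (H : UnrNear f (pullback.fst f g x')) :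
    UnrNear (pullback.snd f g) x' := by
  obtain ⟨U, hxU, hU⟩ := H
  refine ⟨pullback.fst f g ⁻¹ᵁ U, hxU, ?_⟩
  have sq := (isPullback_morphismRestrict (pullback.fst f g) U).paste_vert
    (IsPullback.of_hasPullback f g)
  exact MorphismProperty.of_isPullback (P := @FormallyUnramified) sq hU

end General

end Groth.Agent.Helper15
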