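import Groth.Agent.Lib.Helper15.ChartBC
import Groth.Agent.Lib.Helper15.UnrLocusBC

set_option autoImplicit false
universe u
open CategoryTheory CategoryTheory.Limits AlgebraicGeometry Opposite
open AlgSp Groth.Agent.Helper16.AS

namespace Groth.Agent.Helper15.ChartBC

theorem unrNear_of_isPullback {P X Y Z : Scheme.{u}} {fst : P ⟶ X} {snd : P ⟶ Y} {f : X ⟶ Z}
    {g : Y ⟶ Z} (sq : IsPullback fst snd f g) [LocallyOfFiniteType f] (p : P)
    (H : UnrNear snd p) : UnrNear f (fst p) := by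
  have e1 : sq.isoPullback.hom ≫ pullback.fst f g = fst := sq.isoPullback_hom_fst
  have e2 : sq.isoPullback.hom ≫ pullback.snd f g = snd := sq.isoPullback_hom_snd
  rw [← e2] at H
  have H1 := UnrNear.of_comp_openImmersion_left sq.isoPullback.hom (pullback.snd f g) p H
  have H2 := unrNear_fst_of_unrNear_snd f g _ H1
  rw [← Scheme.Hom.comp_apply, e1] at H2
  exact H2

theorem unrNear_snd_of_isPullback {P X Y Z : Scheme.{u}} {fst : P ⟶ X} {snd : P ⟶ Y} {f : X ⟶ Z}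
    {g : Y ⟶ Z} (sq : IsPullback fst snd f g) (p : P)
    (H : UnrNear f (fst p)) : UnrNear snd p := by
  obtain ⟨U, hxU, hU⟩ := H
  refine ⟨fst ⁻¹ᵁ U, hxU, ?_⟩
  have sq' := (isPullback_morphismRestrict fst U).paste_vert sq
  exact MorphismProperty.of_isPullback (P := @FormallyUnramified) sq' hU

variable {S : Scheme.{u}}

theorem unramified_locus_baseChange {X Y Z Y' X' : Sp S} (hX : IsAlgSpace X) (hY : IsAlgSpace Y)
    (hZ : IsAlgSpace Z) (hY' : IsAlgSpace Y') (hX' : IsAlgSpace X') (f : X ⟶ Y) (q : Y ⟶ Z)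
    (hp : LocP @LocallyOfFiniteType (f ≫ q)) (a : Y' ⟶ Y) (b : X' ⟶ X) (f' : X' ⟶ Y')
    (sq2 : IsPullback b f' f a) :
    {x' : Points X' | HasAtMor (fun U _ h u => ∃ W : U.Opens, u ∈ W ∧
        (@LocallyOfFiniteType ⊓ @FormallyUnramified : MorphismProperty Scheme.{u}) (W.ι ≫ h)) f' x'} =
      Points.map b ⁻¹' {x : Points X | HasAtMor (fun U _ h u => ∃ W : U.Opens, u ∈ W ∧
        (@LocallyOfFiniteType ⊓ @FormallyUnramified : MorphismProperty Scheme.{u}) (W.ι ≫ h)) f x} := by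
  have hP : ∀ ⦃A B : Scheme.{u}⦄ (g : A ⟶ B),
      (@LocallyOfFiniteType ⊓ @FormallyUnramified : MorphismProperty Scheme.{u}) g ↔
        (LocallyOfFiniteType g ∧ FormallyUnramified g) := fun A B g => Iff.rfl
  have hfl : LocP @LocallyOfFiniteType f := locP_lft_of_comp hZ f q hp
  ext x'
  obtain ⟨U, V, α, β, h, u, hα, hβ, hcomm, hux, hlft⟩ :=
    Groth.Agent.Helper15.Trdeg.exists_chart_at hX hY f hfl (Points.map b x')
  obtain ⟨U'', V'', α'', β', π₁, π₂, ν₀, u'', hα'', hβ', c1, c2, c3, sqU, hu1, hu2⟩ :=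
    exists_chart_baseChange hY hY' sq2 α β h hα hβ hcomm u x' hux
  haveI : LocallyOfFiniteType h.left := hlft
  haveI : LocallyOfFiniteType π₂.left := MorphismProperty.of_isPullback sqU hlft
  constructor
  · intro hx'
    obtain ⟨X₀', j', hX₀', hj', hmem, hloc⟩ :=
      (hasAtMor_nbhd_iff_exists_open_subspace _
        (Or.inr (Or.inr (Or.inr (Or.inr (Or.inr (Or.inr hP)))))) hX' hY' f' x').1 hx'
    obtain ⟨W'', hW''u, hW''P⟩ :=
      exists_nbhd_of_open_subspace f' j' hj' hloc α'' β' π₂ hα'' hβ' c1 u'' (hu2 ▸ hmem)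
    have H1 : UnrNear π₂.left u'' := ⟨W'', hW''u, hW''P.2⟩
    have H2 : UnrNear h.left (π₁.left u'') := unrNear_of_isPullback sqU u'' H1
    rw [hu1] at H2
    obtain ⟨W, hWu, hWP⟩ := H2
    exact ⟨U, V, α, β, h, u, hα, hβ, hcomm, hux, W, hWu, inferInstance, hWP⟩
  · intro hx
    obtain ⟨X₀, j, hX₀, hj, hmem, hloc⟩ :=
      (hasAtMor_nbhd_iff_exists_open_subspace _
        (Or.inr (Or.inr (Or.inr (Or.inr (Or.inr (Or.inr hP)))))) hX hY f (Points.map b x')).1 hx
    obtain ⟨W, hWu, hWP⟩ :=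
      exists_nbhd_of_open_subspace f j hj hloc α β h hα hβ hcomm u (hux ▸ hmem)
    have H1 : UnrNear h.left u := ⟨W, hWu, hWP.2⟩
    have H2 : UnrNear π₂.left u'' := unrNear_snd_of_isPullback sqU u'' (hu1 ▸ H1)
    obtain ⟨W'', hW''u, hW''P⟩ := H2
    exact ⟨U'', V'', α'', β', π₂, u'', hα'', hβ', c1, hu2, W'', hW''u, inferInstance, hW''P⟩

end Groth.Agent.Helper15.ChartBC
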