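import Groth.Agent.Lib.Helper15.GrpTranslate
import Groth.Agent.Lib.Helper15.QFLocusSp
import Groth.Agent.Lib.Helper15.UnrLocusSp
import Groth.Agent.Lib.Helper15.AlgSpRepSrc

set_option autoImplicit false
universe u
open CategoryTheory CategoryTheory.Limits AlgebraicGeometry Opposite MonoidalCategory
  CartesianMonoidalCategory MonObj
open AlgSp Groth.Agent.Helper16.AS

namespace Groth.Agent.Helper15.GrpSp

variable {S : Scheme.{u}}

/-- Invariance of a chart-local locus under an automorphism over the base. -/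
theorem hasAtMor_of_iso (Q : ∀ (U V : Scheme.{u}), (U ⟶ V) → ↥U → Prop) {F K : Sp S}
    (fK : F ⟶ K) (τ : F ≅ F) (hτ : τ.hom ≫ fK = fK) (z : Points F) (H : HasAtMor Q fK z) :
    HasAtMor Q fK (Points.map τ.hom z) := by
  obtain ⟨U, V, α, β, h, u, hα, hβ, comm, hux, hQ⟩ := H
  refine ⟨U, V, α ≫ τ.hom, β, h, u, ?_, hβ, ?_, ?_, hQ⟩
  · exact ((RepWith @Etale).cancel_right_of_respectsIso α τ.hom).2 hα
  · rw [Category.assoc, hτ, comm]
  · rw [← Points.map_ofPt, hux]

theorem hasAtMor_iso_iff (Q : ∀ (U V : Scheme.{u}), (U ⟶ V) → ↥U → Prop) {F K : Sp S}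
    (fK : F ⟶ K) (τ : F ≅ F) (hτ : τ.hom ≫ fK = fK) (z : Points F) :
    HasAtMor Q fK (Points.map τ.hom z) ↔ HasAtMor Q fK z := by
  constructor
  · intro H
    have hτ' : τ.symm.hom ≫ fK = fK := by
      rw [Iso.symm_hom, Iso.inv_comp_eq, hτ]
    have := hasAtMor_of_iso Q fK τ.symm hτ' _ H
    rwa [← Points.map_comp, Iso.symm_hom, Iso.hom_inv_id, Points.map_id] at this
  · exact hasAtMor_of_iso Q fK τ hτ z

/-- The quasi-finite locus commutes with base change. -/
theorem qf_locus_baseChange {X Y Y' X' : Sp S} (hX : IsAlgSpace X) (hY : IsAlgSpace Y)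
    (hY' : IsAlgSpace Y') (hX' : IsAlgSpace X') (f : X ⟶ Y)
    (hf : LocP @LocallyOfFiniteType f) (a : Y' ⟶ Y) (b : X' ⟶ X) (f' : X' ⟶ Y')
    (sq2 : IsPullback b f' f a) :
    {x' : Points X' | HasAtMor (fun U _ h u => ∃ W : U.Opens, u ∈ W ∧
        (@LocallyQuasiFinite ⊓ @LocallyOfFiniteType : MorphismProperty Scheme.{u}) (W.ι ≫ h)) f' x'} =
      Points.map b ⁻¹' {x : Points X | HasAtMor (fun U _ h u => ∃ W : U.Opens, u ∈ W ∧
        (@LocallyQuasiFinite ⊓ @LocallyOfFiniteType : MorphismProperty Scheme.{u}) (W.ι ≫ h)) f x} := by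
  have hP : ∀ ⦃A B : Scheme.{u}⦄ (g : A ⟶ B),
      (@LocallyQuasiFinite ⊓ @LocallyOfFiniteType : MorphismProperty Scheme.{u}) g ↔
        (LocallyQuasiFinite g ∧ LocallyOfFiniteType g) := fun A B g => Iff.rfl
  ext x''
  obtain ⟨U, V, α, β, h, u, hα, hβ, hcomm, hux, hlft⟩ :=
    Groth.Agent.Helper15.Trdeg.exists_chart_at hX hY f hf (Points.map b x'')
  obtain ⟨U'', V'', α'', β', π₁, π₂, ν₀, u'', hα'', hβ', c1, c2, c3, sqU, hu1, hu2⟩ :=
    Groth.Agent.Helper15.ChartBC.exists_chart_baseChange hY hY' sq2 α β h hα hβ hcomm u x'' hux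
  haveI : LocallyOfFiniteType h.left := hlft
  haveI : LocallyOfFiniteType π₂.left := MorphismProperty.of_isPullback sqU hlft
  constructor
  · intro hx''
    obtain ⟨X₀'', j'', hX₀'', hj'', hmem, hloc⟩ :=
      (hasAtMor_nbhd_iff_exists_open_subspace _
        (Or.inr (Or.inr (Or.inr (Or.inr (Or.inr (Or.inl hP)))))) hX' hY' f' x'').1 hx''
    obtain ⟨W'', hW''u, hW''P⟩ :=
      Groth.Agent.Helper15.ChartBC.exists_nbhd_of_open_subspace f' j'' hj'' hloc α'' β' π₂ hα'' hβ'
        c1 u'' (hu2 ▸ hmem)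
    have H1 : π₂.left.QuasiFiniteAt u'' :=
      Groth.Agent.Helper15.ChartBC.quasiFiniteAt_of_nbhd π₂.left u'' W'' hW''u hW''P.1
    have H2 : h.left.QuasiFiniteAt (π₁.left u'') :=
      Groth.Agent.Helper15.FibDim.quasiFiniteAt_of_isPullback sqU u'' H1
    rw [hu1] at H2
    refine ⟨U, V, α, β, h, u, hα, hβ, hcomm, hux, h.left.quasiFiniteLocus, H2, ?_, ?_⟩
    · show LocallyQuasiFinite (h.left.quasiFiniteLocus.ι ≫ h.left)
      infer_instance
    · show LocallyOfFiniteType (h.left.quasiFiniteLocus.ι ≫ h.left)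
      infer_instance
  · intro hx
    obtain ⟨X₀, j₀, hX₀, hj₀, hmem, hloc⟩ :=
      (hasAtMor_nbhd_iff_exists_open_subspace _
        (Or.inr (Or.inr (Or.inr (Or.inr (Or.inr (Or.inl hP)))))) hX hY f (Points.map b x'')).1 hx
    obtain ⟨W, hWu, hWP⟩ :=
      Groth.Agent.Helper15.ChartBC.exists_nbhd_of_open_subspace f j₀ hj₀ hloc α β h hα hβ hcomm u
        (hux ▸ hmem)
    obtain ⟨W'', hW''u, hW''P⟩ :=
      Groth.Agent.Helper15.ChartBC.nbhd_snd_of_isPullback (P := @LocallyQuasiFinite) sqU u''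
        ⟨W, hu1 ▸ hWu, hWP.1⟩
    exact ⟨U'', V'', α'', β', π₂, u'', hα'', hβ', c1, hu2, W'', hW''u, hW''P, inferInstance⟩


section Generic

variable (P : MorphismProperty Scheme.{u})
  (hlist : P = @LocallyOfFiniteType ∨ P = @LocallyOfFinitePresentation ∨ P = @Flat ∨ P = @Smooth ∨
      P = @Etale ∨
      (∀ ⦃A B : Scheme.{u}⦄ (g : A ⟶ B), P g ↔ (LocallyQuasiFinite g ∧ LocallyOfFiniteType g)) ∨
      (∀ ⦃A B : Scheme.{u}⦄ (g : A ⟶ B), P g ↔ (LocallyOfFiniteType g ∧ FormallyUnramified g)))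
  (hbc : ∀ {X Y Y' X' : Sp S}, IsAlgSpace X → IsAlgSpace Y → IsAlgSpace Y' → IsAlgSpace X' →
    ∀ (f : X ⟶ Y), LocP @LocallyOfFiniteType f → ∀ (a : Y' ⟶ Y) (b : X' ⟶ X) (f' : X' ⟶ Y'),
      IsPullback b f' f a →
      {x' : Points X' | HasAtMor (fun U _ h u => ∃ W : U.Opens, u ∈ W ∧ P (W.ι ≫ h)) f' x'} =
        Points.map b ⁻¹' {x : Points X | HasAtMor (fun U _ h u => ∃ W : U.Opens, u ∈ W ∧
          P (W.ι ≫ h)) f x})

include hlist hbc

omit hlist in
/-- Homogeneity: the locus of a group algebraic space is determined along the unit section. -/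
theorem mem_locus_iff_unit {B : Sp S} (hB : IsAlgSpace B) (G : Over B) [GrpObj G]
    (hG : IsAlgSpace G.left) (hlft : LocP @LocallyOfFiniteType G.hom) (g : Points G.left) :
    HasAtMor (fun U _ h u => ∃ W : U.Opens, u ∈ W ∧ P (W.ι ≫ h)) G.hom g ↔
      HasAtMor (fun U _ h u => ∃ W : U.Opens, u ∈ W ∧ P (W.ι ≫ h)) G.hom
        (Points.map (unitSec G) (Points.map G.hom g)) := by
  obtain ⟨K, _, str, gm, rfl⟩ := exists_ofField g
  have sqK := IsPullback.of_hasPullback G.hom (gm ≫ G.hom)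
  have hPK : IsAlgSpace (pullback G.hom (gm ≫ G.hom)) :=
    isAlgSpace_of_isPullback hB.diag hG (IsAlgSpace.yon_obj _) sqK
  have hEK := hbc hG hB (IsAlgSpace.yon_obj _) hPK G.hom hlft (gm ≫ G.hom) _ _ sqK
  obtain ⟨τ, hτ2, hτe⟩ := exists_translation G gm
  have h1 : Points.map (pullback.fst G.hom (gm ≫ G.hom))
      (ofField (pullback.lift gm (𝟙 _) (by rw [Category.id_comp]))) = ofField gm := by
    rw [map_ofField, pullback.lift_fst]
  have h2 : Points.map (pullback.fst G.hom (gm ≫ G.hom))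
      (ofField (pullback.lift ((gm ≫ G.hom) ≫ unitSec G) (𝟙 _) (unit_cond G _))) =
      Points.map (unitSec G) (Points.map G.hom (ofField gm)) := by
    rw [map_ofField, pullback.lift_fst, map_ofField, map_ofField]
  have h3 : Points.map τ.hom
      (ofField (pullback.lift ((gm ≫ G.hom) ≫ unitSec G) (𝟙 _) (unit_cond G _))) =
      ofField (pullback.lift gm (𝟙 _) (by rw [Category.id_comp])) := by
    rw [map_ofField, hτe]
  have m1 := Set.ext_iff.1 hEK (ofField (pullback.lift gm (𝟙 _) (by rw [Category.id_comp])))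
  have m2 := Set.ext_iff.1 hEK
    (ofField (pullback.lift ((gm ≫ G.hom) ≫ unitSec G) (𝟙 _) (unit_cond G _)))
  simp only [Set.mem_ofPred_eq, Set.mem_preimage] at m1 m2
  rw [h1] at m1
  rw [h2] at m2
  rw [← m1, ← m2, ← h3]
  exact hasAtMor_iso_iff _ _ τ hτ2 _


/-- The base change of a group algebraic space along `φ : T ⟶ B` has `P` iff `φ` maps into the
locus of the unit section. -/
theorem locP_baseChange_iff {B : Sp S} (hB : IsAlgSpace B) (G : Over B) [GrpObj G]
    (hG : IsAlgSpace G.left) (hlft : LocP @LocallyOfFiniteType G.hom) {T Z : Sp S}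
    (hT : IsAlgSpace T) (φ : T ⟶ B) (fst : Z ⟶ G.left) (snd : Z ⟶ T)
    (sq : IsPullback fst snd G.hom φ) :
    LocP P snd ↔ ∀ t : Points T,
      HasAtMor (fun U _ h u => ∃ W : U.Opens, u ∈ W ∧ P (W.ι ≫ h)) G.hom
        (Points.map (unitSec G) (Points.map φ t)) := by
  have hZ : IsAlgSpace Z := isAlgSpace_of_isPullback hB.diag hG hT sq
  rw [locP_listed_iff_forall_hasAtMor_nbhd P hlist hZ hT snd]
  have hE := hbc hG hB hT hZ G.hom hlft φ fst snd sq
  have hE' : ∀ z : Points Z,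
      HasAtMor (fun U _ h u => ∃ W : U.Opens, u ∈ W ∧ P (W.ι ≫ h)) snd z ↔
      HasAtMor (fun U _ h u => ∃ W : U.Opens, u ∈ W ∧ P (W.ι ≫ h)) G.hom (Points.map fst z) :=
    fun z => Set.ext_iff.1 hE z
  constructor
  · intro H t
    have hpt : Points.map G.hom (Points.map (unitSec G) (Points.map φ t)) = Points.map φ t := by
      rw [← Points.map_comp, unitSec_hom, Points.map_id]
    obtain ⟨z, hz1, hz2⟩ := exists_point_of_isPullback sq _ t hpt
    rw [← hz1]
    exact (hE' z).1 (H z)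
  · intro H z
    rw [hE' z, mem_locus_iff_unit P hbc hB G hG hlft]
    have : Points.map G.hom (Points.map fst z) = Points.map φ (Points.map snd z) := by
      rw [← Points.map_comp, ← Points.map_comp, sq.w]
    rw [this]
    exact H _

theorem grp_locus {B : Sp S} (hB : IsAlgSpace B) (G : Over B) [GrpObj G]
    (hG : IsAlgSpace G.left) (hlft : LocP @LocallyOfFiniteType G.hom) :
    ∃ (W : Sp S) (w : W ⟶ B), RepWith @IsOpenImmersion w ∧
      (∀ (W' : Sp S) (w' : W' ⟶ B), RepWith @IsOpenImmersion w' →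
        (LocP P (pullback.snd G.hom w') ↔ ∃ k : W' ⟶ W, k ≫ w = w')) ∧
      (∀ (B' : Sp S), IsAlgSpace B' → ∀ (f : B' ⟶ B) (W'' : Sp S) (w'' : W'' ⟶ B'),
        RepWith @IsOpenImmersion w'' →
        (LocP P (pullback.snd (pullback.snd G.hom f) w'') ↔
          ∃ k : W'' ⟶ pullback w f, k ≫ pullback.snd w f = w'')) := by
  set E : Set (Points G.left) :=
    {g | HasAtMor (fun U _ h u => ∃ W : U.Opens, u ∈ W ∧ P (W.ι ≫ h)) G.hom g} with hE
  have hEo : IsOpen E := Groth.Agent.Helper15.ChartBC.isOpen_setOf_hasAtMor_nbhd P G.hom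
  have hEBo : IsOpen (Points.map (unitSec G) ⁻¹' E) :=
    hEo.preimage (Points.continuous_map (unitSec G))
  obtain ⟨W, w, hW, hw, hrange⟩ := exists_open_subspace_of_isOpen hB _ hEBo
  refine ⟨W, w, hw, ?_, ?_⟩
  · intro W' w' hw'
    have hW' : IsAlgSpace W' := isAlgSpace_of_representable w' hw'.rep hB
    rw [locP_baseChange_iff P hlist hbc hB G hG hlft hW' w' _ _
      (IsPullback.of_hasPullback G.hom w'), factors_through_open_iff w hw w', hrange]
    constructor
    · rintro H _ ⟨t, rfl⟩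
      exact H t
    · intro H t
      exact H ⟨t, rfl⟩
  · intro B' hB' f W'' w'' hw''
    have hW'' : IsAlgSpace W'' := isAlgSpace_of_representable w'' hw''.rep hB'
    have sq := (IsPullback.of_hasPullback (pullback.snd G.hom f) w'').paste_horiz
      (IsPullback.of_hasPullback G.hom f)
    have hsnd : RepWith @IsOpenImmersion (pullback.snd w f) :=
      (RepWith @IsOpenImmersion).of_isPullback (IsPullback.of_hasPullback w f) hw
    rw [locP_baseChange_iff P hlist hbc hB G hG hlft hW'' (w'' ≫ f) _ _ sq,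
      factors_through_open_iff (pullback.snd w f) hsnd w'']
    have hr : Set.range (Points.map (pullback.snd w f)) =
        Points.map f ⁻¹' (Set.range (Points.map w)) := by
      ext b'
      constructor
      · rintro ⟨z, rfl⟩
        refine ⟨Points.map (pullback.fst w f) z, ?_⟩
        rw [← Points.map_comp, ← Points.map_comp, pullback.condition]
      · rintro ⟨x, hx⟩
        obtain ⟨z, -, hz⟩ := exists_point_of_isPullback (IsPullback.of_hasPullback w f) x b' hx
        exact ⟨z, hz⟩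
    rw [hr, hrange]
    constructor
    · rintro H _ ⟨t, rfl⟩
      have := H t
      rw [Points.map_comp] at this
      exact this
    · intro H t
      rw [Points.map_comp]
      exact H ⟨t, rfl⟩

end Generic

end Groth.Agent.Helper15.GrpSp
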