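import Groth.Prelude.Def_AlgSpGpd
import Mathlib.CategoryTheory.Monoidal.Cartesian.Grp

set_option autoImplicit false
universe u
open CategoryTheory CategoryTheory.Limits AlgebraicGeometry Opposite MonoidalCategory
  CartesianMonoidalCategory MonObj
open AlgSp

namespace Groth.Agent.Helper15.GrpSp

variable {S : Scheme.{u}} {B : Sp S} (G : Over B) [GrpObj G]

/-- The unit section of a group object over `B`. -/
noncomputable def unitSec : B ⟶ G.left := η[G].left

theorem unitSec_hom : unitSec G ≫ G.hom = 𝟙 B := Over.w η[G]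

theorem unit_cond {K : Sp S} (ξ : K ⟶ B) : (ξ ≫ unitSec G) ≫ G.hom = 𝟙 K ≫ ξ := by
  rw [Category.assoc, unitSec_hom, Category.comp_id, Category.id_comp]

/-- Translation by a point `γ` of `G`, on the fibre `G ×_B K`. -/
theorem exists_translation {K : Sp S} (γ : K ⟶ G.left) :
    ∃ (τ : pullback G.hom (γ ≫ G.hom) ≅ pullback G.hom (γ ≫ G.hom)),
      τ.hom ≫ pullback.snd G.hom (γ ≫ G.hom) = pullback.snd G.hom (γ ≫ G.hom) ∧
      pullback.lift ((γ ≫ G.hom) ≫ unitSec G) (𝟙 K) (unit_cond G _) ≫ τ.hom =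
      pullback.lift γ (𝟙 K) (by rw [Category.id_comp]) := by
  set ξ := γ ≫ G.hom with hξ
  let PB : Over B := Over.mk (pullback.snd G.hom ξ ≫ ξ)
  let φ₁ : PB ⟶ G := Over.homMk (pullback.fst G.hom ξ) pullback.condition
  let φ₂ : PB ⟶ G := Over.homMk (pullback.snd G.hom ξ ≫ γ) (by simp [PB, hξ])
  -- generic translation by an element `ψ` of the group `Hom(PB, G)` with a compatibility
  have key : ∀ ψ : PB ⟶ G, ∃ t : pullback G.hom ξ ⟶ pullback G.hom ξ,
      t ≫ pullback.snd G.hom ξ = pullback.snd G.hom ξ ∧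
      t ≫ pullback.fst G.hom ξ = (ψ * φ₁).left := by
    intro ψ
    exact ⟨pullback.lift (ψ * φ₁).left (pullback.snd G.hom ξ) (Over.w (ψ * φ₁)),
      pullback.lift_snd _ _ _, pullback.lift_fst _ _ _⟩
  obtain ⟨th, th2, th1⟩ := key φ₂
  obtain ⟨ti, ti2, ti1⟩ := key φ₂⁻¹
  -- composition law
  have comp : ∀ (ψ ψ' : PB ⟶ G) (t t' : pullback G.hom ξ ⟶ pullback G.hom ξ),
      t ≫ pullback.snd G.hom ξ = pullback.snd G.hom ξ →
      t ≫ pullback.fst G.hom ξ = (ψ * φ₁).left →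
      t' ≫ pullback.snd G.hom ξ = pullback.snd G.hom ξ →
      t' ≫ pullback.fst G.hom ξ = (ψ' * φ₁).left →
      (∀ tB : PB ⟶ PB, tB.left = t → tB ≫ ψ' = ψ') →
      (t ≫ t') ≫ pullback.fst G.hom ξ = (ψ' * ψ * φ₁).left := by
    intro ψ ψ' t t' h2 h1 h2' h1' hinv
    let tB : PB ⟶ PB := Over.homMk t (by
      change t ≫ pullback.snd G.hom ξ ≫ ξ = pullback.snd G.hom ξ ≫ ξ
      rw [← Category.assoc, h2])
    have e1 : tB ≫ φ₁ = ψ * φ₁ := by
      apply Over.OverMorphism.ext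
      exact h1
    rw [Category.assoc, h1']
    have : t ≫ (ψ' * φ₁).left = (tB ≫ (ψ' * φ₁)).left := rfl
    rw [this, MonObj.comp_mul, hinv tB rfl, e1, _root_.mul_assoc]
  have hφ₂ : ∀ (t : pullback G.hom ξ ⟶ pullback G.hom ξ),
      t ≫ pullback.snd G.hom ξ = pullback.snd G.hom ξ →
      ∀ tB : PB ⟶ PB, tB.left = t → tB ≫ φ₂ = φ₂ := by
    intro t h2 tB htB
    apply Over.OverMorphism.ext
    change tB.left ≫ pullback.snd G.hom ξ ≫ γ = pullback.snd G.hom ξ ≫ γ
    rw [htB, ← Category.assoc, h2]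
  have hφ₂i : ∀ (t : pullback G.hom ξ ⟶ pullback G.hom ξ),
      t ≫ pullback.snd G.hom ξ = pullback.snd G.hom ξ →
      ∀ tB : PB ⟶ PB, tB.left = t → tB ≫ φ₂⁻¹ = φ₂⁻¹ := by
    intro t h2 tB htB
    rw [GrpObj.comp_inv, hφ₂ t h2 tB htB]
  have hid1 : th ≫ ti = 𝟙 _ := by
    apply pullback.hom_ext
    · rw [comp φ₂ φ₂⁻¹ th ti th2 th1 ti2 ti1 (hφ₂i th th2), inv_mul_cancel, _root_.one_mul,
        Category.id_comp]
      rfl
    · rw [Category.assoc, ti2, th2, Category.id_comp]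
  have hid2 : ti ≫ th = 𝟙 _ := by
    apply pullback.hom_ext
    · rw [comp φ₂⁻¹ φ₂ ti th ti2 ti1 th2 th1 (hφ₂ ti ti2), mul_inv_cancel, _root_.one_mul,
        Category.id_comp]
      rfl
    · rw [Category.assoc, th2, ti2, Category.id_comp]
  refine ⟨⟨th, ti, hid1, hid2⟩, th2, ?_⟩
  apply pullback.hom_ext
  · rw [Category.assoc, pullback.lift_fst]
    change _ ≫ th ≫ pullback.fst G.hom ξ = γ
    rw [th1]
    -- compute on `Over B`
    let KB : Over B := Over.mk ξ
    let eK : KB ⟶ PB := Over.homMk (pullback.lift (ξ ≫ unitSec G) (𝟙 K) (unit_cond G ξ)) (by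
        change pullback.lift _ _ _ ≫ pullback.snd G.hom ξ ≫ ξ = ξ
        rw [← Category.assoc, pullback.lift_snd]
        exact Category.id_comp _)
    have h1 : eK ≫ φ₂ = Over.homMk γ rfl := by
      apply Over.OverMorphism.ext
      change pullback.lift _ _ _ ≫ pullback.snd G.hom ξ ≫ γ = γ
      rw [← Category.assoc, pullback.lift_snd, Category.id_comp]
    have h2 : eK ≫ φ₁ = 1 := by
      apply Over.OverMorphism.ext
      change pullback.lift _ _ _ ≫ pullback.fst G.hom ξ = _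
      rw [pullback.lift_fst]
      rfl
    have : pullback.lift (ξ ≫ unitSec G) (𝟙 K) (unit_cond G ξ) ≫
        (φ₂ * φ₁).left = (eK ≫ (φ₂ * φ₁)).left := rfl
    rw [this, MonObj.comp_mul, h1, h2, _root_.mul_one]
    rfl
  · rw [Category.assoc, th2, pullback.lift_snd, pullback.lift_snd]

end Groth.Agent.Helper15.GrpSp
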