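import Groth.Prelude.Def_RelProj

/-!
# Base change of projective space and of H-projective morphisms
-/

set_option autoImplicit false
universe u
open CategoryTheory CategoryTheory.Limits AlgebraicGeometry

namespace Groth.Agent.Helper15

/-- The comparison map `P^n_{S'} ⟶ P^n_S` for `g : S' ⟶ S`. -/
noncomputable def projSpaceOverMap (n : ℕ) {S S' : Scheme.{u}} (g : S' ⟶ S) :
    CohB1.ProjSpaceOver n S' ⟶ CohB1.ProjSpaceOver n S :=
  pullback.lift (pullback.fst _ _) (CohB1.ProjSpaceOver.toBase n S' ≫ g) (by
    rw [Category.assoc, show g ≫ AlgebraicGeometry.specULiftZIsTerminal.from S =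
      AlgebraicGeometry.specULiftZIsTerminal.from S' from AlgebraicGeometry.specULiftZIsTerminal.hom_ext _ _]
    exact pullback.condition)

/-- `P^n_{S'} = P^n_S ×_S S'`. -/
theorem isPullback_projSpaceOverMap (n : ℕ) {S S' : Scheme.{u}} (g : S' ⟶ S) :
    IsPullback (projSpaceOverMap n g) (CohB1.ProjSpaceOver.toBase n S')
      (CohB1.ProjSpaceOver.toBase n S) g := by
  have right : IsPullback (pullback.fst (CohB1.ProjSpace.toSpec n (ULift.{u} ℤ))
      (AlgebraicGeometry.specULiftZIsTerminal.from S)) (CohB1.ProjSpaceOver.toBase n S)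
      (CohB1.ProjSpace.toSpec n (ULift.{u} ℤ)) (AlgebraicGeometry.specULiftZIsTerminal.from S) :=
    IsPullback.of_hasPullback _ _
  have outer : IsPullback (pullback.fst (CohB1.ProjSpace.toSpec n (ULift.{u} ℤ))
      (AlgebraicGeometry.specULiftZIsTerminal.from S')) (CohB1.ProjSpaceOver.toBase n S')
      (CohB1.ProjSpace.toSpec n (ULift.{u} ℤ)) (AlgebraicGeometry.specULiftZIsTerminal.from S') :=
    IsPullback.of_hasPullback _ _
  have e : g ≫ AlgebraicGeometry.specULiftZIsTerminal.from S = AlgebraicGeometry.specULiftZIsTerminal.from S' :=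
    AlgebraicGeometry.specULiftZIsTerminal.hom_ext _ _
  refine IsPullback.of_right ?_ (pullback.lift_snd _ _ _) right
  rw [e, show projSpaceOverMap n g ≫ pullback.fst _ _ = pullback.fst _ _ from
    pullback.lift_fst _ _ _]
  exact outer

theorem isHProjective_pullback_snd {X S S' : Scheme.{u}} (f : X ⟶ S) (hf : RelProj.IsHProjective f)
    (g : S' ⟶ S) : RelProj.IsHProjective (pullback.snd f g) := by
  obtain ⟨n, i, hi, hif⟩ := hf
  have sqP := isPullback_projSpaceOverMap n g
  have hw : (pullback.fst f g ≫ i) ≫ CohB1.ProjSpaceOver.toBase n S = pullback.snd f g ≫ g := by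
    rw [Category.assoc, hif, pullback.condition]
  refine ⟨n, sqP.lift (pullback.fst f g ≫ i) (pullback.snd f g) hw, ?_, sqP.lift_snd _ _ _⟩
  -- `i'` is a base change of `i`
  have sqX : IsPullback (pullback.fst f g) (pullback.snd f g) f g := IsPullback.of_hasPullback _ _
  have sq : IsPullback (pullback.fst f g) (sqP.lift (pullback.fst f g ≫ i) (pullback.snd f g) hw)
      i (projSpaceOverMap n g) := by
    refine IsPullback.of_bot ?_ (sqP.lift_fst _ _ _).symm sqP
    rw [sqP.lift_snd, hif]
    exact sqX
  exact MorphismProperty.of_isPullback (P := @IsClosedImmersion) sq hi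

end Groth.Agent.Helper15
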