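import Mathlib
import Groth.Prelude
import Groth.Agent.Lib.Helper15.IdealEt3
import Groth.Agent.Lib.Helper15.AlgSpLocPRep

/-!
# Sheaves of ideals on the small étale site and closed subspaces, IV:
finite presentation of a closed immersion and finite generation of its ideal
-/

set_option autoImplicit false
set_option backward.isDefEq.respectTransparency false
universe u
open CategoryTheory CategoryTheory.Limits AlgebraicGeometry MorphismProperty Opposite
open AlgSp

namespace Groth.Agent.Helper15.IdealEt

open Groth.Agent.Helper15 Groth.Agent.Helper15.Norm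

variable {S : Scheme.{u}}

theorem fg_ker_of_finitePresentation {A B : Type u} [CommRing A] [CommRing B] (f : A →+* B)
    (hf : Function.Surjective f) (h : f.FinitePresentation) : (RingHom.ker f).FG := by
  algebraize [f]
  exact Algebra.FinitePresentation.ker_fG_of_surjective (Algebra.ofId A B) hf

theorem descAff_inf {Q₁ Q₂ : MorphismProperty Scheme.{u}} (h₁ : AffDesc.DescAff Q₁)
    (h₂ : AffDesc.DescAff Q₂) : AffDesc.DescAff (Q₁ ⊓ Q₂) := by
  intro U W T'' T w i j c hU hW hT'' hT sq hfl hsu hfp hi
  exact ⟨h₁ w i j c hU hW hT'' hT sq hfl hsu hfp hi.1, h₂ w i j c hU hW hT'' hT sq hfl hsu hfp hi.2⟩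

variable {X : Sp S}

/-- A closed immersion into an algebraic space is locally of finite presentation exactly when
its kernel ideals on affine charts are finitely generated. -/
theorem locP_lfp_iff_fg {Z : Sp S} (hX : IsAlgSpace X) (i : Z ⟶ X)
    (hi : RepWith @IsClosedImmersion i) :
    LocP @LocallyOfFinitePresentation i ↔
      ∀ (E : EtOver X) (hE : IsAffine E.obj.left.left), ((idealOfRep hi.1).ideal E hE).FG := by
  constructor
  · intro h E hE
    haveI := hE
    have h' : RepWith @LocallyOfFinitePresentation i := repWith_of_locP goodP_lfp hX i hi.1 h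
    haveI hlfp : LocallyOfFinitePresentation (EtOver.bcπ hi.1 E).left := h'.property_snd E.obj.hom
    haveI hc : IsClosedImmersion (EtOver.bcπ hi.1 E).left := hi.property_snd E.obj.hom
    have hs := IsClosedImmersion.isAffine_surjective_of_isAffine (EtOver.bcπ hi.1 E).left
    haveI : IsAffine (EtOver.bcObj hi.1 E).obj.left.left := hs.1
    have hfp : RingHom.FinitePresentation (EtOver.bcπ hi.1 E).left.appTop.hom :=
      (HasRingHomProperty.iff_of_isAffine (P := @LocallyOfFinitePresentation)).1 hlfp
    exact fg_ker_of_finitePresentation _ hs.2 hfp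
  · intro h
    have hQ : RepWith (@IsClosedImmersion ⊓ @LocallyOfFinitePresentation) i := by
      refine AffDesc.repWith_of_forall_etale_affine
        (inf_le_left.trans Groth.Agent.Helper15.isClosedImmersion_le_isAffineHom)
        (descAff_inf AlgSpLim.descAff_isClosedImmersion
          (AffDesc.descAff_of_descendsAlong @LocallyOfFinitePresentation)) hX i ?_
      intro V hV b hb
      haveI := hV
      let E : EtOver X := EtOver.mk b hb
      haveI hEa : IsAffine E.obj.left.left := hV
      haveI hc : IsClosedImmersion (EtOver.bcπ hi.1 E).left := hi.property_snd E.obj.hom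
      have hs := IsClosedImmersion.isAffine_surjective_of_isAffine (EtOver.bcπ hi.1 E).left
      haveI : IsAffine (EtOver.bcObj hi.1 E).obj.left.left := hs.1
      refine ⟨(EtOver.bcObj hi.1 E).obj.left, EtOver.bcπ hi.1 E, (EtOver.bcObj hi.1 E).obj.hom,
        ⟨hc, ?_⟩, EtOver.isPullback_bcObj hi.1 E⟩
      exact (HasRingHomProperty.iff_of_isAffine (P := @LocallyOfFinitePresentation)).2
        (RingHom.FinitePresentation.of_surjective _ hs.2 (h E hV))
    exact locP_of_repWith etale_le_lfp i (repWith_mono inf_le_right hQ)

end Groth.Agent.Helper15.IdealEt
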