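import Mathlib
import Groth.Prelude
import Groth.Agent.Lib.Helper15.IdealEt3

set_option autoImplicit false
set_option backward.isDefEq.respectTransparency false
universe u
open CategoryTheory CategoryTheory.Limits AlgebraicGeometry MorphismProperty Opposite
open AlgSp

/-!
# The comparison `O_X ⟶ i_* O_Z` for a closed immersion is locally surjective
-/

namespace Groth.Agent.Helper15.IdealEt

variable {S : Scheme.{u}} {X Y : Sp S} {f : X ⟶ Y} (hf : Representable f)

theorem bcRingHom_app_apply (E : EtOver Y) (t : (OEtRing Y).obj.obj (op E)) :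
    ((bcRingHom hf).hom.app (op E)).hom t =
      (ULift.up ((EtOver.bcπ hf E).left.appTop.hom (ULift.down t)) :
        ULift.{u + 1} Γ((EtOver.bcObj hf E).obj.left.left, ⊤)) := rfl


/-- Restriction of sections of the direct image of the structure sheaf. -/
theorem push_OEtRing_map_apply {E E' : EtOver Y} (g : E' ⟶ E)
    (s : (((EtOver.bc hf).sheafPushforwardContinuous RingCat.{u + 1} (etTop Y) (etTop X)).obj
      (OEtRing X)).obj.obj (op E)) :
    ((((EtOver.bc hf).sheafPushforwardContinuous RingCat.{u + 1} (etTop Y) (etTop X)).obj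
      (OEtRing X)).obj.map g.op).hom s =
      (ULift.up ((EtOver.bcMap hf g).hom.left.left.appTop.hom (ULift.down s)) :
        ULift.{u + 1} Γ((EtOver.bcObj hf E').obj.left.left, ⊤)) := rfl

/-- For a closed immersion `i : Z ⟶ X`, the comparison `O_X ⟶ i_* O_Z` is locally surjective. -/
theorem isLocallySurjective_bcRingHom (hi : RepWith @IsClosedImmersion f) :
    Presheaf.IsLocallySurjective (etTop Y) (bcRingHom hi.1).hom := by
  constructor
  intro E s
  -- the affine opens of `E`
  let T' : E.obj.left.left.affineOpens → Over S := fun O => Over.mk (O.1.ι ≫ E.obj.left.hom)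
  let j : ∀ O : E.obj.left.left.affineOpens, T' O ⟶ E.obj.left := fun O => Over.homMk O.1.ι rfl
  have hj : ∀ O, RepWith @Etale ((yon S).map (j O) ≫ E.obj.hom) := fun O =>
    (RepWith @Etale).comp_mem _ _
      ((repWith_yon_map_iff _ (j O)).2 (show Etale O.1.ι from inferInstance)) E.property
  let EO : E.obj.left.left.affineOpens → EtOver Y := fun O =>
    EtOver.mk ((yon S).map (j O) ≫ E.obj.hom) (hj O)
  let gO : ∀ O, EO O ⟶ E := fun O => EtOver.homMk (j O) rfl
  have hcov : Sieve.ofArrows EO gO ∈ etTop Y E := by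
    refine ofArrows_mem_etTop EO gO (fun x => ?_)
    obtain ⟨_, ⟨O, hO, rfl⟩, hxO, -⟩ :=
      (E.obj.left.left.isBasis_affineOpens).exists_subset_of_mem_open (Set.mem_univ x) isOpen_univ
    refine ⟨⟨O, hO⟩, ⟨⟨x, hxO⟩, rfl⟩⟩
  refine (etTop Y).superset_covering ?_ hcov
  rw [Sieve.ofArrows, Sieve.generate_le_iff]
  rintro _ _ ⟨O⟩
  haveI hOa : IsAffine (EO O).obj.left.left := (show IsAffineOpen O.1 from O.2)
  haveI hc : IsClosedImmersion (EtOver.bcπ hi.1 (EO O)).left := hi.property_snd (EO O).obj.hom
  have hs := IsClosedImmersion.isAffine_surjective_of_isAffine (EtOver.bcπ hi.1 (EO O)).left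
  obtain ⟨a, ha⟩ := hs.2 ((EtOver.bcMap hi.1 (gO O)).hom.left.left.appTop.hom (ULift.down s))
  refine ⟨(ULift.up a : ULift.{u + 1} Γ((EO O).obj.left.left, ⊤)), ?_⟩
  rw [bcRingHom_app_apply, push_OEtRing_map_apply]
  exact congrArg ULift.up ha

end Groth.Agent.Helper15.IdealEt
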