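import Mathlib

/-!
# Integral covers, finite étale over a dense open, I: a topological lemma
-/

set_option autoImplicit false
open Topology TopologicalSpace

namespace Groth.Agent.Helper15.IntCovFE

/-- In a quasi-sober space with finitely many irreducible components and a basis of compact opens,
a finite decreasing filtration by opens admits compact opens inside the strata whose union is
dense. -/
theorem exists_dense_strata {P : Type*} [TopologicalSpace P] [QuasiSober P]
    (hirr : (irreducibleComponents P).Finite)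
    (hbasis : ∀ (x : P) (G : Set P), IsOpen G → x ∈ G →
      ∃ K, IsOpen K ∧ IsCompact K ∧ x ∈ K ∧ K ⊆ G)
    (Ω : ℕ → Set P) (hΩo : ∀ n, IsOpen (Ω n)) (hΩ0 : Ω 0 = Set.univ) (N : ℕ) (hΩN : Ω N = ∅)
    (hanti : ∀ n, Ω (n + 1) ⊆ Ω n) :
    ∃ O : ℕ → Set P, (∀ n, IsOpen (O n)) ∧ (∀ n, IsCompact (O n)) ∧
      (∀ n, O n ⊆ Ω n \ Ω (n + 1)) ∧ (∀ n, N ≤ n → O n = ∅) ∧ Dense (⋃ n, O n) := by
  classical
  haveI : Finite (irreducibleComponents P) := hirr.to_subtype
  have hgen : ∀ C : irreducibleComponents P, ∃ η, IsGenericPoint η (C : Set P) := fun C =>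
    QuasiSober.sober C.2.prop (isClosed_of_mem_irreducibleComponents C.1 C.2)
  choose η hη using hgen
  have hex : ∀ C, ∃ n, η C ∉ Ω (n + 1) := by
    intro C
    rcases N with _ | N'
    · exfalso
      have : η C ∈ Ω 0 := by rw [hΩ0]; trivial
      rw [hΩN] at this
      exact this
    · exact ⟨N', by rw [hΩN]; exact fun h => h⟩
  let n : irreducibleComponents P → ℕ := fun C => Nat.find (hex C)
  have hn1 : ∀ C, η C ∉ Ω (n C + 1) := fun C => Nat.find_spec (hex C)
  have hn2 : ∀ C, η C ∈ Ω (n C) := by
    intro C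
    rcases hk : n C with _ | k
    · rw [hΩ0]; trivial
    · by_contra hcon
      have : n C ≤ k := Nat.find_min' (hex C) hcon
      omega
  let Others : irreducibleComponents P → Set P := fun C =>
    ⋃ C' ∈ {C' : irreducibleComponents P | C' ≠ C}, (C' : Set P)
  have hOc : ∀ C, IsClosed (Others C) := fun C =>
    (Set.toFinite _).isClosed_biUnion
      (fun C' _ => isClosed_of_mem_irreducibleComponents C'.1 C'.2)
  have hηO : ∀ C, η C ∉ Others C := by
    intro C h
    simp only [Others, Set.mem_iUnion, Set.mem_ofPred_eq, exists_prop] at h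
    obtain ⟨C', hne, hmem⟩ := h
    apply hne
    have hle : (C : Set P) ⊆ (C' : Set P) := by
      rw [← (hη C).def]
      exact (isClosed_of_mem_irreducibleComponents C'.1 C'.2).closure_subset_iff.2
        (Set.singleton_subset_iff.2 hmem)
    have := C.2.eq_of_le C'.2.prop hle
    exact (Subtype.ext this).symm
  let G : irreducibleComponents P → Set P := fun C => Ω (n C) ∩ (Others C)ᶜ
  have hGo : ∀ C, IsOpen (G C) := fun C => (hΩo _).inter (hOc C).isOpen_compl
  have hηG : ∀ C, η C ∈ G C := fun C => ⟨hn2 C, hηO C⟩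
  choose K hKo hKc hηK hKG using fun C => hbasis (η C) (G C) (hGo C) (hηG C)
  have hKdisj : ∀ C x, x ∈ K C → x ∉ Ω (n C + 1) := by
    intro C x hxK hxΩ
    have hxG := hKG C hxK
    let C'' : irreducibleComponents P :=
      ⟨irreducibleComponent x, irreducibleComponent_mem_irreducibleComponents x⟩
    have hxC'' : x ∈ (C'' : Set P) := mem_irreducibleComponent
    have hC'' : C'' = C := by
      by_contra hne
      apply hxG.2
      simp only [Others, Set.mem_iUnion, Set.mem_ofPred_eq, exists_prop]
      exact ⟨C'', hne, hxC''⟩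
    have hxC : x ∈ closure ({η C} : Set P) := by
      rw [(hη C).def, ← hC'']
      exact hxC''
    have hopen : IsOpen (K C ∩ Ω (n C + 1)) := (hKo C).inter (hΩo _)
    obtain ⟨y, hy1, hy2⟩ := mem_closure_iff.1 hxC _ hopen ⟨hxK, hxΩ⟩
    rw [Set.mem_singleton_iff] at hy2
    rw [hy2] at hy1
    exact hn1 C hy1.2
  let O : ℕ → Set P := fun k => ⋃ C : {C : irreducibleComponents P // n C = k}, K C.1
  have hOsub : ∀ k, O k ⊆ Ω k \ Ω (k + 1) := by
    intro k x hx
    simp only [O, Set.mem_iUnion] at hx
    obtain ⟨⟨C, rfl⟩, hxK⟩ := hx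
    exact ⟨(hKG C hxK).1, hKdisj C x hxK⟩
  have hanti' : ∀ k, N ≤ k → Ω k = ∅ := by
    intro k hk
    induction k, hk using Nat.le_induction with
    | base => exact hΩN
    | succ k _ ih => exact Set.subset_eq_empty (hanti k) ih
  refine ⟨O, fun k => isOpen_iUnion (fun C => hKo C.1), fun k => isCompact_iUnion (fun C => hKc C.1),
    hOsub, fun k hk => ?_, ?_⟩
  · exact Set.subset_eq_empty ((hOsub k).trans Set.sdiff_subset) (hanti' k hk)
  · intro x
    let C : irreducibleComponents P :=
      ⟨irreducibleComponent x, irreducibleComponent_mem_irreducibleComponents x⟩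
    have hxC : x ∈ closure ({η C} : Set P) := by
      rw [(hη C).def]
      exact mem_irreducibleComponent
    refine closure_mono ?_ hxC
    rw [Set.singleton_subset_iff]
    exact Set.mem_iUnion.2 ⟨n C, Set.mem_iUnion.2 ⟨⟨C, rfl⟩, hηK C⟩⟩

end Groth.Agent.Helper15.IntCovFE
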