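import Mathlib
import Groth.Agent.Lib.Helper15.IntCovFE3
import Groth.Agent.Lib.Helper15.QuotFin1
import Groth.Agent.Lib.Helper15.Strat6

/-!
# Integral covers, finite étale over a dense open, IV: configuration spaces over open strata
-/

set_option autoImplicit false
universe u
open CategoryTheory CategoryTheory.Limits AlgebraicGeometry MorphismProperty Opposite
open AlgSp

namespace Groth.Agent.Helper15.IntCovFE

open Groth.Agent.Helper15 Groth.Agent.Helper15.Strat Groth.Agent.Helper15.Norm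
  Groth.Agent.Helper15.IntCov Groth.Agent.Helper15.Strat.IsConf

variable {S : Scheme.{u}} {X : Sp S} {U : Over S} {p : (yon S).obj U ⟶ X}
  {n : ℕ} {W : Over S} {pr : Fin (n + 1) → (W ⟶ U)} (hW : IsConf p n W pr)

include hW in
/-- The quotient of the configuration space by the symmetric group, with finite quotient map. -/
theorem exists_isQuot_fin [IsAffine U.left] :
    ∃ (V : Over S) (π : W ⟶ V), IsQuot hW V π ∧ IsFinite π.left := by
  haveI := hW.isQuasiAffine
  obtain ⟨V, π, h1, h2, h3, h4, h5, h6, h7⟩ :=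
    QuotFree.exists_quotient_over_fin W hW.ρ hW.ρ_one hW.ρ_mul hW.ρ_free
  exact ⟨V, π, ⟨h1, h2, h3, h4, h6, h7⟩, h5⟩

variable {hW} {V : Over S} {π : W ⟶ V}

/-- **Over an open subspace contained in a stratum, the configuration space is finite étale.** -/
theorem finite_etale_of_quot (hQ : IsQuot hW V π) (hπf : IsFinite π.left) (hX : IsAlgSpace X)
    (hpe : RepWith @Etale p) (hU : IsSeparated U.hom) {W' : Over S}
    {pr' : Fin (n + 2) → (W' ⟶ U)} (hW' : IsConf p (n + 1) W' pr')
    {Uo : Sp S} (j : Uo ⟶ X) (hj : RepWith @IsOpenImmersion j)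
    (hr : Set.range (Points.map j) ⊆
      Set.range (Points.ofPt hW.g) \ Set.range (Points.ofPt hW'.g)) :
    RepWith @IsFinite (hj.rep.fst hW.g) ∧ RepWith @Etale (hj.rep.fst hW.g) := by
  obtain ⟨f, hf, hfe⟩ := hQ.exists_chart hX hpe
  have hrepj := hj.rep
  -- the quotient over the open
  let Vo : Over S := hrepj.pullback f
  let sV : Vo ⟶ V := hrepj.snd f
  let v₂ : (yon S).obj Vo ⟶ Uo := hrepj.fst f
  have sqv : IsPullback v₂ ((yon S).map sV) j f := hrepj.isPullback f
  -- the configuration space over the open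
  let Za : Over S := hrepj.pullback hW.g
  let ιa : Za ⟶ W := hrepj.snd hW.g
  let za : (yon S).obj Za ⟶ Uo := hrepj.fst hW.g
  have sqa : IsPullback za ((yon S).map ιa) j hW.g := hrepj.isPullback hW.g
  have hzae : RepWith @Etale za :=
    (RepWith @Etale).of_isPullback sqa.flip (hW.repWith_etale_g hpe)
  refine ⟨?_, hzae⟩
  -- the quotient map over the open
  let k : (yon S).obj Za ⟶ (yon S).obj Vo :=
    sqv.lift za ((yon S).map ιa ≫ (yon S).map π) (by rw [sqa.w, ← hf, Category.assoc])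
  have hk1 : k ≫ v₂ = za := sqv.lift_fst _ _ _
  have hk2 : k ≫ (yon S).map sV = (yon S).map ιa ≫ (yon S).map π := sqv.lift_snd _ _ _
  have sqk : IsPullback ((yon S).map ιa) k ((yon S).map π) ((yon S).map sV) := by
    refine IsPullback.of_bot ?_ hk2.symm sqv.flip
    rw [hk1, hf]
    exact sqa.flip
  obtain ⟨k₀, hk₀⟩ := (yon S).map_surjective k
  have hk₀f : IsFinite k₀.left := by
    have hπr : RepWith @IsFinite ((yon S).map π) := (repWith_yon_map_iff _ π).2 hπf
    exact hπr.property ((yon S).map sV) ((yon S).map ιa) k₀ (by rw [hk₀]; exact sqk)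
  have hkf : RepWith @IsFinite k := by
    rw [← hk₀]; exact (repWith_yon_map_iff _ k₀).2 hk₀f
  -- the quotient over the open is the open
  have hv₂e : RepWith @Etale v₂ := (RepWith @Etale).of_isPullback sqv.flip hfe
  haveI : Mono v₂ := by
    apply mono_of_yon
    intro T a b hab
    obtain ⟨a₀, rfl⟩ := (yon S).map_surjective a
    obtain ⟨b₀, rfl⟩ := (yon S).map_surjective b
    have hαβ : (yon S).map (a₀ ≫ sV) ≫ f = (yon S).map (b₀ ≫ sV) ≫ f := by
      rw [Functor.map_comp, Functor.map_comp, Category.assoc, Category.assoc, ← sqv.w,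
        ← Category.assoc, ← Category.assoc, hab]
    have havoid : ∀ t : T.left, Points.ofPt ((yon S).map (a₀ ≫ sV) ≫ f) t ∉
        Set.range (Points.ofPt hW'.g) := by
      intro t
      have : Points.ofPt ((yon S).map (a₀ ≫ sV) ≫ f) t ∈ Set.range (Points.map j) := by
        rw [Functor.map_comp, Category.assoc, ← sqv.w, ← Category.assoc, ← Points.map_ofPt]
        exact ⟨_, rfl⟩
      exact (hr this).2
    have heq := hQ.eq_of_chart_eq hX hpe hU hW' f hf (a₀ ≫ sV) (b₀ ≫ sV) hαβ havoid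
    apply sqv.hom_ext hab
    rw [← Functor.map_comp, ← Functor.map_comp, heq]
  have hv₂s : RepWith @Surjective v₂ := by
    refine repWith_surjective_of_isSurjectiveMor v₂ hv₂e.rep (fun u => ?_)
    obtain ⟨w₀, hw₀⟩ := (hr ⟨u, rfl⟩).1
    have h : Points.map j u = Points.map f (Points.ofScheme V (π.left w₀)) := by
      rw [← Points.ofPt_eq_map_ofScheme, ← ofPt_comp_yon_map, hf, hw₀]
    obtain ⟨q, hq, -⟩ := exists_point_of_isPullback sqv u _ h
    exact ⟨q, hq⟩
  haveI : Epi v₂ := epi_of_etale_surjective v₂ hv₂e hv₂s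
  haveI : IsIso v₂ := isIso_of_mono_of_epi v₂
  have : za = k ≫ v₂ := hk1.symm
  change RepWith @IsFinite za
  rw [this]
  exact (RepWith @IsFinite).comp_mem _ _ hkf (repWith_of_isIso _ v₂)

/-- A chart from an empty scheme has any property which holds for morphisms with empty
source. -/
theorem repWith_of_isEmpty_source {P : MorphismProperty Scheme.{u}}
    (hP : ∀ {A B : Scheme.{u}} (f : A ⟶ B), IsEmpty A → P f) {G₂ : Over S} (hG₂ : IsEmpty G₂.left)
    {Ut : Sp S} (hUt : IsAlgSpace Ut) (z : (yon S).obj G₂ ⟶ Ut) : RepWith P z := by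
  refine ⟨hUt.representable_from_yon z, fun T VT t fst snd sq => ?_⟩
  obtain ⟨f₀, rfl⟩ := (yon S).map_surjective fst
  exact hP snd.left ⟨fun x => hG₂.false (f₀.left x)⟩

section pieces

variable [QuasiSeparatedSpace ↥S] (hX : IsAlgSpace X) (hqs : IsQuasiSeparatedSp X)
  (hpe : RepWith @Etale p) (hpsurj : RepWith @Surjective p) (hU : IsSeparated U.hom)
  {W' : Over S} {pr' : Fin (n + 2) → (W' ⟶ U)} (hW' : IsConf p (n + 1) W' pr')
  {Ut : Sp S} (jU : Ut ⟶ X) (hjU : RepWith @IsOpenImmersion jU)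

include hX hqs hpe hpsurj hU hW' hjU in
/-- **The piece over an open subspace contained in a stratum.** -/
theorem good2_piece_a (hQ : IsQuot hW V π) (hπf : IsFinite π.left)
    {Uo : Sp S} (j : Uo ⟶ X) (hj : RepWith @IsOpenImmersion j) (hUoqc : IsQuasiCompactSp Uo)
    (hr : Set.range (Points.map j) ⊆
      Set.range (Points.ofPt hW.g) \ Set.range (Points.ofPt hW'.g))
    (incl : Uo ⟶ Ut) (hincl : incl ≫ jU = j) (hif : RepWith @IsFinite incl)
    (hie : RepWith @Etale incl) :
    Good2 p jU (Set.range (Points.map j)) := by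
  classical
  obtain ⟨m, hm⟩ := hW.exists_forget hW'
  have hUo : IsAlgSpace Uo := isAlgSpace_of_isOpenImmersion hX j hj
  haveI : Mono jU := mono_of_repWith_isOpenImmersion jU hjU
  obtain ⟨hzaf, hzae⟩ := finite_etale_of_quot hQ hπf hX hpe hU hW' j hj hr
  have hrepj := hj.rep
  let Za : Over S := hrepj.pullback hW.g
  let ιa : Za ⟶ W := hrepj.snd hW.g
  let za : (yon S).obj Za ⟶ Uo := hrepj.fst hW.g
  have sqa : IsPullback za ((yon S).map ιa) j hW.g := hrepj.isPullback hW.g
  haveI hιo : IsOpenImmersion ιa.left := hj.property_snd hW.g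
  haveI := hW.etale
  haveI := hW.sep
  haveI := hW.compact
  have hWqc : IsQuasiCompactSp ((yon S).obj W) := (isQuasiCompactSp_yon_iff W).2 inferInstance
  have hgqc : IsQuasiCompactMor hW.g :=
    isQuasiCompactMor_of_quasiCompact_of_quasiSeparated hW.g hWqc hqs
  haveI : CompactSpace Za.left :=
    (isQuasiCompactSp_yon_iff Za).1 (hgqc hUo hUoqc j ((yon S).map ιa) za sqa.flip)
  have hZsep : IsSeparated Za.hom := by
    rw [← CategoryTheory.Over.w ιa, ← CategoryTheory.Over.w (pr 0)]
    haveI := hU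
    infer_instance
  have hdisj : ∀ z, ιa.left z ∉ Set.range m.left := by
    rintro z ⟨w', hw'⟩
    have h1 : Points.ofPt hW.g (ιa.left z) ∈ Set.range (Points.map j) := by
      rw [← ofPt_comp_yon_map, ← sqa.w, ← Points.map_ofPt]
      exact ⟨_, rfl⟩
    have h2 : Points.ofPt hW.g (ιa.left z) ∈ Set.range (Points.ofPt hW'.g) := by
      rw [← hw', ← ofPt_comp_yon_map]
      refine ⟨w', ?_⟩
      congr 1
      unfold IsConf.g
      rw [← Category.assoc, ← Functor.map_comp, hm 0, Fin.castSucc_zero]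
    exact (hr h1).2 h2
  obtain ⟨Y₀, g, f'', hint, hs, hloc⟩ :=
    ngood_piece hX hqs p hpe hpsurj hU hW hW' m hm ιa hdisj hZsep
  -- finite etale
  let z' : (yon S).obj Za ⟶ Ut := za ≫ incl
  have hz' : z' ≫ jU = (yon S).map ιa ≫ hW.g := by
    rw [Category.assoc, hincl, sqa.w]
  have sqG : IsPullback (𝟙 _) z' ((yon S).map ιa ≫ hW.g) jU := by
    rw [← hz']
    exact isPullback_id_of_mono z' jU
  have hfe : ∀ (P : Sp S) (fst : P ⟶ (yon S).obj Y₀) (snd : P ⟶ Ut), IsPullback fst snd g jU →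
      RepWith @IsFinite snd ∧ RepWith @Etale snd := fun P fst snd sq =>
    fe_core hX (IsAlgSpace.yon_obj Y₀) _ g f'' hs jU hjU (IsAlgSpace.yon_obj Za) (𝟙 _) z'
      sqG ((RepWith @IsFinite).comp_mem _ _ hzaf hif) ((RepWith @Etale).comp_mem _ _ hzae hie)
      fst snd sq
  refine ⟨Y₀, g, hint, ?_, feOver_of_forall hfe, hloc⟩
  -- covering
  rintro _ ⟨u, rfl⟩
  obtain ⟨w₀, hw₀⟩ := (hr ⟨u, rfl⟩).1
  have h : Points.map j u = Points.map hW.g (Points.ofScheme W w₀) := by
    rw [← Points.ofPt_eq_map_ofScheme, hw₀]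
  obtain ⟨q, hq1, hq2⟩ := exists_point_of_isPullback sqa u _ h
  obtain ⟨z, rfl⟩ := (Points.schemeEquiv Za).surjective q
  obtain ⟨φ, hφ⟩ := (yon S).map_surjective f''
  refine ⟨φ.left z, ?_⟩
  rw [← ofPt_comp_yon_map, hφ, hs.1, ← hq1, ← sqa.w, Points.ofPt_eq_map_ofScheme,
    Points.map_comp]
  rfl

include hX hqs hpe hpsurj hU hW' hjU in
/-- **The piece of a stratum away from the open subspace.** -/
theorem good2_piece_b :
    Good2 p jU ((Set.range (Points.ofPt hW.g) \ Set.range (Points.ofPt hW'.g)) \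
      Set.range (Points.map jU)) := by
  classical
  obtain ⟨m, hm⟩ := hW.exists_forget hW'
  have hUt : IsAlgSpace Ut := isAlgSpace_of_isOpenImmersion hX jU hjU
  haveI := hW.etale
  haveI := hW.sep
  haveI := hW.compact
  haveI : Etale m.left := by
    haveI : Etale (m.left ≫ (pr 0).left) := by
      rw [← Over.comp_left, hm 0, Fin.castSucc_zero]; exact hW'.etale
    exact Etale.of_comp m.left (pr 0).left
  have hmo : IsOpen (Set.range m.left) := m.left.isOpenMap.isOpen_range
  have hRo : IsOpen (Set.range (Points.map jU)) := isOpen_range_map hX jU hjU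
  have hpre : IsOpen (Points.ofPt hW.g ⁻¹' Set.range (Points.map jU)) :=
    hRo.preimage (Points.continuous_ofPt _)
  let Zc : TopologicalSpace.Closeds W.left :=
    ⟨(Set.range m.left)ᶜ ∩ (Points.ofPt hW.g ⁻¹' Set.range (Points.map jU))ᶜ,
      hmo.isClosed_compl.inter hpre.isClosed_compl⟩
  let I := Scheme.IdealSheafData.vanishingIdeal Zc
  let ι₀ : I.subscheme ⟶ W.left := I.subschemeι
  have hι₀r : Set.range ι₀ =
      (Set.range m.left)ᶜ ∩ (Points.ofPt hW.g ⁻¹' Set.range (Points.map jU))ᶜ := by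
    rw [Scheme.IdealSheafData.range_subschemeι, Scheme.IdealSheafData.coe_support_vanishingIdeal]
    rfl
  let Z : Over S := Over.mk (ι₀ ≫ W.hom)
  let ι : Z ⟶ W := Over.homMk ι₀ rfl
  have hιr : Set.range ι.left =
      (Set.range m.left)ᶜ ∩ (Points.ofPt hW.g ⁻¹' Set.range (Points.map jU))ᶜ := hι₀r
  haveI hιc : IsClosedImmersion ι.left := (inferInstance : IsClosedImmersion I.subschemeι)
  haveI : CompactSpace Z.left := ι.left.isClosedEmbedding.compactSpace
  have hZsep : IsSeparated Z.hom := by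
    change IsSeparated (ι₀ ≫ W.hom)
    rw [← CategoryTheory.Over.w (pr 0)]
    haveI := hU
    infer_instance
  have hdisj : ∀ z, ι.left z ∉ Set.range m.left := by
    intro z
    have : ι.left z ∈ Set.range ι.left := ⟨z, rfl⟩
    rw [hιr] at this
    exact this.1
  obtain ⟨Y₀, g, f'', hint, hs, hloc⟩ :=
    ngood_piece hX hqs p hpe hpsurj hU hW hW' m hm ι hdisj hZsep
  set w : (yon S).obj Z ⟶ X := (yon S).map ι ≫ hW.g with hw
  -- the part over the open subspace is empty
  have hrepU := hjU.rep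
  let G₂ : Over S := hrepU.pullback w
  let c : G₂ ⟶ Z := hrepU.snd w
  let z : (yon S).obj G₂ ⟶ Ut := hrepU.fst w
  have sqG : IsPullback z ((yon S).map c) jU w := hrepU.isPullback w
  have hG₂ : IsEmpty G₂.left := by
    refine ⟨fun x => ?_⟩
    have h1 : Points.ofPt w (c.left x) ∈ Set.range (Points.map jU) := by
      rw [← ofPt_comp_yon_map, ← sqG.w, ← Points.map_ofPt]
      exact ⟨_, rfl⟩
    have h2 : ι.left (c.left x) ∈ Set.range ι.left := ⟨_, rfl⟩
    rw [hιr] at h2
    apply h2.2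
    change Points.ofPt hW.g (ι.left (c.left x)) ∈ Set.range (Points.map jU)
    rw [← ofPt_comp_yon_map]
    exact h1
  have hzf : RepWith @IsFinite z :=
    repWith_of_isEmpty_source (fun f hA => by haveI := hA; infer_instance) hG₂ hUt z
  have hze : RepWith @Etale z :=
    repWith_of_isEmpty_source (fun f hA => by haveI := hA; infer_instance) hG₂ hUt z
  have hfe : ∀ (P : Sp S) (fst : P ⟶ (yon S).obj Y₀) (snd : P ⟶ Ut), IsPullback fst snd g jU →
      RepWith @IsFinite snd ∧ RepWith @Etale snd := fun P fst snd sq =>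
    fe_core hX (IsAlgSpace.yon_obj Y₀) w g f'' hs jU hjU (IsAlgSpace.yon_obj G₂)
      ((yon S).map c) z sqG.flip hzf hze fst snd sq
  refine ⟨Y₀, g, hint, ?_, feOver_of_forall hfe, hloc⟩
  rintro x ⟨⟨⟨w₀, rfl⟩, hx⟩, hxU⟩
  have hw₀ : w₀ ∈ Set.range ι.left := by
    rw [hιr]
    refine ⟨?_, hxU⟩
    rintro ⟨w', rfl⟩
    apply hx
    refine ⟨w', ?_⟩
    rw [← ofPt_comp_yon_map]
    congr 1
    unfold IsConf.g
    rw [← Category.assoc, ← Functor.map_comp, hm 0, Fin.castSucc_zero]
  obtain ⟨z₀, rfl⟩ := hw₀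
  obtain ⟨φ, hφ⟩ := (yon S).map_surjective f''
  refine ⟨φ.left z₀, ?_⟩
  rw [← ofPt_comp_yon_map, hφ, hs.1, ofPt_comp_yon_map]

end pieces

end Groth.Agent.Helper15.IntCovFE
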