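import Mathlib
import Groth.Agent.Lib.Helper15.SoberDecent
import Groth.Agent.Lib.Helper15.QcLocal

/-!
# The space of points of a quasi-compact quasi-separated algebraic space is spectral
-/

set_option autoImplicit false
universe u
open CategoryTheory CategoryTheory.Limits AlgebraicGeometry Opposite MorphismProperty
open AlgSp

namespace Groth.Agent.Helper15.SpectralPts

open Groth.Agent.Helper15 Groth.Agent.Helper15.SoberDecent Groth.Agent.Helper15.QcLocal

variable {S : Scheme.{u}}

/-- The compact opens of the space of points of an algebraic space form a basis. -/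
theorem prespectralSpace_points {X : Sp S} (hXa : IsAlgSpace X) : PrespectralSpace (Points X) := by
  obtain ⟨U₀, p, hpe, hps⟩ := hXa.atlas
  refine ⟨TopologicalSpace.isTopologicalBasis_of_isOpen_of_nhds (fun V hV => hV.1) ?_⟩
  intro x W hxW hW
  obtain ⟨u, rfl⟩ := surjective_ofPt p hps x
  have hpre : IsOpen (Points.ofPt p ⁻¹' W) := hW.preimage (Points.continuous_ofPt p)
  obtain ⟨_, ⟨O, hO, rfl⟩, huO, hOW⟩ :=
    (U₀.left.isBasis_affineOpens).exists_subset_of_mem_open (show u ∈ Points.ofPt p ⁻¹' W from hxW)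
      hpre
  refine ⟨Points.ofPt p '' (O : Set U₀.left), ⟨isOpenMap_ofPt_of_etale p hpe _ O.isOpen,
    hO.isCompact.image (Points.continuous_ofPt p)⟩, ⟨u, huO, rfl⟩, ?_⟩
  rintro _ ⟨v, hv, rfl⟩
  exact hOW hv

/-- S10201. -/
theorem spectralSpace_points [QuasiSeparatedSpace S] {X : Sp S} (hXa : IsAlgSpace X)
    (hqc : IsQuasiCompactSp X) (hqs : IsQuasiSeparatedSp X) : SpectralSpace (Points X) := by
  have hd := isDecent_of_isQuasiSeparatedSp hXa hqs
  haveI := quasiSober_points_of_isDecent hXa hd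
  haveI := t0Space_points_of_isDecent hXa hd
  haveI := compactSpace_points_of_isQuasiCompactSp hqc
  haveI := prespectralSpace_points hXa
  haveI : QuasiSeparatedSpace (Points X) := by
    obtain ⟨U₀, p, hpe, hps⟩ := hXa.atlas
    refine ⟨fun V₁ V₂ hV₁ hV₁c hV₂ hV₂c => ?_⟩
    obtain ⟨U₁, g₁, hg₁, hU₁, rfl⟩ := exists_compact_chart_of_isCompact_isOpen p hpe hps V₁ hV₁ hV₁c
    obtain ⟨U₂, g₂, hg₂, hU₂, rfl⟩ := exists_compact_chart_of_isCompact_isOpen p hpe hps V₂ hV₂ hV₂c
    have sq := hg₂.rep.isPullback' g₁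
    haveI : CompactSpace U₂.left := hU₂
    haveI : CompactSpace U₁.left := hU₁
    haveI : CompactSpace (hg₂.rep.pullback g₁).left :=
      compactSpace_pullback_of_isQuasiSeparatedSp hqs (inferInstance : QuasiCompact U₂.hom)
        g₂ g₁ _ _ sq
    have hrange : Set.range (Points.ofPt g₁) ∩ Set.range (Points.ofPt g₂) =
        Set.range (Points.ofPt ((yon S).map (hg₂.rep.fst' g₁) ≫ g₂)) := by
      ext x
      constructor
      · rintro ⟨⟨a, rfl⟩, ⟨b, hb⟩⟩
        obtain ⟨w, hw1, hw2⟩ := exists_of_ofPt_eq sq b a hb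
        exact ⟨w, by rw [ofPt_comp_yon_map, hw1, hb]⟩
      · rintro ⟨w, rfl⟩
        constructor
        · rw [sq.w, ofPt_comp_yon_map]; exact ⟨_, rfl⟩
        · rw [ofPt_comp_yon_map]; exact ⟨_, rfl⟩
    rw [hrange]
    exact isCompact_range (Points.continuous_ofPt _)
  exact {}

end Groth.Agent.Helper15.SpectralPts
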