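import Mathlib
import Groth.Agent.Lib.Helper15.IntCovFE1
import Groth.Agent.Lib.Helper15.IntCovFE4
import Groth.Agent.Lib.Helper15.SpectralPts
import Groth.Agent.Lib.Helper15.AlgSpImm
import Groth.Agent.Lib.Helper15.AlgSpFinite

/-!
# Integral covers, finite étale over a dense open, V: the cover
-/

set_option autoImplicit false
universe u
open CategoryTheory CategoryTheory.Limits AlgebraicGeometry MorphismProperty Opposite
open AlgSp

namespace Groth.Agent.Helper15.IntCovFE

open Groth.Agent.Helper15 Groth.Agent.Helper15.Strat Groth.Agent.Helper15.Norm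
  Groth.Agent.Helper15.IntCov Groth.Agent.Helper15.Strat.IsConf
  Groth.Agent.Helper15.SpectralPts Groth.Agent.Helper15.SoberDecent
  Groth.Agent.Helper15.QcLocal

variable {S : Scheme.{u}}

/-- **Integral surjective covers by schemes, finite étale over a dense quasi-compact open,**
factoring Zariski locally through a given chart. -/
theorem exists_integral_cover_fe [QuasiSeparatedSpace ↥S] {X : Sp S} (hX : IsAlgSpace X)
    (hqc : IsQuasiCompactSp X) (hqs : IsQuasiSeparatedSp X)
    (hirr : (irreducibleComponents (Points X)).Finite)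
    {U : Over S} (b : (yon S).obj U ⟶ X) (hb : RepWith @Etale b) (hbs : RepWith @Surjective b) :
    ∃ (Y : Over S) (g : (yon S).obj Y ⟶ X) (Ut : Sp S) (jU : Ut ⟶ X), IsAlgSpace Ut ∧
      RepWith @IsIntegralHom g ∧ RepWith @Surjective g ∧
      RepWith @IsOpenImmersion jU ∧ IsQuasiCompactSp Ut ∧ Dense (Set.range (Points.map jU)) ∧
      (∀ (P : Sp S) (fst : P ⟶ (yon S).obj Y) (snd : P ⟶ Ut), IsPullback fst snd g jU →
        RepWith @IsFinite snd ∧ RepWith @Etale snd) ∧
      ∀ y : Y.left, ∃ (W : Y.left.Opens) (c : opSub Y W ⟶ U), y ∈ W ∧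
        (yon S).map c ≫ b = (yon S).map (opι Y W) ≫ g := by
  obtain ⟨U₀, i, hU₀, hpe, hps⟩ := exists_affine_chart_through hqc b hb hbs
  haveI := hU₀
  set p : (yon S).obj U₀ ⟶ X := (yon S).map i ≫ b with hp
  have hU : IsSeparated U₀.hom := inferInstance
  have hUq : QuasiCompact U₀.hom := quasiCompact_of_compactSpace _
  choose W pr hW using fun n => exists_isConf p hX hqs hpe hU hUq n
  obtain ⟨N, hN⟩ := exists_isEmpty_conf hX hqs hpe hU hUq
  let Ω : ℕ → Set (Points X) := fun n => Set.range (Points.ofPt (hW n).g)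
  have hΩ0 : Ω 0 = Set.univ := by
    apply Set.eq_univ_of_forall
    intro x
    obtain ⟨u, rfl⟩ := surjective_ofPt p hps x
    obtain ⟨l, hl⟩ := (hW 0).lift U₀ (fun _ => 𝟙 U₀) (fun _ _ => rfl)
      (fun a b hab => absurd ((Fin.eq_zero a).trans (Fin.eq_zero b).symm) hab)
    refine ⟨l.left u, ?_⟩
    rw [← ofPt_comp_yon_map]
    congr 1
    unfold IsConf.g
    rw [← Category.assoc, ← Functor.map_comp, hl 0, CategoryTheory.Functor.map_id,
      Category.id_comp]
  have hΩN : Ω N = ∅ := by
    apply Set.eq_empty_of_forall_notMem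
    rintro _ ⟨w, -⟩
    exact (hN (W N) (pr N) (hW N)).false w
  have hΩo : ∀ n, IsOpen (Ω n) := fun n =>
    (isOpenMap_ofPt_of_etale _ ((hW n).repWith_etale_g hpe)).isOpen_range
  have hanti : ∀ n, Ω (n + 1) ⊆ Ω n := by
    intro n
    obtain ⟨m, hm⟩ := (hW n).exists_forget (hW (n + 1))
    rintro _ ⟨w', rfl⟩
    refine ⟨m.left w', ?_⟩
    rw [← ofPt_comp_yon_map]
    congr 1
    unfold IsConf.g
    rw [← Category.assoc, ← Functor.map_comp, hm 0, Fin.castSucc_zero]
  have hanti' : ∀ a b, a ≤ b → Ω b ⊆ Ω a := by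
    intro a b hab
    induction b, hab using Nat.le_induction with
    | base => exact subset_rfl
    | succ b _ ih => exact (hanti b).trans ih
  -- the topology of the space of points
  have hd := isDecent_of_isQuasiSeparatedSp hX hqs
  haveI := quasiSober_points_of_isDecent hX hd
  haveI := prespectralSpace_points hX
  have hbasis : ∀ (x : Points X) (G : Set (Points X)), IsOpen G → x ∈ G →
      ∃ K, IsOpen K ∧ IsCompact K ∧ x ∈ K ∧ K ⊆ G := by
    intro x G hG hx
    obtain ⟨K, ⟨hKo, hKc⟩, hxK, hKG⟩ :=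
      (PrespectralSpace.isTopologicalBasis (X := Points X)).exists_subset_of_mem_open hx hG
    exact ⟨K, hKo, hKc, hxK, hKG⟩
  obtain ⟨O, hOo, hOc, hOsub, hOe, hOd⟩ := exists_dense_strata hirr hbasis Ω hΩo hΩ0 N hΩN hanti
  have hdisjO : ∀ k n x, x ∈ O k → x ∈ O n → k = n := by
    intro k n x hk hn
    have hk' := hOsub k hk
    have hn' := hOsub n hn
    by_contra hne
    rcases Nat.lt_or_gt_of_ne hne with h | h
    · exact hk'.2 (hanti' (k + 1) n h hn'.1)
    · exact hn'.2 (hanti' (n + 1) k h hk'.1)
  -- the open subspace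
  obtain ⟨Ut, jU, hUt, hjU, hR⟩ := exists_open_subspace_of_isOpen hX (⋃ n, O n) (isOpen_iUnion hOo)
  have hUnion : (⋃ n, O n) = ⋃ n ∈ Finset.range N, O n := by
    ext x
    simp only [Set.mem_iUnion, Finset.mem_range, exists_prop]
    constructor
    · rintro ⟨n, hn⟩
      refine ⟨n, ?_, hn⟩
      by_contra hcon
      rw [hOe n (not_lt.1 hcon)] at hn
      exact hn
    · rintro ⟨n, -, hn⟩
      exact ⟨n, hn⟩
  have hUtqc : IsQuasiCompactSp Ut := isQuasiCompactSp_of_isCompact_range hX jU hjU (by
    rw [hR, hUnion]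
    exact (Finset.range N).isCompact_biUnion (fun n _ => hOc n))
  haveI : Mono jU := mono_of_repWith_isOpenImmersion jU hjU
  have hinj := points_map_injective_of_isOpenImmersion hX jU hjU
  -- the strata
  have hstr : ∀ n, Good2 p jU (Ω n \ Ω (n + 1)) := by
    intro n
    obtain ⟨V, π, hQ, hπf⟩ := exists_isQuot_fin (hW n)
    obtain ⟨Uo, j, hUo, hj, hjr⟩ := exists_open_subspace_of_isOpen hX (O n) (hOo n)
    have hUoqc : IsQuasiCompactSp Uo := isQuasiCompactSp_of_isCompact_range hX j hj (by
      rw [hjr]; exact hOc n)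
    obtain ⟨incl, hincl⟩ := (factors_through_open_iff jU hjU j).2 (by
      rw [hjr, hR]; exact Set.subset_iUnion O n)
    have sqi : IsPullback (𝟙 Uo) incl j jU := by
      rw [← hincl]; exact isPullback_id_of_mono incl jU
    have hio : RepWith @IsOpenImmersion incl := (RepWith @IsOpenImmersion).of_isPullback sqi hj
    have hrange : Set.range (Points.map incl) = Points.map jU ⁻¹' (O n) := by
      ext x
      constructor
      · rintro ⟨u, rfl⟩
        change Points.map jU (Points.map incl u) ∈ O n
        rw [← Points.map_comp, hincl, ← hjr]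
        exact ⟨u, rfl⟩
      · intro hx
        change Points.map jU x ∈ O n at hx
        rw [← hjr] at hx
        obtain ⟨u, hu⟩ := hx
        refine ⟨u, hinj ?_⟩
        rw [← Points.map_comp, hincl, hu]
    have hclosed : IsClosed (Set.range (Points.map incl)) := by
      rw [hrange]
      have : Points.map jU ⁻¹' (O n) =
          (Points.map jU ⁻¹' (⋃ k ∈ {k : ℕ | k ≠ n}, O k))ᶜ := by
        ext x
        simp only [Set.mem_preimage, Set.mem_compl_iff, Set.mem_iUnion, Set.mem_ofPred_eq,
          exists_prop, not_exists, not_and]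
        constructor
        · intro hx k hk hxk
          exact hk (hdisjO k n _ hxk hx)
        · intro hx
          have hmem : Points.map jU x ∈ ⋃ k, O k := by
            rw [← hR]; exact ⟨x, rfl⟩
          obtain ⟨k, hk⟩ := Set.mem_iUnion.1 hmem
          by_cases hkn : k = n
          · rw [← hkn]; exact hk
          · exact absurd hk (hx k hkn)
      rw [this]
      exact (IsOpen.preimage (Points.continuous_map jU)
        (isOpen_biUnion (fun k _ => hOo k))).isClosed_compl
    have hic : RepWith @IsClosedImmersion incl :=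
      (repWith_isClosedImmersion_iff_isClosed_range hUt incl
        (repWith_mono isOpenImmersion_le_isImmersion hio)).2 hclosed
    have ha := good2_piece_a hX hqs hpe hps hU (hW (n + 1)) jU hjU hQ hπf j hj hUoqc
      (by rw [hjr]; exact hOsub n) incl hincl (repWith_mono isClosedImmersion_le_isFinite hic)
      (repWith_mono isOpenImmersion_le_etale hio)
    have hb' := good2_piece_b (hW := hW n) hX hqs hpe hps hU (hW (n + 1)) jU hjU
    refine (ha.union hX hb').mono ?_
    intro x hx
    by_cases hxU : x ∈ Set.range (Points.map jU)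
    · left
      rw [hjr]
      rw [hR] at hxU
      obtain ⟨k, hk⟩ := Set.mem_iUnion.1 hxU
      have hk' := hOsub k hk
      have hkn : k = n := by
        by_contra hne
        rcases Nat.lt_or_gt_of_ne hne with h | h
        · exact hk'.2 (hanti' (k + 1) n h hx.1)
        · exact hx.2 (hanti' (n + 1) k h hk'.1)
      rw [← hkn]; exact hk
    · right
      exact ⟨hx, hxU⟩
  have hk : ∀ k, Good2 p jU (Ω 0 \ Ω k) := by
    intro k
    induction k with
    | zero => exact (hstr 0).mono (by rw [Set.diff_self]; exact Set.empty_subset _)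
    | succ k ih =>
      refine (ih.union hX (hstr k)).mono ?_
      rintro x ⟨hx0, hxk⟩
      by_cases hx : x ∈ Ω k
      · exact Or.inr ⟨hx, hxk⟩
      · exact Or.inl ⟨hx0, hx⟩
  obtain ⟨Y₀, g, hint, hsurj, hfe, hloc⟩ := hk N
  rw [hΩ0, hΩN, Set.sdiff_empty] at hsurj
  refine ⟨Y₀, g, Ut, jU, hUt, hint, ?_, hjU, hUtqc, ?_, ?_, ?_⟩
  · refine repWith_surjective_of_isSurjectiveMor g hint.rep (fun x => ?_)
    obtain ⟨y, hy⟩ := hsurj (Set.mem_univ x)
    exact ⟨Points.ofScheme Y₀ y, by rw [← Points.ofPt_eq_map_ofScheme]; exact hy⟩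
  · rw [hR]; exact hOd
  · exact fun P fst snd sq => hfe.forall hint.rep P fst snd sq
  · intro y
    obtain ⟨W', c, hy, hc⟩ := hloc y
    refine ⟨W', c ≫ i, hy, ?_⟩
    rw [Functor.map_comp, Category.assoc, ← hp, hc]

end Groth.Agent.Helper15.IntCovFE
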