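import Groth.Agent.Lib.Helper16.AlgSp.LocalST
import Groth.Agent.Lib.Helper15.AlgSpEtCl
import Groth.Agent.Lib.Helper15.Strat9
import Groth.Agent.Lib.Helper15.AlgSpPoints

/-!
# A criterion for properties étale-smooth local on source-and-target: basic tools
-/

set_option autoImplicit false
set_option linter.style.haveILetI false
universe u
open CategoryTheory CategoryTheory.Limits AlgebraicGeometry MorphismProperty Opposite
open AlgSp Groth.Agent.Helper16.AS

namespace Groth.Agent.Helper15.LST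

variable {S : Scheme.{u}}

/-- The hypotheses of the criterion. -/
structure Hyp (P : MorphismProperty (Sp S)) : Prop where
  h1 : IsLocalOnSource (IsEtCover (S := S)) P
  h2 : IsLocalOnBase (IsSmCover (S := S)) P
  h3 : ∀ ⦃X Y Z : Sp S⦄, IsAlgSpace X → IsAlgSpace Y → IsAlgSpace Z → ∀ (f : X ⟶ Y) (j : Y ⟶ Z),
    P f → RepWith @IsOpenImmersion j → P (f ≫ j)

variable {P : MorphismProperty (Sp S)}

/-- precomposition with étale morphisms -/
theorem Hyp.precomp (hP : Hyp P) {X Y Z : Sp S} (hX : IsAlgSpace X) (hY : IsAlgSpace Y)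
    (hZ : IsAlgSpace Z) (f : X ⟶ Y) (g : Y ⟶ Z) (hf : IsEtaleMor f) (hg : P g) : P (f ≫ g) := by
  have hcov := isCover_pair (C := IsEtaleMor) f hf (isEtaleMor_id Y)
  exact (hP.h1 _ _ hY (by rintro (_ | _); exacts [hX, hY]) hcov g hZ).1 hg (Sum.inl PUnit.unit)

/-- smooth base change -/
theorem Hyp.baseChange (hP : Hyp P) {X Y X' Y' : Sp S} (hX : IsAlgSpace X) (hY : IsAlgSpace Y)
    (hX' : IsAlgSpace X') (hY' : IsAlgSpace Y') (f : X ⟶ Y) (g : Y' ⟶ Y) (f' : X' ⟶ Y')
    (g' : X' ⟶ X) (sq : IsPullback g' f' f g) (hg : LocP @Smooth g) (hf : P f) : P f' := by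
  have hcov := isCover_pair (C := LocP @Smooth) g hg (locP_smooth_id hY)
  exact (hP.h2 _ _ hY (by rintro (_ | _); exacts [hY', hY]) hcov f hX
    (Sum.elim (fun _ : PUnit.{u+1} => X') (fun _ : PUnit.{u+1} => X))
    (fun i => match i with
      | Sum.inl _ => f'
      | Sum.inr _ => f)
    (fun i => match i with
      | Sum.inl _ => g'
      | Sum.inr _ => 𝟙 X)
    (by rintro (_ | _); exacts [hX', hX])
    (by
      rintro (_ | _)
      · exact sq
      · exact isPullback_id_self f)).1 hf (Sum.inl PUnit.unit)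

/-- a morphism whose source has no points has `P` -/
theorem Hyp.of_isEmpty (hP : Hyp P) {X Y : Sp S} (hX : IsAlgSpace X) (hY : IsAlgSpace Y)
    (f : X ⟶ Y) (hempty : IsEmpty (Points X)) : P f := by
  have hcov : IsEtCover (fun i : PEmpty.{u+1} => (PEmpty.elim i : Sp S))
      (fun i => PEmpty.elim i) := ⟨fun i => PEmpty.elim i, fun x => (hempty.false x).elim⟩
  exact (hP.h1 _ _ hX (fun i => PEmpty.elim i) hcov f hY).2 (fun i => PEmpty.elim i)

/-- localisation on the source for a one-member covering -/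
theorem Hyp.of_cover_single (hP : Hyp P) {X X' Y : Sp S} (hX : IsAlgSpace X) (hX' : IsAlgSpace X')
    (hY : IsAlgSpace Y) (a : X' ⟶ X) (ha : IsEtaleMor a)
    (hs : ∀ x : Points X, ∃ x', Points.map a x' = x) (f : X ⟶ Y) (h : P (a ≫ f)) : P f := by
  have hcov : IsEtCover (fun _ : PUnit.{u+1} => X') (fun _ => a) :=
    ⟨fun _ => ha, fun x => ⟨PUnit.unit, hs x⟩⟩
  exact (hP.h1 _ _ hX (fun _ => hX') hcov f hY).2 (fun _ => h)

/-- localisation on the base for a one-member covering -/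
theorem Hyp.of_base_single (hP : Hyp P) {X Y X' Y' : Sp S} (hX : IsAlgSpace X) (hY : IsAlgSpace Y)
    (hX' : IsAlgSpace X') (hY' : IsAlgSpace Y') (f : X ⟶ Y) (g : Y' ⟶ Y) (f' : X' ⟶ Y')
    (g' : X' ⟶ X) (sq : IsPullback g' f' f g) (hg : LocP @Smooth g)
    (hs : ∀ y : Points Y, ∃ y', Points.map g y' = y) (h : P f') : P f := by
  have hcov : IsSmCover (fun _ : PUnit.{u+1} => Y') (fun _ => g) :=
    ⟨fun _ => hg, fun y => ⟨PUnit.unit, hs y⟩⟩
  exact (hP.h2 _ _ hY (fun _ => hY') hcov f hX (fun _ => X') (fun _ => f') (fun _ => g')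
    (fun _ => hX') (fun _ => sq)).2 (fun _ => h)

theorem isEtaleMor_of_isIso {X Y : Sp S} (e : X ⟶ Y) [IsIso e] : IsEtaleMor e :=
  Strat.isEtaleMor_of_isOpenImmersion e (repWith_of_isIso _ e)

theorem Hyp.iso_precomp (hP : Hyp P) {X X' Y : Sp S} (hX : IsAlgSpace X) (hX' : IsAlgSpace X')
    (hY : IsAlgSpace Y) (e : X' ⟶ X) [IsIso e] (f : X ⟶ Y) (h : P f) : P (e ≫ f) :=
  hP.precomp hX' hX hY e f (isEtaleMor_of_isIso e) h

theorem Hyp.iso_postcomp (hP : Hyp P) {X Y Y' : Sp S} (hX : IsAlgSpace X) (hY : IsAlgSpace Y)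
    (hY' : IsAlgSpace Y') (f : X ⟶ Y) (e : Y ⟶ Y') [IsIso e] (h : P f) : P (f ≫ e) :=
  hP.h3 hX hY hY' f e h (repWith_of_isIso _ e)

end Groth.Agent.Helper15.LST
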