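import Mathlib

/-!
# Bounding lifts of field points along quasi-finite ring maps (via Zariski's main theorem)
-/

set_option autoImplicit false
universe u

namespace Groth.Agent.Helper15.UbfZmt

/-- At most `N` ring homomorphisms to a field from an algebra spanned by `N` elements, over a
fixed homomorphism from the base. -/
theorem card_ringHom_le_of_span {A B' K : Type*} [CommRing A] [CommRing B'] [Algebra A B']
    [Field K] {N : ℕ} (b : Fin N → B') (hb : Submodule.span A (Set.range b) = ⊤) (z : A →+* K)
    {m : ℕ} (β : Fin m → (B' →+* K)) (hβ : Function.Injective β)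
    (hβz : ∀ j, (β j).comp (algebraMap A B') = z) : m ≤ N := by
  have hinj : Function.Injective (fun j => ((β j : B' →+* K) : B' →* K)) := by
    intro j k hjk
    apply hβ
    ext x
    exact congrArg (fun f : B' →* K => f x) hjk
  have hli : LinearIndependent K (fun j => (((β j : B' →+* K) : B' →* K) : B' → K)) :=
    (linearIndependent_monoidHom B' K).comp _ hinj
  let Φ : (B' → K) →ₗ[K] (Fin N → K) := LinearMap.pi fun i => LinearMap.proj (b i)
  have hdisj : Disjoint
      (Submodule.span K (Set.range fun j => (((β j : B' →+* K) : B' →* K) : B' → K)))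
      (LinearMap.ker Φ) := by
    rw [Submodule.disjoint_def]
    have hprop' : ∀ f ∈ Submodule.span K
        (Set.range fun j => (((β j : B' →+* K) : B' →* K) : B' → K)),
        (∀ x y, f (x + y) = f x + f y) ∧ (∀ (a : A) x, f (a • x) = z a * f x) := by
      intro f hf
      induction hf using Submodule.span_induction with
      | mem f hf =>
        obtain ⟨j, rfl⟩ := hf
        refine ⟨fun x y => map_add (β j) x y, fun a x => ?_⟩
        change β j (a • x) = z a * β j x
        rw [Algebra.smul_def, map_mul, ← hβz j]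
        rfl
      | zero => exact ⟨fun _ _ => by simp, fun _ _ => by simp⟩
      | add f g _ _ hf hg =>
        refine ⟨fun x y => ?_, fun a x => ?_⟩
        · simp only [Pi.add_apply, hf.1, hg.1]; ring
        · simp only [Pi.add_apply, hf.2, hg.2]; ring
      | smul c f _ hf =>
        refine ⟨fun x y => ?_, fun a x => ?_⟩
        · simp only [Pi.smul_apply, hf.1, smul_eq_mul]; ring
        · simp only [Pi.smul_apply, hf.2, smul_eq_mul]; ring
    intro f hf hker
    have hprop := hprop' f hf
    have hf0 : f 0 = 0 := by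
      have := hprop.1 0 0
      rw [add_zero] at this
      exact left_eq_add.mp this
    ext x
    have hx : x ∈ Submodule.span A (Set.range b) := by rw [hb]; trivial
    induction hx using Submodule.span_induction with
    | mem x hx =>
      obtain ⟨i, rfl⟩ := hx
      exact congrFun (LinearMap.mem_ker.1 hker) i
    | zero => exact hf0
    | add x y _ _ hx hy => rw [hprop.1, hx, hy]; simp
    | smul a x _ hx => rw [hprop.2, hx]; simp
  have hli' := hli.map hdisj
  have := hli'.fintype_card_le_finrank
  simpa using this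


/-- Ring homomorphisms to a field not vanishing at `r`, when `B[1/r]` comes from a finite
subalgebra `B'`: their number over a fixed homomorphism from the base is bounded. -/
theorem exists_bound_of_away {A B : Type u} [CommRing A] [CommRing B] [Algebra A B]
    (B' : Subalgebra A B) (hfg : B'.toSubmodule.FG) (r : B')
    (hsurj : Function.Surjective (Localization.awayMap B'.val.toRingHom r)) :
    ∃ N : ℕ, ∀ (K : Type u) [Field K] (z : A →+* K) (L : Finset (B →+* K)),
      (∀ β ∈ L, β.comp (algebraMap A B) = z ∧ β r.1 ≠ 0) → L.card ≤ N := by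
  haveI : Module.Finite A B' := ⟨(Submodule.fg_top _).mpr hfg⟩
  obtain ⟨N, b, hb⟩ := Module.Finite.exists_fin (R := A) (M := B')
  refine ⟨N, fun K _ z L hL => ?_⟩
  have hsurj' := Localization.awayMap_surjective_iff.1 hsurj
  let β : Fin L.card → (B' →+* K) := fun i => ((L.equivFin.symm i).1).comp B'.val.toRingHom
  refine card_ringHom_le_of_span b hb z β ?_ ?_
  · intro i k hik
    apply L.equivFin.symm.injective
    apply Subtype.ext
    have hi := hL _ (L.equivFin.symm i).2
    have hk := hL _ (L.equivFin.symm k).2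
    set βi := (L.equivFin.symm i).1 with hβi
    set βk := (L.equivFin.symm k).1 with hβk
    have hres : ∀ y : B', βi y.1 = βk y.1 := fun y => congrArg (fun f : B' →+* K => f y) hik
    ext a
    obtain ⟨y, n, hy⟩ := hsurj' a
    have hy' : (y : B) = (r : B) ^ n * a := hy
    have h1 : βi (r : B) ^ n * βi a = βk (r : B) ^ n * βk a := by
      rw [← map_pow, ← map_mul, ← map_pow, ← map_mul, ← hy']
      exact hres y
    rw [hres r] at h1
    exact mul_left_cancel₀ (pow_ne_zero n hk.2) h1
  · intro j
    have hj := (hL _ (L.equivFin.symm j).2).1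
    ext a
    have := congrArg (fun f : A →+* K => f a) hj
    exact this

/-- The number of lifts of a homomorphism to a field along a quasi-finite ring map of finite
type is bounded. -/
theorem exists_bound_of_quasiFinite {A B : Type u} [CommRing A] [CommRing B] [Algebra A B]
    [Algebra.FiniteType A B] [Algebra.QuasiFinite A B] :
    ∃ N : ℕ, ∀ (K : Type u) [Field K] (z : A →+* K) (L : Finset (B →+* K)),
      (∀ β ∈ L, β.comp (algebraMap A B) = z) → L.card ≤ N := by
  classical
  have hloc : ∀ p : PrimeSpectrum B, ∃ (r : B) (N : ℕ), r ∉ p.asIdeal ∧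
      ∀ (K : Type u) [Field K] (z : A →+* K) (L : Finset (B →+* K)),
        (∀ β ∈ L, β.comp (algebraMap A B) = z ∧ β r ≠ 0) → L.card ≤ N := by
    intro p
    haveI := p.isPrime
    obtain ⟨B', hfg, r, hrp, hbij⟩ :=
      Algebra.QuasiFiniteAt.exists_fg_and_exists_notMem_and_awayMap_bijective (R := A) p.asIdeal
    obtain ⟨N, hN⟩ := exists_bound_of_away B' hfg r hbij.2
    exact ⟨r.1, N, hrp, hN⟩
  choose r N hr hN using hloc
  have hcov : (Set.univ : Set (PrimeSpectrum B)) ⊆ ⋃ p, (PrimeSpectrum.basicOpen (r p) : Set _) :=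
    fun p _ => Set.mem_iUnion.2 ⟨p, hr p⟩
  obtain ⟨t, ht⟩ := isCompact_univ.elim_finite_subcover _
    (fun p => (PrimeSpectrum.basicOpen (r p)).2) hcov
  refine ⟨∑ p ∈ t, N p, fun K _ z L hL => ?_⟩
  have hsub : L ⊆ t.biUnion (fun p => L.filter (fun β => β (r p) ≠ 0)) := by
    intro β hβ
    let 𝔮 : PrimeSpectrum B := ⟨RingHom.ker β, RingHom.ker_isPrime β⟩
    obtain ⟨p, hpt, hp⟩ := Set.mem_iUnion₂.1 (ht (Set.mem_univ 𝔮))
    refine Finset.mem_biUnion.2 ⟨p, hpt, Finset.mem_filter.2 ⟨hβ, ?_⟩⟩
    exact fun h0 => hp ((RingHom.mem_ker).2 h0)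
  calc L.card ≤ (t.biUnion (fun p => L.filter (fun β => β (r p) ≠ 0))).card :=
        Finset.card_le_card hsub
    _ ≤ ∑ p ∈ t, (L.filter (fun β => β (r p) ≠ 0)).card := Finset.card_biUnion_le
    _ ≤ ∑ p ∈ t, N p := Finset.sum_le_sum (fun p _ => hN p K z _ (fun β hβ => by
        obtain ⟨h1, h2⟩ := Finset.mem_filter.1 hβ
        exact ⟨hL β h1, h2⟩))

end Groth.Agent.Helper15.UbfZmt
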