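import Mathlib
import Groth.Agent.Lib.Helper15.UbfZmt

/-!
# Bounded numbers of lifts of field points along quasi-finite morphisms of schemes
-/

set_option autoImplicit false
set_option linter.style.haveILetI false
universe u
open CategoryTheory CategoryTheory.Limits AlgebraicGeometry

namespace Groth.Agent.Helper15.UbfSch

open Groth.Agent.Helper15.UbfZmt

/-- `N` bounds the number of lifts of field-valued points along `g`. -/
def SchLiftsLE (N : ℕ) {W V : Scheme.{u}} (g : W ⟶ V) : Prop :=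
  ∀ (K : Type u) [Field K] (z : Spec (CommRingCat.of K) ⟶ V)
    (L : Finset (Spec (CommRingCat.of K) ⟶ W)), (∀ l ∈ L, l ≫ g = z) → L.card ≤ N

theorem SchLiftsLE.mono {N M : ℕ} {W V : Scheme.{u}} {g : W ⟶ V} (h : SchLiftsLE N g)
    (hNM : N ≤ M) : SchLiftsLE M g := fun K _ z L hL => (h K z L hL).trans hNM

theorem SchLiftsLE.comp_mono_left {N : ℕ} {W' W V : Scheme.{u}} (j : W' ⟶ W) [Mono j]
    {g : W ⟶ V} (h : SchLiftsLE N g) : SchLiftsLE N (j ≫ g) := by
  classical
  intro K _ z L hL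
  have := h K z (L.image (fun l => l ≫ j)) (by
    intro l hl
    obtain ⟨l', hl', rfl⟩ := Finset.mem_image.1 hl
    rw [Category.assoc]; exact hL l' hl')
  rwa [Finset.card_image_of_injective _ (fun a b hab => (cancel_mono j).1 hab)] at this

theorem SchLiftsLE.comp_mono_right {N : ℕ} {W V V' : Scheme.{u}} (i : V ⟶ V') [Mono i]
    {g : W ⟶ V} (h : SchLiftsLE N g) : SchLiftsLE N (g ≫ i) := by
  intro K _ z L hL
  rcases L.eq_empty_or_nonempty with rfl | ⟨l₀, hl₀⟩
  · simp
  · refine h K (l₀ ≫ g) L (fun l hl => ?_)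
    rw [← cancel_mono i, Category.assoc, Category.assoc, hL l hl, hL l₀ hl₀]

/-- The bound for `Spec` of a quasi-finite ring map of finite type. -/
theorem exists_schLiftsLE_SpecMap {A B : CommRingCat.{u}} (φ : A ⟶ B) (hft : φ.hom.FiniteType)
    (hqf : φ.hom.QuasiFinite) : ∃ N, SchLiftsLE N (Spec.map φ) := by
  classical
  algebraize [φ.hom]
  obtain ⟨N, hN⟩ := exists_bound_of_quasiFinite (A := A) (B := B)
  refine ⟨N, fun K _ z L hL => ?_⟩
  have hinj : Function.Injective (fun l : Spec (CommRingCat.of K) ⟶ Spec B =>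
      (Spec.preimage l).hom) := by
    intro l l' hll'
    have : Spec.preimage l = Spec.preimage l' := CommRingCat.hom_ext hll'
    rw [← Spec.map_preimage l, ← Spec.map_preimage l', this]
  have := hN K (Spec.preimage z).hom (L.image (fun l => (Spec.preimage l).hom)) (by
    intro β hβ
    obtain ⟨l, hl, rfl⟩ := Finset.mem_image.1 hβ
    have h1 : φ ≫ Spec.preimage l = Spec.preimage z := by
      apply Spec.map_injective
      rw [Spec.map_comp, Spec.map_preimage, Spec.map_preimage]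
      exact hL l hl
    have h2 := congrArg (fun f => f.hom) h1
    exact h2)
  rwa [Finset.card_image_of_injective _ hinj] at this


/-- The bound for a locally quasi-finite morphism locally of finite type between affine
schemes. -/
theorem exists_schLiftsLE_of_isAffine {W V : Scheme.{u}} [IsAffine W] [IsAffine V] (g : W ⟶ V)
    [LocallyQuasiFinite g] [LocallyOfFiniteType g] : ∃ N, SchLiftsLE N g := by
  have hft : g.appTop.hom.FiniteType :=
    (HasRingHomProperty.iff_of_isAffine (P := @LocallyOfFiniteType)).1 inferInstance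
  have hqf : g.appTop.hom.QuasiFinite :=
    (HasRingHomProperty.iff_of_isAffine (P := @LocallyQuasiFinite)).1 inferInstance
  obtain ⟨N, hN⟩ := exists_schLiftsLE_SpecMap g.appTop hft hqf
  refine ⟨N, ?_⟩
  have hg : g = (W.isoSpec.hom ≫ Spec.map g.appTop) ≫ V.isoSpec.inv := by
    rw [Scheme.isoSpec_hom_naturality g, Category.assoc, Iso.hom_inv_id, Category.comp_id]
  rw [hg]
  exact (hN.comp_mono_left W.isoSpec.hom).comp_mono_right V.isoSpec.inv

/-- Lifts are counted on a finite open cover of the source. -/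
theorem schLiftsLE_of_openCover {W V : Scheme.{u}} (g : W ⟶ V) {ι : Type*} (t : Finset ι)
    (O : ι → W.Opens) (hcov : ∀ w : W, ∃ k ∈ t, w ∈ O k) (N : ι → ℕ)
    (h : ∀ k ∈ t, SchLiftsLE (N k) ((O k).ι ≫ g)) : SchLiftsLE (∑ k ∈ t, N k) g := by
  classical
  intro K _ z L hL
  have hsub : L ⊆ t.biUnion (fun k => L.filter (fun l => l (IsLocalRing.closedPoint K) ∈ O k)) := by
    intro l hl
    obtain ⟨k, hk, hlk⟩ := hcov (l (IsLocalRing.closedPoint K))
    exact Finset.mem_biUnion.2 ⟨k, hk, Finset.mem_filter.2 ⟨hl, hlk⟩⟩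
  have hk : ∀ k ∈ t, (L.filter (fun l => l (IsLocalRing.closedPoint K) ∈ O k)).card ≤ N k := by
    intro k hk
    set Lk := L.filter (fun l => l (IsLocalRing.closedPoint K) ∈ O k) with hLk
    have hrange : ∀ l ∈ Lk, Set.range l ⊆ Set.range (O k).ι := by
      intro l hl
      rintro _ ⟨x, rfl⟩
      have hx : x = IsLocalRing.closedPoint K := Subsingleton.elim _ _
      rw [hx, Scheme.Opens.range_ι]
      exact (Finset.mem_filter.1 hl).2
    let lift : Lk → (Spec (CommRingCat.of K) ⟶ (O k).toScheme) := fun l =>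
      IsOpenImmersion.lift (O k).ι l.1 (hrange l.1 l.2)
    have hlift : ∀ l : Lk, lift l ≫ (O k).ι = l.1 := fun l => IsOpenImmersion.lift_fac _ _ _
    have hinj : Function.Injective lift := by
      intro l l' hll'
      apply Subtype.ext
      rw [← hlift l, ← hlift l', hll']
    have := h k hk K z (Finset.univ.image lift) (by
      intro l' hl'
      obtain ⟨l, -, rfl⟩ := Finset.mem_image.1 hl'
      rw [← Category.assoc, hlift]
      exact hL l.1 (Finset.mem_filter.1 l.2).1)
    rwa [Finset.card_image_of_injective _ hinj, Finset.card_univ, Fintype.card_coe] at this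
  calc L.card ≤ _ := Finset.card_le_card hsub
    _ ≤ ∑ k ∈ t, (L.filter (fun l => l (IsLocalRing.closedPoint K) ∈ O k)).card :=
        Finset.card_biUnion_le
    _ ≤ ∑ k ∈ t, N k := Finset.sum_le_sum hk

/-- The bound for a locally quasi-finite morphism locally of finite type with quasi-compact
source. -/
theorem exists_schLiftsLE_of_compactSpace {W V : Scheme.{u}} [CompactSpace W] (g : W ⟶ V)
    [LocallyQuasiFinite g] [LocallyOfFiniteType g] : ∃ N, SchLiftsLE N g := by
  classical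
  have hloc : ∀ w : W, ∃ (W₁ : W.Opens) (V₁ : V.Opens), w ∈ W₁ ∧ IsAffineOpen W₁ ∧
      IsAffineOpen V₁ ∧ W₁ ≤ g ⁻¹ᵁ V₁ := by
    intro w
    obtain ⟨_, ⟨V₁, hV₁, rfl⟩, hgV₁, -⟩ := (V.isBasis_affineOpens).exists_subset_of_mem_open
      (Set.mem_univ (g w)) isOpen_univ
    let V₁' : V.Opens := V₁
    obtain ⟨_, ⟨W₁, hW₁, rfl⟩, hwW₁, hW₁le⟩ := (W.isBasis_affineOpens).exists_subset_of_mem_open
      (show w ∈ ((g ⁻¹ᵁ V₁' : W.Opens) : Set W) from hgV₁) (g ⁻¹ᵁ V₁').2
    exact ⟨W₁, V₁', hwW₁, hW₁, hV₁, hW₁le⟩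
  choose W₁ V₁ h1 h2 h3 h4 using hloc
  obtain ⟨t, ht⟩ := isCompact_univ.elim_finite_subcover (fun w => (W₁ w : Set W))
    (fun w => (W₁ w).2) (fun w _ => Set.mem_iUnion.2 ⟨w, h1 w⟩)
  have hN : ∀ w : W, ∃ N, SchLiftsLE N ((W₁ w).ι ≫ g) := by
    intro w
    let g' : (W₁ w).toScheme ⟶ (V₁ w).toScheme := g.resLE (V₁ w) (W₁ w) (h4 w)
    haveI : IsAffine (W₁ w).toScheme := h2 w
    haveI : IsAffine (V₁ w).toScheme := h3 w
    haveI : LocallyQuasiFinite g' := by
      change LocallyQuasiFinite (g.resLE (V₁ w) (W₁ w) (h4 w)); infer_instance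
    haveI : LocallyOfFiniteType g' := by
      change LocallyOfFiniteType (g.resLE (V₁ w) (W₁ w) (h4 w)); infer_instance
    obtain ⟨N, hN⟩ := exists_schLiftsLE_of_isAffine g'
    refine ⟨N, ?_⟩
    have : (W₁ w).ι ≫ g = g' ≫ (V₁ w).ι := (Scheme.Hom.resLE_comp_ι _ _).symm
    rw [this]
    exact hN.comp_mono_right _
  choose N hN using hN
  refine ⟨∑ k ∈ t, N k, schLiftsLE_of_openCover g t W₁ (fun w => ?_) N (fun k _ => hN k)⟩
  obtain ⟨k, hk, hwk⟩ := Set.mem_iUnion₂.1 (ht (Set.mem_univ w))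
  exact ⟨k, hk, hwk⟩

end Groth.Agent.Helper15.UbfSch
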