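import Mathlib
import Groth.Agent.Lib.Helper15.UbfSch

/-!
# Splitting off the diagonal of an étale separated morphism
-/

set_option autoImplicit false
set_option linter.style.haveILetI false
universe u
open CategoryTheory CategoryTheory.Limits AlgebraicGeometry

namespace Groth.Agent.Helper15.ZmtSplit

open Groth.Agent.Helper15.UbfSch

set_option linter.unusedSectionVars false

variable {T' T : Scheme.{u}} (e : T' ⟶ T) [Etale e] [IsSeparated e]

/-- The complement of the diagonal in `T' ×_T T'`, as an open subscheme. -/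
noncomputable def restOpens : (pullback e e).Opens :=
  ⟨(Set.range (pullback.diagonal e))ᶜ,
    (pullback.diagonal e).isClosedEmbedding.isClosed_range.isOpen_compl⟩

/-- The complement of the diagonal in `T' ×_T T'`. -/
noncomputable abbrev rest : Scheme.{u} := (restOpens e : Scheme.{u})

/-- First projection from the complement of the diagonal. -/
noncomputable def e₁ : rest e ⟶ T' := (restOpens e).ι ≫ pullback.fst e e

/-- Second projection from the complement of the diagonal. -/
noncomputable def e₂ : rest e ⟶ T' := (restOpens e).ι ≫ pullback.snd e e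

theorem e₁_comp : e₁ e ≫ e = e₂ e ≫ e := by
  simp only [e₁, e₂, Category.assoc, pullback.condition]

instance : Etale (e₁ e) := by unfold e₁; infer_instance
instance : IsSeparated (e₁ e) := by unfold e₁; infer_instance

theorem jointly_mono {Z : Scheme.{u}} (τ τ' : Z ⟶ rest e) (h1 : τ ≫ e₁ e = τ' ≫ e₁ e)
    (h2 : τ ≫ e₂ e = τ' ≫ e₂ e) : τ = τ' := by
  rw [← cancel_mono (restOpens e).ι]
  apply pullback.hom_ext
  · simpa only [e₁, Category.assoc] using h1
  · simpa only [e₂, Category.assoc] using h2

theorem isEmpty_of_eq {Z : Scheme.{u}} (τ : Z ⟶ rest e) (h : τ ≫ e₁ e = τ ≫ e₂ e) : IsEmpty Z := by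
  constructor
  intro z
  have h1 : τ ≫ (restOpens e).ι = (τ ≫ e₁ e) ≫ pullback.diagonal e := by
    apply pullback.hom_ext
    · simp [e₁]
    · simp only [Category.assoc, pullback.diagonal_snd, Category.comp_id]
      rw [h]; simp [e₂]
  have h2 : ((restOpens e).ι (τ z)) ∈ (Set.range (pullback.diagonal e))ᶜ := (τ z).2
  apply h2
  have := congrArg (fun φ => φ z) h1
  simp only [Scheme.Hom.comp_apply] at this
  exact ⟨_, this.symm⟩

theorem exists_of_field {Ω : Type u} [Field Ω] (a b : Spec (CommRingCat.of Ω) ⟶ T')
    (h : a ≫ e = b ≫ e) : a = b ∨ ∃ τ : Spec (CommRingCat.of Ω) ⟶ rest e, τ ≫ e₁ e = a ∧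
      τ ≫ e₂ e = b := by
  let l : Spec (CommRingCat.of Ω) ⟶ pullback e e := pullback.lift a b h
  let pt : Spec (CommRingCat.of Ω) := IsLocalRing.closedPoint Ω
  have hpt : ∀ x : Spec (CommRingCat.of Ω), x = pt := fun x => Subsingleton.elim _ _
  by_cases hmem : l pt ∈ Set.range (pullback.diagonal e)
  · left
    have hr : Set.range l ⊆ Set.range (pullback.diagonal e) := by
      rintro _ ⟨x, rfl⟩
      rw [hpt x]; exact hmem
    have hl : IsOpenImmersion.lift (pullback.diagonal e) l hr ≫ pullback.diagonal e = l :=
      IsOpenImmersion.lift_fac _ _ _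
    have ha : a = IsOpenImmersion.lift (pullback.diagonal e) l hr := by
      have := congrArg (· ≫ pullback.fst e e) hl
      simp only [Category.assoc, pullback.diagonal_fst, Category.comp_id] at this
      rw [this]
      exact (pullback.lift_fst _ _ _).symm
    have hb : b = IsOpenImmersion.lift (pullback.diagonal e) l hr := by
      have := congrArg (· ≫ pullback.snd e e) hl
      simp only [Category.assoc, pullback.diagonal_snd, Category.comp_id] at this
      rw [this]
      exact (pullback.lift_snd _ _ _).symm
    rw [ha, ← hb]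
  · right
    have hr : Set.range l ⊆ Set.range (restOpens e).ι := by
      rintro _ ⟨x, rfl⟩
      rw [hpt x, Scheme.Opens.range_ι]
      exact hmem
    refine ⟨IsOpenImmersion.lift (restOpens e).ι l hr, ?_, ?_⟩
    · simp only [e₁, ← Category.assoc, IsOpenImmersion.lift_fac]
      exact pullback.lift_fst _ _ _
    · simp only [e₂, ← Category.assoc, IsOpenImmersion.lift_fac]
      exact pullback.lift_snd _ _ _

theorem schLiftsLE_e₁ {N : ℕ} (h : SchLiftsLE (N + 1) e) : SchLiftsLE N (e₁ e) := by
  classical
  intro K _ z L hL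
  have hinj : Set.InjOn (fun τ : Spec (CommRingCat.of K) ⟶ rest e => τ ≫ e₂ e) L := by
    intro τ hτ τ' hτ' hh
    exact jointly_mono e τ τ' ((hL τ hτ).trans (hL τ' hτ').symm) hh
  have hz : z ∉ L.image (fun τ => τ ≫ e₂ e) := by
    intro hmem
    obtain ⟨τ, hτ, hτz⟩ := Finset.mem_image.1 hmem
    have := isEmpty_of_eq e τ ((hL τ hτ).trans hτz.symm)
    exact this.false (IsLocalRing.closedPoint K)
  have := h K (z ≫ e) (insert z (L.image (fun τ => τ ≫ e₂ e))) (by
    intro l hl
    rcases Finset.mem_insert.1 hl with rfl | hl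
    · rfl
    · obtain ⟨τ, hτ, rfl⟩ := Finset.mem_image.1 hl
      rw [Category.assoc, ← e₁_comp, ← Category.assoc, hL τ hτ])
  rw [Finset.card_insert_of_notMem hz, Finset.card_image_of_injOn hinj] at this
  omega

end Groth.Agent.Helper15.ZmtSplit
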