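import Groth.Agent.Lib.Helper15.ZmtSp1
import Groth.Agent.Lib.Helper15.ZmtSplit
import Groth.Agent.Lib.Helper15.AlgSpGlue
import Groth.Agent.Lib.Helper15.AlgSpOpen
import Groth.Agent.Lib.Helper15.AlgSpOpenDesc

/-!
# Stacks 0417: induction on the degree of the étale map
-/

set_option autoImplicit false
set_option linter.style.haveILetI false
universe u
open CategoryTheory CategoryTheory.Limits AlgebraicGeometry MorphismProperty Opposite
open AlgSp

namespace Groth.Agent.Helper15.Zmt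

variable {S : Scheme.{u}}

/-- The claim for a given étale map `e : T' ⟶ T`: an algebraic space `U` separated and locally
quasi-finite over `T` such that `U ×_T T'` has an open subscheme surjecting onto `U` is a scheme. -/
def ClaimFor {T T' : Over S} (e : T' ⟶ T) : Prop :=
  ∀ (U : Sp S) (_ : IsAlgSpace U) (f : U ⟶ (yon S).obj T) (_ : IsSeparatedMor f)
    (_ : LocP (@LocallyQuasiFinite ⊓ @LocallyOfFiniteType) f) (P : Sp S)
    (p1 : P ⟶ (yon S).obj T') (p2 : P ⟶ U) (_ : IsPullback p2 p1 f ((yon S).map e))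
    (V' : Over S) (j : (yon S).obj V' ⟶ P) (_ : RepWith @IsOpenImmersion j)
    (_ : IsSurjectiveMor (j ≫ p2)), ∃ W : Over S, Nonempty ((yon S).obj W ≅ U)

theorem claimFor_of_isEmpty {T T' : Over S} (e : T' ⟶ T) [IsEmpty T'.left] : ClaimFor e := by
  intro U hU f hsep hqf P p1 p2 sq V' j hj hsurj
  obtain ⟨t', ht'⟩ := (yon S).map_surjective (j ≫ p1)
  haveI : IsEmpty V'.left := Function.isEmpty t'.left
  obtain ⟨A, a, hae, has⟩ := hU.atlas
  haveI : IsEmpty A.left := ⟨fun x => by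
    obtain ⟨v, -⟩ := hsurj (Points.ofPt a x)
    exact isEmptyElim ((Points.schemeEquiv V').symm v)⟩
  refine ⟨A, ⟨?_⟩⟩
  haveI : Sheaf.IsLocallySurjective a := isLocallySurjective_of_etale_surjective a hae has
  haveI : Epi a := Sheaf.epi_of_isLocallySurjective a
  haveI : Mono a := mono_of_yon a (fun X x y _ => by
    obtain ⟨x', rfl⟩ := (yon S).map_surjective x
    obtain ⟨y', rfl⟩ := (yon S).map_surjective y
    haveI : IsEmpty X.left := Function.isEmpty x'.left
    congr 1
    ext : 1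
    exact (isInitialOfIsEmpty (X := X.left)).hom_ext _ _)
  haveI := isIso_of_mono_of_epi a
  exact asIso a


/-- A two-member family of schemes. -/
def twoObj (A B : Over S) : ULift.{u} Bool → Over S
  | ⟨true⟩ => A
  | ⟨false⟩ => B

/-- A two-member family of maps to a sheaf. -/
def twoHom {A B : Over S} {F : Sp S} (a : (yon S).obj A ⟶ F) (b : (yon S).obj B ⟶ F) :
    ∀ i, (yon S).obj (twoObj A B i) ⟶ F
  | ⟨true⟩ => a
  | ⟨false⟩ => b

/-- The induction step. -/
theorem claimFor_of_rest {T T' T'' : Over S} (e : T' ⟶ T) (he_et : Etale e.left)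
    (e₁ e₂ : T'' ⟶ T') (he : e₁ ≫ e = e₂ ≫ e) (he₁ : Etale e₁.left)
    (hfield : ∀ (Ω : Type u) [Field Ω] (str : Spec (CommRingCat.of Ω) ⟶ S)
      (a b : Over.mk str ⟶ T'), a ≫ e = b ≫ e →
        a = b ∨ ∃ τ : Over.mk str ⟶ T'', τ ≫ e₁ = a ∧ τ ≫ e₂ = b)
    (IH : ClaimFor e₁) : ClaimFor e := by
  intro U hU f hsep hqf P p1 p2 sq V' j hj hsurj
  have hlisted : (@LocallyQuasiFinite ⊓ @LocallyOfFiniteType : MorphismProperty Scheme.{u}) =
      @LocallyOfFiniteType ∨ (@LocallyQuasiFinite ⊓ @LocallyOfFiniteType :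
        MorphismProperty Scheme.{u}) = @LocallyOfFinitePresentation ∨
      (@LocallyQuasiFinite ⊓ @LocallyOfFiniteType : MorphismProperty Scheme.{u}) = @Flat ∨
      (@LocallyQuasiFinite ⊓ @LocallyOfFiniteType : MorphismProperty Scheme.{u}) = @Smooth ∨
      (@LocallyQuasiFinite ⊓ @LocallyOfFiniteType : MorphismProperty Scheme.{u}) = @Etale ∨
      (∀ ⦃A B : Scheme.{u}⦄ (g : A ⟶ B), (@LocallyQuasiFinite ⊓ @LocallyOfFiniteType :
        MorphismProperty Scheme.{u}) g ↔ (LocallyQuasiFinite g ∧ LocallyOfFiniteType g)) ∨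
      (∀ ⦃A B : Scheme.{u}⦄ (g : A ⟶ B), (@LocallyQuasiFinite ⊓ @LocallyOfFiniteType :
        MorphismProperty Scheme.{u}) g ↔ (LocallyOfFiniteType g ∧ FormallyUnramified g)) :=
    Or.inr (Or.inr (Or.inr (Or.inr (Or.inr (Or.inl (fun _ _ _ => Iff.rfl))))))
  have hP : IsAlgSpace P :=
    isAlgSpace_of_isPullback (IsAlgSpace.yon_obj T).diag hU (IsAlgSpace.yon_obj T') sq
  have hp2 : RepWith @Etale p2 :=
    (RepWith @Etale).of_isPullback sq.flip ((repWith_yon_map_iff _ e).2 he_et)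
  have hsep1 : IsSeparatedMor p1 := isSeparatedMor_of_isPullback sq hsep
  have hqf1 : LocP (@LocallyQuasiFinite ⊓ @LocallyOfFiniteType) p1 :=
    locP_listed_of_isPullback _ hlisted hU (IsAlgSpace.yon_obj T) (IsAlgSpace.yon_obj T') sq hqf
  obtain ⟨t', ht'⟩ := (yon S).map_surjective (j ≫ p1)
  -- the scheme `V''`
  let b : pullback t' e₂ ⟶ V' := pullback.fst t' e₂
  let c : pullback t' e₂ ⟶ T'' := pullback.snd t' e₂
  have sqV : IsPullback ((yon S).map b) ((yon S).map c) ((yon S).map t') ((yon S).map e₂) :=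
    (IsPullback.of_hasPullback t' e₂).map (yon S)
  -- the sheaf `P''`
  have sqr : IsPullback (pullback.fst p1 ((yon S).map e₁)) (pullback.snd p1 ((yon S).map e₁)) p1
      ((yon S).map e₁) := IsPullback.of_hasPullback _ _
  set r1 := pullback.fst p1 ((yon S).map e₁)
  set r2 := pullback.snd p1 ((yon S).map e₁)
  obtain ⟨σ, hσ, sqσ⟩ := exists_swap sq e₁ e₂ he sqr
  have hkw : ((yon S).map b ≫ j) ≫ p1 = (yon S).map c ≫ (yon S).map e₂ := by
    rw [Category.assoc, ← ht']; exact sqV.w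
  let k := sqσ.lift _ _ hkw
  have hk1 : k ≫ σ = (yon S).map b ≫ j := sqσ.lift_fst _ _ _
  have hk2 : k ≫ r2 = (yon S).map c := sqσ.lift_snd _ _ _
  have sqk : IsPullback ((yon S).map b) k j σ :=
    IsPullback.of_bot (by rw [hk2, ← ht']; exact sqV) hk1.symm sqσ
  have hk : RepWith @IsOpenImmersion k := (RepWith @IsOpenImmersion).of_isPullback sqk hj
  have hr1 : RepWith @Etale r1 :=
    (RepWith @Etale).of_isPullback sqr.flip ((repWith_yon_map_iff _ e₁).2 he₁)
  have hg : RepWith @Etale (k ≫ r1) :=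
    (RepWith @Etale).comp_mem _ _ (repWith_mono isOpenImmersion_le_etale hk) hr1
  obtain ⟨hI, hι, hg'e, hg's, hrange⟩ := openSubspace_of_etale hP (k ≫ r1) hg
  have hfac : Sheaf.toImage (k ≫ r1) ≫ Sheaf.imageι (k ≫ r1) = k ≫ r1 := Sheaf.toImage_ι _
  obtain ⟨jI, hjI, hjI1, hjI2⟩ := exists_restrict sqr k hk (Sheaf.imageι (k ≫ r1))
    (Sheaf.toImage (k ≫ r1)) hfac
  obtain ⟨WI, ⟨eI⟩⟩ := IH _ hI (Sheaf.imageι (k ≫ r1) ≫ p1)
    (isSeparatedMor_mono_comp _ p1 hsep1)
    (locP_etale_comp _ (repWith_mono isOpenImmersion_le_etale hι) p1 hqf1) _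
    (pullback.snd _ _) (pullback.fst _ _) (IsPullback.of_hasPullback _ _) _ jI hjI (by
      rw [hjI1]; exact isSurjectiveMor_of_isLocallySurjective _)
  -- `P` is covered by the open subschemes `V'` and `I`
  have hopen : ∀ i, RepWith @IsOpenImmersion (twoHom j (eI.hom ≫ Sheaf.imageι (k ≫ r1)) i) := by
    rintro ⟨_ | _⟩
    · exact MorphismProperty.RespectsIso.precomp _ _ _ hι
    · exact hj
  have hcov : ∀ x : Points P, ∃ i,
      x ∈ Set.range (Points.map (twoHom j (eI.hom ≫ Sheaf.imageι (k ≫ r1)) i)) := by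
    intro x
    obtain ⟨K, _, str, ξ, rfl⟩ := exists_ofField x
    obtain ⟨v, hv⟩ := hsurj (ofField (ξ ≫ p2))
    obtain ⟨L, _, str', η, rfl⟩ := exists_ofField v
    rw [map_ofField, ofField_eq_iff] at hv
    obtain ⟨Ω, _, w, α, β, hαβ⟩ := hv
    have hxy : ((yon S).map α ≫ η ≫ j) ≫ p2 = ((yon S).map β ≫ ξ) ≫ p2 := by
      simpa only [Category.assoc] using hαβ
    obtain ⟨t₁, ht₁⟩ := (yon S).map_surjective (((yon S).map β ≫ ξ) ≫ p1)
    obtain ⟨t₂, ht₂⟩ := (yon S).map_surjective (((yon S).map α ≫ η ≫ j) ≫ p1)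
    have ht : t₁ ≫ e = t₂ ≫ e := by
      apply (yon S).map_injective
      have h1 : ∀ {Z : Sp S} (X : Z ⟶ P), (X ≫ p1) ≫ (yon S).map e = (X ≫ p2) ≫ f := fun X => by
        rw [Category.assoc, ← sq.w, Category.assoc]
      rw [Functor.map_comp, Functor.map_comp, ht₁, ht₂, h1, h1, hxy]
    rcases hfield Ω w t₁ t₂ ht with heq | ⟨τ, hτ1, hτ2⟩
    · have hx : (yon S).map β ≫ ξ = (yon S).map α ≫ η ≫ j :=
        sq.hom_ext hxy.symm (by rw [← ht₁, ← ht₂, heq])
      refine ⟨⟨true⟩, ofField ((yon S).map α ≫ η), ?_⟩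
      rw [map_ofField]
      change ofField (((yon S).map α ≫ η) ≫ j) = _
      rw [Category.assoc, ← hx, ofField_comp]
    · obtain ⟨vΩ, hvΩ⟩ := (yon S).map_surjective ((yon S).map α ≫ η)
      have hvτ : vΩ ≫ t' = τ ≫ e₂ := by
        apply (yon S).map_injective
        rw [Functor.map_comp, hvΩ, ht', hτ2, ht₂]
        simp only [Category.assoc]
      let wpt : Over.mk w ⟶ pullback t' e₂ := pullback.lift vΩ τ hvτ
      have hwb : wpt ≫ b = vΩ := pullback.lift_fst _ _ _
      have hwc : wpt ≫ c = τ := pullback.lift_snd _ _ _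
      have hx : (yon S).map wpt ≫ k ≫ r1 = (yon S).map β ≫ ξ := by
        apply sq.hom_ext
        · rw [← hxy, Category.assoc, Category.assoc, ← hσ, ← Category.assoc k, hk1,
            ← Category.assoc, ← Category.assoc, ← Functor.map_comp, hwb, hvΩ]
          simp only [Category.assoc]
        · rw [Category.assoc, Category.assoc, sqr.w, ← Category.assoc k, hk2, ← Functor.map_comp,
            ← Functor.map_comp, ← Category.assoc, hwc, hτ1, ht₁]
      refine ⟨⟨false⟩, ofField ((yon S).map wpt ≫ Sheaf.toImage (k ≫ r1) ≫ eI.inv), ?_⟩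
      rw [map_ofField]
      change ofField (((yon S).map wpt ≫ Sheaf.toImage (k ≫ r1) ≫ eI.inv) ≫ eI.hom ≫
        Sheaf.imageι (k ≫ r1)) = _
      have : ((yon S).map wpt ≫ Sheaf.toImage (k ≫ r1) ≫ eI.inv) ≫ eI.hom ≫
          Sheaf.imageι (k ≫ r1) = (yon S).map β ≫ ξ := by
        rw [← hx]
        simp only [Category.assoc, Iso.inv_hom_id_assoc, hfac]
      rw [this, ofField_comp]
  obtain ⟨WP, eP, -, -, -, -⟩ := exists_rep_of_openCover hopen hcov
  -- the open image of `e`
  haveI := he_et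
  let T₀o : T.left.Opens := ⟨Set.range e.left, e.left.isOpenMap.isOpen_range⟩
  let T₀ : Over S := Over.mk (T₀o.ι ≫ T.hom)
  let i₀ : T₀ ⟶ T := Over.homMk T₀o.ι rfl
  haveI : IsOpenImmersion i₀.left := (inferInstance : IsOpenImmersion T₀o.ι)
  obtain ⟨e₀, he₀⟩ := exists_over_lift_of_range_subset i₀ e (by
    change _ ⊆ Set.range T₀o.ι
    rw [Scheme.Opens.range_ι]; rfl)
  haveI : Mono i₀ := by
    haveI : Mono ((Over.forget S).map i₀) := by change Mono i₀.left; infer_instance
    exact (Over.forget S).mono_of_mono_map inferInstance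
  haveI : Mono ((yon S).map i₀) := inferInstance
  -- `f` factors through `T₀`
  have hjp2e : RepWith @Etale (j ≫ p2) :=
    (RepWith @Etale).comp_mem _ _ (repWith_mono isOpenImmersion_le_etale hj) hp2
  have hjp2s : RepWith @Surjective (j ≫ p2) :=
    repWith_surjective_of_isSurjectiveMor _ hjp2e.rep hsurj
  haveI : Sheaf.IsLocallySurjective (j ≫ p2) :=
    isLocallySurjective_of_etale_surjective _ hjp2e hjp2s
  haveI : Epi (j ≫ p2) := Sheaf.epi_of_isLocallySurjective _
  have hcomm : (j ≫ p2) ≫ f = (yon S).map (t' ≫ e₀) ≫ (yon S).map i₀ := by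
    rw [Category.assoc, sq.w, ← Category.assoc, ← ht', ← Functor.map_comp, ← Functor.map_comp,
      Category.assoc, he₀]
  obtain ⟨f₀, hf₀⟩ := AffDesc.exists_desc_of_epi (j ≫ p2) ((yon S).map (t' ≫ e₀)) (by
    intro X x y hxy
    rw [← cancel_mono ((yon S).map i₀), Category.assoc, Category.assoc, ← hcomm,
      ← Category.assoc x, ← Category.assoc y, hxy])
  have hf₀' : f₀ ≫ (yon S).map i₀ = f := by
    rw [← cancel_epi (j ≫ p2), ← Category.assoc, hf₀, hcomm]
  have sq₀ : IsPullback p2 p1 f₀ ((yon S).map e₀) := by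
    apply isPullback_of_comp_mono ((yon S).map i₀)
    rw [hf₀', ← Functor.map_comp, he₀]
    exact sq
  -- the chart `W_P ⟶ T'`
  obtain ⟨π, hπ⟩ := (yon S).map_surjective (eP.hom ≫ p1)
  have sqB : IsPullback (eP.hom ≫ p2) ((yon S).map π) f₀ ((yon S).map e₀) := by
    refine sq₀.of_iso eP.symm (Iso.refl _) (Iso.refl _) (Iso.refl _) ?_ ?_ ?_ ?_
    · simp
    · simp [hπ]
    · simp
    · simp
  have hπsep : IsSeparated π.left := (isSeparatedMor_yon_map_iff π).1 (by
    rw [hπ]; exact isSeparatedMor_mono_comp eP.hom p1 hsep1)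
  have hπqf : (@LocallyQuasiFinite ⊓ @LocallyOfFiniteType : MorphismProperty Scheme.{u}) π.left :=
    locP_yon_map (by
      rw [hπ]
      exact locP_etale_comp eP.hom (repWith_of_isIso @Etale eP.hom) p1 hqf1)
  have he₀et : Etale e₀.left := by
    have h1 : Etale (e₀.left ≫ i₀.left) := by
      rw [← Over.comp_left, he₀]; exact he_et
    exact MorphismProperty.of_postcomp (W := @Etale) (W' := @IsOpenImmersion) e₀.left i₀.left
      inferInstance h1
  obtain ⟨W, jW, eW, -⟩ := Bridge.exists_rep_of_slqf (ι := PUnit.{u + 1}) (T' := fun _ => T')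
    (c := fun _ => e₀) (V' := fun _ => WP) (π := fun _ => π) (fst := fun _ => eP.hom ≫ p2)
    (fun _ => sqB) (fun _ => inferInstance) (fun _ => inferInstance)
    (fun x => by
      obtain ⟨y, hy⟩ : (T₀o.ι x) ∈ Set.range e.left := x.2
      refine ⟨⟨⟩, y, ?_⟩
      apply T₀o.ι.isOpenEmbedding.injective
      rw [← hy, ← he₀]
      rfl)
    (fun _ => ⟨hπsep, hπqf.1, hπqf.2⟩)
  exact ⟨W, ⟨eW⟩⟩


open Groth.Agent.Helper15.UbfSch in
/-- **Stacks 0417, general form**: by induction on a bound for the number of lifts of field points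
along the étale separated map `e`. -/
theorem claim (N : ℕ) : ∀ {T T' : Over S} (e : T' ⟶ T), Etale e.left → IsSeparated e.left →
    SchLiftsLE N e.left → ClaimFor e := by
  induction N with
  | zero =>
    intro T T' e he hs hN
    haveI : IsEmpty T'.left := ⟨fun t' => by
      have := hN (T'.left.residueField t') (T'.left.fromSpecResidueField t' ≫ e.left)
        {T'.left.fromSpecResidueField t'} (by simp)
      simp at this⟩
    exact claimFor_of_isEmpty e
  | succ N ih =>
    intro T T' e he hs hN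
    haveI := he
    haveI := hs
    let T'' : Over S := Over.mk (ZmtSplit.e₁ e.left ≫ T'.hom)
    let e₁ : T'' ⟶ T' := Over.homMk (ZmtSplit.e₁ e.left) rfl
    have hw : ZmtSplit.e₂ e.left ≫ T'.hom = ZmtSplit.e₁ e.left ≫ T'.hom := by
      rw [← Over.w e, ← Category.assoc, ← ZmtSplit.e₁_comp, Category.assoc]
    let e₂ : T'' ⟶ T' := Over.homMk (ZmtSplit.e₂ e.left) hw
    have he₁ : Etale e₁.left := (inferInstance : Etale (ZmtSplit.e₁ e.left))
    have hs₁ : IsSeparated e₁.left := (inferInstance : IsSeparated (ZmtSplit.e₁ e.left))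
    refine claimFor_of_rest e he e₁ e₂ (by ext; exact ZmtSplit.e₁_comp e.left) he₁ ?_
      (ih e₁ he₁ hs₁ (ZmtSplit.schLiftsLE_e₁ e.left hN))
    intro Ω _ str a b hab
    rcases ZmtSplit.exists_of_field e.left a.left b.left (congrArg (fun t => t.left) hab) with
      h | ⟨τ, h1, h2⟩
    · left
      ext
      exact h
    · right
      refine ⟨Over.homMk τ ?_, ?_, ?_⟩
      · change τ ≫ ZmtSplit.e₁ e.left ≫ T'.hom = str
        rw [← Category.assoc, h1]
        exact Over.w a
      · ext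
        exact h1
      · ext
        exact h2

end Groth.Agent.Helper15.Zmt
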