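import Groth.Agent.Lib.Helper15.LST1
import Groth.Agent.Lib.Helper15.ZmtSp2

/-!
# Postcomposition with étale separated morphisms of schemes with bounded fibres
-/

set_option autoImplicit false
set_option linter.style.haveILetI false
universe u
open CategoryTheory CategoryTheory.Limits AlgebraicGeometry MorphismProperty Opposite
open AlgSp Groth.Agent.Helper16.AS

namespace Groth.Agent.Helper15.LST

variable {S : Scheme.{u}}

/-- cancellation for étale morphisms of algebraic spaces -/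
theorem isEtaleMor_cancel {X Y Z : Sp S} (hY : IsAlgSpace Y)
    (hZ : IsAlgSpace Z) (f : X ⟶ Y) (g : Y ⟶ Z) (hfg : IsEtaleMor (f ≫ g)) (hg : IsEtaleMor g) :
    IsEtaleMor f := by
  haveI := goodP_etale.bc
  haveI := goodP_etale.loc
  refine isEtaleMor_of_locP_etale hY _ (locP_of_comp (P := @Etale) (P' := @Etale) (Q := @Etale)
    ?_ hZ f g (locP_etale_of_isEtaleMor hZ _ hfg) (locP_etale_of_isEtaleMor hZ g hg))
  intro A B C f' g' hfg hg'
  haveI : Etale (f' ≫ g') := hfg
  haveI : Etale g' := hg'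
  exact Etale.of_comp f' g'

/-- A two-member family of sheaves. -/
def twoSp (A B : Sp S) : ULift.{u} Bool → Sp S
  | ⟨true⟩ => A
  | ⟨false⟩ => B

/-- A two-member family of maps to a sheaf. -/
def twoSpHom {A B F : Sp S} (a : A ⟶ F) (b : B ⟶ F) : ∀ i, twoSp A B i ⟶ F
  | ⟨true⟩ => a
  | ⟨false⟩ => b

variable {P : MorphismProperty (Sp S)}

/-- The postcomposition claim for a given étale map. -/
def PostFor (P : MorphismProperty (Sp S)) {T T' : Over S} (e : T' ⟶ T) : Prop :=
  ∀ (U : Sp S) (_ : IsAlgSpace U) (h : U ⟶ (yon S).obj T'), P h → P (h ≫ (yon S).map e)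

theorem postFor_of_isEmpty (hP : Hyp P) {T T' : Over S} (e : T' ⟶ T) [IsEmpty T'.left] :
    PostFor P e := by
  intro U hU h _
  refine hP.of_isEmpty hU (IsAlgSpace.yon_obj T) _ ⟨fun x => ?_⟩
  exact isEmptyElim ((Points.schemeEquiv T').symm (Points.map h x))

theorem postFor_of_rest (hP : Hyp P) {T T' T'' : Over S} (e : T' ⟶ T) (he_et : Etale e.left)
    (e₁ e₂ : T'' ⟶ T') (he : e₁ ≫ e = e₂ ≫ e) (he₁ : Etale e₁.left) (he₂ : Etale e₂.left)
    (hfield : ∀ (Ω : Type u) [Field Ω] (str : Spec (CommRingCat.of Ω) ⟶ S)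
      (a b : Over.mk str ⟶ T'), a ≫ e = b ≫ e →
        a = b ∨ ∃ τ : Over.mk str ⟶ T'', τ ≫ e₁ = a ∧ τ ≫ e₂ = b)
    (IH : PostFor P e₁) : PostFor P e := by
  intro U hU h hh
  haveI := he_et
  -- the open image of `e`
  let T₀o : T.left.Opens := ⟨Set.range e.left, e.left.isOpenMap.isOpen_range⟩
  let T₀ : Over S := Over.mk (T₀o.ι ≫ T.hom)
  let i₀ : T₀ ⟶ T := Over.homMk T₀o.ι rfl
  haveI : IsOpenImmersion i₀.left := (inferInstance : IsOpenImmersion T₀o.ι)
  obtain ⟨e₀, he₀⟩ := exists_over_lift_of_range_subset i₀ e (by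
    change _ ⊆ Set.range T₀o.ι
    rw [Scheme.Opens.range_ι]; rfl)
  haveI : Mono i₀ := by
    haveI : Mono ((Over.forget S).map i₀) := by change Mono i₀.left; infer_instance
    exact (Over.forget S).mono_of_mono_map inferInstance
  have he₀et : Etale e₀.left := by
    have h1 : Etale (e₀.left ≫ i₀.left) := by
      rw [← Over.comp_left, he₀]; exact he_et
    exact MorphismProperty.of_postcomp (W := @Etale) (W' := @IsOpenImmersion) e₀.left i₀.left
      inferInstance h1
  have he₀s : Surjective e₀.left := ⟨fun x => by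
    obtain ⟨y, hy⟩ : (T₀o.ι x) ∈ Set.range e.left := x.2
    refine ⟨y, ?_⟩
    apply T₀o.ι.isOpenEmbedding.injective
    rw [← hy, ← he₀]
    rfl⟩
  have he₁₂ : e₁ ≫ e₀ = e₂ ≫ e₀ := by
    rw [← cancel_mono i₀, Category.assoc, Category.assoc, he₀, he]
  have hT₀ := IsAlgSpace.yon_obj (S := S) T₀
  have hT' := IsAlgSpace.yon_obj (S := S) T'
  have hT'' := IsAlgSpace.yon_obj (S := S) T''
  have hE₀ : IsEtaleMor ((yon S).map e₀) := (isEtaleMor_yon_map_iff e₀).2 he₀et
  have hE₁ : IsEtaleMor ((yon S).map e₁) := (isEtaleMor_yon_map_iff e₁).2 he₁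
  have hE₂ : IsEtaleMor ((yon S).map e₂) := (isEtaleMor_yon_map_iff e₂).2 he₂
  suffices key : P (h ≫ (yon S).map e₀) by
    have := hP.h3 hU hT₀ (IsAlgSpace.yon_obj T) _ ((yon S).map i₀) key
      ((repWith_yon_map_iff _ i₀).2 inferInstance)
    rwa [Category.assoc, ← Functor.map_comp, he₀] at this
  -- base change along `e₀`
  have sqQ := IsPullback.of_hasPullback (h ≫ (yon S).map e₀) ((yon S).map e₀)
  set Q := pullback (h ≫ (yon S).map e₀) ((yon S).map e₀)
  have hQ : IsAlgSpace Q := isAlgSpace_of_isPullback hT₀.diag hU hT' sqQ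
  refine hP.of_base_single hU hT₀ hQ hT' _ ((yon S).map e₀) (pullback.snd _ _) (pullback.fst _ _)
    sqQ (locP_smooth_of_isEtaleMor hT₀ _ hE₀)
    (isSurjectiveMor_of_repWith_surjective _ ((repWith_yon_map_iff _ e₀).2 he₀s)) ?_
  -- the graph
  obtain ⟨-, hγ⟩ := isEtaleMor_graph hU hT' hT₀ h ((yon S).map e₀) hE₀
  set γ : U ⟶ Q := pullback.lift (𝟙 U) h (by rw [Category.id_comp])
  -- the rest
  have sq₁ := IsPullback.of_hasPullback h ((yon S).map e₂)
  set Q₁ := pullback h ((yon S).map e₂)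
  have hQ₁ : IsAlgSpace Q₁ := isAlgSpace_of_isPullback hT'.diag hU hT'' sq₁
  have hβw : pullback.fst h ((yon S).map e₂) ≫ h ≫ (yon S).map e₀ =
      (pullback.snd h ((yon S).map e₂) ≫ (yon S).map e₁) ≫ (yon S).map e₀ := by
    rw [← Category.assoc, sq₁.w, Category.assoc, Category.assoc, ← Functor.map_comp,
      ← Functor.map_comp, he₁₂]
  let β : Q₁ ⟶ Q := pullback.lift (pullback.fst h ((yon S).map e₂))
    (pullback.snd h ((yon S).map e₂) ≫ (yon S).map e₁) hβw
  have hβ1 : β ≫ pullback.fst _ _ = pullback.fst h ((yon S).map e₂) := pullback.lift_fst _ _ _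
  have hβ2 : β ≫ pullback.snd _ _ = pullback.snd h ((yon S).map e₂) ≫ (yon S).map e₁ :=
    pullback.lift_snd _ _ _
  have hfstQ : IsEtaleMor (pullback.fst (h ≫ (yon S).map e₀) ((yon S).map e₀)) :=
    isEtaleMor_of_isPullback hT' hT₀ hU _ _ _ _ sqQ hE₀
  have hfst₁ : IsEtaleMor (pullback.fst h ((yon S).map e₂)) :=
    isEtaleMor_of_isPullback hT'' hT' hU _ _ _ _ sq₁ hE₂
  have hβ : IsEtaleMor β := isEtaleMor_cancel hQ hU β _ (by rw [hβ1]; exact hfst₁) hfstQ
  have hcov : IsEtCover (twoSp U Q₁) (twoSpHom γ β) := by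
    refine ⟨?_, ?_⟩
    · rintro ⟨_ | _⟩
      · exact hβ
      · exact hγ
    · intro x
      obtain ⟨Ω, _, str, ξ, rfl⟩ := exists_ofField x
      obtain ⟨t₁, ht₁⟩ := (yon S).map_surjective (ξ ≫ pullback.snd _ _)
      obtain ⟨t₂, ht₂⟩ := (yon S).map_surjective ((ξ ≫ pullback.fst _ _) ≫ h)
      have ht : t₁ ≫ e₀ = t₂ ≫ e₀ := by
        apply (yon S).map_injective
        rw [Functor.map_comp, Functor.map_comp, ht₁, ht₂, Category.assoc, Category.assoc,
          Category.assoc, ← sqQ.w]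
      have ht' : t₁ ≫ e = t₂ ≫ e := by
        rw [← he₀, ← Category.assoc, ht, Category.assoc]
      rcases hfield Ω str t₁ t₂ ht' with heq | ⟨τ, hτ1, hτ2⟩
      · refine ⟨⟨true⟩, ofField (ξ ≫ pullback.fst _ _), ?_⟩
        rw [map_ofField]
        change ofField ((ξ ≫ pullback.fst _ _) ≫ γ) = _
        congr 1
        apply sqQ.hom_ext
        · rw [Category.assoc, pullback.lift_fst, Category.comp_id]
        · rw [Category.assoc, pullback.lift_snd, ← ht₂, ← heq, ht₁]
      · have hw : (ξ ≫ pullback.fst _ _) ≫ h = (yon S).map τ ≫ (yon S).map e₂ := by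
          rw [← Functor.map_comp, hτ2, ht₂]
        refine ⟨⟨false⟩, ofField (sq₁.lift _ _ hw), ?_⟩
        rw [map_ofField]
        change ofField (sq₁.lift _ _ hw ≫ β) = _
        congr 1
        apply sqQ.hom_ext
        · rw [Category.assoc, hβ1, sq₁.lift_fst]
        · rw [Category.assoc, hβ2, ← Category.assoc, sq₁.lift_snd, ← Functor.map_comp, hτ1, ht₁]
  rw [hP.h1 _ _ hQ (by rintro ⟨_ | _⟩; exacts [hQ₁, hU]) hcov _ hT']
  rintro ⟨_ | _⟩
  · change P (β ≫ pullback.snd _ _)
    rw [hβ2]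
    refine IH Q₁ hQ₁ _ ?_
    exact hP.baseChange hU hT' hQ₁ hT'' h ((yon S).map e₂) _ _ sq₁
      (locP_smooth_of_isEtaleMor hT' _ hE₂) hh
  · change P (γ ≫ pullback.snd _ _)
    rw [pullback.lift_snd]
    exact hh

open Groth.Agent.Helper15.UbfSch in
/-- Postcomposition with an étale separated morphism of schemes with bounded fibres. -/
theorem postFor (hP : Hyp P) (N : ℕ) : ∀ {T T' : Over S} (e : T' ⟶ T), Etale e.left →
    IsSeparated e.left → SchLiftsLE N e.left → PostFor P e := by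
  induction N with
  | zero =>
    intro T T' e he hs hN
    haveI : IsEmpty T'.left := ⟨fun t' => by
      have := hN (T'.left.residueField t') (T'.left.fromSpecResidueField t' ≫ e.left)
        {T'.left.fromSpecResidueField t'} (by simp)
      simp at this⟩
    exact postFor_of_isEmpty hP e
  | succ N ih =>
    intro T T' e he hs hN
    haveI := he
    haveI := hs
    let T'' : Over S := Over.mk (ZmtSplit.e₁ e.left ≫ T'.hom)
    let e₁ : T'' ⟶ T' := Over.homMk (ZmtSplit.e₁ e.left) rfl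
    have hw : ZmtSplit.e₂ e.left ≫ T'.hom = ZmtSplit.e₁ e.left ≫ T'.hom := by
      rw [← Over.w e, ← Category.assoc, ← ZmtSplit.e₁_comp, Category.assoc]
    let e₂ : T'' ⟶ T' := Over.homMk (ZmtSplit.e₂ e.left) hw
    have he₁ : Etale e₁.left := (inferInstance : Etale (ZmtSplit.e₁ e.left))
    have hs₁ : IsSeparated e₁.left := (inferInstance : IsSeparated (ZmtSplit.e₁ e.left))
    have he₂ : Etale e₂.left := by
      change Etale ((ZmtSplit.restOpens e.left).ι ≫ pullback.snd e.left e.left)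
      infer_instance
    refine postFor_of_rest hP e he e₁ e₂ (by ext; exact ZmtSplit.e₁_comp e.left) he₁ he₂ ?_
      (ih e₁ he₁ hs₁ (ZmtSplit.schLiftsLE_e₁ e.left hN))
    intro Ω _ str a b hab
    rcases ZmtSplit.exists_of_field e.left a.left b.left (congrArg (fun t => t.left) hab) with
      h | ⟨τ, h1, h2⟩
    · left
      ext
      exact h
    · right
      refine ⟨Over.homMk τ ?_, ?_, ?_⟩
      · change τ ≫ ZmtSplit.e₁ e.left ≫ T'.hom = str
        rw [← Category.assoc, h1]
        exact Over.w a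
      · ext
        exact h1
      · ext
        exact h2

/-- Postcomposition with an étale morphism between affine schemes. -/
theorem Hyp.postcomp_affine (hP : Hyp P) {T T' : Over S} (e : T' ⟶ T) [IsAffine T.left]
    [IsAffine T'.left] (he : Etale e.left) {U : Sp S} (hU : IsAlgSpace U)
    (h : U ⟶ (yon S).obj T') (hh : P h) : P (h ≫ (yon S).map e) := by
  haveI := he
  haveI : LocallyQuasiFinite e.left := locallyQuasiFinite_of_etale _
  obtain ⟨N, hN⟩ := UbfSch.exists_schLiftsLE_of_isAffine e.left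
  exact postFor hP N e he inferInstance hN U hU h hh

end Groth.Agent.Helper15.LST
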