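import Groth.Agent.Lib.Helper15.LST2

/-!
# Transport of the local data in the locality condition
-/

set_option autoImplicit false
set_option linter.style.haveILetI false
universe u
open CategoryTheory CategoryTheory.Limits AlgebraicGeometry MorphismProperty Opposite
open AlgSp Groth.Agent.Helper16.AS

namespace Groth.Agent.Helper15.LST

variable {S : Scheme.{u}}

/-- The local datum of the locality condition with all its members named. -/
def IsDatum (P : MorphismProperty (Sp S)) {X Y : Sp S} (f : X ⟶ Y) (x : Points X)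
    {V W U : Sp S} (b : V ⟶ Y) (p : W ⟶ X) (q : W ⟶ V) (e : U ⟶ W) (v : Points U) : Prop :=
  IsAlgSpace V ∧ IsAlgSpace W ∧ IsAlgSpace U ∧ LocP @Smooth b ∧ IsPullback p q f b ∧
    IsEtaleMor e ∧ Points.map (e ≫ p) v = x ∧ P (e ≫ q)

/-- The local datum of the locality condition. -/
def HasDatum (P : MorphismProperty (Sp S)) {X Y : Sp S} (f : X ⟶ Y) (x : Points X) : Prop :=
  ∃ (V W U : Sp S) (b : V ⟶ Y) (p : W ⟶ X) (q : W ⟶ V) (e : U ⟶ W) (v : Points U),
    IsDatum P f x b p q e v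

variable {P : MorphismProperty (Sp S)}

/-- change of `U` -/
theorem IsDatum.change_U (hP : Hyp P) {X Y : Sp S} {f : X ⟶ Y} {x : Points X}
    {V W U : Sp S} {b : V ⟶ Y} {p : W ⟶ X} {q : W ⟶ V} {e : U ⟶ W} {v : Points U}
    (d : IsDatum P f x b p q e v) {U' : Sp S} (hU' : IsAlgSpace U') (a : U' ⟶ U)
    (ha : IsEtaleMor a) (v' : Points U') (hv' : Points.map a v' = v) :
    IsDatum P f x b p q (a ≫ e) v' := by
  obtain ⟨hV, hW, hU, hb, sq, he, hv, hPe⟩ := d
  refine ⟨hV, hW, hU', hb, sq, Strat.isEtaleMor_comp a e ha he, ?_, ?_⟩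
  · rw [Category.assoc, Points.map_comp, hv', hv]
  · rw [Category.assoc]
    exact hP.precomp hU' hU hV a _ ha hPe

/-- change of `V` -/
theorem IsDatum.change_V (hP : Hyp P) {X Y : Sp S} (hX : IsAlgSpace X) (hY : IsAlgSpace Y)
    {f : X ⟶ Y} {x : Points X}
    {V W U : Sp S} {b : V ⟶ Y} {p : W ⟶ X} {q : W ⟶ V} {e : U ⟶ W} {v : Points U}
    (d : IsDatum P f x b p q e v) {V' : Sp S} (hV' : IsAlgSpace V') (c : V' ⟶ V)
    (hc : LocP @Smooth c) (v₁ : Points V') (hv₁ : Points.map c v₁ = Points.map (e ≫ q) v) :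
    ∃ (W' U' : Sp S) (p' : W' ⟶ X) (q' : W' ⟶ V') (e' : U' ⟶ W') (v' : Points U'),
      IsDatum P f x (c ≫ b) p' q' e' v' := by
  obtain ⟨hV, hW, hU, hb, sq, he, hv, hPe⟩ := d
  have sqW := IsPullback.of_hasPullback q c
  have sqU := IsPullback.of_hasPullback (e ≫ q) c
  have hW' : IsAlgSpace (pullback q c) := isAlgSpace_of_isPullback hV.diag hW hV' sqW
  have hU' : IsAlgSpace (pullback (e ≫ q) c) := isAlgSpace_of_isPullback hV.diag hU hV' sqU
  have hw : (pullback.fst (e ≫ q) c ≫ e) ≫ q = pullback.snd (e ≫ q) c ≫ c := by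
    rw [Category.assoc]; exact sqU.w
  let e' : pullback (e ≫ q) c ⟶ pullback q c := pullback.lift (pullback.fst (e ≫ q) c ≫ e)
    (pullback.snd (e ≫ q) c) hw
  have he'1 : e' ≫ pullback.fst q c = pullback.fst (e ≫ q) c ≫ e := pullback.lift_fst _ _ _
  have he'2 : e' ≫ pullback.snd q c = pullback.snd (e ≫ q) c := pullback.lift_snd _ _ _
  have sqC : IsPullback e' (pullback.fst (e ≫ q) c) (pullback.fst q c) e := by
    refine IsPullback.of_right ?_ he'1 sqW.flip
    rw [he'2]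
    exact sqU.flip
  have he' : IsEtaleMor e' := isEtaleMor_of_isPullback hU hW hW' e _ e' _ sqC he
  obtain ⟨v', hv'1, hv'2⟩ := exists_point_of_isPullback sqU v v₁ hv₁.symm
  refine ⟨_, _, pullback.fst q c ≫ p, pullback.snd q c, e', v', hV', hW', hU',
    locP_comp goodP_smooth srcEtLoc_smooth hV' hV hY c b hc hb, sqW.paste_horiz sq, he', ?_, ?_⟩
  · rw [← Category.assoc, he'1, Category.assoc, Points.map_comp, hv'1, hv]
  · rw [he'2]
    exact hP.baseChange hU hV hU' hV' (e ≫ q) c _ _ sqU hc hPe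

/-- change of `W` -/
theorem IsDatum.change_W (hP : Hyp P) {X Y : Sp S} (hX : IsAlgSpace X) (hY : IsAlgSpace Y)
    {f : X ⟶ Y} {x : Points X}
    {V W U : Sp S} {b : V ⟶ Y} {p : W ⟶ X} {q : W ⟶ V} {e : U ⟶ W} {v : Points U}
    (d : IsDatum P f x b p q e v) {W₂ : Sp S} {p₂ : W₂ ⟶ X} {q₂ : W₂ ⟶ V}
    (sq₂ : IsPullback p₂ q₂ f b) :
    ∃ (e₂ : U ⟶ W₂), IsDatum P f x b p₂ q₂ e₂ v ∧ e₂ ≫ p₂ = e ≫ p ∧ e₂ ≫ q₂ = e ≫ q := by
  obtain ⟨hV, hW, hU, hb, sq, he, hv, hPe⟩ := d
  have hW₂ : IsAlgSpace W₂ := isAlgSpace_of_isPullback hY.diag hX hV sq₂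
  let i : W ⟶ W₂ := sq₂.lift p q sq.w
  have hi1 : i ≫ p₂ = p := sq₂.lift_fst _ _ _
  have hi2 : i ≫ q₂ = q := sq₂.lift_snd _ _ _
  haveI : IsIso i := by
    refine ⟨sq.lift p₂ q₂ sq₂.w, ?_, ?_⟩
    · apply sq.hom_ext
      · rw [Category.assoc, sq.lift_fst, hi1, Category.id_comp]
      · rw [Category.assoc, sq.lift_snd, hi2, Category.id_comp]
    · apply sq₂.hom_ext
      · rw [Category.assoc, hi1, sq.lift_fst, Category.id_comp]
      · rw [Category.assoc, hi2, sq.lift_snd, Category.id_comp]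
  have h1 : (e ≫ i) ≫ p₂ = e ≫ p := by rw [Category.assoc, hi1]
  have h2 : (e ≫ i) ≫ q₂ = e ≫ q := by rw [Category.assoc, hi2]
  refine ⟨e ≫ i, ⟨hV, hW₂, hU, hb, sq₂, Strat.isEtaleMor_comp e i he (isEtaleMor_of_isIso i), ?_, ?_⟩,
    h1, h2⟩
  · rw [h1]; exact hv
  · rw [h2]; exact hPe

/-- base change of the datum along a smooth morphism -/
theorem HasDatum.baseChange (hP : Hyp P) {X Y X' Y' : Sp S} (hX : IsAlgSpace X)
    (hY : IsAlgSpace Y) (hX' : IsAlgSpace X') (hY' : IsAlgSpace Y') {f : X ⟶ Y} {g : Y' ⟶ Y}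
    {f' : X' ⟶ Y'} {g' : X' ⟶ X} (sq : IsPullback g' f' f g) (hg : LocP @Smooth g)
    (x' : Points X') (d : HasDatum P f (Points.map g' x')) : HasDatum P f' x' := by
  obtain ⟨V, W, U, b, p, q, e, v, hV, hW, hU, hb, sqW, he, hv, hPe⟩ := d
  have sqV := IsPullback.of_hasPullback b g
  set c := pullback.fst b g
  set b' := pullback.snd b g
  have hV' : IsAlgSpace (pullback b g) := isAlgSpace_of_isPullback hY.diag hV hY' sqV
  have hb' : LocP @Smooth b' := locP_of_isPullback goodP_smooth srcEtLoc_smooth hV hY hY' sqV hb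
  have hc : LocP @Smooth c :=
    locP_of_isPullback goodP_smooth srcEtLoc_smooth hY' hY hV sqV.flip hg
  have sqW' := IsPullback.of_hasPullback q c
  have sqU := IsPullback.of_hasPullback (e ≫ q) c
  have hW' : IsAlgSpace (pullback q c) := isAlgSpace_of_isPullback hV.diag hW hV' sqW'
  have hU' : IsAlgSpace (pullback (e ≫ q) c) := isAlgSpace_of_isPullback hV.diag hU hV' sqU
  set fstW := pullback.fst q c
  set q' := pullback.snd q c
  have hw : (pullback.fst (e ≫ q) c ≫ e) ≫ q = pullback.snd (e ≫ q) c ≫ c := by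
    rw [Category.assoc]; exact sqU.w
  let e' : pullback (e ≫ q) c ⟶ pullback q c := pullback.lift (pullback.fst (e ≫ q) c ≫ e)
    (pullback.snd (e ≫ q) c) hw
  have he'1 : e' ≫ fstW = pullback.fst (e ≫ q) c ≫ e := pullback.lift_fst _ _ _
  have he'2 : e' ≫ q' = pullback.snd (e ≫ q) c := pullback.lift_snd _ _ _
  have sqC : IsPullback e' (pullback.fst (e ≫ q) c) fstW e := by
    refine IsPullback.of_right ?_ he'1 sqW'.flip
    rw [he'2]
    exact sqU.flip
  have he' : IsEtaleMor e' := isEtaleMor_of_isPullback hU hW hW' e _ e' _ sqC he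
  have hp'w : (fstW ≫ p) ≫ f = (q' ≫ b') ≫ g := by
    rw [Category.assoc, sqW.w, ← Category.assoc, sqW'.w, Category.assoc, sqV.w, Category.assoc]
  let p' : pullback q c ⟶ X' := sq.lift (fstW ≫ p) (q' ≫ b') hp'w
  have hp'1 : p' ≫ g' = fstW ≫ p := sq.lift_fst _ _ _
  have hp'2 : p' ≫ f' = q' ≫ b' := sq.lift_snd _ _ _
  have sqA : IsPullback fstW p' p g' := by
    refine IsPullback.of_bot ?_ hp'1.symm sq
    rw [hp'2, sqW.w]
    exact sqW'.paste_vert sqV
  have sqB : IsPullback p' q' f' b' := by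
    refine IsPullback.of_right ?_ hp'2 sq
    rw [hp'1, ← sqV.w]
    exact sqW'.paste_horiz sqW
  have sqD : IsPullback (pullback.fst (e ≫ q) c) (e' ≫ p') (e ≫ p) g' := sqC.flip.paste_vert sqA
  obtain ⟨v', hv'1, hv'2⟩ := exists_point_of_isPullback sqD v x' hv
  refine ⟨_, _, _, b', p', q', e', v', hV', hW', hU', hb', sqB, he', hv'2, ?_⟩
  rw [he'2]
  exact hP.baseChange hU hV hU' hV' (e ≫ q) c _ _ sqU hc hPe

/-- precomposition of the datum with an étale morphism -/
theorem HasDatum.precomp (hP : Hyp P) {X Y X' : Sp S} (hX : IsAlgSpace X)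
    (hY : IsAlgSpace Y) (hX' : IsAlgSpace X') {f : X ⟶ Y} (a : X' ⟶ X) (ha : IsEtaleMor a)
    (x' : Points X') (d : HasDatum P f (Points.map a x')) : HasDatum P (a ≫ f) x' := by
  obtain ⟨V, W, U, b, p, q, e, v, hV, hW, hU, hb, sqW, he, hv, hPe⟩ := d
  have sqW' := IsPullback.of_hasPullback p a
  set fstW := pullback.fst p a
  set p' := pullback.snd p a
  have hW' : IsAlgSpace (pullback p a) := isAlgSpace_of_isPullback hX.diag hW hX' sqW'
  have sqU := IsPullback.of_hasPullback e fstW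
  set fstU := pullback.fst e fstW
  set e' := pullback.snd e fstW
  have hU' : IsAlgSpace (pullback e fstW) := isAlgSpace_of_isPullback hW.diag hU hW' sqU
  have hfstW : IsEtaleMor fstW := isEtaleMor_of_isPullback hX' hX hW a p fstW p' sqW' ha
  have hfstU : IsEtaleMor fstU := isEtaleMor_of_isPullback hW' hW hU fstW e fstU e' sqU hfstW
  have he' : IsEtaleMor e' := isEtaleMor_of_isPullback hU hW hW' e fstW e' fstU sqU.flip he
  have sqD : IsPullback fstU (e' ≫ p') (e ≫ p) a := sqU.paste_vert sqW'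
  obtain ⟨v', hv'1, hv'2⟩ := exists_point_of_isPullback sqD v x' hv
  refine ⟨V, _, _, b, p', fstW ≫ q, e', v', hV, hW', hU', hb, sqW'.flip.paste_vert sqW, he',
    hv'2, ?_⟩
  rw [← Category.assoc, ← sqU.w, Category.assoc]
  exact hP.precomp hU' hU hV fstU _ hfstU hPe

end Groth.Agent.Helper15.LST
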