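import Mathlib

/-!
# The grid of generic points: commutative algebra
-/

set_option autoImplicit false
universe u

namespace Groth.Agent.Helper15.LST

open MvPolynomial

section Rename

variable {R : Type*} [CommRing R] {σ τ : Type*}

/-- Renaming the variables along an injective map into a finite type is smooth. -/
theorem smooth_rename_of_injective [Finite τ] (j : σ → τ) (hj : Function.Injective j) :
    (rename j : MvPolynomial σ R →ₐ[R] MvPolynomial τ R).toRingHom.Smooth := by
  classical
  let e : ↥(Set.range j)ᶜ ⊕ σ ≃ τ := (Equiv.sumComm _ _).trans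
    (((Equiv.ofInjective j hj).sumCongr (Equiv.refl _)).trans (Equiv.Set.sumCompl (Set.range j)))
  let ψ : MvPolynomial ↥(Set.range j)ᶜ (MvPolynomial σ R) ≃ₐ[R] MvPolynomial τ R :=
    (sumAlgEquiv R ↥(Set.range j)ᶜ σ).symm.trans (renameEquiv R e)
  have hfac : (rename j : MvPolynomial σ R →ₐ[R] MvPolynomial τ R).toRingHom =
      (ψ : MvPolynomial ↥(Set.range j)ᶜ (MvPolynomial σ R) →+* MvPolynomial τ R).comp
        (C : MvPolynomial σ R →+* MvPolynomial ↥(Set.range j)ᶜ (MvPolynomial σ R)) := by
    apply MvPolynomial.ringHom_ext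
    · intro r
      simp [ψ]
    · intro i
      simp [ψ, e]
  rw [hfac]
  refine RingHom.Smooth.comp ?_ (RingHom.Smooth.of_bijective ψ.bijective)
  have : (C : MvPolynomial σ R →+* MvPolynomial ↥(Set.range j)ᶜ (MvPolynomial σ R)) =
      algebraMap _ _ := rfl
  rw [this, RingHom.smooth_algebraMap]
  exact ⟨inferInstance, inferInstance⟩

end Rename

section Grid

variable (R : Type*) [CommRing R] (σ : Type*) [Fintype σ] (D : ℕ)

/-- The product of the differences of the variables in each row of the grid. -/
noncomputable def grid : MvPolynomial (σ × Fin (D + 1)) R :=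
  ∏ q ∈ (Finset.univ : Finset (σ × Fin (D + 1) × Fin (D + 1))).filter (fun q => q.2.1 ≠ q.2.2),
    (X (q.1, q.2.1) - X (q.1, q.2.2))

variable {R}

theorem map_grid {A : Type*} [CommRing A] (f : R →+* A) :
    MvPolynomial.map f (grid R σ D) = grid A σ D := by
  simp [grid, map_prod]

theorem grid_ne_zero [IsDomain R] : grid R σ D ≠ 0 := by
  rw [grid, Finset.prod_ne_zero_iff]
  intro q hq
  rw [Finset.mem_filter] at hq
  rw [sub_ne_zero]
  intro h
  have := MvPolynomial.X_injective (R := R) h
  exact hq.2 (by simpa using this)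

/-- If the image of the grid polynomial under a ring homomorphism into a domain is nonzero, the
images of the variables in each row are pairwise distinct. -/
theorem grid_injective {K : Type*} [CommRing K] [IsDomain K]
    (ρ : MvPolynomial (σ × Fin (D + 1)) R →+* K) (h : ρ (grid R σ D) ≠ 0) (m : σ) :
    Function.Injective (fun i : Fin (D + 1) => ρ (X (m, i))) := by
  intro i j hij
  by_contra hne
  apply h
  rw [grid, map_prod]
  apply Finset.prod_eq_zero (i := (m, i, j))
  · simp [hne]
  · simpa [sub_eq_zero] using hij

/-- Over every prime of `R` there is a prime of the polynomial ring not containing the grid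
polynomial. -/
theorem exists_prime_grid (p : Ideal R) [p.IsPrime] :
    ∃ Q : Ideal (MvPolynomial (σ × Fin (D + 1)) R), Q.IsPrime ∧ grid R σ D ∉ Q ∧
      Q.comap (C : R →+* MvPolynomial (σ × Fin (D + 1)) R) = p := by
  refine ⟨RingHom.ker (MvPolynomial.map (Ideal.Quotient.mk p) :
    MvPolynomial (σ × Fin (D + 1)) R →+* MvPolynomial (σ × Fin (D + 1)) (R ⧸ p)),
    RingHom.ker_isPrime _, ?_, ?_⟩
  · rw [RingHom.mem_ker, map_grid]
    exact grid_ne_zero σ D
  · ext r
    rw [Ideal.mem_comap, RingHom.mem_ker, map_C, MvPolynomial.C_eq_zero,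
      Ideal.Quotient.eq_zero_iff_mem]

end Grid

section Cover

variable {A : Type*} [CommRing A] {n D : ℕ}

/-- The covering property of the grid. -/
theorem exists_rename_notMem (g : MvPolynomial (Fin n) A) (hD : ∀ m, g.degreeOf m ≤ D)
    (z : Ideal (MvPolynomial (Fin n × Fin (D + 1)) A)) [z.IsPrime]
    (hΔ : grid A (Fin n) D ∉ z) (hc : ∃ m, C (coeff m g) ∉ z) :
    ∃ φ : Fin n → Fin (D + 1), rename (fun m => (m, φ m)) g ∉ z := by
  classical
  by_contra hcon
  push Not at hcon
  let π : MvPolynomial (Fin n × Fin (D + 1)) A →+* MvPolynomial (Fin n × Fin (D + 1)) A ⧸ z :=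
    Ideal.Quotient.mk z
  have hπΔ : π (grid A (Fin n) D) ≠ 0 := by
    rw [Ne, Ideal.Quotient.eq_zero_iff_mem]; exact hΔ
  have hinj := grid_injective (Fin n) D π hπΔ
  set gb := MvPolynomial.map (π.comp C) g with hgb
  have hkey : ∀ φ : Fin n → Fin (D + 1),
      eval (fun m => π (X (m, φ m))) gb = π (rename (fun m => (m, φ m)) g) := by
    intro φ
    have : (eval (fun m => π (X (m, φ m)))).comp (MvPolynomial.map (π.comp C)) =
        π.comp (rename (fun m => (m, φ m)) :
          MvPolynomial (Fin n) A →ₐ[A] MvPolynomial (Fin n × Fin (D + 1)) A).toRingHom := by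
      apply MvPolynomial.ringHom_ext
      · intro r; simp
      · intro i; simp
    exact RingHom.congr_fun this g
  have hzero : gb = 0 := by
    apply eq_zero_of_eval_zero_at_prod_finset gb
      (fun m => Finset.univ.image (fun i : Fin (D + 1) => π (X (m, i))))
    · intro m
      rw [Finset.card_image_of_injective _ (hinj m), Finset.card_univ, Fintype.card_fin]
      have h1 : gb.degreeOf m ≤ g.degreeOf m := by
        rw [degreeOf_def, degreeOf_def]
        exact Multiset.count_le_of_le _ degrees_map_le
      have := hD m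
      omega
    · intro x hx
      have : ∀ m, ∃ i, π (X (m, i)) = x m := fun m => by
        simpa using hx m
      choose φ hφ using this
      have hx' : x = fun m => π (X (m, φ m)) := funext fun m => (hφ m).symm
      rw [hx', hkey, Ideal.Quotient.eq_zero_iff_mem]
      exact hcon φ
  obtain ⟨m, hm⟩ := hc
  apply hm
  have := congrArg (coeff m) hzero
  rw [hgb, coeff_map, coeff_zero] at this
  exact Ideal.Quotient.eq_zero_iff_mem.1 this

end Cover

end Groth.Agent.Helper15.LST
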