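import Groth.Agent.Lib.Helper15.LST3

/-!
# The grid argument: categorical part
-/

set_option autoImplicit false
set_option linter.style.haveILetI false
universe u
open CategoryTheory CategoryTheory.Limits AlgebraicGeometry MorphismProperty Opposite
open AlgSp Groth.Agent.Helper16.AS

namespace Groth.Agent.Helper15.LST

variable {S : Scheme.{u}}

theorem locP_smooth_yon_map {U V : Over S} (g : U ⟶ V) (h : Smooth g.left) :
    LocP @Smooth ((yon S).map g) :=
  locP_of_repWith etale_le_smooth _ ((repWith_yon_map_iff _ g).2 h)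

theorem isSurjectiveMor_yon_map {U V : Over S} (g : U ⟶ V) (h : Function.Surjective g.left) :
    IsSurjectiveMor ((yon S).map g) :=
  isSurjectiveMor_of_repWith_surjective _ ((repWith_yon_map_iff _ g).2 ⟨h⟩)

/-- A jointly surjective family of étale morphisms of schemes is an étale covering. -/
theorem isEtCover_yon {ι : Type u} {T : Over S} (Ui : ι → Over S) (g : ∀ i, Ui i ⟶ T)
    (hg : ∀ i, Etale (g i).left) (hs : ∀ t : T.left, ∃ i u, (g i).left u = t) :
    IsEtCover (fun i => (yon S).obj (Ui i)) (fun i => (yon S).map (g i)) := by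
  refine ⟨fun i => (isEtaleMor_yon_map_iff (g i)).2 (hg i), fun x => ?_⟩
  obtain ⟨t, rfl⟩ := (Points.schemeHomeo T).surjective x
  obtain ⟨i, u, hu⟩ := hs t
  exact ⟨i, Points.schemeHomeo (Ui i) u, by rw [Points.map_yon_map_apply, hu]⟩

variable {P : MorphismProperty (Sp S)}

open Strat in
/-- The grid argument. -/
theorem Hyp.of_grid (hP : Hyp P) {Xo Yo Vo Wo To Zo Uo : Over S}
    (f : Xo ⟶ Yo) (v : Vo ⟶ Yo) (pX : Wo ⟶ Xo) (pV : Wo ⟶ Vo) (sqW : IsPullback pX pV f v)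
    (j : Uo ⟶ Wo) [IsOpenImmersion j.left] (hPj : P ((yon S).map (j ≫ pV)))
    (t : To ⟶ Yo) (ht : Smooth t.left) (hts : Function.Surjective t.left)
    (qX : Zo ⟶ Xo) (qT : Zo ⟶ To) (sqZ : IsPullback qX qT f t)
    {ι : Type u} (π : ι → (To ⟶ Vo)) (hπ : ∀ φ, Smooth (π φ).left) (hπv : ∀ φ, π φ ≫ v = t)
    (ρ : ι → (Zo ⟶ Wo)) (hρX : ∀ φ, ρ φ ≫ pX = qX) (hρV : ∀ φ, ρ φ ≫ pV = qT ≫ π φ)
    (X' : Xo.left.Opens)
    (hcov : ∀ z : Zo.left, qX.left z ∈ X' → ∃ φ, (ρ φ).left z ∈ Set.range j.left) :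
    P ((yon S).map (opι Xo X' ≫ f)) := by
  have hXo := IsAlgSpace.yon_obj (S := S) Xo
  have hYo := IsAlgSpace.yon_obj (S := S) Yo
  have hVo := IsAlgSpace.yon_obj (S := S) Vo
  have hTo := IsAlgSpace.yon_obj (S := S) To
  have hUo := IsAlgSpace.yon_obj (S := S) Uo
  -- the preimage of `X'`
  let Z' : Zo.left.Opens := qX.left ⁻¹ᵁ X'
  let qX' : opSub Zo Z' ⟶ opSub Xo X' := Over.homMk (qX.left ∣_ X') (by
    change (qX.left ∣_ X') ≫ X'.ι ≫ Xo.hom = Z'.ι ≫ Zo.hom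
    rw [← Category.assoc, morphismRestrict_ι, Category.assoc, CategoryTheory.Over.w])
  have sqZ' : IsPullback qX' (opι Zo Z') (opι Xo X') qX :=
    IsPullback.of_map_of_faithful (Over.forget S) (isPullback_morphismRestrict qX.left X')
  have sqB : IsPullback ((yon S).map qX') ((yon S).map (opι Zo Z' ≫ qT))
      ((yon S).map (opι Xo X' ≫ f)) ((yon S).map t) := (sqZ'.paste_vert sqZ).map (yon S)
  refine hP.of_base_single (IsAlgSpace.yon_obj _) hYo (IsAlgSpace.yon_obj _) hTo _ _ _ _ sqB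
    (locP_smooth_yon_map t ht) (isSurjectiveMor_yon_map t hts) ?_
  -- the open cover of `Z'`
  let O : ι → Zo.left.Opens := fun φ => (ρ φ).left ⁻¹ᵁ j.left.opensRange
  have hcov' : IsEtCover (fun φ => (yon S).obj (opSub Zo (Z' ⊓ O φ)))
      (fun φ => (yon S).map (opLE Zo (inf_le_left : Z' ⊓ O φ ≤ Z'))) := by
    refine isEtCover_yon _ _ (fun φ => ?_) ?_
    · exact (inferInstance : Etale (Zo.left.homOfLE (inf_le_left : Z' ⊓ O φ ≤ Z')))
    · intro z'
      obtain ⟨φ, hφ⟩ := hcov z'.1 z'.2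
      refine ⟨φ, ⟨z'.1, z'.2, hφ⟩, ?_⟩
      exact (Scheme.homOfLE_apply' (inf_le_left : Z' ⊓ O φ ≤ Z') z'.1 ⟨z'.2, hφ⟩).trans
        (Subtype.ext rfl)
  rw [hP.h1 _ _ (IsAlgSpace.yon_obj _) (fun φ => IsAlgSpace.yon_obj _) hcov' _ hTo]
  intro φ
  -- the pullback square for `O φ`
  have sqR : IsPullback (ρ φ) qT pV (π φ) := by
    refine IsPullback.of_right ?_ (hρV φ) sqW
    rw [hρX, hπv]
    exact sqZ
  have hrange : Set.range ((O φ).ι ≫ (ρ φ).left) ⊆ Set.range j.left := by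
    rintro _ ⟨z, rfl⟩
    exact z.2
  have hlw : IsOpenImmersion.lift j.left ((O φ).ι ≫ (ρ φ).left) hrange ≫ Uo.hom =
      (O φ).ι ≫ Zo.hom := by
    rw [← CategoryTheory.Over.w j, IsOpenImmersion.lift_fac_assoc, Category.assoc, CategoryTheory.Over.w]
  let gφ : opSub Zo (O φ) ⟶ Uo :=
    Over.homMk (IsOpenImmersion.lift j.left ((O φ).ι ≫ (ρ φ).left) hrange) hlw
  have sqL : IsPullback gφ (opι Zo (O φ)) j (ρ φ) :=
    IsPullback.of_map_of_faithful (Over.forget S) (IsOpenImmersion.isPullback _ (O φ).ι j.left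
      (ρ φ).left (IsOpenImmersion.lift_fac _ _ _).symm (Scheme.Opens.opensRange_ι _).symm)
  have sqT := (sqL.paste_vert sqR).map (yon S)
  have h1 : P ((yon S).map (opι Zo (O φ) ≫ qT)) :=
    hP.baseChange hUo hVo (IsAlgSpace.yon_obj _) hTo _ _ _ _ sqT
      (locP_smooth_yon_map _ (hπ φ)) hPj
  have h2 := hP.precomp (IsAlgSpace.yon_obj _) (IsAlgSpace.yon_obj _) hTo
    ((yon S).map (opLE Zo (inf_le_right : Z' ⊓ O φ ≤ O φ))) _
    ((isEtaleMor_yon_map_iff _).2
      (inferInstance : Etale (Zo.left.homOfLE (inf_le_right : Z' ⊓ O φ ≤ O φ)))) h1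
  rw [← Functor.map_comp, ← Category.assoc, opLE_ι] at h2
  rw [← Functor.map_comp, ← Category.assoc, opLE_ι]
  exact h2

end Groth.Agent.Helper15.LST
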