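import Groth.Agent.Lib.Helper15.LST4
import Groth.Agent.Lib.Helper15.LST5

/-!
# The grid argument for a polynomial
-/

set_option autoImplicit false
set_option linter.style.haveILetI false
universe u
open CategoryTheory CategoryTheory.Limits AlgebraicGeometry MorphismProperty Opposite
open AlgSp Groth.Agent.Helper16.AS

namespace Groth.Agent.Helper15.LST

open MvPolynomial

variable {S : Scheme.{u}}

section SpecOver

variable {R : Type u} [CommRing R] (y : Spec (CommRingCat.of R) ⟶ S)

/-- The spectrum of an `R`-algebra as a scheme over `S`, through `Spec R`. -/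
noncomputable abbrev specOver (A : Type u) [CommRing A] [Algebra R A] : Over S :=
  Over.mk (Spec.map (CommRingCat.ofHom (algebraMap R A)) ≫ y)

/-- The structure morphism to `Spec R`. -/
noncomputable abbrev specOverHom (A : Type u) [CommRing A] [Algebra R A] :
    specOver y A ⟶ Over.mk y :=
  Over.homMk (Spec.map (CommRingCat.ofHom (algebraMap R A))) rfl

/-- The morphism induced by a homomorphism of `R`-algebras. -/
noncomputable abbrev specOverMap {A B : Type u} [CommRing A] [CommRing B] [Algebra R A]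
    [Algebra R B] (ψ : A →+* B) (hψ : ψ.comp (algebraMap R A) = algebraMap R B) :
    specOver y B ⟶ specOver y A :=
  Over.homMk (Spec.map (CommRingCat.ofHom ψ)) (by
    change Spec.map (CommRingCat.ofHom ψ) ≫ Spec.map (CommRingCat.ofHom (algebraMap R A)) ≫ y =
      Spec.map (CommRingCat.ofHom (algebraMap R B)) ≫ y
    rw [← Category.assoc, ← Spec.map_comp, ← CommRingCat.ofHom_comp, hψ])

theorem specOverMap_hom {A B : Type u} [CommRing A] [CommRing B] [Algebra R A]
    [Algebra R B] (ψ : A →+* B) (hψ : ψ.comp (algebraMap R A) = algebraMap R B) :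
    specOverMap y ψ hψ ≫ specOverHom y A = specOverHom y B := by
  apply Over.OverMorphism.ext
  change Spec.map (CommRingCat.ofHom ψ) ≫ Spec.map (CommRingCat.ofHom (algebraMap R A)) =
    Spec.map (CommRingCat.ofHom (algebraMap R B))
  rw [← Spec.map_comp, ← CommRingCat.ofHom_comp, hψ]

theorem specOverMap_comp {A B C : Type u} [CommRing A] [CommRing B] [CommRing C] [Algebra R A]
    [Algebra R B] [Algebra R C] (ψ₁ : A →+* B) (h₁ : ψ₁.comp (algebraMap R A) = algebraMap R B)
    (ψ₂ : B →+* C) (h₂ : ψ₂.comp (algebraMap R B) = algebraMap R C)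
    (ψ₃ : A →+* C) (h₃ : ψ₃.comp (algebraMap R A) = algebraMap R C) (h : ψ₂.comp ψ₁ = ψ₃) :
    specOverMap y ψ₂ h₂ ≫ specOverMap y ψ₁ h₁ = specOverMap y ψ₃ h₃ := by
  apply Over.OverMorphism.ext
  change Spec.map (CommRingCat.ofHom ψ₂) ≫ Spec.map (CommRingCat.ofHom ψ₁) =
    Spec.map (CommRingCat.ofHom ψ₃)
  rw [← Spec.map_comp, ← CommRingCat.ofHom_comp, h]

attribute [local instance] MvPolynomial.algebraMvPolynomial in
/-- Affine space over `Spec A` is the base change of affine space over `Spec R`. -/
theorem isPullback_specOver_mvPolynomial (A : Type u) [CommRing A] [Algebra R A] (ι : Type) :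
    IsPullback
      (specOverMap y (C : A →+* MvPolynomial ι A) rfl)
      (specOverMap y (MvPolynomial.map (algebraMap R A) : MvPolynomial ι R →+* MvPolynomial ι A)
        (by ext r; simp [MvPolynomial.algebraMap_eq]))
      (specOverHom y A) (specOverHom y (MvPolynomial ι R)) := by
  refine IsPullback.of_map_of_faithful (Over.forget S) ?_
  exact isPullback_SpecMap_of_isPushout _ _ _ _
    (CommRingCat.isPushout_of_isPushout R A (MvPolynomial ι R) (MvPolynomial ι A))

end SpecOver

section Poly

variable {R A : Type u} [CommRing R] [CommRing A] [Algebra R A]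
  (y : Spec (CommRingCat.of R) ⟶ S)

/-- The union of the non-vanishing loci of the coefficients of a polynomial. -/
noncomputable def coeffOpen {n : ℕ} (g : MvPolynomial (Fin n) A) : (specOver y A).left.Opens :=
  (⨆ m : Fin n →₀ ℕ, PrimeSpectrum.basicOpen (coeff m g) :
    TopologicalSpace.Opens (PrimeSpectrum A))

theorem mem_coeffOpen {n : ℕ} (g : MvPolynomial (Fin n) A) (x : PrimeSpectrum A) :
    x ∈ coeffOpen y g ↔ ∃ m, coeff m g ∉ x.asIdeal := by
  change x ∈ (⨆ m : Fin n →₀ ℕ, PrimeSpectrum.basicOpen (coeff m g) :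
    TopologicalSpace.Opens (PrimeSpectrum A)) ↔ _
  rw [TopologicalSpace.Opens.mem_iSup]
  rfl

/-- the non-vanishing locus of a polynomial -/
noncomputable def polyOpen {n : ℕ} (g : MvPolynomial (Fin n) A) :
    (specOver y (MvPolynomial (Fin n) A)).left.Opens :=
  (PrimeSpectrum.basicOpen g : TopologicalSpace.Opens (PrimeSpectrum (MvPolynomial (Fin n) A)))

variable {P : MorphismProperty (Sp S)}

theorem C_comp_algebraMap (ι : Type) (B : Type u) [CommRing B] [Algebra R B] :
    (C : B →+* MvPolynomial ι B).comp (algebraMap R B) = algebraMap R (MvPolynomial ι B) := rfl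

theorem map_comp_algebraMap (ι : Type) :
    (MvPolynomial.map (algebraMap R A) : MvPolynomial ι R →+* MvPolynomial ι A).comp
      (algebraMap R (MvPolynomial ι R)) = algebraMap R (MvPolynomial ι A) := by
  ext r; simp [MvPolynomial.algebraMap_eq]

theorem rename_comp_algebraMap {ι κ : Type} (j : ι → κ) (B : Type u) [CommRing B] [Algebra R B] :
    ((rename j : MvPolynomial ι B →ₐ[B] MvPolynomial κ B) : MvPolynomial ι B →+* _).comp
      (algebraMap R (MvPolynomial ι B)) = algebraMap R (MvPolynomial κ B) := by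
  ext r; simp [MvPolynomial.algebraMap_eq]

instance isOpenImmersion_opι (Z : Over S) (O : Z.left.Opens) :
    IsOpenImmersion (Strat.opι Z O).left := (inferInstance : IsOpenImmersion O.ι)

open Strat in
/-- The grid argument for the non-vanishing locus of a polynomial. -/
theorem Hyp.of_poly (hP : Hyp P) (n : ℕ) (g : MvPolynomial (Fin n) A)
    (hg : P ((yon S).map (opι (specOver y (MvPolynomial (Fin n) A)) (polyOpen y g) ≫
      specOverMap y (MvPolynomial.map (algebraMap R A)) (map_comp_algebraMap (Fin n))))) :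
    P ((yon S).map (opι (specOver y A) (coeffOpen y g) ≫ specOverHom y A)) := by
  classical
  set D := g.totalDegree with hD
  -- the grid
  let τ : Type := Fin n × Fin (D + 1)
  let TU : (specOver y (MvPolynomial τ R)).left.Opens :=
    (PrimeSpectrum.basicOpen (grid R (Fin n) D) :
      TopologicalSpace.Opens (PrimeSpectrum (MvPolynomial τ R)))
  let m : specOver y (MvPolynomial τ A) ⟶ specOver y (MvPolynomial τ R) :=
    specOverMap y (MvPolynomial.map (algebraMap R A)) (map_comp_algebraMap τ)
  let ZU : (specOver y (MvPolynomial τ A)).left.Opens := m.left ⁻¹ᵁ TU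
  let qT : opSub (specOver y (MvPolynomial τ A)) ZU ⟶ opSub (specOver y (MvPolynomial τ R)) TU :=
    Over.homMk (m.left ∣_ TU) (by
      change (m.left ∣_ TU) ≫ TU.ι ≫ (specOver y (MvPolynomial τ R)).hom =
        ZU.ι ≫ (specOver y (MvPolynomial τ A)).hom
      rw [← Category.assoc, morphismRestrict_ι, Category.assoc, CategoryTheory.Over.w])
  have sqZ0 := isPullback_specOver_mvPolynomial y A τ
  have sqZ1 : IsPullback qT (opι _ ZU) (opι _ TU) m :=
    IsPullback.of_map_of_faithful (Over.forget S) (isPullback_morphismRestrict m.left TU)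
  have sqZ := (sqZ1.paste_vert sqZ0.flip).flip
  let jφ : ULift.{u} (Fin n → Fin (D + 1)) → Fin n → τ := fun φ i => (i, φ.down i)
  have hjφ : ∀ φ, Function.Injective (jφ φ) := fun φ a b hab => (Prod.ext_iff.1 hab).1
  let rR : ∀ φ, MvPolynomial (Fin n) R →+* MvPolynomial τ R := fun φ =>
    ((rename (jφ φ) : MvPolynomial (Fin n) R →ₐ[R] MvPolynomial τ R) :
      MvPolynomial (Fin n) R →+* MvPolynomial τ R)
  let rA : ∀ φ, MvPolynomial (Fin n) A →+* MvPolynomial τ A := fun φ =>
    ((rename (jφ φ) : MvPolynomial (Fin n) A →ₐ[A] MvPolynomial τ A) :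
      MvPolynomial (Fin n) A →+* MvPolynomial τ A)
  have hrR : ∀ φ, (rR φ).comp (algebraMap R (MvPolynomial (Fin n) R)) =
      algebraMap R (MvPolynomial τ R) := fun φ => rename_comp_algebraMap (jφ φ) R
  have hrA : ∀ φ, (rA φ).comp (algebraMap R (MvPolynomial (Fin n) A)) =
      algebraMap R (MvPolynomial τ A) := fun φ => rename_comp_algebraMap (jφ φ) A
  have e5 : ∀ φ, specOverMap y (rA φ) (hrA φ) ≫
      specOverMap y (C : A →+* MvPolynomial (Fin n) A) (C_comp_algebraMap (Fin n) A) =
      specOverMap y (C : A →+* MvPolynomial τ A) (C_comp_algebraMap τ A) := fun φ =>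
    specOverMap_comp y _ _ _ _ _ _ (by ext a; simp [rA])
  have e6 : ∀ φ, specOverMap y (rA φ) (hrA φ) ≫ specOverMap y
        (MvPolynomial.map (algebraMap R A) : MvPolynomial (Fin n) R →+* MvPolynomial (Fin n) A)
        (map_comp_algebraMap (Fin n)) =
      m ≫ specOverMap y (rR φ) (hrR φ) := fun φ => by
    have hh : ((rA φ).comp (MvPolynomial.map (algebraMap R A) :
        MvPolynomial (Fin n) R →+* MvPolynomial (Fin n) A)).comp
          (algebraMap R (MvPolynomial (Fin n) R)) = algebraMap R (MvPolynomial τ A) := by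
      rw [RingHom.comp_assoc, map_comp_algebraMap, hrA]
    rw [specOverMap_comp y _ _ _ _ _ hh rfl]
    exact (specOverMap_comp y _ _ _ _ _ hh (by
      apply MvPolynomial.ringHom_ext
      · intro r; simp [rR, rA]
      · intro i; simp [rR, rA])).symm
  refine hP.of_grid (specOverHom y A) (specOverHom y (MvPolynomial (Fin n) R)) _ _
    (isPullback_specOver_mvPolynomial y A (Fin n)) (opι _ (polyOpen y g)) hg
    (opι _ TU ≫ specOverHom y (MvPolynomial τ R)) ?_ ?_ _ _ sqZ
    (fun φ => opι _ TU ≫ specOverMap y (rR φ) (hrR φ)) ?_ ?_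
    (fun φ => opι _ ZU ≫ specOverMap y (rA φ) (hrA φ)) ?_ ?_ (coeffOpen y g) ?_
  · change Smooth (TU.ι ≫ Spec.map (CommRingCat.ofHom (algebraMap R (MvPolynomial τ R))))
    haveI : Smooth (Spec.map (CommRingCat.ofHom (algebraMap R (MvPolynomial τ R)))) :=
      (HasRingHomProperty.Spec_iff (P := @Smooth)).2
        (RingHom.smooth_algebraMap.2 ⟨inferInstance, inferInstance⟩)
    infer_instance
  · intro p
    obtain ⟨Q, hQ, hΔ, hcomap⟩ := exists_prime_grid (Fin n) D (p : PrimeSpectrum R).asIdeal
    refine ⟨⟨⟨Q, hQ⟩, hΔ⟩, ?_⟩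
    exact PrimeSpectrum.ext hcomap
  · intro φ
    change Smooth (TU.ι ≫ Spec.map (CommRingCat.ofHom (rR φ)))
    haveI : Smooth (Spec.map (CommRingCat.ofHom (rR φ))) :=
      (HasRingHomProperty.Spec_iff (P := @Smooth)).2
        (smooth_rename_of_injective (jφ φ) (hjφ φ))
    infer_instance
  · intro φ
    rw [Category.assoc, specOverMap_hom]
  · intro φ
    rw [Category.assoc, e5]
  · intro φ
    rw [← Category.assoc qT, sqZ1.w, Category.assoc, Category.assoc, e6]
  · intro z hz
    have hz' : ∃ m, coeff m g ∉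
        (PrimeSpectrum.comap (C : A →+* MvPolynomial τ A) z.1).asIdeal :=
      (mem_coeffOpen y g _).1 hz
    have hc : ∃ m, C (coeff m g) ∉ (z.1 : PrimeSpectrum (MvPolynomial τ A)).asIdeal := hz'
    have hΔ0 : grid R (Fin n) D ∉ (PrimeSpectrum.comap
        (MvPolynomial.map (algebraMap R A) : MvPolynomial τ R →+* MvPolynomial τ A) z.1).asIdeal :=
      z.2
    have hΔ : grid A (Fin n) D ∉ (z.1 : PrimeSpectrum (MvPolynomial τ A)).asIdeal := by
      rw [← map_grid (Fin n) D (algebraMap R A)]
      exact hΔ0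
    obtain ⟨φ, hφ⟩ := exists_rename_notMem g (fun i => degreeOf_le_totalDegree g i)
      (z.1 : PrimeSpectrum (MvPolynomial τ A)).asIdeal hΔ hc
    refine ⟨⟨φ⟩, ?_⟩
    change _ ∈ Set.range (polyOpen y g).ι
    rw [Scheme.Opens.range_ι]
    exact hφ

end Poly

end Groth.Agent.Helper15.LST
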