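import Groth.Agent.Lib.Helper15.LST6

/-!
# The affine core: from the local datum to a polynomial
-/

set_option autoImplicit false
set_option linter.style.haveILetI false
universe u
open CategoryTheory CategoryTheory.Limits AlgebraicGeometry MorphismProperty Opposite
open AlgSp Groth.Agent.Helper16.AS

namespace Groth.Agent.Helper15.LST

open MvPolynomial

variable {S : Scheme.{u}}

/-- A polynomial outside an ideal has a coefficient outside it. -/
theorem exists_coeff_notMem {A : Type*} [CommRing A] {ι : Type*} (g : MvPolynomial ι A)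
    (w : Ideal (MvPolynomial ι A)) (hg : g ∉ w) : ∃ m, C (coeff m g) ∉ w := by
  by_contra hcon
  push Not at hcon
  apply hg
  rw [g.as_sum]
  refine Ideal.sum_mem _ fun m _ => ?_
  have : monomial m (coeff m g) = C (coeff m g) * monomial m 1 := by
    rw [C_mul_monomial, mul_one]
  rw [this]
  exact Ideal.mul_mem_right _ _ (hcon m)

/-- Every point of a scheme has an affine open neighbourhood. -/
theorem exists_affine_nbhd (Z : Scheme.{u}) (z : Z) : ∃ (C : CommRingCat.{u}) (j : Spec C ⟶ Z)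
    (_ : IsOpenImmersion j) (w : Spec C), j w = z := by
  obtain ⟨w, hw⟩ := Z.affineOpenCover.covers z
  exact ⟨_, Z.affineOpenCover.f _, Z.affineOpenCover.map_prop _, w, hw⟩

/-- Étale coordinates on a scheme smooth over an affine scheme, near a point. -/
theorem exists_etale_coordinates {R : Type u} [CommRing R] {Z : Scheme.{u}}
    (β : Z ⟶ Spec (CommRingCat.of R)) [Smooth β] (z : Z) :
    ∃ (B : Type u) (_ : CommRing B) (j : Spec (CommRingCat.of B) ⟶ Z) (_ : IsOpenImmersion j)
      (w : Spec (CommRingCat.of B)) (n : ℕ) (γ : MvPolynomial (Fin n) R →+* B),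
      j w = z ∧ γ.Etale ∧ j ≫ β = Spec.map (CommRingCat.ofHom (γ.comp C)) := by
  obtain ⟨C₀, j₁, hj₁, w₁, hw₁⟩ := exists_affine_nbhd Z z
  obtain ⟨ψ, hψ : Spec.map ψ = j₁ ≫ β⟩ := Spec.homEquiv.symm.surjective (j₁ ≫ β)
  have hsm : Smooth (Spec.map ψ) := by rw [hψ]; infer_instance
  have hψs : ψ.hom.Smooth := (HasRingHomProperty.Spec_iff (P := @Smooth)).1 hsm
  obtain ⟨s, hs, hst⟩ := RingHom.smooth_iff_locally_isStandardSmooth.1 hψs
  obtain ⟨t, hts, htw⟩ : ∃ t ∈ s, t ∉ (w₁ : PrimeSpectrum C₀).asIdeal := by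
    by_contra hcon
    push Not at hcon
    have : Ideal.span s ≤ (w₁ : PrimeSpectrum C₀).asIdeal := Ideal.span_le.2 hcon
    rw [hs] at this
    exact (w₁ : PrimeSpectrum C₀).isPrime.ne_top (top_le_iff.1 this)
  obtain ⟨n, γ, hγ, hγe⟩ := (hst t hts).exists_etale_mvPolynomial
  have hrange := PrimeSpectrum.localization_away_comap_range (Localization.Away t) t
  obtain ⟨w₂, hw₂⟩ : (w₁ : PrimeSpectrum C₀) ∈
      Set.range (PrimeSpectrum.comap (algebraMap C₀ (Localization.Away t))) := by
    rw [hrange]; exact htw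
  refine ⟨Localization.Away t, inferInstance,
    Spec.map (CommRingCat.ofHom (algebraMap C₀ (Localization.Away t))) ≫ j₁, inferInstance,
    w₂, n, γ, ?_, hγe, ?_⟩
  · rw [Scheme.Hom.comp_apply]
    have : Spec.map (CommRingCat.ofHom (algebraMap C₀ (Localization.Away t))) w₂ = w₁ := hw₂
    rw [this, hw₁]
  · rw [Category.assoc, ← hψ, ← Spec.map_comp, hγ]
    rfl

variable {P : MorphismProperty (Sp S)}
variable {R A : Type u} [CommRing R] [CommRing A] [Algebra R A]
  (y : Spec (CommRingCat.of R) ⟶ S)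

/-- The local datum can be taken with `V` affine and étale over an affine space over `Spec R`, and
with `U` a scheme. -/
theorem exists_scheme_datum (hP : Hyp P) (x : Points ((yon S).obj (specOver y A)))
    (d : HasDatum P ((yon S).map (specOverHom y A)) x) :
    ∃ (n : ℕ) (V₂ U₀ : Over S) (ε : V₂ ⟶ specOver y (MvPolynomial (Fin n) R)) (W : Sp S)
      (p : W ⟶ (yon S).obj (specOver y A)) (q : W ⟶ (yon S).obj V₂)
      (e : (yon S).obj U₀ ⟶ W) (u₀ : U₀.left),
      IsAffine V₂.left ∧ Etale ε.left ∧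
      IsDatum P ((yon S).map (specOverHom y A)) x
        ((yon S).map (ε ≫ specOverHom y (MvPolynomial (Fin n) R))) p q e
        (Points.ofScheme U₀ u₀) := by
  obtain ⟨V, W, U, b, p, q, e, v, d⟩ := d
  have hXo := IsAlgSpace.yon_obj (S := S) (specOver y A)
  have hYo := IsAlgSpace.yon_obj (S := S) (Over.mk y)
  -- Step 1: `V` is a scheme
  obtain ⟨V₀, c, hce, hcs⟩ := d.1.atlas
  obtain ⟨v₀, hv₀⟩ := surjective_ofPt c hcs (Points.map (e ≫ q) v)
  obtain ⟨W₁, U₁, p₁, q₁, e₁, v₁, d₁⟩ := d.change_V hP hXo hYo (IsAlgSpace.yon_obj V₀) c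
    (locP_of_repWith etale_le_smooth c (repWith_mono etale_le_smooth hce)) (Points.ofScheme V₀ v₀)
    (by rw [← Points.ofPt_eq_map_ofScheme]; exact hv₀)
  obtain ⟨β, hβ⟩ := (yon S).map_surjective (c ≫ b)
  have hβs : Smooth β.left := locP_yon_map (by rw [hβ]; exact d₁.2.2.2.1)
  -- Step 2: étale coordinates
  let v₀' : V₀.left := Points.toScheme V₀ (Points.map (e₁ ≫ q₁) v₁)
  haveI := hβs
  obtain ⟨B, _, j, hj, w, n, γ, hjw, hγe, hjβ⟩ := exists_etale_coordinates (R := R) β.left v₀'
  let V₂ : Over S := Over.mk (j ≫ V₀.hom)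
  let c₂ : V₂ ⟶ V₀ := Over.homMk j rfl
  have hεw : Spec.map (CommRingCat.ofHom γ) ≫ (specOver y (MvPolynomial (Fin n) R)).hom =
      j ≫ V₀.hom := by
    change Spec.map (CommRingCat.ofHom γ) ≫ Spec.map (CommRingCat.ofHom (algebraMap R _)) ≫ y = _
    rw [← CategoryTheory.Over.w β, ← Category.assoc j, hjβ, ← Category.assoc, ← Spec.map_comp,
      ← CommRingCat.ofHom_comp]
    rfl
  let ε : V₂ ⟶ specOver y (MvPolynomial (Fin n) R) :=
    Over.homMk (Spec.map (CommRingCat.ofHom γ)) hεw
  have hεβ : ε ≫ specOverHom y (MvPolynomial (Fin n) R) = c₂ ≫ β := by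
    apply Over.OverMorphism.ext
    change Spec.map (CommRingCat.ofHom γ) ≫ Spec.map (CommRingCat.ofHom (algebraMap R _)) =
      j ≫ β.left
    rw [hjβ, ← Spec.map_comp, ← CommRingCat.ofHom_comp]
    rfl
  have hc₂ : LocP @Smooth ((yon S).map c₂) :=
    locP_smooth_yon_map c₂ (by change Smooth j; infer_instance)
  obtain ⟨W₂, U₂, p₂, q₂, e₂, v₂, d₂⟩ := d₁.change_V hP hXo hYo (IsAlgSpace.yon_obj V₂)
    ((yon S).map c₂) hc₂ (Points.ofScheme V₂ w) (by
      refine (Points.map_yon_map_apply c₂ w).trans ?_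
      change Points.ofScheme V₀ (j w) = _
      rw [hjw]
      exact Points.ofScheme_toScheme V₀ _)
  have hb₂ : (yon S).map c₂ ≫ c ≫ b =
      (yon S).map (ε ≫ specOverHom y (MvPolynomial (Fin n) R)) := by
    rw [hεβ, Functor.map_comp, hβ]
  rw [hb₂] at d₂
  -- Step 3: `U` is a scheme
  obtain ⟨U₀, a, hae, has⟩ := d₂.2.2.1.atlas
  obtain ⟨u₀, hu₀⟩ := surjective_ofPt a has v₂
  have d₃ := d₂.change_U hP (IsAlgSpace.yon_obj U₀) a (isEtaleMor_of_repWith_etale a hae)
    (Points.ofScheme U₀ u₀) (by rw [← Points.ofPt_eq_map_ofScheme]; exact hu₀)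
  exact ⟨n, V₂, U₀, ε, W₂, p₂, q₂, a ≫ e₂, u₀, (inferInstance : IsAffine (Spec _)),
    (HasRingHomProperty.Spec_iff (P := @Etale)).2 hγe, d₃⟩

/-- The local datum can be taken with `V` an affine space over `Spec R` and `U` a scheme étale
over the affine space over `Spec A`. -/
theorem exists_etale_to_affineSpace (hP : Hyp P) (x : Points ((yon S).obj (specOver y A)))
    (d : HasDatum P ((yon S).map (specOverHom y A)) x) :
    ∃ (n : ℕ) (U₀ : Over S) (k : U₀ ⟶ specOver y (MvPolynomial (Fin n) A)) (u₀ : U₀.left),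
      Etale k.left ∧
      Points.ofScheme _ ((k ≫ specOverMap y (C : A →+* MvPolynomial (Fin n) A)
        (C_comp_algebraMap (Fin n) A)).left u₀) = x ∧
      P ((yon S).map (k ≫ specOverMap y (MvPolynomial.map (algebraMap R A))
        (map_comp_algebraMap (Fin n)))) := by
  obtain ⟨n, V₂, U₀, ε, W, p, q, e, u₀, hV₂aff, hεe, hV, hW, hU, hb, sq, he, hv, hPe⟩ :=
    exists_scheme_datum y hP x d
  haveI := hV₂aff
  haveI : IsAffine (specOver y (MvPolynomial (Fin n) R)).left :=
    (inferInstance : IsAffine (Spec _))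
  have sqn := (isPullback_specOver_mvPolynomial y A (Fin n)).map (yon S)
  -- Step 4: postcomposition with the étale coordinates
  have h4 : P ((e ≫ q) ≫ (yon S).map ε) := hP.postcomp_affine ε hεe hU (e ≫ q) hPe
  -- Step 5: the map to the affine space over `Spec A`
  have hw1 : p ≫ (yon S).map (specOverHom y A) =
      (q ≫ (yon S).map ε) ≫ (yon S).map (specOverHom y (MvPolynomial (Fin n) R)) := by
    rw [sq.w, Category.assoc, ← Functor.map_comp]
  let ω := sqn.lift p (q ≫ (yon S).map ε) hw1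
  have hω1 : ω ≫ (yon S).map (specOverMap y (C : A →+* MvPolynomial (Fin n) A) rfl) = p :=
    sqn.lift_fst _ _ _
  have hω2 : ω ≫ (yon S).map (specOverMap y (MvPolynomial.map (algebraMap R A))
      (map_comp_algebraMap (Fin n))) = q ≫ (yon S).map ε := sqn.lift_snd _ _ _
  have sqω : IsPullback ω q ((yon S).map (specOverMap y (MvPolynomial.map (algebraMap R A))
      (map_comp_algebraMap (Fin n)))) ((yon S).map ε) := by
    refine IsPullback.of_right ?_ hω2 sqn
    rw [hω1, ← Functor.map_comp]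
    exact sq
  have hωe : IsEtaleMor ω := isEtaleMor_of_isPullback (IsAlgSpace.yon_obj V₂)
    (IsAlgSpace.yon_obj _) (IsAlgSpace.yon_obj _) ((yon S).map ε) _ ω q sqω
    ((isEtaleMor_yon_map_iff ε).2 hεe)
  have hκ : IsEtaleMor (e ≫ ω) := Strat.isEtaleMor_comp e ω he hωe
  obtain ⟨k, hk⟩ := (yon S).map_surjective (e ≫ ω)
  have hke : Etale k.left := (isEtaleMor_yon_map_iff k).1 (by rw [hk]; exact hκ)
  refine ⟨n, U₀, k, u₀, hke, ?_, ?_⟩
  · have h1 : (yon S).map (k ≫ specOverMap y (C : A →+* MvPolynomial (Fin n) A)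
        (C_comp_algebraMap (Fin n) A)) = e ≫ p := by
      rw [Functor.map_comp, hk, Category.assoc]
      exact congrArg (e ≫ ·) hω1
    have h2 := Points.map_yon_map_apply (k ≫ specOverMap y (C : A →+* MvPolynomial (Fin n) A)
        (C_comp_algebraMap (Fin n) A)) u₀
    rw [h1] at h2
    exact h2.symm.trans hv
  · rw [Functor.map_comp, hk, Category.assoc, hω2, ← Category.assoc]
    exact h4

open Strat in
/-- The affine core: around every point with a local datum there is an open neighbourhood whose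
morphism to `Spec R` has `P`. -/
theorem Hyp.exists_open_of_datum (hP : Hyp P) (x : (specOver y A).left)
    (d : HasDatum P ((yon S).map (specOverHom y A)) (Points.ofScheme _ x)) :
    ∃ X' : (specOver y A).left.Opens, x ∈ X' ∧
      P ((yon S).map (opι (specOver y A) X' ≫ specOverHom y A)) := by
  obtain ⟨n, U₀, k, u₀, hke, hx, hPk⟩ := exists_etale_to_affineSpace y hP _ d
  haveI := hke
  have hx' : (k ≫ specOverMap y (C : A →+* MvPolynomial (Fin n) A)
      (C_comp_algebraMap (Fin n) A)).left u₀ = x := (Points.schemeEquiv _).injective hx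
  let w : PrimeSpectrum (MvPolynomial (Fin n) A) := k.left u₀
  have hopen : IsOpen (Set.range k.left) := k.left.isOpenMap.isOpen_range
  obtain ⟨_, ⟨g, rfl⟩, hwg, hgsub⟩ :=
    PrimeSpectrum.isTopologicalBasis_basic_opens.exists_subset_of_mem_open
      (⟨u₀, rfl⟩ : w ∈ Set.range k.left) hopen
  let Og := polyOpen y g
  let Ug : U₀.left.Opens := k.left ⁻¹ᵁ Og
  let kg : opSub U₀ Ug ⟶ opSub (specOver y (MvPolynomial (Fin n) A)) Og :=
    Over.homMk (k.left ∣_ Og) (by
      change (k.left ∣_ Og) ≫ Og.ι ≫ (specOver y (MvPolynomial (Fin n) A)).hom = Ug.ι ≫ U₀.hom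
      rw [← Category.assoc, morphismRestrict_ι, Category.assoc, CategoryTheory.Over.w])
  have hkg_et : Etale kg.left := (inferInstance : Etale (k.left ∣_ Og))
  have hkg_surj : Function.Surjective kg.left := by
    intro z
    obtain ⟨u, hu⟩ := hgsub z.2
    have hmem : u ∈ Ug := by
      change k.left u ∈ Og
      rw [hu]; exact z.2
    refine ⟨⟨u, hmem⟩, ?_⟩
    apply Subtype.ext
    exact (morphismRestrict_base_coe k.left Og ⟨u, hmem⟩).trans hu
  have hcomm : kg ≫ opι (specOver y (MvPolynomial (Fin n) A)) Og = opι U₀ Ug ≫ k := by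
    apply Over.OverMorphism.ext
    exact morphismRestrict_ι _ _
  have hPg : P ((yon S).map (opι (specOver y (MvPolynomial (Fin n) A)) Og ≫
      specOverMap y (MvPolynomial.map (algebraMap R A)) (map_comp_algebraMap (Fin n)))) := by
    refine hP.of_cover_single (IsAlgSpace.yon_obj _) (IsAlgSpace.yon_obj _) (IsAlgSpace.yon_obj _)
      ((yon S).map kg) ((isEtaleMor_yon_map_iff kg).2 hkg_et)
      (isSurjectiveMor_yon_map kg hkg_surj) _ ?_
    rw [← Functor.map_comp, ← Category.assoc, hcomm, Category.assoc, Functor.map_comp]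
    exact hP.precomp (IsAlgSpace.yon_obj _) (IsAlgSpace.yon_obj _) (IsAlgSpace.yon_obj _) _ _
      ((isEtaleMor_yon_map_iff _).2 (inferInstance : Etale Ug.ι)) hPk
  refine ⟨coeffOpen y g, ?_, hP.of_poly y n g hPg⟩
  rw [← hx']
  obtain ⟨m, hm⟩ := exists_coeff_notMem g w.asIdeal hwg
  exact (mem_coeffOpen y g _).2 ⟨m, hm⟩

end Groth.Agent.Helper15.LST
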