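import Groth.Agent.Lib.Helper15.LST7

/-!
# The criterion for properties étale-smooth local on source-and-target
-/

set_option autoImplicit false
set_option linter.style.haveILetI false
universe u
open CategoryTheory CategoryTheory.Limits AlgebraicGeometry MorphismProperty Opposite
open AlgSp Groth.Agent.Helper16.AS

namespace Groth.Agent.Helper15.LST

variable {S : Scheme.{u}} {P : MorphismProperty (Sp S)}

open Strat in
/-- The affine case. -/
theorem Hyp.of_datum_affine (hP : Hyp P) {R A : Type u} [CommRing R] [CommRing A] [Algebra R A]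
    (y : Spec (CommRingCat.of R) ⟶ S)
    (hd : ∀ x, HasDatum P ((yon S).map (specOverHom y A)) x) :
    P ((yon S).map (specOverHom y A)) := by
  choose X' hx hX' using fun x : (specOver y A).left =>
    hP.exists_open_of_datum y x (hd (Points.ofScheme _ x))
  have hcov : IsEtCover (fun x => (yon S).obj (opSub (specOver y A) (X' x)))
      (fun x => (yon S).map (opι (specOver y A) (X' x))) := by
    refine isEtCover_yon _ _ (fun x => (inferInstance : Etale (X' x).ι)) (fun t => ?_)
    exact ⟨t, ⟨t, hx t⟩, rfl⟩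
  rw [hP.h1 _ _ (IsAlgSpace.yon_obj _) (fun _ => IsAlgSpace.yon_obj _) hcov _
    (IsAlgSpace.yon_obj _)]
  intro x
  rw [← Functor.map_comp]
  exact hX' x

/-- Affine étale charts of an algebraic space. -/
theorem exists_affine_etCover {X : Sp S} (hX : IsAlgSpace X) :
    ∃ (ι : Type u) (R : ι → CommRingCat.{u}) (y : ∀ i, Spec (R i) ⟶ S)
      (a : ∀ i, (yon S).obj (Over.mk (y i)) ⟶ X),
      (∀ i, RepWith @Etale (a i)) ∧ ∀ x : Points X, ∃ i u, Points.ofPt (a i) u = x := by
  obtain ⟨X₀, c, hce, hcs⟩ := hX.atlas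
  let 𝒰 := X₀.left.affineOpenCover
  refine ⟨𝒰.I₀, 𝒰.X, fun i => 𝒰.f i ≫ X₀.hom,
    fun i => (yon S).map (Over.homMk (𝒰.f i) rfl : Over.mk (𝒰.f i ≫ X₀.hom) ⟶ X₀) ≫ c,
    fun i => ?_, fun x => ?_⟩
  · haveI : IsOpenImmersion (𝒰.f i) := 𝒰.map_prop i
    exact (RepWith @Etale).comp_mem _ _
      ((repWith_yon_map_iff _ _).2 (inferInstance : Etale (𝒰.f i))) hce
  · obtain ⟨x₀, rfl⟩ := surjective_ofPt c hcs x
    obtain ⟨w, hw⟩ := 𝒰.covers x₀
    refine ⟨𝒰.idx x₀, w, ?_⟩
    rw [ofPt_comp_yon_map]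
    exact congrArg (Points.ofPt c) hw

/-- The case of an affine source and target. -/
theorem Hyp.of_datum_affine_source (hP : Hyp P) {R : Type u} [CommRing R]
    (y : Spec (CommRingCat.of R) ⟶ S) (Xo : Over S) [IsAffine Xo.left] (φo : Xo ⟶ Over.mk y)
    (hd : ∀ x, HasDatum P ((yon S).map φo) x) : P ((yon S).map φo) := by
  obtain ⟨φ, hφ : Spec.map φ = Xo.left.isoSpec.inv ≫ φo.left⟩ :=
    Spec.homEquiv.symm.surjective (Xo.left.isoSpec.inv ≫ φo.left)
  letI : Algebra R Γ(Xo.left, ⊤) := φ.hom.toAlgebra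
  have hθw : Xo.left.isoSpec.symm.hom ≫ Xo.hom = (specOver y Γ(Xo.left, ⊤)).hom := by
    change Xo.left.isoSpec.inv ≫ Xo.hom = Spec.map φ ≫ y
    rw [hφ, Category.assoc]
    exact congrArg (Xo.left.isoSpec.inv ≫ ·) (CategoryTheory.Over.w φo).symm
  let θ : specOver y Γ(Xo.left, ⊤) ≅ Xo := Over.isoMk Xo.left.isoSpec.symm hθw
  have hθ : θ.hom ≫ φo = specOverHom y Γ(Xo.left, ⊤) := by
    apply Over.OverMorphism.ext
    exact hφ.symm
  have hd' : ∀ x, HasDatum P ((yon S).map (specOverHom y Γ(Xo.left, ⊤))) x := by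
    intro x
    rw [← hθ, Functor.map_comp]
    exact HasDatum.precomp hP (IsAlgSpace.yon_obj _) (IsAlgSpace.yon_obj _) (IsAlgSpace.yon_obj _)
      ((yon S).map θ.hom) (isEtaleMor_of_isIso _) x (hd _)
  have key := hP.of_datum_affine y hd'
  have hφo : (yon S).map φo = (yon S).map θ.inv ≫ (yon S).map (specOverHom y Γ(Xo.left, ⊤)) := by
    rw [← Functor.map_comp, ← hθ, Iso.inv_hom_id_assoc]
  rw [hφo]
  exact hP.iso_precomp (IsAlgSpace.yon_obj _) (IsAlgSpace.yon_obj _) (IsAlgSpace.yon_obj _)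
    ((yon S).map θ.inv) _ key

/-- The case of an affine target. -/
theorem Hyp.of_datum_affine_target (hP : Hyp P) {R : Type u} [CommRing R]
    (y : Spec (CommRingCat.of R) ⟶ S) {X : Sp S} (hX : IsAlgSpace X)
    (f : X ⟶ (yon S).obj (Over.mk y)) (hd : ∀ x, HasDatum P f x) : P f := by
  obtain ⟨ι, A, z, a, hae, hcov⟩ := exists_affine_etCover hX
  have hcov' : IsEtCover (fun i => (yon S).obj (Over.mk (z i))) a :=
    ⟨fun i => isEtaleMor_of_repWith_etale _ (hae i), fun x => by
      obtain ⟨i, u, hu⟩ := hcov x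
      exact ⟨i, Points.ofScheme _ u, by rw [← Points.ofPt_eq_map_ofScheme]; exact hu⟩⟩
  rw [hP.h1 _ _ hX (fun _ => IsAlgSpace.yon_obj _) hcov' f (IsAlgSpace.yon_obj _)]
  intro i
  obtain ⟨φo, hφo⟩ := (yon S).map_surjective (a i ≫ f)
  rw [← hφo]
  haveI : IsAffine (Over.mk (z i)).left := (inferInstance : IsAffine (Spec _))
  refine hP.of_datum_affine_source y (Over.mk (z i)) φo (fun x => ?_)
  rw [hφo]
  exact HasDatum.precomp hP hX (IsAlgSpace.yon_obj _) (IsAlgSpace.yon_obj _) (a i)
    (isEtaleMor_of_repWith_etale _ (hae i)) x (hd _)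

/-- The locality condition: a morphism with a local datum at every point has `P`. -/
theorem Hyp.of_datum (hP : Hyp P) {X Y : Sp S} (hX : IsAlgSpace X) (hY : IsAlgSpace Y)
    (f : X ⟶ Y) (hd : ∀ x, HasDatum P f x) : P f := by
  obtain ⟨ι, R, y, c, hce, hcov⟩ := exists_affine_etCover hY
  have hcs : ∀ i, LocP @Smooth (c i) := fun i =>
    locP_smooth_of_isEtaleMor hY _ (isEtaleMor_of_repWith_etale _ (hce i))
  have hcov' : IsSmCover (fun i => (yon S).obj (Over.mk (y i))) c :=
    ⟨hcs, fun x => by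
      obtain ⟨i, u, hu⟩ := hcov x
      exact ⟨i, Points.ofScheme _ u, by rw [← Points.ofPt_eq_map_ofScheme]; exact hu⟩⟩
  have hXi : ∀ i, IsAlgSpace (pullback f (c i)) := fun i =>
    isAlgSpace_of_isPullback hY.diag hX (IsAlgSpace.yon_obj _) (IsPullback.of_hasPullback f (c i))
  rw [hP.h2 _ _ hY (fun _ => IsAlgSpace.yon_obj _) hcov' f hX (fun i => pullback f (c i))
    (fun i => pullback.snd f (c i)) (fun i => pullback.fst f (c i)) hXi
    (fun i => IsPullback.of_hasPullback f (c i))]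
  intro i
  refine hP.of_datum_affine_target (R := R i) (y i) (hXi i) _ (fun x => ?_)
  exact HasDatum.baseChange hP hX hY (hXi i) (IsAlgSpace.yon_obj _)
    (IsPullback.of_hasPullback f (c i)) (hcs i) x (hd _)

/-- **The criterion**: a property étale local on the source, smooth local on the base and stable
under postcomposition with open immersions is étale-smooth local on source-and-target. -/
theorem Hyp.isEtaleSmoothLocalST (hP : Hyp P) : IsEtaleSmoothLocalST P where
  precomp := fun _ _ _ hX hY hZ f g hf hg => hP.precomp hX hY hZ f g hf hg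
  baseChange := fun _ _ _ _ hX hY hX' hY' f g f' g' sq hg hf =>
    hP.baseChange hX hY hX' hY' f g f' g' sq hg hf
  locality := by
    intro X Y hX hY f
    constructor
    · intro hf x
      exact ⟨Y, X, X, 𝟙 Y, 𝟙 X, f, 𝟙 X, x, hY, hX, hX, locP_smooth_id hY, isPullback_id_self f,
        isEtaleMor_id X, by rw [Category.id_comp, Points.map_id], by rw [Category.id_comp]; exact hf⟩
    · intro h
      exact hP.of_datum hX hY f h

end Groth.Agent.Helper15.LST
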