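import Mathlib.AlgebraicGeometry.Sites.Fpqc
import Mathlib.AlgebraicGeometry.Morphisms.UniversallyOpen
import Mathlib.AlgebraicGeometry.Morphisms.FinitePresentation
import Mathlib.CategoryTheory.MorphismProperty.Local

set_option autoImplicit false
universe u
open CategoryTheory CategoryTheory.Limits AlgebraicGeometry

namespace Groth.Agent.Helper15.LargestOpen

variable (P : MorphismProperty Scheme.{u}) [MorphismProperty.IsLocalAtTarget P Scheme.fppfPrecoverage]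
  {X Y : Scheme.{u}} (f : X ⟶ Y)

omit [MorphismProperty.IsLocalAtTarget P Scheme.fppfPrecoverage] in
theorem iff_of_isPullback [P.RespectsIso] {A T : Scheme.{u}} {a : A ⟶ X} {b : A ⟶ T} {j : T ⟶ Y}
    (sq : IsPullback a b f j) : P b ↔ P (pullback.snd f j) := by
  rw [← sq.isoPullback_hom_snd]
  exact P.cancel_left_of_respectsIso _ _

theorem paste_iff {T T' : Scheme.{u}} (j : T ⟶ Y) (k : T' ⟶ T) :
    P (pullback.snd (pullback.snd f j) k) ↔ P (pullback.snd f (k ≫ j)) :=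
  iff_of_isPullback P f ((IsPullback.of_hasPullback (pullback.snd f j) k).paste_horiz
    (IsPullback.of_hasPullback f j))

theorem mem_fppf_of_surj {T : Scheme.{u}} {ι : Type u} {Ti : ι → Scheme.{u}} (k : ∀ i, Ti i ⟶ T)
    (hk : ∀ i, Flat (k i) ∧ LocallyOfFinitePresentation (k i))
    (hs : ∀ t : T, ∃ i, t ∈ Set.range (k i)) :
    Presieve.ofArrows Ti k ∈ Scheme.fppfPrecoverage T := by
  refine ⟨?_, ?_⟩
  · rw [Presieve.mem_comap_jointlySurjectivePrecoverage_iff]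
    intro t
    obtain ⟨i, y, hy⟩ := hs t
    exact ⟨Ti i, k i, ⟨i⟩, y, hy⟩
  · rintro _ _ ⟨i⟩
    exact ⟨(hk i).1, (hk i).2⟩

/-- two-member family `{k, 𝟙}` -/
def famObj (T T' : Scheme.{u}) : ULift.{u} Bool → Scheme.{u}
  | ⟨true⟩ => T'
  | ⟨false⟩ => T

/-- two-member family `{k, 𝟙}` -/
def famHom {T T' : Scheme.{u}} (k : T' ⟶ T) : ∀ b, famObj T T' b ⟶ T
  | ⟨true⟩ => k
  | ⟨false⟩ => 𝟙 T

theorem baseChange {T T' : Scheme.{u}} (j : T ⟶ Y) (k : T' ⟶ T) [Flat k]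
    [LocallyOfFinitePresentation k] (h : P (pullback.snd f j)) : P (pullback.snd f (k ≫ j)) := by
  apply (paste_iff P f j k).1
  have hR : Presieve.ofArrows (famObj T T') (famHom k) ∈ Scheme.fppfPrecoverage T := by
    apply mem_fppf_of_surj
    · rintro ⟨_ | _⟩
      · exact ⟨(inferInstance : Flat (𝟙 T)), (inferInstance : LocallyOfFinitePresentation (𝟙 T))⟩
      · exact ⟨(inferInstance : Flat k), (inferInstance : LocallyOfFinitePresentation k)⟩
    · intro t
      exact ⟨⟨false⟩, t, rfl⟩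
  exact MorphismProperty.IsLocalAtTarget.pullbackSnd (P := P) hR
    (Presieve.ofArrows.mk (⟨true⟩ : ULift.{u} Bool)) h

theorem descent {T : Scheme.{u}} (j : T ⟶ Y) {ι : Type u} {Ti : ι → Scheme.{u}}
    (k : ∀ i, Ti i ⟶ T) (hk : ∀ i, Flat (k i) ∧ LocallyOfFinitePresentation (k i))
    (hs : ∀ t : T, ∃ i, t ∈ Set.range (k i))
    (h : ∀ i, P (pullback.snd f (k i ≫ j))) : P (pullback.snd f j) := by
  refine MorphismProperty.IsLocalAtTarget.of_forall_pullbackSnd (P := P)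
    (mem_fppf_of_surj k hk hs) ?_
  rintro _ _ _ ⟨i⟩
  exact (paste_iff P f j (k i)).2 (h i)


theorem restrict_iff (U : Y.Opens) : P (f ∣_ U) ↔ P (pullback.snd f U.ι) :=
  iff_of_isPullback P f (isPullback_morphismRestrict f U).flip

theorem largest_open :
    ∃ W : Y.Opens, P (f ∣_ W) ∧ (∀ W₀ : Y.Opens, P (f ∣_ W₀) → W₀ ≤ W) ∧
      (∀ (Y' : Scheme.{u}) (g : Y' ⟶ Y), Flat g → LocallyOfFinitePresentation g →
        P (pullback.snd f g) → Set.range g.base ⊆ (W : Set Y)) ∧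
      (∀ (Y' : Scheme.{u}) (g : Y' ⟶ Y), Flat g → LocallyOfFinitePresentation g →
        ∀ W' : Y'.Opens, P (pullback.snd f g ∣_ W') →
          (∀ W₀ : Y'.Opens, P (pullback.snd f g ∣_ W₀) → W₀ ≤ W') → W' = g ⁻¹ᵁ W) := by
  set W : Y.Opens := sSup {W₀ | P (f ∣_ W₀)} with hW
  have hmax : ∀ W₀ : Y.Opens, P (f ∣_ W₀) → W₀ ≤ W := fun W₀ h => le_sSup h
  have h1 : P (f ∣_ W) := by
    rw [restrict_iff P]
    refine descent P f W.ι (ι := {W₀ : Y.Opens // P (f ∣_ W₀)})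
      (Ti := fun W₀ => (W₀.1 : Scheme.{u})) (fun W₀ => Y.homOfLE (hmax W₀.1 W₀.2))
      (fun W₀ => ⟨inferInstance, inferInstance⟩) ?_ ?_
    · rintro ⟨t, ht⟩
      rw [hW, TopologicalSpace.Opens.mem_sSup] at ht
      obtain ⟨W₀, hW₀, htW₀⟩ := ht
      refine ⟨⟨W₀, hW₀⟩, ⟨t, htW₀⟩, ?_⟩
      apply Subtype.ext
      exact congrArg (fun φ : (W₀ : Scheme.{u}) ⟶ Y => φ ⟨t, htW₀⟩)
        (Y.homOfLE_ι (hmax W₀ hW₀))
    · intro W₀
      rw [Scheme.homOfLE_ι, ← restrict_iff P]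
      exact W₀.2
  have h3 : ∀ (Y' : Scheme.{u}) (g : Y' ⟶ Y), Flat g → LocallyOfFinitePresentation g →
      P (pullback.snd f g) → Set.range g.base ⊆ (W : Set Y) := by
    intro Y' g _ _ hg
    let O : Y.Opens := ⟨Set.range g, g.isOpenMap.isOpen_range⟩
    have hO : P (f ∣_ O) := by
      rw [restrict_iff P]
      refine descent P f O.ι (ι := PUnit.{u + 1}) (Ti := fun _ => ((g ⁻¹ᵁ O : Y'.Opens) : Scheme.{u}))
        (fun _ => g ∣_ O) (fun _ => ⟨inferInstance, inferInstance⟩) ?_ ?_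
      · rintro ⟨t, y', rfl⟩
        refine ⟨PUnit.unit, ⟨y', ⟨y', rfl⟩⟩, ?_⟩
        apply Subtype.ext
        exact morphismRestrict_base_coe g O _
      · intro _
        rw [morphismRestrict_ι]
        exact baseChange P f g _ hg
    exact hmax O hO
  refine ⟨W, h1, hmax, h3, ?_⟩
  intro Y' g _ _ W' hW' hW'max
  apply le_antisymm
  · intro y' hy'
    have hP : P (pullback.snd f (W'.ι ≫ g)) := by
      rw [← paste_iff P, ← restrict_iff P]
      exact hW'
    have := h3 _ (W'.ι ≫ g) inferInstance inferInstance hP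
    exact this ⟨⟨y', hy'⟩, rfl⟩
  · apply hW'max
    rw [restrict_iff P, paste_iff P, ← morphismRestrict_ι]
    exact baseChange P f W.ι (g ∣_ W) ((restrict_iff P f W).1 h1)

end Groth.Agent.Helper15.LargestOpen
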