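import Groth.Agent.Lib.Helper15.Wt17

/-!
# Field-valued points and closed immersions; fibre integrals along closed immersions
-/

set_option autoImplicit false
universe u
open CategoryTheory CategoryTheory.Limits AlgebraicGeometry

namespace Groth.Agent.Helper15.Lcw

open Groth.Agent.Helper15.Wt

variable {X X₁ : Scheme.{u}}

theorem residueFieldMap_surjective (i : X ⟶ X₁) [SurjectiveOnStalks i] (x : X) :
    Function.Surjective (i.residueFieldMap x).hom := by
  intro y
  obtain ⟨s, rfl⟩ := Ideal.Quotient.mk_surjective y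
  obtain ⟨t, rfl⟩ := i.stalkMap_surjective x s
  exact ⟨IsLocalRing.residue _ t, IsLocalRing.ResidueField.map_residue _ t⟩

theorem isIso_residueFieldMap (i : X ⟶ X₁) [SurjectiveOnStalks i] (x : X) :
    IsIso (i.residueFieldMap x) := by
  rw [ConcreteCategory.isIso_iff_bijective]
  exact ⟨(i.residueFieldMap x).hom.injective, residueFieldMap_surjective i x⟩

/-- A field-valued point landing in the image of a morphism which is surjective on stalks
lifts. -/
theorem exists_lift_of_mem_range (i : X ⟶ X₁) [SurjectiveOnStalks i] {Ω : Type u} [Field Ω]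
    (xb₁ : Spec (CommRingCat.of Ω) ⟶ X₁) (x : X) (hx : i x = xb₁ (pt Ω)) :
    ∃ xb : Spec (CommRingCat.of Ω) ⟶ X, xb ≫ i = xb₁ ∧ xb (pt Ω) = x := by
  haveI := isIso_residueFieldMap i x
  let φ : X.residueField x ⟶ CommRingCat.of Ω :=
    inv (i.residueFieldMap x) ≫ (X₁.residueFieldCongr hx).hom ≫ fieldHom xb₁
  refine ⟨Spec.map φ ≫ X.fromSpecResidueField x, ?_, ?_⟩
  · rw [Category.assoc, ← Scheme.Hom.SpecMap_residueFieldMap_fromSpecResidueField,
      ← Spec.map_comp_assoc]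
    have : i.residueFieldMap x ≫ φ = (X₁.residueFieldCongr hx).hom ≫ fieldHom xb₁ := by
      simp [φ]
    rw [this, Spec.map_comp, Category.assoc, Scheme.residueFieldCongr_fromSpecResidueField,
      fieldHom_fromSpec]
  · rw [Scheme.Hom.comp_apply, Scheme.fromSpecResidueField_apply]

/-- Fibre integrals of a function vanishing off a closed subscheme. -/
theorem fibreIntegral_of_closedImmersion {U U₁ V : Scheme.{u}} (π₁ : U₁ ⟶ V)
    [LocallyQuasiFinite π₁] (j : U ⟶ U₁) [IsClosedImmersion j] (G₁ : U₁ → ℤ)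
    (h0 : ∀ u₁, u₁ ∉ Set.range j → G₁ u₁ = 0) (v : V) (hfin : (π₁ ⁻¹' {v}).Finite) :
    MoreMor.fibreIntegral π₁ G₁ v = MoreMor.fibreIntegral (j ≫ π₁) (G₁ ∘ j) v := by
  obtain ⟨Ω, _, _, vb, rfl⟩ := exists_geomPt v
  have hfin' : ((j ≫ π₁) ⁻¹' {vb (pt Ω)}).Finite := by
    have : (j ≫ π₁) ⁻¹' {vb (pt Ω)} = j ⁻¹' (π₁ ⁻¹' {vb (pt Ω)}) := by
      ext u
      simp only [Set.mem_preimage, Set.mem_singleton_iff, Scheme.Hom.comp_apply]
    rw [this]
    exact hfin.preimage (j.isEmbedding.injective.injOn)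
  rw [fibreIntegral_eq_gInt π₁ G₁ vb hfin, fibreIntegral_eq_gInt (j ≫ π₁) _ vb hfin']
  unfold gInt
  let ι : Lifts (j ≫ π₁) vb → Lifts π₁ vb :=
    fun l => ⟨l.1 ≫ j, by rw [Category.assoc]; exact l.2⟩
  have hinj : Function.Injective ι := by
    intro l l' h
    have h' : l.1 ≫ j = l'.1 ≫ j := congrArg Subtype.val h
    exact Subtype.ext ((cancel_mono j).1 h')
  have hsupp : ∀ l₁ ∈ Function.support (fun l₁ : Lifts π₁ vb => G₁ (l₁.1 (pt Ω))),
      l₁ ∈ (Set.univ : Set (Lifts π₁ vb)) ↔ l₁ ∈ Set.range ι := by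
    intro l₁ hl₁
    refine ⟨fun _ => ?_, fun _ => Set.mem_univ _⟩
    have hne : G₁ (l₁.1 (pt Ω)) ≠ 0 := hl₁
    have hmem : l₁.1 (pt Ω) ∈ Set.range j := by
      by_contra hcon
      exact hne (h0 _ hcon)
    obtain ⟨u, hu⟩ := hmem
    obtain ⟨l, hl, -⟩ := exists_lift_of_mem_range j l₁.1 u hu
    refine ⟨⟨l, ?_⟩, Subtype.ext hl⟩
    rw [← Category.assoc, hl]
    exact l₁.2
  rw [← finsum_mem_univ, finsum_mem_inter_support_eq' _ _ _ hsupp, finsum_mem_range hinj]
  rfl

end Groth.Agent.Helper15.Lcw
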