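import Groth.Agent.Lib.Helper15.Lcw9

/-!
# Charts with bounded weighting and bounded number of geometric points
-/

set_option autoImplicit false
universe u
open CategoryTheory CategoryTheory.Limits AlgebraicGeometry

namespace Groth.Agent.Helper15.Lcw

open Groth.Agent.Helper15.Wt Groth.Agent.Helper15.Ufo

theorem exists_chart' {X Y : Scheme.{u}} (f : X ⟶ Y) [LocallyQuasiFinite f]
    [LocallyOfFiniteType f] (w : X → ℤ) (hw : MoreMor.IsWeighting f w) (x : X) :
    ∃ (S' : CommRingCat.{u}) (o : Spec S' ⟶ X), IsOpenImmersion o ∧ x ∈ Set.range o ∧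
      (Set.range (fun z : Spec S' => w (o z))).Finite ∧
      ∃ N : ℕ, ∀ (Ω : Type u) [Field Ω] (vb : Spec (CommRingCat.of Ω) ⟶ Y),
        {l : Lifts f vb | l.1 (pt Ω) ∈ Set.range o}.Finite ∧
          {l : Lifts f vb | l.1 (pt Ω) ∈ Set.range o}.ncard ≤ N := by
  obtain ⟨_, ⟨(V : Y.Opens), hV, rfl⟩, hxV, -⟩ := Y.isBasis_affineOpens.exists_subset_of_mem_open
    (Set.mem_univ (f x)) isOpen_univ
  obtain ⟨_, ⟨(U : X.Opens), hU, rfl⟩, hxU, hUV⟩ := X.isBasis_affineOpens.exists_subset_of_mem_open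
    (show x ∈ (f ⁻¹ᵁ V : Set X) from hxV) (f ⁻¹ᵁ V).isOpen
  have e : U ≤ f ⁻¹ᵁ V := hUV
  let φ := f.appLE V U e
  letI : Algebra Γ(Y, V) Γ(X, U) := φ.hom.toAlgebra
  haveI : Algebra.FiniteType Γ(Y, V) Γ(X, U) :=
    HasRingHomProperty.appLE (P := @LocallyOfFiniteType) f inferInstance ⟨V, hV⟩ ⟨U, hU⟩ e
  haveI : Algebra.QuasiFinite Γ(Y, V) Γ(X, U) :=
    HasRingHomProperty.appLE (P := @LocallyQuasiFinite) f inferInstance ⟨V, hV⟩ ⟨U, hU⟩ e
  have hcomm : Spec.map φ ≫ hV.fromSpec = hU.fromSpec ≫ f :=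
    IsAffineOpen.SpecMap_appLE_fromSpec f hV hU e
  let w' : Spec Γ(X, U) → ℤ := fun z => w (hU.fromSpec z)
  have hw' : MoreMor.IsWeighting (Model.str Γ(Y, V) Γ(X, U)) w' := by
    have h1 : MoreMor.IsWeighting (hU.fromSpec ≫ f) w' := IsWeighting.comp_openImmersion hw _
    rw [← hcomm] at h1
    exact IsWeighting.of_comp_mono hV.fromSpec h1
  obtain ⟨p, hp⟩ : ∃ p : Spec Γ(X, U), hU.fromSpec p = x := by
    have : x ∈ Set.range hU.fromSpec := by
      rw [hU.range_fromSpec]; exact hxU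
    exact this
  obtain ⟨r, hrp, hcon, hfin⟩ := spec_local Γ(Y, V) Γ(X, U) w' hw' p
  obtain ⟨N, hN⟩ := card_lifts_le Γ(Y, V) Γ(X, U)
  refine ⟨CommRingCat.of (Localization.Away r),
    Spec.map (CommRingCat.ofHom (algebraMap Γ(X, U) (Localization.Away r))) ≫ hU.fromSpec,
    inferInstance, ?_, hfin, N, ?_⟩
  · have hpr : p ∈ Set.range (Spec.map (CommRingCat.ofHom
        (algebraMap Γ(X, U) (Localization.Away r)))) := by
      have := PrimeSpectrum.localization_away_comap_range (Localization.Away r) r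
      change p ∈ Set.range (PrimeSpectrum.comap (algebraMap Γ(X, U) (Localization.Away r)))
      rw [this]
      exact hrp
    obtain ⟨z, hz⟩ := hpr
    exact ⟨z, by rw [Scheme.Hom.comp_apply, hz, hp]⟩
  · intro Ω _ vb
    -- the larger set of lifts through `U`
    let AU : Set (Lifts f vb) := {l | l.1 (pt Ω) ∈ U}
    have hsub : {l : Lifts f vb | l.1 (pt Ω) ∈ Set.range (Spec.map (CommRingCat.ofHom
        (algebraMap Γ(X, U) (Localization.Away r))) ≫ hU.fromSpec)} ⊆ AU := by
      rintro l ⟨z, hz⟩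
      change l.1 (pt Ω) ∈ U
      rw [← hz, Scheme.Hom.comp_apply]
      have : hU.fromSpec ((Spec.map (CommRingCat.ofHom
          (algebraMap Γ(X, U) (Localization.Away r)))) z) ∈ Set.range hU.fromSpec := ⟨_, rfl⟩
      rw [hU.range_fromSpec] at this
      exact this
    suffices h : AU.Finite ∧ AU.ncard ≤ N from
      ⟨h.1.subset hsub, (Set.ncard_le_ncard hsub h.1).trans h.2⟩
    by_cases hV' : vb (pt Ω) ∈ V
    · have hrV : Set.range vb ⊆ Set.range hV.fromSpec := by
        rintro _ ⟨z, rfl⟩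
        rw [hV.range_fromSpec, eq_pt z]
        exact hV'
      let vb' : Spec (CommRingCat.of Ω) ⟶ Spec Γ(Y, V) := IsOpenImmersion.lift hV.fromSpec vb hrV
      have hvb' : vb' ≫ hV.fromSpec = vb := IsOpenImmersion.lift_fac _ _ _
      have hrU : ∀ l : AU, Set.range l.1.1 ⊆ Set.range hU.fromSpec := by
        rintro l _ ⟨z, rfl⟩
        rw [hU.range_fromSpec, eq_pt z]
        exact l.2
      let Ψ : AU → Lifts (Model.str Γ(Y, V) Γ(X, U)) vb' := fun l =>
        ⟨IsOpenImmersion.lift hU.fromSpec l.1.1 (hrU l), by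
          rw [← cancel_mono hV.fromSpec, Category.assoc]
          change _ ≫ Spec.map φ ≫ _ = _
          rw [hcomm, ← Category.assoc, IsOpenImmersion.lift_fac, hvb']
          exact l.1.2⟩
      have hΨ : Function.Injective Ψ := by
        intro l l' hll
        have h1 : IsOpenImmersion.lift hU.fromSpec l.1.1 (hrU l) =
            IsOpenImmersion.lift hU.fromSpec l'.1.1 (hrU l') := congrArg Subtype.val hll
        have h2 : l.1.1 = l'.1.1 := by
          rw [← IsOpenImmersion.lift_fac hU.fromSpec l.1.1 (hrU l), h1,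
            IsOpenImmersion.lift_fac]
        exact Subtype.ext (Subtype.ext h2)
      obtain ⟨hfinL, hcard⟩ := hN Ω vb'
      haveI := hfinL
      haveI : Finite AU := Finite.of_injective Ψ hΨ
      refine ⟨Set.toFinite AU, ?_⟩
      rw [← Nat.card_coe_set_eq]
      exact (Nat.card_le_card_of_injective Ψ hΨ).trans hcard
    · have hAU : AU = ∅ := by
        ext l
        simp only [Set.mem_empty_iff_false, iff_false]
        intro hl
        apply hV'
        have h1 : vb (pt Ω) = f (l.1 (pt Ω)) := by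
          rw [← Scheme.Hom.comp_apply, l.2]
        rw [h1]
        exact e hl
      rw [hAU]
      exact ⟨Set.finite_empty, by simp⟩

end Groth.Agent.Helper15.Lcw
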