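import Groth.Agent.Lib.Helper15.Lcw10

/-!
# The fibre integral of a weighting on a quasi-compact scheme attains its maximum
-/

set_option autoImplicit false
universe u
open CategoryTheory CategoryTheory.Limits AlgebraicGeometry

namespace Groth.Agent.Helper15.Lcw

open Groth.Agent.Helper15.Wt Groth.Agent.Helper15.Ufo

theorem exists_bound_fibreIntegral {X Y : Scheme.{u}} (f : X ⟶ Y) [LocallyQuasiFinite f]
    [LocallyOfFiniteType f] [CompactSpace X] (w : X → ℤ) (hw : MoreMor.IsWeighting f w) :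
    ∃ B : ℤ, ∀ y : Y, MoreMor.fibreIntegral f w y ≤ B := by
  classical
  choose S' o ho hx hfin N hN using exists_chart' f w hw
  haveI := ho
  obtain ⟨F, hF⟩ := isCompact_univ.elim_finite_subcover (fun x => ((o x).opensRange : Set X))
    (fun x => (o x).opensRange.isOpen) (fun x _ => Set.mem_iUnion.2 ⟨x, hx x⟩)
  have hbd : ∀ x : X, ∃ Mx : ℤ, ∀ z : Spec (S' x), w (o x z) ≤ Mx := by
    intro x
    obtain ⟨Mx, hMx⟩ := (hfin x).bddAbove
    exact ⟨Mx, fun z => hMx ⟨z, rfl⟩⟩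
  choose Mx hMx using hbd
  let M : ℤ := ∑ x ∈ F, |Mx x|
  have hM0 : 0 ≤ M := Finset.sum_nonneg (fun x _ => abs_nonneg _)
  have hwM : ∀ x' : X, w x' ≤ M := by
    intro x'
    obtain ⟨x, hxF, hx'⟩ : ∃ x ∈ F, x' ∈ ((o x).opensRange : Set X) := by
      have := hF (Set.mem_univ x')
      simpa only [Set.mem_iUnion, exists_prop] using this
    obtain ⟨z, rfl⟩ := hx'
    calc w (o x z) ≤ Mx x := hMx x z
      _ ≤ |Mx x| := le_abs_self _
      _ ≤ M := Finset.single_le_sum (f := fun x => |Mx x|) (fun x _ => abs_nonneg _) hxF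
  let Ntot : ℕ := ∑ x ∈ F, N x
  refine ⟨M * Ntot, fun y => ?_⟩
  obtain ⟨Ω, _, _, vb, rfl⟩ := exists_geomPt y
  let A : X → Set (Lifts f vb) := fun x => {l | l.1 (pt Ω) ∈ Set.range (o x)}
  have hcov : (Set.univ : Set (Lifts f vb)) = ⋃ x ∈ F, A x := by
    ext l
    simp only [Set.mem_univ, Set.mem_iUnion, exists_prop, true_iff]
    have := hF (Set.mem_univ (l.1 (pt Ω)))
    simp only [Set.mem_iUnion, exists_prop] at this
    obtain ⟨x, hxF, hxl⟩ := this
    exact ⟨x, hxF, hxl⟩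
  have hAfin : ∀ x, (A x).Finite := fun x => (hN x Ω vb).1
  have hfinU : (Set.univ : Set (Lifts f vb)).Finite := by
    rw [hcov]
    exact F.finite_toSet.biUnion (fun x _ => hAfin x)
  haveI : Finite (Lifts f vb) := Set.finite_univ_iff.1 hfinU
  have hcard : Nat.card (Lifts f vb) ≤ Ntot := by
    rw [← Set.ncard_univ, hcov]
    refine (F.set_ncard_biUnion_le A).trans (Finset.sum_le_sum (fun x _ => (hN x Ω vb).2))
  have hfib := finite_fibre_of_finite_lifts f vb
  rw [fibreIntegral_eq_gInt f w vb hfib]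
  unfold gInt
  letI := Fintype.ofFinite (Lifts f vb)
  rw [finsum_eq_sum_of_fintype]
  calc ∑ l : Lifts f vb, w (l.1 (pt Ω)) ≤ ∑ _l : Lifts f vb, M :=
        Finset.sum_le_sum (fun l _ => hwM _)
    _ = M * (Nat.card (Lifts f vb) : ℤ) := by
        rw [Finset.sum_const, Finset.card_univ, Nat.card_eq_fintype_card, nsmul_eq_mul, mul_comm]
    _ ≤ M * (Ntot : ℤ) := by
        exact mul_le_mul_of_nonneg_left (by exact_mod_cast hcard) hM0

theorem exists_max_fibreIntegral {X Y : Scheme.{u}} (f : X ⟶ Y) [LocallyQuasiFinite f]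
    [LocallyOfFiniteType f] [CompactSpace X] (w : X → ℤ) (hw : MoreMor.IsWeighting f w)
    [Nonempty Y] : ∃ y₀ : Y, ∀ y : Y, MoreMor.fibreIntegral f w y ≤ MoreMor.fibreIntegral f w y₀ := by
  obtain ⟨B, hB⟩ := exists_bound_fibreIntegral f w hw
  obtain ⟨ub, ⟨y₀, hy₀⟩, hub⟩ := Int.exists_greatest_of_bdd
    (P := fun z => ∃ y : Y, MoreMor.fibreIntegral f w y = z)
    ⟨B, fun z ⟨y, hy⟩ => hy ▸ hB y⟩ ⟨_, Classical.arbitrary Y, rfl⟩
  exact ⟨y₀, fun y => hy₀ ▸ hub _ ⟨y, rfl⟩⟩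

end Groth.Agent.Helper15.Lcw
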