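import Groth.Agent.Lib.Helper15.Lcw11

/-!
# Constructibility of the number of geometric points of a constructible set in the fibres
-/

set_option autoImplicit false
universe u
open CategoryTheory CategoryTheory.Limits AlgebraicGeometry

namespace Groth.Agent.Helper15.Lcw

open Groth.Agent.Helper15.Wt

/-- A factor of a morphism locally of finite presentation through a morphism locally of finite
type is locally of finite presentation. -/
theorem lfp_of_comp {X Y Z : Scheme.{u}} (f : X ⟶ Y) (g : Y ⟶ Z)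
    (h : LocallyOfFinitePresentation (f ≫ g)) (hg : LocallyOfFiniteType g) :
    LocallyOfFinitePresentation f := by
  wlog hZ : IsAffine Z generalizing X Y Z
  · rw [IsZariskiLocalAtTarget.iff_of_iSup_eq_top (P := @LocallyOfFinitePresentation) _
      (g.iSup_preimage_eq_top (iSup_affineOpens_eq_top Z))]
    intro U
    have H := IsZariskiLocalAtTarget.restrict h U.1
    rw [morphismRestrict_comp] at H
    exact this _ _ H inferInstance U.2
  wlog hY : IsAffine Y generalizing X Y
  · rw [IsZariskiLocalAtTarget.iff_of_iSup_eq_top (P := @LocallyOfFinitePresentation) _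
      (iSup_affineOpens_eq_top Y)]
    intro U
    have H : LocallyOfFinitePresentation ((f ⁻¹ᵁ U.1).ι ≫ f ≫ g) := inferInstance
    rw [← morphismRestrict_ι_assoc] at H
    exact this (f ∣_ U.1) (U.1.ι ≫ g) H inferInstance U.2
  wlog hX : IsAffine X generalizing X
  · rw [IsZariskiLocalAtSource.iff_of_iSup_eq_top (P := @LocallyOfFinitePresentation) _
      (iSup_affineOpens_eq_top X)]
    intro U
    have H : LocallyOfFinitePresentation (U.1.ι ≫ f ≫ g) := inferInstance
    rw [← Category.assoc] at H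
    exact this (U.1.ι ≫ f) H U.2
  exact lfp_of_comp_affine f g

open Classical in
/-- The number of geometric points of `E` in the fibres of `g`. -/
noncomputable def nPts {Z Y : Scheme.{u}} (g : Z ⟶ Y) (E : Set Z) (y : Y) : ℤ :=
  MoreMor.fibreIntegral g (fun z => if z ∈ E then 1 else 0) y

open Classical in
theorem nPts_eq_sum {Z Y : Scheme.{u}} (g : Z ⟶ Y) [LocallyQuasiFinite g] (E : Set Z)
    {Ω : Type u} [Field Ω] [IsAlgClosed Ω] (vb : Spec (CommRingCat.of Ω) ⟶ Y)
    (hfin : (g ⁻¹' {vb (pt Ω)}).Finite) [Fintype (Lifts g vb)] :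
    nPts g E (vb (pt Ω)) = ∑ l : Lifts g vb, (if l.1 (pt Ω) ∈ E then (1 : ℤ) else 0) := by
  rw [nPts, fibreIntegral_eq_gInt g _ vb hfin]
  unfold gInt
  rw [finsum_eq_sum_of_fintype]

theorem nPts_nonneg {Z Y : Scheme.{u}} (g : Z ⟶ Y) [LocallyQuasiFinite g] (E : Set Z)
    (hfin : ∀ y, (g ⁻¹' {y}).Finite) (y : Y) : 0 ≤ nPts g E y := by
  classical
  obtain ⟨Ω, _, _, vb, rfl⟩ := exists_geomPt y
  haveI : Finite (Lifts g vb) := finite_lifts g vb (hfin _)
  letI := Fintype.ofFinite (Lifts g vb)
  rw [nPts_eq_sum g E vb (hfin _)]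
  exact Finset.sum_nonneg (fun l _ => by split_ifs <;> norm_num)

theorem exists_mem_of_nPts_pos {Z Y : Scheme.{u}} (g : Z ⟶ Y) [LocallyQuasiFinite g] (E : Set Z)
    (hfin : ∀ y, (g ⁻¹' {y}).Finite) (y : Y) (h : 0 < nPts g E y) : ∃ z ∈ E, g z = y := by
  classical
  obtain ⟨Ω, _, _, vb, rfl⟩ := exists_geomPt y
  haveI : Finite (Lifts g vb) := finite_lifts g vb (hfin _)
  letI := Fintype.ofFinite (Lifts g vb)
  rw [nPts_eq_sum g E vb (hfin _)] at h
  obtain ⟨l, -, hl⟩ := Finset.exists_ne_zero_of_sum_ne_zero h.ne'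
  have hlE : l.1 (pt Ω) ∈ E := by
    by_contra hcon
    exact hl (if_neg hcon)
  refine ⟨l.1 (pt Ω), hlE, ?_⟩
  rw [← Scheme.Hom.comp_apply, l.2]

/-- **The key identity**: removing the diagonal lowers the count by one at points of `E`. -/
theorem nPts_fst_diag {Z Y : Scheme.{u}} (g : Z ⟶ Y) [LocallyQuasiFinite g] (E : Set Z)
    (hfin : ∀ y, (g ⁻¹' {y}).Finite) (z : Z) :
    nPts (pullback.fst g g) (pullback.snd g g ⁻¹' E \ Set.range (pullback.diagonal g)) z =
      nPts g E (g z) - (open Classical in if z ∈ E then 1 else 0) := by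
  classical
  obtain ⟨Ω, _, _, zb, rfl⟩ := exists_geomPt z
  let vb : Spec (CommRingCat.of Ω) ⟶ Y := zb ≫ g
  have hvb : g (zb (pt Ω)) = vb (pt Ω) := rfl
  haveI : Finite (Lifts g vb) := finite_lifts g vb (hfin _)
  have sq : IsPullback (pullback.snd g g) (pullback.fst g g) g g :=
    (IsPullback.of_hasPullback g g).flip
  let ε : Lifts (pullback.fst g g) zb ≃ Lifts g vb := liftsEquivOfIsPullback sq zb
  haveI : Finite (Lifts (pullback.fst g g) zb) := Finite.of_equiv _ ε.symm
  haveI : LocallyQuasiFinite (pullback.fst g g) :=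
    MorphismProperty.of_isPullback (P := @LocallyQuasiFinite) sq inferInstance
  letI := Fintype.ofFinite (Lifts g vb)
  letI := Fintype.ofFinite (Lifts (pullback.fst g g) zb)
  let zb₀ : Lifts g vb := ⟨zb, rfl⟩
  rw [nPts_eq_sum (pullback.fst g g) _ zb (finite_fibre_of_finite_lifts _ zb), hvb,
    nPts_eq_sum g E vb (hfin _)]
  have hε : ∀ l' : Lifts (pullback.fst g g) zb, (ε l').1 = l'.1 ≫ pullback.snd g g := fun _ => rfl
  have hdiag : ∀ l' : Lifts (pullback.fst g g) zb,
      l'.1 (pt Ω) ∈ Set.range (pullback.diagonal g) ↔ ε l' = zb₀ := by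
    intro l'
    constructor
    · rintro ⟨z'', hz''⟩
      obtain ⟨lb, hlb, -⟩ := exists_lift_of_mem_range (pullback.diagonal g) l'.1 z'' hz''
      apply Subtype.ext
      change l'.1 ≫ pullback.snd g g = zb
      have h1 : l'.1 ≫ pullback.snd g g = lb := by
        rw [← hlb, Category.assoc, pullback.diagonal_snd, Category.comp_id]
      have h2 : zb = lb := l'.2.symm.trans (by
        rw [← hlb, Category.assoc, pullback.diagonal_fst, Category.comp_id])
      exact h1.trans h2.symm
    · intro h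
      have h1 : l'.1 ≫ pullback.snd g g = zb := congrArg Subtype.val h
      have h2 : l'.1 = zb ≫ pullback.diagonal g := by
        apply pullback.hom_ext
        · rw [Category.assoc, pullback.diagonal_fst, Category.comp_id]; exact l'.2
        · rw [Category.assoc, pullback.diagonal_snd, Category.comp_id]; exact h1
      exact ⟨zb (pt Ω), by rw [h2]; rfl⟩
  have hterm : ∀ (l' : Lifts (pullback.fst g g) zb)
      (inst : Decidable (l'.1 (pt Ω) ∈
        pullback.snd g g ⁻¹' E \ Set.range (pullback.diagonal g))),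
      (@ite ℤ (l'.1 (pt Ω) ∈ pullback.snd g g ⁻¹' E \ Set.range (pullback.diagonal g))
        inst (1 : ℤ) 0) =
      (fun l : Lifts g vb => (if l.1 (pt Ω) ∈ E then (1 : ℤ) else 0) -
        (if l = zb₀ then (if zb (pt Ω) ∈ E then 1 else 0) else 0)) (ε l') := by
    intro l' inst
    have hmem : l'.1 (pt Ω) ∈ pullback.snd g g ⁻¹' E ↔ (ε l').1 (pt Ω) ∈ E := Iff.rfl
    by_cases h1 : (ε l').1 (pt Ω) ∈ E
    · by_cases h2 : ε l' = zb₀
      · have h3 : zb (pt Ω) ∈ E := by
          have := h1; rw [h2] at this; exact this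
        have : l'.1 (pt Ω) ∉ pullback.snd g g ⁻¹' E \ Set.range (pullback.diagonal g) :=
          fun hh => hh.2 ((hdiag l').2 h2)
        simp only [if_neg this, if_pos h1, if_pos h2, if_pos h3, sub_self]
      · have : l'.1 (pt Ω) ∈ pullback.snd g g ⁻¹' E \ Set.range (pullback.diagonal g) :=
          ⟨hmem.2 h1, fun hh => h2 ((hdiag l').1 hh)⟩
        simp only [if_pos this, if_pos h1, if_neg h2, sub_zero]
    · have : l'.1 (pt Ω) ∉ pullback.snd g g ⁻¹' E \ Set.range (pullback.diagonal g) :=
        fun hh => h1 (hmem.1 hh.1)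
      by_cases h2 : ε l' = zb₀
      · have h3 : zb (pt Ω) ∉ E := by
          intro hh; apply h1; rw [h2]; exact hh
        simp only [if_neg this, if_neg h1, if_pos h2, if_neg h3, sub_zero]
      · simp only [if_neg this, if_neg h1, if_neg h2, sub_zero]
  let F : Lifts g vb → ℤ := fun l => (if l.1 (pt Ω) ∈ E then (1 : ℤ) else 0) -
        (if l = zb₀ then (if zb (pt Ω) ∈ E then 1 else 0) else 0)
  refine (Finset.sum_congr rfl (fun l' _ => hterm l' _)).trans ?_
  refine (Equiv.sum_comp ε F).trans ?_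
  simp only [F]
  rw [Finset.sum_sub_distrib, Finset.sum_ite_eq' Finset.univ zb₀, if_pos (Finset.mem_univ _)]

end Groth.Agent.Helper15.Lcw
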