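import Groth.Agent.Lib.Helper15.Lcw12

/-!
# The number of geometric points of a constructible set in the fibres is a constructible function
-/

set_option autoImplicit false
universe u
open CategoryTheory CategoryTheory.Limits AlgebraicGeometry

namespace Groth.Agent.Helper15.Lcw

open Groth.Agent.Helper15.Wt

theorem isConstructible_le_nPts : ∀ (k : ℕ) {Z Y : Scheme.{u}} (g : Z ⟶ Y)
    [LocallyQuasiFinite g] [LocallyOfFinitePresentation g] [QuasiCompact g] [QuasiSeparated g]
    [CompactSpace Y] [QuasiSeparatedSpace Y] (E : Set Z), Topology.IsConstructible E →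
    Topology.IsConstructible {y : Y | (k : ℤ) ≤ nPts g E y} := by
  intro k
  induction k with
  | zero =>
    intro Z Y g _ _ _ _ _ _ E _
    have hfin : ∀ y, (g ⁻¹' {y}).Finite := fun y => Scheme.Hom.finite_preimage_singleton g y
    have : {y : Y | ((0 : ℕ) : ℤ) ≤ nPts g E y} = Set.univ := by
      ext y
      simp only [Nat.cast_zero, Set.mem_ofPred_eq, Set.mem_univ, iff_true]
      exact nPts_nonneg g E hfin y
    rw [this]
    exact Topology.IsConstructible.univ
  | succ k ih =>
    intro Z Y g _ _ _ _ _ _ E hE
    have hfin : ∀ y, (g ⁻¹' {y}).Finite := fun y => Scheme.Hom.finite_preimage_singleton g y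
    haveI : CompactSpace Z := QuasiCompact.compactSpace_of_compactSpace g
    haveI : QuasiSeparatedSpace Z := quasiSeparatedSpace_of_quasiSeparated g
    haveI : CompactSpace ↑(pullback g g) :=
      QuasiCompact.compactSpace_of_compactSpace (pullback.fst g g)
    haveI : QuasiSeparatedSpace ↑(pullback g g) :=
      quasiSeparatedSpace_of_quasiSeparated (pullback.fst g g)
    have h1 : Topology.IsConstructible (pullback.snd g g ⁻¹' E) :=
      (pullback.snd g g).isConstructible_preimage hE
    haveI : LocallyOfFinitePresentation (pullback.diagonal g) :=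
      lfp_of_comp (pullback.diagonal g) (pullback.fst g g)
        (by rw [pullback.diagonal_fst]; infer_instance) inferInstance
    have h2 : Topology.IsConstructible (Set.range (pullback.diagonal g)) := by
      rw [← Set.image_univ]
      exact ((pullback.diagonal g).isLocallyConstructible_image
        Topology.IsLocallyConstructible.univ).isConstructible
    have hE' := h1.sdiff h2
    have hih := ih (pullback.fst g g) _ hE'
    have hset : {y : Y | ((k + 1 : ℕ) : ℤ) ≤ nPts g E y} =
        g '' (E ∩ {z : Z | (k : ℤ) ≤ nPts (pullback.fst g g)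
          (pullback.snd g g ⁻¹' E \ Set.range (pullback.diagonal g)) z}) := by
      ext y
      constructor
      · intro hy
        have hy' : ((k : ℤ) + 1) ≤ nPts g E y := by exact_mod_cast hy
        obtain ⟨z, hzE, rfl⟩ := exists_mem_of_nPts_pos g E hfin y (by omega)
        refine ⟨z, ⟨hzE, ?_⟩, rfl⟩
        change (k : ℤ) ≤ _
        rw [nPts_fst_diag g E hfin z, if_pos hzE]
        omega
      · rintro ⟨z, ⟨hzE, hz⟩, rfl⟩
        have hz' : (k : ℤ) ≤ nPts (pullback.fst g g)
          (pullback.snd g g ⁻¹' E \ Set.range (pullback.diagonal g)) z := hz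
        rw [nPts_fst_diag g E hfin z, if_pos hzE] at hz'
        change ((k + 1 : ℕ) : ℤ) ≤ _
        push_cast
        omega
    rw [hset]
    exact Scheme.Hom.isConstructible_image g (hE.inter hih)

theorem isConstructible_nPts_eq {Z Y : Scheme.{u}} (g : Z ⟶ Y)
    [LocallyQuasiFinite g] [LocallyOfFinitePresentation g] [QuasiCompact g] [QuasiSeparated g]
    [CompactSpace Y] [QuasiSeparatedSpace Y] (E : Set Z) (hE : Topology.IsConstructible E)
    (m : ℕ) : Topology.IsConstructible {y : Y | nPts g E y = (m : ℤ)} := by
  have h1 := isConstructible_le_nPts m g E hE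
  have h2 := isConstructible_le_nPts (m + 1) g E hE
  have : {y : Y | nPts g E y = (m : ℤ)} =
      {y : Y | (m : ℤ) ≤ nPts g E y} \ {y : Y | ((m + 1 : ℕ) : ℤ) ≤ nPts g E y} := by
    ext y
    simp only [Set.mem_ofPred_eq, Set.mem_diff, Nat.cast_add, Nat.cast_one]
    omega
  rw [this]
  exact h1.sdiff h2

end Groth.Agent.Helper15.Lcw
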