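import Groth.Agent.Lib.Helper15.Lcw13

/-!
# Level sets of the fibre integral of a weighting are locally constructible
-/

set_option autoImplicit false
universe u
open CategoryTheory CategoryTheory.Limits AlgebraicGeometry

namespace Groth.Agent.Helper15.Lcw

open Groth.Agent.Helper15.Wt

/-- On a quasi-compact source a weighting has finite range and the number of geometric points
in the fibres is bounded. -/
theorem exists_finite_range_and_bound {X Y : Scheme.{u}} (f : X ⟶ Y) [LocallyQuasiFinite f]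
    [LocallyOfFiniteType f] [CompactSpace X] (w : X → ℤ) (hw : MoreMor.IsWeighting f w) :
    (Set.range w).Finite ∧ ∃ N : ℕ, ∀ (Ω : Type u) [Field Ω]
      (vb : Spec (CommRingCat.of Ω) ⟶ Y), Finite (Lifts f vb) ∧ Nat.card (Lifts f vb) ≤ N := by
  classical
  choose S' o ho hx hfin N hN using exists_chart' f w hw
  haveI := ho
  obtain ⟨F, hF⟩ := isCompact_univ.elim_finite_subcover (fun x => ((o x).opensRange : Set X))
    (fun x => (o x).opensRange.isOpen) (fun x _ => Set.mem_iUnion.2 ⟨x, hx x⟩)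
  refine ⟨?_, ∑ x ∈ F, N x, fun Ω _ vb => ?_⟩
  · refine (F.finite_toSet.biUnion (fun x _ => hfin x)).subset ?_
    rintro _ ⟨x', rfl⟩
    have := hF (Set.mem_univ x')
    simp only [Set.mem_iUnion, exists_prop] at this
    obtain ⟨x, hxF, z, rfl⟩ := this
    exact Set.mem_biUnion hxF ⟨z, rfl⟩
  · let A : X → Set (Lifts f vb) := fun x => {l | l.1 (pt Ω) ∈ Set.range (o x)}
    have hcov : (Set.univ : Set (Lifts f vb)) = ⋃ x ∈ F, A x := by
      ext l
      simp only [Set.mem_univ, Set.mem_iUnion, exists_prop, true_iff]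
      have := hF (Set.mem_univ (l.1 (pt Ω)))
      simp only [Set.mem_iUnion, exists_prop] at this
      obtain ⟨x, hxF, hxl⟩ := this
      exact ⟨x, hxF, hxl⟩
    have hAfin : ∀ x, (A x).Finite := fun x => (hN x Ω vb).1
    have hfinU : (Set.univ : Set (Lifts f vb)).Finite := by
      rw [hcov]
      exact F.finite_toSet.biUnion (fun x _ => hAfin x)
    haveI : Finite (Lifts f vb) := Set.finite_univ_iff.1 hfinU
    refine ⟨inferInstance, ?_⟩
    rw [← Set.ncard_univ, hcov]
    exact (F.set_ncard_biUnion_le A).trans (Finset.sum_le_sum (fun x _ => (hN x Ω vb).2))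

theorem fibreIntegral_eq_sum_nPts {X Y : Scheme.{u}} (f : X ⟶ Y) [LocallyQuasiFinite f]
    (w : X → ℤ) (K : Finset ℤ) (hK : ∀ x, w x ∈ K) (hfin : ∀ y, (f ⁻¹' {y}).Finite) (y : Y) :
    MoreMor.fibreIntegral f w y = ∑ k ∈ K, k * nPts f {x | w x = k} y := by
  classical
  obtain ⟨Ω, _, _, vb, rfl⟩ := exists_geomPt y
  haveI : Finite (Lifts f vb) := finite_lifts f vb (hfin _)
  letI := Fintype.ofFinite (Lifts f vb)
  rw [fibreIntegral_eq_gInt f w vb (hfin _)]
  unfold gInt
  rw [finsum_eq_sum_of_fintype]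
  have h1 : ∀ k ∈ K, k * nPts f {x | w x = k} (vb (pt Ω)) =
      ∑ l : Lifts f vb, (if w (l.1 (pt Ω)) = k then k else 0) := by
    intro k _
    rw [nPts_eq_sum f _ vb (hfin _), Finset.mul_sum]
    refine Finset.sum_congr rfl (fun l _ => ?_)
    by_cases h : w (l.1 (pt Ω)) = k
    · rw [if_pos h, if_pos (show l.1 (pt Ω) ∈ {x | w x = k} from h), mul_one]
    · rw [if_neg h, if_neg (show l.1 (pt Ω) ∉ {x | w x = k} from h), mul_zero]
  rw [Finset.sum_congr rfl h1, Finset.sum_comm]
  refine Finset.sum_congr rfl (fun l _ => ?_)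
  rw [Finset.sum_ite_eq K (w (l.1 (pt Ω))) (fun k => k), if_pos (hK _)]

theorem nPts_le {X Y : Scheme.{u}} (f : X ⟶ Y) [LocallyQuasiFinite f] (E : Set X) (N : ℕ)
    (hN : ∀ (Ω : Type u) [Field Ω] (vb : Spec (CommRingCat.of Ω) ⟶ Y),
      Finite (Lifts f vb) ∧ Nat.card (Lifts f vb) ≤ N)
    (hfin : ∀ y, (f ⁻¹' {y}).Finite) (y : Y) : nPts f E y ≤ N := by
  classical
  obtain ⟨Ω, _, _, vb, rfl⟩ := exists_geomPt y
  haveI : Finite (Lifts f vb) := finite_lifts f vb (hfin _)
  letI := Fintype.ofFinite (Lifts f vb)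
  rw [nPts_eq_sum f E vb (hfin _)]
  calc ∑ l : Lifts f vb, (if l.1 (pt Ω) ∈ E then (1 : ℤ) else 0)
      ≤ ∑ _l : Lifts f vb, (1 : ℤ) := Finset.sum_le_sum (fun l _ => by split_ifs <;> norm_num)
    _ = (Nat.card (Lifts f vb) : ℤ) := by
        rw [Finset.sum_const, Finset.card_univ, Nat.card_eq_fintype_card, nsmul_eq_mul, mul_one]
    _ ≤ N := by exact_mod_cast (hN Ω vb).2

/-- **Level sets of the fibre integral are constructible** (quasi-compact quasi-separated base). -/
theorem isConstructible_fibreIntegral_eq {X Y : Scheme.{u}} (f : X ⟶ Y) [LocallyQuasiFinite f]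
    [LocallyOfFinitePresentation f] [QuasiCompact f] [QuasiSeparated f] [CompactSpace Y]
    [QuasiSeparatedSpace Y] (w : X → ℤ) (hw : MoreMor.IsWeighting f w) (n : ℤ) :
    Topology.IsConstructible {y : Y | MoreMor.fibreIntegral f w y = n} := by
  classical
  haveI : CompactSpace X := QuasiCompact.compactSpace_of_compactSpace f
  haveI : QuasiSeparatedSpace X := quasiSeparatedSpace_of_quasiSeparated f
  have hfin : ∀ y, (f ⁻¹' {y}).Finite := fun y => Scheme.Hom.finite_preimage_singleton f y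
  obtain ⟨hrange, N, hN⟩ := exists_finite_range_and_bound f w hw
  let K : Finset ℤ := hrange.toFinset
  have hK : ∀ x, w x ∈ K := fun x => hrange.mem_toFinset.2 ⟨x, rfl⟩
  have hcon : ∀ k : ℤ, Topology.IsConstructible {x : X | w x = k} :=
    fun k => (isLocallyConstructible_levelSet f w hw k).isConstructible
  let ν : ℤ → Y → ℤ := fun k y => nPts f {x | w x = k} y
  have hν0 : ∀ k y, 0 ≤ ν k y := fun k y => nPts_nonneg f _ hfin y
  have hνN : ∀ k y, ν k y ≤ N := fun k y => nPts_le f _ N hN hfin y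
  have hsum : ∀ y, MoreMor.fibreIntegral f w y = ∑ k ∈ K, k * ν k y :=
    fun y => fibreIntegral_eq_sum_nPts f w K hK hfin y
  -- the finitely many possible value vectors
  let Sv : (K → Fin (N + 1)) → Set Y := fun v => ⋂ k : K, {y | ν k.1 y = ((v k : ℕ) : ℤ)}
  have hSv : ∀ v, Topology.IsConstructible (Sv v) := fun v =>
    Topology.IsConstructible.iInter (fun k => isConstructible_nPts_eq f _ (hcon k.1) (v k))
  have hset : {y : Y | MoreMor.fibreIntegral f w y = n} =
      ⋃ v : {v : K → Fin (N + 1) // ∑ k : K, k.1 * ((v k : ℕ) : ℤ) = n}, Sv v.1 := by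
    ext y
    simp only [Set.mem_ofPred_eq, Set.mem_iUnion]
    constructor
    · intro hy
      have hlt : ∀ k : K, (ν k.1 y).toNat < N + 1 := by
        intro k
        have := hνN k.1 y
        have := hν0 k.1 y
        omega
      let v : K → Fin (N + 1) := fun k => ⟨(ν k.1 y).toNat, hlt k⟩
      have hv : ∀ k : K, (((v k : ℕ)) : ℤ) = ν k.1 y := fun k => Int.toNat_of_nonneg (hν0 k.1 y)
      refine ⟨⟨v, ?_⟩, ?_⟩
      · rw [← hy, hsum y, ← Finset.sum_coe_sort K]
        exact Finset.sum_congr rfl (fun k _ => by rw [hv k])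
      · simp only [Sv, Set.mem_iInter, Set.mem_ofPred_eq]
        exact fun k => (hv k).symm
    · rintro ⟨⟨v, hv⟩, hy⟩
      simp only [Sv, Set.mem_iInter, Set.mem_ofPred_eq] at hy
      rw [hsum y, ← Finset.sum_coe_sort K, ← hv]
      exact Finset.sum_congr rfl (fun k _ => by rw [hy k])
  rw [hset]
  exact Topology.IsConstructible.iUnion (fun v => hSv v.1)

end Groth.Agent.Helper15.Lcw
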