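import Groth.Agent.Lib.Helper15.Lcw14

/-!
# Level sets of the fibre integral of a weighting are locally constructible: the general case
-/

set_option autoImplicit false
universe u
open CategoryTheory CategoryTheory.Limits AlgebraicGeometry

namespace Groth.Agent.Helper15.Lcw

open Groth.Agent.Helper15.Wt

theorem isLocallyConstructible_fibreIntegral_eq {X Y : Scheme.{u}} (f : X ⟶ Y)
    [LocallyQuasiFinite f] [LocallyOfFinitePresentation f] [QuasiCompact f] [QuasiSeparated f]
    (w : X → ℤ) (hw : MoreMor.IsWeighting f w) (n : ℤ) :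
    Topology.IsLocallyConstructible {y : Y | MoreMor.fibreIntegral f w y = n} := by
  have hfin : ∀ y, (f ⁻¹' {y}).Finite := fun y => Scheme.Hom.finite_preimage_singleton f y
  refine Topology.IsLocallyConstructible.of_isOpenCover (U := fun V : Y.affineOpens => V.1) ?_
    (fun V => ?_)
  · refine TopologicalSpace.IsOpenCover.mk ?_
    rw [eq_top_iff]
    intro y _
    obtain ⟨_, ⟨(V : Y.Opens), hV, rfl⟩, hyV, -⟩ := Y.isBasis_affineOpens.exists_subset_of_mem_open
      (Set.mem_univ y) isOpen_univ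
    exact TopologicalSpace.Opens.mem_iSup.2 ⟨⟨V, hV⟩, hyV⟩
  · haveI : IsAffine V.1.toScheme := V.2
    let wV : (f ⁻¹ᵁ V.1).toScheme → ℤ := fun a => w ((f ⁻¹ᵁ V.1).ι a)
    have hwV : MoreMor.IsWeighting (f ∣_ V.1) wV := by
      have h1 : MoreMor.IsWeighting ((f ⁻¹ᵁ V.1).ι ≫ f) wV := IsWeighting.restrict hw _
      rw [← morphismRestrict_ι] at h1
      exact IsWeighting.of_comp_mono V.1.ι h1
    have hbc : ∀ v : V.1.toScheme, MoreMor.fibreIntegral (f ∣_ V.1) wV v =
        MoreMor.fibreIntegral f w (V.1.ι v) := fun v =>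
      fibreIntegral_baseChange f hfin (f ∣_ V.1) (f ⁻¹ᵁ V.1).ι V.1.ι
        (isPullback_morphismRestrict f V.1).flip w v
    have hc := isConstructible_fibreIntegral_eq (f ∣_ V.1) wV hwV n
    have hset : {v : V.1.toScheme | MoreMor.fibreIntegral (f ∣_ V.1) wV v = n} =
        ((V.1.ι : V.1.toScheme → Y) ⁻¹' {y : Y | MoreMor.fibreIntegral f w y = n}) := by
      ext v
      change _ = n ↔ MoreMor.fibreIntegral f w (V.1.ι v) = n
      rw [hbc]
    rw [hset] at hc
    exact hc.isLocallyConstructible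

end Groth.Agent.Helper15.Lcw
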