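import Mathlib

/-!
# Opens finite over the base inside an open subscheme of a finite scheme
-/

set_option autoImplicit false
universe u
open CategoryTheory Limits AlgebraicGeometry

namespace Groth.Agent.Helper15.Ufo

section

variable {X Y Z X' Y' Z' : Scheme.{u}} (π : Z ⟶ Y) (j : X ⟶ Z) (b : Y' ⟶ Y)
  {p₁ : X' ⟶ X} {p₂ : X' ⟶ Y'} (hX : IsPullback p₁ p₂ (j ≫ π) b)
  {q₁ : Z' ⟶ Z} {q₂ : Z' ⟶ Y'} (hZ : IsPullback q₁ q₂ π b)
  (j' : X' ⟶ Z') (h1 : j' ≫ q₁ = p₁ ≫ j) (h2 : j' ≫ q₂ = p₂)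

include hX hZ h1 h2

theorem isPullback_left : IsPullback j' p₁ q₁ j := by
  have big : IsPullback (j' ≫ q₂) p₁ b (j ≫ π) := by rw [h2]; exact hX.flip
  exact IsPullback.of_right big h1 hZ.flip

theorem isOpenImmersion_left [IsOpenImmersion j] : IsOpenImmersion j' :=
  MorphismProperty.of_isPullback (P := @IsOpenImmersion)
    (isPullback_left π j b hX hZ j' h1 h2).flip inferInstance

theorem range_left : Set.range j' = q₁ ⁻¹' Set.range j := by
  apply Set.Subset.antisymm
  · rintro _ ⟨x, rfl⟩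
    refine ⟨p₁ x, ?_⟩
    rw [← Scheme.Hom.comp_apply, ← h1, Scheme.Hom.comp_apply]
  · rintro z ⟨x, hx⟩
    obtain ⟨w, hw1, _⟩ := Scheme.exists_preimage_of_isPullback
      (isPullback_left π j b hX hZ j' h1 h2) z x hx.symm
    exact ⟨w, hw1⟩

theorem isFinite_iff_isClosed_image [IsOpenImmersion j] [IsFinite π] (U : X'.Opens) :
    IsFinite (U.ι ≫ p₂) ↔ IsClosed (j' '' (U : Set X')) := by
  haveI : IsOpenImmersion j' := isOpenImmersion_left π j b hX hZ j' h1 h2
  haveI hq₂ : IsFinite q₂ := MorphismProperty.of_isPullback (P := @IsFinite) hZ ‹IsFinite π›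
  have hrange : Set.range (U.ι ≫ j') = j' '' (U : Set X') := by
    rw [Scheme.Hom.comp_base, TopCat.coe_comp, Set.range_comp, Scheme.Opens.range_ι]
  constructor
  · intro h
    haveI : IsFinite ((U.ι ≫ j') ≫ q₂) := by rw [Category.assoc, h2]; exact h
    haveI : IsProper (U.ι ≫ j') := IsProper.of_comp _ q₂
    rw [← hrange]
    exact (U.ι ≫ j').isClosedMap.isClosed_range
  · intro h
    haveI : IsClosedImmersion (U.ι ≫ j') := .of_isPreimmersion _ (by rw [hrange]; exact h)
    have : IsFinite ((U.ι ≫ j') ≫ q₂) := inferInstance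
    rwa [Category.assoc, h2] at this

end

end Groth.Agent.Helper15.Ufo
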