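import Groth.Agent.Lib.Helper15.Lcw1
import Groth.Agent.Lib.Helper15.Ufo9

/-!
# Extension by zero of a weighting along a closed immersion
-/

set_option autoImplicit false
universe u
open CategoryTheory CategoryTheory.Limits AlgebraicGeometry

namespace Groth.Agent.Helper15.Lcw

open Groth.Agent.Helper15.Wt Groth.Agent.Helper15.Ufo

theorem IsWeighting.extByZero {X X₁ Y : Scheme.{u}} (i : X ⟶ X₁) [IsClosedImmersion i]
    (f₁ : X₁ ⟶ Y) [LocallyQuasiFinite f₁] (w : X → ℤ) (hw : MoreMor.IsWeighting (i ≫ f₁) w)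
    (w₁ : X₁ → ℤ) (h1 : ∀ x, w₁ (i x) = w x) (h0 : ∀ x₁, x₁ ∉ Set.range i → w₁ x₁ = 0) :
    MoreMor.IsWeighting f₁ w₁ := by
  intro V g _ U₁ hU₁
  haveI := hU₁
  let iV : pullback (i ≫ f₁) g ⟶ pullback f₁ g :=
    pullback.map (i ≫ f₁) g f₁ g i (𝟙 V) (𝟙 Y) (by simp) (by simp)
  have hiV1 : iV ≫ pullback.fst f₁ g = pullback.fst (i ≫ f₁) g ≫ i := pullback.lift_fst _ _ _
  have hiV2 : iV ≫ pullback.snd f₁ g = pullback.snd (i ≫ f₁) g :=
    (pullback.lift_snd _ _ _).trans (Category.comp_id _)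
  have sq : IsPullback iV (pullback.fst (i ≫ f₁) g) (pullback.fst f₁ g) i :=
    isPullback_left f₁ i g (IsPullback.of_hasPullback (i ≫ f₁) g)
      (IsPullback.of_hasPullback f₁ g) iV hiV1 hiV2
  haveI : IsClosedImmersion iV :=
    MorphismProperty.of_isPullback (P := @IsClosedImmersion) sq.flip inferInstance
  let U : (pullback (i ≫ f₁) g).Opens := iV ⁻¹ᵁ U₁
  let iU : U.toScheme ⟶ U₁.toScheme := iV ∣_ U₁
  haveI : IsClosedImmersion iU := IsZariskiLocalAtTarget.restrict ‹IsClosedImmersion iV› U₁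
  have hιU : iU ≫ U₁.ι = U.ι ≫ iV := morphismRestrict_ι iV U₁
  have hπ : iU ≫ U₁.ι ≫ pullback.snd f₁ g = U.ι ≫ pullback.snd (i ≫ f₁) g := by
    rw [← Category.assoc, hιU, Category.assoc, hiV2]
  have hfinU : IsFinite (U.ι ≫ pullback.snd (i ≫ f₁) g) := by
    rw [← hπ]; infer_instance
  have key := hw V g U hfinU
  convert key using 1
  funext v
  have hfib : ((U₁.ι ≫ pullback.snd f₁ g) ⁻¹' {v}).Finite :=
    Scheme.Hom.finite_preimage_singleton _ v
  rw [fibreIntegral_of_closedImmersion (U₁.ι ≫ pullback.snd f₁ g) iU _ ?_ v hfib]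
  · have e1 : iU ≫ U₁.ι ≫ pullback.snd f₁ g = U.ι ≫ pullback.snd (i ≫ f₁) g := hπ
    rw [e1]
    congr 1
    funext u
    change w₁ (pullback.fst f₁ g (U₁.ι (iU u))) = w (pullback.fst (i ≫ f₁) g (U.ι u))
    have a1 : U₁.ι (iU u) = iV (U.ι u) := by
      rw [← Scheme.Hom.comp_apply, hιU, Scheme.Hom.comp_apply]
    have a2 : pullback.fst f₁ g (iV (U.ι u)) = i (pullback.fst (i ≫ f₁) g (U.ι u)) := by
      rw [← Scheme.Hom.comp_apply, hiV1, Scheme.Hom.comp_apply]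
    rw [a1, a2, h1]
  · intro u₁ hu₁
    apply h0
    rintro ⟨x, hx⟩
    apply hu₁
    obtain ⟨p, hp1, hp2⟩ := Scheme.exists_preimage_of_isPullback sq (U₁.ι u₁) x hx.symm
    have hpU : p ∈ U := by
      change iV p ∈ U₁
      rw [hp1]
      exact u₁.2
    refine ⟨⟨p, hpU⟩, ?_⟩
    apply U₁.ι.isEmbedding.injective
    rw [← Scheme.Hom.comp_apply, hιU, Scheme.Hom.comp_apply]
    exact hp1

end Groth.Agent.Helper15.Lcw
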