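import Groth.Agent.Lib.Helper15.Wt3

/-!
# The geometric number of points of a quasi-finite morphism as a number of lifts
-/

set_option autoImplicit false
universe u
open CategoryTheory CategoryTheory.Limits AlgebraicGeometry

namespace Groth.Agent.Helper15.NGeom

open Groth.Agent.Helper15.Wt

/-- Separable closedness transfers along ring isomorphisms. -/
theorem isSepClosed_of_ringEquiv {k k' : Type*} [Field k] [Field k'] (e : k ≃+* k')
    [IsSepClosed k] : IsSepClosed k' := by
  refine IsSepClosed.of_exists_root k' (fun p _ hirr hsep => ?_)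
  have hs : (p.map (e.symm : k' →+* k)).Separable := hsep.map
  have hd : (p.map (e.symm : k' →+* k)).degree ≠ 0 := by
    rw [Polynomial.degree_map]
    exact (Polynomial.degree_pos_of_irreducible hirr).ne'
  obtain ⟨x, hx⟩ := IsSepClosed.exists_root _ hd hs
  refine ⟨e x, ?_⟩
  have h1 : p.eval (e x) = e ((p.map (e.symm : k' →+* k)).eval x) := by
    rw [Polynomial.eval_map]
    have h2 := Polynomial.hom_eval₂ p (e.symm : k' →+* k) (e : k →+* k') x
    have : (e : k →+* k').comp (e.symm : k' →+* k) = RingHom.id k' := by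
      ext a; simp
    rw [this, Polynomial.eval₂_id] at h2
    exact h2.symm
  rw [h1, hx, map_zero]


variable {X Y : Scheme.{u}}

/-- The number of lifts of a geometric point is the fibre integral of the constant function 1. -/
theorem card_lifts_eq_fibreIntegral (f : X ⟶ Y) [LocallyQuasiFinite f] {Ω : Type u} [Field Ω]
    [IsAlgClosed Ω] (vb : Spec (CommRingCat.of Ω) ⟶ Y) (hfin : (f ⁻¹' {vb (pt Ω)}).Finite) :
    (Nat.card (Lifts f vb) : ℤ) = MoreMor.fibreIntegral f (fun _ => 1) (vb (pt Ω)) := by
  classical
  rw [fibreIntegral_eq_gInt f _ vb hfin]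
  unfold gInt
  haveI := finite_lifts f vb hfin
  letI := Fintype.ofFinite (Lifts f vb)
  rw [finsum_eq_sum_of_fintype, Finset.sum_const, Finset.card_univ, Nat.card_eq_fintype_card]
  simp

/-- The number of lifts of a geometric point only depends on the underlying point. -/
theorem card_lifts_eq_of_eq (f : X ⟶ Y) [LocallyQuasiFinite f] {Ω Ω' : Type u} [Field Ω]
    [IsAlgClosed Ω] [Field Ω'] [IsAlgClosed Ω'] (vb : Spec (CommRingCat.of Ω) ⟶ Y)
    (vb' : Spec (CommRingCat.of Ω') ⟶ Y) (h : vb (pt Ω) = vb' (pt Ω'))
    (hfin : (f ⁻¹' {vb (pt Ω)}).Finite) :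
    Nat.card (Lifts f vb) = Nat.card (Lifts f vb') := by
  have h1 := card_lifts_eq_fibreIntegral f vb hfin
  have h2 := card_lifts_eq_fibreIntegral f vb' (h ▸ hfin)
  rw [← h] at h2
  exact_mod_cast h1.trans h2.symm


section GeomFiber

variable (f : X ⟶ Y) (y : Y)

/-- The projection of the geometric fibre to the separable closure. -/
noncomputable abbrev gfSnd : MoreMor.geomFiber f y ⟶
    Spec (CommRingCat.of (SeparableClosure (Y.residueField y))) :=
  pullback.snd _ _

/-- The projection of the geometric fibre to the total space. -/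
noncomputable abbrev gfFst : MoreMor.geomFiber f y ⟶ X :=
  pullback.fst _ _ ≫ f.fiberι y

/-- The separably closed point over `y`. -/
noncomputable abbrev gfBase : Spec (CommRingCat.of (SeparableClosure (Y.residueField y))) ⟶ Y :=
  Spec.map (CommRingCat.ofHom (algebraMap (Y.residueField y)
    (SeparableClosure (Y.residueField y)))) ≫ Y.fromSpecResidueField y

theorem isPullback_geomFiber : IsPullback (gfFst f y) (gfSnd f y) f (gfBase y) := by
  have h1 : IsPullback (f.fiberι y) (f.fiberToSpecResidueField y) f (Y.fromSpecResidueField y) :=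
    IsPullback.of_hasPullback f (Y.fromSpecResidueField y)
  exact (IsPullback.of_hasPullback (f.fiberToSpecResidueField y) _).paste_horiz h1


variable [LocallyQuasiFinite f] [QuasiCompact f]

instance : LocallyQuasiFinite (gfSnd f y) :=
  MorphismProperty.of_isPullback (P := @LocallyQuasiFinite) (isPullback_geomFiber f y) inferInstance

instance : QuasiCompact (gfSnd f y) :=
  MorphismProperty.of_isPullback (P := @QuasiCompact) (isPullback_geomFiber f y) inferInstance

instance : IsLocallyArtinian (MoreMor.geomFiber f y) :=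
  IsLocallyArtinian.of_locallyQuasiFinite (gfSnd f y)

instance : CompactSpace (MoreMor.geomFiber f y) :=
  QuasiCompact.compactSpace_of_compactSpace (gfSnd f y)

instance : Finite (MoreMor.geomFiber f y) := finite_of_compact_of_discrete

theorem nGeomConnComp_eq_card_geomFiber :
    MoreMor.nGeomConnComp f y = ENat.card (MoreMor.geomFiber f y) := by
  unfold MoreMor.nGeomConnComp
  refine ENat.card_congr (Equiv.ofBijective ConnectedComponents.mk
    ⟨fun a b hab => ?_, ConnectedComponents.surjective_coe⟩).symm
  have h := ConnectedComponents.coe_eq_coe.1 hab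
  rw [connectedComponent_eq_singleton, connectedComponent_eq_singleton] at h
  exact Set.singleton_injective h


/-- The residue field of the spectrum of a separably closed field is separably closed. -/
theorem isSepClosed_residueField_Spec (L : Type u) [Field L] [IsSepClosed L]
    (p : Spec (CommRingCat.of L)) : IsSepClosed ((Spec (CommRingCat.of L)).residueField p) := by
  have e₁ : L ≃+* p.asIdeal.ResidueField :=
    (Ideal.algEquivResidueFieldOfField p.asIdeal).toRingEquiv
  have e₂ : p.asIdeal.ResidueField ≃+* (Spec (CommRingCat.of L)).residueField p :=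
    (Scheme.Spec.residueFieldIso (CommRingCat.of L) p).symm.commRingCatIsoToRingEquiv
  exact isSepClosed_of_ringEquiv (e₁.trans e₂)

theorem card_lifts_gfSnd {Ω₀ : Type u} [Field Ω₀] [IsAlgClosed Ω₀]
    (vs : Spec (CommRingCat.of Ω₀) ⟶
      Spec (CommRingCat.of (SeparableClosure (Y.residueField y)))) :
    Nat.card (Lifts (gfSnd f y) vs) = Nat.card (MoreMor.geomFiber f y) := by
  refine Nat.card_congr (Equiv.ofBijective (fun ub => ub.1 (pt Ω₀)) ⟨?_, ?_⟩)
  · intro a b hab
    have hu : gfSnd f y (a.1 (pt Ω₀)) = vs (pt Ω₀) := by rw [← Scheme.Hom.comp_apply, a.2]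
    have hc := card_lifts_over (gfSnd f y) vs (a.1 (pt Ω₀)) hu
    letI := ((gfSnd f y).residueFieldMap (a.1 (pt Ω₀))).hom.toAlgebra
    haveI := isSepClosed_residueField_Spec (SeparableClosure (Y.residueField y))
      (gfSnd f y (a.1 (pt Ω₀)))
    haveI : Module.Finite ((Spec (CommRingCat.of (SeparableClosure (Y.residueField y)))).residueField
        (gfSnd f y (a.1 (pt Ω₀)))) ((MoreMor.geomFiber f y).residueField (a.1 (pt Ω₀))) :=
      finite_residueFieldMap (gfSnd f y) _
    rw [IsPurelyInseparable.finSepDegree_eq_one] at hc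
    haveI := (Nat.card_eq_one_iff_unique.1 hc).1
    have h3 := Subsingleton.elim
      (⟨a.1, a.2, rfl⟩ : {ub : Spec (CommRingCat.of Ω₀) ⟶ MoreMor.geomFiber f y //
        ub ≫ gfSnd f y = vs ∧ ub (pt Ω₀) = a.1 (pt Ω₀)}) ⟨b.1, b.2, hab.symm⟩
    exact Subtype.ext (Subtype.mk.inj h3)
  · intro g
    obtain ⟨ub, hub⟩ := exists_lift_through (gfSnd f y) vs g (Subsingleton.elim _ _)
    exact ⟨ub, hub⟩

end GeomFiber


/-- **The geometric number of points is the number of lifts of any geometric point.** -/
theorem nGeomConnComp_eq_card_lifts (f : X ⟶ Y) [LocallyQuasiFinite f] [QuasiCompact f]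
    {Ω : Type u} [Field Ω] [IsAlgClosed Ω] (vb : Spec (CommRingCat.of Ω) ⟶ Y) :
    MoreMor.nGeomConnComp f (vb (pt Ω)) = (Nat.card (Lifts f vb) : ℕ∞) := by
  set y := vb (pt Ω) with hy
  let Ω₀ := AlgebraicClosure (SeparableClosure (Y.residueField y))
  let vs : Spec (CommRingCat.of Ω₀) ⟶
      Spec (CommRingCat.of (SeparableClosure (Y.residueField y))) :=
    Spec.map (CommRingCat.ofHom (algebraMap (SeparableClosure (Y.residueField y)) Ω₀))
  have h0 : (vs ≫ gfBase y) (pt Ω₀) = y := by
    rw [Scheme.Hom.comp_apply, Scheme.Hom.comp_apply, Scheme.fromSpecResidueField_apply]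
  have h1 : Nat.card (Lifts f vb) = Nat.card (Lifts f (vs ≫ gfBase y)) :=
    card_lifts_eq_of_eq f vb (vs ≫ gfBase y) h0.symm (f.finite_preimage_singleton _)
  have h2 : Nat.card (Lifts f (vs ≫ gfBase y)) = Nat.card (Lifts (gfSnd f y) vs) :=
    Nat.card_congr (liftsEquivOfIsPullback (isPullback_geomFiber f y) vs).symm
  rw [h1, h2, card_lifts_gfSnd, nGeomConnComp_eq_card_geomFiber, ENat.card_eq_coe_natCard]

/-- The geometric number of points of a quasi-compact locally quasi-finite morphism is finite. -/
theorem nGeomConnComp_lt_top (f : X ⟶ Y) [LocallyQuasiFinite f] [QuasiCompact f] (y : Y) :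
    MoreMor.nGeomConnComp f y < ⊤ := by
  rw [nGeomConnComp_eq_card_geomFiber, ENat.card_eq_coe_natCard]
  exact ENat.coe_lt_top _

end Groth.Agent.Helper15.NGeom
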