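import Groth.Agent.Lib.Helper15.Wt12

/-!
# Weightings: base change, separated case
-/

set_option autoImplicit false
universe u
open CategoryTheory CategoryTheory.Limits AlgebraicGeometry

namespace Groth.Agent.Helper15.Wt

open Groth.Agent.Helper15.QfMulti Groth.Agent.Helper15.WtPi

variable {X Y : Scheme.{u}}

theorem baseChange_sep (f : X ⟶ Y) [LocallyQuasiFinite f] [LocallyOfFiniteType f] [IsSeparated f]
    (w : X → ℤ) (hw : MoreMor.IsWeighting f w) {X' Y' : Scheme.{u}} (f' : X' ⟶ Y') (h : X' ⟶ X)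
    (g₀ : Y' ⟶ Y) (hc : IsPullback h f' f g₀) : MoreMor.IsWeighting f' (w ∘ ⇑h) := by
  classical
  intro V' g' _ U' hU'
  haveI := hU'
  rw [IsLocallyConstant.iff_exists_open]
  intro v'
  let W' : ↑(pullback f' g') → ℤ := fun p => w (h (pullback.fst f' g' p))
  have hfibfin : ((U'.ι ≫ pullback.snd f' g') ⁻¹' {v'}).Finite :=
    Scheme.Hom.finite_preimage_singleton _ v'
  let F : Finset X := (hfibfin.toFinset).image (fun a => h (pullback.fst f' g' (U'.ι a)))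
  obtain ⟨T₁, g₁, t₁, hg₁, hgt₁, E₁, p₁, p₂, sq, G, Vs, hG, hVs, hdisj⟩ :=
    exists_split_pi f (g₀ (g' v')) F
  haveI := hg₁
  haveI : LocallyQuasiFinite p₂ :=
    MorphismProperty.of_isPullback (P := @LocallyQuasiFinite) sq inferInstance
  -- the base `V''`
  let a := pullback.fst (g' ≫ g₀) g₁
  let b := pullback.snd (g' ≫ g₀) g₁
  have hab : a ≫ g' ≫ g₀ = b ≫ g₁ := pullback.condition
  obtain ⟨v'', hv''1, hv''2⟩ : ∃ v'' : ↑(pullback (g' ≫ g₀) g₁), a v'' = v' ∧ b v'' = t₁ :=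
    Scheme.exists_preimage_of_isPullback (IsPullback.of_hasPullback (g' ≫ g₀) g₁) v' t₁
      (by rw [hgt₁]; rfl)
  -- the space `E''`
  let ε₁ := pullback.fst p₂ b
  let ε₂ := pullback.snd p₂ b
  have sqE : IsPullback ε₁ ε₂ p₂ b := IsPullback.of_hasPullback p₂ b
  haveI : LocallyQuasiFinite ε₂ :=
    MorphismProperty.of_isPullback (P := @LocallyQuasiFinite) sqE inferInstance
  have hθcomm : (ε₁ ≫ p₁) ≫ f = (ε₂ ≫ a ≫ g') ≫ g₀ := by
    rw [Category.assoc, sq.w, ← Category.assoc, sqE.w, Category.assoc, Category.assoc,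
      Category.assoc, hab]
  let θ₁ : pullback p₂ b ⟶ X' := hc.lift (ε₁ ≫ p₁) (ε₂ ≫ a ≫ g') hθcomm
  let θ : pullback p₂ b ⟶ pullback f' g' :=
    pullback.lift θ₁ (ε₂ ≫ a) (by rw [hc.lift_snd, Category.assoc])
  have hθ1 : θ ≫ pullback.fst f' g' ≫ h = ε₁ ≫ p₁ := by
    rw [pullback.lift_fst_assoc, hc.lift_fst]
  have hθ2 : θ ≫ pullback.snd f' g' = ε₂ ≫ a := pullback.lift_snd _ _ _
  have sqθ : IsPullback θ ε₂ (pullback.snd f' g') a := by
    refine IsPullback.of_right ?_ hθ2 ((IsPullback.of_hasPullback f' g').paste_horiz hc)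
    rw [hθ1, hab]
    exact sqE.paste_horiz sq
  -- the opens
  let O'' : (pullback p₂ b).Opens := θ ⁻¹ᵁ U'
  haveI hO''fin : IsFinite (O''.ι ≫ ε₂) :=
    MorphismProperty.of_isPullback (P := @IsFinite)
      ((isPullback_morphismRestrict θ U').paste_vert sqθ) hU'
  let B'' : E₁ → (pullback p₂ b).Opens := fun p => ε₁ ⁻¹ᵁ (Vs p)
  have hB''fin : ∀ p ∈ G, IsFinite ((B'' p).ι ≫ ε₂) := fun p hp =>
    MorphismProperty.of_isPullback (P := @IsFinite)
      ((isPullback_morphismRestrict ε₁ (Vs p)).paste_vert sqE) (hVs p hp).2.1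
  have hWθ : W' ∘ θ = (fun e => w (p₁ e)) ∘ ε₁ := by
    funext e
    change w (h (pullback.fst f' g' (θ e))) = w (p₁ (ε₁ e))
    rw [← Scheme.Hom.comp_apply, ← Scheme.Hom.comp_apply, ← Scheme.Hom.comp_apply, hθ1]
  -- the index set
  let J : Finset E₁ := G.filter (fun p => ∃ e : ↑(pullback p₂ b), e ∈ O'' ∧ ε₂ e = v'' ∧ ε₁ e = p)
  have hJG : ∀ p ∈ J, p ∈ G := fun p hp => (Finset.mem_filter.1 hp).1
  have fact1 : ∀ e : ↑(pullback p₂ b), e ∈ O'' → ε₂ e = v'' → ε₁ e ∈ J ∧ e ∈ B'' (ε₁ e) := by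
    intro e heO he
    have h1 : p₂ (ε₁ e) = t₁ := by
      rw [← Scheme.Hom.comp_apply, sqE.w, Scheme.Hom.comp_apply, he, hv''2]
    have h2 : p₁ (ε₁ e) ∈ F := by
      have h3 : p₁ (ε₁ e) = h (pullback.fst f' g' (θ e)) := by
        rw [← Scheme.Hom.comp_apply, ← hθ1]; rfl
      rw [h3]
      refine Finset.mem_image.2 ⟨⟨θ e, heO⟩, ?_, rfl⟩
      rw [Set.Finite.mem_toFinset]
      change pullback.snd f' g' (θ e) = v'
      rw [← Scheme.Hom.comp_apply, hθ2, Scheme.Hom.comp_apply, he, hv''1]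
    have hG' : ε₁ e ∈ G := (hG _).2 ⟨h1, h2⟩
    refine ⟨Finset.mem_filter.2 ⟨hG', e, heO, he, rfl⟩, ?_⟩
    exact ((hVs _ hG').2.2.1 (ε₁ e) h1).2 rfl
  have fact2 : ∀ p ∈ J, ∀ e : ↑(pullback p₂ b), e ∈ B'' p → ε₂ e = v'' → e ∈ O'' := by
    intro p hp e heB he
    obtain ⟨hpG, e₀, he₀O, he₀, he₀p⟩ := Finset.mem_filter.1 hp
    have h1 : p₂ (ε₁ e) = t₁ := by
      rw [← Scheme.Hom.comp_apply, sqE.w, Scheme.Hom.comp_apply, he, hv''2]
    have h2 : ε₁ e = p := ((hVs p hpG).2.2.1 (ε₁ e) h1).1 heB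
    obtain ⟨Ω, _, _, tb, htb⟩ := exists_geomPt v''
    obtain ⟨ub, hub⟩ := exists_lift_through ε₂ tb e (by rw [he, htb])
    obtain ⟨ub₀, hub₀⟩ := exists_lift_through ε₂ tb e₀ (by rw [he₀, htb])
    have h3 : ub.1 ≫ ε₁ = ub₀.1 ≫ ε₁ := by
      refine (hVs p hpG).2.2.2 Ω (ub.1 ≫ ε₁) (ub₀.1 ≫ ε₁) ?_ ?_ ?_
      · rw [Category.assoc, Category.assoc, sqE.w, ← Category.assoc, ← Category.assoc, ub.2, ub₀.2]
      · rw [Scheme.Hom.comp_apply, hub, h2]
      · rw [Scheme.Hom.comp_apply, hub₀, he₀p]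
    have h4 : ub.1 = ub₀.1 := sqE.hom_ext h3 (ub.2.trans ub₀.2.symm)
    rw [← hub, h4, hub₀]
    exact he₀O
  -- the neighbourhoods
  have hZ₁ : IsClosed ((⋃ p ∈ J, (B'' p : Set ↑(pullback p₂ b)))ᶜ) :=
    (isOpen_biUnion (fun p _ => (B'' p).2)).isClosed_compl
  obtain ⟨N₁, hvN₁, hN₁⟩ := exists_nbhd_avoiding ε₂ O'' _ hZ₁ v'' (by
    intro e heO heZ he
    apply heZ
    obtain ⟨h1, h2⟩ := fact1 e heO he
    exact Set.mem_biUnion h1 h2)
  obtain ⟨N₂, hvN₂, hN₂⟩ := exists_nbhd_finset v'' J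
    (fun p N => ∀ e ∈ B'' p, e ∉ O'' → ε₂ e ∉ N)
    (fun p N N' hle hQ e he heO heN => hQ e he heO (hle heN))
    (by
      intro p hp
      haveI := hB''fin p (hJG p hp)
      have hZ : IsClosed ((O'' : Set ↑(pullback p₂ b))ᶜ) := O''.2.isClosed_compl
      obtain ⟨N, hN, hN'⟩ := exists_nbhd_avoiding ε₂ (B'' p) _ hZ v'' (by
        intro e heB heZ he
        exact heZ (fact2 p hp e heB he))
      exact ⟨N, hN, fun e he heO => hN' e he heO⟩)
  -- the locally constant comparison function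
  let c : E₁ → T₁ → ℤ := fun p =>
    MoreMor.fibreIntegral ((Vs p).ι ≫ p₂) (fun q => w (p₁ ((Vs p).ι q)))
  have hc_lc : ∀ p ∈ J, IsLocallyConstant (c p) := by
    intro p hp
    haveI := (hVs p (hJG p hp)).2.1
    exact IsWeighting.flex hw g₁ p₁ p₂ sq (Vs p)
  have hsum_lc : IsLocallyConstant (fun t'' : ↑(pullback (g' ≫ g₀) g₁) => ∑ p ∈ J, c p (b t'')) :=
    isLocallyConstant_finset_sum J (fun p t'' => c p (b t''))
      (fun p hp => (hc_lc p hp).comp_continuous b.continuous)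
  obtain ⟨N₃, hN₃o, hvN₃, hN₃⟩ := (IsLocallyConstant.iff_exists_open _).1 hsum_lc v''
  -- the formula
  have hformula : ∀ t'' : ↑(pullback (g' ≫ g₀) g₁), t'' ∈ N₁ → t'' ∈ N₂ →
      MoreMor.fibreIntegral (U'.ι ≫ pullback.snd f' g') (fun u => W' (U'.ι u)) (a t'') =
        ∑ p ∈ J, c p (b t'') := by
    intro t'' ht1 ht2
    obtain ⟨Ω, _, _, tb, rfl⟩ := exists_geomPt t''
    have e1 : MoreMor.fibreIntegral (U'.ι ≫ pullback.snd f' g') (fun u => W' (U'.ι u))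
        (a (tb (pt Ω))) = gIntOn (pullback.snd f' g') W' (U' : Set ↑(pullback f' g')) (tb ≫ a) :=
      fibreIntegral_opens (pullback.snd f' g') W' U' (tb ≫ a)
    rw [e1, ← gIntOn_baseChange sqθ W' (U' : Set ↑(pullback f' g')) tb, hWθ]
    have e2 : gIntOn ε₂ ((fun e => w (p₁ e)) ∘ ε₁) (θ ⁻¹' (U' : Set ↑(pullback f' g'))) tb =
        gIntOn ε₂ ((fun e => w (p₁ e)) ∘ ε₁) (⋃ p ∈ J, (B'' p : Set ↑(pullback p₂ b))) tb := by
      refine gIntOn_congr ε₂ _ tb (fun ub => ?_)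
      have hub2 : ε₂ (ub.1 (pt Ω)) = tb (pt Ω) := (Lifts.point ub).2
      constructor
      · intro hO
        by_contra hcon
        exact hN₁ _ hO hcon (by rw [hub2]; exact ht1)
      · intro hU
        obtain ⟨p, hp, hpB⟩ := Set.mem_iUnion₂.1 hU
        by_contra hcon
        exact hN₂ p hp _ hpB hcon (by rw [hub2]; exact ht2)
    rw [e2, gIntOn_biUnion ε₂ _ J (fun p => (B'' p : Set ↑(pullback p₂ b))) tb]
    · refine Finset.sum_congr rfl (fun p hp => ?_)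
      haveI := (hVs p (hJG p hp)).2.1
      have e3 := gIntOn_baseChange sqE (fun e => w (p₁ e)) (Vs p : Set E₁) tb
      have e4 : c p (b (tb (pt Ω))) = gIntOn p₂ (fun e => w (p₁ e)) (Vs p : Set E₁) (tb ≫ b) :=
        fibreIntegral_opens p₂ (fun e => w (p₁ e)) (Vs p) (tb ≫ b)
      rw [e4, ← e3]
      rfl
    · intro p hp
      haveI := hB''fin p (hJG p hp)
      exact finite_liftsIn ε₂ (B'' p) tb
    · intro p hp p' hp' hne
      rw [Function.onFun, Set.disjoint_left]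
      intro ub h1 h2
      have hd := hdisj p (hJG p hp) p' (hJG p' hp') hne
      rw [← TopologicalSpace.Opens.coe_disjoint] at hd
      exact (Set.disjoint_left.1 hd) h1 h2
  refine ⟨a '' ((N₁ : Set ↑(pullback (g' ≫ g₀) g₁)) ∩ N₂ ∩ N₃), ?_, ⟨v'', ⟨⟨hvN₁, hvN₂⟩, hvN₃⟩, hv''1⟩, ?_⟩
  · haveI : Etale a := MorphismProperty.of_isPullback (P := @Etale)
      (IsPullback.of_hasPullback (g' ≫ g₀) g₁).flip inferInstance
    exact a.isOpenMap _ ((N₁.2.inter N₂.2).inter hN₃o)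
  · rintro _ ⟨t'', ⟨⟨ht1, ht2⟩, ht3⟩, rfl⟩
    change MoreMor.fibreIntegral (U'.ι ≫ pullback.snd f' g') (fun u => W' (U'.ι u)) (a t'') =
      MoreMor.fibreIntegral (U'.ι ≫ pullback.snd f' g') (fun u => W' (U'.ι u)) v'
    rw [← hv''1, hformula t'' ht1 ht2, hformula v'' hvN₁ hvN₂]
    exact hN₃ t'' ht3

end Groth.Agent.Helper15.Wt
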