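import Groth.Agent.Lib.Helper15.Lcw2
import Groth.Agent.Lib.Helper15.NGeom1
import Groth.Agent.Lib.Helper15.Wt13

/-!
# Auxiliary lemmas: one-point schemes over algebraically closed fields, base change and
restriction of weightings, finite presentation of a factor
-/

set_option autoImplicit false
universe u
open CategoryTheory CategoryTheory.Limits AlgebraicGeometry

namespace Groth.Agent.Helper15.Lcw

open Groth.Agent.Helper15.Wt Groth.Agent.Helper15.NGeom

/-- Over a separably closed field, a lift of a geometric point is determined by its image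
point. -/
theorem lifts_point_injective {W : Scheme.{u}} {L : Type u} [Field L] [IsSepClosed L]
    (πW : W ⟶ Spec (CommRingCat.of L)) [LocallyQuasiFinite πW] {Ω₀ : Type u} [Field Ω₀]
    [IsAlgClosed Ω₀] (vs : Spec (CommRingCat.of Ω₀) ⟶ Spec (CommRingCat.of L))
    (a b : Lifts πW vs) (hab : a.1 (pt Ω₀) = b.1 (pt Ω₀)) : a = b := by
  have hu : πW (a.1 (pt Ω₀)) = vs (pt Ω₀) := by rw [← Scheme.Hom.comp_apply, a.2]
  have hc := card_lifts_over πW vs (a.1 (pt Ω₀)) hu
  letI := (πW.residueFieldMap (a.1 (pt Ω₀))).hom.toAlgebra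
  haveI := isSepClosed_residueField_Spec L (πW (a.1 (pt Ω₀)))
  haveI : Module.Finite ((Spec (CommRingCat.of L)).residueField (πW (a.1 (pt Ω₀))))
      (W.residueField (a.1 (pt Ω₀))) := finite_residueFieldMap πW _
  rw [IsPurelyInseparable.finSepDegree_eq_one] at hc
  haveI := (Nat.card_eq_one_iff_unique.1 hc).1
  have h3 := Subsingleton.elim
    (⟨a.1, a.2, rfl⟩ : {ub : Spec (CommRingCat.of Ω₀) ⟶ W //
      ub ≫ πW = vs ∧ ub (pt Ω₀) = a.1 (pt Ω₀)}) ⟨b.1, b.2, hab.symm⟩
  exact Subtype.ext (Subtype.mk.inj h3)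

/-- The fibre integral over a one-point scheme over an algebraically closed field. -/
theorem fibreIntegral_of_subsingleton {W : Scheme.{u}} {L : Type u} [Field L] [IsAlgClosed L]
    (πW : W ⟶ Spec (CommRingCat.of L)) [LocallyQuasiFinite πW] [Subsingleton W] (G : W → ℤ)
    (w₀ : W) : MoreMor.fibreIntegral πW G (πW w₀) = G w₀ := by
  have hpt : πW w₀ = (𝟙 (Spec (CommRingCat.of L)) : _ ⟶ _) (pt L) := Subsingleton.elim _ _
  rw [hpt]
  have hfin : (πW ⁻¹' {(𝟙 (Spec (CommRingCat.of L)) : _ ⟶ _) (pt L)}).Finite :=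
    Set.toFinite _
  rw [fibreIntegral_eq_gInt πW G (𝟙 _) hfin]
  unfold gInt
  obtain ⟨l₀, hl₀⟩ := exists_lift_through πW (𝟙 _) w₀ hpt
  have huniq : ∀ l : Lifts πW (𝟙 (Spec (CommRingCat.of L))), l = l₀ :=
    fun l => lifts_point_injective πW _ l l₀ (Subsingleton.elim _ _)
  letI : Unique (Lifts πW (𝟙 (Spec (CommRingCat.of L)))) := ⟨⟨l₀⟩, huniq⟩
  rw [finsum_unique]
  change G (l₀.1 (pt L)) = G w₀
  rw [hl₀]

/-- A factor of a morphism of finite presentation through a morphism of finite type is of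
finite presentation (affine case). -/
theorem lfp_of_comp_affine {X Y Z : Scheme.{u}} [IsAffine X] [IsAffine Y] [IsAffine Z]
    (f : X ⟶ Y) (g : Y ⟶ Z) [LocallyOfFinitePresentation (f ≫ g)] [LocallyOfFiniteType g] :
    LocallyOfFinitePresentation f := by
  rw [HasRingHomProperty.iff_of_isAffine (P := @LocallyOfFinitePresentation)]
  have h1 : ((f ≫ g).appTop).hom.FinitePresentation :=
    (HasRingHomProperty.iff_of_isAffine (P := @LocallyOfFinitePresentation)).1 inferInstance
  have h2 : (g.appTop).hom.FiniteType :=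
    (HasRingHomProperty.iff_of_isAffine (P := @LocallyOfFiniteType)).1 inferInstance
  rw [Scheme.Hom.comp_appTop, CommRingCat.hom_comp] at h1
  exact RingHom.FinitePresentation.of_comp_finiteType _ h1 h2

/-- Base change of a weighting. -/
theorem IsWeighting.baseChange {X Y : Scheme.{u}} (f : X ⟶ Y) [LocallyQuasiFinite f]
    [LocallyOfFiniteType f] (w : X → ℤ) (hw : MoreMor.IsWeighting f w)
    {X' Y' : Scheme.{u}} (f' : X' ⟶ Y') (h : X' ⟶ X) (g : Y' ⟶ Y) (hc : IsPullback h f' f g) :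
    MoreMor.IsWeighting f' (w ∘ ⇑h) := by
  refine IsWeighting.of_cover
    (fun O : X.affineOpens => h ⁻¹ᵁ O.1) (fun x' => ?_) (fun O => ?_)
  · obtain ⟨_, ⟨(O : X.Opens), hO, rfl⟩, hx, -⟩ := X.isBasis_affineOpens.exists_subset_of_mem_open
      (Set.mem_univ (h x')) isOpen_univ
    exact ⟨⟨O, hO⟩, hx⟩
  · haveI : IsAffine (O.1 : Scheme.{u}) := O.2
    have hw₀ := IsWeighting.restrict hw O.1
    have sq' : IsPullback (h ∣_ O.1) ((h ⁻¹ᵁ O.1).ι ≫ f') (O.1.ι ≫ f) g :=
      (isPullback_morphismRestrict h O.1).paste_vert hc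
    have key := baseChange_sep (O.1.ι ≫ f) _ hw₀
      ((h ⁻¹ᵁ O.1).ι ≫ f') (h ∣_ O.1) g sq'
    convert key using 1
    funext a
    change w (h ((h ⁻¹ᵁ O.1).ι a)) = w (O.1.ι ((h ∣_ O.1) a))
    rw [← Scheme.Hom.comp_apply, ← Scheme.Hom.comp_apply, morphismRestrict_ι]

/-- A weighting restricts along open immersions into the source. -/
theorem IsWeighting.comp_openImmersion {X' X Y : Scheme.{u}} {f : X ⟶ Y} {w : X → ℤ}
    (hw : MoreMor.IsWeighting f w) (o : X' ⟶ X) [IsOpenImmersion o] :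
    MoreMor.IsWeighting (o ≫ f) (fun a => w (o a)) := by
  intro V g _ U' hU'
  haveI := hU'
  have hcomm : (U'.ι ≫ pullback.fst (o ≫ f) g ≫ o) ≫ f =
      (U'.ι ≫ pullback.snd (o ≫ f) g) ≫ g := by
    simp only [Category.assoc]
    rw [pullback.condition]
  have hlift : pullback.lift (U'.ι ≫ pullback.fst (o ≫ f) g ≫ o)
      (U'.ι ≫ pullback.snd (o ≫ f) g) hcomm =
      U'.ι ≫ pullback.map (o ≫ f) g f g o (𝟙 V) (𝟙 Y) (by simp) (by simp) := by
    apply pullback.hom_ext
    · rw [pullback.lift_fst, Category.assoc, pullback.lift_fst]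
    · rw [pullback.lift_snd, Category.assoc, pullback.lift_snd, Category.comp_id]
  have hp : IsOpenPiece f g (U'.ι ≫ pullback.fst (o ≫ f) g ≫ o)
      (U'.ι ≫ pullback.snd (o ≫ f) g) := by
    refine ⟨hcomm, ?_⟩
    rw [hlift]
    infer_instance
  exact IsWeighting.flex'' hw g _ _ hp

end Groth.Agent.Helper15.Lcw
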