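import Groth.Agent.Lib.Helper15.Lcw3

/-!
# Points which are geometrically alone in their fibre
-/

set_option autoImplicit false
universe u
open CategoryTheory CategoryTheory.Limits AlgebraicGeometry

namespace Groth.Agent.Helper15.Lcw

open Groth.Agent.Helper15.Wt Groth.Agent.Helper15.NGeom

variable {U V : Scheme.{u}}

/-- The points which are geometrically alone in their fibre. -/
def Alone (π : U ⟶ V) : Set U :=
  {u | ∀ z : ↑(pullback π π), pullback.fst π π z = u → z ∈ Set.range (pullback.diagonal π)}

theorem alone_eq (π : U ⟶ V) :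
    Alone π = (pullback.fst π π '' (Set.range (pullback.diagonal π))ᶜ)ᶜ := by
  ext u
  simp only [Alone, Set.mem_ofPred_eq, Set.mem_compl_iff, Set.mem_image, not_exists, not_and]
  constructor
  · intro h z hz hzu
    exact hz (h z hzu)
  · intro h z hzu
    by_contra hz
    exact h z hz hzu

/-- The fibre integral at a point which is alone in its fibre. -/
theorem fibreIntegral_of_alone (π : U ⟶ V) [LocallyQuasiFinite π] (G : U → ℤ) (u : U)
    (hu : u ∈ Alone π) (hfin : (π ⁻¹' {π u}).Finite) :
    MoreMor.fibreIntegral π G (π u) = G u := by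
  obtain ⟨Ω, _, _, vb, hvb⟩ := exists_geomPt (π u)
  rw [← hvb] at hfin ⊢
  rw [fibreIntegral_eq_gInt π G vb hfin]
  unfold gInt
  obtain ⟨l₀, hl₀⟩ := exists_lift_through π vb u hvb.symm
  have huniq : ∀ l : Lifts π vb, l = l₀ := by
    intro l
    let zb : Spec (CommRingCat.of Ω) ⟶ pullback π π :=
      pullback.lift l₀.1 l.1 (l₀.2.trans l.2.symm)
    have hz : pullback.fst π π (zb (pt Ω)) = u := by
      rw [← Scheme.Hom.comp_apply, pullback.lift_fst]
      exact hl₀
    obtain ⟨u', hu'⟩ := hu _ hz
    obtain ⟨lb, hlb, -⟩ := exists_lift_of_mem_range (pullback.diagonal π) zb u' hu'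
    have h1 : l₀.1 = lb := by
      have := congrArg (· ≫ pullback.fst π π) hlb
      simp only [Category.assoc, pullback.diagonal_fst, Category.comp_id] at this
      rw [this]
      exact (pullback.lift_fst _ _ _).symm
    have h2 : l.1 = lb := by
      have := congrArg (· ≫ pullback.snd π π) hlb
      simp only [Category.assoc, pullback.diagonal_snd, Category.comp_id] at this
      rw [this]
      exact (pullback.lift_snd _ _ _).symm
    exact Subtype.ext (h2.trans h1.symm)
  letI : Unique (Lifts π vb) := ⟨⟨l₀⟩, huniq⟩
  rw [finsum_unique]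
  change G (l₀.1 (pt Ω)) = G u
  rw [hl₀]

/-- The set of points alone in their fibre is constructible. -/
theorem isConstructible_alone (π : U ⟶ V) [IsAffine U] [IsAffine V] [IsFinite π]
    [LocallyOfFinitePresentation π] : Topology.IsConstructible (Alone π) := by
  haveI : LocallyOfFinitePresentation (pullback.diagonal π ≫ pullback.fst π π) := by
    rw [pullback.diagonal_fst]; infer_instance
  haveI : LocallyOfFinitePresentation (pullback.diagonal π) :=
    lfp_of_comp_affine (pullback.diagonal π) (pullback.fst π π)
  rw [alone_eq, Topology.isConstructible_compl]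
  refine Scheme.Hom.isConstructible_image (pullback.fst π π) ?_
  rw [Topology.isConstructible_compl, ← Set.image_univ]
  exact ((pullback.diagonal π).isLocallyConstructible_image
    Topology.IsLocallyConstructible.univ).isConstructible

/-- The point of a one-point base change to an algebraically closed field maps to a point
alone in its fibre. -/
theorem mem_alone_of_isPullback (π : U ⟶ V) [LocallyQuasiFinite π] {W : Scheme.{u}}
    {L : Type u} [Field L] [IsAlgClosed L] (πW : W ⟶ Spec (CommRingCat.of L)) (mW : W ⟶ U)
    (c : Spec (CommRingCat.of L) ⟶ V) (sq : IsPullback mW πW π c) [Subsingleton W] (w₀ : W) :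
    mW w₀ ∈ Alone π := by
  haveI : LocallyQuasiFinite πW :=
    MorphismProperty.of_isPullback (P := @LocallyQuasiFinite) sq inferInstance
  intro z hz
  let θ : pullback πW πW ⟶ pullback π π := pullback.map πW πW π π mW mW c sq.w.symm sq.w.symm
  have hθ1 : θ ≫ pullback.fst π π = pullback.fst πW πW ≫ mW := pullback.lift_fst _ _ _
  have hθ2 : θ ≫ pullback.snd π π = pullback.snd πW πW ≫ mW := pullback.lift_snd _ _ _
  have hP : IsPullback (pullback.fst π π) (pullback.snd π π) π π := IsPullback.of_hasPullback _ _
  have hP' : IsPullback (pullback.fst πW πW) (pullback.snd πW πW) πW πW :=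
    IsPullback.of_hasPullback _ _
  have big : IsPullback (θ ≫ pullback.snd π π) (pullback.fst πW πW) π (mW ≫ π) := by
    rw [hθ2, sq.w]
    exact hP'.flip.paste_horiz sq
  have left : IsPullback θ (pullback.fst πW πW) (pullback.fst π π) mW :=
    IsPullback.of_right big hθ1 hP.flip
  have tot : IsPullback θ (pullback.fst πW πW ≫ πW) (pullback.fst π π ≫ π) c :=
    left.paste_vert sq
  have hzc : (pullback.fst π π ≫ π) z = c (pt L) := by
    rw [Scheme.Hom.comp_apply, hz, ← Scheme.Hom.comp_apply, sq.w, Scheme.Hom.comp_apply]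
    congr 1
    exact Subsingleton.elim _ _
  obtain ⟨z', hz'1, -⟩ := Scheme.exists_preimage_of_isPullback tot z (pt L) hzc
  obtain ⟨Ω₂, _, _, zb', hzb'⟩ := exists_geomPt z'
  let vs : Spec (CommRingCat.of Ω₂) ⟶ Spec (CommRingCat.of L) := zb' ≫ pullback.fst πW πW ≫ πW
  let l₁ : Lifts πW vs := ⟨zb' ≫ pullback.fst πW πW, by rw [Category.assoc]⟩
  let l₂ : Lifts πW vs := ⟨zb' ≫ pullback.snd πW πW, by
    rw [Category.assoc, ← pullback.condition]⟩
  have h12 : l₁ = l₂ := lifts_point_injective πW vs l₁ l₂ (Subsingleton.elim _ _)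
  have h12' : zb' ≫ pullback.fst πW πW = zb' ≫ pullback.snd πW πW := congrArg Subtype.val h12
  have hzb : zb' = (zb' ≫ pullback.fst πW πW) ≫ pullback.diagonal πW := by
    apply pullback.hom_ext
    · rw [Category.assoc, pullback.diagonal_fst, Category.comp_id]
    · rw [Category.assoc, pullback.diagonal_snd, Category.comp_id, h12']
  have hΔ : pullback.diagonal πW ≫ θ = mW ≫ pullback.diagonal π := by
    apply pullback.hom_ext
    · rw [Category.assoc, hθ1, pullback.diagonal_fst_assoc, Category.assoc,
        pullback.diagonal_fst, Category.comp_id]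
    · rw [Category.assoc, hθ2, pullback.diagonal_snd_assoc, Category.assoc,
        pullback.diagonal_snd, Category.comp_id]
  refine ⟨mW ((zb' ≫ pullback.fst πW πW) (pt Ω₂)), ?_⟩
  rw [← Scheme.Hom.comp_apply, ← hΔ, Scheme.Hom.comp_apply, ← Scheme.Hom.comp_apply _
    (pullback.diagonal πW), ← hzb, hzb', hz'1]

end Groth.Agent.Helper15.Lcw
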