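import Groth.Agent.Lib.Helper15.Lcw4
import Groth.Agent.Lib.Helper15.Ufo13

/-!
# Weightings of quasi-finite morphisms of finite presentation between affine schemes
-/

set_option autoImplicit false
universe u
open CategoryTheory CategoryTheory.Limits AlgebraicGeometry

namespace Groth.Agent.Helper15.Lcw

open Groth.Agent.Helper15.Wt Groth.Agent.Helper15.NGeom Groth.Agent.Helper15.Ufo

/-- **Representation of a weighting by a locally constant function on a universal family.** -/
theorem exists_rep {X Y : Scheme.{u}} (f : X ⟶ Y) [IsAffine X] [IsAffine Y]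
    [LocallyQuasiFinite f] [LocallyOfFinitePresentation f] (w : X → ℤ)
    (hw : MoreMor.IsWeighting f w) :
    ∃ (Uu Yu : Scheme.{u}) (q : Uu ⟶ X) (π : Uu ⟶ Yu) (Φ : Yu → ℤ), IsAffine Uu ∧ IsAffine Yu ∧
      LocallyOfFinitePresentation q ∧ IsFinite π ∧ LocallyOfFinitePresentation π ∧
      IsLocallyConstant Φ ∧ (∀ u ∈ Alone π, Φ (π u) = w (q u)) ∧
      ∀ x : X, ∃ u ∈ Alone π, q u = x := by
  obtain ⟨Yu, a, Uu, hYu, hlfp, hqc, hqs, hfin, hvers⟩ := universal_finite_open' f
  haveI := hYu
  haveI := hlfp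
  haveI := hfin
  let π : Uu.toScheme ⟶ Yu := Uu.ι ≫ pullback.snd f a
  let q : Uu.toScheme ⟶ X := Uu.ι ≫ pullback.fst f a
  haveI : IsFinite π := hfin
  haveI : IsAffine Uu.toScheme := isAffine_of_isAffineHom π
  have hwu : MoreMor.IsWeighting (pullback.snd f a) (w ∘ ⇑(pullback.fst f a)) :=
    IsWeighting.baseChange f w hw (pullback.snd f a) (pullback.fst f a) a
      (IsPullback.of_hasPullback f a)
  let G : Uu.toScheme → ℤ := fun u => w (q u)
  have hΦ : IsLocallyConstant (MoreMor.fibreIntegral π G) := by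
    have hcomm : Uu.ι ≫ pullback.snd f a = π ≫ 𝟙 Yu := (Category.comp_id _).symm
    have hp : IsOpenPiece (pullback.snd f a) (𝟙 Yu) Uu.ι π := by
      refine ⟨hcomm, ?_⟩
      haveI : IsOpenImmersion (pullback.lift Uu.ι π hcomm ≫
          pullback.fst (pullback.snd f a) (𝟙 Yu)) := by
        rw [pullback.lift_fst]; infer_instance
      exact IsOpenImmersion.of_comp _ (pullback.fst (pullback.snd f a) (𝟙 Yu))
    exact IsWeighting.flex'' hwu (𝟙 Yu) Uu.ι π hp
  have hfib : ∀ y : Yu, (π ⁻¹' {y}).Finite := fun y => Scheme.Hom.finite_preimage_singleton π y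
  refine ⟨Uu.toScheme, Yu, q, π, MoreMor.fibreIntegral π G, inferInstance, inferInstance,
    inferInstance, inferInstance, inferInstance, hΦ, ?_, ?_⟩
  · intro u hu
    exact fibreIntegral_of_alone π G u hu (hfib _)
  · intro x
    obtain ⟨Ω, _, _, xb, hxb⟩ := exists_geomPt x
    let b : Spec (CommRingCat.of Ω) ⟶ Y := xb ≫ f
    let σ : Spec (CommRingCat.of Ω) ⟶ pullback f b :=
      pullback.lift xb (𝟙 _) (by simp [b])
    let x' : ↑(pullback f b) := σ (pt Ω)
    haveI : IsLocallyArtinian (Spec (CommRingCat.of Ω)) :=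
      Scheme.isLocallyArtinianScheme_Spec.mpr inferInstance
    haveI : IsLocallyArtinian (pullback f b) :=
      IsLocallyArtinian.of_locallyQuasiFinite (pullback.snd f b)
    let U' : (pullback f b).Opens := ⟨{x'}, isOpen_discrete _⟩
    haveI : Subsingleton U'.toScheme :=
      ⟨fun p p' => Subtype.ext ((Set.mem_singleton_iff.1 p.2).trans
        (Set.mem_singleton_iff.1 p'.2).symm)⟩
    haveI : CompactSpace U'.toScheme := Finite.compactSpace
    haveI : QuasiCompact (U'.ι ≫ pullback.snd f b) :=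
      HasAffineProperty.iff_of_isAffine.mpr (inferInstanceAs (CompactSpace U'.toScheme))
    have hfinU' : IsFinite (U'.ι ≫ pullback.snd f b) := IsFinite.of_locallyQuasiFinite _
    obtain ⟨c, hc, hpre⟩ := hvers (Spec (CommRingCat.of Ω)) b U' inferInstance hfinU'
    set m : pullback f b ⟶ pullback f a := pullback.map f b f a (𝟙 X) c (𝟙 Y)
      ((Category.comp_id f).trans (Category.id_comp f).symm)
      ((Category.comp_id b).trans hc.symm) with hm
    have hm1 : m ≫ pullback.fst f a = pullback.fst f b :=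
      (pullback.lift_fst _ _ _).trans (Category.comp_id _)
    have hm2 : m ≫ pullback.snd f a = pullback.snd f b ≫ c := pullback.lift_snd _ _ _
    have sqm : IsPullback m (pullback.snd f b) (pullback.snd f a) c := by
      have big : IsPullback (m ≫ pullback.fst f a) (pullback.snd f b) f (c ≫ a) := by
        rw [hm1, hc]; exact IsPullback.of_hasPullback f b
      exact IsPullback.of_right big hm2 (IsPullback.of_hasPullback f a)
    have sqW : IsPullback (m ∣_ Uu) ((m ⁻¹ᵁ Uu).ι ≫ pullback.snd f b) π c :=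
      (isPullback_morphismRestrict m Uu).paste_vert sqm
    haveI : Subsingleton (m ⁻¹ᵁ Uu).toScheme := by
      rw [hpre]; infer_instance
    have hx'mem : x' ∈ m ⁻¹ᵁ Uu := by
      rw [hpre]; exact Set.mem_singleton _
    let w₀ : (m ⁻¹ᵁ Uu).toScheme := ⟨x', hx'mem⟩
    refine ⟨(m ∣_ Uu) w₀, mem_alone_of_isPullback π _ (m ∣_ Uu) c sqW w₀, ?_⟩
    change (pullback.fst f a) (Uu.ι ((m ∣_ Uu) w₀)) = x
    rw [← Scheme.Hom.comp_apply (m ∣_ Uu), morphismRestrict_ι, Scheme.Hom.comp_apply,
      ← Scheme.Hom.comp_apply m, hm1]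
    change (pullback.fst f b) (σ (pt Ω)) = x
    rw [← Scheme.Hom.comp_apply, pullback.lift_fst]
    exact hxb

end Groth.Agent.Helper15.Lcw
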