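import Groth.Agent.Lib.Helper15.Lcw5

/-!
# Level sets of weightings: the affine finitely presented case
-/

set_option autoImplicit false
universe u
open CategoryTheory CategoryTheory.Limits AlgebraicGeometry

namespace Groth.Agent.Helper15.Lcw

open Groth.Agent.Helper15.Wt

theorem isConstructible_levelSet_of_fp {X Y : Scheme.{u}} (f : X ⟶ Y) [IsAffine X] [IsAffine Y]
    [LocallyQuasiFinite f] [LocallyOfFinitePresentation f] (w : X → ℤ)
    (hw : MoreMor.IsWeighting f w) (n : ℤ) : Topology.IsConstructible {x : X | w x = n} := by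
  obtain ⟨Uu, Yu, q, π, Φ, h1, h2, h3, h4, h5, hΦ, hrep, hsurj⟩ := exists_rep f w hw
  have hset : {x : X | w x = n} = q '' (Alone π ∩ π ⁻¹' (Φ ⁻¹' {n})) := by
    ext x
    constructor
    · intro hx
      obtain ⟨u, hu, rfl⟩ := hsurj x
      refine ⟨u, ⟨hu, ?_⟩, rfl⟩
      change Φ (π u) = n
      rw [hrep u hu]
      exact hx
    · rintro ⟨u, ⟨hu, hun⟩, rfl⟩
      change w (q u) = n
      rw [← hrep u hu]
      exact hun
  rw [hset]
  have hc1 : Topology.IsConstructible (Φ ⁻¹' {n}) :=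
    ((hΦ.isClosed_fiber n).isCompact).isConstructible (hΦ.isOpen_fiber n)
  exact Scheme.Hom.isConstructible_image q
    ((isConstructible_alone π).inter (π.isConstructible_preimage hc1))

theorem finite_range_of_fp {X Y : Scheme.{u}} (f : X ⟶ Y) [IsAffine X] [IsAffine Y]
    [LocallyQuasiFinite f] [LocallyOfFinitePresentation f] (w : X → ℤ)
    (hw : MoreMor.IsWeighting f w) : (Set.range w).Finite := by
  obtain ⟨Uu, Yu, q, π, Φ, h1, h2, h3, h4, h5, hΦ, hrep, hsurj⟩ := exists_rep f w hw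
  refine hΦ.range_finite.subset ?_
  rintro _ ⟨x, rfl⟩
  obtain ⟨u, hu, rfl⟩ := hsurj x
  exact ⟨π u, hrep u hu⟩

end Groth.Agent.Helper15.Lcw
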