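import Groth.Agent.Lib.Helper15.Lcw6

/-!
# Weightings of quasi-finite morphisms of finite type: local reduction to finite presentation
-/

set_option autoImplicit false
universe u
open CategoryTheory CategoryTheory.Limits AlgebraicGeometry

namespace Groth.Agent.Helper15.Lcw

open Groth.Agent.Helper15.Wt Groth.Agent.Helper15.Ufo

/-- Locally a quasi-finite algebra of finite type is a quotient of a quasi-finite algebra of
finite presentation. -/
theorem exists_local_fp_model (R S : Type u) [CommRing R] [CommRing S] [Algebra R S]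
    [Algebra.FiniteType R S] [Algebra.QuasiFinite R S] (p : PrimeSpectrum S) :
    ∃ r : S, r ∉ p.asIdeal ∧ ∃ (T₁ : Type u) (_ : CommRing T₁) (_ : Algebra R T₁)
      (_ : Algebra.FinitePresentation R T₁) (_ : Algebra.QuasiFinite R T₁)
      (χ : T₁ →ₐ[R] Localization.Away r), Function.Surjective χ := by
  classical
  obtain ⟨S', rs₀, hfin, hmem, hspan, hsurj⟩ := exists_finite_subalgebra_cover R S
  obtain ⟨T₀, i1, i2, i3, i4, i5, ψ, hψ⟩ := exists_finite_free_cover R S S'
  obtain ⟨r, hr, hrp⟩ : ∃ r ∈ rs₀, r ∉ p.asIdeal := by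
    by_contra hcon
    push Not at hcon
    have hle : Ideal.span (rs₀ : Set S) ≤ p.asIdeal := Ideal.span_le.2 (fun r hr => hcon r hr)
    rw [hspan] at hle
    exact p.isPrime.ne_top (top_le_iff.1 hle)
  obtain ⟨r', rfl⟩ := hψ (hmem r hr)
  refine ⟨ψ r', hrp, Localization.Away r', inferInstance, inferInstance, ?_, inferInstance,
    Localization.awayMapₐ ψ r', ?_⟩
  · haveI : Algebra.FinitePresentation T₀ (Localization.Away r') :=
      IsLocalization.Away.finitePresentation r'
    exact Algebra.FinitePresentation.trans R T₀ (Localization.Away r')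
  · change Function.Surjective (Localization.awayMap (ψ : T₀ →+* S) r')
    rw [Localization.awayMap_surjective_iff]
    intro s
    obtain ⟨m, hm⟩ := hsurj (ψ r') hr s
    obtain ⟨t, ht⟩ := hψ hm
    exact ⟨t, m, ht⟩

open Model in
/-- The Spec-level local statement. -/
theorem spec_local (R S : Type u) [CommRing R] [CommRing S] [Algebra R S]
    [Algebra.FiniteType R S] [Algebra.QuasiFinite R S] (w : Spec (CommRingCat.of S) → ℤ)
    (hw : MoreMor.IsWeighting (str R S) w) (p : Spec (CommRingCat.of S)) :
    ∃ r : S, r ∉ (show PrimeSpectrum S from p).asIdeal ∧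
      (∀ n : ℤ, Topology.IsConstructible {z : Spec (CommRingCat.of (Localization.Away r)) |
        w (Spec.map (CommRingCat.ofHom (algebraMap S (Localization.Away r))) z) = n}) ∧
      (Set.range (fun z : Spec (CommRingCat.of (Localization.Away r)) =>
        w (Spec.map (CommRingCat.ofHom (algebraMap S (Localization.Away r))) z))).Finite := by
  classical
  obtain ⟨r, hrp, T₁, j1, j2, j3, j4, χ, hχ⟩ := exists_local_fp_model R S p
  refine ⟨r, hrp, ?_⟩
  let o : Spec (CommRingCat.of (Localization.Away r)) ⟶ Spec (CommRingCat.of S) :=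
    Spec.map (CommRingCat.ofHom (algebraMap S (Localization.Away r)))
  let w_r : Spec (CommRingCat.of (Localization.Away r)) → ℤ := fun z => w (o z)
  have ho : o ≫ str R S = str R (Localization.Away r) := by
    rw [← Spec.map_comp]
    congr 1
  have hw_r : MoreMor.IsWeighting (str R (Localization.Away r)) w_r := by
    rw [← ho]
    exact IsWeighting.comp_openImmersion hw o
  let i : Spec (CommRingCat.of (Localization.Away r)) ⟶ Spec (CommRingCat.of T₁) :=
    Spec.map (CommRingCat.ofHom (χ : T₁ →+* Localization.Away r))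
  haveI : IsClosedImmersion i := IsClosedImmersion.spec_of_surjective _ hχ
  have hi : i ≫ str R T₁ = str R (Localization.Away r) := by
    rw [← Spec.map_comp]
    congr 1
    ext x
    exact χ.commutes x
  haveI : LocallyQuasiFinite (str R T₁) :=
    (HasRingHomProperty.Spec_iff (P := @LocallyQuasiFinite)).2
      (RingHom.quasiFinite_algebraMap.2 j4)
  haveI : LocallyOfFinitePresentation (str R T₁) :=
    (HasRingHomProperty.Spec_iff (P := @LocallyOfFinitePresentation)).2
      (RingHom.finitePresentation_algebraMap.2 j3)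
  let w₁ : Spec (CommRingCat.of T₁) → ℤ :=
    fun t => if h : t ∈ Set.range i then w_r h.choose else 0
  have h1 : ∀ z, w₁ (i z) = w_r z := by
    intro z
    have hz : i z ∈ Set.range i := ⟨z, rfl⟩
    simp only [w₁, dif_pos hz]
    congr 1
    exact i.isEmbedding.injective hz.choose_spec
  have h0 : ∀ t, t ∉ Set.range i → w₁ t = 0 := fun t ht => by simp only [w₁, dif_neg ht]
  have hw₁ : MoreMor.IsWeighting (str R T₁) w₁ :=
    IsWeighting.extByZero i (str R T₁) w_r (by rw [hi]; exact hw_r) w₁ h1 h0
  refine ⟨fun n => ?_, ?_⟩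
  · have hc := isConstructible_levelSet_of_fp (str R T₁) w₁ hw₁ n
    have hpre := i.isConstructible_preimage hc
    convert hpre using 1
    ext z
    change w_r z = n ↔ w₁ (i z) = n
    rw [h1]
  · refine (finite_range_of_fp (str R T₁) w₁ hw₁).subset ?_
    rintro _ ⟨z, rfl⟩
    exact ⟨i z, h1 z⟩

end Groth.Agent.Helper15.Lcw
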