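import Groth.Agent.Lib.Helper15.Lcw7

/-!
# Level sets of weightings are locally constructible
-/

set_option autoImplicit false
universe u
open CategoryTheory CategoryTheory.Limits AlgebraicGeometry

namespace Groth.Agent.Helper15.Lcw

open Groth.Agent.Helper15.Wt Groth.Agent.Helper15.Ufo

/-- Local affine charts on which a weighting has constructible level sets and finite range. -/
theorem exists_chart {X Y : Scheme.{u}} (f : X ⟶ Y) [LocallyQuasiFinite f]
    [LocallyOfFiniteType f] (w : X → ℤ) (hw : MoreMor.IsWeighting f w) (x : X) :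
    ∃ (S' : CommRingCat.{u}) (o : Spec S' ⟶ X), IsOpenImmersion o ∧ x ∈ Set.range o ∧
      (∀ n : ℤ, Topology.IsConstructible {z : Spec S' | w (o z) = n}) ∧
      (Set.range (fun z : Spec S' => w (o z))).Finite := by
  obtain ⟨_, ⟨(V : Y.Opens), hV, rfl⟩, hxV, -⟩ := Y.isBasis_affineOpens.exists_subset_of_mem_open
    (Set.mem_univ (f x)) isOpen_univ
  obtain ⟨_, ⟨(U : X.Opens), hU, rfl⟩, hxU, hUV⟩ := X.isBasis_affineOpens.exists_subset_of_mem_open
    (show x ∈ (f ⁻¹ᵁ V : Set X) from hxV) (f ⁻¹ᵁ V).isOpen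
  have e : U ≤ f ⁻¹ᵁ V := hUV
  let φ := f.appLE V U e
  letI : Algebra Γ(Y, V) Γ(X, U) := φ.hom.toAlgebra
  haveI : Algebra.FiniteType Γ(Y, V) Γ(X, U) :=
    HasRingHomProperty.appLE (P := @LocallyOfFiniteType) f inferInstance ⟨V, hV⟩ ⟨U, hU⟩ e
  haveI : Algebra.QuasiFinite Γ(Y, V) Γ(X, U) :=
    HasRingHomProperty.appLE (P := @LocallyQuasiFinite) f inferInstance ⟨V, hV⟩ ⟨U, hU⟩ e
  have hcomm : Spec.map φ ≫ hV.fromSpec = hU.fromSpec ≫ f := IsAffineOpen.SpecMap_appLE_fromSpec f hV hU e
  let w' : Spec Γ(X, U) → ℤ := fun z => w (hU.fromSpec z)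
  have hw' : MoreMor.IsWeighting (Model.str Γ(Y, V) Γ(X, U)) w' := by
    have h1 : MoreMor.IsWeighting (hU.fromSpec ≫ f) w' := IsWeighting.comp_openImmersion hw _
    rw [← hcomm] at h1
    exact IsWeighting.of_comp_mono hV.fromSpec h1
  obtain ⟨p, hp⟩ : ∃ p : Spec Γ(X, U), hU.fromSpec p = x := by
    have : x ∈ Set.range hU.fromSpec := by
      rw [hU.range_fromSpec]; exact hxU
    exact this
  obtain ⟨r, hrp, hcon, hfin⟩ := spec_local Γ(Y, V) Γ(X, U) w' hw' p
  refine ⟨CommRingCat.of (Localization.Away r),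
    Spec.map (CommRingCat.ofHom (algebraMap Γ(X, U) (Localization.Away r))) ≫ hU.fromSpec,
    inferInstance, ?_, hcon, hfin⟩
  have hpr : p ∈ Set.range (Spec.map (CommRingCat.ofHom
      (algebraMap Γ(X, U) (Localization.Away r)))) := by
    have := PrimeSpectrum.localization_away_comap_range (Localization.Away r) r
    change p ∈ Set.range (PrimeSpectrum.comap (algebraMap Γ(X, U) (Localization.Away r)))
    rw [this]
    exact hrp
  obtain ⟨z, hz⟩ := hpr
  exact ⟨z, by rw [Scheme.Hom.comp_apply, hz, hp]⟩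

/-- **Level sets of a weighting are locally constructible.** -/
theorem isLocallyConstructible_levelSet {X Y : Scheme.{u}} (f : X ⟶ Y) [LocallyQuasiFinite f]
    [LocallyOfFiniteType f] (w : X → ℤ) (hw : MoreMor.IsWeighting f w) (n : ℤ) :
    Topology.IsLocallyConstructible {x : X | w x = n} := by
  choose S' o ho hx hcon hfin using exists_chart f w hw
  haveI := ho
  refine Topology.IsLocallyConstructible.of_isOpenCover (U := fun x => (o x).opensRange) ?_
    (fun x => ?_)
  · refine TopologicalSpace.IsOpenCover.mk ?_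
    rw [eq_top_iff]
    intro x _
    exact TopologicalSpace.Opens.mem_iSup.2 ⟨x, hx x⟩
  · have h1 := ((hcon x n).isLocallyConstructible).preimage_of_isOpenEmbedding
      (o x).isoOpensRange.inv.isOpenEmbedding
    have hset : ((o x).isoOpensRange.inv ⁻¹' {z : Spec (S' x) | w (o x z) = n}) =
        (((o x).opensRange.ι : (o x).opensRange.toScheme → X) ⁻¹' {x : X | w x = n}) := by
      ext z
      change w ((o x) ((o x).isoOpensRange.inv z)) = n ↔ w ((o x).opensRange.ι z) = n
      rw [← Scheme.Hom.comp_apply, Scheme.Hom.isoOpensRange_inv_comp]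
    rw [hset] at h1
    exact h1

end Groth.Agent.Helper15.Lcw
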