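import Groth.Agent.Lib.Helper15.Lcw8

/-!
# A uniform bound for the number of geometric points in the fibres of a quasi-finite morphism
-/

set_option autoImplicit false
universe u
open CategoryTheory CategoryTheory.Limits AlgebraicGeometry

namespace Groth.Agent.Helper15.Lcw

open Groth.Agent.Helper15.Wt Groth.Agent.Helper15.Ufo

/-- Ring homomorphisms to a field out of a quasi-finite algebra are determined on a finite
subalgebra covering it. -/
theorem ringHom_ext_of_cover {S Ω : Type u} [CommRing S] [Field Ω] (S' : Set S) (rs₀ : Finset S)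
    (hmem : ∀ r ∈ rs₀, r ∈ S') (hspan : Ideal.span (rs₀ : Set S) = ⊤)
    (hsurj : ∀ r ∈ rs₀, ∀ s : S, ∃ m : ℕ, r ^ m * s ∈ S') (χ χ' : S →+* Ω)
    (h : ∀ s ∈ S', χ s = χ' s) : χ = χ' := by
  obtain ⟨r, hr, hχr⟩ : ∃ r ∈ rs₀, χ r ≠ 0 := by
    by_contra hcon
    push Not at hcon
    have hle : Ideal.span (rs₀ : Set S) ≤ RingHom.ker χ :=
      Ideal.span_le.2 (fun r hr => hcon r hr)
    rw [hspan] at hle
    have h1 : (1 : S) ∈ RingHom.ker χ := hle Submodule.mem_top
    rw [RingHom.mem_ker, map_one] at h1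
    exact one_ne_zero h1
  ext s
  obtain ⟨m, hm⟩ := hsurj r hr s
  have h1 := h _ hm
  rw [map_mul, map_mul, map_pow, map_pow, ← h r (hmem r hr)] at h1
  exact mul_left_cancel₀ (pow_ne_zero m hχr) h1

theorem card_lifts_le (R S : Type u) [CommRing R] [CommRing S] [Algebra R S]
    [Algebra.FiniteType R S] [Algebra.QuasiFinite R S] :
    ∃ N : ℕ, ∀ (Ω : Type u) [Field Ω] (vb : Spec (CommRingCat.of Ω) ⟶ Spec (CommRingCat.of R)),
      Finite (Lifts (Model.str R S) vb) ∧ Nat.card (Lifts (Model.str R S) vb) ≤ N := by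
  classical
  obtain ⟨S', rs₀, hfin, hmem, hspan, hsurj⟩ := exists_finite_subalgebra_cover R S
  obtain ⟨T₀, i1, i2, i3, i4, i5, ψ, hψ⟩ := exists_finite_free_cover R S S'
  refine ⟨Module.finrank R T₀, fun Ω _ vb => ?_⟩
  let β : CommRingCat.of R ⟶ CommRingCat.of Ω := Spec.preimage vb
  have hβ : Spec.map β = vb := Spec.map_preimage vb
  letI : Algebra R Ω := β.hom.toAlgebra
  have hχ : ∀ l : Lifts (Model.str R S) vb, ∀ r : R,
      (Spec.preimage l.1).hom (algebraMap R S r) = algebraMap R Ω r := by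
    intro l r
    have h1 : Spec.map (CommRingCat.ofHom (algebraMap R S) ≫ Spec.preimage l.1) = Spec.map β := by
      rw [Spec.map_comp, Spec.map_preimage, hβ]
      exact l.2
    have h2 := Spec.map_injective h1
    exact congrArg (fun g => g.hom r) h2
  let Φ : Lifts (Model.str R S) vb → (T₀ →ₐ[R] Ω) := fun l =>
    ({ (Spec.preimage l.1).hom with commutes' := hχ l } : S →ₐ[R] Ω).comp ψ
  have hΦ : Function.Injective Φ := by
    intro l l' hll
    have h1 : ∀ t : T₀, (Spec.preimage l.1).hom (ψ t) = (Spec.preimage l'.1).hom (ψ t) :=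
      fun t => DFunLike.congr_fun hll t
    have h2 : (Spec.preimage l.1).hom = (Spec.preimage l'.1).hom := by
      refine ringHom_ext_of_cover (S' : Set S) rs₀ hmem hspan hsurj _ _ (fun s hs => ?_)
      obtain ⟨t, rfl⟩ := hψ hs
      exact h1 t
    have h3 : Spec.preimage l.1 = Spec.preimage l'.1 := CommRingCat.hom_ext h2
    have h4 : l.1 = l'.1 := by
      rw [← Spec.map_preimage l.1, ← Spec.map_preimage l'.1, h3]
    exact Subtype.ext h4
  haveI : Finite (Lifts (Model.str R S) vb) := Finite.of_injective Φ hΦ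
  exact ⟨inferInstance, (Nat.card_le_card_of_injective Φ hΦ).trans
    (card_algHom_le_finrank R T₀ Ω)⟩

end Groth.Agent.Helper15.Lcw
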