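import Mathlib

set_option autoImplicit false
set_option linter.unusedSectionVars false
set_option linter.unusedVariables false
set_option linter.style.haveILetI false
universe u

open TensorProduct

namespace Groth.Agent.Helper15.LiftU

theorem exists_lift_u_aux {Q T P₀ P' W : Type u} [CommRing Q] [CommRing T] [Algebra Q T]
    [Module.Flat Q T] [AddCommGroup P₀] [Module Q P₀] [AddCommGroup P'] [Module T P']
    [Module.Projective T P'] [AddCommGroup W] [Module T W]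
    (𝔞 𝔟 : Ideal Q) (h𝔟𝔞 : 𝔟 ≤ 𝔞) (Δ : 𝔞 →ₗ[Q] P₀) (hΔ : Function.Surjective Δ)
    (hΔker : ∀ f : 𝔞, Δ f = 0 ↔ (f : Q) ∈ 𝔟) (h𝔞P₀ : ∀ f ∈ 𝔞, ∀ p : P₀, f • p = 0)
    (hβ1 : ∀ τ : T, ∃ q : Q, τ - algebraMap Q T q ∈ 𝔞.map (algebraMap Q T))
    (j : P₀ →+ W) (hj : Function.Bijective j)
    (hjsmul : ∀ (q : Q) (p : P₀), j (q • p) = algebraMap Q T q • j p)
    (mk1 : P' →ₗ[T] W) (hmk1 : Function.Surjective mk1)
    (hker : ∀ x, mk1 x = 0 → x ∈ 𝔞.map (algebraMap Q T) • (⊤ : Submodule T P')) :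
    ∃ u : P' →ₗ[T] T, (∀ x, u x ∈ 𝔞.map (algebraMap Q T)) ∧
      (𝔞.map (algebraMap Q T) ≤ LinearMap.range u ⊔ 𝔟.map (algebraMap Q T)) ∧
      (∀ x, u x ∈ 𝔟.map (algebraMap Q T) → x ∈ 𝔞.map (algebraMap Q T) • (⊤ : Submodule T P')) := by
  classical
  letI : Module Q W := Module.compHom W (algebraMap Q T)
  haveI : IsScalarTower Q T W := IsScalarTower.of_algebraMap_smul fun _ _ => rfl
  let jQ : P₀ →ₗ[Q] W :=
    { toFun := j
      map_add' := map_add j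
      map_smul' := fun q p => hjsmul q p }
  have hjQ : ∀ p, jQ p = j p := fun _ => rfl
  -- m
  let m : T ⊗[Q] 𝔞 →ₗ[T] T :=
    (AlgebraTensorModule.rid Q T T).toLinearMap ∘ₗ AlgebraTensorModule.lTensor T T 𝔞.subtype
  have hm_tmul : ∀ (τ : T) (f : 𝔞), m (τ ⊗ₜ f) = algebraMap Q T f * τ := by
    intro τ f
    simp [m, Algebra.smul_def]
  have hm_inj : Function.Injective m := by
    have h1 : Function.Injective (LinearMap.lTensor T 𝔞.subtype) :=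
      Module.Flat.lTensor_preserves_injective_linearMap _ (Submodule.injective_subtype _)
    intro a b hab
    apply h1
    apply (AlgebraTensorModule.rid Q T T).injective
    exact hab
  have hm_mem : ∀ z, m z ∈ 𝔞.map (algebraMap Q T) := by
    intro z
    induction z using TensorProduct.induction_on with
    | zero => simp
    | tmul τ f =>
      rw [hm_tmul]
      exact Ideal.mul_mem_right _ _ (Ideal.mem_map_of_mem _ f.2)
    | add a b ha hb => rw [map_add]; exact Ideal.add_mem _ ha hb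
  have hm_range : ∀ a ∈ 𝔞.map (algebraMap Q T), ∃ z, m z = a := by
    intro a ha
    induction ha using Submodule.span_induction with
    | mem x hx =>
      obtain ⟨f, hf, rfl⟩ := hx
      exact ⟨(1 : T) ⊗ₜ (⟨f, hf⟩ : 𝔞), by rw [hm_tmul]; simp⟩
    | zero => exact ⟨0, map_zero _⟩
    | add x y _ _ hx hy =>
      obtain ⟨z1, rfl⟩ := hx; obtain ⟨z2, rfl⟩ := hy
      exact ⟨z1 + z2, map_add _ _ _⟩
    | smul t x _ hx =>
      obtain ⟨z1, rfl⟩ := hx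
      exact ⟨t • z1, map_smul _ _ _⟩
  -- jt, p₁
  let jt : T ⊗[Q] P₀ →ₗ[T] W :=
    AlgebraTensorModule.lift (LinearMap.toSpanSingleton T (P₀ →ₗ[Q] W) jQ)
  have hjt : ∀ (τ : T) (p : P₀), jt (τ ⊗ₜ p) = τ • j p := by
    intro τ p
    simp [jt, hjQ]
  let p₁ : T ⊗[Q] 𝔞 →ₗ[T] W := jt ∘ₗ AlgebraTensorModule.lTensor T T Δ
  have hp₁ : ∀ (τ : T) (f : 𝔞), p₁ (τ ⊗ₜ f) = τ • j (Δ f) := by
    intro τ f
    simp only [p₁, LinearMap.comp_apply, AlgebraTensorModule.lTensor_tmul, hjt]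
  have hz : ∀ a ∈ 𝔞.map (algebraMap Q T), ∀ p : P₀, (a ⊗ₜ[Q] p : T ⊗[Q] P₀) = 0 := by
    intro a ha p
    induction ha using Submodule.span_induction with
    | mem x hx =>
      obtain ⟨f, hf, rfl⟩ := hx
      rw [Algebra.algebraMap_eq_smul_one, smul_tmul, h𝔞P₀ f hf, tmul_zero]
    | zero => exact zero_tmul _ _
    | add x y _ _ hx hy => rw [add_tmul, hx, hy, add_zero]
    | smul t x _ hx => rw [← smul_tmul', hx, smul_zero]
  have hone : ∀ z : T ⊗[Q] P₀, ∃ p : P₀, z = (1 : T) ⊗ₜ[Q] p := by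
    intro z
    induction z using TensorProduct.induction_on with
    | zero => exact ⟨0, by simp⟩
    | tmul τ p =>
      obtain ⟨q, hq⟩ := hβ1 τ
      refine ⟨q • p, ?_⟩
      have h1 : τ ⊗ₜ[Q] p = (algebraMap Q T q) ⊗ₜ[Q] p + (τ - algebraMap Q T q) ⊗ₜ[Q] p := by
        rw [← add_tmul]; congr 1; ring
      rw [h1, hz _ hq, add_zero, Algebra.algebraMap_eq_smul_one, smul_tmul]
    | add a b ha hb =>
      obtain ⟨p, rfl⟩ := ha; obtain ⟨p', rfl⟩ := hb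
      exact ⟨p + p', by rw [tmul_add]⟩
  have hjt_inj : ∀ z, jt z = 0 → z = 0 := by
    intro z hz0
    obtain ⟨p, rfl⟩ := hone z
    rw [hjt, one_smul] at hz0
    have : p = 0 := hj.1 (by rw [hz0, map_zero])
    rw [this, tmul_zero]
  -- key
  have hkey1 : ∀ z, p₁ z = 0 → m z ∈ 𝔟.map (algebraMap Q T) := by
    intro z hz0
    have h1 : LinearMap.lTensor T Δ z = 0 := hjt_inj _ hz0
    have h2 := (lTensor_exact T (LinearMap.exact_subtype_ker_map Δ) hΔ z).1 h1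
    obtain ⟨z', rfl⟩ := h2
    induction z' using TensorProduct.induction_on with
    | zero => simp
    | tmul τ k =>
      have : LinearMap.lTensor T (LinearMap.ker Δ).subtype (τ ⊗ₜ k) = τ ⊗ₜ (k : 𝔞) := rfl
      rw [this, hm_tmul]
      have hk : ((k : 𝔞) : Q) ∈ 𝔟 := (hΔker _).1 k.2
      exact Ideal.mul_mem_right _ _ (Ideal.mem_map_of_mem _ hk)
    | add a b ha hb =>
      rw [map_add, map_add]
      have h3 : ∀ w, LinearMap.lTensor T Δ (LinearMap.lTensor T (LinearMap.ker Δ).subtype w) = 0 :=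
        fun w => (lTensor_exact T (LinearMap.exact_subtype_ker_map Δ) hΔ _).2 ⟨w, rfl⟩
      have h4 : ∀ w, p₁ (LinearMap.lTensor T (LinearMap.ker Δ).subtype w) = 0 := by
        intro w
        change jt (LinearMap.lTensor T Δ _) = 0
        rw [h3, map_zero]
      exact Ideal.add_mem _ (ha (h4 a) (h3 a)) (hb (h4 b) (h3 b))
  have hkey2' : ∀ b ∈ 𝔟.map (algebraMap Q T), ∃ z', m z' = b ∧ p₁ z' = 0 := by
    intro b hb
    induction hb using Submodule.span_induction with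
    | mem x hx =>
      obtain ⟨β, hβ, rfl⟩ := hx
      refine ⟨(1 : T) ⊗ₜ (⟨β, h𝔟𝔞 hβ⟩ : 𝔞), by rw [hm_tmul]; simp, ?_⟩
      rw [hp₁, (hΔker _).2 hβ, map_zero, smul_zero]
    | zero => exact ⟨0, map_zero _, map_zero _⟩
    | add x y _ _ hx hy =>
      obtain ⟨z1, rfl, h1⟩ := hx; obtain ⟨z2, rfl, h2⟩ := hy
      exact ⟨z1 + z2, map_add _ _ _, by rw [map_add, h1, h2, add_zero]⟩
    | smul t x _ hx =>
      obtain ⟨z1, rfl, h1⟩ := hx
      exact ⟨t • z1, map_smul _ _ _, by rw [map_smul, h1, smul_zero]⟩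
  have hkey2 : ∀ z, m z ∈ 𝔟.map (algebraMap Q T) → p₁ z = 0 := by
    intro z hz0
    obtain ⟨z', h1, h2⟩ := hkey2' _ hz0
    rw [← hm_inj h1]; exact h2
  have hp₁surj : Function.Surjective p₁ := by
    intro w
    obtain ⟨p, rfl⟩ := hj.2 w
    obtain ⟨f, rfl⟩ := hΔ p
    exact ⟨(1 : T) ⊗ₜ f, by rw [hp₁, one_smul]⟩
  obtain ⟨ũ, hũ⟩ := Module.projective_lifting_property p₁ mk1 hp₁surj
  have hũ' : ∀ x, p₁ (ũ x) = mk1 x := fun x => LinearMap.congr_fun hũ x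
  refine ⟨m ∘ₗ ũ, fun x => hm_mem _, ?_, ?_⟩
  · intro a ha
    obtain ⟨z, rfl⟩ := hm_range a ha
    obtain ⟨x, hx⟩ := hmk1 (p₁ z)
    have h0 : p₁ (z - ũ x) = 0 := by rw [map_sub, hũ', hx, sub_self]
    have h1 := hkey1 _ h0
    refine Submodule.mem_sup.2 ⟨(m ∘ₗ ũ) x, ⟨x, rfl⟩, m (z - ũ x), h1, ?_⟩
    rw [LinearMap.comp_apply, map_sub]; abel
  · intro x hx
    have h1 : p₁ (ũ x) = 0 := hkey2 _ hx
    rw [hũ'] at h1
    exact hker x h1

theorem exists_lift_u {Q T P₀ P' : Type u} [CommRing Q] [CommRing T] [Algebra Q T] [Module.Flat Q T] [AddCommGroup P₀] [Module Q P₀] [AddCommGroup P'] [Module T P'] [Module.Projective T P'] (𝔞 𝔟 : Ideal Q) (h𝔟𝔞 : 𝔟 ≤ 𝔞) (Δ : 𝔞 →ₗ[Q] P₀) (hΔ : Function.Surjective Δ) (hΔker : ∀ f : 𝔞, Δ f = 0 ↔ (f : Q) ∈ 𝔟) (h𝔞P₀ : ∀ f ∈ 𝔞, ∀ p : P₀, f • p = 0) (hβ1 : ∀ τ : T, ∃ q : Q, τ - algebraMap Q T q ∈ 𝔞.map (algebraMap Q T)) (j : P₀ →+ (T ⧸ 𝔞.map (algebraMap Q T))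 ⊗[T] P') (hj : Function.Bijective j) (hjsmul : ∀ (q : Q) (p : P₀), j (q • p) = algebraMap Q T q • j p) : ∃ u : P' →ₗ[T] T, (∀ x, u x ∈ 𝔞.map (algebraMap Q T)) ∧ (𝔞.map (algebraMap Q T) ≤ LinearMap.range u ⊔ 𝔟.map (algebraMap Q T)) ∧ (∀ x, u x ∈ 𝔟.map (algebraMap Q T) → x ∈ 𝔞.map (algebraMap Q T) • (⊤ : Submodule T P')) := by
  refine exists_lift_u_aux 𝔞 𝔟 h𝔟𝔞 Δ hΔ hΔker h𝔞P₀ hβ1 j hj hjsmul
    (TensorProduct.mk T (T ⧸ 𝔞.map (algebraMap Q T)) P' 1) ?_ ?_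
  · intro w
    refine ⟨(quotTensorEquivQuotSMul P' (𝔞.map (algebraMap Q T)) w).out, ?_⟩
    apply (quotTensorEquivQuotSMul P' (𝔞.map (algebraMap Q T))).injective
    rw [TensorProduct.mk_apply, quotTensorEquivQuotSMul_mk_one_tmul]
    exact Quotient.out_eq _
  · intro x hx
    have := congrArg (quotTensorEquivQuotSMul P' (𝔞.map (algebraMap Q T))) hx
    rw [TensorProduct.mk_apply, quotTensorEquivQuotSMul_mk_one_tmul, map_zero,
      Submodule.Quotient.mk_eq_zero] at this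
    exact this

end Groth.Agent.Helper15.LiftU
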