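import Groth.Prelude.Def_W4stk3formalspacesTaut

set_option autoImplicit false
universe u v

namespace Groth.Agent.Helper15

section
variable {B : Type u} [CommRing B] [TopologicalSpace B] [IsTopologicalRing B]

theorem closure_mul_le (P Q : Ideal B) : P.closure * Q.closure ≤ (P * Q).closure := by
  rw [Ideal.mul_le]
  intro r hr s hs
  have hr' : r ∈ closure (P : Set B) := by rw [← Ideal.coe_closure]; exact hr
  have hs' : s ∈ closure (Q : Set B) := by rw [← Ideal.coe_closure]; exact hs
  have : r * s ∈ closure ((P * Q : Ideal B) : Set B) :=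
    map_mem_closure₂ continuous_mul hr' hs' (fun a ha b hb => Ideal.mul_mem_mul ha hb)
  rw [← Ideal.coe_closure] at this
  exact this

theorem closure_pow_le (P : Ideal B) (n : ℕ) : P.closure ^ n ≤ (P ^ n).closure := by
  induction n with
  | zero =>
    simp only [pow_zero, Ideal.one_eq_top]
    intro x _
    have : x ∈ closure ((⊤ : Ideal B) : Set B) := subset_closure trivial
    rw [← Ideal.coe_closure] at this
    exact this
  | succ n ih =>
    rw [pow_succ, pow_succ]
    exact (Ideal.mul_mono_left ih).trans (closure_mul_le _ _)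

theorem ideal_closure_mono {P Q : Ideal B} (h : P ≤ Q) : P.closure ≤ Q.closure := by
  intro x hx
  have hx' : x ∈ closure (P : Set B) := by rw [← Ideal.coe_closure]; exact hx
  have : x ∈ closure (Q : Set B) := closure_mono h hx'
  rw [← Ideal.coe_closure] at this
  exact this

theorem ideal_le_closure (P : Ideal B) : P ≤ P.closure := by
  intro x hx
  have : x ∈ closure (P : Set B) := subset_closure hx
  rw [← Ideal.coe_closure] at this
  exact this

theorem isClosed_of_isOpen_ideal (K : Ideal B) (hK : IsOpen (K : Set B)) : IsClosed (K : Set B) :=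
  AddSubgroup.isClosed_of_isOpen K.toAddSubgroup hK

theorem ideal_closure_le_of_isOpen {P K : Ideal B} (hK : IsOpen (K : Set B)) (h : P ≤ K) :
    P.closure ≤ K := by
  intro x hx
  have hx' : x ∈ closure (P : Set B) := by rw [← Ideal.coe_closure]; exact hx
  exact closure_minimal h (isClosed_of_isOpen_ideal K hK) hx'

theorem isOpen_ideal_closure {P : Ideal B} (hP : IsOpen (P : Set B)) :
    IsOpen (P.closure : Set B) :=
  Submodule.isOpen_mono (ideal_le_closure P) hP

end

section
variable {B : Type u} [CommRing B] [TopologicalSpace B] [IsTopologicalRing B]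

theorem isIdealOfDefinition_of_isAdic {J : Ideal B} (h : IsAdic J) :
    LinTop.IsIdealOfDefinition B J := by
  rw [isAdic_iff] at h
  refine ⟨by simpa using h.1 1, ?_⟩
  intro U hU
  obtain ⟨n, hn⟩ := h.2 U hU
  refine ⟨n + 1, Nat.succ_pos n, Set.Subset.trans ?_ hn⟩
  exact Ideal.pow_le_pow_right (Nat.le_succ n)

theorem IsIdealOfDefinition.exists_pow_le {I K : Ideal B} (hI : LinTop.IsIdealOfDefinition B I)
    (hK : IsOpen (K : Set B)) : ∃ n : ℕ, 0 < n ∧ I ^ n ≤ K := by
  obtain ⟨n, hn, h⟩ := hI.2 K (hK.mem_nhds K.zero_mem)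
  exact ⟨n, hn, fun x hx => h hx⟩

theorem isAdic_of_le_of_pow_le {K L : Ideal B} (hK : IsAdic K) (hKL : K ≤ L) {r : ℕ}
    (hr : L ^ r ≤ K) : IsAdic L := by
  rw [isAdic_iff] at hK ⊢
  refine ⟨fun n => Submodule.isOpen_mono (Ideal.pow_right_mono hKL n) (hK.1 n), ?_⟩
  intro U hU
  obtain ⟨n, hn⟩ := hK.2 U hU
  refine ⟨r * n, Set.Subset.trans ?_ hn⟩
  rw [pow_mul]
  exact Ideal.pow_right_mono hr n

theorem isIdealOfDefinition_of_le_of_pow_le {K L : Ideal B} (hK : LinTop.IsIdealOfDefinition B K)
    (hKL : K ≤ L) {r : ℕ} (hr0 : 0 < r) (hr : L ^ r ≤ K) : LinTop.IsIdealOfDefinition B L := by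
  refine ⟨Submodule.isOpen_mono hKL hK.1, ?_⟩
  intro U hU
  obtain ⟨n, hn0, hn⟩ := hK.2 U hU
  refine ⟨r * n, Nat.mul_pos hr0 hn0, Set.Subset.trans ?_ hn⟩
  rw [pow_mul]
  exact Ideal.pow_right_mono hr n

end

section
variable {A : Type u} [CommRing A] [TopologicalSpace A] [IsTopologicalRing A]
variable {B : Type v} [CommRing B] [TopologicalSpace B] [IsTopologicalRing B]

theorem map_closure_le (φ : A →+* B) (hφ : Continuous φ) (P : Ideal A) :
    (P.closure).map φ ≤ (P.map φ).closure := by
  rw [Ideal.map_le_iff_le_comap]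
  intro x hx
  have hx' : x ∈ closure (P : Set A) := by rw [← Ideal.coe_closure]; exact hx
  have : φ x ∈ closure ((P.map φ : Ideal B) : Set B) :=
    map_mem_closure hφ hx' (fun a ha => Ideal.mem_map_of_mem φ ha)
  rw [← Ideal.coe_closure] at this
  exact this

theorem closure_map_closure_eq (φ : A →+* B) (hφ : Continuous φ) (P : Ideal A) :
    ((P.closure).map φ).closure = (P.map φ).closure := by
  apply le_antisymm
  · have h := ideal_closure_mono (map_closure_le φ hφ P)
    refine h.trans ?_
    intro x hx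
    have hx' : x ∈ closure (((P.map φ).closure : Ideal B) : Set B) := by
      rw [← Ideal.coe_closure]; exact hx
    rw [Ideal.coe_closure, closure_closure, ← Ideal.coe_closure] at hx'
    exact hx'
  · exact ideal_closure_mono (Ideal.map_mono (ideal_le_closure P))

end

section
variable {A : Type u} [CommRing A] [TopologicalSpace A] [IsTopologicalRing A]

theorem mem_closure_iff_forall_open_ideal [IsLinearTopology A A] (P : Ideal A) (x : A) :
    x ∈ closure (P : Set A) ↔ ∀ K : Ideal A, IsOpen (K : Set A) → x ∈ P ⊔ K := by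
  constructor
  · intro hx K hK
    have hopen : IsOpen {y : A | y - x ∈ K} := hK.preimage (continuous_id.sub continuous_const)
    have hmem : x ∈ {y : A | y - x ∈ K} := by simp
    obtain ⟨a, ha1, ha2⟩ := mem_closure_iff.1 hx _ hopen hmem
    rw [Submodule.mem_sup]
    refine ⟨a, ha2, x - a, ?_, by ring⟩
    have : x - a = -(a - x) := by ring
    rw [this]
    exact K.neg_mem ha1
  · intro h
    rw [mem_closure_iff_nhds]
    intro t ht
    have ht0 : {y : A | x + y ∈ t} ∈ nhds (0 : A) := by
      have hc : Continuous (fun y : A => x + y) := continuous_const.add continuous_id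
      have : (fun y : A => x + y) ⁻¹' t ∈ nhds (0 : A) := hc.continuousAt.preimage_mem_nhds
        (by simpa using ht)
      exact this
    obtain ⟨K, hK, hKt⟩ := (IsLinearTopology.hasBasis_open_ideal (R := A)).mem_iff.1 ht0
    obtain ⟨p, hp, k, hk, hpk⟩ := Submodule.mem_sup.1 (h K hK)
    refine ⟨p, ?_, hp⟩
    have hk' : -k ∈ K := K.neg_mem hk
    have := hKt hk'
    simp only [Set.mem_setOf_eq] at this
    have e : x + -k = p := by rw [← hpk]; ring
    rwa [e] at this

end

section
variable {A : Type u} [CommRing A] [TopologicalSpace A]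
variable {B : Type v} [CommRing B] [TopologicalSpace B] [IsTopologicalRing B]

theorem comap_closure_map_of_isTautFFlat {φ : A →+* B} (hφ : LinTop.IsTautFFlat φ)
    (I : Ideal A) (hI : IsOpen (I : Set A)) : ((I.map φ).closure).comap φ = I := by
  apply le_antisymm
  · intro x hx
    have hinj := (hφ.2 I hI).injective
    have h0 : LinTop.descentMap φ I (Ideal.Quotient.mk I x) = 0 := by
      unfold LinTop.descentMap
      rw [Ideal.quotientMap_mk]
      exact Ideal.Quotient.eq_zero_iff_mem.2 hx
    have := hinj (h0.trans (map_zero _).symm)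
    exact Ideal.Quotient.eq_zero_iff_mem.1 this
  · refine Ideal.le_comap_map.trans (Ideal.comap_mono ?_)
    exact ideal_le_closure _

end

section
variable {B : Type u} [CommRing B] [TopologicalSpace B] [IsTopologicalRing B]

theorem isOpen_closure_pow_of_weaklyPreadic {J : Ideal B}
    (h1 : ∀ n : ℕ, IsOpen (closure ((J ^ n : Ideal B) : Set B)))
    (h2 : ∀ U ∈ nhds (0 : B), ∃ n : ℕ, closure ((J ^ n : Ideal B) : Set B) ⊆ U)
    (K : Ideal B) (hK : IsOpen (K : Set B)) (n : ℕ) :
    IsOpen (closure ((K ^ n : Ideal B) : Set B)) := by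
  obtain ⟨r, hr⟩ := h2 K (hK.mem_nhds K.zero_mem)
  have hle : J ^ (r * n) ≤ K ^ n := by
    rw [pow_mul]
    exact Ideal.pow_right_mono (fun x hx => hr (subset_closure hx)) n
  have := Submodule.isOpen_mono (ideal_closure_mono hle)
    (by rw [Ideal.coe_closure]; exact h1 (r * n))
  rwa [Ideal.coe_closure] at this

end

section
variable {A : Type u} [CommRing A]
variable {C : Type v} [CommRing C] [TopologicalSpace C] [IsTopologicalRing C]

/-- closure of the image of an ideal under a ring hom with dense range, as an ideal. -/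
def closureImageIdeal (ι : A →+* C) (hd : DenseRange ι) (I : Ideal A) : Ideal C where
  carrier := closure (ι '' (I : Set A))
  zero_mem' := subset_closure ⟨0, I.zero_mem, map_zero ι⟩
  add_mem' := by
    intro a b ha hb
    refine map_mem_closure₂ continuous_add ha hb ?_
    rintro _ ⟨i, hi, rfl⟩ _ ⟨j, hj, rfl⟩
    exact ⟨i + j, I.add_mem hi hj, map_add ι i j⟩
  smul_mem' := by
    intro c x hx
    have hc : c ∈ closure (Set.range ι) := hd c
    refine map_mem_closure₂ continuous_mul hc hx ?_
    rintro _ ⟨a, rfl⟩ _ ⟨j, hj, rfl⟩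
    exact ⟨a * j, I.mul_mem_left a hj, map_mul ι a j⟩

theorem closure_map_eq_closure_image (ι : A →+* C) (hd : DenseRange ι) (I : Ideal A) :
    closure ((I.map ι : Ideal C) : Set C) = closure (ι '' (I : Set A)) := by
  apply subset_antisymm
  · have hle : I.map ι ≤ closureImageIdeal ι hd I := by
      rw [Ideal.map_le_iff_le_comap]
      intro a ha
      exact subset_closure ⟨a, ha, rfl⟩
    exact closure_minimal hle isClosed_closure
  · apply closure_mono
    rintro _ ⟨a, ha, rfl⟩
    exact Ideal.mem_map_of_mem ι ha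

end

section
variable {A' : Type u} [CommRing A'] [TopologicalSpace A'] [IsTopologicalRing A']
variable {A : Type v} [CommRing A] [TopologicalSpace A] [IsTopologicalRing A]

theorem isTaut_of_adic_source (φ : A' →+* A) (I' : Ideal A') (hI' : IsAdic I')
    (h1 : ∀ n : ℕ, IsOpen (closure (((I'.map φ) ^ n : Ideal A) : Set A)))
    (h2 : ∀ U ∈ nhds (0 : A), ∃ n : ℕ, closure (((I'.map φ) ^ n : Ideal A) : Set A) ⊆ U) :
    LinTop.IsTaut φ := by
  have hI'' := isAdic_iff.1 hI'
  refine ⟨?_, ?_, ?_⟩
  · apply continuous_of_continuousAt_zero φ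
    intro U hU
    rw [map_zero] at hU
    obtain ⟨n, hn⟩ := h2 U hU
    rw [Filter.mem_map]
    refine Filter.mem_of_superset ((hI''.1 n).mem_nhds (Ideal.zero_mem _)) ?_
    intro a ha
    apply hn
    apply subset_closure
    rw [← Ideal.map_pow]
    exact Ideal.mem_map_of_mem φ ha
  · intro K hK
    obtain ⟨n, hn⟩ := hI''.2 K (hK.mem_nhds K.zero_mem)
    have hle : ((I'.map φ) ^ n).closure ≤ (K.map φ).closure := by
      apply ideal_closure_mono
      rw [← Ideal.map_pow]
      exact Ideal.map_mono (fun x hx => hn hx)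
    have := Submodule.isOpen_mono hle (by rw [Ideal.coe_closure]; exact h1 n)
    rwa [Ideal.coe_closure] at this
  · intro U hU
    obtain ⟨n, hn⟩ := h2 U hU
    refine ⟨I' ^ n, hI''.1 n, ?_⟩
    rw [Ideal.map_pow]
    exact hn

theorem isWeaklyPreadic_of_isAdic (I' : Ideal A') (hI' : IsAdic I') [IsLinearTopology A' A'] :
    LinTop.IsWeaklyPreadic A' := by
  have hI'' := isAdic_iff.1 hI'
  refine ⟨inferInstance, I', ?_, ?_⟩
  · intro n
    rw [(isClosed_of_isOpen_ideal _ (hI''.1 n)).closure_eq]
    exact hI''.1 n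
  · intro U hU
    obtain ⟨n, hn⟩ := hI''.2 U hU
    refine ⟨n, ?_⟩
    rw [(isClosed_of_isOpen_ideal _ (hI''.1 n)).closure_eq]
    exact hn

end

section
variable {A : Type u} [CommRing A] [TopologicalSpace A]
variable {B : Type v} [CommRing B] [TopologicalSpace B] [IsTopologicalRing B]

theorem isLinearTopology_of_isTaut {φ : A →+* B} (hφ : LinTop.IsTaut φ) :
    IsLinearTopology B B := by
  rw [isLinearTopology_iff_hasBasis_open_ideal]
  constructor
  intro U
  constructor
  · intro hU
    obtain ⟨I, hI, hIU⟩ := hφ.2.2 U hU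
    refine ⟨(I.map φ).closure, ?_, ?_⟩
    · rw [Ideal.coe_closure]; exact hφ.2.1 I hI
    · rw [Ideal.coe_closure]; exact hIU
  · rintro ⟨K, hK, hKU⟩
    exact Filter.mem_of_superset (hK.mem_nhds K.zero_mem) hKU

end

end Groth.Agent.Helper15
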