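import Groth.Agent.Lib.Helper15.LinTop
import Mathlib.Topology.Algebra.InfiniteSum.Nonarchimedean
import Mathlib.RingTheory.Finiteness.Ideal

set_option autoImplicit false
universe u v

open Filter Topology

namespace Groth.Agent.Helper15

section
variable {A : Type u} [CommRing A] [TopologicalSpace A] [IsTopologicalRing A]

theorem nonarchimedeanAddGroup_of_isLinearTopology [IsLinearTopology A A] :
    NonarchimedeanAddGroup A where
  is_nonarchimedean := by
    intro U hU
    obtain ⟨K, hK, hKU⟩ := (IsLinearTopology.hasBasis_open_ideal (R := A)).mem_iff.1 hU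
    exact ⟨⟨K.toAddSubgroup, hK⟩, hKU⟩

theorem tendsto_zero_of_mem_closure_pow {I : Ideal A}
    (hbasis : ∀ U ∈ nhds (0 : A), ∃ n : ℕ, closure ((I ^ n : Ideal A) : Set A) ⊆ U)
    (z : ℕ → A) (hz : ∀ k, z k ∈ closure ((I ^ k : Ideal A) : Set A)) :
    Tendsto z atTop (𝓝 0) := by
  intro U hU
  obtain ⟨m, hm⟩ := hbasis U hU
  rw [Filter.mem_map, Filter.mem_atTop_sets]
  refine ⟨m, fun k hk => hm ?_⟩
  exact closure_mono (Ideal.pow_le_pow_right (I := I) hk) (hz k)

end

section
variable {A : Type u} [CommRing A] [UniformSpace A] [IsUniformAddGroup A] [IsTopologicalRing A]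
  [IsLinearTopology A A] [T2Space A] [CompleteSpace A]

theorem closure_pow_subset_pow_of_complete
    (I : Ideal A) (hfg : I.FG) (hopen : ∀ n : ℕ, IsOpen (closure ((I ^ n : Ideal A) : Set A)))
    (hbasis : ∀ U ∈ nhds (0 : A), ∃ n : ℕ, closure ((I ^ n : Ideal A) : Set A) ⊆ U) (n : ℕ) :
    closure ((I ^ n : Ideal A) : Set A) ⊆ ((I ^ n : Ideal A) : Set A) := by
  haveI : NonarchimedeanAddGroup A := nonarchimedeanAddGroup_of_isLinearTopology
  obtain ⟨s, g, hg⟩ := Submodule.fg_iff_exists_fin_generating_family.1 (Ideal.FG.pow (n := n) hfg)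
  have step : ∀ k : ℕ, ∀ y : A, y ∈ closure ((I ^ (n + k) : Ideal A) : Set A) →
      ∃ c : Fin s → A, (∀ j, c j ∈ I ^ k) ∧
        y - ∑ j, c j * g j ∈ closure ((I ^ (n + k + 1) : Ideal A) : Set A) := by
    intro k y hy
    have hKopen : IsOpen (((I ^ (n + k + 1)).closure : Ideal A) : Set A) := by
      rw [Ideal.coe_closure]; exact hopen _
    have h1 := (mem_closure_iff_forall_open_ideal _ y).1 hy _ hKopen
    obtain ⟨p, hp, q, hq, hpq⟩ := Submodule.mem_sup.1 h1
    have hp' : p ∈ (I ^ k) • Submodule.span A (Set.range g) := by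
      rw [hg, Ideal.smul_eq_mul, ← pow_add, add_comm]; exact hp
    obtain ⟨a, ha, hap⟩ := (Submodule.mem_ideal_smul_span_iff_exists_sum (I ^ k) g p).1 hp'
    refine ⟨fun j => a j, ha, ?_⟩
    have hsum : ∑ j, a j * g j = p := by
      rw [← hap, Finsupp.sum_fintype]
      · rfl
      · intro i; simp
    rw [hsum, ← hpq, add_sub_cancel_left, ← Ideal.coe_closure]
    exact hq
  intro x hx
  choose! next hnext using step
  let y : ℕ → A := fun k => Nat.rec x (fun k yk => yk - ∑ j, next k yk j * g j) k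
  have hy : ∀ k, y k ∈ closure ((I ^ (n + k) : Ideal A) : Set A) := by
    intro k
    induction k with
    | zero => exact hx
    | succ k ih => exact (hnext k (y k) ih).2
  have hc : ∀ k j, next k (y k) j ∈ I ^ k := fun k j => (hnext k (y k) (hy k)).1 j
  have hyc : ∀ k, y (k + 1) = y k - ∑ j, next k (y k) j * g j := fun k => rfl
  have hsum : ∀ j, Summable (fun k => next k (y k) j) := by
    intro j
    apply NonarchimedeanAddGroup.summable_of_tendsto_cofinite_zero
    rw [Nat.cofinite_eq_atTop]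
    exact tendsto_zero_of_mem_closure_pow hbasis _ (fun k => subset_closure (hc k j))
  have hpart : ∀ K, x - y K = ∑ j, (∑ k ∈ Finset.range K, next k (y k) j) * g j := by
    intro K
    induction K with
    | zero =>
      simp only [Finset.range_zero, Finset.sum_empty, zero_mul, Finset.sum_const_zero]
      show x - x = 0
      ring
    | succ K ih =>
      rw [hyc K]
      simp only [Finset.sum_range_succ, add_mul, Finset.sum_add_distrib]
      rw [← ih]
      ring
  have hlim1 : Tendsto (fun K => x - y K) atTop (𝓝 x) := by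
    have h0 : Tendsto y atTop (𝓝 0) := by
      apply tendsto_zero_of_mem_closure_pow hbasis
      intro k
      exact closure_mono (Ideal.pow_le_pow_right (I := I) (Nat.le_add_left k n)) (hy k)
    have := (tendsto_const_nhds (x := x)).sub h0
    simpa using this
  have hlim2 : Tendsto (fun K => ∑ j, (∑ k ∈ Finset.range K, next k (y k) j) * g j) atTop
      (𝓝 (∑ j, (∑' k, next k (y k) j) * g j)) := by
    apply tendsto_finset_sum
    intro j _
    exact ((hsum j).hasSum.tendsto_sum_nat).mul_const (g j)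
  have hx_eq : x = ∑ j, (∑' k, next k (y k) j) * g j := by
    refine tendsto_nhds_unique hlim1 ?_
    simp only [hpart]
    exact hlim2
  rw [hx_eq]
  show _ ∈ I ^ n
  rw [← hg]
  refine Submodule.sum_mem _ (fun j _ => ?_)
  exact Ideal.mul_mem_left _ _ (Submodule.subset_span (Set.mem_range_self j))

end

section
variable {A : Type u} [CommRing A] {B : Type v} [CommRing B]

theorem exists_fg_le_map_sup (φ : A →+* B) (I : Ideal A) (Q M : Ideal B) (hQ : Q.FG)
    (h : Q ≤ I.map φ ⊔ M) : ∃ 𝔞 : Ideal A, 𝔞.FG ∧ 𝔞 ≤ I ∧ Q ≤ 𝔞.map φ ⊔ M := by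
  classical
  obtain ⟨r, g, hg⟩ := Submodule.fg_iff_exists_fin_generating_family.1 hQ
  have hmem : ∀ l : Fin r, ∃ S : Finset A, (S : Set A) ⊆ I ∧
      g l ∈ (Ideal.span (S : Set A)).map φ ⊔ M := by
    intro l
    have hl : g l ∈ I.map φ ⊔ M := h (hg ▸ Submodule.subset_span (Set.mem_range_self l))
    obtain ⟨p, hp, q, hq, hpq⟩ := Submodule.mem_sup.1 hl
    have hp' : p ∈ Submodule.span B (φ '' (I : Set A)) := hp
    obtain ⟨T, hT, hpT⟩ := Submodule.mem_span_finite_of_mem_span hp'
    obtain ⟨S, hS, hST⟩ := Finset.subset_set_image_iff.1 hT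
    refine ⟨S, hS, ?_⟩
    rw [← hpq]
    refine Submodule.add_mem_sup ?_ hq
    rw [Ideal.map_span]
    have : (φ '' (S : Set A)) = (T : Set B) := by rw [← hST, Finset.coe_image]
    rw [this]
    exact hpT
  choose S hS1 hS2 using hmem
  refine ⟨⨆ l, Ideal.span (S l : Set A), ?_, ?_, ?_⟩
  · exact Submodule.fg_iSup _ (fun l => ⟨S l, rfl⟩)
  · exact iSup_le (fun l => Ideal.span_le.2 (hS1 l))
  · rw [← hg]
    refine Submodule.span_le.2 ?_
    rintro _ ⟨l, rfl⟩
    refine (sup_le_sup_right (Ideal.map_mono ?_) M) (hS2 l)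
    exact le_iSup (fun l => Ideal.span (S l : Set A)) l

end

end Groth.Agent.Helper15
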