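import Mathlib
import Groth.Agent.Lib.Helper15.LocFinIrr
import Groth.Agent.Lib.Helper15.AlgSpDimEt
import Groth.Agent.Lib.Helper15.AlgSpEtCl
import Groth.Agent.Lib.Helper15.AlgSpTop
import Groth.Agent.Lib.Helper15.AlgSpDescent

/-!
# Algebraic spaces with locally finitely many irreducible components
-/

set_option autoImplicit false
set_option linter.style.haveILetI false
universe u
open CategoryTheory CategoryTheory.Limits AlgebraicGeometry Opposite MorphismProperty TopologicalSpace
open AlgSp

namespace Groth.Agent.Helper15.LocFinIrr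

open Groth.Agent.Helper15 Groth.Agent.Helper15.MaxPts

variable {S : Scheme.{u}}

/-- Finiteness of irreducible components passes to continuous surjective images. -/
theorem finite_irreducibleComponents_of_surjective {α β : Type*} [TopologicalSpace α]
    [TopologicalSpace β] (b : α → β) (hb : Continuous b) (hs : Function.Surjective b)
    (h : (irreducibleComponents α).Finite) : (irreducibleComponents β).Finite := by
  refine (h.image (fun Z => closure (b '' Z))).subset ?_
  intro T hT
  have hcov : T ⊆ ⋃₀ ((h.image (fun Z => closure (b '' Z))).toFinset : Set (Set β)) := by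
    intro y _
    obtain ⟨x, rfl⟩ := hs y
    refine Set.mem_sUnion.2 ⟨closure (b '' irreducibleComponent x), ?_, ?_⟩
    · simp only [Set.Finite.coe_toFinset]
      exact ⟨_, irreducibleComponent_mem_irreducibleComponents x, rfl⟩
    · exact subset_closure ⟨x, mem_irreducibleComponent, rfl⟩
  obtain ⟨Z', hZ', hTZ'⟩ := (isIrreducible_iff_sUnion_isClosed.1 hT.1) _ (by
    intro z hz
    simp only [Set.Finite.mem_toFinset] at hz
    obtain ⟨Z, -, rfl⟩ := hz
    exact isClosed_closure) hcov
  simp only [Set.Finite.mem_toFinset] at hZ'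
  obtain ⟨Z, hZ, rfl⟩ := hZ'
  refine ⟨Z, hZ, ?_⟩
  have hirr : IsIrreducible (closure (b '' Z)) := (hZ.1.image b hb.continuousOn).closure
  exact le_antisymm (hT.2 hirr hTZ') hTZ'

/-- (1) ⇒ (2): every etale chart of a space with one good chart is good. -/
theorem locFin_of_etaleLocally {X : Sp S} (h : EtaleLocally LocFin X) {U : Over S}
    (a : (yon S).obj U ⟶ X) (ha : RepWith @Etale a) : LocFin U.left := by
  obtain ⟨U₀, p₀, hpe, hps, hP⟩ := h
  have sq := hpe.rep.isPullback' a
  haveI h1 : Etale (hpe.rep.snd a).left := hpe.property_snd a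
  haveI h2 : Etale (hpe.rep.fst' a).left := ha.property p₀ _ _ sq.flip
  have h3 : Surjective (hpe.rep.snd a).left := hps.property a _ _ sq
  haveI : LocallyQuasiFinite (hpe.rep.fst' a).left := locallyQuasiFinite_of_etale _
  have hR : LocFin (hpe.rep.pullback a).left := locFin_of_flat_lqf (hpe.rep.fst' a).left hP
  exact locFin_of_isOpenMap_surjective (hpe.rep.snd a).left (hpe.rep.snd a).left.isOpenMap
    h3.surj hR


/-- A compact scheme with `LocFin` has finitely many maximal points. -/
theorem finite_maxPts_of_locFin {V : Scheme.{u}} [CompactSpace V] (hV : LocFin V) :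
    (maxPts V).Finite := by
  have := locFin_iff.1 hV ⊤ (by simpa using isCompact_univ)
  simpa using this

/-- (2) ⇒ (3): finitely many codimension-0 points on quasi-compact spaces etale over `X`. -/
theorem finite_codimZero {X Y : Sp S}
    (hall : ∀ (U : Over S) (a : (yon S).obj U ⟶ X), RepWith @Etale a → LocFin U.left)
    (g : Y ⟶ X) (hg : IsEtaleMor g) (hY : IsQuasiCompactSp Y) :
    {y : Points Y | HasAt (fun U u => ringKrullDim ↥(U.presheaf.stalk u) = 0) Y y}.Finite := by
  obtain ⟨V, b, hbe, hbs, hVc⟩ := hY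
  haveI : CompactSpace V.left := hVc
  have hV : LocFin V.left := hall V (b ≫ g) (hg b hbe)
  refine ((finite_maxPts_of_locFin hV).image (Points.ofPt b)).subset ?_
  intro y hy
  obtain ⟨v, rfl⟩ := surjective_ofPt b hbs y
  have := hasAt_forall_chart (etInv_ringKrullDim_stalk 0) _ hy V b v hbe rfl
  exact ⟨v, (ringKrullDim_stalk_eq_zero_iff v).1 this, rfl⟩

/-- (2) ⇒ (4): finitely many irreducible components on quasi-compact spaces etale over `X`. -/
theorem finite_irreducibleComponents_points {X Y : Sp S}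
    (hall : ∀ (U : Over S) (a : (yon S).obj U ⟶ X), RepWith @Etale a → LocFin U.left)
    (g : Y ⟶ X) (hg : IsEtaleMor g) (hY : IsQuasiCompactSp Y) :
    (irreducibleComponents (Points Y)).Finite := by
  obtain ⟨V, b, hbe, hbs, hVc⟩ := hY
  haveI : CompactSpace V.left := hVc
  have hV : LocFin V.left := hall V (b ≫ g) (hg b hbe)
  have hfin : (irreducibleComponents V.left).Finite :=
    finite_irreducibleComponents_iff.2 (finite_maxPts_of_locFin hV)
  exact finite_irreducibleComponents_of_surjective (Points.ofPt b) (Points.continuous_ofPt b)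
    (surjective_ofPt b hbs) hfin

/-- The open subscheme of a chart as a quasi-compact space etale over `X`. -/
theorem opens_chart {X : Sp S} {U : Over S} (a : (yon S).obj U ⟶ X) (ha : RepWith @Etale a)
    (W : U.left.Opens) (hW : IsCompact (W : Set U.left)) :
    IsEtaleMor ((yon S).map (Over.homMk W.ι rfl : Over.mk (W.ι ≫ U.hom) ⟶ U) ≫ a) ∧
      IsQuasiCompactSp ((yon S).obj (Over.mk (W.ι ≫ U.hom))) := by
  constructor
  · apply isEtaleMor_of_repWith_etale
    refine (RepWith @Etale).comp_mem _ _ ((repWith_yon_map_iff _ _).2 ?_) ha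
    exact (inferInstance : Etale W.ι)
  · refine ⟨Over.mk (W.ι ≫ U.hom), 𝟙 _, repWith_id _ _, repWith_id _ _, ?_⟩
    exact isCompact_iff_compactSpace.1 hW

/-- (3) ⇒ (2). -/
theorem locFin_of_forall_codimZero {X : Sp S}
    (h3 : ∀ (Y : Sp S), IsAlgSpace Y → ∀ g : Y ⟶ X, IsEtaleMor g → IsQuasiCompactSp Y →
      {y : Points Y | HasAt (fun U u => ringKrullDim ↥(U.presheaf.stalk u) = 0) Y y}.Finite)
    {U : Over S} (a : (yon S).obj U ⟶ X) (ha : RepWith @Etale a) : LocFin U.left := by
  rw [locFin_iff]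
  intro W hW
  obtain ⟨hg, hqc⟩ := opens_chart a ha W hW
  set W' : Over S := Over.mk (W.ι ≫ U.hom) with hW'
  have hfin := h3 _ (IsAlgSpace.yon_obj W') _ hg hqc
  refine (hfin.image (fun y => W.ι ((Points.schemeEquiv W').symm y))).subset ?_
  rintro x ⟨hxW, hx⟩
  let w : W'.left := ⟨x, hxW⟩
  refine ⟨Points.ofScheme W' w, ?_, ?_⟩
  · refine ⟨W', 𝟙 _, w, repWith_id _ _, rfl, ?_⟩
    change ringKrullDim ↥(W'.left.presheaf.stalk w) = 0
    rw [ringKrullDim_stalk_eq_zero_iff]
    exact (mem_maxPts_subtype_iff W.2 ⟨x, hxW⟩).2 hx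
  · change W.ι ((Points.schemeEquiv W').symm ((Points.schemeEquiv W') w)) = x
    rw [Equiv.symm_apply_apply]
    rfl

/-- (4) ⇒ (2). -/
theorem locFin_of_forall_irreducibleComponents {X : Sp S}
    (h4 : ∀ (Y : Sp S), IsAlgSpace Y → ∀ g : Y ⟶ X, IsEtaleMor g → IsQuasiCompactSp Y →
      (irreducibleComponents (Points Y)).Finite)
    {U : Over S} (a : (yon S).obj U ⟶ X) (ha : RepWith @Etale a) : LocFin U.left := by
  intro W hW
  obtain ⟨hg, hqc⟩ := opens_chart a ha W hW
  set W' : Over S := Over.mk (W.ι ≫ U.hom) with hW'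
  have hfin := h4 _ (IsAlgSpace.yon_obj W') _ hg hqc
  exact finite_irreducibleComponents_of_surjective (Points.schemeHomeo W').symm
    (Points.schemeHomeo W').symm.continuous (Points.schemeHomeo W').symm.surjective hfin


/-- S10303: the condition ascends along flat morphisms locally of finite type. -/
theorem etaleLocally_locFin_of_flat_lft {X Y : Sp S} (hX : IsAlgSpace X) (f : X ⟶ Y)
    (hf : LocP @Flat f) (hf' : LocP @LocallyOfFiniteType f) (hY : EtaleLocally LocFin Y) :
    EtaleLocally LocFin X := by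
  obtain ⟨V₀, b, hbe, hbs, hV₀⟩ := hY
  obtain ⟨U₀, a, hae, has⟩ := hX.atlas
  have sq := hbe.rep.isPullback' (a ≫ f)
  haveI h1 : Etale (hbe.rep.snd (a ≫ f)).left := hbe.property_snd (a ≫ f)
  have h2 : Surjective (hbe.rep.snd (a ≫ f)).left := hbs.property (a ≫ f) _ _ sq
  have hce : RepWith @Etale ((yon S).map (hbe.rep.snd (a ≫ f)) ≫ a) :=
    (RepWith @Etale).comp_mem _ _ ((repWith_yon_map_iff _ _).2 h1) hae
  have hcs : RepWith @Surjective ((yon S).map (hbe.rep.snd (a ≫ f)) ≫ a) :=
    (RepWith @Surjective).comp_mem _ _ ((repWith_yon_map_iff _ _).2 h2) has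
  have hw : ((yon S).map (hbe.rep.snd (a ≫ f)) ≫ a) ≫ f =
      (yon S).map (hbe.rep.fst' (a ≫ f)) ≫ b := by
    rw [Category.assoc]; exact sq.w.symm
  haveI : Flat (hbe.rep.fst' (a ≫ f)).left := hf _ b _ hce hbe hw
  haveI : LocallyOfFiniteType (hbe.rep.fst' (a ≫ f)).left := hf' _ b _ hce hbe hw
  exact ⟨_, _, hce, hcs, locFin_of_flat_lft (hbe.rep.fst' (a ≫ f)).left hV₀⟩

end Groth.Agent.Helper15.LocFinIrr
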