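import Mathlib

/-!
# A morphism locally of finite type whose base change along itself is locally quasi-finite is
locally quasi-finite
-/

set_option autoImplicit false
universe u
open CategoryTheory CategoryTheory.Limits AlgebraicGeometry

namespace Groth.Agent.Helper15

theorem discreteTopology_of_isOpenMap_surjective {α β : Type*} [TopologicalSpace α]
    [TopologicalSpace β] [DiscreteTopology α] (q : α → β) (ho : IsOpenMap q)
    (hs : Function.Surjective q) : DiscreteTopology β := by
  rw [discreteTopology_iff_isOpen_singleton]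
  intro y
  obtain ⟨x, rfl⟩ := hs y
  have := ho {x} (isOpen_discrete _)
  rwa [Set.image_singleton] at this

theorem locallyQuasiFinite_of_isPullback_self {U V W : Scheme.{u}} (h : U ⟶ V)
    [LocallyOfFiniteType h] {p₁ p₂ : W ⟶ U} (sq : IsPullback p₁ p₂ h h)
    [LocallyQuasiFinite p₂] : LocallyQuasiFinite h := by
  rw [locallyQuasiFinite_iff_isDiscrete_preimage_singleton]
  intro v
  by_cases hv : ∃ u₀, h u₀ = v
  swap
  · have : h ⁻¹' {v} = ∅ := by
      ext u
      simp only [Set.mem_preimage, Set.mem_singleton_iff, Set.mem_empty_iff_false, iff_false]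
      intro hu; exact hv ⟨u, hu⟩
    rw [this]
    exact ⟨inferInstance⟩
  obtain ⟨u₀, rfl⟩ := hv
  have sqF := isPullback_fiberToSpecResidueField_of_isPullback sq u₀
  set q := pullback.map p₂ (U.fromSpecResidueField u₀) h (V.fromSpecResidueField (h u₀)) p₁
    (Spec.map (h.residueFieldMap u₀)) h sq.w.symm (by simp) with hq
  haveI : Surjective (Spec.map (h.residueFieldMap u₀)) :=
    ⟨fun y => ⟨IsLocalRing.closedPoint _, Subsingleton.elim (α := PrimeSpectrum _) _ _⟩⟩
  haveI : UniversallyOpen (Spec.map (h.residueFieldMap u₀)) := inferInstance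
  haveI : UniversallyOpen q := MorphismProperty.of_isPullback sqF.flip inferInstance
  haveI : Surjective q := MorphismProperty.of_isPullback sqF.flip inferInstance
  haveI : IsLocallyArtinian (p₂.fiber u₀) := inferInstance
  haveI : DiscreteTopology ↥(p₂.fiber u₀) := IsLocallyArtinian.discreteTopology
  haveI : DiscreteTopology ↥(h.fiber (h u₀)) :=
    @discreteTopology_of_isOpenMap_surjective ↥(p₂.fiber u₀) ↥(h.fiber (h u₀)) _ _ ‹_› q
      q.isOpenMap q.surjective
  exact ⟨(h.fiberHomeo (h u₀)).discreteTopology⟩

end Groth.Agent.Helper15
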