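import Groth.Agent.Lib.Helper15.EtNbhdPI5
import Groth.Agent.Lib.Helper15.ZmtSp2
import Groth.Agent.Lib.Helper15.AlgSpDiagMor
import Groth.Agent.Lib.Helper15.AlgSpUnram

/-!
# Separated locally quasi-finite algebraic spaces over a scheme are schemes (Stacks 03XX / 0418)
-/

set_option autoImplicit false
set_option linter.style.haveILetI false
universe u
open CategoryTheory CategoryTheory.Limits AlgebraicGeometry MorphismProperty Opposite
open AlgSp

namespace Groth.Agent.Helper15.LqfSep

/-- Variant of `EtPI.exists_mono_chart` with an arbitrary pullback square for `U ×_T U`. -/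
theorem exists_mono_chart' {U T R Q : Scheme.{u}} (g : U ⟶ T) [LocallyOfFiniteType g]
    (s t : R ⟶ U) (δ : U ⟶ R) [IsOpenImmersion δ] (hδs : δ ≫ s = 𝟙 U) (hδt : δ ≫ t = 𝟙 U)
    (pr₁ pr₂ : Q ⟶ U) (hQ : IsPullback pr₁ pr₂ g g) (r : R ⟶ Q) [IsClosedImmersion r]
    (hr₁ : r ≫ pr₁ = s) (hr₂ : r ≫ pr₂ = t) (u : U) (hu : g.QuasiFiniteAt u) :
    ∃ (T' : Scheme.{u}) (e : T' ⟶ T) (V : Scheme.{u}) (q : V ⟶ U) (p : V ⟶ T')
      (w : q ≫ g = p ≫ e) (v : V),
      IsAffine T' ∧ Etale e ∧ IsOpenImmersion (pullback.lift q p w) ∧ q v = u ∧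
      ∀ (Z : Scheme.{u}) (a b : Z ⟶ V) (ρ : Z ⟶ R), a ≫ p = b ≫ p → ρ ≫ s = a ≫ q →
        ρ ≫ t = b ≫ q → a = b := by
  have hst : s ≫ g = t ≫ g := by
    rw [← hr₁, ← hr₂, Category.assoc, Category.assoc, hQ.w]
  have hlift : pullback.lift s t hst = r ≫ hQ.isoPullback.hom := by
    apply pullback.hom_ext
    · rw [pullback.lift_fst, Category.assoc, hQ.isoPullback_hom_fst, hr₁]
    · rw [pullback.lift_snd, Category.assoc, hQ.isoPullback_hom_snd, hr₂]
  haveI : IsClosedImmersion (pullback.lift s t hst) := by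
    rw [hlift]; infer_instance
  exact EtPI.exists_mono_chart g s t hst δ hδs hδt u hu

end Groth.Agent.Helper15.LqfSep

namespace Groth.Agent.Helper15.LqfSep

variable {S : Scheme.{u}}

/-- Scheme-level data attached to an étale chart `a : h_A ⟶ X` of an algebraic space `X`
separated over `h_T`. -/
theorem exists_chart_data {X : Sp S} (hX : IsAlgSpace X) {T : Over S} (f : X ⟶ (yon S).obj T)
    (hsep : IsSeparatedMor f) {A : Over S} (a : (yon S).obj A ⟶ X) (hae : RepWith @Etale a)
    (g : A ⟶ T) (hg : (yon S).map g = a ≫ f) :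
    ∃ (R Q : Over S) (s t : R ⟶ A) (δ : A ⟶ R) (pr₁ pr₂ : Q ⟶ A) (r : R ⟶ Q),
      IsPullback ((yon S).map s) ((yon S).map t) a a ∧ δ ≫ s = 𝟙 A ∧ δ ≫ t = 𝟙 A ∧
      IsOpenImmersion δ.left ∧ IsPullback pr₁.left pr₂.left g.left g.left ∧
      IsClosedImmersion r.left ∧ r ≫ pr₁ = s ∧ r ≫ pr₂ = t := by
  have hrepa : Representable a := hX.representable_from_yon a
  set R := hrepa.pullback a with hR
  set s : R ⟶ A := hrepa.fst' a with hs
  set t : R ⟶ A := hrepa.snd a with ht
  have sqR : IsPullback ((yon S).map s) ((yon S).map t) a a := hrepa.isPullback' a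
  -- the pullback of `g` with itself in `Over S`
  have sqQ : IsPullback (pullback.fst g g) (pullback.snd g g) g g := IsPullback.of_hasPullback g g
  have sqQy : IsPullback ((yon S).map (pullback.fst g g)) ((yon S).map (pullback.snd g g))
      (a ≫ f) (a ≫ f) := by
    rw [← hg]; exact sqQ.map (yon S)
  -- δ
  obtain ⟨δ, hδ⟩ := (yon S).map_surjective (sqR.lift (𝟙 _) (𝟙 _) rfl)
  have hδs : δ ≫ s = 𝟙 A := by
    apply (yon S).map_injective
    rw [Functor.map_comp, hδ, sqR.lift_fst, CategoryTheory.Functor.map_id]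
  have hδt : δ ≫ t = 𝟙 A := by
    apply (yon S).map_injective
    rw [Functor.map_comp, hδ, sqR.lift_snd, CategoryTheory.Functor.map_id]
  have hse : Etale s.left :=
    (repWith_yon_map_iff _ s).1 ((RepWith @Etale).of_isPullback sqR.flip hae)
  have hδo : IsOpenImmersion δ.left := by
    apply etale_inf_mono_le_isOpenImmersion
    have h1 : δ.left ≫ s.left = 𝟙 A.left := by
      rw [← Over.comp_left, hδs]; rfl
    refine ⟨?_, ?_⟩
    · haveI : Etale (δ.left ≫ s.left) := by rw [h1]; infer_instance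
      exact Etale.of_comp δ.left s.left
    · haveI : Mono (δ.left ≫ s.left) := by rw [h1]; infer_instance
      exact mono_of_mono δ.left s.left
  -- r
  obtain ⟨r, hr⟩ := (yon S).map_surjective (sqQy.lift ((yon S).map s) ((yon S).map t) (by
    rw [← Category.assoc, ← Category.assoc, sqR.w]))
  have hr₁ : r ≫ pullback.fst g g = s := by
    apply (yon S).map_injective
    rw [Functor.map_comp, hr, sqQy.lift_fst]
  have hr₂ : r ≫ pullback.snd g g = t := by
    apply (yon S).map_injective
    rw [Functor.map_comp, hr, sqQy.lift_snd]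
  have hmd : RepWith @IsClosedImmersion (pullback.mapDesc a a f) := repWith_mapDesc a a f hsep
  have sq : IsPullback sqR.isoPullback.hom ((yon S).map r) (pullback.mapDesc a a f)
      sqQy.isoPullback.hom := by
    refine IsPullback.of_horiz_isIso ⟨?_⟩
    apply pullback.hom_ext
    · simp only [Category.assoc, pullback.lift_fst, IsPullback.isoPullback_hom_fst,
        Category.comp_id]
      rw [← Functor.map_comp, hr₁]
    · simp only [Category.assoc, pullback.lift_snd, IsPullback.isoPullback_hom_snd,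
        Category.comp_id]
      rw [← Functor.map_comp, hr₂]
  have hrc : IsClosedImmersion r.left := hmd.property _ _ r sq
  exact ⟨R, pullback g g, s, t, δ, pullback.fst g g, pullback.snd g g, r, sqR, hδs, hδt, hδo,
    sqQ.map (Over.forget S), hrc, hr₁, hr₂⟩

end Groth.Agent.Helper15.LqfSep
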