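import Groth.Agent.Lib.Helper15.LqfSepSch1
import Groth.Agent.Lib.Helper15.AlgSpTop
import Groth.Agent.Lib.Helper15.AlgSpDescent

set_option autoImplicit false
set_option linter.style.haveILetI false
universe u
open CategoryTheory CategoryTheory.Limits AlgebraicGeometry MorphismProperty Opposite
open AlgSp

namespace Groth.Agent.Helper15.LqfSep

variable {S : Scheme.{u}}

/-- Around every point of an étale chart, an algebraic space separated and locally quasi-finite
over a scheme has an open subspace which is a scheme. -/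
theorem exists_open_subscheme_at {X : Sp S} (hX : IsAlgSpace X) {T : Over S}
    (f : X ⟶ (yon S).obj T)
    (hqf : LocP (@LocallyQuasiFinite ⊓ @LocallyOfFiniteType) f) (hsep : IsSeparatedMor f)
    {A : Over S} (a : (yon S).obj A ⟶ X) (hae : RepWith @Etale a) (u : A.left) :
    ∃ (W : Over S) (i : (yon S).obj W ⟶ X), RepWith @IsOpenImmersion i ∧
      Points.ofPt a u ∈ Set.range (Points.map i) := by
  obtain ⟨g, hg⟩ := (yon S).map_surjective (a ≫ f)
  have hgP : (@LocallyQuasiFinite ⊓ @LocallyOfFiniteType : MorphismProperty Scheme.{u}) g.left :=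
    hqf a (𝟙 _) g hae (repWith_id _ T) (by rw [Category.comp_id, hg])
  haveI : LocallyQuasiFinite g.left := hgP.1
  haveI : LocallyOfFiniteType g.left := hgP.2
  obtain ⟨R, Q, s, t, δ, pr₁, pr₂, r, sqR, hδs, hδt, hδo, sqQ, hrc, hr₁, hr₂⟩ :=
    exists_chart_data hX f hsep a hae g hg
  obtain ⟨T', e, V, q, p, w, v, hT'aff, he, hopen, hqv, hmono⟩ :=
    exists_mono_chart' g.left s.left t.left δ.left
      (by rw [← Over.comp_left, hδs]; rfl) (by rw [← Over.comp_left, hδt]; rfl)
      pr₁.left pr₂.left sqQ r.left (by rw [← Over.comp_left, hr₁]) (by rw [← Over.comp_left, hr₂])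
      u (g.left.quasiFiniteAt u)
  -- objects over `S`
  let T'O : Over S := Over.mk (e ≫ T.hom)
  let eO : T'O ⟶ T := Over.homMk e rfl
  let VO : Over S := Over.mk (q ≫ A.hom)
  let qO : VO ⟶ A := Over.homMk q rfl
  let pO : VO ⟶ T'O := Over.homMk p (by
    change p ≫ e ≫ T.hom = q ≫ A.hom
    rw [← Category.assoc, ← w, Category.assoc, Over.w g])
  have wO : qO ≫ g = pO ≫ eO := by ext; exact w
  -- base change of `X`
  let P := pullback f ((yon S).map eO)
  let p2 : P ⟶ X := pullback.fst _ _
  let p1 : P ⟶ (yon S).obj T'O := pullback.snd _ _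
  have sqP : IsPullback p2 p1 f ((yon S).map eO) := IsPullback.of_hasPullback _ _
  -- `B = A ×_T T'`
  have sqB : IsPullback (pullback.fst g eO) (pullback.snd g eO) g eO :=
    IsPullback.of_hasPullback _ _
  have sqBy := sqB.map (yon S)
  let b : (yon S).obj (pullback g eO) ⟶ P :=
    sqP.lift ((yon S).map (pullback.fst g eO) ≫ a) ((yon S).map (pullback.snd g eO)) (by
      rw [Category.assoc, ← hg, ← Functor.map_comp, ← Functor.map_comp, pullback.condition])
  have hbp2 : b ≫ p2 = (yon S).map (pullback.fst g eO) ≫ a := sqP.lift_fst _ _ _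
  have hbp1 : b ≫ p1 = (yon S).map (pullback.snd g eO) := sqP.lift_snd _ _ _
  have sqb : IsPullback ((yon S).map (pullback.fst g eO)) b a p2 :=
    IsPullback.of_bot (by rw [hbp1, ← hg]; exact sqBy) hbp2.symm sqP
  have hbe : RepWith @Etale b := (RepWith @Etale).of_isPullback sqb hae
  -- the open immersion `V ⟶ A ×_T T'`
  let lO : VO ⟶ pullback g eO := pullback.lift qO pO wO
  have sqBl : IsPullback (pullback.fst g eO).left (pullback.snd g eO).left g.left e :=
    sqB.map (Over.forget S)
  have hlO : lO.left = pullback.lift q p w ≫ sqBl.isoPullback.inv := by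
    apply sqBl.hom_ext
    · rw [Category.assoc, IsPullback.isoPullback_inv_fst, pullback.lift_fst, ← Over.comp_left,
        pullback.lift_fst]
      rfl
    · rw [Category.assoc, IsPullback.isoPullback_inv_snd, pullback.lift_snd, ← Over.comp_left,
        pullback.lift_snd]
      rfl
  have hlo : IsOpenImmersion lO.left := by
    rw [hlO]; infer_instance
  have hlOy : RepWith @IsOpenImmersion ((yon S).map lO) := (repWith_yon_map_iff _ lO).2 hlo
  let j₀ : (yon S).obj VO ⟶ P := (yon S).map lO ≫ b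
  have hj₀e : RepWith @Etale j₀ :=
    (RepWith @Etale).comp_mem _ _ (repWith_mono isOpenImmersion_le_etale hlOy) hbe
  have hj₀p2 : j₀ ≫ p2 = (yon S).map qO ≫ a := by
    simp only [j₀, Category.assoc, hbp2]
    rw [← Category.assoc, ← Functor.map_comp, pullback.lift_fst]
  have hj₀p1 : j₀ ≫ p1 = (yon S).map pO := by
    simp only [j₀, Category.assoc, hbp1]
    rw [← Functor.map_comp, pullback.lift_snd]
  haveI hj₀m : Mono j₀ := mono_of_yon j₀ (fun Z x y hxy => by
    obtain ⟨x', rfl⟩ := (yon S).map_surjective x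
    obtain ⟨y', rfl⟩ := (yon S).map_surjective y
    have h1 := congr($hxy ≫ p2)
    have h2 := congr($hxy ≫ p1)
    simp only [Category.assoc, hj₀p2, hj₀p1] at h1 h2
    obtain ⟨ρ, hρ⟩ := (yon S).map_surjective (sqR.lift ((yon S).map (x' ≫ qO))
      ((yon S).map (y' ≫ qO)) (by simpa using h1))
    have hρs : ρ ≫ s = x' ≫ qO := by
      apply (yon S).map_injective
      rw [Functor.map_comp, hρ, sqR.lift_fst]
    have hρt : ρ ≫ t = y' ≫ qO := by
      apply (yon S).map_injective
      rw [Functor.map_comp, hρ, sqR.lift_snd]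
    have h3 : x' ≫ pO = y' ≫ pO := by
      apply (yon S).map_injective
      simpa using h2
    have h4 : x'.left = y'.left := hmono Z.left x'.left y'.left ρ.left
      congr($(h3).left) congr($(hρs).left) congr($(hρt).left)
    congr 1
    ext : 1
    exact h4)
  have hj₀ : RepWith @IsOpenImmersion j₀ := repWith_isOpenImmersion_of_etale_mono j₀ hj₀e
  -- the image of `V` in `X`
  have hp2 : RepWith @Etale p2 :=
    (RepWith @Etale).of_isPullback sqP.flip ((repWith_yon_map_iff _ eO).2 he)
  have ha₀ : RepWith @Etale (j₀ ≫ p2) := (RepWith @Etale).comp_mem _ _ hj₀e hp2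
  obtain ⟨hI, hι, hg'e, hg's, hrange⟩ := openSubspace_of_etale hX _ ha₀
  have hfac := Sheaf.toImage_ι (j₀ ≫ p2)
  obtain ⟨jI, hjI, hjI1, -⟩ := Zmt.exists_restrict sqP j₀ hj₀ (Sheaf.imageι (j₀ ≫ p2))
    (Sheaf.toImage (j₀ ≫ p2)) hfac
  haveI : Etale eO.left := he
  haveI : IsAffine T'O.left := hT'aff
  haveI : LocallyQuasiFinite eO.left := locallyQuasiFinite_of_etale _
  obtain ⟨N, hN⟩ := UbfSch.exists_schLiftsLE_of_compactSpace eO.left
  have hsepe : IsSeparated eO.left := inferInstance
  obtain ⟨W, ⟨eW⟩⟩ := Zmt.claim N eO he hsepe hN _ hI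
    (Sheaf.imageι (j₀ ≫ p2) ≫ f)
    (Zmt.isSeparatedMor_mono_comp _ f hsep)
    (Zmt.locP_etale_comp _ (repWith_mono isOpenImmersion_le_etale hι) f hqf) _
    (pullback.snd _ _) (pullback.fst _ _) (IsPullback.of_hasPullback _ _) _ jI hjI (by
      rw [hjI1]; exact isSurjectiveMor_of_isLocallySurjective _)
  refine ⟨W, eW.hom ≫ Sheaf.imageι (j₀ ≫ p2), RespectsIso.precomp _ _ _ hι, ?_⟩
  have hmem : Points.ofPt a u ∈ Set.range (Points.map (Sheaf.imageι (j₀ ≫ p2))) := by
    rw [hrange]
    refine ⟨v, ?_⟩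
    rw [hj₀p2, ofPt_comp_yon_map]
    exact congrArg _ hqv
  obtain ⟨y, hy⟩ := hmem
  exact ⟨Points.map eW.inv y, by rw [← Points.map_comp, Iso.inv_hom_id_assoc, hy]⟩

end Groth.Agent.Helper15.LqfSep
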