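import Groth.Agent.Lib.Helper15.LqfSepSch2
import Groth.Agent.Lib.Helper15.AlgSpGlue

set_option autoImplicit false
set_option linter.style.haveILetI false
universe u
open CategoryTheory CategoryTheory.Limits AlgebraicGeometry MorphismProperty Opposite
open AlgSp

namespace Groth.Agent.Helper15.LqfSep

variable {S : Scheme.{u}}

/-- **Stacks 03XX**: an algebraic space separated and locally quasi-finite over a scheme is a
scheme. -/
theorem exists_rep_of_lqf_separated {X : Sp S} (hX : IsAlgSpace X) {T : Over S}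
    (f : X ⟶ (yon S).obj T)
    (hqf : LocP (@LocallyQuasiFinite ⊓ @LocallyOfFiniteType) f) (hsep : IsSeparatedMor f) :
    ∃ (V : Over S), Nonempty ((yon S).obj V ≅ X) := by
  obtain ⟨A, a, hae, has⟩ := hX.atlas
  have h1 : ∀ u : A.left, ∃ (W : Over S) (i : (yon S).obj W ⟶ X), RepWith @IsOpenImmersion i ∧
      Points.ofPt a u ∈ Set.range (Points.map i) :=
    fun u => exists_open_subscheme_at hX f hqf hsep a hae u
  choose W i hi hu using h1
  obtain ⟨V₀, e, -, -, -, -⟩ := exists_rep_of_openCover (U := W) (a := i) hi (fun x => by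
    obtain ⟨u, rfl⟩ := surjective_ofPt a has x
    exact ⟨u, hu u⟩)
  exact ⟨V₀, ⟨e⟩⟩

end Groth.Agent.Helper15.LqfSep
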