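import Groth.Agent.Lib.Helper15.LqfSepSch3
import Groth.Agent.Lib.Helper15.AlgSpLocPListed
import Groth.Agent.Lib.Helper15.AlgSpFibre

set_option autoImplicit false
set_option linter.style.haveILetI false
universe u
open CategoryTheory CategoryTheory.Limits AlgebraicGeometry MorphismProperty Opposite
open AlgSp

namespace Groth.Agent.Helper15.LqfSep

variable {S : Scheme.{u}}

theorem lqf_listed : (@LocallyQuasiFinite ⊓ @LocallyOfFiniteType : MorphismProperty Scheme.{u}) =
      @LocallyOfFiniteType ∨ (@LocallyQuasiFinite ⊓ @LocallyOfFiniteType :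
        MorphismProperty Scheme.{u}) = @LocallyOfFinitePresentation ∨
      (@LocallyQuasiFinite ⊓ @LocallyOfFiniteType : MorphismProperty Scheme.{u}) = @Flat ∨
      (@LocallyQuasiFinite ⊓ @LocallyOfFiniteType : MorphismProperty Scheme.{u}) = @Smooth ∨
      (@LocallyQuasiFinite ⊓ @LocallyOfFiniteType : MorphismProperty Scheme.{u}) = @Etale ∨
      (∀ ⦃A B : Scheme.{u}⦄ (g : A ⟶ B), (@LocallyQuasiFinite ⊓ @LocallyOfFiniteType :
        MorphismProperty Scheme.{u}) g ↔ (LocallyQuasiFinite g ∧ LocallyOfFiniteType g)) ∨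
      (∀ ⦃A B : Scheme.{u}⦄ (g : A ⟶ B), (@LocallyQuasiFinite ⊓ @LocallyOfFiniteType :
        MorphismProperty Scheme.{u}) g ↔ (LocallyOfFiniteType g ∧ FormallyUnramified g)) :=
  Or.inr (Or.inr (Or.inr (Or.inr (Or.inr (Or.inl (fun _ _ _ => Iff.rfl))))))

/-- **Stacks 0418**: a separated locally quasi-finite morphism of algebraic spaces is
representable by schemes. -/
theorem representable_of_lqf_separated {X Y : Sp S} (hX : IsAlgSpace X) (hY : IsAlgSpace Y)
    (f : X ⟶ Y) (hqf : LocP (@LocallyQuasiFinite ⊓ @LocallyOfFiniteType) f)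
    (hsep : IsSeparatedMor f) : Representable f := by
  intro T g
  have sqP : IsPullback (pullback.fst f g) (pullback.snd f g) f g := IsPullback.of_hasPullback _ _
  have hP : IsAlgSpace (pullback f g) :=
    isAlgSpace_of_isPullback hY.diag hX (IsAlgSpace.yon_obj T) sqP
  have hqf' : LocP (@LocallyQuasiFinite ⊓ @LocallyOfFiniteType) (pullback.snd f g) :=
    locP_listed_of_isPullback _ lqf_listed hX hY (IsAlgSpace.yon_obj T) sqP hqf
  have hsep' : IsSeparatedMor (pullback.snd f g) := Zmt.isSeparatedMor_of_isPullback sqP hsep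
  obtain ⟨V, ⟨e⟩⟩ := exists_rep_of_lqf_separated hP (pullback.snd f g) hqf' hsep'
  obtain ⟨snd, hsnd⟩ := (yon S).map_surjective (e.hom ≫ pullback.snd f g)
  refine ⟨V, snd, e.hom ≫ pullback.fst f g, ?_⟩
  rw [hsnd]
  exact IsPullback.of_iso sqP e.symm (Iso.refl _) (Iso.refl _) (Iso.refl _) (by simp) (by simp)
    (by simp) (by simp)

end Groth.Agent.Helper15.LqfSep
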