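import Groth.Agent.Lib.Helper15.LqfSepSch4
import Groth.Agent.Lib.Helper15.AlgSpPsh
import Groth.Agent.Lib.Helper15.AlgSpLocP

set_option autoImplicit false
set_option linter.style.haveILetI false
universe u
open CategoryTheory CategoryTheory.Limits AlgebraicGeometry MorphismProperty Opposite
open AlgSp

namespace Groth.Agent.Helper15.LqfSep

variable {S : Scheme.{u}}

/-- Locally quasi-finite (and locally of finite type) descends to the first factor of a composite
into a scheme. -/
theorem locP_lqf_of_comp_scheme {E Y : Sp S} {T : Over S} (f : E ⟶ Y) (g : Y ⟶ (yon S).obj T)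
    (h : LocP (@LocallyQuasiFinite ⊓ @LocallyOfFiniteType) (f ≫ g)) :
    LocP (@LocallyQuasiFinite ⊓ @LocallyOfFiniteType) f := by
  intro U V a b k hae hbe hk
  obtain ⟨l, hl⟩ := (yon S).map_surjective (b ≫ g)
  have h1 : (@LocallyQuasiFinite ⊓ @LocallyOfFiniteType : MorphismProperty Scheme.{u})
      (k ≫ l).left :=
    h a (𝟙 _) (k ≫ l) hae (repWith_id _ T) (by
      rw [Category.comp_id, Functor.map_comp, hl, ← Category.assoc, hk, Category.assoc])
  rw [Over.comp_left] at h1
  haveI : LocallyQuasiFinite (k.left ≫ l.left) := h1.1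
  haveI : LocallyOfFiniteType (k.left ≫ l.left) := h1.2
  exact ⟨LocallyQuasiFinite.of_comp k.left l.left, locallyOfFiniteType_of_comp k.left l.left⟩

/-- **Stacks 0419-type statement**: a map `h_X ⟶ F` representable by algebraic spaces and locally
quasi-finite is representable by schemes. -/
theorem relativelyRepresentable_of_lqf (F : PSp S) (X : Over S) (p : (pyon S).obj X ⟶ F)
    (hp : RepBySpWith (LocP (@LocallyQuasiFinite ⊓ @LocallyOfFiniteType)) p) :
    (pyon S).relativelyRepresentable p := by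
  intro U ξ
  have sq : IsPullback (pullback.fst p ξ) (pullback.snd p ξ) p ξ := IsPullback.of_hasPullback _ _
  obtain ⟨hsh, hE, hlqf⟩ := hp ξ _ _ sq
  let E : Sp S := ⟨pullback p ξ, hsh⟩
  let fstS : E ⟶ (yon S).obj X := ObjectProperty.homMk (pullback.fst p ξ)
  let sndS : E ⟶ (yon S).obj U := ObjectProperty.homMk (pullback.snd p ξ)
  let m : E ⟶ (yon S).obj (X ⨯ U) := prod.lift fstS sndS ≫ inv (prodComparison (yon S) X U)
  have hm1 : m ≫ (yon S).map (prod.fst : X ⨯ U ⟶ X) = fstS := by
    simp only [m, Category.assoc]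
    rw [← prodComparison_fst, IsIso.inv_hom_id_assoc, prod.lift_fst]
  have hm2 : m ≫ (yon S).map (prod.snd : X ⨯ U ⟶ U) = sndS := by
    simp only [m, Category.assoc]
    rw [← prodComparison_snd, IsIso.inv_hom_id_assoc, prod.lift_snd]
  haveI : Mono m := ⟨fun {Z} x y hxy => by
    have h1 := congr($hxy ≫ (yon S).map (prod.fst : X ⨯ U ⟶ X))
    have h2 := congr($hxy ≫ (yon S).map (prod.snd : X ⨯ U ⟶ U))
    simp only [Category.assoc, hm1, hm2] at h1 h2
    apply Sheaf.hom_ext
    apply sq.hom_ext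
    · exact congr($(h1).hom)
    · exact congr($(h2).hom)⟩
  have hlqf' : LocP (@LocallyQuasiFinite ⊓ @LocallyOfFiniteType) m :=
    locP_lqf_of_comp_scheme m ((yon S).map (prod.snd : X ⨯ U ⟶ U)) (by rw [hm2]; exact hlqf)
  obtain ⟨V, ⟨e⟩⟩ := exists_rep_of_lqf_separated hE m hlqf' (isSeparatedMor_of_mono m)
  obtain ⟨snd, hsnd⟩ := (yon S).map_surjective (e.hom ≫ sndS)
  refine ⟨V, snd, (e.hom ≫ fstS).hom, ?_⟩
  have hsnd' : (pyon S).map snd = (e.hom ≫ sndS).hom := congr($(hsnd).hom)
  rw [hsnd']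
  let e' : (pyon S).obj V ≅ pullback p ξ := (sheafToPresheaf (J S) _).mapIso e
  exact IsPullback.of_iso sq e'.symm (Iso.refl _) (Iso.refl _) (Iso.refl _)
    (by
      rw [Iso.refl_hom, Category.comp_id, Iso.symm_hom, Iso.eq_inv_comp]
      rfl)
    (by
      rw [Iso.refl_hom, Category.comp_id, Iso.symm_hom, Iso.eq_inv_comp]
      rfl)
    (by simp) (by simp)

end Groth.Agent.Helper15.LqfSep
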