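import Groth.Agent.Lib.Helper15.LqfSepSch5
import Groth.Agent.Lib.Helper15.AlgSpPsh2
import Groth.Agent.Lib.Helper15.FppfBridge3

set_option autoImplicit false
set_option linter.style.haveILetI false
universe u
open CategoryTheory CategoryTheory.Limits AlgebraicGeometry MorphismProperty Opposite
open AlgSp

namespace Groth.Agent.Helper15.LqfSep

variable {S : Scheme.{u}}

/-- A morphism of sheaves representable by algebraic spaces, separated and locally quasi-finite is
representable by schemes, separated and locally quasi-finite. -/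
theorem repWith_of_repBySpWith_slqf {E F : Sp S} (a : E ⟶ F)
    (ha : RepBySpWith
      (IsSeparatedMor ⊓ LocP (@LocallyQuasiFinite ⊓ @LocallyOfFiniteType)) a.hom) :
    RepWith @IsSeparated a ∧ RepWith (@LocallyQuasiFinite ⊓ @LocallyOfFiniteType) a := by
  have key : ∀ ⦃T : Over S⦄ (ξ : (yon S).obj T ⟶ F), ∃ (V : Over S) (fst : (yon S).obj V ⟶ E)
      (snd : V ⟶ T) (_ : IsPullback fst ((yon S).map snd) a ξ), IsSeparated snd.left ∧
        (@LocallyQuasiFinite ⊓ @LocallyOfFiniteType : MorphismProperty Scheme.{u}) snd.left := by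
    intro T ξ
    have pb : IsPullback (pullback.fst a ξ) (pullback.snd a ξ) a ξ := IsPullback.of_hasPullback _ _
    have pbp := pb.map (sheafToPresheaf (J S) (Type (u + 1)))
    obtain ⟨hsh, halg, hQ1, hQ2⟩ := ha ξ.hom _ _ pbp
    have halg' : IsAlgSpace (pullback a ξ) := halg
    have hQ1' : IsSeparatedMor (pullback.snd a ξ) := hQ1
    have hQ2' : LocP (@LocallyQuasiFinite ⊓ @LocallyOfFiniteType) (pullback.snd a ξ) := hQ2
    obtain ⟨V, ⟨e⟩⟩ := exists_rep_of_lqf_separated halg' (pullback.snd a ξ) hQ2' hQ1'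
    obtain ⟨snd, hsnd⟩ := (yon S).map_surjective (e.hom ≫ pullback.snd a ξ)
    refine ⟨V, e.hom ≫ pullback.fst a ξ, snd, ?_, ?_, ?_⟩
    · rw [hsnd]
      exact IsPullback.of_iso pb e.symm (Iso.refl _) (Iso.refl _) (Iso.refl _) (by simp) (by simp)
        (by simp) (by simp)
    · rw [← isSeparatedMor_yon_map_iff, hsnd]
      exact Zmt.isSeparatedMor_mono_comp _ _ hQ1'
    · apply locP_yon_map
      rw [hsnd]
      exact Zmt.locP_etale_comp _ (repWith_of_isIso _ _) _ hQ2'
  constructor
  · haveI : (MorphismProperty.inverseImage (@IsSeparated : MorphismProperty Scheme.{u})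
        (Over.forget S)).RespectsIso := RespectsIso.inverseImage _ _
    apply MorphismProperty.relative.of_exists
    intro T ξ
    obtain ⟨V, fst, snd, sq, h1, h2⟩ := key ξ
    exact ⟨V, fst, snd, sq, h1⟩
  · haveI : (MorphismProperty.inverseImage (@LocallyQuasiFinite ⊓ @LocallyOfFiniteType :
        MorphismProperty Scheme.{u}) (Over.forget S)).RespectsIso :=
      RespectsIso.inverseImage _ _
    apply MorphismProperty.relative.of_exists
    intro T ξ
    obtain ⟨V, fst, snd, sq, h1, h2⟩ := key ξ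
    exact ⟨V, fst, snd, sq, h2⟩

/-- An fppf chart of a base change of a map representable by algebraic spaces, flat, surjective and
locally of finite presentation. -/
theorem exists_fppf_chart {F G : Sp S} (g : F ⟶ G)
    (hg : RepBySpWith
      (IsSurjectiveMor ⊓ LocP @Flat ⊓ LocP @LocallyOfFinitePresentation) g.hom) {T : Over S}
    (ξ : (yon S).obj T ⟶ G) :
    ∃ (T' : Over S) (c : T' ⟶ T) (τ : (yon S).obj T' ⟶ F), τ ≫ g = (yon S).map c ≫ ξ ∧
      Flat c.left ∧ LocallyOfFinitePresentation c.left ∧ Surjective c.left := by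
  have sq : IsPullback (pullback.fst g ξ) (pullback.snd g ξ) g ξ := IsPullback.of_hasPullback _ _
  have sqp := sq.map (sheafToPresheaf (J S) (Type (u + 1)))
  obtain ⟨hsh, halg, ⟨hQ1, hQ2⟩, hQ3⟩ := hg ξ.hom _ _ sqp
  have hQ1' : IsSurjectiveMor (pullback.snd g ξ) := hQ1
  have hQ2' : LocP @Flat (pullback.snd g ξ) := hQ2
  have hQ3' : LocP @LocallyOfFinitePresentation (pullback.snd g ξ) := hQ3
  have halg' : IsAlgSpace (pullback g ξ) := halg
  obtain ⟨V, q, hqe, hqs⟩ := halg'.atlas
  obtain ⟨c, hc⟩ := (yon S).map_surjective (q ≫ pullback.snd g ξ)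
  have hcomm : q ≫ pullback.snd g ξ = (yon S).map c ≫ 𝟙 _ := by rw [hc, Category.comp_id]
  have hid : RepWith @Etale (𝟙 ((yon S).obj T)) := repWith_id _ T
  have hflat : Flat c.left := hQ2' q (𝟙 _) c hqe hid hcomm
  have hlfp : LocallyOfFinitePresentation c.left := hQ3' q (𝟙 _) c hqe hid hcomm
  have hsurj : Surjective c.left := by
    refine ⟨fun t => ?_⟩
    obtain ⟨p', hp'⟩ := hQ1' (Points.ofScheme T t)
    obtain ⟨v', rfl⟩ := isSurjectiveMor_of_repWith_surjective q hqs p'
    obtain ⟨v, rfl⟩ := (Points.schemeEquiv V).surjective v'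
    refine ⟨v, ?_⟩
    apply (Points.schemeEquiv T).injective
    change Points.ofScheme T (c.left v) = Points.ofScheme T t
    rw [← hp', ← ofPt_yon_map, hc, Points.ofPt_eq_map_ofScheme, Points.map_comp]
    rfl
  refine ⟨V, c, q ≫ pullback.fst g ξ, ?_, hflat, hlfp, hsurj⟩
  rw [Category.assoc, sq.w, ← Category.assoc, hc]

end Groth.Agent.Helper15.LqfSep
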