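import Groth.Agent.Lib.Helper15.LqfSepSch6

set_option autoImplicit false
set_option linter.style.haveILetI false
universe u
open CategoryTheory CategoryTheory.Limits AlgebraicGeometry MorphismProperty Opposite
open AlgSp

namespace Groth.Agent.Helper15.LqfSep

variable {S : Scheme.{u}}

/-- **fppf descent for separated locally quasi-finite morphisms** (Stacks 0ADV-type statement). -/
theorem repWith_of_fppf_base_slqf {E F G H : Sp S} (a : E ⟶ F) (f : E ⟶ H) (g : F ⟶ G)
    (b : H ⟶ G) (sq : IsPullback a f g b)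
    (hg : RepBySpWith
      (IsSurjectiveMor ⊓ LocP @Flat ⊓ LocP @LocallyOfFinitePresentation) g.hom)
    (ha : RepBySpWith
      (IsSeparatedMor ⊓ LocP (@LocallyQuasiFinite ⊓ @LocallyOfFiniteType)) a.hom) :
    RepWith @IsSeparated b ∧ RepWith (@LocallyQuasiFinite ⊓ @LocallyOfFiniteType) b := by
  obtain ⟨has, haq⟩ := repWith_of_repBySpWith_slqf a ha
  have hrepa := has.rep
  haveI : Epi g := epi_of_repBySpWith_fppf g hg
  haveI : Sheaf.IsLocallySurjective g := (Sheaf.isLocallySurjective_iff_epi g).2 inferInstance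
  have hrepb : Representable b := by
    intro T ξ
    obtain ⟨T', c, τ, hτ, hflat, hlfp, hsurj⟩ := exists_fppf_chart g hg ξ
    have sqa := hrepa.isPullback τ
    have pb : IsPullback (pullback.fst b ξ) (pullback.snd b ξ) b ξ := .of_hasPullback _ _
    have big : IsPullback (hrepa.fst τ ≫ f) ((yon S).map (hrepa.snd τ)) b ((yon S).map c ≫ ξ) := by
      rw [← hτ]; exact sqa.paste_horiz sq.flip
    let fst' : (yon S).obj (hrepa.pullback τ) ⟶ pullback b ξ :=
      pb.lift (hrepa.fst τ ≫ f) ((yon S).map (hrepa.snd τ) ≫ (yon S).map c) (by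
        rw [Category.assoc]; exact big.w)
    have h1 : fst' ≫ pullback.fst b ξ = hrepa.fst τ ≫ f := pb.lift_fst _ _ _
    have h2 : fst' ≫ pullback.snd b ξ = (yon S).map (hrepa.snd τ) ≫ (yon S).map c :=
      pb.lift_snd _ _ _
    have sqL : IsPullback fst' ((yon S).map (hrepa.snd τ)) (pullback.snd b ξ) ((yon S).map c) :=
      IsPullback.of_right (by rw [h1]; exact big) h2 pb
    obtain ⟨W, j, e, he⟩ := Bridge.exists_rep_of_slqf (ι := PUnit.{u+1})
      (V' := fun _ => hrepa.pullback τ) (fst := fun _ => fst') (T' := fun _ => T')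
      (c := fun _ => c) (π := fun _ => hrepa.snd τ) (fun _ => sqL) (fun _ => hflat)
      (fun _ => hlfp) (fun x => ⟨PUnit.unit, hsurj.surj x⟩)
      (fun _ => ⟨has.property _ _ _ sqa, (haq.property _ _ _ sqa).1, (haq.property _ _ _ sqa).2⟩)
    refine ⟨W, j, e.hom ≫ pullback.fst b ξ, ?_⟩
    rw [← he]
    exact IsPullback.of_iso pb e.symm (Iso.refl _) (Iso.refl _) (Iso.refl _) (by simp) (by simp)
      (by simp) (by simp)
  exact ⟨repWith_of_isLocallySurjective_base b hrepb g f a sq.flip @IsSeparated has,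
    repWith_of_isLocallySurjective_base b hrepb g f a sq.flip _ haq⟩

end Groth.Agent.Helper15.LqfSep
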