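import Mathlib
import Groth.Agent.Lib.Helper15.Strat6
import Groth.Agent.Lib.Helper15.C0Sch1

/-!
# Stratification by charts over an arbitrary base: charts lying over an affine open of the base

The filtration of `Strat6` is redone for an algebraic space quasi-separated over an arbitrary base
scheme `S` which admits a surjective etale chart from an affine scheme whose structure morphism
factors through an affine open subscheme of `S`.
-/

set_option autoImplicit false
universe u
open CategoryTheory CategoryTheory.Limits AlgebraicGeometry MorphismProperty Opposite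
open AlgSp

namespace Groth.Agent.Helper15.StratG

open Groth.Agent.Helper15 Groth.Agent.Helper15.Strat

variable {S : Scheme.{u}}

/-- The fibre product over `S` of two quasi-compact schemes lying over one affine open of `S` is
quasi-compact. -/
theorem compactSpace_pullback_of_range_subset {S' : S.Opens} (hS' : IsAffineOpen S')
    {T V : Scheme.{u}} (t : T ⟶ S) (v : V ⟶ S) (ht : Set.range t ⊆ (S' : Set S))
    (hv : Set.range v ⊆ (S' : Set S)) [CompactSpace T] [CompactSpace V] :
    CompactSpace ↥(pullback t v) := by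
  let t' : T ⟶ S' := IsOpenImmersion.lift S'.ι t (by rw [Scheme.Opens.range_ι]; exact ht)
  let v' : V ⟶ S' := IsOpenImmersion.lift S'.ι v (by rw [Scheme.Opens.range_ι]; exact hv)
  have ht' : t' ≫ S'.ι = t := IsOpenImmersion.lift_fac _ _ _
  have hv' : v' ≫ S'.ι = v := IsOpenImmersion.lift_fac _ _ _
  haveI : IsAffine (S' : Scheme.{u}) := hS'
  haveI : QuasiCompact t' := quasiCompact_of_compactSpace _
  haveI : CompactSpace ↥(pullback t' v') :=
    QuasiCompact.compactSpace_of_compactSpace (pullback.snd t' v')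
  have hpb : IsPullback (pullback.fst t' v') (pullback.snd t' v') (t' ≫ S'.ι) (v' ≫ S'.ι) :=
    IsPullback.of_isLimit (pullbackIsPullbackOfCompMono t' v' S'.ι)
  rw [ht', hv'] at hpb
  exact QuasiCompact.compactSpace_of_compactSpace hpb.isoPullback.inv

theorem compactSpace_prodG {S' : S.Opens} (hS' : IsAffineOpen S') {T V : Over S}
    (hT : Set.range T.hom ⊆ (S' : Set S)) (hV : Set.range V.hom ⊆ (S' : Set S))
    [CompactSpace T.left] [CompactSpace V.left] : CompactSpace (T ⨯ V).left := by
  haveI : CompactSpace ↥(pullback T.hom V.hom) :=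
    compactSpace_pullback_of_range_subset hS' T.hom V.hom hT hV
  exact QuasiCompact.compactSpace_of_compactSpace (Over.prodLeftIsoPullback T V).hom

theorem range_subset_of_hom {T V : Over S} (m : V ⟶ T) {A : Set S}
    (hT : Set.range T.hom ⊆ A) : Set.range V.hom ⊆ A := by
  rintro _ ⟨v, rfl⟩
  apply hT
  refine ⟨m.left v, ?_⟩
  rw [← Scheme.Hom.comp_apply, CategoryTheory.Over.w]

/-- The fibre product over a quasi-separated space of two schemes whose product over `S` is
quasi-compact is quasi-compact. -/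
theorem compactSpace_pullbackG {X : Sp S} (hqs : IsQuasiSeparatedSp X)
    {T V W : Over S} (hTV : CompactSpace (T ⨯ V).left)
    (x : (yon S).obj T ⟶ X) (g : (yon S).obj V ⟶ X) (r₁ : W ⟶ T) (r₂ : W ⟶ V)
    (sq : IsPullback ((yon S).map r₁) ((yon S).map r₂) x g) : CompactSpace W.left := by
  haveI hqc : QuasiCompact (prod.lift r₁ r₂).left := Groth.Agent.Helper15.prod_lift_of_repWith_diag hqs sq
  exact QuasiCompact.compactSpace_of_compactSpace (prod.lift r₁ r₂).left

section
variable {X : Sp S} {U : Over S} (p : (yon S).obj U ⟶ X)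

theorem exists_isConf_succG (hX : IsAlgSpace X) (hqs : IsQuasiSeparatedSp X)
    (hpe : RepWith @Etale p) (hU : IsSeparated U.hom) {S' : S.Opens} (hS' : IsAffineOpen S')
    (hUS : Set.range U.hom ⊆ (S' : Set S)) [CompactSpace U.left] {n : ℕ}
    {W : Over S} {pr : Fin (n + 1) → (W ⟶ U)} (hW : IsConf p n W pr) :
    ∃ (W' : Over S) (pr' : Fin (n + 2) → (W' ⟶ U)), IsConf p (n + 1) W' pr' := by
  have hps := repWith_isSeparated_chart p hX hpe hU
  let g : (yon S).obj W ⟶ X := (yon S).map (pr 0) ≫ p
  have hrep := hpe.rep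
  let Q := hrep.pullback g
  let q₁ : Q ⟶ W := hrep.snd g
  let q₂ : Q ⟶ U := hrep.fst' g
  have sq : IsPullback ((yon S).map q₂) ((yon S).map q₁) p g := hrep.isPullback' g
  have hq₁e : Etale q₁.left := hpe.property_snd g
  have hq₁s : IsSeparated q₁.left := hps.property_snd g
  haveI := hW.compact
  haveI hQc : CompactSpace Q.left :=
    compactSpace_pullbackG hqs (compactSpace_prodG hS' hUS (range_subset_of_hom (pr 0) hUS)) p g q₂ q₁ sq
  have hab : ∀ i, (yon S).map (q₁ ≫ pr i) ≫ p = (yon S).map q₂ ≫ p := by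
    intro i
    rw [Functor.map_comp, Category.assoc, hW.compat i 0, sq.w]
  choose E e he1 he2 he3 he4 using fun i => exists_eqLocus p hX hpe hU (q₁ ≫ pr i) q₂ (hab i)
  have hopen : IsOpen (⋃ i, Set.range (e i).left)ᶜ := by
    rw [isOpen_compl_iff]
    exact isClosed_iUnion_of_finite (fun i => (e i).left.isClosedEmbedding.isClosed_range)
  have hclosed : IsClosed (⋃ i, Set.range (e i).left)ᶜ := by
    rw [isClosed_compl_iff]
    exact isOpen_iUnion (fun i => (e i).left.isOpenEmbedding.isOpen_range)
  let Ω : Q.left.Opens := ⟨_, hopen⟩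
  let W' : Over S := Over.mk (Ω.ι ≫ Q.hom)
  let ι : W' ⟶ Q := Over.homMk Ω.ι rfl
  haveI : Mono ι := by
    refine ⟨fun {Z} a b hab => ?_⟩
    ext
    have := congrArg (fun f => f.left) hab
    exact (cancel_mono Ω.ι).1 this
  let pr' : Fin (n + 2) → (W' ⟶ U) :=
    Fin.snoc (α := fun _ => W' ⟶ U) (fun i => ι ≫ q₁ ≫ pr i) (ι ≫ q₂)
  have hpr1 : ∀ i : Fin (n + 1), pr' (Fin.castSucc i) = ι ≫ q₁ ≫ pr i := fun i =>
    Fin.snoc_castSucc (α := fun _ => W' ⟶ U) _ _ i
  have hpr2 : pr' (Fin.last (n + 1)) = ι ≫ q₂ := Fin.snoc_last (α := fun _ => W' ⟶ U) _ _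
  have hpr0 : pr' 0 = ι ≫ q₁ ≫ pr 0 := by
    rw [← Fin.castSucc_zero, hpr1]
  -- points of `W'` avoid the equaliser loci
  have havoid : ∀ (i : Fin (n + 1)) (T : Over S) (c : T ⟶ W'),
      c ≫ ι ≫ q₁ ≫ pr i = c ≫ ι ≫ q₂ → IsEmpty T.left := by
    intro i T c hc
    obtain ⟨c', hc'⟩ := he4 i T (c ≫ ι) (by simpa only [Category.assoc] using hc)
    refine ⟨fun t => ?_⟩
    have h1 : (c ≫ ι).left t ∈ (⋃ i, Set.range (e i).left)ᶜ := (c.left t).2
    apply h1
    refine Set.mem_iUnion.2 ⟨i, c'.left t, ?_⟩
    rw [← hc']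
    rfl
  have hcommon : ∀ i, (yon S).map (pr' i) ≫ p = (yon S).map ι ≫ (yon S).map q₁ ≫ g := by
    intro i
    refine Fin.lastCases ?_ (fun i => ?_) i
    · rw [hpr2, Functor.map_comp, Category.assoc, sq.w]
    · rw [hpr1, Functor.map_comp, Functor.map_comp, Category.assoc, Category.assoc, hW.compat i 0]
  refine ⟨W', pr', ⟨fun i j => (hcommon i).trans (hcommon j).symm, ?_, ?_, ?_, ?_, ?_, ?_⟩⟩
  · -- distinct
    intro i j
    refine Fin.lastCases ?_ (fun i => ?_) i
    · refine Fin.lastCases ?_ (fun j => ?_) j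
      · intro h; exact absurd rfl h
      · intro _ T c hc
        rw [hpr1, hpr2] at hc
        exact havoid j T c hc.symm
    · refine Fin.lastCases ?_ (fun j => ?_) j
      · intro _ T c hc
        rw [hpr1, hpr2] at hc
        exact havoid i T c hc
      · intro hij T c hc
        rw [hpr1, hpr1] at hc
        refine hW.distinct i j (fun h => hij (by rw [h])) T (c ≫ ι ≫ q₁) ?_
        simpa only [Category.assoc] using hc
  · -- lift
    intro T a hac had
    obtain ⟨l₀, hl₀⟩ := hW.lift T (fun i => a (Fin.castSucc i)) (fun i j => hac _ _)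
      (fun i j hij T' c hc => had _ _ (fun h => hij (Fin.castSucc_injective _ h)) T' c hc)
    have hw : (yon S).map (a (Fin.last (n + 1))) ≫ p = (yon S).map l₀ ≫ g := by
      rw [← Category.assoc, ← Functor.map_comp, hl₀ 0]
      exact hac _ _
    obtain ⟨l₁, hl₁⟩ := (yon S).map_surjective (sq.lift _ _ hw)
    have hl₁1 : l₁ ≫ q₂ = a (Fin.last (n + 1)) := by
      apply (yon S).map_injective
      rw [Functor.map_comp, hl₁, sq.lift_fst]
    have hl₁2 : l₁ ≫ q₁ = l₀ := by
      apply (yon S).map_injective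
      rw [Functor.map_comp, hl₁, sq.lift_snd]
    have hrange : Set.range l₁.left ⊆ Set.range Ω.ι := by
      rintro _ ⟨t, rfl⟩
      rw [Scheme.Opens.range_ι]
      intro hmem
      obtain ⟨i, hi⟩ := Set.mem_iUnion.1 hmem
      -- the residue field point
      let T' : Over S := Over.mk (T.left.fromSpecResidueField t ≫ T.hom)
      let ιt : T' ⟶ T := Over.homMk (T.left.fromSpecResidueField t) rfl
      have hrange' : Set.range (ιt ≫ l₁).left ⊆ Set.range (e i).left := by
        rintro _ ⟨y, rfl⟩
        change l₁.left ((T.left.fromSpecResidueField t) y) ∈ _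
        rw [Scheme.fromSpecResidueField_apply]
        exact hi
      haveI := he1 i
      let c'' : T' ⟶ E i := Over.homMk (IsOpenImmersion.lift (e i).left (ιt ≫ l₁).left hrange') (by
        change _ ≫ (E i).hom = T'.hom
        rw [← CategoryTheory.Over.w (e i), ← Category.assoc, IsOpenImmersion.lift_fac, CategoryTheory.Over.w])
      have hc'' : c'' ≫ e i = ιt ≫ l₁ := by
        ext
        exact IsOpenImmersion.lift_fac _ _ _
      have heq : ιt ≫ a (Fin.castSucc i) = ιt ≫ a (Fin.last (n + 1)) := by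
        rw [← hl₁1, ← hl₀ i, ← hl₁2]
        simp only [Category.assoc]
        rw [← Category.assoc ιt, ← hc'', Category.assoc, he3 i, ← Category.assoc, hc'',
          Category.assoc]
      have hne : Fin.castSucc i ≠ Fin.last (n + 1) := (Fin.castSucc_lt_last i).ne
      have := had _ _ hne T' ιt heq
      exact this.false (⊥ : PrimeSpectrum (T.left.residueField t))
    let l : T ⟶ W' := Over.homMk (IsOpenImmersion.lift Ω.ι l₁.left hrange) (by
      change _ ≫ Ω.ι ≫ Q.hom = T.hom
      rw [← Category.assoc, IsOpenImmersion.lift_fac, CategoryTheory.Over.w])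
    have hl : l ≫ ι = l₁ := by
      ext
      exact IsOpenImmersion.lift_fac _ _ _
    refine ⟨l, fun i => ?_⟩
    refine Fin.lastCases ?_ (fun i => ?_) i
    · rw [hpr2, ← Category.assoc, hl, hl₁1]
    · rw [hpr1, ← Category.assoc, hl, ← Category.assoc, hl₁2, hl₀]
  · -- ext
    intro T l l' h
    rw [← cancel_mono ι]
    apply (yon S).map_injective
    apply sq.hom_ext
    · rw [← Functor.map_comp, ← Functor.map_comp, Category.assoc, Category.assoc, ← hpr2]
      exact congrArg _ (h _)
    · rw [← Functor.map_comp, ← Functor.map_comp]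
      congr 1
      apply hW.ext
      intro i
      have := h (Fin.castSucc i)
      rw [hpr1] at this
      simpa only [Category.assoc] using this
  · -- etale
    rw [hpr0]
    change Etale (Ω.ι ≫ q₁.left ≫ (pr 0).left)
    haveI := hW.etale
    infer_instance
  · rw [hpr0]
    change IsSeparated (Ω.ι ≫ q₁.left ≫ (pr 0).left)
    haveI := hW.sep
    infer_instance
  · change CompactSpace Ω
    exact isCompact_iff_compactSpace.1 hclosed.isCompact

theorem exists_isConfG (hX : IsAlgSpace X) (hqs : IsQuasiSeparatedSp X)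
    (hpe : RepWith @Etale p) (hU : IsSeparated U.hom) {S' : S.Opens} (hS' : IsAffineOpen S')
    (hUS : Set.range U.hom ⊆ (S' : Set S))
    [CompactSpace U.left] (n : ℕ) :
    ∃ (W : Over S) (pr : Fin (n + 1) → (W ⟶ U)), IsConf p n W pr := by
  induction n with
  | zero => exact ⟨U, _, isConf_zero p⟩
  | succ n ih =>
    obtain ⟨W, pr, h⟩ := ih
    exact exists_isConf_succG p hX hqs hpe hU hS' hUS h


end

variable {X : Sp S} {U : Over S} {p : (yon S).obj U ⟶ X}

/-- Over a given point of the chart, the number of distinct points of the chart over the same point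
of `X` is bounded. -/
theorem exists_bound_atG (hqs : IsQuasiSeparatedSp X) (hpe : RepWith @Etale p)
    {S' : S.Opens} (hS' : IsAffineOpen S')
    (hUS : Set.range U.hom ⊆ (S' : Set S)) [CompactSpace U.left] (u : U.left) :
    ∃ N : ℕ, ∀ (n : ℕ) (W : Over S) (pr : Fin (n + 1) → (W ⟶ U)), IsConf p n W pr →
      ∀ w : W.left, (pr 0).left w = u → n + 1 ≤ N := by
  let T₀ := resPt U u
  let ιu : T₀ ⟶ U := resι U u
  let x : (yon S).obj T₀ ⟶ X := (yon S).map ιu ≫ p
  have hrep := hpe.rep
  let Z := hrep.pullback x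
  let z₁ : Z ⟶ U := hrep.fst' x
  let z₂ : Z ⟶ T₀ := hrep.snd x
  have sq : IsPullback ((yon S).map z₁) ((yon S).map z₂) p x := hrep.isPullback' x
  haveI hz₂e : Etale z₂.left := hpe.property_snd x
  haveI : CompactSpace T₀.left := (inferInstance : CompactSpace (Spec (U.left.residueField u)))
  haveI hZc : CompactSpace Z.left :=
    compactSpace_pullbackG hqs (compactSpace_prodG hS' hUS (range_subset_of_hom ιu hUS)) p x z₁ z₂ sq
  let f₀ : Z.left ⟶ Spec (CommRingCat.of (U.left.residueField u)) := z₂.left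
  haveI : Etale f₀ := hz₂e
  obtain ⟨N, hN⟩ := exists_bound_points (k := U.left.residueField u) (Z := Z.left) f₀
  refine ⟨N, ?_⟩
  rintro n W pr hW w rfl
  let T₁ := resPt W w
  let ιw : T₁ ⟶ W := resι W w
  let m : T₁ ⟶ T₀ := Over.homMk (Spec.map ((pr 0).left.residueFieldMap w)) (by
    change Spec.map ((pr 0).left.residueFieldMap w) ≫
      U.left.fromSpecResidueField ((pr 0).left w) ≫ U.hom = W.left.fromSpecResidueField w ≫ W.hom
    rw [← Category.assoc, Scheme.Hom.SpecMap_residueFieldMap_fromSpecResidueField, Category.assoc,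
      CategoryTheory.Over.w])
  have hm : m ≫ ιu = ιw ≫ pr 0 := by
    ext
    exact Scheme.Hom.SpecMap_residueFieldMap_fromSpecResidueField _ _
  have hw : ∀ i, (yon S).map (ιw ≫ pr i) ≫ p = (yon S).map m ≫ x := by
    intro i
    change _ = (yon S).map m ≫ (yon S).map ιu ≫ p
    rw [← Category.assoc, ← Functor.map_comp, hm, Functor.map_comp, Functor.map_comp,
      Category.assoc, Category.assoc, hW.compat i 0]
  choose z hz using fun i => (yon S).map_surjective (sq.lift _ _ (hw i))
  have hz1 : ∀ i, z i ≫ z₁ = ιw ≫ pr i := by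
    intro i
    apply (yon S).map_injective
    rw [Functor.map_comp, hz, sq.lift_fst]
  have hz2 : ∀ i, z i ≫ z₂ = m := by
    intro i
    apply (yon S).map_injective
    rw [Functor.map_comp, hz, sq.lift_snd]
  refine hN (W.left.residueField w) m.left (n + 1) (fun i => (z i).left)
    (fun i => congrArg (fun f => f.left) (hz2 i)) ?_
  intro i i' hii
  by_contra hne
  have h1 : z i = z i' := by
    ext
    exact hii
  have h2 : ιw ≫ pr i = ιw ≫ pr i' := by rw [← hz1, ← hz1, h1]
  have := hW.distinct i i' hne T₁ ιw h2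
  exact this.false (Classical.arbitrary _)

/-- **The configuration spaces are eventually empty.** -/
theorem exists_isEmpty_confG (hX : IsAlgSpace X) (hqs : IsQuasiSeparatedSp X)
    (hpe : RepWith @Etale p) (hU : IsSeparated U.hom) {S' : S.Opens} (hS' : IsAffineOpen S')
    (hUS : Set.range U.hom ⊆ (S' : Set S))
    [IsAffine U.left] :
    ∃ n : ℕ, ∀ (W : Over S) (pr : Fin (n + 1) → (W ⟶ U)), IsConf p n W pr → IsEmpty W.left := by
  choose W pr hW using fun n => exists_isConfG p hX hqs hpe hU hS' hUS n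
  let O : ℕ → Set U.left := fun n => Set.range (pr n 0).left
  have hopen : ∀ n, IsOpen (O n) := by
    intro n
    haveI := (hW n).etale
    exact (pr n 0).left.isOpenMap.isOpen_range
  have hcomp : ∀ n, IsCompact (O n) := by
    intro n
    haveI := (hW n).compact
    exact isCompact_range (pr n 0).left.continuous
  have hanti : Antitone O := by
    apply antitone_nat_of_succ_le
    intro n
    obtain ⟨m, hm⟩ := (hW n).exists_forget (hW (n + 1))
    rintro _ ⟨w, rfl⟩
    refine ⟨m.left w, ?_⟩
    rw [← Scheme.Hom.comp_apply, ← Over.comp_left, hm 0, Fin.castSucc_zero]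
  have hinter : ∀ u : U.left, ∃ n, u ∉ O n := by
    intro u
    obtain ⟨N, hN⟩ := exists_bound_atG hqs hpe hS' hUS u
    refine ⟨N, ?_⟩
    rintro ⟨w, hw⟩
    have := hN N (W N) (pr N) (hW N) w hw
    omega
  obtain ⟨n, hn⟩ := exists_eq_empty_of_iInter_eq_empty O hopen hcomp hanti hinter
  refine ⟨n, fun W' pr' hW' => ?_⟩
  have hempty : IsEmpty (W n).left := Set.range_eq_empty_iff.1 hn
  obtain ⟨l, -⟩ := (hW n).lift W' pr' hW'.compat hW'.distinct
  exact Function.isEmpty l.left

/-- **Filtration of a quasi-compact quasi-separated algebraic space by charts**: a decreasing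
sequence of subsets `Ω n` of the points, from everything to nothing, each the image of an etale
chart from a quasi-compact separated scheme `V n`, the chart being injective on families of points
that avoid `Ω (n + 1)`. -/
theorem exists_filtrationG {X : Sp S} (hX : IsAlgSpace X) (hqs : IsQuasiSeparatedSp X)
    {U : Over S} (p : (yon S).obj U ⟶ X) (hUaff : IsAffine U.left) (hpe : RepWith @Etale p)
    (hps : RepWith @Surjective p) {S' : S.Opens} (hS' : IsAffineOpen S')
    (hUS : Set.range U.hom ⊆ (S' : Set S)) :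
    ∃ (N : ℕ) (Ω : ℕ → Set (Points X)) (V : ℕ → Over S) (f : ∀ n, (yon S).obj (V n) ⟶ X),
      Ω 0 = Set.univ ∧ Ω N = ∅ ∧ (∀ n, Ω (n + 1) ⊆ Ω n) ∧
      (∀ n, (V n).left.IsSeparated ∧ CompactSpace (V n).left ∧ RepWith @Etale (f n) ∧
        Set.range (Points.ofPt (f n)) = Ω n) ∧
      ∀ n (T : Over S) (α β : T ⟶ V n), (yon S).map α ≫ f n = (yon S).map β ≫ f n →
        (∀ t : T.left, Points.ofPt ((yon S).map α ≫ f n) t ∉ Ω (n + 1)) → α = β := by
  classical
  haveI := hUaff
  have hU : IsSeparated U.hom := inferInstance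
  choose W pr hW using fun n => exists_isConfG p hX hqs hpe hU hS' hUS n
  choose V π hQ using fun n => (hW n).exists_isQuot
  choose f hf hfe using fun n => (hQ n).exists_chart hX hpe
  obtain ⟨N, hN⟩ := exists_isEmpty_confG hX hqs hpe hU hS' hUS
  have hpt : ∀ n (w : (W n).left), Points.ofPt (f n) ((π n).left w) = Points.ofPt (hW n).g w := by
    intro n w
    rw [← hf, ofPt_comp_yon_map]
  refine ⟨N, fun n => Set.range (Points.ofPt (hW n).g), V, f, ?_, ?_, ?_, ?_, ?_⟩
  · -- everything
    apply Set.eq_univ_of_forall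
    intro x
    obtain ⟨u, rfl⟩ := surjective_ofPt p hps x
    obtain ⟨l, hl⟩ := (hW 0).lift U (fun _ => 𝟙 U) (fun _ _ => rfl)
      (fun a b hab => absurd ((Fin.eq_zero a).trans (Fin.eq_zero b).symm) hab)
    refine ⟨l.left u, ?_⟩
    rw [← ofPt_comp_yon_map]
    congr 1
    unfold IsConf.g
    rw [← Category.assoc, ← Functor.map_comp, hl 0, CategoryTheory.Functor.map_id,
      Category.id_comp]
  · -- nothing
    apply Set.eq_empty_of_forall_notMem
    rintro _ ⟨w, -⟩
    exact (hN (W N) (pr N) (hW N)).false w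
  · -- decreasing
    intro n
    obtain ⟨m, hm⟩ := (hW n).exists_forget (hW (n + 1))
    rintro _ ⟨w, rfl⟩
    refine ⟨m.left w, ?_⟩
    rw [← ofPt_comp_yon_map]
    congr 1
    unfold IsConf.g
    rw [← Category.assoc, ← Functor.map_comp, hm 0, Fin.castSucc_zero]
  · intro n
    refine ⟨(hQ n).sep, (hQ n).compact, hfe n, ?_⟩
    ext x
    constructor
    · rintro ⟨v, rfl⟩
      obtain ⟨w, rfl⟩ := (hQ n).surj.surj v
      exact ⟨w, (hpt n w).symm⟩
    · rintro ⟨w, rfl⟩
      exact ⟨(π n).left w, hpt n w⟩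
  · intro n T α β hαβ havoid
    exact (hQ n).eq_of_chart_eq hX hpe hU (hW (n + 1)) (f n) (hf n) α β hαβ havoid

end Groth.Agent.Helper15.StratG
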