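import Mathlib
import Groth.Agent.Lib.Helper15.StratG1

/-!
# Points of codimension zero of an algebraic space quasi-separated over an arbitrary base lie in
the schematic locus
-/

set_option autoImplicit false
universe u
open CategoryTheory CategoryTheory.Limits AlgebraicGeometry MorphismProperty Opposite
open AlgSp Groth.Agent.Helper16.AS

namespace Groth.Agent.Helper15.StratG

open Groth.Agent.Helper15 Groth.Agent.Helper15.Strat Groth.Agent.Helper15.MaxPts
  Groth.Agent.Helper15.GenFin Groth.Agent.Helper15.Bir Groth.Agent.Helper15.C0Sch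

variable {S : Scheme.{u}}

/-- If a surjective etale chart of `X` lies over a subset of `S`, so does every scheme over `X`. -/
theorem range_subset_of_chart {X : Sp S} {U : Over S} (p : (yon S).obj U ⟶ X)
    (hpe : RepWith @Etale p) (hps : RepWith @Surjective p) {A : Set S}
    (hUS : Set.range U.hom ⊆ A) {T : Over S} (g : (yon S).obj T ⟶ X) : Set.range T.hom ⊆ A := by
  have hrep := hpe.rep
  have hs : Surjective (hrep.snd g).left := hps.property_snd g
  rintro _ ⟨t, rfl⟩
  obtain ⟨q, rfl⟩ := hs.surj t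
  rw [← Scheme.Hom.comp_apply, CategoryTheory.Over.w, ← CategoryTheory.Over.w (hrep.fst' g),
    Scheme.Hom.comp_apply]
  exact hUS ⟨_, rfl⟩

/-- **A codimension zero point of a quasi-compact quasi-separated algebraic space has an open
neighbourhood which is a scheme.** -/
theorem exists_open_subscheme_c0_of_chartG {X : Sp S} (hX : IsAlgSpace X)
    (hqs : IsQuasiSeparatedSp X) {U : Over S} (p : (yon S).obj U ⟶ X) (hUaff : IsAffine U.left)
    (hpe : RepWith @Etale p) (hps : RepWith @Surjective p) {S' : S.Opens} (hS' : IsAffineOpen S')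
    (hUS : Set.range U.hom ⊆ (S' : Set S)) (x : Points X)
    (hx : HasAt (fun U u => ringKrullDim ↥(U.presheaf.stalk u) = 0) X x) :
    ∃ (T : Over S) (a : (yon S).obj T ⟶ X), RepWith @IsOpenImmersion a ∧
      x ∈ Set.range (Points.ofPt a) := by
  classical
  obtain ⟨N, Ω, V, f, h0, hN, hmono, hV, hinj⟩ := exists_filtrationG hX hqs p hUaff hpe hps hS' hUS
  have hex : ∃ m, x ∉ Ω m := ⟨N, by rw [hN]; exact Set.notMem_empty x⟩
  have hm0 : Nat.find hex ≠ 0 := by
    intro h
    have := Nat.find_spec hex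
    rw [h, h0] at this
    exact this (Set.mem_univ x)
  obtain ⟨n, hn⟩ := Nat.exists_eq_succ_of_ne_zero hm0
  have hxn : x ∈ Ω n := by
    by_contra h
    have := Nat.find_min' hex h
    omega
  have hxn1 : x ∉ Ω (n + 1) := by
    have := Nat.find_spec hex
    rwa [hn] at this
  obtain ⟨hVsep, hVc, hfe, hfr⟩ := hV n
  obtain ⟨hVsep', hVc', hfe', hfr'⟩ := hV (n + 1)
  haveI := hVsep
  haveI := hVc
  haveI := hVc'
  obtain ⟨v, hv⟩ : x ∈ Set.range (Points.ofPt (f n)) := by rw [hfr]; exact hxn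
  have hvmax : v ∈ maxPts (V n).left := (hasAt_c0_chart_iff (f n) hfe v).1 (by rw [hv]; exact hx)
  -- the preimage of the next stratum
  have sq := hfe.rep.isPullback' (f (n + 1))
  set W := hfe.rep.pullback (f (n + 1)) with hWdef
  set r₁ : W ⟶ V n := hfe.rep.fst' (f (n + 1)) with hr₁
  set r₂ : W ⟶ V (n + 1) := hfe.rep.snd (f (n + 1)) with hr₂
  haveI : CompactSpace W.left :=
    compactSpace_pullbackG hqs (compactSpace_prodG hS' (range_subset_of_chart p hpe hps hUS (f n))
      (range_subset_of_chart p hpe hps hUS (f (n + 1)))) (f n) (f (n + 1)) r₁ r₂ sq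
  have hOeq : Points.ofPt (f n) ⁻¹' Ω (n + 1) = Set.range r₁.left := by
    ext v'
    constructor
    · intro hv'
      rw [Set.mem_preimage, ← hfr'] at hv'
      obtain ⟨v'', hv''⟩ := hv'
      obtain ⟨w, hw1, -⟩ := exists_of_ofPt_eq sq v' v'' hv''.symm
      exact ⟨w, hw1⟩
    · rintro ⟨w, rfl⟩
      rw [Set.mem_preimage, ← hfr']
      refine ⟨r₂.left w, ?_⟩
      rw [← ofPt_comp_yon_map, ← sq.w, ofPt_comp_yon_map]
  have hOc : IsCompact (Points.ofPt (f n) ⁻¹' Ω (n + 1)) := by
    rw [hOeq]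
    exact isCompact_range r₁.left.continuous
  have hOo : IsOpen (Points.ofPt (f n) ⁻¹' Ω (n + 1)) := by
    rw [← hfr']
    exact (isOpenMap_ofPt_of_etale _ hfe').isOpen_range.preimage (Points.continuous_ofPt _)
  have hvO : v ∉ Points.ofPt (f n) ⁻¹' Ω (n + 1) := by
    rw [Set.mem_preimage, hv]
    exact hxn1
  obtain ⟨N₀, hvN₀, hN₀d⟩ := exists_open_disjoint_of_maxPt (V n).left _ hOc hOo v hvmax hvO
  -- the open subscheme
  let T : Over S := opSub (V n) N₀
  let a : (yon S).obj T ⟶ X := (yon S).map (opι (V n) N₀) ≫ f n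
  have hae : RepWith @Etale a :=
    (RepWith @Etale).comp_mem _ _
      ((repWith_yon_map_iff _ _).2 (inferInstance : Etale N₀.ι)) hfe
  haveI : Mono a := by
    apply mono_of_yon
    intro T' a₁ a₂ h12
    obtain ⟨α₁, rfl⟩ := (yon S).map_surjective a₁
    obtain ⟨α₂, rfl⟩ := (yon S).map_surjective a₂
    have h1 : (yon S).map (α₁ ≫ opι (V n) N₀) ≫ f n = (yon S).map (α₂ ≫ opι (V n) N₀) ≫ f n := by
      rw [Functor.map_comp, Functor.map_comp, Category.assoc, Category.assoc]
      exact h12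
    have h2 : α₁ ≫ opι (V n) N₀ = α₂ ≫ opι (V n) N₀ := by
      refine hinj n T' _ _ h1 ?_
      intro t ht
      rw [ofPt_comp_yon_map] at ht
      refine Set.disjoint_left.1 hN₀d ?_ ht
      exact (α₁.left t).2
    have h3 : α₁.left = α₂.left := by
      have := congrArg (fun φ => φ.left) h2
      exact (cancel_mono N₀.ι).1 this
    congr 1
    exact Over.OverMorphism.ext h3
  refine ⟨T, a, repWith_isOpenImmersion_of_etale_mono a hae, ⟨(⟨v, hvN₀⟩ : (N₀ : Scheme.{u})), ?_⟩⟩
  rw [ofPt_comp_yon_map]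
  exact hv

/-- **A codimension zero point of an algebraic space quasi-separated over an arbitrary base scheme
has an open neighbourhood which is a scheme.** -/
theorem exists_open_subscheme_c0G {X : Sp S} (hX : IsAlgSpace X)
    (hqs : IsQuasiSeparatedSp X) (x : Points X)
    (hx : HasAt (fun U u => ringKrullDim ↥(U.presheaf.stalk u) = 0) X x) :
    ∃ (T : Over S) (a : (yon S).obj T ⟶ X), RepWith @IsOpenImmersion a ∧
      x ∈ Set.range (Points.ofPt a) := by
  obtain ⟨U₀, hU₀aff, p₀, u₀, hpe₀, rfl⟩ := exists_affine_etale_nbhd hX x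
  -- shrink the chart so that it lies over an affine open of `S`
  obtain ⟨S', hS', hsS', -⟩ := exists_isAffineOpen_mem_and_subset
    (x := U₀.hom u₀) (U := (⊤ : S.Opens)) trivial
  obtain ⟨U', hU', hu', hU'S⟩ := exists_isAffineOpen_mem_and_subset
    (x := u₀) (U := U₀.hom ⁻¹ᵁ S') hsS'
  let U : Over S := opSub U₀ U'
  let p : (yon S).obj U ⟶ X := (yon S).map (opι U₀ U') ≫ p₀
  let u : U.left := ⟨u₀, hu'⟩
  have hUaff : IsAffine U.left := hU'
  have hpe : RepWith @Etale p :=
    (RepWith @Etale).comp_mem _ _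
      ((repWith_yon_map_iff _ _).2 (inferInstance : Etale U'.ι)) hpe₀
  have hUS : Set.range U.hom ⊆ (S' : Set S) := by
    rintro _ ⟨y, rfl⟩
    exact hU'S y.2
  have hpu : Points.ofPt p u = Points.ofPt p₀ u₀ := by
    rw [ofPt_comp_yon_map]
    rfl
  rw [← hpu] at hx ⊢
  haveI := hUaff
  obtain ⟨hX₁, hj₁, hpe₁, hps₁, -⟩ := openSubspace_of_etale hX p hpe
  haveI : Mono (Sheaf.imageι p) := mono_of_repWith isOpenImmersion_le_mono _ hj₁
  have hqs₁ : IsQuasiSeparatedSp (Sheaf.image p) :=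
    Strat.isQuasiSeparatedSp_of_mono (Sheaf.imageι p) hqs
  have hfac : Sheaf.toImage p ≫ Sheaf.imageι p = p := Sheaf.toImage_ι p
  have hx₁ : HasAt (fun U u => ringKrullDim ↥(U.presheaf.stalk u) = 0) (Sheaf.image p)
      (Points.ofPt (Sheaf.toImage p) u) := by
    rw [hasAt_iff_of_isEtaleMor (etInv_ringKrullDim_stalk 0) hX₁ (Sheaf.imageι p)
      (isEtaleMor_of_isOpenImmersion _ hj₁), Points.map_ofPt, hfac]
    exact hx
  obtain ⟨T, a, ha, t, ht⟩ := exists_open_subscheme_c0_of_chartG hX₁ hqs₁ (Sheaf.toImage p) hUaff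
    hpe₁ hps₁ hS' hUS _ hx₁
  refine ⟨T, a ≫ Sheaf.imageι p, (RepWith @IsOpenImmersion).comp_mem _ _ ha hj₁, t, ?_⟩
  rw [← Points.map_ofPt, ht, Points.map_ofPt, hfac]

end Groth.Agent.Helper15.StratG
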