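import Mathlib
import Groth.Agent.Lib.Helper15.StratG2
import Groth.Agent.Lib.Helper15.AlgSpLargestOpen

/-!
# The schematic locus of a Zariski locally quasi-separated algebraic space is dense and contains
all points of codimension zero
-/

set_option autoImplicit false
universe u
open CategoryTheory CategoryTheory.Limits AlgebraicGeometry MorphismProperty Opposite
open AlgSp Groth.Agent.Helper16.AS

namespace Groth.Agent.Helper15.StratG

open Groth.Agent.Helper15 Groth.Agent.Helper15.Strat Groth.Agent.Helper15.MaxPts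
  Groth.Agent.Helper15.GenFin Groth.Agent.Helper15.Bir Groth.Agent.Helper15.C0Sch

variable {S : Scheme.{u}}

/-- Every nonempty open set of points of an algebraic space contains a point of codimension zero. -/
theorem exists_c0_mem_of_isOpen {X : Sp S} (hX : IsAlgSpace X) (O : Set (Points X)) (hO : IsOpen O)
    (x : Points X) (hx : x ∈ O) :
    ∃ y ∈ O, HasAt (fun U u => ringKrullDim ↥(U.presheaf.stalk u) = 0) X y := by
  obtain ⟨U, hUaff, p, u, hpe, rfl⟩ := exists_affine_etale_nbhd hX x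
  obtain ⟨ξ, hξ, hξu⟩ := exists_maxPts_specializes (α := U.left) u
  have hO' : IsOpen (Points.ofPt p ⁻¹' O) := hO.preimage (Points.continuous_ofPt p)
  have hξO : ξ ∈ Points.ofPt p ⁻¹' O := hξu.mem_open hO' hx
  exact ⟨Points.ofPt p ξ, hξO, (hasAt_c0_chart_iff p hpe ξ).2 hξ⟩

/-- **The schematic locus of a Zariski locally quasi-separated algebraic space (over an arbitrary
base) is dense and contains every point of codimension zero.** -/
theorem exists_dense_open_subscheme_c0 {X : Sp S} (hX : IsAlgSpace X) {ι : Type u}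
    (Xi : ι → Sp S) (j : ∀ i, Xi i ⟶ X) (hXi : ∀ i, IsAlgSpace (Xi i))
    (hcov : IsZarCover Xi j) (hqs : ∀ i, IsQuasiSeparatedSp (Xi i)) :
    ∃ (X' : Sp S) (j' : X' ⟶ X), IsAlgSpace X' ∧ RepWith @IsOpenImmersion j' ∧
      X'.obj.IsRepresentable ∧ Dense (Set.range (Points.map j')) ∧
      ∀ x : Points X, HasAt (fun U u => ringKrullDim ↥(U.presheaf.stalk u) = 0) X x →
        x ∈ Set.range (Points.map j') := by
  obtain ⟨X', j', hX', hj', hrep, hmax⟩ := exists_largest_open_subscheme hX
  have hc0 : ∀ x : Points X, HasAt (fun U u => ringKrullDim ↥(U.presheaf.stalk u) = 0) X x →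
      x ∈ Set.range (Points.map j') := by
    intro x hx
    obtain ⟨i, xi, rfl⟩ := hcov.2 x
    have hxi : HasAt (fun U u => ringKrullDim ↥(U.presheaf.stalk u) = 0) (Xi i) xi :=
      (hasAt_iff_of_isEtaleMor (etInv_ringKrullDim_stalk 0) (hXi i) (j i)
        (isEtaleMor_of_isOpenImmersion _ (hcov.1 i)) xi).2 hx
    obtain ⟨T, a, ha, t, ht⟩ := exists_open_subscheme_c0G (hXi i) (hqs i) xi hxi
    obtain ⟨k, hk⟩ := hmax ((yon S).obj T) (a ≫ j i)
      ((RepWith @IsOpenImmersion).comp_mem _ _ ha (hcov.1 i))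
      ⟨⟨T, ⟨AlgSp.representableByOfIso (Iso.refl _)⟩⟩⟩
    refine ⟨Points.ofPt k t, ?_⟩
    rw [Points.map_ofPt, hk, ← Points.map_ofPt, ht]
  refine ⟨X', j', hX', hj', hrep, ?_, hc0⟩
  rw [dense_iff_inter_open]
  rintro O hO ⟨x, hx⟩
  obtain ⟨y, hyO, hy⟩ := exists_c0_mem_of_isOpen hX O hO x hx
  exact ⟨y, hyO, hc0 y hy⟩

end Groth.Agent.Helper15.StratG
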