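import Mathlib
import Groth.Prelude
import Groth.Agent.Lib.Helper15.C0Sch1

/-!
# Quasi-separated schemes without specializations: quasi-compact opens are affine, and the
scheme is separated
-/

set_option autoImplicit false
universe u
open CategoryTheory CategoryTheory.Limits AlgebraicGeometry MorphismProperty Opposite

namespace Groth.Agent.Helper15.ZeroDim

open Groth.Agent.Helper15 Groth.Agent.Helper15.MaxPts Groth.Agent.Helper15.Bir
  Groth.Agent.Helper15.C0Sch

/-- A clopen subset of an affine scheme is an affine open. -/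
theorem isAffineOpen_of_isClosed (A : Scheme.{u}) [IsAffine A] (C : A.Opens)
    (hC : IsClosed (C : Set A)) : IsAffineOpen C := by
  let h := A.isoSpec.hom.homeomorph
  have hclopen : IsClopen (h '' (C : Set A)) :=
    ⟨h.isClosedMap _ hC, h.isOpenMap _ C.isOpen⟩
  obtain ⟨e, -, he⟩ := PrimeSpectrum.isClopen_iff.1 hclopen
  have hCe : C = A.basicOpen e := by
    ext x
    have h1 : x ∈ (C : Set A) ↔ h x ∈ h '' (C : Set A) :=
      ⟨fun hx => ⟨x, hx, rfl⟩, fun ⟨y, hy, hyx⟩ => by rwa [← h.injective hyx]⟩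
    have h2 : h x = A.toSpecΓ x := by
      change A.isoSpec.hom x = _
      rw [Scheme.isoSpec_hom]
    have h3 : (A.toSpecΓ x ∈ (PrimeSpectrum.basicOpen e : Set (PrimeSpectrum Γ(A, ⊤)))) ↔
        x ∈ A.basicOpen e := by
      rw [← Scheme.toSpecΓ_preimage_basicOpen]
      rfl
    exact h1.trans (by rw [he, h2]; exact h3)
  rw [hCe]
  exact (isAffineOpen_top A).basicOpen e

/-- The intersection of an affine open with a clopen is affine. -/
theorem isAffineOpen_inf_of_isClosed {Z : Scheme.{u}} (A : Z.Opens) (hA : IsAffineOpen A)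
    (C : Z.Opens) (hC : IsClosed (C : Set Z)) : IsAffineOpen (A ⊓ C) := by
  haveI : IsAffine (A : Scheme.{u}) := hA
  have h1 : IsAffineOpen (A.ι ⁻¹ᵁ C) :=
    isAffineOpen_of_isClosed (A : Scheme.{u}) (A.ι ⁻¹ᵁ C) (hC.preimage A.ι.continuous)
  have h2 := h1.image_of_isOpenImmersion A.ι
  have e : A.ι ''ᵁ (A.ι ⁻¹ᵁ C) = A ⊓ C := by
    rw [Scheme.Hom.image_preimage_eq_opensRange_inf, Scheme.Opens.opensRange_ι]
  rwa [e] at h2

section

variable {Z : Scheme.{u}} [QuasiSeparatedSpace Z] (hZ : ∀ z : Z, z ∈ maxPts Z)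

include hZ

/-- Quasi-compact opens are closed. -/
theorem isClosed_of_isCompact (O : Z.Opens) (hO : IsCompact (O : Set Z)) :
    IsClosed (O : Set Z) := by
  rw [← isOpen_compl_iff, isOpen_iff_forall_mem_open]
  intro z hz
  obtain ⟨N, hzN, hN⟩ := exists_open_disjoint_of_maxPt Z (O : Set Z) hO O.isOpen z (hZ z) hz
  exact ⟨N, fun y hy hyO => Set.disjoint_left.1 hN hy hyO, N.isOpen, hzN⟩

/-- Quasi-compact opens are affine. -/
theorem isAffineOpen_of_isCompact (V : Z.Opens) (hV : IsCompact (V : Set Z)) :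
    IsAffineOpen V := by
  obtain ⟨s, hs, rfl⟩ := isCompact_iff_finite_and_eq_biUnion_affineOpens.1 hV
  clear hV
  induction s, hs using Set.Finite.induction_on with
  | empty =>
    simp only [Set.mem_empty_iff_false, not_false_eq_true, iSup_neg, iSup_bot]
    exact isAffineOpen_bot Z
  | @insert a s ha hs ih =>
    set Vs : Z.Opens := ⨆ i ∈ s, (i : Z.Opens) with hVs
    have hVsc : IsClosed (Vs : Set Z) := isClosed_of_isCompact hZ Vs ih.isCompact
    let C : Z.Opens := ⟨(Vs : Set Z)ᶜ, hVsc.isOpen_compl⟩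
    have hCc : IsClosed (C : Set Z) := by
      change IsClosed (Vs : Set Z)ᶜ
      rw [isClosed_compl_iff]
      exact Vs.isOpen
    have h1 : IsAffineOpen ((a : Z.Opens) ⊓ C) := isAffineOpen_inf_of_isClosed a (show IsAffineOpen (a : Z.Opens) from a.2) C hCc
    have hdisj : Disjoint Vs ((a : Z.Opens) ⊓ C) := by
      rw [← TopologicalSpace.Opens.coe_disjoint, Set.disjoint_left]
      rintro y hy ⟨-, hyC⟩
      exact hyC hy
    have h2 := ih.sup_of_disjoint h1 hdisj
    have e : (⨆ i ∈ insert a s, (i : Z.Opens)) = Vs ⊔ ((a : Z.Opens) ⊓ C) := by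
      rw [iSup_insert]
      ext y
      simp only [TopologicalSpace.Opens.coe_sup, TopologicalSpace.Opens.coe_inf, Set.mem_union,
        Set.mem_inter_iff, SetLike.mem_coe]
      constructor
      · rintro (h | h)
        · by_cases hy : y ∈ Vs
          · exact Or.inl hy
          · exact Or.inr ⟨h, hy⟩
        · exact Or.inl h
      · rintro (h | ⟨h, -⟩)
        · exact Or.inr h
        · exact Or.inl h
    rw [e]
    exact h2

/-- A quasi-separated scheme without non-trivial specializations is separated. -/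
theorem isSeparated_of_forall_mem_maxPts : Z.IsSeparated := by
  haveI : QuasiSeparated (terminal.from Z) := (quasiSeparatedSpace_iff_quasiSeparated Z).1 ‹_›
  refine ⟨IsSeparated.of_valuativeCriterion _ ?_⟩
  intro Sq
  refine ⟨fun l₁ l₂ => ?_⟩
  have key : ∀ l : Sq.commSq.LiftStruct,
      l.l (IsLocalRing.closedPoint Sq.R) = Sq.i₁ (IsLocalRing.closedPoint Sq.K) := by
    intro l
    have h1 : (Spec.map (CommRingCat.ofHom (algebraMap Sq.R Sq.K)))
        (IsLocalRing.closedPoint Sq.K) ⤳ IsLocalRing.closedPoint Sq.R :=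
      IsLocalRing.specializes_closedPoint _
    have h2 := h1.map l.l.continuous
    rw [← Scheme.Hom.comp_apply, l.fac_left] at h2
    have h3 := hZ _ _ h2
    exact ((h2.antisymm h3).eq).symm
  obtain ⟨ψ₁, hψ₁⟩ := exists_SpecMap_comp_fromSpecStalk l₁.l _ (key l₁)
  obtain ⟨ψ₂, hψ₂⟩ := exists_SpecMap_comp_fromSpecStalk l₂.l _ (key l₂)
  have h12 : CommRingCat.ofHom (algebraMap Sq.R Sq.K) ≫ 𝟙 _ = CommRingCat.ofHom (algebraMap Sq.R Sq.K) :=
    Category.comp_id _
  have e : ψ₁ ≫ CommRingCat.ofHom (algebraMap Sq.R Sq.K) =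
      ψ₂ ≫ CommRingCat.ofHom (algebraMap Sq.R Sq.K) := by
    apply Spec.map_injective
    rw [Spec.map_comp, Spec.map_comp,
      ← cancel_mono (Z.fromSpecStalk (Sq.i₁ (IsLocalRing.closedPoint Sq.K))), Category.assoc,
      Category.assoc, hψ₁, hψ₂, l₁.fac_left, l₂.fac_left]
  have e' : ψ₁ = ψ₂ := by
    ext x
    have := congrArg (fun φ => φ.hom x) e
    exact IsFractionRing.injective Sq.R Sq.K this
  ext1
  rw [← hψ₁, ← hψ₂, e']

end

end Groth.Agent.Helper15.ZeroDim
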