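import Mathlib
import Groth.Prelude
import Groth.Agent.Lib.Helper15.ZeroDim1

/-!
# Quasi-separated algebraic spaces of dimension zero are separated schemes
-/

set_option autoImplicit false
universe u
open CategoryTheory CategoryTheory.Limits AlgebraicGeometry MorphismProperty Opposite
open AlgSp Groth.Agent.Helper16.AS

namespace Groth.Agent.Helper15.ZeroDim

open Groth.Agent.Helper15 Groth.Agent.Helper15.Strat Groth.Agent.Helper15.MaxPts
  Groth.Agent.Helper15.GenFin Groth.Agent.Helper15.Bir Groth.Agent.Helper15.C0Sch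

theorem mem_maxPts_of_topologicalKrullDim_le_zero {T : Type*} [TopologicalSpace T]
    (h : topologicalKrullDim T ≤ 0) (t : T) : t ∈ maxPts T := by
  intro y hy
  have hmax := (Order.krullDim_nonpos_iff_forall_isMax (α := TopologicalSpace.IrreducibleCloseds T)).1 h
  let a : TopologicalSpace.IrreducibleCloseds T :=
    ⟨closure {t}, isIrreducible_singleton.closure, isClosed_closure⟩
  let b : TopologicalSpace.IrreducibleCloseds T :=
    ⟨closure {y}, isIrreducible_singleton.closure, isClosed_closure⟩
  have hab : a ≤ b := by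
    change closure {t} ⊆ closure {y}
    exact specializes_iff_closure_subset.1 hy
  have hba : b ≤ a := hmax a hab
  exact specializes_iff_closure_subset.2 hba

variable {S : Scheme.{u}}

/-- **A quasi-separated algebraic space of dimension zero is a separated scheme all of whose
quasi-compact opens are affine.** -/
theorem exists_iso_yon_of_dim_zero [QuasiSeparatedSpace ↥S] {X : Sp S} (hX : IsAlgSpace X)
    (hqs : IsQuasiSeparatedSp X) (hd : AlgSp.dim X = 0) :
    ∃ (U : Over S) (_ : (yon S).obj U ≅ X), U.left.IsSeparated ∧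
      ∀ V : U.left.Opens, IsCompact (V : Set ↥U.left) → IsAffineOpen V := by
  have hdim : ∀ (T : Over S) (p : (yon S).obj T ⟶ X), RepWith @Etale p →
      topologicalKrullDim ↥T.left ≤ 0 := by
    intro T p hp
    rw [← hd]
    exact le_iSup_of_le T (le_iSup_of_le p (le_iSup_of_le hp le_rfl))
  have hc0 : ∀ x : Points X, HasAt (fun U u => ringKrullDim ↥(U.presheaf.stalk u) = 0) X x := by
    intro x
    obtain ⟨T, -, p, t, hpe, rfl⟩ := exists_affine_etale_nbhd hX x
    exact (hasAt_c0_chart_iff p hpe t).2
      (mem_maxPts_of_topologicalKrullDim_le_zero (hdim T p hpe) t)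
  obtain ⟨X', j, hX', hj, hrep, hmax⟩ := exists_largest_open_subscheme hX
  have hsurj : IsSurjectiveMor j := by
    intro x
    obtain ⟨T, a, ha, t, rfl⟩ := exists_open_subscheme_c0 hX hqs x (hc0 x)
    obtain ⟨k, hk⟩ := hmax ((yon S).obj T) a ha ⟨⟨T, ⟨representableByOfIso (Iso.refl _)⟩⟩⟩
    refine ⟨Points.ofPt k t, ?_⟩
    rw [Points.map_ofPt, hk]
  haveI : IsIso j := isIso_of_repWith_isOpenImmersion_surjective j hj
    (repWith_surjective_of_isSurjectiveMor j hj.rep hsurj)
  obtain ⟨U, ⟨r⟩⟩ := hrep.has_representation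
  let e : (yon S).obj U ≅ X := isoOfRepresentableBy r ≪≫ asIso j
  have hee : RepWith @Etale e.hom := repWith_of_isIso _ e.hom
  have hUmax : ∀ u : U.left, u ∈ maxPts U.left := fun u =>
    mem_maxPts_of_topologicalKrullDim_le_zero (hdim U e.hom hee) u
  have hUqs : IsQuasiSeparatedSp ((yon S).obj U) := Strat.isQuasiSeparatedSp_of_mono e.hom hqs
  have hUq : QuasiSeparated U.hom := by
    have := (repWith_diag_yon_iff @QuasiCompact U).1 hUqs
    exact ⟨this⟩
  haveI : QuasiSeparatedSpace ↥U.left := quasiSeparatedSpace_of_quasiSeparated U.hom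
  exact ⟨U, e, isSeparated_of_forall_mem_maxPts hUmax,
    fun V hV => isAffineOpen_of_isCompact hUmax V hV⟩

end Groth.Agent.Helper15.ZeroDim
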