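import Mathlib
import Groth.Prelude
import Groth.Agent.Lib.Helper15.StratG3
import Groth.Agent.Lib.Helper15.ZeroDim2
import Groth.Agent.Lib.Helper15.AlgSpField

/-!
# An algebraic space with a monomorphism to a scheme with discrete underlying space is a scheme
-/

set_option autoImplicit false
universe u
open CategoryTheory CategoryTheory.Limits AlgebraicGeometry MorphismProperty Opposite
open AlgSp Groth.Agent.Helper16.AS

namespace Groth.Agent.Helper15.MonoDisc

open Groth.Agent.Helper15 Groth.Agent.Helper15.Strat Groth.Agent.Helper15.MaxPts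
  Groth.Agent.Helper15.GenFin Groth.Agent.Helper15.Bir Groth.Agent.Helper15.C0Sch
  Groth.Agent.Helper15.StratG

/-- If the second projection of `T ×_Y T` is etale, there are no nontrivial specialisations inside
the fibres of `T ⟶ Y`. -/
theorem eq_of_specializes_of_etale_snd {T Y : Scheme.{u}} (g : T ⟶ Y) [Etale (pullback.snd g g)]
    {t t' : T} (h : t' ⤳ t) (hy : g t' = g t) : t' = t := by
  let ιF : g.fiber (g t) ⟶ T := g.fiberι (g t)
  let v : g.fiber (g t) ⟶ Spec (Y.residueField (g t)) := g.fiberToSpecResidueField (g t)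
  let a : Spec (T.residueField t) ⟶ g.fiber (g t) := g.asFiberHom t
  have ha : a ≫ ιF = T.fromSpecResidueField t := g.asFiberHom_fiberι t
  let π₁ : pullback (a ≫ v) v ⟶ Spec (T.residueField t) := pullback.fst _ _
  let π₂ : pullback (a ≫ v) v ⟶ g.fiber (g t) := pullback.snd _ _
  have sqL : IsPullback π₂ π₁ v (a ≫ v) := (IsPullback.of_hasPullback (a ≫ v) v).flip
  have sqR : IsPullback ιF v g (Y.fromSpecResidueField (g t)) :=
    IsPullback.of_hasPullback g (Y.fromSpecResidueField (g t))
  have sqO := sqL.paste_horiz sqR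
  have hbot : (a ≫ v) ≫ Y.fromSpecResidueField (g t) = T.fromSpecResidueField t ≫ g := by
    rw [Category.assoc, ← ha, Category.assoc]
    congr 1
    exact (g.fiber_fac (g t)).symm
  rw [hbot] at sqO
  have hcomm : (π₂ ≫ ιF) ≫ g = (π₁ ≫ T.fromSpecResidueField t) ≫ g := by
    rw [Category.assoc π₁]
    exact sqO.w
  let h₁₁ : pullback (a ≫ v) v ⟶ pullback g g :=
    pullback.lift (π₂ ≫ ιF) (π₁ ≫ T.fromSpecResidueField t) hcomm
  have h1 : h₁₁ ≫ pullback.fst g g = π₂ ≫ ιF := pullback.lift_fst _ _ _
  have h2 : h₁₁ ≫ pullback.snd g g = π₁ ≫ T.fromSpecResidueField t := pullback.lift_snd _ _ _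
  rw [← h1] at sqO
  have sqE : IsPullback h₁₁ π₁ (pullback.snd g g) (T.fromSpecResidueField t) :=
    IsPullback.of_right sqO h2 (IsPullback.of_hasPullback g g)
  haveI hπ₁ : Etale π₁ :=
    MorphismProperty.of_isPullback (P := @Etale) sqE (inferInstance : Etale (pullback.snd g g))
  let π₁' : pullback (a ≫ v) v ⟶ Spec (CommRingCat.of (T.residueField t)) := π₁
  haveI : Etale π₁' := hπ₁
  haveI : LocallyQuasiFinite π₁' := locallyQuasiFinite_of_etale π₁'
  haveI : DiscreteTopology ↥(pullback (a ≫ v) v) := discreteTopology_of_etale_over_field π₁'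
  -- the topological part
  have hF : Set.range ιF = g ⁻¹' {g t} := g.range_fiberι (g t)
  obtain ⟨τ', hτ'⟩ : t' ∈ Set.range ιF := by rw [hF]; exact hy
  have hτ : ιF (g.asFiber t) = t := g.fiberι_asFiber t
  have hspec : τ' ⤳ g.asFiber t := by
    rw [← ιF.isEmbedding.isInducing.specializes_iff, hτ', hτ]
    exact h
  haveI : Surjective (a ≫ v) := ⟨fun z => ⟨Classical.arbitrary _, Subsingleton.elim _ _⟩⟩
  haveI : Flat (a ≫ v) := inferInstance
  haveI : Surjective π₂ := inferInstance
  haveI : Flat π₂ := inferInstance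
  obtain ⟨w, hw⟩ := π₂.surjective (g.asFiber t)
  obtain ⟨w', hw'1, hw'2⟩ := Flat.generalizingMap π₂ (a := w) (b := τ') (by rw [hw]; exact hspec)
  have hww : w' = w := hw'1.eq
  rw [← hτ', ← hw'2, hww, hw, hτ]


variable {S : Scheme.{u}}

/-- Charts of an algebraic space with a monomorphism to a scheme with discrete underlying space
have no nontrivial specialisations. -/
theorem mem_maxPts_of_mono_to_discrete {X : Sp S} (Y : Over S) [DiscreteTopology ↥Y.left]
    (f : X ⟶ (yon S).obj Y) [Mono f] {T : Over S} (p : (yon S).obj T ⟶ X)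
    (hpe : RepWith @Etale p) (t : T.left) : t ∈ maxPts T.left := by
  obtain ⟨φ, hφ⟩ := (yon S).map_surjective (p ≫ f)
  have hrep := hpe.rep
  have sq := hrep.isPullback' p
  have sq' := isPullback_comp_mono f sq
  rw [← hφ] at sq'
  have sq'' : IsPullback (hrep.fst' p) (hrep.snd p) φ φ := IsPullback.of_map (yon S)
    ((yon S).map_injective (by simpa only [Functor.map_comp] using sq'.w)) sq'
  have sqL : IsPullback (hrep.fst' p).left (hrep.snd p).left φ.left φ.left :=
    sq''.map (Over.forget S)
  have het : Etale (hrep.snd p).left := hpe.property_snd p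
  haveI : Etale (pullback.snd φ.left φ.left) := by
    rw [← sqL.isoPullback_inv_snd]
    infer_instance
  intro y hy
  have h1 : φ.left y ⤳ φ.left t := hy.map φ.left.continuous
  have h2 : y = t := eq_of_specializes_of_etale_snd φ.left hy h1.eq
  rw [h2]

/-- A quasi-separated algebraic space all of whose points have codimension zero is a scheme (over
an arbitrary base). -/
theorem exists_iso_yon_of_forall_c0 {X : Sp S} (hX : IsAlgSpace X) (hqs : IsQuasiSeparatedSp X)
    (hc0 : ∀ x : Points X, HasAt (fun U u => ringKrullDim ↥(U.presheaf.stalk u) = 0) X x) :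
    ∃ U : Over S, Nonempty ((yon S).obj U ≅ X) := by
  obtain ⟨X', j, hX', hj, hrep, hmax⟩ := exists_largest_open_subscheme hX
  have hsurj : IsSurjectiveMor j := by
    intro x
    obtain ⟨T, a, ha, t, rfl⟩ := exists_open_subscheme_c0G hX hqs x (hc0 x)
    obtain ⟨k, hk⟩ := hmax ((yon S).obj T) a ha ⟨⟨T, ⟨representableByOfIso (Iso.refl _)⟩⟩⟩
    refine ⟨Points.ofPt k t, ?_⟩
    rw [Points.map_ofPt, hk]
  haveI : IsIso j := isIso_of_repWith_isOpenImmersion_surjective j hj
    (repWith_surjective_of_isSurjectiveMor j hj.rep hsurj)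
  obtain ⟨U, ⟨r⟩⟩ := hrep.has_representation
  exact ⟨U, ⟨isoOfRepresentableBy r ≪≫ asIso j⟩⟩

theorem quasiSeparatedSpace_of_discreteTopology (Z : Type*) [TopologicalSpace Z]
    [DiscreteTopology Z] : QuasiSeparatedSpace Z :=
  ⟨fun U V _ hUc _ _ => (hUc.finite_of_discrete.subset Set.inter_subset_left).isCompact⟩

/-- **An algebraic space with a monomorphism to a scheme with discrete underlying space is a
scheme.** -/
theorem isRepresentable_of_mono_to_discrete {X : Sp S} (hX : IsAlgSpace X) (Y : Over S)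
    [DiscreteTopology ↥Y.left] (f : X ⟶ (yon S).obj Y) [Mono f] : X.obj.IsRepresentable := by
  haveI : QuasiSeparatedSpace ↥Y.left := quasiSeparatedSpace_of_discreteTopology _
  have hYq : QuasiSeparated Y.hom := inferInstance
  have hYqs : IsQuasiSeparatedSp ((yon S).obj Y) :=
    (repWith_diag_yon_iff @QuasiCompact Y).2 hYq.1
  have hqs : IsQuasiSeparatedSp X := Strat.isQuasiSeparatedSp_of_mono f hYqs
  have hc0 : ∀ x : Points X, HasAt (fun U u => ringKrullDim ↥(U.presheaf.stalk u) = 0) X x := by
    intro x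
    obtain ⟨T, -, p, t, hpe, rfl⟩ := exists_affine_etale_nbhd hX x
    exact (hasAt_c0_chart_iff p hpe t).2 (mem_maxPts_of_mono_to_discrete Y f p hpe t)
  obtain ⟨U, ⟨e⟩⟩ := exists_iso_yon_of_forall_c0 hX hqs hc0
  exact ⟨⟨U, ⟨representableByOfIso e⟩⟩⟩

end Groth.Agent.Helper15.MonoDisc
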