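import Groth.Agent.Lib.Helper15.NormBC

/-!
# Relative normalization over an affine base from a ring-level presentation
-/

set_option autoImplicit false
universe u
open CategoryTheory CategoryTheory.Limits AlgebraicGeometry MorphismProperty Opposite
open AlgSp

namespace Groth.Agent.Helper15.Norm

variable {S : Scheme.{u}}

/-- A ring-level presentation: `A → B₁ ⇉ B₂` and a structure map `Spec A ⟶ S`. -/
structure RingPres (S : Scheme.{u}) where
  A : CommRingCat.{u}
  B₁ : CommRingCat.{u}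
  B₂ : CommRingCat.{u}
  t : Spec A ⟶ S
  φ : A ⟶ B₁
  ψ : A ⟶ B₂
  π₁ : B₁ ⟶ B₂
  π₂ : B₁ ⟶ B₂
  hψ₁ : φ ≫ π₁ = ψ
  hψ₂ : φ ≫ π₂ = ψ

namespace RingPres

variable (P : RingPres S)

noncomputable abbrev T : Over S := Over.mk P.t
noncomputable abbrev W : Over S := Over.mk (Spec.map P.φ ≫ P.t)
noncomputable abbrev W₂ : Over S := Over.mk (Spec.map P.ψ ≫ P.t)
noncomputable abbrev wT : P.W ⟶ P.T := Over.homMk (Spec.map P.φ) rfl
noncomputable abbrev p₁ : P.W₂ ⟶ P.W := Over.homMk (Spec.map P.π₁) (by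
  change Spec.map P.π₁ ≫ Spec.map P.φ ≫ P.t = Spec.map P.ψ ≫ P.t
  rw [← P.hψ₁, Spec.map_comp, Category.assoc])
noncomputable abbrev p₂ : P.W₂ ⟶ P.W := Over.homMk (Spec.map P.π₂) (by
  change Spec.map P.π₂ ≫ Spec.map P.φ ≫ P.t = Spec.map P.ψ ≫ P.t
  rw [← P.hψ₂, Spec.map_comp, Category.assoc])

/-- The presentation covers the sheaf `G` over `h_T`. -/
structure Covers {G : Sp S} (g : G ⟶ (yon S).obj P.T) (w : (yon S).obj P.W ⟶ G) : Prop where
  epi : Epi w
  hwg : w ≫ g = (yon S).map P.wT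
  hw : (yon S).map P.p₁ ≫ w = (yon S).map P.p₂ ≫ w
  hker : ∀ (T' : Over S) (x y : T' ⟶ P.W), (yon S).map x ≫ w = (yon S).map y ≫ w →
    ∃ R ∈ (J S) T', ∀ ⦃T'' : Over S⦄ (k : T'' ⟶ T'), R k →
      ∃ z : T'' ⟶ P.W₂, z ≫ P.p₁ = k ≫ x ∧ z ≫ P.p₂ = k ≫ y

/-- A candidate normalization ring `A → A' → B₁`. -/
structure Cand where
  A' : CommRingCat.{u}
  α : P.A ⟶ A'
  β : A' ⟶ P.B₁
  hαβ : α ≫ β = P.φ
  hβ : β ≫ P.π₁ = β ≫ P.π₂

namespace Cand

variable {P} (C : P.Cand)

noncomputable abbrev N : Over S := Over.mk (Spec.map C.α ≫ P.t)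
noncomputable abbrev ν : C.N ⟶ P.T := Over.homMk (Spec.map C.α) rfl
noncomputable abbrev n : P.W ⟶ C.N := Over.homMk (Spec.map C.β) (by
  change Spec.map C.β ≫ Spec.map C.α ≫ P.t = Spec.map P.φ ≫ P.t
  rw [← Category.assoc, ← Spec.map_comp, C.hαβ])

theorem n_ν : C.n ≫ C.ν = P.wT := by
  apply Over.OverMorphism.ext
  change Spec.map C.β ≫ Spec.map C.α = Spec.map P.φ
  rw [← Spec.map_comp, C.hαβ]

theorem p_n : P.p₁ ≫ C.n = P.p₂ ≫ C.n := by
  apply Over.OverMorphism.ext
  change Spec.map P.π₁ ≫ Spec.map C.β = Spec.map P.π₂ ≫ Spec.map C.β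
  rw [← Spec.map_comp, ← Spec.map_comp, C.hβ]

/-- The candidate is the integral closure of `A` in the equalizer. -/
structure IsNorm : Prop where
  inj : Function.Injective C.β.hom
  range : ∀ b : P.B₁, P.π₁.hom b = P.π₂.hom b → P.φ.hom.IsIntegralElem b → b ∈ Set.range C.β.hom
  int : C.α.hom.IsIntegral

end Cand

variable {P}

theorem Covers.exists_desc {G : Sp S} {g : G ⟶ (yon S).obj P.T} {w : (yon S).obj P.W ⟶ G}
    (hc : P.Covers g w) (C : P.Cand) :
    ∃ f' : G ⟶ (yon S).obj C.N, w ≫ f' = (yon S).map C.n ∧ f' ≫ (yon S).map C.ν = g := by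
  haveI := hc.epi
  obtain ⟨f', hf'⟩ := AffDesc.exists_desc_of_epi w ((yon S).map C.n) (by
    intro X x y hxy
    obtain ⟨x₀, rfl⟩ := (yon S).map_surjective x
    obtain ⟨y₀, rfl⟩ := (yon S).map_surjective y
    obtain ⟨R, hR, h⟩ := hc.hker X x₀ y₀ hxy
    apply yon_hom_ext_of_cover _ _ R hR
    intro T'' k hk
    obtain ⟨z, hz1, hz2⟩ := h k hk
    rw [← Functor.map_comp, ← Functor.map_comp, ← Functor.map_comp, ← Functor.map_comp,
      ← Category.assoc, ← Category.assoc, ← hz1, ← hz2, Category.assoc, Category.assoc, C.p_n])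
  refine ⟨f', hf', ?_⟩
  rw [← cancel_epi w, ← Category.assoc, hf', ← Functor.map_comp, C.n_ν, hc.hwg]

/-- **Local normalization from a ring-level presentation.** -/
theorem Covers.isRelNormalization {G : Sp S} {g : G ⟶ (yon S).obj P.T}
    {w : (yon S).obj P.W ⟶ G} (hc : P.Covers g w) (C : P.Cand) (hC : C.IsNorm)
    (f' : G ⟶ (yon S).obj C.N) (hf' : w ≫ f' = (yon S).map C.n)
    (hfac : f' ≫ (yon S).map C.ν = g) : IsRelNormalization g ((yon S).map C.ν) f' := by
  haveI := hc.epi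
  have hTaff : IsAffine P.T.left := by change IsAffine (Spec P.A); infer_instance
  refine ⟨hfac, ?_, ?_⟩
  · rw [isIntegralMor_iff_affRep]
    apply affRep_of_repWith
    rw [repWith_yon_map_iff]
    change IsIntegralHom (Spec.map C.α)
    exact IsIntegralHom.SpecMap_iff.2 hC.int
  · intro Z hZ π g' hπ hg'
    obtain ⟨Z₀, i, fst, sq, hZ₀, hi⟩ := hπ hTaff (𝟙 _)
    haveI : IsIso fst := sq.isIso_fst_of_isIso
    haveI := hZ₀
    haveI := hi
    have hfi : fst ≫ π = (yon S).map i := by rw [sq.w, Category.comp_id]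
    -- ring-level description of `Z₀ → T`
    let iS : Spec Γ(Z₀.left, ⊤) ⟶ Spec P.A := Z₀.left.isoSpec.inv ≫ i.left
    let ι₀ : P.A ⟶ Γ(Z₀.left, ⊤) := Spec.preimage iS
    have hι₀ : Spec.map ι₀ = iS := Spec.map_preimage _
    have hι₀int : ι₀.hom.IsIntegral := by
      rw [← IsIntegralHom.SpecMap_iff, hι₀]
      change IsIntegralHom (Z₀.left.isoSpec.inv ≫ i.left)
      infer_instance
    have hι₀inv : Spec.map ι₀ ≫ P.t = Z₀.left.isoSpec.inv ≫ Z₀.hom := by
      rw [hι₀]
      change (Z₀.left.isoSpec.inv ≫ i.left) ≫ P.T.hom = _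
      rw [Category.assoc, Over.w i]
    -- the solution of the lifting problem for a given map on `W`
    have main : ∀ (g'₀ : G ⟶ (yon S).obj Z₀), g'₀ ≫ (yon S).map i = g →
        ∃ h₀ : C.N ⟶ Z₀, f' ≫ (yon S).map h₀ = g'₀ ∧ h₀ ≫ i = C.ν := by
      intro g'₀ hg'₀
      obtain ⟨z, hz⟩ := (yon S).map_surjective (w ≫ g'₀)
      have hzi : z ≫ i = P.wT := by
        apply (yon S).map_injective
        rw [Functor.map_comp, hz, Category.assoc, hg'₀, hc.hwg]
      have hpz : P.p₁ ≫ z = P.p₂ ≫ z := by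
        apply (yon S).map_injective
        rw [Functor.map_comp, Functor.map_comp, hz, ← Category.assoc, ← Category.assoc, hc.hw]
      let zS : Spec P.B₁ ⟶ Spec Γ(Z₀.left, ⊤) := z.left ≫ Z₀.left.isoSpec.hom
      let ζ : Γ(Z₀.left, ⊤) ⟶ P.B₁ := Spec.preimage zS
      have hζ : Spec.map ζ = zS := Spec.map_preimage _
      have hιζ : ι₀ ≫ ζ = P.φ := by
        apply Spec.map_injective
        rw [Spec.map_comp, hζ, hι₀]
        change (z.left ≫ Z₀.left.isoSpec.hom) ≫ Z₀.left.isoSpec.inv ≫ i.left = Spec.map P.φ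
        rw [Category.assoc, Iso.hom_inv_id_assoc, ← Over.comp_left, hzi]
        rfl
      have hζπ : ζ ≫ P.π₁ = ζ ≫ P.π₂ := by
        apply Spec.map_injective
        rw [Spec.map_comp, Spec.map_comp, hζ]
        change Spec.map P.π₁ ≫ z.left ≫ _ = Spec.map P.π₂ ≫ z.left ≫ _
        have := congrArg (fun m => m.left) hpz
        simp only [Over.comp_left] at this
        rw [← Category.assoc, ← Category.assoc]
        exact congrArg (· ≫ Z₀.left.isoSpec.hom) this
      have hmem : ∀ c, ζ.hom c ∈ C.β.hom.range := by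
        intro c
        refine hC.range (ζ.hom c) ?_ ?_
        · have := congrArg (fun m => m.hom c) hζπ
          simpa using this
        · obtain ⟨p, hp, hp0⟩ := hι₀int c
          refine ⟨p, hp, ?_⟩
          have := congrArg ζ.hom hp0
          rw [Polynomial.hom_eval₂, map_zero] at this
          rw [← hιζ]
          exact this
      let e : C.A' ≃+* C.β.hom.range := RingEquiv.ofBijective C.β.hom.rangeRestrict
        ⟨fun a b hab => hC.inj (congrArg Subtype.val hab), C.β.hom.rangeRestrict_surjective⟩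
      let η : Γ(Z₀.left, ⊤) ⟶ C.A' :=
        CommRingCat.ofHom (e.symm.toRingHom.comp (ζ.hom.codRestrict C.β.hom.range hmem))
      have hηβ : η ≫ C.β = ζ := by
        ext c
        change C.β.hom (e.symm ⟨ζ.hom c, hmem c⟩) = ζ.hom c
        have h1 : e (e.symm ⟨ζ.hom c, hmem c⟩) = ⟨ζ.hom c, hmem c⟩ := e.apply_symm_apply _
        exact congrArg Subtype.val h1
      haveI : Mono C.β := ConcreteCategory.mono_of_injective _ hC.inj
      have hιη : ι₀ ≫ η = C.α := by
        rw [← cancel_mono C.β, Category.assoc, hηβ, hιζ, C.hαβ]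
      let h₀ : C.N ⟶ Z₀ := Over.homMk (Spec.map η ≫ Z₀.left.isoSpec.inv) (by
        change (Spec.map η ≫ Z₀.left.isoSpec.inv) ≫ Z₀.hom = Spec.map C.α ≫ P.t
        rw [Category.assoc, ← hι₀inv, ← Category.assoc, ← Spec.map_comp, hιη])
      have hnh : C.n ≫ h₀ = z := by
        apply Over.OverMorphism.ext
        change Spec.map C.β ≫ Spec.map η ≫ Z₀.left.isoSpec.inv = z.left
        rw [← Category.assoc, ← Spec.map_comp, hηβ, hζ]
        change (z.left ≫ Z₀.left.isoSpec.hom) ≫ Z₀.left.isoSpec.inv = z.left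
        rw [Category.assoc, Iso.hom_inv_id, Category.comp_id]
      have hhi : h₀ ≫ i = C.ν := by
        apply Over.OverMorphism.ext
        change (Spec.map η ≫ Z₀.left.isoSpec.inv) ≫ i.left = Spec.map C.α
        rw [Category.assoc]
        change Spec.map η ≫ iS = _
        rw [← hι₀, ← Spec.map_comp, hιη]
      refine ⟨h₀, ?_, hhi⟩
      rw [← cancel_epi w, ← Category.assoc, hf', ← Functor.map_comp, hnh, hz]
    -- uniqueness on the level of `Z₀`
    have uniq : ∀ (h₁ h₂ : C.N ⟶ Z₀), C.n ≫ h₁ = C.n ≫ h₂ → h₁ = h₂ := by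
      intro h₁ h₂ h12
      apply Over.OverMorphism.ext
      have h12' : Spec.map C.β ≫ h₁.left = Spec.map C.β ≫ h₂.left := by
        have := congrArg (fun m => m.left) h12
        simp only [Over.comp_left] at this
        exact this
      haveI : Mono C.β := ConcreteCategory.mono_of_injective _ hC.inj
      rw [← cancel_mono Z₀.left.isoSpec.hom]
      have e1 : h₁.left ≫ Z₀.left.isoSpec.hom = Spec.map (Spec.preimage (h₁.left ≫ Z₀.left.isoSpec.hom)) :=
        (Spec.map_preimage _).symm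
      have e2 : h₂.left ≫ Z₀.left.isoSpec.hom = Spec.map (Spec.preimage (h₂.left ≫ Z₀.left.isoSpec.hom)) :=
        (Spec.map_preimage _).symm
      rw [e1, e2]
      congr 1
      rw [← cancel_mono C.β]
      apply Spec.map_injective
      rw [Spec.map_comp, Spec.map_comp, ← e1, ← e2, ← Category.assoc, ← Category.assoc, h12']
    obtain ⟨h₀, hh1, hh2⟩ := main (g' ≫ inv fst) (by
      rw [Category.assoc, ← hfi, IsIso.inv_hom_id_assoc, hg'])
    refine ⟨(yon S).map h₀ ≫ fst, ⟨?_, ?_⟩, ?_⟩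
    · rw [← Category.assoc, hh1, Category.assoc, IsIso.inv_hom_id, Category.comp_id]
    · rw [Category.assoc, hfi, ← Functor.map_comp, hh2]
    · rintro h' ⟨a1, a2⟩
      obtain ⟨h'₀, hh'₀⟩ := (yon S).map_surjective (h' ≫ inv fst)
      have : h'₀ = h₀ := by
        apply uniq
        apply (yon S).map_injective
        rw [Functor.map_comp, Functor.map_comp, hh'₀, ← hf', Category.assoc, Category.assoc,
          ← Category.assoc f', a1, hh1]
      rw [← this, hh'₀, Category.assoc, IsIso.inv_hom_id, Category.comp_id]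

end RingPres

end Groth.Agent.Helper15.Norm
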