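import Mathlib.RingTheory.Smooth.IntegralClosure
import Mathlib.RingTheory.Flat.Basic

/-!
# Equalizers of integral closures commute with smooth base change
-/

set_option autoImplicit false
universe u
open TensorProduct

namespace Groth.Agent.Helper15.Norm

variable {A A₁ B₁ B₂ : Type u} [CommRing A] [CommRing A₁] [CommRing B₁] [CommRing B₂]
  [Algebra A A₁] [Algebra A B₁] [Algebra A B₂] (π₁ π₂ : B₁ →ₐ[A] B₂)

/-- The subalgebra of elements equalized by `π₁, π₂` and integral over `A`. -/
def normSub : Subalgebra A B₁ := AlgHom.equalizer π₁ π₂ ⊓ integralClosure A B₁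

theorem mem_normSub {b : B₁} : b ∈ normSub π₁ π₂ ↔ π₁ b = π₂ b ∧ IsIntegral A b := Iff.rfl

instance : Algebra.IsIntegral A (normSub π₁ π₂) := by
  constructor
  intro x
  have h := x.2.2
  exact (isIntegral_algHom_iff (normSub π₁ π₂).val Subtype.val_injective).1 h

variable (A₁)

/-- The comparison map. -/
noncomputable def normSubMap : A₁ ⊗[A] normSub π₁ π₂ →ₐ[A₁] A₁ ⊗[A] B₁ :=
  Algebra.TensorProduct.map (AlgHom.id A₁ A₁) (normSub π₁ π₂).val

theorem normSubMap_tmul (a : A₁) (x : normSub π₁ π₂) :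
    normSubMap A₁ π₁ π₂ (a ⊗ₜ x) = a ⊗ₜ (x : B₁) := by
  simp [normSubMap]

theorem normSubMap_injective [Module.Flat A A₁] : Function.Injective (normSubMap A₁ π₁ π₂) := by
  have := Module.Flat.lTensor_preserves_injective_linearMap (M := A₁)
    (normSub π₁ π₂).val.toLinearMap Subtype.val_injective
  intro x y hxy
  apply this
  have e : ∀ z, (normSub π₁ π₂).val.toLinearMap.lTensor A₁ z = normSubMap A₁ π₁ π₂ z := by
    intro z
    induction z with
    | zero => simp
    | add a b ha hb => rw [map_add, map_add, ha, hb]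
    | tmul a b => simp [normSubMap]
  rw [e, e, hxy]

theorem normSubMap_equalizes (z : A₁ ⊗[A] normSub π₁ π₂) :
    Algebra.TensorProduct.map (AlgHom.id A₁ A₁) π₁ (normSubMap A₁ π₁ π₂ z) =
      Algebra.TensorProduct.map (AlgHom.id A₁ A₁) π₂ (normSubMap A₁ π₁ π₂ z) := by
  induction z with
  | zero => simp
  | add a b ha hb => rw [map_add, map_add, map_add, ha, hb]
  | tmul a b =>
    rw [normSubMap_tmul]
    simp only [Algebra.TensorProduct.map_tmul, AlgHom.coe_id, id_eq]
    rw [b.2.1]

theorem mem_range_normSubMap [Algebra.Smooth A A₁] (c : A₁ ⊗[A] B₁)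
    (h1 : Algebra.TensorProduct.map (AlgHom.id A₁ A₁) π₁ c =
      Algebra.TensorProduct.map (AlgHom.id A₁ A₁) π₂ c)
    (h2 : IsIntegral A₁ c) : c ∈ Set.range (normSubMap A₁ π₁ π₂) := by
  -- `c` comes from the integral closure
  obtain ⟨d, hd⟩ := (TensorProduct.toIntegralClosure_bijective_of_smooth (R := A) (S := A₁)
    (B := B₁)).2 ⟨c, h2⟩
  have hd' : Algebra.TensorProduct.map (AlgHom.id A₁ A₁) (integralClosure A B₁).val d = c := by
    have := congrArg Subtype.val hd
    simpa [TensorProduct.toIntegralClosure] using this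
  -- the exact sequence
  let ι : normSub π₁ π₂ →ₗ[A] integralClosure A B₁ :=
    (Subalgebra.inclusion (inf_le_right : normSub π₁ π₂ ≤ integralClosure A B₁)).toLinearMap
  let δ : integralClosure A B₁ →ₗ[A] B₂ :=
    (π₁.toLinearMap - π₂.toLinearMap) ∘ₗ (integralClosure A B₁).val.toLinearMap
  have hex : Function.Exact ι δ := by
    intro y
    constructor
    · intro hy
      have hy' : π₁ (y : B₁) - π₂ (y : B₁) = 0 := hy
      exact ⟨⟨y.1, sub_eq_zero.1 hy', y.2⟩, rfl⟩
    · rintro ⟨x, rfl⟩
      change π₁ (x : B₁) - π₂ (x : B₁) = 0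
      rw [sub_eq_zero]
      exact x.2.1
  have hex' := Module.Flat.lTensor_exact A₁ hex
  have hδ : δ.lTensor A₁ d = 0 := by
    have e : ∀ z : A₁ ⊗[A] integralClosure A B₁, δ.lTensor A₁ z =
        Algebra.TensorProduct.map (AlgHom.id A₁ A₁) π₁
          (Algebra.TensorProduct.map (AlgHom.id A₁ A₁) (integralClosure A B₁).val z) -
        Algebra.TensorProduct.map (AlgHom.id A₁ A₁) π₂
          (Algebra.TensorProduct.map (AlgHom.id A₁ A₁) (integralClosure A B₁).val z) := by
      intro z
      induction z with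
      | zero => simp
      | add a b ha hb => rw [map_add, ha, hb]; simp only [map_add]; abel
      | tmul a b => simp [δ, TensorProduct.tmul_sub]
    rw [e, hd', h1, sub_self]
  obtain ⟨e, he⟩ := (hex' d).1 hδ
  refine ⟨e, ?_⟩
  rw [← hd', ← he]
  clear he hδ hd hd'
  induction e with
  | zero => simp
  | add a b ha hb => rw [map_add, map_add, map_add, ha, hb]
  | tmul a b => simp [normSubMap, ι]; rfl

instance : Algebra.IsIntegral A₁ (A₁ ⊗[A] normSub π₁ π₂) :=
  inferInstance

end Groth.Agent.Helper15.Norm
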