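import Groth.Agent.Lib.Helper15.NormAff1
import Groth.Agent.Lib.Helper15.NormRing

/-!
# Smooth base change of ring-level presentations
-/

set_option autoImplicit false
universe u
open CategoryTheory CategoryTheory.Limits AlgebraicGeometry MorphismProperty Opposite TensorProduct
open AlgSp

namespace Groth.Agent.Helper15.Norm

variable {S : Scheme.{u}}

namespace RingPres

variable (P : RingPres S)

noncomputable abbrev w₂T : P.W₂ ⟶ P.T := Over.homMk (Spec.map P.ψ) rfl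

theorem p₁_wT : P.p₁ ≫ P.wT = P.w₂T := by
  apply Over.OverMorphism.ext
  change Spec.map P.π₁ ≫ Spec.map P.φ = Spec.map P.ψ
  rw [← Spec.map_comp, P.hψ₁]

theorem p₂_wT : P.p₂ ≫ P.wT = P.w₂T := by
  apply Over.OverMorphism.ext
  change Spec.map P.π₂ ≫ Spec.map P.φ = Spec.map P.ψ
  rw [← Spec.map_comp, P.hψ₂]

end RingPres

section

variable {A A₁ B₁ B₂ : Type u} [CommRing A] [CommRing A₁] [CommRing B₁] [CommRing B₂]
  [Algebra A A₁] [Algebra A B₁] [Algebra A B₂] (π₁ π₂ : B₁ →ₐ[A] B₂)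
  (t : Spec (CommRingCat.of A) ⟶ S)

/-- The ring-level presentation attached to algebras. -/
noncomputable def presOf : RingPres S where
  A := .of A
  B₁ := .of B₁
  B₂ := .of B₂
  t := t
  φ := CommRingCat.ofHom (algebraMap A B₁)
  ψ := CommRingCat.ofHom (algebraMap A B₂)
  π₁ := CommRingCat.ofHom π₁.toRingHom
  π₂ := CommRingCat.ofHom π₂.toRingHom
  hψ₁ := by ext a; simp
  hψ₂ := by ext a; simp

/-- The integral closure of `A` in the equalizer as a candidate. -/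
noncomputable def candOf : (presOf π₁ π₂ t).Cand where
  A' := .of (normSub π₁ π₂)
  α := CommRingCat.ofHom (algebraMap A (normSub π₁ π₂))
  β := CommRingCat.ofHom (normSub π₁ π₂).val.toRingHom
  hαβ := by ext a; rfl
  hβ := by ext x; exact x.2.1

theorem candOf_isNorm : (candOf π₁ π₂ t).IsNorm where
  inj := Subtype.val_injective
  range := fun b h1 h2 => ⟨⟨b, h1, h2⟩, rfl⟩
  int := by
    change (algebraMap A (normSub π₁ π₂)).IsIntegral
    exact algebraMap_isIntegral_iff.2 inferInstance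

variable (A₁)

/-- The base changed presentation. -/
noncomputable def presBC : RingPres S :=
  presOf (A := A₁) (B₁ := A₁ ⊗[A] B₁) (B₂ := A₁ ⊗[A] B₂)
    (Algebra.TensorProduct.map (AlgHom.id A₁ A₁) π₁)
    (Algebra.TensorProduct.map (AlgHom.id A₁ A₁) π₂)
    (Spec.map (CommRingCat.ofHom (algebraMap A A₁)) ≫ t)

/-- The base changed candidate. -/
noncomputable def candBC : (presBC A₁ π₁ π₂ t).Cand where
  A' := .of (A₁ ⊗[A] normSub π₁ π₂)
  α := CommRingCat.ofHom (algebraMap A₁ (A₁ ⊗[A] normSub π₁ π₂))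
  β := CommRingCat.ofHom (normSubMap A₁ π₁ π₂).toRingHom
  hαβ := by
    apply CommRingCat.hom_ext
    apply RingHom.ext
    intro (a : A₁)
    change normSubMap A₁ π₁ π₂ (a ⊗ₜ[A] (1 : normSub π₁ π₂)) = a ⊗ₜ[A] (1 : B₁)
    rw [normSubMap_tmul]; rfl
  hβ := by
    apply CommRingCat.hom_ext
    apply RingHom.ext
    intro z
    exact normSubMap_equalizes A₁ π₁ π₂ z

theorem candBC_isNorm [Algebra.Smooth A A₁] : (candBC A₁ π₁ π₂ t).IsNorm where
  inj := normSubMap_injective A₁ π₁ π₂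
  range := fun b h1 h2 => mem_range_normSubMap A₁ π₁ π₂ b h1 h2
  int := by
    change (algebraMap A₁ (A₁ ⊗[A] normSub π₁ π₂)).IsIntegral
    exact algebraMap_isIntegral_iff.2 inferInstance

/-! ### The cartesian squares -/

theorem includeRight_comp (R : Type u) [CommRing R] [Algebra A R] :
    CommRingCat.ofHom (algebraMap A R) ≫ CommRingCat.ofHom
      (Algebra.TensorProduct.includeRight (R := A) (A := A₁) (B := R)).toRingHom =
    CommRingCat.ofHom (algebraMap A A₁) ≫ CommRingCat.ofHom (algebraMap A₁ (A₁ ⊗[A] R)) := by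
  ext a
  simp [Algebra.algebraMap_eq_smul_one]

/-- `Spec (A₁ ⊗ R) ⟶ Spec R` over `S`. -/
noncomputable def bcMap (R : Type u) [CommRing R] [Algebra A R] :
    (Over.mk (Spec.map (CommRingCat.ofHom (algebraMap A₁ (A₁ ⊗[A] R))) ≫
      Spec.map (CommRingCat.ofHom (algebraMap A A₁)) ≫ t) : Over S) ⟶
    Over.mk (Spec.map (CommRingCat.ofHom (algebraMap A R)) ≫ t) :=
  Over.homMk (Spec.map (CommRingCat.ofHom
    (Algebra.TensorProduct.includeRight (R := A) (A := A₁) (B := R)).toRingHom)) (by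
    change Spec.map _ ≫ Spec.map _ ≫ t = Spec.map _ ≫ Spec.map _ ≫ t
    rw [← Category.assoc, ← Category.assoc, ← Spec.map_comp, ← Spec.map_comp,
      includeRight_comp])

theorem isPullback_bcMap (R : Type u) [CommRing R] [Algebra A R] :
    IsPullback (bcMap A₁ t R)
      (Over.homMk (Spec.map (CommRingCat.ofHom (algebraMap A₁ (A₁ ⊗[A] R)))) rfl :
        (Over.mk (Spec.map (CommRingCat.ofHom (algebraMap A₁ (A₁ ⊗[A] R))) ≫
          Spec.map (CommRingCat.ofHom (algebraMap A A₁)) ≫ t) : Over S) ⟶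
        Over.mk (Spec.map (CommRingCat.ofHom (algebraMap A A₁)) ≫ t))
      (Over.homMk (Spec.map (CommRingCat.ofHom (algebraMap A R))) rfl :
        (Over.mk (Spec.map (CommRingCat.ofHom (algebraMap A R)) ≫ t) : Over S) ⟶ Over.mk t)
      (Over.homMk (Spec.map (CommRingCat.ofHom (algebraMap A A₁))) rfl :
        (Over.mk (Spec.map (CommRingCat.ofHom (algebraMap A A₁)) ≫ t) : Over S) ⟶ Over.mk t) := by
  apply IsPullback.of_map_of_faithful (Over.forget S)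
  exact (isPullback_SpecMap_of_isPushout _ _ _ _ (CommRingCat.isPushout_tensorProduct A A₁ R)).flip

/-! ### Base change of the covering data -/

/-- The chart map `T₁ ⟶ T`. -/
noncomputable abbrev bcT : (presBC A₁ π₁ π₂ t).T ⟶ (presOf π₁ π₂ t).T :=
  Over.homMk (Spec.map (CommRingCat.ofHom (algebraMap A A₁))) rfl

/-- `W₁ ⟶ W`. -/
noncomputable abbrev bcW : (presBC A₁ π₁ π₂ t).W ⟶ (presOf π₁ π₂ t).W := bcMap A₁ t B₁

/-- `W₂₁ ⟶ W₂`. -/
noncomputable abbrev bcW₂ : (presBC A₁ π₁ π₂ t).W₂ ⟶ (presOf π₁ π₂ t).W₂ := bcMap A₁ t B₂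

theorem bcW₂_p₁ : (presBC A₁ π₁ π₂ t).p₁ ≫ bcW A₁ π₁ π₂ t =
    bcW₂ A₁ π₁ π₂ t ≫ (presOf π₁ π₂ t).p₁ := by
  apply Over.OverMorphism.ext
  change Spec.map (CommRingCat.ofHom
      (Algebra.TensorProduct.map (AlgHom.id A₁ A₁) π₁).toRingHom) ≫
      Spec.map (CommRingCat.ofHom
        (Algebra.TensorProduct.includeRight (R := A) (A := A₁) (B := B₁)).toRingHom) =
    Spec.map (CommRingCat.ofHom
        (Algebra.TensorProduct.includeRight (R := A) (A := A₁) (B := B₂)).toRingHom) ≫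
      Spec.map (CommRingCat.ofHom π₁.toRingHom)
  rw [← Spec.map_comp, ← Spec.map_comp]
  congr 1

theorem bcW₂_p₂ : (presBC A₁ π₁ π₂ t).p₂ ≫ bcW A₁ π₁ π₂ t =
    bcW₂ A₁ π₁ π₂ t ≫ (presOf π₁ π₂ t).p₂ := by
  apply Over.OverMorphism.ext
  change Spec.map (CommRingCat.ofHom
      (Algebra.TensorProduct.map (AlgHom.id A₁ A₁) π₂).toRingHom) ≫
      Spec.map (CommRingCat.ofHom
        (Algebra.TensorProduct.includeRight (R := A) (A := A₁) (B := B₁)).toRingHom) =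
    Spec.map (CommRingCat.ofHom
        (Algebra.TensorProduct.includeRight (R := A) (A := A₁) (B := B₂)).toRingHom) ≫
      Spec.map (CommRingCat.ofHom π₂.toRingHom)
  rw [← Spec.map_comp, ← Spec.map_comp]
  congr 1

theorem sqW : IsPullback (bcW A₁ π₁ π₂ t) (presBC A₁ π₁ π₂ t).wT (presOf π₁ π₂ t).wT
    (bcT A₁ π₁ π₂ t) := isPullback_bcMap A₁ t B₁

theorem sqW₂ : IsPullback (bcW₂ A₁ π₁ π₂ t) (presBC A₁ π₁ π₂ t).w₂T (presOf π₁ π₂ t).w₂T
    (bcT A₁ π₁ π₂ t) := isPullback_bcMap A₁ t B₂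

/-- Base change of covering data. -/
theorem covers_bc {G G₁ : Sp S} {g : G ⟶ (yon S).obj (presOf π₁ π₂ t).T}
    {w : (yon S).obj (presOf π₁ π₂ t).W ⟶ G} (hc : (presOf π₁ π₂ t).Covers g w)
    {g₁ : G₁ ⟶ (yon S).obj (presBC A₁ π₁ π₂ t).T} {cG : G₁ ⟶ G}
    (sqG : IsPullback cG g₁ g ((yon S).map (bcT A₁ π₁ π₂ t))) :
    ∃ w₁ : (yon S).obj (presBC A₁ π₁ π₂ t).W ⟶ G₁, (presBC A₁ π₁ π₂ t).Covers g₁ w₁ ∧
      w₁ ≫ cG = (yon S).map (bcW A₁ π₁ π₂ t) ≫ w := by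
  have hcomm : ((yon S).map (bcW A₁ π₁ π₂ t) ≫ w) ≫ g =
      (yon S).map (presBC A₁ π₁ π₂ t).wT ≫ (yon S).map (bcT A₁ π₁ π₂ t) := by
    rw [Category.assoc, hc.hwg, ← Functor.map_comp, ← Functor.map_comp, (sqW A₁ π₁ π₂ t).w]
  let w₁ := sqG.lift ((yon S).map (bcW A₁ π₁ π₂ t) ≫ w) ((yon S).map (presBC A₁ π₁ π₂ t).wT) hcomm
  have hw₁1 : w₁ ≫ cG = (yon S).map (bcW A₁ π₁ π₂ t) ≫ w := sqG.lift_fst _ _ _
  have hw₁2 : w₁ ≫ g₁ = (yon S).map (presBC A₁ π₁ π₂ t).wT := sqG.lift_snd _ _ _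
  refine ⟨w₁, ⟨?_, hw₁2, ?_, ?_⟩, hw₁1⟩
  · -- epi
    have big : IsPullback ((yon S).map (bcW A₁ π₁ π₂ t)) (w₁ ≫ g₁) (w ≫ g)
        ((yon S).map (bcT A₁ π₁ π₂ t)) := by
      rw [hw₁2, hc.hwg]
      exact (sqW A₁ π₁ π₂ t).map (yon S)
    have left : IsPullback ((yon S).map (bcW A₁ π₁ π₂ t)) w₁ w cG :=
      IsPullback.of_bot big hw₁1.symm sqG
    haveI := hc.epi
    exact epi_of_isPullback_of_epi left.flip
  · apply sqG.hom_ext
    · rw [Category.assoc, Category.assoc, hw₁1, ← Category.assoc, ← Category.assoc,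
        ← Functor.map_comp, ← Functor.map_comp, bcW₂_p₁, bcW₂_p₂, Functor.map_comp,
        Functor.map_comp, Category.assoc, Category.assoc, hc.hw]
    · rw [Category.assoc, Category.assoc, hw₁2, ← Functor.map_comp, ← Functor.map_comp,
        RingPres.p₁_wT, RingPres.p₂_wT]
  · intro T' x y hxy
    have h1 : (yon S).map (x ≫ bcW A₁ π₁ π₂ t) ≫ w = (yon S).map (y ≫ bcW A₁ π₁ π₂ t) ≫ w := by
      rw [Functor.map_comp, Functor.map_comp, Category.assoc, Category.assoc, ← hw₁1,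
        ← Category.assoc, ← Category.assoc, hxy]
    have h2 : x ≫ (presBC A₁ π₁ π₂ t).wT = y ≫ (presBC A₁ π₁ π₂ t).wT := by
      apply (yon S).map_injective
      rw [Functor.map_comp, Functor.map_comp, ← hw₁2, ← Category.assoc, ← Category.assoc, hxy]
    obtain ⟨R, hR, h⟩ := hc.hker T' _ _ h1
    refine ⟨R, hR, fun T'' k hk => ?_⟩
    obtain ⟨z, hz1, hz2⟩ := h k hk
    have hz3 : z ≫ (presOf π₁ π₂ t).w₂T =
        (k ≫ x ≫ (presBC A₁ π₁ π₂ t).wT) ≫ bcT A₁ π₁ π₂ t := by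
      rw [← RingPres.p₁_wT, ← Category.assoc, hz1]
      simp only [Category.assoc]
      rw [(sqW A₁ π₁ π₂ t).w]
    let z₁ := (sqW₂ A₁ π₁ π₂ t).lift z (k ≫ x ≫ (presBC A₁ π₁ π₂ t).wT) hz3
    have hz₁1 : z₁ ≫ bcW₂ A₁ π₁ π₂ t = z := (sqW₂ A₁ π₁ π₂ t).lift_fst _ _ _
    have hz₁2 : z₁ ≫ (presBC A₁ π₁ π₂ t).w₂T = k ≫ x ≫ (presBC A₁ π₁ π₂ t).wT :=
      (sqW₂ A₁ π₁ π₂ t).lift_snd _ _ _
    refine ⟨z₁, ?_, ?_⟩
    · apply (sqW A₁ π₁ π₂ t).hom_ext
      · rw [Category.assoc, bcW₂_p₁, ← Category.assoc, hz₁1, hz1, Category.assoc]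
      · rw [Category.assoc, RingPres.p₁_wT, hz₁2, Category.assoc]
    · apply (sqW A₁ π₁ π₂ t).hom_ext
      · rw [Category.assoc, bcW₂_p₂, ← Category.assoc, hz₁1, hz2, Category.assoc]
      · rw [Category.assoc, RingPres.p₂_wT, hz₁2, Category.assoc, h2]

/-- `N₁ ⟶ N`. -/
noncomputable abbrev bcN : (candBC A₁ π₁ π₂ t).N ⟶ (candOf π₁ π₂ t).N :=
  bcMap A₁ t (normSub π₁ π₂)

theorem bcN_n : (candBC A₁ π₁ π₂ t).n ≫ bcN A₁ π₁ π₂ t = bcW A₁ π₁ π₂ t ≫ (candOf π₁ π₂ t).n := by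
  apply Over.OverMorphism.ext
  change Spec.map (CommRingCat.ofHom (normSubMap A₁ π₁ π₂).toRingHom) ≫
      Spec.map (CommRingCat.ofHom
        (Algebra.TensorProduct.includeRight (R := A) (A := A₁) (B := normSub π₁ π₂)).toRingHom) =
    Spec.map (CommRingCat.ofHom
        (Algebra.TensorProduct.includeRight (R := A) (A := A₁) (B := B₁)).toRingHom) ≫
      Spec.map (CommRingCat.ofHom (normSub π₁ π₂).val.toRingHom)
  rw [← Spec.map_comp, ← Spec.map_comp]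
  congr 1

/-- **The candidate normalization commutes with smooth base change.** -/
theorem bcNorm_candOf [Algebra.Smooth A A₁] {G : Sp S}
    {g : G ⟶ (yon S).obj (presOf π₁ π₂ t).T}
    {w : (yon S).obj (presOf π₁ π₂ t).W ⟶ G} (hc : (presOf π₁ π₂ t).Covers g w)
    (f' : G ⟶ (yon S).obj (candOf π₁ π₂ t).N)
    (hf' : w ≫ f' = (yon S).map (candOf π₁ π₂ t).n) :
    BCNorm g ((yon S).map (candOf π₁ π₂ t).ν) f' ((yon S).map (bcT A₁ π₁ π₂ t)) := by
  have sqG := IsPullback.of_hasPullback g ((yon S).map (bcT A₁ π₁ π₂ t))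
  obtain ⟨w₁, hc₁, hw₁⟩ := covers_bc A₁ π₁ π₂ t hc sqG
  obtain ⟨f'₁, hf'₁, hfac₁⟩ := hc₁.exists_desc (candBC A₁ π₁ π₂ t)
  have sqN : IsPullback ((yon S).map (bcN A₁ π₁ π₂ t)) ((yon S).map (candBC A₁ π₁ π₂ t).ν)
      ((yon S).map (candOf π₁ π₂ t).ν) ((yon S).map (bcT A₁ π₁ π₂ t)) :=
    (isPullback_bcMap A₁ t (normSub π₁ π₂)).map (yon S)
  refine bcNorm_of_one sqG sqN ?_
    (hc₁.isRelNormalization _ (candBC_isNorm A₁ π₁ π₂ t) f'₁ hf'₁ hfac₁)
  haveI := hc₁.epi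
  rw [← cancel_epi w₁, ← Category.assoc, hf'₁, ← Category.assoc, hw₁, Category.assoc, hf',
    ← Functor.map_comp, ← Functor.map_comp, bcN_n]

end

end Groth.Agent.Helper15.Norm
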