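import Groth.Agent.Lib.Helper15.NormBasic
import Groth.Agent.Lib.Helper15.AlgSpAff
import Groth.Agent.Lib.Helper15.AlgSpFibre

/-!
# Relative normalization: uniqueness, transport, base change data
-/

set_option autoImplicit false
universe u w
open CategoryTheory CategoryTheory.Limits AlgebraicGeometry MorphismProperty Opposite
open AlgSp

namespace Groth.Agent.Helper15.Norm

variable {S : Scheme.{u}}

theorem isIntegralMor_of_isPullback {X Y Y' T : Sp S} {f : X ⟶ T} {g : Y ⟶ T} {f' : Y' ⟶ Y}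
    {g' : Y' ⟶ X} (sq : IsPullback f' g' g f) (hg : IsIntegralMor g) : IsIntegralMor g' := by
  rw [isIntegralMor_iff_affRep] at hg ⊢
  exact MorphismProperty.of_isPullback sq hg

theorem isIntegralMor_of_iso {X Y : Sp S} (e : X ⟶ Y) [IsIso e] : IsIntegralMor e := by
  intro Z hZ g
  refine ⟨Z, 𝟙 Z, g ≫ inv e, ?_, hZ, ?_⟩
  · rw [CategoryTheory.Functor.map_id]
    exact IsPullback.of_vert_isIso ⟨by simp⟩
  · rw [Over.id_left]; infer_instance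

theorem isIntegralMor_comp {X Y Z : Sp S} (f : X ⟶ Y) (g : Y ⟶ Z) (hf : IsIntegralMor f)
    (hg : IsIntegralMor g) : IsIntegralMor (f ≫ g) := by
  rw [isIntegralMor_iff_affRep] at hf hg ⊢
  exact (AffRep (S := S) @IsIntegralHom).comp_mem _ _ hf hg

section

variable {G H N : Sp S} {g : G ⟶ H} {ν : N ⟶ H} {f' : G ⟶ N}

theorem norm_hom_ext (hn : IsRelNormalization g ν f') {Z : Sp S} (hZ : IsAlgSpace Z)
    {π : Z ⟶ H} (hπ : IsIntegralMor π) {h₁ h₂ : N ⟶ Z} (e₁ : f' ≫ h₁ = f' ≫ h₂)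
    (p₁ : h₁ ≫ π = ν) (p₂ : h₂ ≫ π = ν) : h₁ = h₂ := by
  obtain ⟨hfac, -, hu⟩ := hn
  obtain ⟨h, -, huniq⟩ := hu hZ π (f' ≫ h₁) hπ (by rw [Category.assoc, p₁, hfac])
  rw [huniq h₁ ⟨rfl, p₁⟩, huniq h₂ ⟨e₁.symm, p₂⟩]

/-- Transport of a normalization along isomorphisms of source and middle object. -/
theorem norm_of_iso (hn : IsRelNormalization g ν f') {G' N' : Sp S}
    (eG : G' ≅ G) (eN : N' ≅ N) {g₁ : G' ⟶ H} {ν₁ : N' ⟶ H} {f'₁ : G' ⟶ N'}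
    (hg : g₁ = eG.hom ≫ g) (hν : ν₁ = eN.hom ≫ ν) (hf : f'₁ ≫ eN.hom = eG.hom ≫ f') :
    IsRelNormalization g₁ ν₁ f'₁ := by
  obtain ⟨hfac, hint, hu⟩ := hn
  refine ⟨?_, ?_, ?_⟩
  · rw [hν, ← Category.assoc, hf, Category.assoc, hfac, hg]
  · rw [hν]
    exact isIntegralMor_comp _ _ (isIntegralMor_of_iso eN.hom) hint
  · intro Z hZ π k hπ hk
    obtain ⟨h, ⟨h1, h2⟩, huniq⟩ := hu hZ π (eG.inv ≫ k) hπ (by
      rw [Category.assoc, hk, hg, Iso.inv_hom_id_assoc])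
    refine ⟨eN.hom ≫ h, ⟨?_, ?_⟩, ?_⟩
    · rw [← Category.assoc, hf, Category.assoc, h1, Iso.hom_inv_id_assoc]
    · rw [Category.assoc, h2, hν]
    · rintro h' ⟨a1, a2⟩
      have := huniq (eN.inv ≫ h') ⟨?_, ?_⟩
      · rw [← this, Iso.hom_inv_id_assoc]
      · have : f' = eG.inv ≫ f'₁ ≫ eN.hom := by rw [hf, Iso.inv_hom_id_assoc]
        rw [this, Category.assoc, Category.assoc, Iso.hom_inv_id_assoc, a1]
      · rw [Category.assoc, a2, hν, Iso.inv_hom_id_assoc]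

/-- Two normalizations (through algebraic spaces) are uniquely isomorphic. -/
theorem norm_exists_iso (hn : IsRelNormalization g ν f') (hN : IsAlgSpace N)
    {N' : Sp S} {ν' : N' ⟶ H} {f'' : G ⟶ N'} (hn' : IsRelNormalization g ν' f'')
    (hN' : IsAlgSpace N') : ∃ e : N ≅ N', f' ≫ e.hom = f'' ∧ e.hom ≫ ν' = ν := by
  obtain ⟨a, ⟨a1, a2⟩, -⟩ := hn.2.2 hN' ν' f'' hn'.2.1 hn'.1
  obtain ⟨b, ⟨b1, b2⟩, -⟩ := hn'.2.2 hN ν f' hn.2.1 hn.1
  refine ⟨⟨a, b, ?_, ?_⟩, a1, a2⟩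
  · exact norm_hom_ext hn hN hn.2.1 (by rw [← Category.assoc, a1, b1, Category.comp_id])
      (by rw [Category.assoc, b2, a2]) (by rw [Category.id_comp])
  · exact norm_hom_ext hn' hN' hn'.2.1 (by rw [← Category.assoc, b1, a1, Category.comp_id])
      (by rw [Category.assoc, a2, b2]) (by rw [Category.id_comp])

/-- The normalization property for every base change datum along `c`. -/
def BCNorm {H₁ : Sp S} (g : G ⟶ H) (ν : N ⟶ H) (f' : G ⟶ N) (c : H₁ ⟶ H) : Prop :=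
  ∀ ⦃G₁ N₁ : Sp S⦄ (g₁ : G₁ ⟶ H₁) (ν₁ : N₁ ⟶ H₁) (f'₁ : G₁ ⟶ N₁) (cG : G₁ ⟶ G) (cN : N₁ ⟶ N),
    IsPullback cG g₁ g c → IsPullback cN ν₁ ν c → f'₁ ≫ ν₁ = g₁ → f'₁ ≫ cN = cG ≫ f' →
    IsRelNormalization g₁ ν₁ f'₁

/-- It suffices to check one base change datum. -/
theorem bcNorm_of_one {H₁ G₁ N₁ : Sp S} {c : H₁ ⟶ H} {g₁ : G₁ ⟶ H₁} {ν₁ : N₁ ⟶ H₁}
    {f'₁ : G₁ ⟶ N₁} {cG : G₁ ⟶ G} {cN : N₁ ⟶ N} (sqG : IsPullback cG g₁ g c)
    (sqN : IsPullback cN ν₁ ν c) (h2 : f'₁ ≫ cN = cG ≫ f')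
    (hn : IsRelNormalization g₁ ν₁ f'₁) : BCNorm g ν f' c := by
  intro G₂ N₂ g₂ ν₂ f'₂ dG dN sqG' sqN' k1 k2
  let eG : G₂ ≅ G₁ := sqG'.isoIsPullback _ _ sqG
  let eN : N₂ ≅ N₁ := sqN'.isoIsPullback _ _ sqN
  have eG1 : eG.hom ≫ cG = dG := sqG'.isoIsPullback_hom_fst _ _ sqG
  have eG2 : eG.hom ≫ g₁ = g₂ := sqG'.isoIsPullback_hom_snd _ _ sqG
  have eN1 : eN.hom ≫ cN = dN := sqN'.isoIsPullback_hom_fst _ _ sqN
  have eN2 : eN.hom ≫ ν₁ = ν₂ := sqN'.isoIsPullback_hom_snd _ _ sqN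
  refine norm_of_iso hn eG eN eG2.symm eN2.symm ?_
  apply sqN.hom_ext
  · rw [Category.assoc, eN1, k2, Category.assoc, h2, ← Category.assoc, eG1]
  · rw [Category.assoc, eN2, k1, Category.assoc, hn.1, eG2]

end

/-- **Translation**: a normalization of a base change gives unique compatible lifts. -/
theorem cl_of_isRelNormalization {G H N Z H₁ G₁ N₁ : Sp S} {g : G ⟶ H} {ν : N ⟶ H} {f' : G ⟶ N}
    (hfac : f' ≫ ν = g) {c : H₁ ⟶ H} {g₁ : G₁ ⟶ H₁} {ν₁ : N₁ ⟶ H₁} {f'₁ : G₁ ⟶ N₁}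
    {cG : G₁ ⟶ G} {cN : N₁ ⟶ N} (sqG : IsPullback cG g₁ g c) (sqN : IsPullback cN ν₁ ν c)
    (h1 : f'₁ ≫ ν₁ = g₁) (h2 : f'₁ ≫ cN = cG ≫ f') (hn : IsRelNormalization g₁ ν₁ f'₁)
    (hH : Representable (Limits.diag H)) (hH₁ : IsAlgSpace H₁) (hZ : IsAlgSpace Z)
    (π : Z ⟶ H) (hπ : IsIntegralMor π) (g' : G ⟶ Z) (hg' : g' ≫ π = g) :
    (∃ l : N₁ ⟶ Z, IsCL ν f' π g' cN l) ∧
      ∀ l l' : N₁ ⟶ Z, IsCL ν f' π g' cN l → IsCL ν f' π g' cN l' → l = l' := by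
  have sqZ : IsPullback (pullback.fst π c) (pullback.snd π c) π c := IsPullback.of_hasPullback _ _
  have hZ₁ : IsAlgSpace (pullback π c) := isAlgSpace_of_isPullback hH hZ hH₁ sqZ
  have hπ₁ : IsIntegralMor (pullback.snd π c) := isIntegralMor_of_isPullback sqZ hπ
  let g'₁ : G₁ ⟶ pullback π c := pullback.lift (cG ≫ g') g₁ (by rw [Category.assoc, hg', sqG.w])
  have hg'₁ : g'₁ ≫ pullback.snd π c = g₁ := pullback.lift_snd _ _ _
  -- a compatible lift gives a solution of the lifting problem over `H₁`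
  have key : ∀ l : N₁ ⟶ Z, IsCL ν f' π g' cN l →
      ∃ h₁ : N₁ ⟶ pullback π c, h₁ ≫ pullback.fst π c = l ∧ f'₁ ≫ h₁ = g'₁ ∧
        h₁ ≫ pullback.snd π c = ν₁ := by
    rintro l ⟨l1, l2⟩
    refine ⟨pullback.lift l ν₁ (by rw [l1, sqN.w]), pullback.lift_fst _ _ _, ?_,
      pullback.lift_snd _ _ _⟩
    apply pullback.hom_ext
    · rw [Category.assoc, pullback.lift_fst, pullback.lift_fst]
      apply hom_ext_yon
      intro T x₁
      rw [← Category.assoc, ← Category.assoc]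
      exact l2 T (x₁ ≫ cG) (x₁ ≫ f'₁) (by rw [Category.assoc, Category.assoc, h2])
    · rw [Category.assoc, pullback.lift_snd, pullback.lift_snd, h1]
  constructor
  · obtain ⟨h₁, ⟨a1, a2⟩, -⟩ := hn.2.2 hZ₁ (pullback.snd π c) g'₁ hπ₁ hg'₁
    refine ⟨h₁ ≫ pullback.fst π c, ?_, ?_⟩
    · rw [Category.assoc, pullback.condition, ← Category.assoc, a2, sqN.w]
    · intro T x y hxy
      have hw : x ≫ g = (y ≫ ν₁) ≫ c := by
        rw [← hfac, ← Category.assoc, hxy, Category.assoc, Category.assoc, sqN.w]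
      let x₁ : (yon S).obj T ⟶ G₁ := sqG.lift x (y ≫ ν₁) hw
      have hx₁ : x₁ ≫ f'₁ = y := by
        apply sqN.hom_ext
        · rw [Category.assoc, h2, ← Category.assoc, sqG.lift_fst, hxy]
        · rw [Category.assoc, h1, sqG.lift_snd]
      have e3 : g'₁ ≫ pullback.fst π c = cG ≫ g' := pullback.lift_fst _ _ _
      rw [← hx₁, Category.assoc, ← Category.assoc f'₁, a1, e3, ← Category.assoc, sqG.lift_fst]
  · intro l l' hl hl'
    obtain ⟨h₁, e1, e2, e3⟩ := key l hl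
    obtain ⟨h₁', e1', e2', e3'⟩ := key l' hl'
    have : h₁ = h₁' := norm_hom_ext hn hZ₁ hπ₁ (by rw [e2, e2']) e3 e3'
    rw [← e1, ← e1', this]

/-- Unique compatible lifts over the identity give the universal property. -/
theorem isRelNormalization_of_cl {G H N : Sp S} {g : G ⟶ H} {ν : N ⟶ H} {f' : G ⟶ N}
    (hfac : f' ≫ ν = g) (hν : IsIntegralMor ν)
    (h : ∀ ⦃Z : Sp S⦄, IsAlgSpace Z → ∀ (π : Z ⟶ H) (g' : G ⟶ Z), IsIntegralMor π → g' ≫ π = g →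
      (∃ l : N ⟶ Z, IsCL ν f' π g' (𝟙 N) l) ∧
        ∀ l l' : N ⟶ Z, IsCL ν f' π g' (𝟙 N) l → IsCL ν f' π g' (𝟙 N) l' → l = l') :
    IsRelNormalization g ν f' := by
  refine ⟨hfac, hν, fun Z hZ π g' hπ hg' => ?_⟩
  obtain ⟨⟨l, hl⟩, hu⟩ := h hZ π g' hπ hg'
  refine ⟨l, (isCL_id_iff l).1 hl, fun l' hl' => ?_⟩
  exact hu l' l ((isCL_id_iff l').2 hl') hl

end Groth.Agent.Helper15.Norm
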