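import Groth.Agent.Lib.Helper15.AffDesc3
import Groth.Agent.Lib.Helper15.AlgSpQuotEff
import Groth.Agent.Lib.Helper15.AlgSpCoprod
import Groth.Agent.Lib.Helper15.AlgSpSI1
import Groth.Prelude.Def_AlgSpMor5

/-!
# Relative normalization of algebraic spaces: basic formalism

Jointly epimorphic families of sheaves, gluing of morphisms, "compatible lifts".
-/

set_option autoImplicit false
universe u w
open CategoryTheory CategoryTheory.Limits AlgebraicGeometry MorphismProperty Opposite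
open AlgSp

namespace Groth.Agent.Helper15.Norm

variable {S : Scheme.{u}}

/-! ## Jointly epimorphic families -/

/-- The sieve of arrows along which a section lifts to a member of the family. -/
def liftSieve {ι : Type w} {F : Sp S} (Fi : ι → Sp S) (e : ∀ i, Fi i ⟶ F) {T : Over S}
    (x : (yon S).obj T ⟶ F) : Sieve T where
  arrows T' k := ∃ (i : ι) (y : (yon S).obj T' ⟶ Fi i), y ≫ e i = (yon S).map k ≫ x
  downward_closed := by
    rintro T' T'' k ⟨i, y, hy⟩ l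
    exact ⟨i, (yon S).map l ≫ y, by rw [Category.assoc, hy, Functor.map_comp, Category.assoc]⟩

/-- A family of maps of sheaves is jointly (locally) surjective. -/
def JointlyEpi {ι : Type w} {F : Sp S} (Fi : ι → Sp S) (e : ∀ i, Fi i ⟶ F) : Prop :=
  ∀ (T : Over S) (x : (yon S).obj T ⟶ F), liftSieve Fi e x ∈ (J S) T

theorem JointlyEpi.hom_ext {ι : Type w} {F Z : Sp S} {Fi : ι → Sp S} {e : ∀ i, Fi i ⟶ F}
    (he : JointlyEpi Fi e) {a b : F ⟶ Z} (h : ∀ i, e i ≫ a = e i ≫ b) : a = b := by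
  apply hom_ext_yon
  intro T x
  apply yon_hom_ext_of_cover _ _ _ (he T x)
  rintro T' k ⟨i, y, hy⟩
  rw [← Category.assoc, ← Category.assoc, ← hy, Category.assoc, Category.assoc, h]

/-- A single epimorphism is a jointly epimorphic family. -/
theorem jointlyEpi_of_epi {F' F : Sp S} (e : F' ⟶ F) [Epi e] :
    JointlyEpi (fun _ : PUnit.{1} => F') (fun _ => e) := by
  intro T x
  obtain ⟨R, hR, h⟩ := exists_local_lift_of_epi' e x
  refine (J S).superset_covering ?_ hR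
  intro T' k hk
  obtain ⟨τ, hτ⟩ := h k hk
  exact ⟨PUnit.unit, τ, hτ⟩

/-- Base change of a jointly epimorphic family. -/
theorem JointlyEpi.of_isPullback {ι : Type w} {F F' : Sp S} {Fi Fi' : ι → Sp S}
    {e : ∀ i, Fi i ⟶ F} (he : JointlyEpi Fi e) (c : F' ⟶ F) (e' : ∀ i, Fi' i ⟶ F')
    (ci : ∀ i, Fi' i ⟶ Fi i) (sq : ∀ i, IsPullback (ci i) (e' i) (e i) c) :
    JointlyEpi Fi' e' := by
  intro T x
  refine (J S).superset_covering ?_ (he T (x ≫ c))
  rintro T' k ⟨i, y, hy⟩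
  refine ⟨i, (sq i).lift y ((yon S).map k ≫ x) (by rw [hy, Category.assoc]), ?_⟩
  rw [(sq i).lift_snd]

/-- Gluing morphisms along a jointly epimorphic family. -/
theorem JointlyEpi.exists_desc {ι : Type u} {F Z : Sp S} {Fi : ι → Sp S} {e : ∀ i, Fi i ⟶ F}
    (he : JointlyEpi Fi e) (l : ∀ i, Fi i ⟶ Z)
    (hl : ∀ (T : Over S) (i j : ι) (y : (yon S).obj T ⟶ Fi i) (y' : (yon S).obj T ⟶ Fi j),
      y ≫ e i = y' ≫ e j → y ≫ l i = y' ≫ l j) :
    ∃ d : F ⟶ Z, ∀ i, e i ≫ d = l i := by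
  let c : Cofan Fi := Cofan.mk (∐ Fi) (Sigma.ι Fi)
  have hc : IsColimit c := coproductIsCoproduct Fi
  let eA : ∐ Fi ⟶ F := Sigma.desc e
  let lA : ∐ Fi ⟶ Z := Sigma.desc l
  haveI : Epi eA := by
    haveI : Sheaf.IsLocallySurjective eA := by
      constructor
      intro T s
      obtain ⟨x, rfl⟩ := (yonEquiv (T := T) (F := F)).surjective s
      refine (J S).superset_covering ?_ (he T x)
      rintro T' k ⟨i, y, hy⟩
      refine ⟨yonEquiv (y ≫ Sigma.ι Fi i), ?_⟩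
      have h1 := GrothendieckTopology.uliftYonedaEquiv_comp (J S) (y ≫ Sigma.ι Fi i) eA
      have h2 := GrothendieckTopology.uliftYonedaEquiv_naturality (J S) x k
      rw [Category.assoc, Sigma.ι_desc, hy] at h1
      exact h1.symm.trans h2.symm
    exact Sheaf.epi_of_isLocallySurjective eA
  obtain ⟨d, hd⟩ := AffDesc.exists_desc_of_epi eA lA (by
    intro X x y hxy
    obtain ⟨R₁, hR₁, h₁⟩ := cofan_exists_local c hc x
    obtain ⟨R₂, hR₂, h₂⟩ := cofan_exists_local c hc y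
    apply yon_hom_ext_of_cover _ _ (R₁ ⊓ R₂) ((J S).intersection_covering hR₁ hR₂)
    rintro T' k ⟨hk₁, hk₂⟩
    obtain ⟨i, xi, hxi⟩ := h₁ k hk₁
    obtain ⟨j, yj, hyj⟩ := h₂ k hk₂
    have hxi' : xi ≫ Sigma.ι Fi i = (yon S).map k ≫ x := hxi
    have hyj' : yj ≫ Sigma.ι Fi j = (yon S).map k ≫ y := hyj
    have e1 : xi ≫ e i = yj ≫ e j := by
      have a1 : xi ≫ e i = (yon S).map k ≫ x ≫ eA := by
        rw [← Category.assoc, ← hxi', Category.assoc, Sigma.ι_desc]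
      have a2 : yj ≫ e j = (yon S).map k ≫ y ≫ eA := by
        rw [← Category.assoc, ← hyj', Category.assoc, Sigma.ι_desc]
      rw [a1, a2, hxy]
    have e2 := hl T' i j xi yj e1
    have b1 : (yon S).map k ≫ x ≫ lA = xi ≫ l i := by
      rw [← Category.assoc, ← hxi', Category.assoc, Sigma.ι_desc]
    have b2 : (yon S).map k ≫ y ≫ lA = yj ≫ l j := by
      rw [← Category.assoc, ← hyj', Category.assoc, Sigma.ι_desc]
    rw [b1, b2, e2])
  refine ⟨d, fun i => ?_⟩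
  have : Sigma.ι Fi i ≫ eA ≫ d = Sigma.ι Fi i ≫ lA := by rw [hd]
  rw [← Category.assoc, Sigma.ι_desc, Sigma.ι_desc] at this
  exact this

/-! ## Compatible lifts -/

section CL

variable {G H N Z : Sp S} (ν : N ⟶ H) (f' : G ⟶ N) (π : Z ⟶ H) (g' : G ⟶ Z)

/-- `l : B ⟶ Z` is a compatible lift over `b : B ⟶ N`: it lies over `H` and is compatible with
the maps from `G`. -/
def IsCL {B : Sp S} (b : B ⟶ N) (l : B ⟶ Z) : Prop :=
  l ≫ π = b ≫ ν ∧ ∀ (T : Over S) (x : (yon S).obj T ⟶ G) (y : (yon S).obj T ⟶ B),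
    x ≫ f' = y ≫ b → y ≫ l = x ≫ g'

variable {ν f' π g'}

theorem IsCL.precomp {B B' : Sp S} {b : B ⟶ N} {l : B ⟶ Z} (h : IsCL ν f' π g' b l)
    (k : B' ⟶ B) : IsCL ν f' π g' (k ≫ b) (k ≫ l) := by
  refine ⟨by rw [Category.assoc, h.1, Category.assoc], fun T x y hxy => ?_⟩
  rw [← Category.assoc]
  exact h.2 T x (y ≫ k) (by rw [hxy, Category.assoc])

theorem isCL_id_iff (h : N ⟶ Z) :
    IsCL ν f' π g' (𝟙 N) h ↔ (f' ≫ h = g' ∧ h ≫ π = ν) := by
  constructor
  · rintro ⟨h1, h2⟩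
    refine ⟨?_, by rw [h1, Category.id_comp]⟩
    apply hom_ext_yon
    intro T x
    rw [← Category.assoc]
    exact h2 T x (x ≫ f') (by rw [Category.comp_id])
  · rintro ⟨h1, h2⟩
    refine ⟨by rw [h2, Category.id_comp], fun T x y hxy => ?_⟩
    rw [Category.comp_id] at hxy
    rw [← hxy, Category.assoc, h1]

/-- Being a compatible lift is local on the source. -/
theorem IsCL.of_jointlyEpi {ι : Type w} {B : Sp S} {Bi : ι → Sp S} {e : ∀ i, Bi i ⟶ B}
    (he : JointlyEpi Bi e) {b : B ⟶ N} {l : B ⟶ Z}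
    (h : ∀ i, IsCL ν f' π g' (e i ≫ b) (e i ≫ l)) : IsCL ν f' π g' b l := by
  refine ⟨he.hom_ext fun i => ?_, fun T x y hxy => ?_⟩
  · rw [← Category.assoc, (h i).1, Category.assoc]
  · apply yon_hom_ext_of_cover _ _ _ (he T y)
    rintro T' k ⟨i, yi, hyi⟩
    have := (h i).2 T' ((yon S).map k ≫ x) yi (by
      rw [Category.assoc, hxy, ← Category.assoc, ← hyi, Category.assoc])
    rw [← Category.assoc, ← hyi, Category.assoc, this, Category.assoc]

/-- Uniqueness of compatible lifts is local on the source. -/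
theorem cl_unique_of_jointlyEpi {ι : Type w} {B : Sp S} {Bi : ι → Sp S} {e : ∀ i, Bi i ⟶ B}
    (he : JointlyEpi Bi e) {b : B ⟶ N}
    (hu : ∀ i (l l' : Bi i ⟶ Z), IsCL ν f' π g' (e i ≫ b) l → IsCL ν f' π g' (e i ≫ b) l' → l = l')
    {l l' : B ⟶ Z} (hl : IsCL ν f' π g' b l) (hl' : IsCL ν f' π g' b l') : l = l' :=
  he.hom_ext fun i => hu i _ _ (hl.precomp (e i)) (hl'.precomp (e i))

/-- Existence of compatible lifts from local existence and compatibility. -/
theorem cl_exists_of_jointlyEpi {ι : Type u} {B : Sp S} {Bi : ι → Sp S} {e : ∀ i, Bi i ⟶ B}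
    (he : JointlyEpi Bi e) {b : B ⟶ N} (l : ∀ i, Bi i ⟶ Z)
    (hl : ∀ i, IsCL ν f' π g' (e i ≫ b) (l i))
    (hc : ∀ (T : Over S) (i j : ι) (y : (yon S).obj T ⟶ Bi i) (y' : (yon S).obj T ⟶ Bi j),
      y ≫ e i = y' ≫ e j → y ≫ l i = y' ≫ l j) :
    ∃ d : B ⟶ Z, IsCL ν f' π g' b d ∧ ∀ i, e i ≫ d = l i := by
  obtain ⟨d, hd⟩ := he.exists_desc l hc
  refine ⟨d, IsCL.of_jointlyEpi he fun i => ?_, hd⟩
  rw [hd]
  exact hl i

end CL

end Groth.Agent.Helper15.Norm
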