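import Mathlib
import Groth.Prelude
import Groth.Agent.Lib.Helper15.AlgSpDecent2
import Groth.Agent.Lib.Helper15.DecentIrr1
import Groth.Agent.Lib.Helper15.SoberDecent
import Groth.Agent.Lib.Helper15.AlgSpTop
import Groth.Agent.Lib.Helper15.Bir17

/-!
# Normal integral affine étale charts of a normal integral algebraic space
-/

set_option autoImplicit false
set_option linter.unusedSectionVars false
set_option linter.unusedVariables false
set_option linter.style.haveILetI false

universe u

open CategoryTheory CategoryTheory.Limits AlgebraicGeometry MorphismProperty Opposite AlgSp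

namespace Groth.Agent.Helper15.NormChart

open Groth.Agent.Helper15 Groth.Agent.Helper15.DecentIrr Groth.Agent.Helper15.Bir

/-- If the stalk at `w` is a domain, the generizations of `w` have a least element. -/
theorem exists_least_generization {W : Scheme.{u}} (w : W) [IsDomain (W.presheaf.stalk w)] :
    ∃ γ : W, γ ⤳ w ∧ ∀ g : W, g ⤳ w → γ ⤳ g := by
  let b : PrimeSpectrum (W.presheaf.stalk w) := ⟨⊥, Ideal.isPrime_bot⟩
  refine ⟨W.fromSpecStalk w b, ?_, ?_⟩
  · have : W.fromSpecStalk w b ∈ Set.range (W.fromSpecStalk w) := ⟨b, rfl⟩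
    rw [Scheme.range_fromSpecStalk] at this
    exact this
  · intro g hg
    have hg' : g ∈ Set.range (W.fromSpecStalk w) := by
      rw [Scheme.range_fromSpecStalk]; exact hg
    obtain ⟨q, rfl⟩ := hg'
    have hbq : b ⤳ q := (PrimeSpectrum.le_iff_specializes b q).mp bot_le
    exact hbq.map (W.fromSpecStalk w).continuous

/-- A point with domain stalk on a scheme with finitely many irreducible components has an
irreducible affine open neighbourhood. -/
theorem exists_affine_irreducible_nbhd {W : Scheme.{u}} (w : W) [IsDomain (W.presheaf.stalk w)]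
    (hfin : (irreducibleComponents W).Finite) :
    ∃ U : W.Opens, IsAffineOpen U ∧ w ∈ U ∧ IsIrreducible (U : Set W) := by
  obtain ⟨γ, hγw, hγ⟩ := exists_least_generization w
  set Z₁ : Set W := closure {γ} with hZ₁
  have hZ₁irr : IsIrreducible Z₁ := isIrreducible_singleton.closure
  -- every component through `w` is `Z₁`
  have huniq : ∀ Z ∈ irreducibleComponents W, w ∈ Z → Z = Z₁ := by
    intro Z hZ hwZ
    have hZcl : IsClosed Z := isClosed_of_mem_irreducibleComponents Z hZ
    obtain ⟨g, hg⟩ := QuasiSober.sober hZ.1 hZcl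
    have hgw : g ⤳ w := by
      rw [specializes_iff_mem_closure, hg.def]; exact hwZ
    have hγg : γ ⤳ g := hγ g hgw
    have hZle : Z ≤ Z₁ := by
      rw [← hg.def]
      exact closure_minimal (Set.singleton_subset_iff.2 (specializes_iff_mem_closure.1 hγg))
        isClosed_closure
    exact le_antisymm hZle (hZ.2 hZ₁irr hZle)
  set T : Set W := ⋃₀ (irreducibleComponents W \ {Z₁}) with hT
  have hTcl : IsClosed T := by
    rw [hT, Set.sUnion_eq_biUnion]
    exact (hfin.subset Set.sdiff_subset).isClosed_biUnion
      (fun Z hZ => isClosed_of_mem_irreducibleComponents Z hZ.1)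
  have hwT : w ∉ T := by
    rintro ⟨Z, ⟨hZ, hZne⟩, hwZ⟩
    exact hZne (huniq Z hZ hwZ)
  have hNZ : Tᶜ ⊆ Z₁ := by
    intro z hz
    by_contra hzZ
    apply hz
    refine ⟨irreducibleComponent z, ⟨irreducibleComponent_mem_irreducibleComponents z, ?_⟩,
      mem_irreducibleComponent⟩
    intro h
    apply hzZ
    have : z ∈ irreducibleComponent z := mem_irreducibleComponent
    rw [Set.mem_singleton_iff.1 h] at this
    exact this
  obtain ⟨_, ⟨U, hU, rfl⟩, hwU, hUT⟩ :=
    (W.isBasis_affineOpens).exists_subset_of_mem_open hwT hTcl.isOpen_compl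
  let U' : W.Opens := U
  refine ⟨U', hU, hwU, ⟨w, hwU⟩, ?_⟩
  exact hZ₁irr.isPreirreducible.open_subset U'.2 (hUT.trans hNZ)

end Groth.Agent.Helper15.NormChart
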