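import Mathlib
import Groth.Prelude
import Groth.Agent.Lib.Helper15.NormChart1

set_option autoImplicit false
set_option linter.unusedSectionVars false
set_option linter.unusedVariables false
set_option linter.style.haveILetI false

universe u

open CategoryTheory CategoryTheory.Limits AlgebraicGeometry MorphismProperty Opposite AlgSp

namespace Groth.Agent.Helper15.NormChart

open Groth.Agent.Helper15 Groth.Agent.Helper15.DecentIrr Groth.Agent.Helper15.Bir

variable {S : Scheme.{u}}

theorem main10492 (X : AlgSp.Space S)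
    (hXi : AlgSp.IsIntegralSp X.obj)
    (hXn : AlgSp.EtaleLocally (fun U => ∀ u : ↥U, IsDomain ↥(U.presheaf.stalk u) ∧
      IsIntegrallyClosed ↥(U.presheaf.stalk u)) X.obj)
    (x : AlgSp.Points X.obj) :
    ∃ (U : Over S) (a : (AlgSp.yon S).obj U ⟶ X.obj), AlgSp.RepWith @Etale a ∧ IsAffine U.left ∧
      IsIntegral U.left ∧ IsIntegrallyClosed ↥Γ(U.left, ⊤) ∧ x ∈ Set.range (AlgSp.Points.ofPt a) := by
  obtain ⟨hred, hdec, hirr⟩ := hXi
  obtain ⟨U₀, p₀, hp₀e, hp₀s, hP⟩ := hXn
  obtain ⟨u₀, hu₀⟩ := surjective_ofPt p₀ hp₀s x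
  obtain ⟨_, ⟨O, hO, rfl⟩, hu₀O, -⟩ :=
    (U₀.left.isBasis_affineOpens).exists_subset_of_mem_open (Set.mem_univ u₀) isOpen_univ
  let O' : U₀.left.Opens := O
  let V : Over S := Over.mk (O'.ι ≫ U₀.hom)
  let j₀ : V ⟶ U₀ := CategoryTheory.Over.homMk O'.ι rfl
  haveI : IsAffine V.left := hO
  have hj₀ : Etale j₀.left := (inferInstance : Etale O'.ι)
  have hψ : RepWith @Etale ((yon S).map j₀ ≫ p₀) :=
    (RepWith @Etale).comp_mem _ _ ((repWith_yon_map_iff _ j₀).2 hj₀) hp₀e
  haveI : QuasiSober (Points X.obj) := SoberDecent.quasiSober_points_of_isDecent X.property hdec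
  haveI := hirr
  obtain ⟨η, hη⟩ := QuasiSober.sober (IrreducibleSpace.isIrreducible_univ (Points X.obj)) isClosed_univ
  have hF := finite_fibre_of_isDecent hdec η ((yon S).map j₀ ≫ p₀) hψ
  have hcov : ∀ z : V.left, ∃ g ∈ (Points.ofPt ((yon S).map j₀ ≫ p₀) ⁻¹' {η}), g ⤳ z := by
    intro z
    have h1 : η ⤳ Points.ofPt ((yon S).map j₀ ≫ p₀) z := hη.specializes (Set.mem_univ _)
    obtain ⟨g, hgz, hg⟩ := exists_specializes_lift_of_isDecent hdec _ hψ z η h1
    exact ⟨g, hg, hgz⟩
  have hfin : (irreducibleComponents V.left).Finite :=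
    finite_irreducibleComponents_of_specializes _ hF hcov
  have hnV : ∀ v : V.left, IsDomain (V.left.presheaf.stalk v) ∧
      IsIntegrallyClosed (V.left.presheaf.stalk v) :=
    fun v => normal_stalk_of_isOpenImmersion O'.ι hP v
  let w : V.left := ⟨u₀, hu₀O⟩
  haveI : IsDomain (V.left.presheaf.stalk w) := (hnV w).1
  obtain ⟨U', hU'aff, hwU', hU'irr⟩ := exists_affine_irreducible_nbhd w hfin
  let U : Over S := Over.mk (U'.ι ≫ V.hom)
  let j₁ : U ⟶ V := CategoryTheory.Over.homMk U'.ι rfl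
  haveI hUaff : IsAffine U.left := hU'aff
  have hj₁ : Etale j₁.left := (inferInstance : Etale U'.ι)
  have ha : RepWith @Etale ((yon S).map j₁ ≫ ((yon S).map j₀ ≫ p₀)) :=
    (RepWith @Etale).comp_mem _ _ ((repWith_yon_map_iff _ j₁).2 hj₁) hψ
  have hnU : ∀ v : U.left, IsDomain (U.left.presheaf.stalk v) ∧
      IsIntegrallyClosed (U.left.presheaf.stalk v) :=
    fun v => normal_stalk_of_isOpenImmersion U'.ι hnV v
  haveI : IsReduced U.left := by
    haveI : ∀ v : U.left, _root_.IsReduced (U.left.presheaf.stalk v) := fun v => by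
      haveI := (hnU v).1
      infer_instance
    exact isReduced_of_isReduced_stalk U.left
  haveI : IrreducibleSpace U.left := Subtype.irreducibleSpace hU'irr
  haveI hint : IsIntegral U.left := isIntegral_of_irreducibleSpace_of_isReduced U.left
  refine ⟨U, _, ha, hUaff, hint, ?_, ?_⟩
  · haveI : IsDomain Γ(U.left, ⊤) := inferInstance
    refine IsIntegrallyClosed.of_localization_maximal (fun m _ hm => ?_)
    haveI := hm.isPrime
    exact (localization_atPrime_normal (isAffineOpen_top U.left) hnU m).2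
  · refine ⟨⟨w, hwU'⟩, ?_⟩
    rw [ofPt_comp_yon_map, ofPt_comp_yon_map]
    exact hu₀

end Groth.Agent.Helper15.NormChart
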