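import Groth.Agent.Lib.Helper15.NormGlue
import Groth.Agent.Lib.Helper15.AlgSpUnram

/-!
# Gluing sheaves over étale charts: the equivalence relation
-/

set_option autoImplicit false
universe u
open CategoryTheory CategoryTheory.Limits AlgebraicGeometry MorphismProperty Opposite
open AlgSp

namespace Groth.Agent.Helper15.Norm

variable {S : Scheme.{u}}

/-- An affine étale chart of a sheaf. -/
structure Chart (H : Sp S) where
  T : Over S
  c : (yon S).obj T ⟶ H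
  aff : IsAffine T.left
  et : RepWith @Etale c

namespace Chart

variable {H : Sp S}

/-- A morphism of charts. -/
@[ext]
structure Hom (o' o : Chart H) where
  u : o'.T ⟶ o.T
  comm : (yon S).map u ≫ o.c = o'.c
  et : Etale u.left

instance : Category (Chart H) where
  Hom := Hom
  id o := ⟨𝟙 _, by rw [CategoryTheory.Functor.map_id, Category.id_comp], by
    change Etale (𝟙 o.T.left); infer_instance⟩
  comp f g := ⟨f.u ≫ g.u, by rw [Functor.map_comp, Category.assoc, g.comm, f.comm], by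
    haveI := f.et
    haveI := g.et
    change Etale (f.u.left ≫ g.u.left); infer_instance⟩
  id_comp f := Hom.ext (Category.id_comp _)
  comp_id f := Hom.ext (Category.comp_id _)
  assoc f g h := Hom.ext (Category.assoc _ _ _)

@[simp] theorem id_u (o : Chart H) : (𝟙 o : o ⟶ o).u = 𝟙 o.T := rfl
@[simp] theorem comp_u {o₁ o₂ o₃ : Chart H} (f : o₁ ⟶ o₂) (g : o₂ ⟶ o₃) : (f ≫ g).u = f.u ≫ g.u :=
  rfl

theorem hom_ext' {o' o : Chart H} {f g : o' ⟶ o} (h : f.u = g.u) : f = g := Hom.ext h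

/-- The underlying scheme of a chart. -/
def forget : Chart H ⥤ Over S where
  obj o := o.T
  map f := f.u

/-- The chart on an étale affine scheme over a chart. -/
def sub (o : Chart H) {T' : Over S} (v : T' ⟶ o.T) (hT' : IsAffine T'.left) (hv : Etale v.left) :
    Chart H where
  T := T'
  c := (yon S).map v ≫ o.c
  aff := hT'
  et := (RepWith @Etale).comp_mem _ _ ((repWith_yon_map_iff _ v).2 hv) o.et

/-- The structure morphism of `Chart.sub`. -/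
def subHom (o : Chart H) {T' : Over S} (v : T' ⟶ o.T) (hT' : IsAffine T'.left)
    (hv : Etale v.left) : o.sub v hT' hv ⟶ o := ⟨v, rfl, hv⟩

end Chart

/-- Gluing data: a cartesian functor on charts. -/
structure GlueData (H : Sp S) where
  N : Chart H ⥤ Over S
  ν : ∀ o : Chart H, N.obj o ⟶ o.T
  cart : ∀ {o' o : Chart H} (f : o' ⟶ o), IsPullback (N.map f) (ν o') (ν o) f.u

namespace GlueData

variable {H : Sp S} (D : GlueData H)

theorem ν_nat {o' o : Chart H} (f : o' ⟶ o) : D.N.map f ≫ D.ν o = D.ν o' ≫ f.u :=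
  (D.cart f).w

/-- Two local sections come from a common one. -/
def Rel₀ {T : Over S} {o₁ o₂ : Chart H} (m₁ : T ⟶ D.N.obj o₁) (m₂ : T ⟶ D.N.obj o₂) : Prop :=
  ∃ (o₀ : Chart H) (f₁ : o₀ ⟶ o₁) (f₂ : o₀ ⟶ o₂) (n : T ⟶ D.N.obj o₀),
    n ≫ D.N.map f₁ = m₁ ∧ n ≫ D.N.map f₂ = m₂

variable {D}

theorem Rel₀.restr {T' T : Over S} (k : T' ⟶ T) {o₁ o₂ : Chart H} {m₁ : T ⟶ D.N.obj o₁}
    {m₂ : T ⟶ D.N.obj o₂} (h : D.Rel₀ m₁ m₂) : D.Rel₀ (k ≫ m₁) (k ≫ m₂) := by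
  obtain ⟨o₀, f₁, f₂, n, h1, h2⟩ := h
  exact ⟨o₀, f₁, f₂, k ≫ n, by rw [Category.assoc, h1], by rw [Category.assoc, h2]⟩

theorem Rel₀.symm {T : Over S} {o₁ o₂ : Chart H} {m₁ : T ⟶ D.N.obj o₁}
    {m₂ : T ⟶ D.N.obj o₂} (h : D.Rel₀ m₁ m₂) : D.Rel₀ m₂ m₁ := by
  obtain ⟨o₀, f₁, f₂, n, h1, h2⟩ := h
  exact ⟨o₀, f₂, f₁, n, h2, h1⟩

theorem Rel₀.refl {T : Over S} {o : Chart H} (m : T ⟶ D.N.obj o) : D.Rel₀ m m :=
  ⟨o, 𝟙 _, 𝟙 _, m, by simp, by simp⟩

/-- A section is related to its image under a transition map. -/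
theorem Rel₀.map {T : Over S} {o' o : Chart H} (f : o' ⟶ o) (m : T ⟶ D.N.obj o') :
    D.Rel₀ m (m ≫ D.N.map f) :=
  ⟨o', 𝟙 _, f, m, by simp, rfl⟩

variable (D)

/-- The local version of `Rel₀`. -/
def Rel {T : Over S} {o₁ o₂ : Chart H} (m₁ : T ⟶ D.N.obj o₁) (m₂ : T ⟶ D.N.obj o₂) : Prop :=
  ∃ R ∈ (J S) T, ∀ ⦃T' : Over S⦄ (k : T' ⟶ T), R k → D.Rel₀ (k ≫ m₁) (k ≫ m₂)

variable {D}

theorem Rel₀.rel {T : Over S} {o₁ o₂ : Chart H} {m₁ : T ⟶ D.N.obj o₁}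
    {m₂ : T ⟶ D.N.obj o₂} (h : D.Rel₀ m₁ m₂) : D.Rel m₁ m₂ :=
  ⟨⊤, (J S).top_mem T, fun _ k _ => h.restr k⟩

theorem Rel.refl {T : Over S} {o : Chart H} (m : T ⟶ D.N.obj o) : D.Rel m m := (Rel₀.refl m).rel

theorem Rel.symm {T : Over S} {o₁ o₂ : Chart H} {m₁ : T ⟶ D.N.obj o₁}
    {m₂ : T ⟶ D.N.obj o₂} (h : D.Rel m₁ m₂) : D.Rel m₂ m₁ := by
  obtain ⟨R, hR, h⟩ := h
  exact ⟨R, hR, fun _ k hk => (h k hk).symm⟩

theorem Rel.restr {T' T : Over S} (k : T' ⟶ T) {o₁ o₂ : Chart H} {m₁ : T ⟶ D.N.obj o₁}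
    {m₂ : T ⟶ D.N.obj o₂} (h : D.Rel m₁ m₂) : D.Rel (k ≫ m₁) (k ≫ m₂) := by
  obtain ⟨R, hR, h⟩ := h
  refine ⟨R.pullback k, (J S).pullback_stable k hR, fun T'' l hl => ?_⟩
  rw [← Category.assoc, ← Category.assoc]
  exact h (l ≫ k) hl

theorem Rel.of_local {T : Over S} {o₁ o₂ : Chart H} {m₁ : T ⟶ D.N.obj o₁}
    {m₂ : T ⟶ D.N.obj o₂} (R : Sieve T) (hR : R ∈ (J S) T)
    (h : ∀ ⦃T' : Over S⦄ (k : T' ⟶ T), R k → D.Rel (k ≫ m₁) (k ≫ m₂)) : D.Rel m₁ m₂ := by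
  classical
  choose R' hR' h' using h
  refine ⟨Sieve.bind R (fun T' k hk => R' k hk), (J S).bind_covering hR (fun T' k hk => hR' k hk),
    ?_⟩
  rintro T'' m ⟨T', l, k, hk, hl, rfl⟩
  have := h' k hk l hl
  rwa [← Category.assoc, ← Category.assoc] at this

end GlueData

/-! ## Refinements of charts -/

section Refine

variable {H : Sp S}

/-- Zariski-local refinement of a point of a scheme étale over a chart by affine charts. -/
theorem exists_refine (o : Chart H) {P : Over S} (e : P ⟶ o.T) (he : Etale e.left) {T : Over S}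
    (p : T ⟶ P) :
    ∃ R ∈ (J S) T, ∀ ⦃T' : Over S⦄ (k : T' ⟶ T), R k →
      ∃ (oW : Chart H) (g : oW ⟶ o) (ι : oW.T ⟶ P) (z : T' ⟶ oW.T),
        Etale ι.left ∧ g.u = ι ≫ e ∧ z ≫ ι = k ≫ p := by
  refine ⟨_, preOver_mem_J p, ?_⟩
  rintro T'' m ⟨Y, hh, _, ⟨W⟩, rfl⟩
  have hι : Etale (openOverι (Q := P) W.1).left := by
    change Etale (W.1 : P.left.Opens).ι; infer_instance
  have hv : Etale (openOverι (Q := P) W.1 ≫ e).left := by
    haveI := hι
    haveI := he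
    change Etale ((openOverι (Q := P) W.1).left ≫ e.left); infer_instance
  have hW : IsAffine (openOver (Q := P) W.1).left := W.2
  refine ⟨o.sub (openOverι (Q := P) W.1 ≫ e) hW hv, o.subHom _ hW hv, openOverι (Q := P) W.1,
    hh ≫ preOverRes p W.1, hι, rfl, ?_⟩
  exact (Category.assoc _ _ _).trans ((congrArg (hh ≫ ·) (preOverRes_ι p W.1)).trans
    (Category.assoc _ _ _).symm)

/-- Refinement of a point of the fibre product of two charts over a third one. -/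
theorem exists_refine_pullback {o o₀ o₀' : Chart H} (f : o₀ ⟶ o) (f' : o₀' ⟶ o) {T : Over S}
    (y : T ⟶ o₀.T) (y' : T ⟶ o₀'.T) (hy : y ≫ f.u = y' ≫ f'.u) :
    ∃ R ∈ (J S) T, ∀ ⦃T' : Over S⦄ (k : T' ⟶ T), R k →
      ∃ (oW : Chart H) (g : oW ⟶ o₀) (g' : oW ⟶ o₀') (z : T' ⟶ oW.T),
        g ≫ f = g' ≫ f' ∧ z ≫ g.u = k ≫ y ∧ z ≫ g'.u = k ≫ y' := by
  have sq := IsPullback.of_hasPullback f.u f'.u
  have sqL := sq.map (Over.forget S)
  have hfst : Etale (pullback.fst f.u f'.u).left :=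
    MorphismProperty.of_isPullback (P := @Etale) sqL.flip f'.et
  have hsnd : Etale (pullback.snd f.u f'.u).left :=
    MorphismProperty.of_isPullback (P := @Etale) sqL f.et
  obtain ⟨R, hR, h⟩ := exists_refine o₀ (pullback.fst f.u f'.u) hfst (pullback.lift y y' hy)
  refine ⟨R, hR, fun T' k hk => ?_⟩
  obtain ⟨oW, g, ι, z, hι, hg, hz⟩ := h k hk
  have hcomm : (yon S).map (ι ≫ pullback.snd f.u f'.u) ≫ o₀'.c = oW.c := by
    rw [← g.comm, hg, ← f.comm, ← f'.comm, ← Category.assoc, ← Category.assoc,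
      ← Functor.map_comp, ← Functor.map_comp, Category.assoc, Category.assoc, pullback.condition]
  have het : Etale (ι ≫ pullback.snd f.u f'.u).left := by
    haveI := hι
    haveI := hsnd
    change Etale (ι.left ≫ (pullback.snd f.u f'.u).left); infer_instance
  refine ⟨oW, g, ⟨ι ≫ pullback.snd f.u f'.u, hcomm, het⟩, z, ?_, ?_, ?_⟩
  · apply Chart.hom_ext'
    change g.u ≫ f.u = (ι ≫ pullback.snd f.u f'.u) ≫ f'.u
    rw [hg, Category.assoc, Category.assoc, pullback.condition]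
  · rw [hg, ← Category.assoc, hz, Category.assoc, pullback.lift_fst]
  · change z ≫ ι ≫ pullback.snd f.u f'.u = k ≫ y'
    rw [← Category.assoc, hz, Category.assoc, pullback.lift_snd]

/-- Refinement of a point of the fibre product of two charts over the sheaf. -/
theorem exists_refine_fibre (o₁ o : Chart H) {T : Over S} (y₁ : T ⟶ o₁.T) (v : T ⟶ o.T)
    (hy : (yon S).map y₁ ≫ o₁.c = (yon S).map v ≫ o.c) :
    ∃ R ∈ (J S) T, ∀ ⦃T' : Over S⦄ (k : T' ⟶ T), R k →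
      ∃ (oW : Chart H) (g₁ : oW ⟶ o₁) (g : oW ⟶ o) (z : T' ⟶ oW.T),
        z ≫ g₁.u = k ≫ y₁ ∧ z ≫ g.u = k ≫ v := by
  have hrep := o₁.et.rep
  have sqQ : IsPullback ((yon S).map (hrep.fst' o.c)) ((yon S).map (hrep.snd o.c)) o₁.c o.c :=
    hrep.isPullback' _
  have hq₁ : Etale (hrep.fst' o.c).left := o.et.2 o₁.c ((yon S).map (hrep.snd o.c)) _ sqQ.flip
  have hq₂ : Etale (hrep.snd o.c).left := o₁.et.2 o.c ((yon S).map (hrep.fst' o.c)) _ sqQ
  obtain ⟨p, hp⟩ := (yon S).map_surjective (sqQ.lift _ _ hy)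
  have hp₁ : p ≫ hrep.fst' o.c = y₁ := by
    apply (yon S).map_injective
    rw [Functor.map_comp, hp, sqQ.lift_fst]
  have hp₂ : p ≫ hrep.snd o.c = v := by
    apply (yon S).map_injective
    rw [Functor.map_comp, hp, sqQ.lift_snd]
  obtain ⟨R, hR, h⟩ := exists_refine o₁ (hrep.fst' o.c) hq₁ p
  refine ⟨R, hR, fun T' k hk => ?_⟩
  obtain ⟨oW, g, ι, z, hι, hg, hz⟩ := h k hk
  have hcomm : (yon S).map (ι ≫ hrep.snd o.c) ≫ o.c = oW.c := by
    rw [← g.comm, hg, Functor.map_comp, Functor.map_comp, Category.assoc, Category.assoc, sqQ.w]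
  have het : Etale (ι ≫ hrep.snd o.c).left := by
    haveI := hι
    haveI := hq₂
    change Etale (ι.left ≫ (hrep.snd o.c).left); infer_instance
  refine ⟨oW, g, ⟨ι ≫ hrep.snd o.c, hcomm, het⟩, z, ?_, ?_⟩
  · rw [hg, ← Category.assoc, hz, Category.assoc, hp₁]
  · change z ≫ ι ≫ hrep.snd o.c = k ≫ v
    rw [← Category.assoc, hz, Category.assoc, hp₂]

/-- Refinement of a point of the equalizer of two morphisms of charts. -/
theorem exists_refine_equalizer (hH : IsAlgSpace H) {o₀ o : Chart H} (f₁ f₂ : o₀ ⟶ o) {T : Over S}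
    (y : T ⟶ o₀.T) (hy : y ≫ f₁.u = y ≫ f₂.u) :
    ∃ R ∈ (J S) T, ∀ ⦃T' : Over S⦄ (k : T' ⟶ T), R k →
      ∃ (oW : Chart H) (g : oW ⟶ o₀) (z : T' ⟶ oW.T), g ≫ f₁ = g ≫ f₂ ∧ z ≫ g.u = k ≫ y := by
  have hδ := repWith_isOpenImmersion_diagonal_of_etale hH o.c o.et
  let ρ : (yon S).obj o₀.T ⟶ pullback o.c o.c :=
    pullback.lift ((yon S).map f₁.u) ((yon S).map f₂.u) (by rw [f₁.comm, f₂.comm])
  have hrep := hδ.rep
  have sqE : IsPullback ((yon S).map (hrep.fst' ρ)) ((yon S).map (hrep.snd ρ))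
      (pullback.diagonal o.c) ρ := hrep.isPullback' _
  have hιE : IsOpenImmersion (hrep.snd ρ).left := hδ.property_snd ρ
  have hιE' : Etale (hrep.snd ρ).left := by haveI := hιE; infer_instance
  have e₁ : hrep.snd ρ ≫ f₁.u = hrep.fst' ρ := by
    apply (yon S).map_injective
    have := congrArg (· ≫ pullback.fst o.c o.c) sqE.w
    simp only [Category.assoc, pullback.diagonal_fst, Category.comp_id] at this
    rw [Functor.map_comp, this, pullback.lift_fst]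
  have e₂ : hrep.snd ρ ≫ f₂.u = hrep.fst' ρ := by
    apply (yon S).map_injective
    have := congrArg (· ≫ pullback.snd o.c o.c) sqE.w
    simp only [Category.assoc, pullback.diagonal_snd, Category.comp_id] at this
    rw [Functor.map_comp, this, pullback.lift_snd]
  obtain ⟨p, hp⟩ := (yon S).map_surjective (sqE.lift ((yon S).map (y ≫ f₁.u)) ((yon S).map y) (by
    apply pullback.hom_ext
    · rw [Category.assoc, pullback.diagonal_fst, Category.comp_id, Category.assoc,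
        pullback.lift_fst, Functor.map_comp]
    · rw [Category.assoc, pullback.diagonal_snd, Category.comp_id, Category.assoc,
        pullback.lift_snd, hy, Functor.map_comp]))
  have hp₂ : p ≫ hrep.snd ρ = y := by
    apply (yon S).map_injective
    rw [Functor.map_comp, hp, sqE.lift_snd]
  obtain ⟨R, hR, h⟩ := exists_refine o₀ (hrep.snd ρ) hιE' p
  refine ⟨R, hR, fun T' k hk => ?_⟩
  obtain ⟨oW, g, ι, z, hι, hg, hz⟩ := h k hk
  refine ⟨oW, g, z, ?_, ?_⟩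
  · apply Chart.hom_ext'
    change g.u ≫ f₁.u = g.u ≫ f₂.u
    rw [hg, Category.assoc, Category.assoc, e₁, e₂]
  · rw [hg, ← Category.assoc, hz, Category.assoc, hp₂]

end Refine

/-- Morphisms of schemes over `S` agreeing on a covering sieve agree. -/
theorem over_hom_ext_of_cover {T X : Over S} (a b : T ⟶ X) (R : Sieve T) (hR : R ∈ (J S) T)
    (h : ∀ ⦃T' : Over S⦄ (k : T' ⟶ T), R k → k ≫ a = k ≫ b) : a = b := by
  apply (yon S).map_injective
  apply yon_hom_ext_of_cover _ _ R hR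
  intro T' k hk
  rw [← Functor.map_comp, ← Functor.map_comp, h k hk]

namespace GlueData

variable {H : Sp S} {D : GlueData H}

theorem rel_of_rel₀_rel₀ {T : Over S} {o₁ o₂ o₃ : Chart H} {m₁ : T ⟶ D.N.obj o₁}
    {m₂ : T ⟶ D.N.obj o₂} {m₃ : T ⟶ D.N.obj o₃} (h₁₂ : D.Rel₀ m₁ m₂) (h₂₃ : D.Rel₀ m₂ m₃) :
    D.Rel m₁ m₃ := by
  obtain ⟨o₀, f₁, f₂, n, hn1, hn2⟩ := h₁₂
  obtain ⟨o₀', f₂', f₃, n', hn1', hn2'⟩ := h₂₃
  have hy : (n ≫ D.ν o₀) ≫ f₂.u = (n' ≫ D.ν o₀') ≫ f₂'.u := by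
    rw [Category.assoc, ← D.ν_nat, ← Category.assoc, hn2, Category.assoc, ← D.ν_nat,
      ← Category.assoc, hn1']
  obtain ⟨R, hR, h⟩ := exists_refine_pullback f₂ f₂' _ _ hy
  refine ⟨R, hR, fun T' k hk => ?_⟩
  obtain ⟨oW, g, g', z, hgg, hz, hz'⟩ := h k hk
  obtain ⟨nW, hnW1, hnW2⟩ : ∃ nW : T' ⟶ D.N.obj oW, nW ≫ D.N.map g = k ≫ n ∧
      nW ≫ D.ν oW = z :=
    ⟨(D.cart g).lift (k ≫ n) z (by rw [Category.assoc, hz]),
      (D.cart g).lift_fst _ _ _, (D.cart g).lift_snd _ _ _⟩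
  have hnW3 : nW ≫ D.N.map g' = k ≫ n' := by
    apply (D.cart f₂').hom_ext
    · rw [Category.assoc, ← D.N.map_comp, ← hgg, D.N.map_comp, ← Category.assoc, hnW1,
        Category.assoc, hn2, Category.assoc, hn1']
    · rw [Category.assoc, D.ν_nat, ← Category.assoc, hnW2, hz', Category.assoc]
  exact ⟨oW, g ≫ f₁, g' ≫ f₃, nW, by rw [D.N.map_comp, ← Category.assoc, hnW1, Category.assoc, hn1],
    by rw [D.N.map_comp, ← Category.assoc, hnW3, Category.assoc, hn2']⟩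

theorem Rel.trans {T : Over S} {o₁ o₂ o₃ : Chart H} {m₁ : T ⟶ D.N.obj o₁}
    {m₂ : T ⟶ D.N.obj o₂} {m₃ : T ⟶ D.N.obj o₃} (h₁₂ : D.Rel m₁ m₂) (h₂₃ : D.Rel m₂ m₃) :
    D.Rel m₁ m₃ := by
  obtain ⟨R₁, hR₁, h₁⟩ := h₁₂
  obtain ⟨R₂, hR₂, h₂⟩ := h₂₃
  exact Rel.of_local (R₁ ⊓ R₂) ((J S).intersection_covering hR₁ hR₂)
    fun T' k hk => rel_of_rel₀_rel₀ (h₁ k hk.1) (h₂ k hk.2)

/-- Related sections of the same chart over the same point agree. -/
theorem Rel.eq (hH : IsAlgSpace H) {T : Over S} {o : Chart H} {m₁ m₂ : T ⟶ D.N.obj o}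
    (h : D.Rel m₁ m₂) (hν : m₁ ≫ D.ν o = m₂ ≫ D.ν o) : m₁ = m₂ := by
  obtain ⟨R, hR, h⟩ := h
  apply over_hom_ext_of_cover _ _ R hR
  intro T' k hk
  obtain ⟨o₀, f₁, f₂, n, hn1, hn2⟩ := h k hk
  have hy : (n ≫ D.ν o₀) ≫ f₁.u = (n ≫ D.ν o₀) ≫ f₂.u := by
    rw [Category.assoc, ← D.ν_nat, ← Category.assoc, hn1, Category.assoc, Category.assoc,
      ← D.ν_nat, ← Category.assoc n, hn2, Category.assoc, hν]
  obtain ⟨R', hR', h'⟩ := exists_refine_equalizer hH f₁ f₂ _ hy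
  apply over_hom_ext_of_cover _ _ R' hR'
  intro T'' l hl
  obtain ⟨oW, g, z, hg, hz⟩ := h' l hl
  obtain ⟨nW, hnW1, -⟩ : ∃ nW : T'' ⟶ D.N.obj oW, nW ≫ D.N.map g = l ≫ n ∧
      nW ≫ D.ν oW = z :=
    ⟨(D.cart g).lift (l ≫ n) z (by rw [Category.assoc, hz]),
      (D.cart g).lift_fst _ _ _, (D.cart g).lift_snd _ _ _⟩
  rw [← hn1, ← hn2, ← Category.assoc, ← Category.assoc, ← hnW1, Category.assoc, Category.assoc,
    ← D.N.map_comp, ← D.N.map_comp, hg]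

end GlueData

end Groth.Agent.Helper15.Norm
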