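import Groth.Agent.Lib.Helper15.NormDesc1
import Mathlib.CategoryTheory.Sites.LocallyBijective

/-!
# Gluing sheaves over étale charts: the glued sheaf
-/

set_option autoImplicit false
universe u
open CategoryTheory CategoryTheory.Limits AlgebraicGeometry MorphismProperty Opposite
open AlgSp

namespace Groth.Agent.Helper15.Norm

variable {S : Scheme.{u}}

/-- A map of sheaves through which every section lifts locally is an epimorphism. -/
theorem epi_of_jointlyEpi_punit {F G : Sp S} (f : F ⟶ G)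
    (h : JointlyEpi (fun _ : PUnit.{1} => F) (fun _ => f)) : Epi f := by
  haveI : Sheaf.IsLocallySurjective f := by
    constructor
    intro T s
    obtain ⟨x, rfl⟩ := (yonEquiv (T := T) (F := G)).surjective s
    refine (J S).superset_covering ?_ (h T x)
    rintro T' k ⟨_, y, hy⟩
    refine ⟨yonEquiv y, ?_⟩
    have h1 := GrothendieckTopology.uliftYonedaEquiv_comp (J S) y f
    have h2 := GrothendieckTopology.uliftYonedaEquiv_naturality (J S) x k
    rw [hy] at h1
    exact h1.symm.trans h2.symm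
  exact Sheaf.epi_of_isLocallySurjective f

namespace GlueData

variable {H : Sp S} (D : GlueData H)

/-- Local sections of the family. -/
abbrev Pt (T : Over S) := Σ o : Chart H, (T ⟶ D.N.obj o)

/-- The relation on local sections. -/
def ptRel (T : Over S) (x y : D.Pt T) : Prop := D.Rel x.2 y.2

theorem ptRel_equivalence (T : Over S) : _root_.Equivalence (D.ptRel T) :=
  ⟨fun x => Rel.refl x.2, fun h => Rel.symm h, fun h₁ h₂ => Rel.trans h₁ h₂⟩

/-- Restriction of local sections. -/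
def ptMap {T' T : Over S} (k : T' ⟶ T) (x : D.Pt T) : D.Pt T' := ⟨x.1, k ≫ x.2⟩

theorem ptMap_id {T : Over S} (x : D.Pt T) : D.ptMap (𝟙 T) x = x := by
  simp [ptMap]

theorem ptMap_comp {T'' T' T : Over S} (l : T'' ⟶ T') (k : T' ⟶ T) (x : D.Pt T) :
    D.ptMap (l ≫ k) x = D.ptMap l (D.ptMap k x) := by
  simp [ptMap]

/-- The presheaf quotient. -/
def quotPsh : (Over S)ᵒᵖ ⥤ Type (u + 1) where
  obj T := Quot (D.ptRel T.unop)
  map {T T'} f := TypeCat.ofHom (Quot.map (D.ptMap f.unop) (fun _ _ h => Rel.restr f.unop h))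
  map_id T := by
    ext x
    induction x using Quot.ind with
    | mk a => simp [Quot.map, ptMap_id]
  map_comp f g := by
    ext x
    induction x using Quot.ind with
    | mk a => simp [Quot.map, ptMap_comp]

/-- The glued sheaf. -/
noncomputable def glued : Sp S := (presheafToSheaf (J S) (Type (u + 1))).obj D.quotPsh

/-- The section of the glued sheaf defined by a local section. -/
noncomputable def sec {T : Over S} (x : D.Pt T) : (yon S).obj T ⟶ D.glued :=
  yonEquiv.symm ((toSheafify (J S) D.quotPsh).app (op T) (Quot.mk _ x))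

theorem yonEquiv_sec {T : Over S} (x : D.Pt T) :
    yonEquiv (D.sec x) = (toSheafify (J S) D.quotPsh).app (op T) (Quot.mk _ x) :=
  Equiv.apply_symm_apply _ _

theorem sec_restr {T' T : Over S} (k : T' ⟶ T) (x : D.Pt T) :
    (yon S).map k ≫ D.sec x = D.sec (D.ptMap k x) := by
  apply yonEquiv.injective
  rw [← GrothendieckTopology.uliftYonedaEquiv_naturality, yonEquiv_sec, yonEquiv_sec]
  exact (NatTrans.naturality_apply (toSheafify (J S) D.quotPsh) k.op (Quot.mk _ x)).symm

theorem sec_eq_of_rel {T : Over S} {x y : D.Pt T} (h : D.Rel x.2 y.2) : D.sec x = D.sec y := by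
  apply yonEquiv.injective
  rw [yonEquiv_sec, yonEquiv_sec]
  exact congrArg _ (Quot.sound h)

theorem rel_of_sec_eq {T : Over S} {x y : D.Pt T} (h : D.sec x = D.sec y) : D.Rel x.2 y.2 := by
  have h2 : (toSheafify (J S) D.quotPsh).app (op T) (Quot.mk _ x) =
      (toSheafify (J S) D.quotPsh).app (op T) (Quot.mk _ y) := by
    rw [← yonEquiv_sec, ← yonEquiv_sec, h]
  have h3 := Presheaf.equalizerSieve_mem (J S) (toSheafify (J S) D.quotPsh)
    (X := op T) (Quot.mk _ x) (Quot.mk _ y) h2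
  refine Rel.of_local _ h3 fun T' k hk => ?_
  have hk' : Quot.mk (D.ptRel T') (D.ptMap k x) = Quot.mk (D.ptRel T') (D.ptMap k y) := hk
  exact (D.ptRel_equivalence T').eqvGen_iff.1 (Quot.eqvGen_exact hk')

theorem exists_local_sec {T : Over S} (ξ : (yon S).obj T ⟶ D.glued) :
    ∃ R ∈ (J S) T, ∀ ⦃T' : Over S⦄ (k : T' ⟶ T), R k →
      ∃ x : D.Pt T', (yon S).map k ≫ ξ = D.sec x := by
  refine ⟨_, Presheaf.imageSieve_mem (J S) (toSheafify (J S) D.quotPsh) (yonEquiv ξ),
    fun T' k hk => ?_⟩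
  obtain ⟨t, ht⟩ := hk
  induction t using Quot.ind with
  | mk x =>
    refine ⟨x, ?_⟩
    apply yonEquiv.injective
    rw [yonEquiv_sec, ← GrothendieckTopology.uliftYonedaEquiv_naturality]
    exact ht.symm

/-- The image in `H` of a local section. -/
noncomputable def base {T : Over S} (x : D.Pt T) : (yon S).obj T ⟶ H :=
  (yon S).map (x.2 ≫ D.ν x.1) ≫ x.1.c

theorem base_restr {T' T : Over S} (k : T' ⟶ T) (x : D.Pt T) :
    (yon S).map k ≫ D.base x = D.base (D.ptMap k x) := by
  change (yon S).map k ≫ (yon S).map (x.2 ≫ D.ν x.1) ≫ x.1.c =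
    (yon S).map ((k ≫ x.2) ≫ D.ν x.1) ≫ x.1.c
  rw [← Category.assoc, ← Functor.map_comp, Category.assoc]

theorem base_eq_of_rel₀ {T : Over S} {x y : D.Pt T} (h : D.Rel₀ x.2 y.2) : D.base x = D.base y := by
  obtain ⟨o₀, f₁, f₂, n, h1, h2⟩ := h
  change (yon S).map (x.2 ≫ D.ν x.1) ≫ x.1.c = (yon S).map (y.2 ≫ D.ν y.1) ≫ y.1.c
  have e1 : (yon S).map (x.2 ≫ D.ν x.1) ≫ x.1.c = (yon S).map (n ≫ D.ν o₀) ≫ o₀.c := by
    rw [← h1, Category.assoc, D.ν_nat, ← Category.assoc, Functor.map_comp, Category.assoc, f₁.comm]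
  have e2 : (yon S).map (y.2 ≫ D.ν y.1) ≫ y.1.c = (yon S).map (n ≫ D.ν o₀) ≫ o₀.c := by
    rw [← h2, Category.assoc, D.ν_nat, ← Category.assoc, Functor.map_comp, Category.assoc, f₂.comm]
  rw [e1, e2]

theorem base_eq_of_rel {T : Over S} {x y : D.Pt T} (h : D.Rel x.2 y.2) : D.base x = D.base y := by
  obtain ⟨R, hR, h⟩ := h
  apply yon_hom_ext_of_cover _ _ R hR
  intro T' k hk
  rw [base_restr, base_restr]
  exact D.base_eq_of_rel₀ (x := D.ptMap k x) (y := D.ptMap k y) (h k hk)

/-- The map from the presheaf quotient to `H`. -/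
noncomputable def quotPshToBase : D.quotPsh ⟶ H.obj where
  app T := TypeCat.ofHom (Quot.lift (fun x => yonEquiv (D.base x))
    (fun _ _ h => congrArg _ (D.base_eq_of_rel h)))
  naturality T T' f := by
    ext x
    induction x using Quot.ind with
    | mk a =>
      change yonEquiv (D.base (D.ptMap f.unop a)) = H.obj.map f (yonEquiv (D.base a))
      rw [← base_restr]
      exact (GrothendieckTopology.uliftYonedaEquiv_naturality' (J S) (D.base a) f).symm

/-- The structure map of the glued sheaf. -/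
noncomputable def gluedHom : D.glued ⟶ H :=
  ⟨sheafifyLift (J S) D.quotPshToBase H.property⟩

theorem sec_gluedHom {T : Over S} (x : D.Pt T) : D.sec x ≫ D.gluedHom = D.base x := by
  apply yonEquiv.injective
  rw [GrothendieckTopology.uliftYonedaEquiv_comp, yonEquiv_sec]
  have := congrArg (fun φ => φ.app (op T) (Quot.mk _ x))
    (toSheafify_sheafifyLift (J S) D.quotPshToBase H.property)
  exact this

/-- The chart of the glued sheaf. -/
noncomputable def q (o : Chart H) : (yon S).obj (D.N.obj o) ⟶ D.glued := D.sec ⟨o, 𝟙 _⟩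

theorem map_q {T : Over S} {o : Chart H} (m : T ⟶ D.N.obj o) :
    (yon S).map m ≫ D.q o = D.sec ⟨o, m⟩ := by
  rw [q, sec_restr]
  congr 1

theorem q_gluedHom (o : Chart H) : D.q o ≫ D.gluedHom = (yon S).map (D.ν o) ≫ o.c := by
  rw [q, sec_gluedHom]
  simp [base]

theorem sec_map {T : Over S} {o' o : Chart H} (f : o' ⟶ o) (m : T ⟶ D.N.obj o') :
    D.sec ⟨o, m ≫ D.N.map f⟩ = D.sec ⟨o', m⟩ :=
  (D.sec_eq_of_rel (x := ⟨o', m⟩) (y := ⟨o, m ≫ D.N.map f⟩) (Rel₀.map f m).rel).symm

theorem Nmap_q {o' o : Chart H} (f : o' ⟶ o) : (yon S).map (D.N.map f) ≫ D.q o = D.q o' := by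
  rw [map_q]
  have := D.sec_map f (𝟙 _)
  rw [Category.id_comp] at this
  exact this

/-- The comparison map to the fibre product. -/
noncomputable def γ (o : Chart H) : (yon S).obj (D.N.obj o) ⟶ pullback D.gluedHom o.c :=
  pullback.lift (D.q o) ((yon S).map (D.ν o)) (D.q_gluedHom o)

theorem mono_γ (hH : IsAlgSpace H) (o : Chart H) : Mono (D.γ o) := by
  refine mono_of_yon _ fun T a b hab => ?_
  obtain ⟨m₁, rfl⟩ := (yon S).map_surjective a
  obtain ⟨m₂, rfl⟩ := (yon S).map_surjective b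
  have h1 := congrArg (· ≫ pullback.fst _ _) hab
  have h2 := congrArg (· ≫ pullback.snd _ _) hab
  simp only [γ, Category.assoc, pullback.lift_fst, pullback.lift_snd] at h1 h2
  rw [map_q, map_q] at h1
  have hrel := D.rel_of_sec_eq h1
  congr 1
  refine Rel.eq hH hrel ((yon S).map_injective ?_)
  rw [Functor.map_comp, Functor.map_comp]
  exact h2

theorem epi_γ (o : Chart H) : Epi (D.γ o) := by
  apply epi_of_jointlyEpi_punit
  intro T x
  obtain ⟨v, hv⟩ := (yon S).map_surjective (x ≫ pullback.snd _ _)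
  obtain ⟨R₁, hR₁, h₁⟩ := D.exists_local_sec (x ≫ pullback.fst _ _)
  refine (J S).transitive hR₁ _ ?_
  intro T' k hk
  obtain ⟨⟨o₁, m₁⟩, hx₁⟩ := h₁ k hk
  have hy : (yon S).map (m₁ ≫ D.ν o₁) ≫ o₁.c = (yon S).map (k ≫ v) ≫ o.c := by
    have := D.sec_gluedHom ⟨o₁, m₁⟩
    rw [← hx₁] at this
    change _ = (yon S).map (m₁ ≫ D.ν o₁) ≫ o₁.c at this
    rw [← this, Functor.map_comp, hv]
    simp only [Category.assoc]
    rw [pullback.condition]
  obtain ⟨R₂, hR₂, h₂⟩ := exists_refine_fibre o₁ o _ _ hy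
  refine (J S).superset_covering ?_ hR₂
  intro T'' l hl
  obtain ⟨oW, g₁, g, z, hz₁, hz⟩ := h₂ l hl
  obtain ⟨nW, hnW1, hnW2⟩ : ∃ nW : T'' ⟶ D.N.obj oW, nW ≫ D.N.map g₁ = l ≫ m₁ ∧
      nW ≫ D.ν oW = z :=
    ⟨(D.cart g₁).lift (l ≫ m₁) z (by rw [Category.assoc, hz₁]),
      (D.cart g₁).lift_fst _ _ _, (D.cart g₁).lift_snd _ _ _⟩
  refine ⟨PUnit.unit, (yon S).map (nW ≫ D.N.map g), ?_⟩
  apply pullback.hom_ext
  · simp only [γ, Category.assoc, pullback.lift_fst]
    rw [map_q, sec_map, ← D.sec_map g₁, hnW1]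
    have := D.sec_restr l ⟨o₁, m₁⟩
    rw [← hx₁] at this
    rw [Functor.map_comp, Category.assoc]
    exact this.symm
  · simp only [γ, Category.assoc, pullback.lift_snd]
    rw [← Functor.map_comp, Category.assoc, D.ν_nat, ← Category.assoc, hnW2, hz, Functor.map_comp,
      Functor.map_comp, Functor.map_comp, hv, Category.assoc]

/-- **The charts of the glued sheaf are cartesian.** -/
theorem isPullback_q (hH : IsAlgSpace H) (o : Chart H) :
    IsPullback (D.q o) ((yon S).map (D.ν o)) D.gluedHom o.c := by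
  haveI := D.mono_γ hH o
  haveI := D.epi_γ o
  haveI : IsIso (D.γ o) := isIso_of_mono_of_epi _
  refine IsPullback.of_iso_pullback ⟨D.q_gluedHom o⟩ (asIso (D.γ o)) ?_ ?_
  · exact pullback.lift_fst _ _ _
  · exact pullback.lift_snd _ _ _

end GlueData

end Groth.Agent.Helper15.Norm
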