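import Groth.Agent.Lib.Helper15.NormExist1

/-!
# Existence of relative normalizations: gluing
-/

set_option autoImplicit false
universe u
open CategoryTheory CategoryTheory.Limits AlgebraicGeometry MorphismProperty Opposite
open AlgSp

namespace Groth.Agent.Helper15.Norm

variable {S : Scheme.{u}}

/-- A small jointly epimorphic family of affine étale charts of an algebraic space. -/
theorem exists_chart_family {H : Sp S} (hH : IsAlgSpace H) :
    ∃ (ι : Type u) (o : ι → Chart H),
      JointlyEpi (fun i => (yon S).obj (o i).T) (fun i => (o i).c) := by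
  obtain ⟨V, p, hpe, hps⟩ := hH.atlas
  haveI := epi_of_etale_surjective p hpe hps
  have hι : ∀ W : V.left.affineOpens, Etale (openOverι (Q := V) W.1).left := fun W => by
    change Etale (W.1 : V.left.Opens).ι; infer_instance
  refine ⟨V.left.affineOpens, fun W => ⟨openOver (Q := V) W.1,
    (yon S).map (openOverι (Q := V) W.1) ≫ p, W.2,
    (RepWith @Etale).comp_mem _ _ ((repWith_yon_map_iff _ _).2 (hι W)) hpe⟩, ?_⟩
  intro T x
  obtain ⟨R, hR, h⟩ := exists_local_lift_of_epi' p x
  refine (J S).transitive hR _ ?_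
  intro T' k hk
  obtain ⟨τ, hτ⟩ := h k hk
  obtain ⟨y₀, rfl⟩ := (yon S).map_surjective τ
  refine (J S).superset_covering ?_ (preOver_mem_J y₀)
  rintro T'' m ⟨Y, hh, _, ⟨W⟩, rfl⟩
  refine ⟨W, (yon S).map (hh ≫ preOverRes y₀ W.1), ?_⟩
  change (yon S).map (hh ≫ preOverRes y₀ W.1) ≫ (yon S).map (openOverι (Q := V) W.1) ≫ p = _
  rw [← Category.assoc, ← Functor.map_comp, Category.assoc, preOverRes_ι, Functor.map_comp,
    Functor.map_comp, Functor.map_comp, Category.assoc, Category.assoc, Category.assoc, hτ]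
  simp only [Functor.map_comp, Category.assoc]

section Glue

variable {G H : Sp S} {g : G ⟶ H} (L : LocNorm g)

/-- The glued sheaf. -/
noncomputable def LocNorm.X' : Sp S := L.glueData.glued

/-- The structure map of the glued sheaf. -/
noncomputable def LocNorm.νg : L.X' ⟶ H := L.glueData.gluedHom

/-- The charts of the glued sheaf. -/
noncomputable def LocNorm.q (o : Chart H) : (yon S).obj (L.N o) ⟶ L.X' := L.glueData.q o

theorem LocNorm.map_q {o' o : Chart H} (f : o' ⟶ o) : (yon S).map (L.map f) ≫ L.q o = L.q o' :=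
  L.glueData.Nmap_q f

theorem LocNorm.q_νg (o : Chart H) : L.q o ≫ L.νg = (yon S).map (L.ν o) ≫ o.c :=
  L.glueData.q_gluedHom o

theorem LocNorm.isPullback_q (hH : IsAlgSpace H) (o : Chart H) :
    IsPullback (L.q o) ((yon S).map (L.ν o)) L.νg o.c := by
  delta LocNorm.q LocNorm.νg LocNorm.X'
  exact L.glueData.isPullback_q hH o

/-- The local maps to the glued sheaf are compatible. -/
theorem LocNorm.compat (o₁ o₂ : Chart H) {T : Over S} (y : (yon S).obj T ⟶ pullback g o₁.c)
    (y' : (yon S).obj T ⟶ pullback g o₂.c)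
    (hyy : y ≫ pullback.fst g o₁.c = y' ≫ pullback.fst g o₂.c) :
    y ≫ L.f' o₁ ≫ L.q o₁ = y' ≫ L.f' o₂ ≫ L.q o₂ := by
  obtain ⟨t₁, ht₁⟩ := (yon S).map_surjective (y ≫ pullback.snd g o₁.c)
  obtain ⟨t₂, ht₂⟩ := (yon S).map_surjective (y' ≫ pullback.snd g o₂.c)
  have ht : (yon S).map t₁ ≫ o₁.c = (yon S).map t₂ ≫ o₂.c := by
    rw [ht₁, ht₂, Category.assoc, Category.assoc, ← pullback.condition, ← pullback.condition,
      ← Category.assoc, ← Category.assoc, hyy]
  obtain ⟨R, hR, h⟩ := exists_refine_fibre o₁ o₂ t₁ t₂ ht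
  apply yon_hom_ext_of_cover _ _ R hR
  intro T' k hk
  obtain ⟨oW, g₁, g₂, z, hz₁, hz₂⟩ := h k hk
  have hw : ((yon S).map k ≫ y ≫ pullback.fst g o₁.c) ≫ g = (yon S).map z ≫ oW.c := by
    rw [← g₁.comm, ← Category.assoc ((yon S).map z), ← Functor.map_comp, hz₁, Functor.map_comp, ht₁]
    simp only [Category.assoc]
    rw [pullback.condition]
  let ŷ : (yon S).obj T' ⟶ pullback g oW.c := pullback.lift _ _ hw
  have hŷ₁ : ŷ ≫ Gmap g g₁ = (yon S).map k ≫ y := by
    apply pullback.hom_ext
    · rw [Category.assoc, Gmap_fst, pullback.lift_fst, Category.assoc]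
    · rw [Category.assoc, Gmap_snd, ← Category.assoc, pullback.lift_snd, ← Functor.map_comp, hz₁,
        Functor.map_comp, ht₁, Category.assoc]
  have hŷ₂ : ŷ ≫ Gmap g g₂ = (yon S).map k ≫ y' := by
    apply pullback.hom_ext
    · rw [Category.assoc, Gmap_fst, pullback.lift_fst, Category.assoc, hyy]
    · rw [Category.assoc, Gmap_snd, ← Category.assoc, pullback.lift_snd, ← Functor.map_comp, hz₂,
        Functor.map_comp, ht₂, Category.assoc]
  have e₁ : (yon S).map k ≫ y ≫ L.f' o₁ ≫ L.q o₁ = ŷ ≫ L.f' oW ≫ L.q oW := by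
    rw [← Category.assoc, ← hŷ₁, Category.assoc, ← Category.assoc (Gmap g g₁), ← L.f'_map g₁,
      Category.assoc]
    congr 2
    exact L.map_q g₁
  have e₂ : (yon S).map k ≫ y' ≫ L.f' o₂ ≫ L.q o₂ = ŷ ≫ L.f' oW ≫ L.q oW := by
    rw [← Category.assoc, ← hŷ₂, Category.assoc, ← Category.assoc (Gmap g g₂), ← L.f'_map g₂,
      Category.assoc]
    congr 2
    exact L.map_q g₂
  rw [e₁, e₂]

/-- The glued morphism to the glued sheaf. -/
theorem LocNorm.exists_f' (hH : IsAlgSpace H) :
    ∃ f' : G ⟶ L.X', (∀ o : Chart H,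
      pullback.fst g o.c ≫ f' = L.f' o ≫ L.q o) ∧ f' ≫ L.νg = g := by
  obtain ⟨ι, o, ho⟩ := exists_chart_family hH
  have hG : JointlyEpi (fun i => pullback g (o i).c) (fun i => pullback.fst g (o i).c) :=
    ho.of_isPullback g _ (fun i => pullback.snd g (o i).c)
      (fun i => (IsPullback.of_hasPullback g (o i).c).flip)
  obtain ⟨f', hf'⟩ := hG.exists_desc (fun i => L.f' (o i) ≫ L.q (o i))
    (fun T i j y y' hyy => by
      have := L.compat (o i) (o j) y y' hyy
      simpa only [Category.assoc] using this)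
  have hall : ∀ o' : Chart H, pullback.fst g o'.c ≫ f' = L.f' o' ≫ L.q o' := by
    intro o'
    apply hom_ext_yon
    intro T y
    apply yon_hom_ext_of_cover _ _ _ (hG T (y ≫ pullback.fst g o'.c))
    rintro T' k ⟨i, yi, hyi⟩
    have h1 := L.compat (o i) o' yi ((yon S).map k ≫ y) (by rw [hyi, Category.assoc])
    have h2 : (yon S).map k ≫ y ≫ pullback.fst g o'.c ≫ f' = yi ≫ L.f' (o i) ≫ L.q (o i) := by
      have := hf' i
      rw [← this, ← Category.assoc yi, hyi]
      simp only [Category.assoc]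
    simp only [Category.assoc] at h1 ⊢
    rw [h2, h1]
  refine ⟨f', hall, ?_⟩
  apply hG.hom_ext
  intro i
  rw [← Category.assoc, hf', Category.assoc, L.q_νg]
  have := (L.sn (o i)).1
  rw [← Category.assoc, this, pullback.condition]

end Glue

end Groth.Agent.Helper15.Norm
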