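import Groth.Agent.Lib.Helper15.NormBC

/-!
# Relative normalization is etale local on the base (gluing theorem)
-/

set_option autoImplicit false
universe u w
open CategoryTheory CategoryTheory.Limits AlgebraicGeometry MorphismProperty Opposite
open AlgSp

namespace Groth.Agent.Helper15.Norm

variable {S : Scheme.{u}}

/-! ## Zariski covers by preimages of affine opens -/

section Zar

variable {T' Q : Over S} (τ : T' ⟶ Q)

/-- the preimage of an open as a scheme over `S` -/
noncomputable abbrev preOver (W : Q.left.Opens) : Over S :=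
  Over.mk ((τ.left ⁻¹ᵁ W).ι ≫ T'.hom)

noncomputable abbrev preOverι (W : Q.left.Opens) : preOver τ W ⟶ T' :=
  Over.homMk (τ.left ⁻¹ᵁ W).ι rfl

/-- an open as a scheme over `S` -/
noncomputable abbrev openOver (W : Q.left.Opens) : Over S := Over.mk (W.ι ≫ Q.hom)

noncomputable abbrev openOverι (W : Q.left.Opens) : openOver W ⟶ Q := Over.homMk W.ι rfl

noncomputable def preOverRes (W : Q.left.Opens) : preOver τ W ⟶ openOver W :=
  Over.homMk (τ.left ∣_ W) (by
    change (τ.left ∣_ W) ≫ W.ι ≫ Q.hom = (τ.left ⁻¹ᵁ W).ι ≫ T'.hom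
    rw [← Category.assoc, morphismRestrict_ι, Category.assoc, Over.w τ])

theorem preOverRes_ι (W : Q.left.Opens) :
    preOverRes τ W ≫ openOverι W = preOverι τ W ≫ τ := by
  apply Over.OverMorphism.ext
  change (τ.left ∣_ W) ≫ W.ι = (τ.left ⁻¹ᵁ W).ι ≫ τ.left
  exact morphismRestrict_ι _ _

theorem preOver_mem_J :
    Sieve.ofArrows (fun W : Q.left.affineOpens => preOver τ W.1) (fun W => preOverι τ W.1) ∈
      (J S) T' := by
  apply ofArrows_mem_J
  · intro W; change Flat (τ.left ⁻¹ᵁ W.1).ι; infer_instance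
  · intro W; change LocallyOfFinitePresentation (τ.left ⁻¹ᵁ W.1).ι; infer_instance
  · intro x
    obtain ⟨_, ⟨W, hW, rfl⟩, hxW, -⟩ := Q.left.isBasis_affineOpens.exists_subset_of_mem_open
      (Set.mem_univ (τ.left x)) isOpen_univ
    exact ⟨⟨W, hW⟩, ⟨x, hxW⟩, rfl⟩

end Zar

/-! ## Compatible lifts from `BCNorm` -/

theorem cl_of_bcNorm {G H N Z H₁ N₁ : Sp S} {g : G ⟶ H} {ν : N ⟶ H} {f' : G ⟶ N}
    (hfac : f' ≫ ν = g) {c : H₁ ⟶ H} (hbc : BCNorm g ν f' c) {cN : N₁ ⟶ N} {ν₁ : N₁ ⟶ H₁}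
    (sqN : IsPullback cN ν₁ ν c)
    (hH : Representable (Limits.diag H)) (hH₁ : IsAlgSpace H₁) (hZ : IsAlgSpace Z)
    (π : Z ⟶ H) (hπ : IsIntegralMor π) (g' : G ⟶ Z) (hg' : g' ≫ π = g) :
    (∃ l : N₁ ⟶ Z, IsCL ν f' π g' cN l) ∧
      ∀ l l' : N₁ ⟶ Z, IsCL ν f' π g' cN l → IsCL ν f' π g' cN l' → l = l' := by
  have sqG : IsPullback (pullback.fst g c) (pullback.snd g c) g c := IsPullback.of_hasPullback _ _
  let f'₁ : pullback g c ⟶ N₁ := sqN.lift (pullback.fst g c ≫ f') (pullback.snd g c)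
    (by rw [Category.assoc, hfac, pullback.condition])
  have h1 : f'₁ ≫ ν₁ = pullback.snd g c := sqN.lift_snd _ _ _
  have h2 : f'₁ ≫ cN = pullback.fst g c ≫ f' := sqN.lift_fst _ _ _
  exact cl_of_isRelNormalization hfac sqG sqN h1 h2 (hbc _ _ _ _ _ sqG sqN h1 h2) hH hH₁ hZ π hπ
    g' hg'

/-! ## The gluing theorem -/

/-- **Relative normalization is etale local on the base.** -/
theorem isRelNormalization_of_local {G H N : Sp S} (hH : IsAlgSpace H) {g : G ⟶ H} {ν : N ⟶ H}
    {f' : G ⟶ N} (hfac : f' ≫ ν = g) (hν : IsIntegralMor ν)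
    {ι : Type u} (T : ι → Over S) (a : ∀ k, (yon S).obj (T k) ⟶ H)
    (ha : ∀ k, RepWith @Etale (a k))
    (hcov : JointlyEpi (fun k => (yon S).obj (T k)) a)
    (hloc : ∀ (k : ι) (T₁ : Over S) (c₁ : T₁ ⟶ T k), IsAffine T₁.left → Etale c₁.left →
      BCNorm g ν f' ((yon S).map c₁ ≫ a k)) :
    IsRelNormalization g ν f' := by
  classical
  refine isRelNormalization_of_cl hfac hν fun Z hZ π g' hπ hg' => ?_
  -- the family of affine charts
  let Jx : Type u := Σ k : ι, (T k).left.affineOpens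
  let Tj : Jx → Over S := fun j => openOver (Q := T j.1) j.2.1
  let cj : ∀ j : Jx, Tj j ⟶ T j.1 := fun j => openOverι (Q := T j.1) j.2.1
  have hTj : ∀ j, IsAffine (Tj j).left := fun j => j.2.2
  have hcj : ∀ j, Etale (cj j).left := fun j => by
    change Etale (j.2.1 : (T j.1).left.Opens).ι; infer_instance
  let aj : ∀ j : Jx, (yon S).obj (Tj j) ⟶ H := fun j => (yon S).map (cj j) ≫ a j.1
  let Bj : Jx → Sp S := fun j => pullback ν (aj j)
  let ej : ∀ j, Bj j ⟶ N := fun j => pullback.fst ν (aj j)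
  have sqB : ∀ j, IsPullback (ej j) (pullback.snd ν (aj j)) ν (aj j) :=
    fun j => IsPullback.of_hasPullback _ _
  -- the family is jointly epimorphic
  have hBepi : JointlyEpi Bj ej := by
    intro T' x
    refine (J S).transitive (hcov T' (x ≫ ν)) _ ?_
    rintro T'' k ⟨kk, y, hy⟩
    obtain ⟨y₀, rfl⟩ := (yon S).map_surjective y
    refine (J S).superset_covering ?_ (preOver_mem_J y₀)
    rintro T''' m ⟨Y, hh, _, ⟨W⟩, rfl⟩
    change (liftSieve Bj ej x) ((hh ≫ preOverι y₀ W.1) ≫ k)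
    rw [Category.assoc]
    apply (liftSieve Bj ej x).downward_closed
    refine ⟨⟨kk, W⟩, pullback.lift ((yon S).map (preOverι y₀ W.1 ≫ k) ≫ x)
      ((yon S).map (preOverRes y₀ W.1)) ?_, pullback.lift_fst _ _ _⟩
    have e1 : (yon S).map (preOverRes y₀ W.1) ≫ (yon S).map (cj ⟨kk, W⟩) =
        (yon S).map (preOverι y₀ W.1) ≫ (yon S).map y₀ := by
      rw [← Functor.map_comp, ← Functor.map_comp]
      exact congrArg _ (preOverRes_ι y₀ W.1)
    change _ = (yon S).map (preOverRes y₀ W.1) ≫ (yon S).map (cj ⟨kk, W⟩) ≫ a kk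
    rw [← Category.assoc, e1]
    simp only [Functor.map_comp, Category.assoc]
    rw [hy]
  -- local existence and uniqueness
  have hclj : ∀ j, (∃ l : Bj j ⟶ Z, IsCL ν f' π g' (ej j) l) ∧
      ∀ l l' : Bj j ⟶ Z, IsCL ν f' π g' (ej j) l → IsCL ν f' π g' (ej j) l' → l = l' :=
    fun j => cl_of_bcNorm hfac (hloc j.1 (Tj j) (cj j) (hTj j) (hcj j)) (sqB j) hH.diag
      (IsAlgSpace.yon_obj _) hZ π hπ g' hg'
  choose l hl using fun j => (hclj j).1
  -- compatibility on overlaps
  have hcompat : ∀ (T' : Over S) (j j' : Jx) (y : (yon S).obj T' ⟶ Bj j)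
      (y' : (yon S).obj T' ⟶ Bj j'), y ≫ ej j = y' ≫ ej j' → y ≫ l j = y' ≫ l j' := by
    intro T' j j' y y' hyy
    have hrep : Representable (aj j) := Functor.relativelyRepresentable.of_diag hH.diag _
    let Q : Over S := hrep.pullback (aj j')
    let q₁ : Q ⟶ Tj j := hrep.fst' (aj j')
    let q₂ : Q ⟶ Tj j' := hrep.snd (aj j')
    have sqQ : IsPullback ((yon S).map q₁) ((yon S).map q₂) (aj j) (aj j') := hrep.isPullback' _
    have hq₁ : Etale q₁.left := by
      have h1 : RepWith @Etale (aj j') :=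
        (RepWith @Etale).comp_mem _ _ ((repWith_yon_map_iff _ (cj j')).2 (hcj j')) (ha j'.1)
      exact h1.2 (aj j) ((yon S).map q₂) q₁ sqQ.flip
    let t : (yon S).obj T' ⟶ (yon S).obj (Tj j) := y ≫ pullback.snd ν (aj j)
    let t' : (yon S).obj T' ⟶ (yon S).obj (Tj j') := y' ≫ pullback.snd ν (aj j')
    have htt : t ≫ aj j = t' ≫ aj j' := by
      change (y ≫ pullback.snd ν (aj j)) ≫ aj j = (y' ≫ pullback.snd ν (aj j')) ≫ aj j'
      rw [Category.assoc, Category.assoc, ← pullback.condition, ← pullback.condition,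
        ← Category.assoc, ← Category.assoc]
      exact congrArg (· ≫ ν) hyy
    obtain ⟨τ₀, hτ₀⟩ := (yon S).map_surjective (sqQ.lift t t' htt)
    have hτ1 : (yon S).map τ₀ ≫ (yon S).map q₁ = t := by rw [hτ₀, sqQ.lift_fst]
    have hτ2 : (yon S).map τ₀ ≫ (yon S).map q₂ = t' := by rw [hτ₀, sqQ.lift_snd]
    apply yon_hom_ext_of_cover _ _ _ (preOver_mem_J τ₀)
    rintro T'' m ⟨Y, hh, _, ⟨W⟩, rfl⟩
    rw [Functor.map_comp, Category.assoc, Category.assoc]
    congr 1
    -- the affine chart `W` of the overlap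
    let TW : Over S := openOver (Q := Q) W.1
    let cW : TW ⟶ Q := openOverι (Q := Q) W.1
    let c₁ : TW ⟶ T j.1 := cW ≫ q₁ ≫ cj j
    have hTW : IsAffine TW.left := W.2
    have hc₁ : Etale c₁.left := by
      change Etale ((W.1 : Q.left.Opens).ι ≫ q₁.left ≫ (cj j).left)
      haveI := hq₁
      haveI := hcj j
      infer_instance
    let BW : Sp S := pullback ν ((yon S).map c₁ ≫ a j.1)
    have sqBW : IsPullback (pullback.fst ν ((yon S).map c₁ ≫ a j.1))
        (pullback.snd ν ((yon S).map c₁ ≫ a j.1)) ν ((yon S).map c₁ ≫ a j.1) :=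
      IsPullback.of_hasPullback _ _
    have huW := (cl_of_bcNorm hfac (hloc j.1 TW c₁ hTW hc₁) sqBW hH.diag
      (IsAlgSpace.yon_obj _) hZ π hπ g' hg').2
    have ec₁ : (yon S).map c₁ ≫ a j.1 = (yon S).map (cW ≫ q₁) ≫ aj j := by
      change _ = (yon S).map (cW ≫ q₁) ≫ (yon S).map (cj j) ≫ a j.1
      rw [← Category.assoc, ← Functor.map_comp, Category.assoc]
    have ec₂ : (yon S).map c₁ ≫ a j.1 = (yon S).map (cW ≫ q₂) ≫ aj j' := by
      rw [ec₁, Functor.map_comp, Functor.map_comp, Category.assoc, Category.assoc, sqQ.w]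
    let d : BW ⟶ Bj j := pullback.lift (pullback.fst ν _) (pullback.snd ν _ ≫ (yon S).map (cW ≫ q₁))
      (pullback.condition.trans ((congrArg (pullback.snd ν ((yon S).map c₁ ≫ a j.1) ≫ ·) ec₁).trans
        (Category.assoc _ _ _).symm))
    let d' : BW ⟶ Bj j' := pullback.lift (pullback.fst ν _)
      (pullback.snd ν _ ≫ (yon S).map (cW ≫ q₂))
      (pullback.condition.trans ((congrArg (pullback.snd ν ((yon S).map c₁ ≫ a j.1) ≫ ·) ec₂).trans
        (Category.assoc _ _ _).symm))
    have hd : d ≫ ej j = pullback.fst ν _ := pullback.lift_fst _ _ _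
    have hd' : d' ≫ ej j' = pullback.fst ν _ := pullback.lift_fst _ _ _
    have hdd : d ≫ l j = d' ≫ l j' := by
      apply huW
      · have := (hl j).precomp d
        rwa [hd] at this
      · have := (hl j').precomp d'
        rwa [hd'] at this
    -- the restricted point
    have e0 : (yon S).map (preOverRes τ₀ W.1) ≫ (yon S).map cW =
        (yon S).map (preOverι τ₀ W.1) ≫ (yon S).map τ₀ := by
      rw [← Functor.map_comp, ← Functor.map_comp]
      exact congrArg _ (preOverRes_ι τ₀ W.1)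
    have key1 : (yon S).map (preOverRes τ₀ W.1) ≫ (yon S).map (cW ≫ q₁) =
        (yon S).map (preOverι τ₀ W.1) ≫ t := by
      rw [Functor.map_comp, ← Category.assoc, e0, Category.assoc, hτ1]
    have key2 : (yon S).map (preOverRes τ₀ W.1) ≫ (yon S).map (cW ≫ q₂) =
        (yon S).map (preOverι τ₀ W.1) ≫ t' := by
      rw [Functor.map_comp, ← Category.assoc, e0, Category.assoc, hτ2]
    have ht : t ≫ aj j = (y ≫ ej j) ≫ ν := by
      change (y ≫ pullback.snd ν (aj j)) ≫ aj j = (y ≫ pullback.fst ν (aj j)) ≫ ν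
      rw [Category.assoc, Category.assoc, pullback.condition]
    let z : (yon S).obj (preOver τ₀ W.1) ⟶ BW :=
      pullback.lift ((yon S).map (preOverι τ₀ W.1) ≫ y ≫ ej j) ((yon S).map (preOverRes τ₀ W.1))
        (by
          rw [ec₁, ← Category.assoc ((yon S).map (preOverRes τ₀ W.1)), key1]
          simp only [Category.assoc]
          rw [ht]
          simp only [Category.assoc])
    have hz : z ≫ d = (yon S).map (preOverι τ₀ W.1) ≫ y := by
      apply pullback.hom_ext
      · rw [Category.assoc, pullback.lift_fst, pullback.lift_fst, Category.assoc]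
      · rw [Category.assoc, pullback.lift_snd, ← Category.assoc, pullback.lift_snd, key1,
          Category.assoc]
    have hz' : z ≫ d' = (yon S).map (preOverι τ₀ W.1) ≫ y' := by
      apply pullback.hom_ext
      · rw [Category.assoc, pullback.lift_fst, pullback.lift_fst, Category.assoc, hyy]
      · rw [Category.assoc, pullback.lift_snd, ← Category.assoc, pullback.lift_snd, key2,
          Category.assoc]
    change (yon S).map (preOverι τ₀ W.1) ≫ y ≫ l j = (yon S).map (preOverι τ₀ W.1) ≫ y' ≫ l j'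
    rw [← Category.assoc, ← hz, ← Category.assoc, ← hz', Category.assoc, Category.assoc, hdd]
  constructor
  · obtain ⟨d, hd, -⟩ := cl_exists_of_jointlyEpi (ν := ν) (f' := f') (π := π) (g' := g')
      hBepi (b := 𝟙 N) l (fun j => by rw [Category.comp_id]; exact hl j) hcompat
    exact ⟨d, hd⟩
  · intro l₁ l₂ h₁ h₂
    refine cl_unique_of_jointlyEpi hBepi (fun j m m' hm hm' => ?_) h₁ h₂
    rw [Category.comp_id] at hm hm'
    exact (hclj j).2 m m' hm hm'

end Groth.Agent.Helper15.Norm
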