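import Mathlib
import Groth.Prelude
import Groth.Agent.Lib.Helper15.AlgSpEtGsectRed
import Groth.Agent.Lib.Helper15.AlgSpEtOverOpen
import Groth.Agent.Lib.Helper15.AlgSpTop

/-!
# Global sections of the structure sheaf of an irreducible reduced algebraic space
-/

set_option autoImplicit false
set_option linter.unusedSectionVars false
set_option linter.unusedVariables false
set_option linter.style.haveILetI false

universe u

open CategoryTheory CategoryTheory.Limits AlgebraicGeometry MorphismProperty Opposite AlgSp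

namespace Groth.Agent.Helper15.NormGs

open Groth.Agent.Helper15

variable {S : Scheme.{u}} {X : Sp S}

/-- Evaluation of a global section of `O_X` on an object of the small étale site. -/
noncomputable def ev (E : EtOver X) : ↥(gsectEt (OEt X)) →+* Γ(E.obj.left.left, ⊤) :=
  (ULift.ringEquiv.{u, u + 1} (R := Γ(E.obj.left.left, ⊤))).toRingHom.comp
    (limit.π (OEt X).obj (op E)).hom

theorem ev_apply (E : EtOver X) (f : ↥(gsectEt (OEt X))) :
    ev E f = ((limit.π (OEt X).obj (op E)) f).down := rfl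

theorem ev_compat {E E' : EtOver X} (g : E ⟶ E') (f : ↥(gsectEt (OEt X))) :
    ev E f = g.hom.left.left.appTop.hom (ev E' f) := by
  have h := limit.w (OEt X).obj g.op
  have h2 : (limit.π (OEt X).obj (op E)) f =
      (OEt X).obj.map g.op ((limit.π (OEt X).obj (op E')) f) := by
    rw [← h]; rfl
  rw [ev_apply, h2, OEt_map]
  rfl

theorem ext_ev (f g : ↥(gsectEt (OEt X))) (h : ∀ E : EtOver X, ev E f = ev E g) : f = g := by
  apply gsectEt_ext
  intro E
  exact ULift.ext _ _ (h E)

/-- The fibre product `E ×_X E₀` as an object of the small étale site. -/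
noncomputable def prodObj (E E₀ : EtOver X) : EtOver X :=
  EtOver.mk ((yon S).map (E₀.property.rep.snd E.obj.hom) ≫ E.obj.hom)
    ((RepWith @Etale).comp_mem _ _
      ((repWith_yon_map_iff _ _).2 (E₀.property.property_snd E.obj.hom)) E.property)

noncomputable def prodFst (E E₀ : EtOver X) : prodObj E E₀ ⟶ E :=
  EtOver.homMk (E₀.property.rep.snd E.obj.hom) rfl

noncomputable def prodSnd (E E₀ : EtOver X) : prodObj E E₀ ⟶ E₀ :=
  EtOver.homMk (E₀.property.rep.fst' E.obj.hom) (by
    change _ = (yon S).map (E₀.property.rep.snd E.obj.hom) ≫ E.obj.hom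
    exact (E₀.property.rep.isPullback' E.obj.hom).w)

theorem prod_exists_point (E E₀ : EtOver X) (e : E.obj.left.left) (e₀ : E₀.obj.left.left)
    (h : Points.ofPt E.obj.hom e = Points.ofPt E₀.obj.hom e₀) :
    ∃ v : (prodObj E E₀).obj.left.left, (prodFst E E₀).hom.left.left v = e ∧
      (prodSnd E E₀).hom.left.left v = e₀ := by
  obtain ⟨w, hw1, hw2⟩ := exists_of_ofPt_eq (E₀.property.rep.isPullback' E.obj.hom) e₀ e h.symm
  exact ⟨w, hw2, hw1⟩

/-- On an algebraic space with irreducible space of points and reduced charts, a global function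
vanishing on a nonempty chart is zero. -/
theorem eq_zero_of_ev_eq_zero (hX : IsAlgSpace X) (hred : IsReducedSp X)
    [PreirreducibleSpace (Points X)] (f : ↥(gsectEt (OEt X))) (E₀ : EtOver X)
    (hne : Nonempty E₀.obj.left.left) (h0 : ev E₀ f = 0) : f = 0 := by
  refine gsectEt_eq_zero_of_basicOpen hX hred f (fun E => ?_)
  change E.obj.left.left.basicOpen (ev E f) = ⊥
  by_contra hbo
  obtain ⟨e, he⟩ : ∃ e, e ∈ (E.obj.left.left.basicOpen (ev E f) : Set E.obj.left.left) :=
    (TopologicalSpace.Opens.ne_bot_iff_nonempty _).1 hbo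
  have hA : IsOpen (Points.ofPt E.obj.hom '' (E.obj.left.left.basicOpen (ev E f) : Set _)) :=
    isOpenMap_ofPt_of_etale E.obj.hom E.property _ (E.obj.left.left.basicOpen (ev E f)).2
  have hB : IsOpen (Set.range (Points.ofPt E₀.obj.hom)) := by
    rw [← Set.image_univ]
    exact isOpenMap_ofPt_of_etale E₀.obj.hom E₀.property _ isOpen_univ
  obtain ⟨e₀⟩ := hne
  obtain ⟨x, ⟨e', he', rfl⟩, ⟨e₀', he₀'⟩⟩ :=
    nonempty_preirreducible_inter hA hB ⟨_, e, he, rfl⟩ ⟨_, e₀, rfl⟩
  obtain ⟨v, hv1, hv2⟩ := prod_exists_point E E₀ e' e₀' he₀'.symm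
  have h1 : ev (prodObj E E₀) f = 0 := by
    rw [ev_compat (prodSnd E E₀) f, h0, map_zero]
  have h2 : ev (prodObj E E₀) f = (prodFst E E₀).hom.left.left.appTop.hom (ev E f) :=
    ev_compat (prodFst E E₀) f
  have h3 : v ∈ (prodFst E E₀).hom.left.left ⁻¹ᵁ (E.obj.left.left.basicOpen (ev E f)) := by
    change (prodFst E E₀).hom.left.left v ∈ (E.obj.left.left.basicOpen (ev E f))
    rw [hv1]; exact he'
  rw [Scheme.preimage_basicOpen_top] at h3
  have h4 : (prodFst E E₀).hom.left.left.appTop (ev E f) = 0 := by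
    rw [← h1, h2]
  rw [h4, Scheme.basicOpen_zero] at h3
  exact (Set.mem_empty_iff_false _).1 h3

/-- Algebraic form: if `s ≠ 0` kills the restriction of `f` to a chart then `f = 0`. -/
theorem eq_zero_of_mul_ev_eq_zero (hX : IsAlgSpace X) (hred : IsReducedSp X)
    [PreirreducibleSpace (Points X)] (f : ↥(gsectEt (OEt X))) (E : EtOver X)
    (s : Γ(E.obj.left.left, ⊤)) (hs : s ≠ 0) (h0 : s * ev E f = 0) : f = 0 := by
  haveI := isReduced_of_isReducedSp hX hred E
  set D : E.obj.left.left.Opens := E.obj.left.left.basicOpen s with hD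
  have hDne : D ≠ ⊥ := by
    intro h
    exact hs ((basicOpen_eq_bot_iff s).1 h)
  obtain ⟨x, hx⟩ : ∃ x, x ∈ (D : Set E.obj.left.left) :=
    (TopologicalSpace.Opens.ne_bot_iff_nonempty _).1 hDne
  have hne : Nonempty (etOverOpen E D).obj.left.left := ⟨⟨x, hx⟩⟩
  refine eq_zero_of_ev_eq_zero hX hred f (etOverOpen E D) hne ?_
  rw [ev_compat (etOverOpenι E D) f]
  change D.ι.appTop.hom (ev E f) = 0
  haveI : IsReduced (D : Scheme.{u}) := inferInstance
  have h1 : (D : Scheme.{u}).basicOpen (D.ι.appTop.hom s) = ⊤ := by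
    have := Scheme.preimage_basicOpen_top D.ι s
    rw [← hD, Scheme.Opens.ι_preimage_self] at this
    exact this.symm
  have h2 : (D : Scheme.{u}).basicOpen (D.ι.appTop.hom (ev E f)) = ⊥ := by
    have h3 : (D : Scheme.{u}).basicOpen (D.ι.appTop.hom s * D.ι.appTop.hom (ev E f)) = ⊥ := by
      rw [← map_mul, h0, map_zero, Scheme.basicOpen_zero]
    rw [Scheme.basicOpen_mul, h1, top_inf_eq] at h3
    exact h3
  exact (basicOpen_eq_bot_iff _).1 h2

end Groth.Agent.Helper15.NormGs
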