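import Mathlib
import Groth.Prelude
import Groth.Agent.Lib.Helper15.NormGs1
import Groth.Agent.Lib.Helper15.Bir17

/-!
# Integral closedness: the affine local step
-/

set_option autoImplicit false
set_option linter.unusedSectionVars false
set_option linter.unusedVariables false
set_option linter.style.haveILetI false

universe u

open CategoryTheory CategoryTheory.Limits AlgebraicGeometry MorphismProperty Opposite AlgSp

namespace Groth.Agent.Helper15.NormGs

open Groth.Agent.Helper15 Groth.Agent.Helper15.Bir

/-- Pure algebra: an injective ring map `ρ : R → B` from a domain into an integrally closed domain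
carries integral fractions `a / b` to elements of `B`. -/
theorem exists_mul_eq_of_isIntegral {R B : Type*} [CommRing R] [IsDomain R] [CommRing B]
    [IsDomain B] [IsIntegrallyClosed B] (ρ : R →+* B) (hρ : Function.Injective ρ)
    (a b : R) (hb : b ≠ 0)
    (hint : IsIntegral R (algebraMap R (FractionRing R) a / algebraMap R (FractionRing R) b)) :
    ∃ y : B, y * ρ b = ρ a := by
  let K := FractionRing R
  let L := FractionRing B
  have hinj : Function.Injective ((algebraMap B L).comp ρ) :=
    (IsFractionRing.injective B L).comp hρ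
  let σ : K →+* L := IsFractionRing.lift hinj
  have hσ : ∀ x : R, σ (algebraMap R K x) = algebraMap B L (ρ x) := fun x =>
    IsFractionRing.lift_algebraMap hinj x
  set z : K := algebraMap R K a / algebraMap R K b with hz
  have hbK : algebraMap R K b ≠ 0 := by
    intro h
    exact hb ((IsFractionRing.injective R K) (by rw [h, map_zero]))
  have hzb : z * algebraMap R K b = algebraMap R K a := by
    rw [hz, div_mul_cancel₀ _ hbK]
  obtain ⟨p, hmonic, hp⟩ := hint
  have hintB : IsIntegral B (σ z) := by
    refine ⟨p.map ρ, hmonic.map ρ, ?_⟩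
    rw [Polynomial.eval₂_map]
    have h1 : (algebraMap B L).comp ρ = σ.comp (algebraMap R K) := by
      ext x
      exact (hσ x).symm
    rw [h1, ← Polynomial.hom_eval₂, hp, map_zero]
  obtain ⟨y, hy⟩ := IsIntegrallyClosed.algebraMap_eq_of_integral hintB
  refine ⟨y, ?_⟩
  apply IsFractionRing.injective B L
  rw [map_mul, hy, ← hσ, ← hσ, ← map_mul, hzb]

variable {S : Scheme.{u}} {X : Sp S}

/-- The affine step. -/
theorem ev_mem_span_of_isAffine (hX : IsAlgSpace X) (hred : IsReducedSp X)
    [PreirreducibleSpace (Points X)] [IsDomain ↥(gsectEt (OEt X))]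
    (E : EtOver X) [IsAffine E.obj.left.left]
    (hn : ∀ e : E.obj.left.left, IsDomain (E.obj.left.left.presheaf.stalk e) ∧
      IsIntegrallyClosed (E.obj.left.left.presheaf.stalk e))
    (a b : ↥(gsectEt (OEt X))) (hb : b ≠ 0)
    (hint : IsIntegral ↥(gsectEt (OEt X))
      (algebraMap _ (FractionRing ↥(gsectEt (OEt X))) a /
        algebraMap _ (FractionRing ↥(gsectEt (OEt X))) b)) :
    ev E a ∈ Ideal.span {ev E b} := by
  refine Ideal.mem_of_localization_maximal (fun P hP => ?_)
  haveI := hP.isPrime
  obtain ⟨hd, hic⟩ := localization_atPrime_normal (isAffineOpen_top E.obj.left.left) hn P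
  let ρ : ↥(gsectEt (OEt X)) →+* Localization.AtPrime P :=
    (algebraMap Γ(E.obj.left.left, ⊤) (Localization.AtPrime P)).comp (ev E)
  have hρ : Function.Injective ρ := by
    rw [injective_iff_map_eq_zero]
    intro f hf
    change algebraMap Γ(E.obj.left.left, ⊤) (Localization.AtPrime P) (ev E f) = 0 at hf
    rw [IsLocalization.map_eq_zero_iff P.primeCompl] at hf
    obtain ⟨⟨s, hs⟩, hsf⟩ := hf
    have hs0 : s ≠ 0 := by
      rintro rfl
      exact hs P.zero_mem
    exact eq_zero_of_mul_ev_eq_zero hX hred f E s hs0 hsf
  obtain ⟨y, hy⟩ := exists_mul_eq_of_isIntegral ρ hρ a b hb hint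
  rw [Ideal.map_span, Set.image_singleton, Ideal.mem_span_singleton']
  exact ⟨y, hy⟩

end Groth.Agent.Helper15.NormGs
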