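import Mathlib
import Groth.Prelude
import Groth.Agent.Lib.Helper15.NormGs2

/-!
# Integral closedness: gluing over a chart
-/

set_option autoImplicit false
set_option linter.unusedSectionVars false
set_option linter.unusedVariables false
set_option linter.style.haveILetI false

universe u

open CategoryTheory CategoryTheory.Limits AlgebraicGeometry MorphismProperty Opposite AlgSp

namespace Groth.Agent.Helper15.NormGs

open Groth.Agent.Helper15 Groth.Agent.Helper15.Bir

variable {S : Scheme.{u}} {X : Sp S}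

/-- Restriction of global sections of a scheme to an open. -/
noncomputable def res {Y : Scheme.{u}} (W : Y.Opens) : Γ(Y, ⊤) →+* Γ(Y, W) :=
  (Y.presheaf.map (homOfLE (le_top : W ≤ ⊤)).op).hom

theorem ι_appTop_eq {Y : Scheme.{u}} (W : Y.Opens) (x : Γ(Y, ⊤)) :
    W.ι.appTop.hom x = W.topIso.inv.hom (res W x) := by
  change (Y.presheaf.map _).hom x = (Y.presheaf.map _).hom ((Y.presheaf.map _).hom x)
  rw [← CommRingCat.comp_apply, ← Functor.map_comp]
  rfl

theorem topIso_hom_inv {Y : Scheme.{u}} (W : Y.Opens) (x : Γ(Y, W)) :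
    W.topIso.hom.hom (W.topIso.inv.hom x) = x := by
  rw [← CommRingCat.comp_apply, Iso.inv_hom_id]; rfl

theorem mul_transport {Y : Scheme.{u}} (W : Y.Opens) (c' : Γ((W : Scheme.{u}), ⊤))
    (x y : Γ(Y, W)) (h : c' * W.topIso.inv.hom x = W.topIso.inv.hom y) :
    W.topIso.hom.hom c' * x = y := by
  have h2 := congrArg W.topIso.hom.hom h
  rw [map_mul, topIso_hom_inv, topIso_hom_inv] at h2
  exact h2

theorem ev_open (E : EtOver X) (W : E.obj.left.left.Opens) (f : ↥(gsectEt (OEt X))) :
    ev (etOverOpen E W) f = W.topIso.inv.hom (res W (ev E f)) := by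
  rw [ev_compat (etOverOpenι E W) f]
  exact ι_appTop_eq W (ev E f)

/-- Restrictions of a nonzero global function are nonzerodivisors on every open of every chart. -/
theorem eq_zero_of_mul_res_eq_zero (hX : IsAlgSpace X) (hred : IsReducedSp X)
    [PreirreducibleSpace (Points X)] (b : ↥(gsectEt (OEt X))) (hb : b ≠ 0) (E : EtOver X)
    (W : E.obj.left.left.Opens) (t : Γ(E.obj.left.left, W)) (h : t * res W (ev E b) = 0) :
    t = 0 := by
  by_contra ht
  apply hb
  have ht' : W.topIso.inv.hom t ≠ 0 := by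
    intro h0
    apply ht
    have : W.topIso.hom.hom (W.topIso.inv.hom t) = t := by
      rw [← CommRingCat.comp_apply, Iso.inv_hom_id]; rfl
    rw [← this, h0, map_zero]
  refine eq_zero_of_mul_ev_eq_zero hX hred b (etOverOpen E W) (W.topIso.inv.hom t) ht' ?_
  rw [ev_open]
  have h1 := map_mul W.topIso.inv.hom t (res W (ev E b))
  rw [h, map_zero] at h1
  exact h1.symm

theorem res_res {Y : Scheme.{u}} {W W' : Y.Opens} (h : W' ≤ W) (x : Γ(Y, ⊤)) :
    (Y.presheaf.map (homOfLE h).op).hom (res W x) = res W' x := by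
  change (Y.presheaf.map _).hom ((Y.presheaf.map _).hom x) = (Y.presheaf.map _).hom x
  rw [← CommRingCat.comp_apply, ← Functor.map_comp]
  rfl

/-- Existence of the quotient on a whole chart. -/
theorem exists_mul_ev_eq (hX : IsAlgSpace X) (hred : IsReducedSp X)
    [PreirreducibleSpace (Points X)] [IsDomain ↥(gsectEt (OEt X))]
    (E : EtOver X)
    (hn : ∀ e : E.obj.left.left, IsDomain (E.obj.left.left.presheaf.stalk e) ∧
      IsIntegrallyClosed (E.obj.left.left.presheaf.stalk e))
    (a b : ↥(gsectEt (OEt X))) (hb : b ≠ 0)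
    (hint : IsIntegral ↥(gsectEt (OEt X))
      (algebraMap _ (FractionRing ↥(gsectEt (OEt X))) a /
        algebraMap _ (FractionRing ↥(gsectEt (OEt X))) b)) :
    ∃ r : Γ(E.obj.left.left, ⊤), r * ev E b = ev E a := by
  let Y : Scheme.{u} := E.obj.left.left
  -- local quotients on affine opens
  have hloc : ∀ O : Y.affineOpens, ∃ c : Γ(Y, O.1), c * res O.1 (ev E b) = res O.1 (ev E a) := by
    intro O
    haveI : IsAffine (etOverOpen E O.1).obj.left.left := O.2
    have hnO : ∀ e : (etOverOpen E O.1).obj.left.left,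
        IsDomain ((etOverOpen E O.1).obj.left.left.presheaf.stalk e) ∧
        IsIntegrallyClosed ((etOverOpen E O.1).obj.left.left.presheaf.stalk e) :=
      fun e => normal_stalk_of_isOpenImmersion O.1.ι hn e
    have hmem := ev_mem_span_of_isAffine hX hred (etOverOpen E O.1) hnO a b hb hint
    rw [Ideal.mem_span_singleton'] at hmem
    obtain ⟨c', hc'⟩ := hmem
    rw [ev_open, ev_open] at hc'
    exact ⟨O.1.topIso.hom.hom c', mul_transport O.1 c' _ _ hc'⟩
  choose sf hsf using hloc
  have hcompat : TopCat.Presheaf.IsCompatible Y.sheaf.1 (fun i : Y.affineOpens => i.1) sf := by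
    intro i j
    let x₁ : Γ(Y, i.1 ⊓ j.1) :=
      (Y.presheaf.map (homOfLE (inf_le_left : i.1 ⊓ j.1 ≤ i.1)).op).hom (sf i)
    let x₂ : Γ(Y, i.1 ⊓ j.1) :=
      (Y.presheaf.map (homOfLE (inf_le_right : i.1 ⊓ j.1 ≤ j.1)).op).hom (sf j)
    have t1 : x₁ * res (i.1 ⊓ j.1) (ev E b) = res (i.1 ⊓ j.1) (ev E a) := by
      rw [← res_res (inf_le_left : i.1 ⊓ j.1 ≤ i.1) (ev E b),
        ← res_res (inf_le_left : i.1 ⊓ j.1 ≤ i.1) (ev E a), ← hsf i, map_mul]
    have t2 : x₂ * res (i.1 ⊓ j.1) (ev E b) = res (i.1 ⊓ j.1) (ev E a) := by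
      rw [← res_res (inf_le_right : i.1 ⊓ j.1 ≤ j.1) (ev E b),
        ← res_res (inf_le_right : i.1 ⊓ j.1 ≤ j.1) (ev E a), ← hsf j, map_mul]
    have key : x₁ - x₂ = 0 := by
      refine eq_zero_of_mul_res_eq_zero hX hred b hb E (i.1 ⊓ j.1) _ ?_
      rw [sub_mul, t1, t2, sub_self]
    exact sub_eq_zero.1 key
  have hcover : (⊤ : Y.Opens) ≤ iSup (fun i : Y.affineOpens => i.1) := by
    rw [iSup_affineOpens_eq_top]
  obtain ⟨r', hr, -⟩ := Y.sheaf.existsUnique_gluing' (fun i : Y.affineOpens => i.1) ⊤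
    (fun i => homOfLE le_top) hcover sf hcompat
  let r : Γ(E.obj.left.left, ⊤) := r'
  refine ⟨r, ?_⟩
  -- check the equation locally
  have hzero : r * ev E b - ev E a = 0 := by
    refine TopCat.Sheaf.eq_of_locally_eq' Y.sheaf (fun i : Y.affineOpens => i.1) ⊤
      (fun i => homOfLE le_top) hcover _ _ (fun i => ?_)
    change res i.1 (r * ev E b - ev E a) = res i.1 0
    rw [map_sub, map_mul, map_zero]
    have : res i.1 r = sf i := hr i
    rw [this, hsf i, sub_self]
  exact sub_eq_zero.1 hzero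

end Groth.Agent.Helper15.NormGs
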