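import Mathlib
import Groth.Prelude
import Groth.Agent.Lib.Helper15.NormGs3
import Groth.Agent.Lib.Helper15.NormChart2
import Groth.Agent.Lib.Helper15.AlgSpDimEt
import Groth.Agent.Lib.Helper16.Sch.NormalEtaleSch

/-!
# Global functions on a normal integral algebraic space form a normal domain
-/

set_option autoImplicit false
set_option linter.unusedSectionVars false
set_option linter.unusedVariables false
set_option linter.style.haveILetI false

universe u

open CategoryTheory CategoryTheory.Limits AlgebraicGeometry MorphismProperty Opposite AlgSp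

namespace Groth.Agent.Helper15.NormGs

open Groth.Agent.Helper15 Groth.Agent.Helper15.Bir

variable {S : Scheme.{u}} {X : Sp S}

/-- A compatible family of functions on all charts is a global section. -/
theorem exists_of_compatible (x : ∀ E : EtOver X, Γ(E.obj.left.left, ⊤))
    (hx : ∀ {E E' : EtOver X} (g : E ⟶ E'), x E = g.hom.left.left.appTop.hom (x E')) :
    ∃ r : ↥(gsectEt (OEt X)), ∀ E, ev E r = x E := by
  let F := (OEt X).obj
  let t := isLimitOfPreserves (forget CommRingCat.{u + 1}) (limit.isLimit F)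
  let sec : (F ⋙ forget CommRingCat.{u + 1}).sections :=
    ⟨fun j => (ULift.up (x j.unop) : ULift.{u + 1} Γ(j.unop.obj.left.left, ⊤)), by
      intro j j' f
      change (F.map f) (ULift.up (x j.unop)) = ULift.up (x j'.unop)
      have h1 : F.map f = (OEt X).obj.map f.unop.op := rfl
      rw [h1, OEt_map, hx f.unop]⟩
  refine ⟨(Types.isLimitEquivSections t).symm sec, fun E => ?_⟩
  have h := Types.isLimitEquivSections_symm_apply t sec (op E)
  rw [ev_apply]
  exact congrArg ULift.down h

theorem etInv_normal : EtInv (fun (U : Scheme.{u}) (u : U) =>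
    IsDomain (U.presheaf.stalk u) ∧ IsIntegrallyClosed (U.presheaf.stalk u)) := by
  intro W U g hg w
  haveI := hg
  exact Groth.Agent.Helper16.NormalEtale.stalk_normal_iff_of_etale g w

theorem main10495 (X : AlgSp.Space S)
    (hXi : AlgSp.IsIntegralSp X.obj)
    (hXn : AlgSp.EtaleLocally (fun U => ∀ u : ↥U, IsDomain ↥(U.presheaf.stalk u) ∧
      IsIntegrallyClosed ↥(U.presheaf.stalk u)) X.obj) :
    IsDomain ↥(AlgSp.gsectEt (AlgSp.OEt X.obj)) ∧
      IsIntegrallyClosed ↥(AlgSp.gsectEt (AlgSp.OEt X.obj)) := by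
  have hXi' := hXi
  obtain ⟨hred, hdec, hirr⟩ := hXi
  haveI := hirr
  have hX : IsAlgSpace X.obj := X.property
  obtain ⟨x₀⟩ : Nonempty (Points X.obj) := inferInstance
  obtain ⟨U, a, ha, hUaff, hUint, hUic, hx⟩ := NormChart.main10492 X hXi' hXn x₀
  let E₁ : EtOver X.obj := EtOver.mk a ha
  haveI : IsIntegral E₁.obj.left.left := hUint
  have hne : Nonempty E₁.obj.left.left := inferInstance
  have hinj : Function.Injective (ev E₁) := by
    rw [injective_iff_map_eq_zero]
    intro f hf
    exact eq_zero_of_ev_eq_zero hX hred f E₁ hne hf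
  haveI hdom : IsDomain ↥(gsectEt (OEt X.obj)) := hinj.isDomain (ev E₁)
  refine ⟨hdom, ?_⟩
  -- all charts are normal
  obtain ⟨U₀, p₀, hp₀e, hp₀s, hP⟩ := hXn
  have hnE : ∀ (E : EtOver X.obj) (e : E.obj.left.left),
      IsDomain (E.obj.left.left.presheaf.stalk e) ∧
        IsIntegrallyClosed (E.obj.left.left.presheaf.stalk e) := by
    intro E e
    obtain ⟨u₀, hu₀⟩ := surjective_ofPt p₀ hp₀s (Points.ofPt E.obj.hom e)
    exact hasAt_forall_chart etInv_normal _ ⟨U₀, p₀, u₀, hp₀e, hu₀, hP u₀⟩ E.obj.left E.obj.hom e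
      E.property rfl
  rw [isIntegrallyClosed_iff (FractionRing ↥(gsectEt (OEt X.obj)))]
  intro z hz
  obtain ⟨a', b', hb', rfl⟩ := IsFractionRing.div_surjective (A := ↥(gsectEt (OEt X.obj))) z
  have hb0 : b' ≠ 0 := nonZeroDivisors.ne_zero hb'
  have hex : ∀ E : EtOver X.obj, ∃ r : Γ(E.obj.left.left, ⊤), r * ev E b' = ev E a' :=
    fun E => exists_mul_ev_eq hX hred E (hnE E) a' b' hb0 hz
  choose rE hrE using hex
  have hcompat : ∀ {E E' : EtOver X.obj} (g : E ⟶ E'),
      rE E = g.hom.left.left.appTop.hom (rE E') := by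
    intro E E' g
    have h1 : g.hom.left.left.appTop.hom (rE E') * ev E b' = ev E a' := by
      rw [ev_compat g b', ev_compat g a', ← map_mul, hrE E']
    have h2 : (rE E - g.hom.left.left.appTop.hom (rE E')) * ev E b' = 0 := by
      rw [sub_mul, hrE E, h1, sub_self]
    have h3 : rE E - g.hom.left.left.appTop.hom (rE E') = 0 := by
      by_contra hne0
      exact hb0 (eq_zero_of_mul_ev_eq_zero hX hred b' E _ hne0 h2)
    exact sub_eq_zero.1 h3
  obtain ⟨r, hr⟩ := exists_of_compatible rE hcompat
  refine ⟨r, ?_⟩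
  have hrb : r * b' = a' := by
    apply ext_ev
    intro E
    rw [map_mul, hr E, hrE E]
  have hbK : algebraMap ↥(gsectEt (OEt X.obj)) (FractionRing ↥(gsectEt (OEt X.obj))) b' ≠ 0 := by
    intro h
    exact hb0 ((IsFractionRing.injective _ (FractionRing ↥(gsectEt (OEt X.obj))))
      (by rw [h, map_zero]))
  rw [eq_div_iff hbK, ← map_mul, hrb]

end Groth.Agent.Helper15.NormGs
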