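import Groth.Agent.Lib.Helper15.NormExist3

/-!
# Local structure of the relative normalization
-/

set_option autoImplicit false
universe u
open CategoryTheory CategoryTheory.Limits AlgebraicGeometry MorphismProperty Opposite TensorProduct
open AlgSp

namespace Groth.Agent.Helper15.Norm

variable {S : Scheme.{u}}

theorem exists_covers_etale {A : Type u} [CommRing A] (t : Spec (CommRingCat.of A) ⟶ S) {G : Sp S}
    (g : G ⟶ (yon S).obj (Over.mk t)) (hqc : IsQuasiCompactSp G)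
    (hqs : ∀ (W : Over S) (w : (yon S).obj W ⟶ G), IsAffine W.left →
      IsQuasiCompactSp (pullback w w)) :
    ∃ (B₁ B₂ : Type u) (_ : CommRing B₁) (_ : CommRing B₂) (_ : Algebra A B₁) (_ : Algebra A B₂)
      (π₁ π₂ : B₁ →ₐ[A] B₂) (w : (yon S).obj (presOf π₁ π₂ t).W ⟶ G),
      (presOf π₁ π₂ t).Covers g w ∧ RepWith @Etale w ∧ RepWith @Surjective w := by
  obtain ⟨W, w₀, hW, hw₀e, hw₀s⟩ := exists_affine_chart_of_isQuasiCompactSp hqc
  haveI := hW
  haveI : Epi w₀ := epi_of_etale_surjective w₀ hw₀e hw₀s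
  obtain ⟨x, hx⟩ := (yon S).map_surjective (w₀ ≫ g)
  obtain ⟨φ, eW, heW⟩ : ∃ (φ : CommRingCat.of A ⟶ Γ(W.left, ⊤))
      (eW : Over.mk (Spec.map φ ≫ t) ≅ W), eW.hom ≫ x =
        (Over.homMk (Spec.map φ) rfl : Over.mk (Spec.map φ ≫ t) ⟶ Over.mk t) :=
    ⟨sfRing t x, sfIso t x, sfIso_hom_comp t x⟩
  obtain ⟨w, hwdef⟩ : ∃ w : (yon S).obj (Over.mk (Spec.map φ ≫ t)) ⟶ G,
      w = (yon S).map eW.hom ≫ w₀ := ⟨_, rfl⟩
  have hwepi : Epi w := by rw [hwdef]; exact epi_comp _ _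
  have hW₁ : IsAffine (Over.mk (Spec.map φ ≫ t)).left := by
    change IsAffine (Spec Γ(W.left, ⊤)); infer_instance
  obtain ⟨W₂, r, hW₂, hre, hrs⟩ := exists_affine_chart_of_isQuasiCompactSp (hqs _ w hW₁)
  haveI := hW₂
  haveI : Epi r := epi_of_etale_surjective r hre hrs
  obtain ⟨x₁, hx₁⟩ := (yon S).map_surjective (r ≫ pullback.fst w w)
  obtain ⟨x₂, hx₂⟩ := (yon S).map_surjective (r ≫ pullback.snd w w)
  have hwg : w ≫ g = (yon S).map
      (Over.homMk (Spec.map φ) rfl : Over.mk (Spec.map φ ≫ t) ⟶ Over.mk t) := by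
    rw [hwdef, Category.assoc, ← hx, ← Functor.map_comp, heW]
  have hx12 : x₁ ≫ (Over.homMk (Spec.map φ) rfl : Over.mk (Spec.map φ ≫ t) ⟶ Over.mk t) =
      x₂ ≫ (Over.homMk (Spec.map φ) rfl : Over.mk (Spec.map φ ≫ t) ⟶ Over.mk t) := by
    apply (yon S).map_injective
    rw [Functor.map_comp, Functor.map_comp, ← hwg, hx₁, hx₂, Category.assoc, Category.assoc,
      ← Category.assoc (pullback.fst w w), ← Category.assoc (pullback.snd w w), pullback.condition]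
  obtain ⟨π₁, hπ₁⟩ : ∃ π₁ : Γ(W.left, ⊤) ⟶ Γ(W₂.left, ⊤),
      Spec.map π₁ = W₂.left.isoSpec.inv ≫ x₁.left := ⟨_, sfRing_map (Spec.map φ ≫ t) x₁⟩
  obtain ⟨π₂, hπ₂⟩ : ∃ π₂ : Γ(W.left, ⊤) ⟶ Γ(W₂.left, ⊤),
      Spec.map π₂ = W₂.left.isoSpec.inv ≫ x₂.left := ⟨_, sfRing_map (Spec.map φ ≫ t) x₂⟩
  have hφπ : φ ≫ π₁ = φ ≫ π₂ := by
    apply Spec.map_injective
    rw [Spec.map_comp, Spec.map_comp, hπ₁, hπ₂, Category.assoc, Category.assoc]
    congr 1
    exact congrArg (fun m => m.left) hx12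
  letI alg₁ : Algebra A ↑Γ(W.left, ⊤) := φ.hom.toAlgebra
  letI alg₂ : Algebra A ↑Γ(W₂.left, ⊤) := (φ ≫ π₁).hom.toAlgebra
  let π₁' : ↑Γ(W.left, ⊤) →ₐ[A] ↑Γ(W₂.left, ⊤) := { π₁.hom with commutes' := fun a => rfl }
  let π₂' : ↑Γ(W.left, ⊤) →ₐ[A] ↑Γ(W₂.left, ⊤) :=
    { π₂.hom with commutes' := fun a => (congrArg (fun m => m.hom a) hφπ).symm }
  have hiso : IsIso ((yon S).map eW.hom) := ((yon S).mapIso eW).isIso_hom
  have hwe : RepWith @Etale w := by
    rw [hwdef]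
    exact (RepWith @Etale).comp_mem _ _ (repWith_of_isIso @Etale ((yon S).map eW.hom)) hw₀e
  have hws : RepWith @Surjective w := by
    rw [hwdef]
    exact (RepWith @Surjective).comp_mem _ _ (repWith_of_isIso @Surjective ((yon S).map eW.hom)) hw₀s
  refine ⟨↑Γ(W.left, ⊤), ↑Γ(W₂.left, ⊤), inferInstance, inferInstance, alg₁, alg₂, π₁', π₂', w, ?_,
    hwe, hws⟩
  -- the Spec form of `W₂`
  have hs₂ : W₂.left.isoSpec.inv ≫ W₂.hom = Spec.map (φ ≫ π₁) ≫ t := by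
    rw [Spec.map_comp, hπ₁, Category.assoc, Category.assoc]
    congr 1
    exact (Over.w x₁).symm
  obtain ⟨eW₂, he₁, he₂⟩ : ∃ eW₂ : (presOf π₁' π₂' t).W₂ ≅ W₂,
      eW₂.hom ≫ x₁ = (presOf π₁' π₂' t).p₁ ∧ eW₂.hom ≫ x₂ = (presOf π₁' π₂' t).p₂ := by
    refine ⟨Over.isoMk W₂.left.isoSpec.symm hs₂, ?_, ?_⟩
    · apply Over.OverMorphism.ext
      change W₂.left.isoSpec.inv ≫ x₁.left = Spec.map π₁
      rw [hπ₁]
    · apply Over.OverMorphism.ext
      change W₂.left.isoSpec.inv ≫ x₂.left = Spec.map π₂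
      rw [hπ₂]
  have hp₁ : (yon S).map (presOf π₁' π₂' t).p₁ =
      ((yon S).map eW₂.hom ≫ r) ≫ pullback.fst w w := by
    have := congrArg (fun m => (yon S).map m) he₁
    simp only [Functor.map_comp] at this
    rw [hx₁] at this
    exact this.symm.trans (Category.assoc _ _ _).symm
  have hp₂ : (yon S).map (presOf π₁' π₂' t).p₂ =
      ((yon S).map eW₂.hom ≫ r) ≫ pullback.snd w w := by
    have := congrArg (fun m => (yon S).map m) he₂
    simp only [Functor.map_comp] at this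
    rw [hx₂] at this
    exact this.symm.trans (Category.assoc _ _ _).symm
  refine ⟨hwepi, hwg, ?_, ?_⟩
  · exact (congrArg (· ≫ w) hp₁).trans (((Category.assoc _ _ _).trans
      ((congrArg (((yon S).map eW₂.hom ≫ r) ≫ ·) pullback.condition).trans
        (Category.assoc _ _ _).symm)).trans (congrArg (· ≫ w) hp₂).symm)
  · intro T' a b hab
    obtain ⟨ρ, hρ₁, hρ₂⟩ : ∃ ρ : (yon S).obj T' ⟶ pullback w w,
        ρ ≫ pullback.fst w w = (yon S).map a ∧ ρ ≫ pullback.snd w w = (yon S).map b :=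
      ⟨pullback.lift ((yon S).map a) ((yon S).map b) hab, pullback.lift_fst _ _ _,
        pullback.lift_snd _ _ _⟩
    haveI : Epi ((yon S).map eW₂.hom ≫ r) := epi_comp _ _
    obtain ⟨R, hR, h⟩ := exists_local_lift_of_epi' ((yon S).map eW₂.hom ≫ r) ρ
    refine ⟨R, hR, fun T'' k hk => ?_⟩
    obtain ⟨τ, hτ⟩ := h k hk
    obtain ⟨z, rfl⟩ := (yon S).map_surjective τ
    refine ⟨z, ?_, ?_⟩
    · apply (yon S).map_injective
      have e1 : (yon S).map (z ≫ (presOf π₁' π₂' t).p₁) =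
          ((yon S).map z ≫ ((yon S).map eW₂.hom ≫ r)) ≫ pullback.fst w w := by
        rw [Functor.map_comp, hp₁]
        simp only [Category.assoc]
        rfl
      rw [e1, hτ, Category.assoc, hρ₁, Functor.map_comp]
      rfl
    · apply (yon S).map_injective
      have e1 : (yon S).map (z ≫ (presOf π₁' π₂' t).p₂) =
          ((yon S).map z ≫ ((yon S).map eW₂.hom ≫ r)) ≫ pullback.snd w w := by
        rw [Functor.map_comp, hp₂]
        simp only [Category.assoc]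
        rfl
      rw [e1, hτ, Category.assoc, hρ₂, Functor.map_comp]
      rfl


/-- Local structure of the normalization over a spectrum: it is the spectrum of a subring of the
ring of an affine étale chart of the source. -/
theorem exists_local_structure_spec {A : Type u} [CommRing A] (t : Spec (CommRingCat.of A) ⟶ S)
    {G : Sp S} (g : G ⟶ (yon S).obj (Over.mk t)) (hqc : IsQuasiCompactSp G)
    (hqs : ∀ (W : Over S) (w : (yon S).obj W ⟶ G), IsAffine W.left →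
      IsQuasiCompactSp (pullback w w)) :
    ∃ (A' B : CommRingCat.{u}) (β : A' ⟶ B) (s : Spec A' ⟶ S) (ν : Over.mk s ⟶ Over.mk t)
      (w : (yon S).obj (Over.mk (Spec.map β ≫ s)) ⟶ G) (f' : G ⟶ (yon S).obj (Over.mk s)),
      Function.Injective β.hom ∧ RepWith @Etale w ∧ RepWith @Surjective w ∧
      w ≫ f' = (yon S).map (Over.homMk (Spec.map β) rfl : Over.mk (Spec.map β ≫ s) ⟶ Over.mk s) ∧
      IsRelNormalization g ((yon S).map ν) f' := by
  obtain ⟨B₁, B₂, _, _, _, _, π₁, π₂, w, hc, hwe, hws⟩ := exists_covers_etale t g hqc hqs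
  obtain ⟨C, hC⟩ : ∃ C, C = candOf π₁ π₂ t := ⟨_, rfl⟩
  have hCn : C.IsNorm := hC ▸ candOf_isNorm π₁ π₂ t
  obtain ⟨f', hf', hfac⟩ := hc.exists_desc C
  have hn := hc.isRelNormalization C hCn f' hf' hfac
  have hw : Spec.map C.β ≫ Spec.map C.α ≫ t = Spec.map (presOf π₁ π₂ t).φ ≫ t := by
    rw [← Category.assoc, ← Spec.map_comp, C.hαβ]
  let θ : Over.mk (Spec.map C.β ≫ Spec.map C.α ≫ t) ≅ (presOf π₁ π₂ t).W :=
    Over.isoMk (Iso.refl _) (by
      change 𝟙 _ ≫ Spec.map (presOf π₁ π₂ t).φ ≫ t = Spec.map C.β ≫ Spec.map C.α ≫ t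
      rw [Category.id_comp, hw])
  have hiso : IsIso ((yon S).map θ.hom) := ((yon S).mapIso θ).isIso_hom
  refine ⟨C.A', (presOf π₁ π₂ t).B₁, C.β, Spec.map C.α ≫ t, C.ν, (yon S).map θ.hom ≫ w, f',
    ?_, ?_, ?_, ?_, hn⟩
  · exact hCn.inj
  · exact (RepWith @Etale).comp_mem _ _ (repWith_of_isIso @Etale ((yon S).map θ.hom)) hwe
  · exact (RepWith @Surjective).comp_mem _ _ (repWith_of_isIso @Surjective ((yon S).map θ.hom)) hws
  · refine (Category.assoc _ _ _).trans ((congrArg ((yon S).map θ.hom ≫ ·) hf').trans ?_)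
    refine ((yon S).map_comp _ _).symm.trans ?_
    congr 1

/-- Local structure of the relative normalization over an affine étale chart of the base. -/
theorem exists_local_structure {G H N : Sp S} (hH : IsAlgSpace H) (hN : IsAlgSpace N)
    {g : G ⟶ H} (hqc : IsQuasiCompactMor g) (hqs : IsQuasiSeparatedMor g) {ν : N ⟶ H}
    {f' : G ⟶ N} (hn : IsRelNormalization g ν f') {T : Over S} (hT : IsAffine T.left)
    (c : (yon S).obj T ⟶ H) (hc : RepWith @Etale c) {G₁ N₁ : Sp S} (cG : G₁ ⟶ G)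
    (g₁ : G₁ ⟶ (yon S).obj T) (sqG : IsPullback cG g₁ g c) (cN : N₁ ⟶ N)
    (ν₁ : N₁ ⟶ (yon S).obj T) (sqN : IsPullback cN ν₁ ν c) :
    ∃ (A' B : CommRingCat.{u}) (β : A' ⟶ B) (s : Spec A' ⟶ S)
      (w : (yon S).obj (Over.mk (Spec.map β ≫ s)) ⟶ G₁) (e : (yon S).obj (Over.mk s) ≅ N₁),
      Function.Injective β.hom ∧ RepWith @Etale w ∧ RepWith @Surjective w ∧
      (yon S).map (Over.homMk (Spec.map β) rfl : Over.mk (Spec.map β ≫ s) ⟶ Over.mk s) ≫
        e.hom ≫ cN = w ≫ cG ≫ f' := by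
  haveI := hT
  have hs := isSNorm_of_isRelNormalization' hH hN hqc hqs hn
  obtain ⟨f'₁, k2, k1⟩ : ∃ f'₁ : G₁ ⟶ N₁, f'₁ ≫ cN = cG ≫ f' ∧ f'₁ ≫ ν₁ = g₁ :=
    ⟨sqN.lift (cG ≫ f') g₁ (by rw [Category.assoc, hn.1, sqG.w]), sqN.lift_fst _ _ _,
      sqN.lift_snd _ _ _⟩
  have hn₁ : IsRelNormalization g₁ ν₁ f'₁ :=
    hs.2.2 T c hT (repWith_mono etale_le_smooth hc) g₁ ν₁ f'₁ cG cN sqG sqN k1 k2
  have hN₁ : IsAlgSpace N₁ := isAlgSpace_of_isPullback hH.diag hN (IsAlgSpace.yon_obj _) sqN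
  have hqc₁ : IsQuasiCompactMor g₁ := isQuasiCompactMor_of_isPullback' sqG hqc
  have hqs₁ : IsQuasiSeparatedMor g₁ := isQuasiSeparatedMor_of_isPullback' sqG hqs
  have hG := isQuasiCompactSp_of_isQuasiCompactMor_yon hT g₁ hqc₁
  have hqs' := isQuasiCompactSp_pullback_self hT g₁ hqs₁
  let t : Spec (CommRingCat.of ↑Γ(T.left, ⊤)) ⟶ S := T.left.isoSpec.inv ≫ T.hom
  let eT : Over.mk t ≅ T := Over.isoMk T.left.isoSpec.symm rfl
  obtain ⟨A', B, β, s, ν₀, w, f'₀, hinj, hwe, hws, hwf, hn₀⟩ :=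
    exists_local_structure_spec t (g₁ ≫ (yon S).map eT.inv) hG hqs'
  haveI : IsIso ((yon S).map eT.inv) := ((yon S).mapIso eT.symm).isIso_hom
  have hn₀' : IsRelNormalization g₁ ((yon S).map ν₀ ≫ (yon S).map eT.hom) f'₀ := by
    refine isRelNormalization_of_comp_iso ((yon S).map eT.inv) ?_
    have : ((yon S).map ν₀ ≫ (yon S).map eT.hom) ≫ (yon S).map eT.inv = (yon S).map ν₀ := by
      rw [Category.assoc, ← Functor.map_comp, Iso.hom_inv_id, CategoryTheory.Functor.map_id,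
        Category.comp_id]
    rw [this]
    exact hn₀
  obtain ⟨e, he1, he2⟩ := norm_exists_iso hn₀' (IsAlgSpace.yon_obj _) hn₁ hN₁
  refine ⟨A', B, β, s, w, e, hinj, hwe, hws, ?_⟩
  rw [← hwf, Category.assoc, ← Category.assoc f'₀, he1, k2]

end Groth.Agent.Helper15.Norm
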