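import Groth.Agent.Lib.Helper15.AlgSpCodim0

/-!
# Scheme-level consequences of an injective ring map: reducedness and codimension-zero points
-/

set_option autoImplicit false
universe u
open CategoryTheory CategoryTheory.Limits AlgebraicGeometry MorphismProperty Opposite

namespace Groth.Agent.Helper15.Norm

theorem isReduced_spec_of_injective {A' B : CommRingCat.{u}} (β : A' ⟶ B)
    (hβ : Function.Injective β.hom) (hB : IsReduced (Spec B)) : IsReduced (Spec A') := by
  rw [affine_isReduced_iff] at hB ⊢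
  exact isReduced_of_injective β.hom hβ

theorem exists_codimZero_lift_spec {A' B : CommRingCat.{u}} (β : A' ⟶ B)
    (hβ : Function.Injective β.hom) (m : Spec A')
    (hm : ringKrullDim ↥((Spec A').presheaf.stalk m) = 0) :
    ∃ w : Spec B, ringKrullDim ↥((Spec B).presheaf.stalk w) = 0 ∧ (Spec.map β) w = m := by
  rw [ringKrullDim_stalk_eq_coheight] at hm
  have hmax : IsMax m := Order.coheight_eq_zero.1 (by exact_mod_cast hm)
  have hmin : m.asIdeal ∈ minimalPrimes A' := by
    refine ⟨⟨m.isPrime, bot_le⟩, fun q hq hqm => ?_⟩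
    let q' : Spec A' := ⟨q, hq.1⟩
    have h1 : q' ⤳ m := (PrimeSpectrum.le_iff_specializes q' m).1 hqm
    have h2 : m ⤳ q' := hmax h1
    exact (PrimeSpectrum.le_iff_specializes m q').2 h2
  obtain ⟨p', hp', hcomap⟩ := Ideal.exists_comap_eq_of_mem_minimalPrimes_of_injective hβ _ hmin
  let w₀ : Spec B := ⟨p', hp'⟩
  have hw₀ : (Spec.map β) w₀ = m := PrimeSpectrum.ext hcomap
  obtain ⟨η, hη, hdim⟩ := exists_specializes_ringKrullDim_stalk_eq_zero (Spec B) w₀
  refine ⟨η, hdim, ?_⟩
  have h1 : (Spec.map β) η ⤳ m := hw₀ ▸ hη.map (Spec.map β).continuous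
  have h2 : m ⤳ (Spec.map β) η := hmax h1
  exact (h1.antisymm h2).eq

end Groth.Agent.Helper15.Norm
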