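import Groth.Agent.Lib.Helper15.NormLoc1
import Groth.Agent.Lib.Helper15.NormLoc2

/-!
# Local charts of the relative normalization
-/

set_option autoImplicit false
universe u
open CategoryTheory CategoryTheory.Limits AlgebraicGeometry MorphismProperty Opposite
open AlgSp

namespace Groth.Agent.Helper15.Norm

variable {S : Scheme.{u}}

/-- The normalization has an étale atlas which is Zariski locally the spectrum of a subring of
the ring of an affine étale chart of the source. -/
theorem exists_local_charts {G H N : Sp S} (hH : IsAlgSpace H) (hN : IsAlgSpace N)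
    {g : G ⟶ H} (hqc : IsQuasiCompactMor g) (hqs : IsQuasiSeparatedMor g) {ν : N ⟶ H}
    {f' : G ⟶ N} (hn : IsRelNormalization g ν f') :
    ∃ (M : Over S) (a : (yon S).obj M ⟶ N), RepWith @Etale a ∧ RepWith @Surjective a ∧
      ∀ m : M.left, ∃ (A' B : CommRingCat.{u}) (β : A' ⟶ B) (s : Spec A' ⟶ S)
        (j : Over.mk s ⟶ M) (b : (yon S).obj (Over.mk (Spec.map β ≫ s)) ⟶ G),
        Function.Injective β.hom ∧ IsOpenImmersion j.left ∧ m ∈ Set.range j.left ∧
        RepWith @Etale b ∧
        b ≫ f' = (yon S).map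
          ((Over.homMk (Spec.map β) rfl : Over.mk (Spec.map β ≫ s) ⟶ Over.mk s) ≫ j) ≫ a := by
  obtain ⟨V, q, hqe, hqsurj⟩ := hH.atlas
  have hνrep : RepWith @IsIntegralHom ν :=
    repWith_of_affRep _ ((isIntegralMor_iff_affRep ν).1 hn.2.1)
  have rep := hνrep.rep
  obtain ⟨M, μ, a, sqM⟩ : ∃ (M : Over S) (μ : M ⟶ V) (a : (yon S).obj M ⟶ N),
      IsPullback a ((yon S).map μ) ν q := ⟨_, rep.snd q, rep.fst q, rep.isPullback q⟩
  refine ⟨M, a, (RepWith @Etale).of_isPullback sqM.flip hqe,
    (RepWith @Surjective).of_isPullback sqM.flip hqsurj, fun m => ?_⟩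
  -- an affine open of `V` around the image of `m`
  obtain ⟨i, r, hr⟩ : ∃ (i : V.left.affineCover.I₀) (r : V.left.affineCover.X i),
      V.left.affineCover.f i r = μ.left m :=
    ⟨V.left.affineCover.idx (μ.left m), V.left.affineCover.covers (μ.left m)⟩
  obtain ⟨R, fi, hfi, hRaff, hr'⟩ : ∃ (R : Scheme.{u}) (fi : R ⟶ V.left) (_ : IsOpenImmersion fi)
      (_ : IsAffine R), μ.left m ∈ Set.range fi :=
    ⟨_, V.left.affineCover.f i, inferInstance, inferInstance, ⟨r, hr⟩⟩
  obtain ⟨r, hr⟩ := hr'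
  obtain ⟨z, hz1, hz2⟩ := Scheme.Pullback.exists_preimage_pullback (f := μ.left) (g := fi) m r
    hr.symm
  -- structures over `S`
  let Ti : Over S := Over.mk (fi ≫ V.hom)
  let ιi : Ti ⟶ V := Over.homMk fi rfl
  let Mi : Over S := Over.mk (pullback.fst μ.left fi ≫ M.hom)
  let ji : Mi ⟶ M := Over.homMk (pullback.fst μ.left fi) rfl
  let μi : Mi ⟶ Ti := Over.homMk (pullback.snd μ.left fi) (by
    change pullback.snd μ.left fi ≫ fi ≫ V.hom = pullback.fst μ.left fi ≫ M.hom
    rw [← Category.assoc, ← pullback.condition, Category.assoc, Over.w μ])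
  have sqi : IsPullback ji μi μ ιi :=
    IsPullback.of_map_of_faithful (Over.forget S) (IsPullback.of_hasPullback μ.left fi)
  have hTi : IsAffine Ti.left := hRaff
  have hci : RepWith @Etale ((yon S).map ιi ≫ q) :=
    (RepWith @Etale).comp_mem _ _ ((repWith_yon_map_iff _ _).2 (inferInstance : Etale fi)) hqe
  have sqN : IsPullback ((yon S).map ji ≫ a) ((yon S).map μi) ν ((yon S).map ιi ≫ q) :=
    (sqi.map (yon S)).paste_horiz sqM
  have sqG := IsPullback.of_hasPullback g ((yon S).map ιi ≫ q)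
  obtain ⟨A', B, β, s, w, e, hinj, hwe, hws, hcomm⟩ :=
    exists_local_structure hH hN hqc hqs hn hTi _ hci _ _ sqG _ _ sqN
  let ε : Over.mk s ≅ Mi := (yon S).preimageIso e
  have hε : (yon S).map ε.hom = e.hom := Functor.map_preimage _ _
  haveI : IsIso ε.hom.left := ((Over.forget S).mapIso ε).isIso_hom
  refine ⟨A', B, β, s, ε.hom ≫ ji, w ≫ pullback.fst g ((yon S).map ιi ≫ q), hinj, ?_, ?_, ?_, ?_⟩
  · change IsOpenImmersion (ε.hom.left ≫ pullback.fst μ.left fi)
    infer_instance
  · refine ⟨ε.inv.left z, ?_⟩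
    change (ε.hom.left ≫ pullback.fst μ.left fi) (ε.inv.left z) = m
    rw [Scheme.Hom.comp_apply, ← Scheme.Hom.comp_apply ε.inv.left, ← Over.comp_left, Iso.inv_hom_id]
    exact hz1
  · exact (RepWith @Etale).comp_mem _ _ hwe ((RepWith @Etale).of_isPullback sqG.flip hci)
  · rw [Category.assoc, ← hcomm, Functor.map_comp, Functor.map_comp, hε]
    simp only [Category.assoc]

end Groth.Agent.Helper15.Norm
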