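import Groth.Agent.Lib.Helper15.NormLoc4
import Groth.Agent.Lib.Helper7.NagFin
import Groth.Agent.Lib.Helper7.Mono
import Groth.Agent.Lib.Helper16.AlgSp.RedSp
import Groth.Agent.Lib.Helper15.AlgSpLocPListed2
import Groth.Agent.Lib.Helper15.AlgSpFinite

/-!
# Finiteness of the relative normalization over a Nagata base
-/

set_option autoImplicit false
universe u
open CategoryTheory CategoryTheory.Limits AlgebraicGeometry MorphismProperty Opposite
open AlgSp

namespace Groth.Agent.Helper15.Norm

theorem finite_of_nagata_ring {A A' B : Type u} [CommRing A] [CommRing A'] [CommRing B]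
    (φ : A →+* A') (β : A' →+* B) (hφ : φ.IsIntegral) (hβ : Function.Injective β)
    (hft : (β.comp φ).FiniteType) [IsReduced B] (hA : CAlg.IsNagata A) : φ.Finite := by
  algebraize [φ, β, β.comp φ]
  haveI := hA.1
  have hfin : Module.Finite A (integralClosure A B) := Groth.Agent.Helper7.NagFin.s0573 A hA B
  haveI : IsNoetherian A (integralClosure A B) := isNoetherian_of_isNoetherianRing_of_finite A _
  have hint : Algebra.IsIntegral A A' := ⟨hφ⟩
  let ψ : A' →ₗ[A] integralClosure A B :=
    { toFun := fun y => ⟨algebraMap A' B y,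
        IsIntegral.map (IsScalarTower.toAlgHom A A' B) (Algebra.IsIntegral.isIntegral y)⟩
      map_add' := fun y y' => Subtype.ext (map_add _ y y')
      map_smul' := fun d y => Subtype.ext (by
        change algebraMap A' B (d • y) = d • algebraMap A' B y
        rw [Algebra.smul_def, map_mul, ← IsScalarTower.algebraMap_apply, Algebra.smul_def]) }
  change Module.Finite A A'
  refine Module.Finite.of_injective ψ ?_
  intro y y' hyy'
  exact hβ (congrArg Subtype.val hyy')

theorem isFinite_of_nagata {A' B : CommRingCat.{u}} (β : A' ⟶ B)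
    (hβ : Function.Injective β.hom) {R : Scheme.{u}} [IsAffine R] (ν₀ : Spec A' ⟶ R)
    [IsIntegralHom ν₀] [LocallyOfFiniteType (Spec.map β ≫ ν₀)] [IsReduced (Spec B)]
    (hR : CAlg.IsNagata Γ(R, ⊤)) : IsFinite ν₀ := by
  obtain ⟨φ, hφ⟩ : ∃ φ : Γ(R, ⊤) ⟶ A', Spec.map φ = ν₀ ≫ R.isoSpec.hom :=
    ⟨Spec.preimage _, Spec.map_preimage _⟩
  have h1 : IsIntegralHom (Spec.map φ) := by rw [hφ]; infer_instance
  have h2 : LocallyOfFiniteType (Spec.map (φ ≫ β)) := by
    rw [Spec.map_comp, hφ, ← Category.assoc]; infer_instance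
  haveI h3 : _root_.IsReduced B := (affine_isReduced_iff B).1 inferInstance
  have hfin : IsFinite (Spec.map φ) := by
    rw [IsFinite.SpecMap_iff]
    exact finite_of_nagata_ring φ.hom β.hom (IsIntegralHom.SpecMap_iff.1 h1) hβ
      ((HasRingHomProperty.Spec_iff (P := @LocallyOfFiniteType)).1 h2) hR
  have : ν₀ = Spec.map φ ≫ R.isoSpec.inv := by
    rw [hφ, Category.assoc, Iso.hom_inv_id, Category.comp_id]
  rw [this]
  infer_instance

variable {S : Scheme.{u}}

/-- Over a Nagata base, the normalization in a reduced source of finite type is finite. -/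
theorem isFiniteMor_of_nagata {G H N : Sp S} (hH : IsAlgSpace H) (hN : IsAlgSpace N) {g : G ⟶ H}
    (hY : EtaleLocally (fun U => ∀ V : U.Opens, IsAffineOpen V → CAlg.IsNagata ↑Γ(U, V)) H)
    (hqs : IsQuasiSeparatedMor g) (hft : IsFiniteTypeMor g)
    (hX : EtaleLocally (fun U => IsReduced U) G) {ν : N ⟶ H} {f' : G ⟶ N}
    (hn : IsRelNormalization g ν f') : IsFiniteMor ν := by
  obtain ⟨hlft, hqc⟩ := hft
  obtain ⟨V, q, hqe, hqsurj, hNag⟩ := hY
  have hνrep : RepWith @IsIntegralHom ν :=
    repWith_of_affRep _ ((isIntegralMor_iff_affRep ν).1 hn.2.1)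
  have rep := hνrep.rep
  obtain ⟨M, μ, a, sqM⟩ : ∃ (M : Over S) (μ : M ⟶ V) (a : (yon S).obj M ⟶ N),
      IsPullback a ((yon S).map μ) ν q := ⟨_, rep.snd q, rep.fst q, rep.isPullback q⟩
  haveI hμint : IsIntegralHom μ.left := hνrep.property q a μ sqM
  have hae : RepWith @Etale a := (RepWith @Etale).of_isPullback sqM.flip hqe
  have has : RepWith @Surjective a := (RepWith @Surjective).of_isPullback sqM.flip hqsurj
  refine (finite_integral hH ν).2 hn.2.1 ?_
  refine locP_listed_of_one_chart @LocallyOfFiniteType (Or.inl rfl) hN hH ν a q μ hae has hqe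
    sqM.w ?_
  rw [IsZariskiLocalAtTarget.iff_of_openCover (P := @LocallyOfFiniteType) V.left.affineCover]
  intro i
  change LocallyOfFiniteType (pullback.snd μ.left (V.left.affineCover.f i))
  obtain ⟨A', B, β, s, ε, b, hW, j, hinj, hbe, hWl, -, hcommg, -⟩ :=
    exists_local_chart_open hH hN hqc hqs hn q hqe μ a sqM (V.left.affineCover.f i)
  haveI hB : IsReduced (Spec B) :=
    Groth.Agent.Helper16.AS.isReduced_of_etale_of_isReducedSp hX b hbe
  have hci : RepWith @Etale ((yon S).map (Over.homMk (V.left.affineCover.f i) rfl :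
      Over.mk (V.left.affineCover.f i ≫ V.hom) ⟶ V) ≫ q) :=
    (RepWith @Etale).comp_mem _ _ ((repWith_yon_map_iff _ _).2
      (inferInstance : Etale (V.left.affineCover.f i))) hqe
  have hlftW : LocallyOfFiniteType hW.left := hlft b _ hW hbe hci hcommg
  rw [hWl] at hlftW
  haveI := hlftW
  have hR : CAlg.IsNagata ↑Γ(V.left.affineCover.X i, ⊤) := by
    have h1 := hNag ((V.left.affineCover.f i) ''ᵁ ⊤)
      ((isAffineOpen_top _).image_of_isOpenImmersion (V.left.affineCover.f i))
    exact Groth.Agent.Helper7.Mono.isNagata_of_ringEquiv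
      ((V.left.affineCover.f i).appIso ⊤).commRingCatIsoToRingEquiv h1
  have hfin : IsFinite (ε.hom ≫ pullback.snd μ.left (V.left.affineCover.f i)) :=
    isFinite_of_nagata β hinj _ hR
  have : pullback.snd μ.left (V.left.affineCover.f i) =
      ε.inv ≫ (ε.hom ≫ pullback.snd μ.left (V.left.affineCover.f i)) := by
    rw [Iso.inv_hom_id_assoc]
  rw [this]
  infer_instance

end Groth.Agent.Helper15.Norm
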