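import Groth.Agent.Lib.Helper15.NormQf1

/-!
# Normalization and the quasi-finite locus, II: the local structure over a split chart
-/

set_option autoImplicit false
universe u w
open CategoryTheory CategoryTheory.Limits AlgebraicGeometry MorphismProperty Opposite
open AlgSp

namespace Groth.Agent.Helper15.Norm

variable {S : Scheme.{u}}

theorem isClosedImmersion_le_isImmersion :
    (@IsClosedImmersion : MorphismProperty Scheme.{u}) ≤ @IsImmersion :=
  fun _ _ g hg => by haveI : IsClosedImmersion g := hg; exact inferInstance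

/-- A retraction argument for morphisms of schemes. -/
theorem isOpenImmersion_of_retract {V M Z : Scheme.{u}} (ρ : V ⟶ M) (h₀ : M ⟶ Z) (i : V ⟶ Z)
    (r : Z ⟶ M) [IsOpenImmersion i] (h1 : ρ ≫ h₀ = i) (h2 : h₀ ≫ r = 𝟙 M) (h3 : i ≫ r = ρ) :
    IsOpenImmersion ρ := by
  let ρ' : V ⟶ pullback h₀ i := pullback.lift ρ (𝟙 V) (by rw [h1, Category.id_comp])
  have e1 : ρ' ≫ pullback.snd h₀ i = 𝟙 V := pullback.lift_snd _ _ _
  have e2 : pullback.snd h₀ i ≫ ρ' = 𝟙 _ := by
    apply pullback.hom_ext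
    · rw [Category.assoc, pullback.lift_fst, Category.id_comp, ← h3, ← Category.assoc,
        ← pullback.condition, Category.assoc, h2, Category.comp_id]
    · rw [Category.assoc, e1, Category.comp_id, Category.id_comp]
  haveI : IsIso ρ' := ⟨pullback.snd h₀ i, e1, e2⟩
  have : ρ = ρ' ≫ pullback.fst h₀ i := (pullback.lift_fst _ _ _).symm
  rw [this]
  infer_instance

/-- **Local structure of the normalization over a split étale chart.** If `jV : h_V ⟶ P` is an
open and closed immersion with `V` finite over `T₁`, then `V` is also open in the normalization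
`M₁` of `T₁` in `P`, and is its own inverse image. -/
theorem exists_open_of_split {P : Sp S} (hP : IsAlgSpace P) {T₁ Vo M₁ : Over S}
    (g₁ : P ⟶ (yon S).obj T₁) (ν₁ : M₁ ⟶ T₁) (f'₁ : P ⟶ (yon S).obj M₁)
    (hn₁ : IsRelNormalization g₁ ((yon S).map ν₁) f'₁)
    (ψ : Vo ⟶ T₁) (hψ : IsFinite ψ.left)
    (jV : (yon S).obj Vo ⟶ P) (hjV : jV ≫ g₁ = (yon S).map ψ)
    (hop : RepWith @IsOpenImmersion jV) (hcl : RepWith @IsClosedImmersion jV) :
    ∃ ρ : Vo ⟶ M₁, IsOpenImmersion ρ.left ∧ (yon S).map ρ = jV ≫ f'₁ ∧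
      IsPullback jV (𝟙 _) f'₁ ((yon S).map ρ) := by
  haveI : Mono jV := mono_of_repWith isOpenImmersion_le_mono jV hop
  have hν₁ : IsIntegralHom ν₁.left := isIntegralHom_of_isIntegralMor_yon ν₁ hn₁.2.1
  have hfac : f'₁ ≫ (yon S).map ν₁ = g₁ := hn₁.1
  have hclosed : IsClosed (Set.range (Points.map jV)) :=
    (repWith_isClosedImmersion_iff_isClosed_range hP jV
      (repWith_mono isClosedImmersion_le_isImmersion hcl)).1 hcl
  obtain ⟨Vc, jc, hVc, hjc, hrange⟩ := exists_open_subspace_of_isOpen hP _ hclosed.isOpen_compl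
  obtain ⟨ρ, hρ⟩ : ∃ ρ : Vo ⟶ M₁, (yon S).map ρ = jV ≫ f'₁ :=
    ⟨(yon S).preimage _, Functor.map_preimage _ _⟩
  have hρν : ρ ≫ ν₁ = ψ := (yon S).map_injective (by
    rw [Functor.map_comp, hρ, Category.assoc, hfac, hjV])
  -- the coproduct
  let Z : Over S := Over.mk (coprod.desc Vo.hom M₁.hom)
  let inl : Vo ⟶ Z := Over.homMk coprod.inl (coprod.inl_desc _ _)
  let inr : M₁ ⟶ Z := Over.homMk coprod.inr (coprod.inr_desc _ _)
  let ζ : Z ⟶ T₁ := Over.homMk (coprod.desc ψ.left ν₁.left) (by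
    apply coprod.hom_ext
    · change coprod.inl ≫ coprod.desc ψ.left ν₁.left ≫ T₁.hom = coprod.inl ≫ coprod.desc _ _
      rw [← Category.assoc, coprod.inl_desc, coprod.inl_desc, CategoryTheory.Over.w]
    · change coprod.inr ≫ coprod.desc ψ.left ν₁.left ≫ T₁.hom = coprod.inr ≫ coprod.desc _ _
      rw [← Category.assoc, coprod.inr_desc, coprod.inr_desc, CategoryTheory.Over.w])
  let r : Z ⟶ M₁ := Over.homMk (coprod.desc ρ.left (𝟙 _)) (by
    apply coprod.hom_ext
    · change coprod.inl ≫ coprod.desc ρ.left (𝟙 _) ≫ M₁.hom = coprod.inl ≫ coprod.desc _ _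
      rw [← Category.assoc, coprod.inl_desc, coprod.inl_desc, CategoryTheory.Over.w]
    · change coprod.inr ≫ coprod.desc ρ.left (𝟙 _) ≫ M₁.hom = coprod.inr ≫ coprod.desc _ _
      rw [← Category.assoc, coprod.inr_desc, coprod.inr_desc, Category.id_comp])
  have hinlζ : inl ≫ ζ = ψ := by
    ext : 1
    exact coprod.inl_desc _ _
  have hinrζ : inr ≫ ζ = ν₁ := by
    ext : 1
    exact coprod.inr_desc _ _
  have hinlr : inl ≫ r = ρ := by
    ext : 1
    exact coprod.inl_desc _ _
  have hinrr : inr ≫ r = 𝟙 M₁ := by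
    ext : 1
    exact coprod.inr_desc _ _
  have hrν : r ≫ ν₁ = ζ := by
    ext : 1
    apply coprod.hom_ext
    · change coprod.inl ≫ coprod.desc ρ.left (𝟙 _) ≫ ν₁.left = coprod.inl ≫ coprod.desc _ _
      rw [← Category.assoc, coprod.inl_desc, coprod.inl_desc, ← Over.comp_left, hρν]
    · change coprod.inr ≫ coprod.desc ρ.left (𝟙 _) ≫ ν₁.left = coprod.inr ≫ coprod.desc _ _
      rw [← Category.assoc, coprod.inr_desc, coprod.inr_desc, Category.id_comp]
  -- the glued map
  obtain ⟨χ, hχ1, hχ2⟩ := clopen_exists_desc jV jc hop hjc hrange ((yon S).map inl)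
    (jc ≫ f'₁ ≫ (yon S).map inr)
  have hχζ : χ ≫ (yon S).map ζ = g₁ := by
    refine clopen_hom_ext jV jc hop hjc hrange ?_ ?_
    · rw [← Category.assoc, hχ1, ← Functor.map_comp, hinlζ, hjV]
    · rw [← Category.assoc, hχ2, Category.assoc, Category.assoc, ← Functor.map_comp, hinrζ, hfac]
  have hχr : χ ≫ (yon S).map r = f'₁ := by
    refine clopen_hom_ext jV jc hop hjc hrange ?_ ?_
    · rw [← Category.assoc, hχ1, ← Functor.map_comp, hinlr, hρ]
    · rw [← Category.assoc, hχ2, Category.assoc, Category.assoc, ← Functor.map_comp, hinrr,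
        CategoryTheory.Functor.map_id, Category.comp_id]
  have hζint : IsIntegralMor ((yon S).map ζ) := by
    haveI := hν₁
    haveI := hψ
    have : IsIntegralHom ζ.left := by
      change IsIntegralHom (coprod.desc ψ.left ν₁.left)
      infer_instance
    exact (isIntegralMor_iff_affRep _).2 (affRep_of_repWith ((repWith_yon_map_iff _ ζ).2 this))
  obtain ⟨h, ⟨hh1, hh2⟩, -⟩ := hn₁.2.2 (IsAlgSpace.yon_obj Z) ((yon S).map ζ) χ hζint hχζ
  obtain ⟨h₀, rfl⟩ : ∃ h₀ : M₁ ⟶ Z, (yon S).map h₀ = h :=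
    ⟨(yon S).preimage h, Functor.map_preimage _ _⟩
  have hh₀r : h₀ ≫ r = 𝟙 M₁ := (yon S).map_injective (by
    refine norm_hom_ext hn₁ (IsAlgSpace.yon_obj M₁) hn₁.2.1 ?_ ?_ ?_
    · rw [Functor.map_comp, ← Category.assoc, hh1, hχr, CategoryTheory.Functor.map_id,
        Category.comp_id]
    · rw [Functor.map_comp, Category.assoc, ← Functor.map_comp, hrν, hh2]
    · rw [CategoryTheory.Functor.map_id, Category.id_comp])
  have hρh₀ : ρ ≫ h₀ = inl := (yon S).map_injective (by
    rw [Functor.map_comp, hρ, Category.assoc, hh1, hχ1])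
  have hopen : IsOpenImmersion ρ.left := by
    haveI : IsOpenImmersion inl.left := (inferInstance : IsOpenImmersion coprod.inl)
    refine isOpenImmersion_of_retract ρ.left h₀.left inl.left r.left ?_ ?_ ?_
    · rw [← Over.comp_left, hρh₀]
    · rw [← Over.comp_left, hh₀r]; rfl
    · rw [← Over.comp_left, hinlr]
  refine ⟨ρ, hopen, hρ, ⟨⟨by rw [Category.id_comp, hρ]⟩, ⟨?_⟩⟩⟩
  refine PullbackCone.IsLimit.mk _ (fun s => s.snd) (fun s => ?_) (fun s => Category.comp_id _)
    (fun s m _ hm => by rw [← hm, Category.comp_id])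
  -- the key factorisation
  have hw : s.fst ≫ f'₁ = s.snd ≫ (yon S).map ρ := s.condition
  have hχw : s.fst ≫ χ = s.snd ≫ (yon S).map inl := by
    rw [← hh1, ← Category.assoc, hw, Category.assoc, ← Functor.map_comp, hρh₀]
  obtain ⟨l, hl⟩ := (factors_through_open_iff jV hop s.fst).2 (by
    rintro _ ⟨p, rfl⟩
    by_contra hnot
    have hc : Points.map s.fst p ∈ Set.range (Points.map jc) := by rw [hrange]; exact hnot
    obtain ⟨c, hc⟩ := hc
    have e1 : Points.map χ (Points.map s.fst p) =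
        Points.map ((yon S).map inr) (Points.map (jc ≫ f'₁) c) := by
      rw [← hc, ← Points.map_comp, hχ2, ← Category.assoc, Points.map_comp]
    have e2 : Points.map χ (Points.map s.fst p) =
        Points.map ((yon S).map inl) (Points.map s.snd p) := by
      rw [← Points.map_comp, hχw, Points.map_comp]
    obtain ⟨m, hm⟩ := (Points.schemeEquiv M₁).surjective (Points.map (jc ≫ f'₁) c)
    obtain ⟨v', hv'⟩ := (Points.schemeEquiv Vo).surjective (Points.map s.snd p)
    rw [← hm] at e1
    rw [← hv'] at e2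
    change _ = Points.map _ (Points.ofScheme M₁ m) at e1
    change _ = Points.map _ (Points.ofScheme Vo v') at e2
    rw [← Points.ofPt_eq_map_ofScheme, ofPt_yon_map] at e1 e2
    have := (Points.schemeEquiv Z).injective (e2.symm.trans e1)
    exact AlgebraicGeometry.inl_ne_inr _ _ v' m this)
  have hls : l = s.snd := by
    haveI : Mono ((yon S).map inl) := by
      haveI : Mono inl.left := (inferInstance : Mono (coprod.inl : Vo.left ⟶ Vo.left ⨿ M₁.left))
      haveI : Mono inl := (Over.forget S).mono_of_mono_map ‹_›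
      infer_instance
    rw [← cancel_mono ((yon S).map inl), ← hχw, ← hl, Category.assoc, hχ1]
  rw [← hls, hl]

end Groth.Agent.Helper15.Norm
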