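import Groth.Agent.Lib.Helper15.NormExist3
import Groth.Agent.Lib.Helper15.LqfSepSch4
import Groth.Agent.Lib.Helper15.AlgSpFinite2
import Groth.Agent.Lib.Helper15.AlgSpQc
import Groth.Agent.S10298
import Mathlib.AlgebraicGeometry.ZariskisMainTheorem
import Mathlib.AlgebraicGeometry.QuasiAffine

/-!
# Zariski's main theorem for algebraic spaces via relative normalization
-/

set_option autoImplicit false
universe u w
open CategoryTheory CategoryTheory.Limits AlgebraicGeometry MorphismProperty Opposite
open AlgSp

namespace Groth.Agent.Helper15.Norm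

variable {S : Scheme.{u}}

/-- Descent of `RepWith P` along a jointly epimorphic family. -/
theorem repWith_of_jointlyEpi_base {F G : Sp S} (a : F ⟶ G) (ha : Representable a)
    {ι : Type w} {Hi Qi : ι → Sp S} (b : ∀ i, Hi i ⟶ G) (hb : JointlyEpi Hi b)
    (b' : ∀ i, Qi i ⟶ F) (a' : ∀ i, Qi i ⟶ Hi i) (sq : ∀ i, IsPullback (b' i) (a' i) a (b i))
    (P : MorphismProperty Scheme.{u}) [P.IsStableUnderBaseChange]
    [P.IsLocalAtTarget Scheme.fppfPrecoverage] (h : ∀ i, RepWith P (a' i)) : RepWith P a := by
  refine ⟨ha, fun T V g fst snd hsq => ?_⟩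
  obtain ⟨R₀, hR₀, hle⟩ := exists_fppf_presieve_of_mem_J _ (hb T g)
  change P snd.left
  refine MorphismProperty.IsLocalAtTarget.of_forall_pullbackSnd (P := P) hR₀ ?_
  intro T' i _ hi
  let T'' : Over S := Over.mk (i ≫ T.hom)
  let ι' : T'' ⟶ T := Over.homMk i
  obtain ⟨j, τ, hτb⟩ := hle i hi
  have sqW : IsPullback (pullback.fst snd ι') (pullback.snd snd ι') snd ι' :=
    IsPullback.of_hasPullback _ _
  have sqW' := sqW.map (yon S)
  have big := sqW'.paste_horiz hsq
  have hw : ((yon S).map (pullback.fst snd ι') ≫ fst) ≫ a =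
      ((yon S).map (pullback.snd snd ι') ≫ τ) ≫ b j := by
    simp only [Category.assoc]
    rw [hτb]
    simpa only [Category.assoc] using big.w
  have hl1 : (sq j).lift _ _ hw ≫ b' j = (yon S).map (pullback.fst snd ι') ≫ fst :=
    (sq j).lift_fst _ _ hw
  have hl2 : (sq j).lift _ _ hw ≫ a' j = (yon S).map (pullback.snd snd ι') ≫ τ :=
    (sq j).lift_snd _ _ hw
  have big' : IsPullback ((sq j).lift _ _ hw ≫ b' j) ((yon S).map (pullback.snd snd ι')) a
      (τ ≫ b j) := by
    rw [hl1, hτb]; exact big
  have left := IsPullback.of_right big' hl2 (sq j)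
  have hP : P (pullback.snd snd ι').left := (h j).property τ _ _ left
  have sqL := sqW.map (Over.forget S)
  have e := sqL.isoPullback_hom_snd
  have : P.RespectsIso := MorphismProperty.IsStableUnderBaseChange.respectsIso
  have hP' : P (sqL.isoPullback.hom ≫
      pullback.snd ((Over.forget S).map snd) ((Over.forget S).map ι')) := by
    rw [e]; exact hP
  exact (P.cancel_left_of_respectsIso _ _).1 hP'

/-- A morphism whose composite with a morphism with representable diagonal is representable is
representable. -/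
theorem representable_of_comp {X Y Z : Sp S} (f : X ⟶ Y) (g : Y ⟶ Z)
    (hg : Representable (pullback.diagonal g)) (hfg : Representable (f ≫ g)) :
    Representable f := by
  haveI : (Representable (S := S)).HasOfPostcompProperty (Representable (S := S)).diagonal :=
    hasOfPostcompProperty_iff_le_diagonal.2 le_rfl
  exact MorphismProperty.of_postcomp (W := Representable (S := S))
    (W' := (Representable (S := S)).diagonal) f g hg hfg

section Zmt

variable {X Y : Sp S} (hX : IsAlgSpace X) (hY : IsAlgSpace Y) (f : X ⟶ Y)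
  (hqf : LocP (@LocallyQuasiFinite ⊓ @LocallyOfFiniteType) f) (hqc : IsQuasiCompactMor f)
  (hsep : IsSeparatedMor f)

include hX hY hqf hqc hsep in
/-- The base change of a separated quasi-finite morphism to a scheme is a morphism of schemes to
which Zariski's main theorem applies. -/
theorem exists_zmt_chart {T : Over S} (z : (yon S).obj T ⟶ Y) :
    ∃ (X₀ : Over S) (φ : X₀ ⟶ T) (a₁ : (yon S).obj X₀ ⟶ X),
      IsPullback a₁ ((yon S).map φ) f z ∧ LocallyQuasiFinite φ.left ∧ LocallyOfFiniteType φ.left ∧
        IsSeparated φ.left ∧ QuasiCompact φ.left := by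
  have hrep := LqfSep.representable_of_lqf_separated hX hY f hqf hsep
  have h1 : RepWith (@LocallyQuasiFinite ⊓ @LocallyOfFiniteType) f :=
    repWith_of_locP goodP_lqf_lft hY f hrep hqf
  have h2 : RepWith @QuasiCompact f := repWith_quasiCompact_of_isQuasiCompactMor f hrep hqc
  have h3 : RepWith @IsSeparated f := (isSeparatedMor_iff_repWith hX hY f hrep).1 hsep
  have h1' := h1.property_snd z
  exact ⟨hrep.pullback z, hrep.snd z, hrep.fst z, hrep.isPullback z, h1'.1, h1'.2,
    h3.property_snd z, h2.property_snd z⟩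

include hX hY hqf hqc hsep in
/-- A quasi-compact separated locally quasi-finite morphism is quasi-affine. -/
theorem isQuasiAffineMor_of_lqf_separated : IsQuasiAffineMor f := by
  intro Z hZ z
  haveI := hZ
  obtain ⟨X₀, φ, a₁, sq, h1, h2, h3, h4⟩ := exists_zmt_chart hX hY f hqf hqc hsep z
  refine ⟨X₀, φ, a₁, sq, ?_⟩
  haveI := h1
  haveI := h2
  haveI := h3
  haveI := h4
  haveI : IsAffine φ.left.normalization := isAffine_of_isAffineHom φ.left.fromNormalization
  haveI : CompactSpace X₀.left := QuasiCompact.compactSpace_of_compactSpace φ.left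
  exact Scheme.IsQuasiAffine.of_isImmersion φ.left.toNormalization

include hX hY hqf hqc hsep in
/-- Over an étale affine chart, the map to the normalization is an open immersion. -/
theorem exists_openImmersion_chart {Y' : Sp S} (hY' : IsAlgSpace Y') (ν : Y' ⟶ Y) (f' : X ⟶ Y')
    (hs : IsSNorm f ν f') (o : Chart Y) :
    ∃ (Q : Sp S) (b' : Q ⟶ X) (a' : Q ⟶ pullback ν o.c),
      IsPullback b' a' f' (pullback.fst ν o.c) ∧ RepWith @IsOpenImmersion a' := by
  obtain ⟨X₀, φ, a₁, sqX, h1, h2, h3, h4⟩ := exists_zmt_chart hX hY f hqf hqc hsep o.c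
  haveI := h1
  haveI := h2
  haveI := h3
  haveI := h4
  have hfac := hs.1
  have sqN := IsPullback.of_hasPullback ν o.c
  -- the base change of the normalization
  let f'o : (yon S).obj X₀ ⟶ pullback ν o.c := pullback.lift (a₁ ≫ f') ((yon S).map φ)
    (by rw [Category.assoc, hfac, sqX.w])
  have k1 : f'o ≫ pullback.snd ν o.c = (yon S).map φ := pullback.lift_snd _ _ _
  have k2 : f'o ≫ pullback.fst ν o.c = a₁ ≫ f' := pullback.lift_fst _ _ _
  have hsm : RepWith @Smooth o.c := repWith_mono etale_le_smooth o.et
  have hn₂ : IsRelNormalization ((yon S).map φ) (pullback.snd ν o.c) f'o :=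
    hs.2.2 o.T o.c o.aff hsm _ _ _ _ _ sqX sqN k1 k2
  have hY'o : IsAlgSpace (pullback ν o.c) :=
    isAlgSpace_of_isPullback hY.diag hY' (IsAlgSpace.yon_obj _) sqN
  -- the normalization of schemes
  let Mo : Over S := Over.mk (φ.left.fromNormalization ≫ o.T.hom)
  let toN : X₀ ⟶ Mo := Over.homMk φ.left.toNormalization (by
    change φ.left.toNormalization ≫ φ.left.fromNormalization ≫ o.T.hom = X₀.hom
    rw [← Category.assoc, Scheme.Hom.toNormalization_fromNormalization, Over.w φ])
  let frN : Mo ⟶ o.T := Over.homMk φ.left.fromNormalization rfl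
  have hn₁ : IsRelNormalization ((yon S).map φ) ((yon S).map frN) ((yon S).map toN) :=
    Groth.Agent.S10298.result φ toN frN (Iso.refl _) (Category.comp_id _) (Category.id_comp _)
  obtain ⟨e, he1, he2⟩ := norm_exists_iso hn₁ (IsAlgSpace.yon_obj _) hn₂ hY'o
  refine ⟨(yon S).obj X₀, a₁, f'o, ?_, ?_⟩
  · refine IsPullback.of_bot ?_ k2.symm sqN
    rw [k1, hfac]
    exact sqX
  · rw [← he1]
    refine (RepWith @IsOpenImmersion).comp_mem _ _ ?_ (repWith_of_isIso _ _)
    rw [repWith_yon_map_iff]
    exact (inferInstance : IsOpenImmersion φ.left.toNormalization)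

include hX hY hqf hqc hsep in
/-- **Zariski's main theorem**: the map to the normalization is an open immersion. -/
theorem repWith_isOpenImmersion_toNorm {Y' : Sp S} (hY' : IsAlgSpace Y') (ν : Y' ⟶ Y)
    (f' : X ⟶ Y') (hn : IsRelNormalization f ν f') : RepWith @IsOpenImmersion f' := by
  have hrep := LqfSep.representable_of_lqf_separated hX hY f hqf hsep
  have hqs : IsQuasiSeparatedMor f := repWith_mono isClosedImmersion_le_quasiCompact hsep
  have hs := isSNorm_of_isRelNormalization' hY hY' hqc hqs hn
  have hνrep : RepWith @IsIntegralHom ν :=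
    repWith_of_affRep _ ((isIntegralMor_iff_affRep ν).1 hn.2.1)
  have hrepf' : Representable f' :=
    representable_of_comp f' ν (relativelyRepresentable_diagonal (yon S) ν hνrep.rep)
      (by rw [hn.1]; exact hrep)
  obtain ⟨ι, o, ho⟩ := exists_chart_family hY
  choose Q b' a' sq h using fun i =>
    exists_openImmersion_chart hX hY f hqf hqc hsep hY' ν f' hs (o i)
  exact repWith_of_jointlyEpi_base f' hrepf' (fun i => pullback.fst ν (o i).c)
    (ho.of_isPullback ν _ (fun i => pullback.snd ν (o i).c)
      (fun i => (IsPullback.of_hasPullback ν (o i).c).flip)) b' a' sq _ h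

end Zmt

end Groth.Agent.Helper15.Norm
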