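import Mathlib
import Groth.Prelude
import Groth.Agent.Lib.Helper15.OEtSH10

set_option autoImplicit false
set_option linter.unusedSectionVars false
set_option linter.unusedVariables false
set_option linter.style.haveILetI false

universe u

open CategoryTheory CategoryTheory.Limits AlgebraicGeometry Opposite AlgSp TensorProduct
open Groth.Agent.Helper15 Groth.Agent.Helper1.ASH IsLocalRing Groth.Agent.Helper1

namespace Groth.Agent.Helper15.OEtSH

variable {S : Scheme.{u}} {X : Sp S}

theorem main10239 (hX : IsAlgSpace X) (x : Points X) (n : ℕ) :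
    (((∀ (U : Over S) (a : (yon S).obj U ⟶ X) (u : ↥U.left),
        RepWith @Etale a → Points.ofPt a u = x →
          (minimalPrimes ↥(U.left.presheaf.stalk u)).encard ≤ n) ∧
        HasAt (fun U u => (minimalPrimes ↥(U.presheaf.stalk u)).encard = n) X x) ↔
      (∀ (U : Over S) (a : (yon S).obj U ⟶ X) (u : ↥U.left),
        RepWith @Etale a → Points.ofPt a u = x → Brnch.numGeomBranchesAt U.left u = n)) ∧
    ((∀ (U : Over S) (a : (yon S).obj U ⟶ X) (u : ↥U.left),
        RepWith @Etale a → Points.ofPt a u = x → Brnch.numGeomBranchesAt U.left u = n) ↔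
      ∀ p : FieldPt X, p.IsGeometric → Points.mk p = x →
        (minimalPrimes ↥(OEtStalk p)).encard = n) := by
  refine ⟨⟨?_, ?_⟩, ⟨?_, ?_⟩⟩
  · -- (1) ⇒ (4)
    rintro ⟨hle, U₁, a₁, u₁, ha₁, hu₁, heq⟩ U a u ha hu
    apply le_antisymm
    · rw [BrnchEt.numGeomBranchesAt_eq_iSup]
      refine iSup_le fun W => iSup_le fun g => iSup_le fun w => iSup_le fun h => ?_
      obtain ⟨hg, hgw⟩ := h
      haveI := hg
      rw [BrnchF.encard_components_eq_minimalPrimes_stalk]
      exact forall_etale_nbhd_of_forall_chart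
        (Q := fun U u => (minimalPrimes ↥(U.presheaf.stalk u)).encard ≤ n) hle U a ha u hu W g w hgw
    · have h1 : (n : ℕ∞) ≤ Brnch.numGeomBranchesAt U₁.left u₁ := by
        rw [← heq, ← BrnchF.encard_components_eq_minimalPrimes_stalk]
        exact BrnchEt.encard_components_le_numGeomBranchesAt U₁.left u₁
      have hat : HasAt (fun U u => Brnch.numGeomBranchesAt U u =
          Brnch.numGeomBranchesAt U₁.left u₁) X x := ⟨U₁, a₁, u₁, ha₁, hu₁, rfl⟩
      have h2 := hasAt_forall_chart (etInv_numGeomBranchesAt _) x hat U a u ha hu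
      rw [h2]
      exact h1
  · -- (4) ⇒ (1)
    intro h4
    have hle : ∀ (U : Over S) (a : (yon S).obj U ⟶ X) (u : ↥U.left),
        RepWith @Etale a → Points.ofPt a u = x →
          (minimalPrimes ↥(U.left.presheaf.stalk u)).encard ≤ n := by
      intro U a u ha hu
      rw [← h4 U a u ha hu, ← BrnchF.encard_components_eq_minimalPrimes_stalk]
      exact BrnchEt.encard_components_le_numGeomBranchesAt U.left u
    refine ⟨hle, ?_⟩
    obtain ⟨U, a, hae, has⟩ := hX.atlas
    obtain ⟨u, hu⟩ := surjective_ofPt a has x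
    have h1 := h4 U a u hae hu
    obtain ⟨W, g, w, hg, hgw, hnle⟩ :=
      BrnchEt.exists_etale_nbhd_of_natCast_le U.left u n (le_of_eq h1.symm)
    haveI := hg
    refine ⟨Over.mk (g ≫ U.hom),
      (yon S).map (Over.homMk g rfl : Over.mk (g ≫ U.hom) ⟶ U) ≫ a, w, ?_, ?_, ?_⟩
    · exact (RepWith @Etale).comp_mem _ _
        ((repWith_yon_map_iff _ _).2 (inferInstance : Etale g)) hae
    · rw [ofPt_comp_yon_map]
      change Points.ofPt a (g w) = x
      rw [hgw, hu]
    · change (minimalPrimes ↥(W.presheaf.stalk w)).encard = n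
      apply le_antisymm
      · exact forall_etale_nbhd_of_forall_chart
          (Q := fun U u => (minimalPrimes ↥(U.presheaf.stalk u)).encard ≤ n) hle U a hae u hu
          W g w hgw
      · rw [← BrnchF.encard_components_eq_minimalPrimes_stalk]
        exact hnle
  · -- (4) ⇒ (5)
    intro h4 p hp hpx
    obtain ⟨N0, hN0⟩ := exists_affine_nbhd p hX hp
    rw [encard_minimalPrimes_OEtStalk p hX hp N0]
    exact h4 N0.1.obj.left N0.1.obj.hom (pv p N0) N0.1.property
      ((ofPt_liftsTo p N0.2).trans hpx)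
  · -- (5) ⇒ (4)
    intro h5 U a u ha hu
    obtain ⟨p, hp, hpx⟩ := exists_geometric_point_mk x
    rw [← encard_minimalPrimes_OEtStalk_chart p hX hp U a ha u (hu.trans hpx.symm)]
    exact h5 p hp hpx

end Groth.Agent.Helper15.OEtSH
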