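import Mathlib
import Groth.Prelude
import Groth.Agent.Lib.Helper15.OEtSH6

set_option autoImplicit false
set_option linter.unusedSectionVars false
set_option linter.unusedVariables false
set_option linter.style.haveILetI false

universe u

open CategoryTheory CategoryTheory.Limits AlgebraicGeometry Opposite AlgSp TensorProduct
open Groth.Agent.Helper15 Groth.Agent.Helper1.ASH IsLocalRing

namespace Groth.Agent.Helper15.OEtSH

variable {S : Scheme.{u}} {X : Sp S}

theorem main10231 (hX : IsAlgSpace X) (hN : IsLocNoethSp X) :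
    EtaleLocally (fun U => IsLocallyNoetherian U ∧
        ∀ u : ↥U, IsRegularLocalRing ↥(U.presheaf.stalk u)) X ↔
      ∀ p : FieldPt X, p.IsGeometric → IsRegularLocalRing ↥(OEtStalk p) := by
  constructor
  · rintro ⟨U₀, p₀, hp₀e, hp₀s, -, hreg⟩ p hp
    obtain ⟨u₀, hu₀⟩ := surjective_ofPt p₀ hp₀s (Points.mk p)
    exact (isRegularLocalRing_OEtStalk_iff_chart p hX hp U₀ p₀ hp₀e u₀ hu₀).mpr (hreg u₀)
  · intro h
    obtain ⟨U, a, hae, has⟩ := hX.atlas
    refine ⟨U, a, hae, has, isLocallyNoetherian_of_etale_of_isLocNoethSp hN a hae, fun u => ?_⟩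
    obtain ⟨p, hp, hpx⟩ := exists_geometric_point_mk (Points.ofPt a u)
    exact (isRegularLocalRing_OEtStalk_iff_chart p hX hp U a hae u hpx.symm).mp (h p hp)

end Groth.Agent.Helper15.OEtSH
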