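import Mathlib
import Groth.Prelude

set_option autoImplicit false
set_option linter.unusedSectionVars false
set_option linter.unusedVariables false
set_option linter.style.haveILetI false

universe u

namespace Groth.Agent.Helper15.PIns

open TensorProduct IsLocalRing

/-- fraction form of "the residue field extension at `Q` is purely inseparable (radicial)" -/
def PIat (R C : Type u) [CommRing R] [CommRing C] [Algebra R C] (Q : Ideal C) (e : ℕ) : Prop :=
  ∀ c : C, ∃ (n : ℕ) (a b : R), algebraMap R C b ∉ Q ∧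
    algebraMap R C b * c ^ (e ^ n) - algebraMap R C a ∈ Q

/-- strong form (no denominators) -/
def SPI (R C : Type u) [CommRing R] [CommRing C] [Algebra R C] (Q : Ideal C) (e : ℕ) : Prop :=
  ∀ c : C, ∃ (n : ℕ) (l : R), c ^ (e ^ n) - algebraMap R C l ∈ Q

theorem SPI.pIat {R C : Type u} [CommRing R] [CommRing C] [Algebra R C] {Q : Ideal C} {e : ℕ}
    (hQ : Q ≠ ⊤) (h : SPI R C Q e) : PIat R C Q e := by
  intro c
  obtain ⟨n, l, hl⟩ := h c
  refine ⟨n, l, 1, ?_, ?_⟩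
  · rw [map_one]
    exact fun h1 => hQ ((Ideal.eq_top_iff_one _).mpr h1)
  · rwa [map_one, one_mul]

section W

variable (R C L : Type u) [CommRing R] [CommRing C] [CommRing L] [Algebra R C] [Algebra R L]
  [IsLocalRing L]

theorem exists_pow_sub_mem (Q : Ideal C) (e : ℕ) [ExpChar (ResidueField L) e]
    (hL : ∀ b : R, algebraMap R C b ∉ Q → IsUnit (algebraMap R L b))
    (hPI : PIat R C Q e) (J : Ideal (L ⊗[R] C))
    (hJ1 : ∀ c ∈ Q, (1 : L) ⊗ₜ[R] c ∈ J)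
    (hJ2 : ∀ l ∈ maximalIdeal L, l ⊗ₜ[R] (1 : C) ∈ J) (hJtop : J ≠ ⊤) :
    ∀ x : L ⊗[R] C, ∃ (n : ℕ) (l : L), x ^ (e ^ n) - l ⊗ₜ[R] (1 : C) ∈ J := by
  haveI : Nontrivial ((L ⊗[R] C) ⧸ J) := Ideal.Quotient.nontrivial_iff.mpr hJtop
  let ιL : L →+* (L ⊗[R] C) ⧸ J :=
    (Ideal.Quotient.mk J).comp (Algebra.TensorProduct.includeLeftRingHom)
  have hιL : ∀ l, ιL l = Ideal.Quotient.mk J (l ⊗ₜ[R] (1 : C)) := fun l => rfl
  have hkill : ∀ l ∈ maximalIdeal L, ιL l = 0 := by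
    intro l hl
    rw [hιL, Ideal.Quotient.eq_zero_iff_mem]
    exact hJ2 l hl
  let κ : ResidueField L →+* (L ⊗[R] C) ⧸ J := Ideal.Quotient.lift (maximalIdeal L) ιL hkill
  haveI : ExpChar ((L ⊗[R] C) ⧸ J) e := expChar_of_injective_ringHom κ.injective e
  suffices H : ∀ x : L ⊗[R] C, ∃ (n : ℕ) (l : L), (Ideal.Quotient.mk J x) ^ (e ^ n) = ιL l by
    intro x
    obtain ⟨n, l, h⟩ := H x
    refine ⟨n, l, ?_⟩
    rw [← Ideal.Quotient.eq_zero_iff_mem, map_sub, map_pow, h, hιL, sub_self]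
  intro x
  induction x using TensorProduct.induction_on with
  | zero =>
    refine ⟨0, 0, ?_⟩
    rw [map_zero, map_zero, pow_zero, pow_one]
  | tmul l c =>
    obtain ⟨n, a, b, hb, hab⟩ := hPI c
    obtain ⟨u, hu⟩ := (hL b hb).exists_right_inv
    refine ⟨n, l ^ (e ^ n) * (algebraMap R L a * u), ?_⟩
    have h1 : Ideal.Quotient.mk J ((1 : L) ⊗ₜ[R] (algebraMap R C b * c ^ (e ^ n) - algebraMap R C a)) = 0 :=
      Ideal.Quotient.eq_zero_iff_mem.mpr (hJ1 _ hab)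
    have e1 : ∀ (r : R) (x : C), (1 : L) ⊗ₜ[R] (algebraMap R C r * x) =
        (algebraMap R L r) ⊗ₜ[R] x := by
      intro r x
      rw [← Algebra.smul_def, ← TensorProduct.smul_tmul, Algebra.smul_def, mul_one]
    have h2 : (1 : L) ⊗ₜ[R] (algebraMap R C b * c ^ (e ^ n) - algebraMap R C a) =
        (algebraMap R L b ⊗ₜ[R] (1 : C)) * ((1 : L) ⊗ₜ[R] c) ^ (e ^ n) -
          (algebraMap R L a) ⊗ₜ[R] (1 : C) := by
      rw [Algebra.TensorProduct.tmul_pow, one_pow, Algebra.TensorProduct.tmul_mul_tmul, mul_one,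
        one_mul, TensorProduct.tmul_sub, e1]
      congr 1
      have := e1 a 1
      rwa [mul_one] at this
    rw [h2, map_sub, map_mul, map_pow, sub_eq_zero] at h1
    have h3 : (Ideal.Quotient.mk J ((1 : L) ⊗ₜ[R] c)) ^ (e ^ n) = ιL (algebraMap R L a * u) := by
      have h4 : ιL (algebraMap R L b) * ιL u = 1 := by rw [← map_mul, hu, map_one]
      calc (Ideal.Quotient.mk J ((1 : L) ⊗ₜ[R] c)) ^ (e ^ n)
          = (ιL (algebraMap R L b) * ιL u) * (Ideal.Quotient.mk J ((1 : L) ⊗ₜ[R] c)) ^ (e ^ n) := by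
            rw [h4, one_mul]
        _ = ιL u * (ιL (algebraMap R L b) * (Ideal.Quotient.mk J ((1 : L) ⊗ₜ[R] c)) ^ (e ^ n)) := by
            ring
        _ = ιL u * ιL (algebraMap R L a) := by rw [hιL (algebraMap R L b), h1, ← hιL]
        _ = ιL (algebraMap R L a * u) := by rw [← map_mul, mul_comm]
    have h5 : l ⊗ₜ[R] c = (l ⊗ₜ[R] (1 : C)) * ((1 : L) ⊗ₜ[R] c) := by
      rw [Algebra.TensorProduct.tmul_mul_tmul, mul_one, one_mul]
    rw [h5, map_mul, mul_pow, h3, ← hιL, ← map_pow, ← map_mul]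
  | add x y hx hy =>
    obtain ⟨n, l, hx⟩ := hx
    obtain ⟨m, l', hy⟩ := hy
    refine ⟨n + m, l ^ (e ^ m) + l' ^ (e ^ n), ?_⟩
    have hx' : (Ideal.Quotient.mk J x) ^ (e ^ (n + m)) = ιL (l ^ (e ^ m)) := by
      rw [pow_add, pow_mul, hx, map_pow]
    have hy' : (Ideal.Quotient.mk J y) ^ (e ^ (n + m)) = ιL (l' ^ (e ^ n)) := by
      rw [pow_add, mul_comm, pow_mul, hy, map_pow]
    rw [map_add, add_pow_expChar_pow, hx', hy', map_add]


/-- uniqueness of the prime of `L ⊗ C` over `Q` and `𝔪_L` -/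
theorem prime_unique (Q : Ideal C) (e : ℕ) [ExpChar (ResidueField L) e]
    (hL : ∀ b : R, algebraMap R C b ∉ Q → IsUnit (algebraMap R L b))
    (hPI : PIat R C Q e) (P₁ P₂ : Ideal (L ⊗[R] C)) [P₁.IsPrime] [P₂.IsPrime]
    (h1Q : ∀ c ∈ Q, (1 : L) ⊗ₜ[R] c ∈ P₁) (h2Q : ∀ c ∈ Q, (1 : L) ⊗ₜ[R] c ∈ P₂)
    (h1L : ∀ l : L, l ⊗ₜ[R] (1 : C) ∈ P₁ ↔ l ∈ maximalIdeal L)
    (h2L : ∀ l : L, l ⊗ₜ[R] (1 : C) ∈ P₂ ↔ l ∈ maximalIdeal L) : P₁ = P₂ := by
  have key : ∀ (P P' : Ideal (L ⊗[R] C)) [P.IsPrime] [P'.IsPrime],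
      (∀ c ∈ Q, (1 : L) ⊗ₜ[R] c ∈ P) → (∀ c ∈ Q, (1 : L) ⊗ₜ[R] c ∈ P') →
      (∀ l : L, l ⊗ₜ[R] (1 : C) ∈ P ↔ l ∈ maximalIdeal L) →
      (∀ l : L, l ⊗ₜ[R] (1 : C) ∈ P' ↔ l ∈ maximalIdeal L) → P ≤ P' := by
    intro P P' hP hP' hQ hQ' hLL hLL' x hx
    have hJtop : P ⊓ P' ≠ ⊤ := fun h => hP.ne_top (top_le_iff.mp (h ▸ inf_le_left))
    obtain ⟨n, l, hl⟩ := exists_pow_sub_mem R C L Q e hL hPI (P ⊓ P')
      (fun c hc => ⟨hQ c hc, hQ' c hc⟩)
      (fun l hl => ⟨(hLL l).mpr hl, (hLL' l).mpr hl⟩) hJtop x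
    have h1 : l ⊗ₜ[R] (1 : C) ∈ P := by
      have := P.sub_mem (P.pow_mem_of_mem hx (e ^ n) (pow_pos (expChar_pos (ResidueField L) e) n)) hl.1
      rwa [sub_sub_cancel] at this
    have h2 : l ⊗ₜ[R] (1 : C) ∈ P' := (hLL' l).mpr ((hLL l).mp h1)
    have h3 : x ^ (e ^ n) ∈ P' := by
      have := P'.add_mem hl.2 h2
      rwa [sub_add_cancel] at this
    exact hP'.mem_of_pow_mem _ h3
  exact le_antisymm (key P₁ P₂ h1Q h2Q h1L h2L) (key P₂ P₁ h2Q h1Q h2L h1L)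

/-- the strong radicial condition for the base change -/
theorem sPI_tensor (Q : Ideal C) (e : ℕ) [ExpChar (ResidueField L) e]
    (hL : ∀ b : R, algebraMap R C b ∉ Q → IsUnit (algebraMap R L b))
    (hPI : PIat R C Q e) (P : Ideal (L ⊗[R] C)) [P.IsPrime]
    (hQ : ∀ c ∈ Q, (1 : L) ⊗ₜ[R] c ∈ P)
    (hLL : ∀ l ∈ maximalIdeal L, l ⊗ₜ[R] (1 : C) ∈ P) : SPI L (L ⊗[R] C) P e := by
  intro x
  obtain ⟨n, l, hl⟩ := exists_pow_sub_mem R C L Q e hL hPI P hQ hLL (Ideal.IsPrime.ne_top ‹_›) x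
  exact ⟨n, l, hl⟩

end W


section Transfer

theorem PIat.raise {R C : Type u} [CommRing R] [CommRing C] [Algebra R C] {Q : Ideal C}
    [Q.IsPrime] {e : ℕ} {c : C} {n : ℕ} {a b : R} (hb : algebraMap R C b ∉ Q)
    (hab : algebraMap R C b * c ^ (e ^ n) - algebraMap R C a ∈ Q) (k : ℕ) :
    algebraMap R C (b ^ (e ^ k)) ∉ Q ∧
      algebraMap R C (b ^ (e ^ k)) * c ^ (e ^ (n + k)) - algebraMap R C (a ^ (e ^ k)) ∈ Q := by
  refine ⟨?_, ?_⟩
  · rw [map_pow]
    exact fun h => hb (Ideal.IsPrime.mem_of_pow_mem ‹_› _ h)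
  · have h1 : algebraMap R C (b ^ (e ^ k)) * c ^ (e ^ (n + k)) - algebraMap R C (a ^ (e ^ k)) =
        (algebraMap R C b * c ^ (e ^ n)) ^ (e ^ k) - (algebraMap R C a) ^ (e ^ k) := by
      rw [map_pow, map_pow, mul_pow, ← pow_mul, pow_add]
    rw [h1]
    exact Ideal.mem_of_dvd _ (sub_dvd_pow_sub_pow _ _ _) hab

/-- the radicial condition passes to an extension with trivial residue field extension -/
theorem pIat_of_ew {R S C : Type u} [CommRing R] [CommRing S] [CommRing C] [Algebra R S]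
    [Algebra S C] [Algebra R C] [IsScalarTower R S C]
    (Q : Ideal C) [Q.IsPrime] (q : Ideal S) [q.IsPrime] (hq : q = Q.comap (algebraMap S C))
    (e : ℕ)
    (hew : ∀ a' b' : C, b' ∉ Q → ∃ a b : S, b ∉ q ∧
      a' * algebraMap S C b - b' * algebraMap S C a ∈ Q)
    (h : PIat R S q e) : PIat R C Q e := by
  intro c
  obtain ⟨a, b, hb, hab⟩ := hew c 1 (fun h1 => Ideal.IsPrime.ne_top ‹_› ((Ideal.eq_top_iff_one _).mpr h1))
  obtain ⟨n₁, α₁, β₁, hβ₁, h₁⟩ := h a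
  obtain ⟨n₂, α₂, β₂, hβ₂, h₂⟩ := h b
  obtain ⟨hβ₁', h₁'⟩ := PIat.raise hβ₁ h₁ n₂
  obtain ⟨hβ₂', h₂'⟩ := PIat.raise hβ₂ h₂ n₁
  rw [Nat.add_comm n₂ n₁] at h₂'
  have hmem : ∀ s : S, algebraMap S C s ∈ Q ↔ s ∈ q := fun s => by rw [hq]; rfl
  have hπ : ∀ x : C, Ideal.Quotient.mk Q x = 0 ↔ x ∈ Q := fun x => Ideal.Quotient.eq_zero_iff_mem
  haveI : IsDomain (C ⧸ Q) := Ideal.Quotient.isDomain Q
  have hRC : ∀ r : R, algebraMap R C r = algebraMap S C (algebraMap R S r) := fun r =>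
    IsScalarTower.algebraMap_apply R S C r
  -- notation in the quotient
  have hXB : Ideal.Quotient.mk Q c * Ideal.Quotient.mk Q (algebraMap S C b) =
      Ideal.Quotient.mk Q (algebraMap S C a) := by
    have := (hπ _).mpr hab
    rwa [map_sub, map_mul, map_mul, map_one, one_mul, sub_eq_zero] at this
  have e1 : Ideal.Quotient.mk Q (algebraMap S C (algebraMap R S (β₁ ^ e ^ n₂) *
      a ^ e ^ (n₁ + n₂) - algebraMap R S (α₁ ^ e ^ n₂))) = 0 := (hπ _).mpr ((hmem _).mpr h₁')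
  have e2 : Ideal.Quotient.mk Q (algebraMap S C (algebraMap R S (β₂ ^ e ^ n₁) *
      b ^ e ^ (n₁ + n₂) - algebraMap R S (α₂ ^ e ^ n₁))) = 0 := (hπ _).mpr ((hmem _).mpr h₂')
  simp only [map_sub, map_mul, map_pow, sub_eq_zero] at e1 e2
  have hB0 : Ideal.Quotient.mk Q (algebraMap S C b) ≠ 0 := fun h0 =>
    hb ((hmem _).mp ((hπ _).mp h0))
  have hb1 : Ideal.Quotient.mk Q (algebraMap S C (algebraMap R S β₁)) ≠ 0 := fun h0 =>
    hβ₁ ((hmem _).mp ((hπ _).mp h0))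
  have hb2 : Ideal.Quotient.mk Q (algebraMap S C (algebraMap R S β₂)) ≠ 0 := fun h0 =>
    hβ₂ ((hmem _).mp ((hπ _).mp h0))
  have ha2 : (Ideal.Quotient.mk Q (algebraMap S C (algebraMap R S α₂))) ^ e ^ n₁ ≠ 0 := by
    rw [← e2]
    exact mul_ne_zero (pow_ne_zero _ hb2) (pow_ne_zero _ hB0)
  refine ⟨n₁ + n₂, β₂ ^ e ^ n₁ * α₁ ^ e ^ n₂, α₂ ^ e ^ n₁ * β₁ ^ e ^ n₂, ?_, ?_⟩
  · intro hmem'
    have := (hπ _).mpr hmem'
    rw [hRC] at this
    simp only [map_mul, map_pow] at this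
    exact mul_ne_zero ha2 (pow_ne_zero _ hb1) this
  · rw [← hπ, hRC, hRC]
    simp only [map_sub, map_mul, map_pow]
    rw [sub_eq_zero, ← e2, ← e1, ← hXB, mul_pow]
    ring

/-- over a local base (in which the elements outside `Q` are units) the radicial condition has no
denominators -/
theorem sPI_of_pIat {R C : Type u} [CommRing R] [CommRing C] [Algebra R C] (Q : Ideal C) (e : ℕ)
    (hunit : ∀ b : R, algebraMap R C b ∉ Q → IsUnit b) (h : PIat R C Q e) : SPI R C Q e := by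
  intro c
  obtain ⟨n, a, b, hb, hab⟩ := h c
  obtain ⟨u, hu⟩ := (hunit b hb).exists_left_inv
  refine ⟨n, u * a, ?_⟩
  have h1 : c ^ (e ^ n) - algebraMap R C (u * a) =
      algebraMap R C u * (algebraMap R C b * c ^ (e ^ n) - algebraMap R C a) := by
    have h2 : algebraMap R C u * algebraMap R C b = 1 := by rw [← map_mul, hu, map_one]
    rw [mul_sub, ← mul_assoc, h2, one_mul, map_mul]
  rw [h1]
  exact Q.mul_mem_left _ hab

end Transfer

section Source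

/-- the hypothesis of the statement, in elementary form -/
theorem pIat_of_isPurelyInseparable {R S : Type u} [CommRing R] [CommRing S] [Algebra R S]
    (q : Ideal S) [q.IsPrime] (p : Ideal R) [p.IsPrime] [q.LiesOver p]
    (hpi : @IsPurelyInseparable p.ResidueField q.ResidueField _ _
      (Ideal.ResidueField.mapₐ p q (Algebra.ofId R S) (q.over_def p)).toRingHom.toAlgebra)
    (e : ℕ) [ExpChar p.ResidueField e] : PIat R S q e := by
  letI : Algebra p.ResidueField q.ResidueField :=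
    (Ideal.ResidueField.mapₐ p q (Algebra.ofId R S) (q.over_def p)).toRingHom.toAlgebra
  haveI := hpi
  intro s
  obtain ⟨n, y, hy⟩ := IsPurelyInseparable.pow_mem p.ResidueField e
    (algebraMap S q.ResidueField s)
  obtain ⟨l, rfl⟩ := IsLocalRing.residue_surjective y
  obtain ⟨a, b, rfl⟩ := IsLocalization.exists_mk'_eq p.primeCompl l
  have hφ : ∀ r : R, algebraMap p.ResidueField q.ResidueField (algebraMap R p.ResidueField r) =
      algebraMap S q.ResidueField (algebraMap R S r) := by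
    intro r
    show Ideal.ResidueField.map p q _ _ (algebraMap R p.ResidueField r) = _
    rw [Ideal.ResidueField.map_algebraMap]
    rfl
  have h1 : algebraMap R p.ResidueField (b : R) *
      IsLocalRing.residue _ (IsLocalization.mk' (Localization.AtPrime p) a b) =
      algebraMap R p.ResidueField a := by
    rw [IsScalarTower.algebraMap_apply R (Localization.AtPrime p) p.ResidueField,
      IsScalarTower.algebraMap_apply R (Localization.AtPrime p) p.ResidueField]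
    show IsLocalRing.residue _ _ * IsLocalRing.residue _ _ = IsLocalRing.residue _ _
    rw [← map_mul, IsLocalization.mk'_spec']
  have h2 := congrArg (algebraMap p.ResidueField q.ResidueField) h1
  rw [map_mul, hφ, hφ, hy, ← map_pow, ← map_mul] at h2
  refine ⟨n, a, b, ?_, ?_⟩
  · intro hmem
    have : (b : R) ∈ q.under R := hmem
    rw [← q.over_def p] at this
    exact b.2 this
  · rw [← Ideal.algebraMap_residueField_eq_zero, map_sub, h2, sub_self]

end Source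

end Groth.Agent.Helper15.PIns
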