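import Mathlib
import Groth.Prelude
import Groth.Agent.Lib.Helper15.PIns1
import Groth.Agent.Lib.Helper16.Alg.NormalSmooth

set_option autoImplicit false
set_option linter.unusedSectionVars false
set_option linter.unusedVariables false
set_option linter.style.haveILetI false

universe u

namespace Groth.Agent.Helper15.PIns

open TensorProduct IsLocalRing

attribute [local instance] Algebra.TensorProduct.rightAlgebra

section V0

variable (D D' B : Type u) [CommRing D] [IsDomain D] [CommRing D'] [IsDomain D']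
  [IsIntegrallyClosed D'] [Algebra D D'] [Algebra.IsIntegral D D']
  [CommRing B] [Algebra D B] [Algebra.Smooth D B]

theorem isIntegral_rightAlgebra : Algebra.IsIntegral B (D' ⊗[D] B) := by
  refine ⟨fun x => ?_⟩
  induction x using TensorProduct.induction_on with
  | zero => exact isIntegral_zero
  | tmul d b =>
    have h1 : d ⊗ₜ[D] b = (algebraMap B (D' ⊗[D] B) b) * (d ⊗ₜ[D] (1 : B)) := by
      show d ⊗ₜ[D] b = ((1 : D') ⊗ₜ[D] b) * (d ⊗ₜ[D] (1 : B))
      rw [Algebra.TensorProduct.tmul_mul_tmul, one_mul, mul_one]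
    rw [h1]
    refine IsIntegral.mul isIntegral_algebraMap ?_
    have hd : IsIntegral D d := Algebra.IsIntegral.isIntegral d
    refine hd.map_of_comp_eq (algebraMap D B)
      (Algebra.TensorProduct.includeLeftRingHom : D' →+* D' ⊗[D] B) ?_
    ext r
    show (1 : D') ⊗ₜ[D] (algebraMap D B r) = (algebraMap D D' r) ⊗ₜ[D] (1 : B)
    rw [Algebra.algebraMap_eq_smul_one, Algebra.algebraMap_eq_smul_one, TensorProduct.smul_tmul]
  | add x y hx hy => exact hx.add hy

theorem isDomain_localization_of_unique (hinj : Function.Injective (algebraMap D D'))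
    (P : Ideal B) [P.IsPrime]
    (huniq : ∀ P₁ P₂ : Ideal (D' ⊗[D] B), P₁.IsPrime → P₂.IsPrime →
      P₁.comap (algebraMap B (D' ⊗[D] B)) = P → P₂.comap (algebraMap B (D' ⊗[D] B)) = P →
      P₁ = P₂) :
    IsDomain (Localization.AtPrime P) := by
  haveI : Module.Flat D B := inferInstance
  haveI hint : Algebra.IsIntegral B (D' ⊗[D] B) := isIntegral_rightAlgebra D D' B
  have hιinj : Function.Injective (algebraMap B (D' ⊗[D] B)) :=
    Algebra.TensorProduct.includeRight_injective hinj
  -- the prime over `P`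
  obtain ⟨P', -, hP'prime, hP'⟩ := Ideal.exists_ideal_over_prime_of_isIntegral P
    (⊥ : Ideal (D' ⊗[D] B)) (by
      rw [← RingHom.ker_eq_comap_bot, (RingHom.injective_iff_ker_eq_bot _).mp hιinj]
      exact bot_le)
  haveI := hP'prime
  -- the localization at the image of `B ∖ P`
  let M : Submonoid (D' ⊗[D] B) := P.primeCompl.map (algebraMap B (D' ⊗[D] B))
  have hMle : M ≤ P'.primeCompl := by
    rintro _ ⟨s, hs, rfl⟩ hmem
    have : s ∈ P'.comap (algebraMap B (D' ⊗[D] B)) := hmem
    rw [hP'] at this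
    exact hs this
  have hunits : ∀ r ∈ P'.primeCompl, IsUnit (algebraMap (D' ⊗[D] B) (Localization M) r) := by
    intro r hr
    by_contra hnu
    obtain ⟨𝔪, h𝔪, hr𝔪⟩ := exists_max_ideal_of_mem_nonunits (mem_nonunits_iff.mpr hnu)
    haveI := h𝔪.isPrime
    have hle : (𝔪.comap (algebraMap (D' ⊗[D] B) (Localization M))).comap
        (algebraMap B (D' ⊗[D] B)) ≤ P := by
      intro b hb
      by_contra hbP
      have h1 : IsUnit (algebraMap (D' ⊗[D] B) (Localization M) (algebraMap B (D' ⊗[D] B) b)) :=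
        IsLocalization.map_units (Localization M) (⟨_, ⟨b, hbP, rfl⟩⟩ : M)
      exact h𝔪.ne_top (Ideal.eq_top_of_isUnit_mem _ hb h1)
    obtain ⟨Q', hQ'ge, hQ'prime, hQ'⟩ := Ideal.exists_ideal_over_prime_of_isIntegral_of_isPrime P
      (𝔪.comap (algebraMap (D' ⊗[D] B) (Localization M))) hle
    have : Q' = P' := huniq Q' P' hQ'prime hP'prime hQ' hP'
    exact hr (this ▸ hQ'ge hr𝔪)
  haveI hAt : IsLocalization.AtPrime (Localization M) P' :=
    IsLocalization.of_le (M := M) (S := Localization M) P'.primeCompl hMle hunits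
  haveI : IsLocalRing (Localization M) := IsLocalization.AtPrime.isLocalRing (Localization M) P'
  haveI : IsDomain (Localization M) :=
    (Groth.Agent.Helper16.NormalSmooth.normal_of_smooth_localization D' (D' ⊗[D] B)
      (Localization M) M).1
  have hj := IsLocalization.map_injective_of_injective (M := P.primeCompl)
    (S := Localization.AtPrime P) (Q := Localization M) hιinj
  exact hj.isDomain (IsLocalization.map (Localization M) (algebraMap B (D' ⊗[D] B))
    P.primeCompl.le_comap_map)

end V0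


section V

variable (D D' B : Type u) [CommRing D] [IsDomain D] [IsLocalRing D] [CommRing D'] [IsDomain D']
  [IsIntegrallyClosed D'] [IsLocalRing D'] [Algebra D D'] [Algebra.IsIntegral D D']
  [CommRing B] [Algebra D B] [Algebra.Smooth D B]

theorem tmul_one_mem_iff (P : Ideal B) [P.IsPrime]
    (hPm : ∀ d ∈ maximalIdeal D, algebraMap D B d ∈ P)
    (P₁ : Ideal (D' ⊗[D] B)) [P₁.IsPrime] (hc : P₁.comap (algebraMap B (D' ⊗[D] B)) = P)
    (l : D') : l ⊗ₜ[D] (1 : B) ∈ P₁ ↔ l ∈ maximalIdeal D' := by
  have hprime : (P₁.comap (Algebra.TensorProduct.includeLeftRingHom : D' →+* D' ⊗[D] B)).IsPrime :=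
    Ideal.comap_isPrime _ _
  have hle : maximalIdeal D ≤ (P₁.comap
      (Algebra.TensorProduct.includeLeftRingHom : D' →+* D' ⊗[D] B)).comap (algebraMap D D') := by
    intro d hd
    show (algebraMap D D' d) ⊗ₜ[D] (1 : B) ∈ P₁
    have h1 : (algebraMap D D' d) ⊗ₜ[D] (1 : B) = algebraMap B (D' ⊗[D] B) (algebraMap D B d) := by
      show _ = (1 : D') ⊗ₜ[D] (algebraMap D B d)
      rw [Algebra.algebraMap_eq_smul_one, Algebra.algebraMap_eq_smul_one, TensorProduct.smul_tmul]
    rw [h1]
    have : algebraMap D B d ∈ P₁.comap (algebraMap B (D' ⊗[D] B)) := hc ▸ hPm d hd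
    exact this
  have hmax : ((P₁.comap
      (Algebra.TensorProduct.includeLeftRingHom : D' →+* D' ⊗[D] B)).comap
        (algebraMap D D')).IsMaximal := by
    have hne : (P₁.comap
      (Algebra.TensorProduct.includeLeftRingHom : D' →+* D' ⊗[D] B)).comap (algebraMap D D') ≠ ⊤ :=
      (Ideal.comap_isPrime _ _).ne_top
    rw [← (IsLocalRing.maximalIdeal.isMaximal D).eq_of_le hne hle]
    exact IsLocalRing.maximalIdeal.isMaximal D
  have hmax' := Ideal.isMaximal_of_isIntegral_of_isMaximal_comap
    (P₁.comap (Algebra.TensorProduct.includeLeftRingHom : D' →+* D' ⊗[D] B)) hmax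
  have heq := IsLocalRing.eq_maximalIdeal hmax'
  rw [← heq]
  rfl

theorem isDomain_localization_of_pIat (hinj : Function.Injective (algebraMap D D'))
    (P : Ideal B) [P.IsPrime] (hPm : ∀ d ∈ maximalIdeal D, algebraMap D B d ∈ P)
    (e : ℕ) [ExpChar (ResidueField D') e] (hPI : PIat D B P e) :
    IsDomain (Localization.AtPrime P) := by
  apply isDomain_localization_of_unique D D' B hinj P
  intro P₁ P₂ h₁ h₂ hc₁ hc₂
  haveI := h₁
  haveI := h₂
  have hL : ∀ b : D, algebraMap D B b ∉ P → IsUnit (algebraMap D D' b) := by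
    intro b hb
    have : IsUnit b := by
      by_contra hnu
      exact hb (hPm b ((mem_maximalIdeal b).mpr hnu))
    exact this.map _
  refine prime_unique D B D' P e hL hPI P₁ P₂ ?_ ?_
    (tmul_one_mem_iff D D' B P hPm P₁ hc₁) (tmul_one_mem_iff D D' B P hPm P₂ hc₂)
  · intro c hc
    have : c ∈ P₁.comap (algebraMap B (D' ⊗[D] B)) := hc₁ ▸ hc
    exact this
  · intro c hc
    have : c ∈ P₂.comap (algebraMap B (D' ⊗[D] B)) := hc₂ ▸ hc
    exact this

end V

end Groth.Agent.Helper15.PIns
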