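import Mathlib
import Groth.Prelude
import Groth.Agent.Lib.Helper15.PIns2
import Groth.Agent.Lib.Helper15.GUPunct2
import Groth.Agent.Lib.Helper1.UB3
import Groth.Agent.Lib.Helper1.IH1

set_option autoImplicit false
set_option linter.unusedSectionVars false
set_option linter.unusedVariables false
set_option linter.style.haveILetI false

universe u

namespace Groth.Agent.Helper15.PIns

open TensorProduct IsLocalRing Groth.Agent.Helper1

section Count

variable (R₁ C : Type u) [CommRing R₁] [HenselianLocalRing R₁] [CommRing C] [Algebra R₁ C]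
  [Algebra.Smooth R₁ C]

/-- the local ring at `Q` of `C / I C` is a domain, for `I` a prime of the henselian base -/
theorem isDomain_localization_quotient (Q : Ideal C) [Q.IsPrime]
    (hQm : ∀ r ∈ maximalIdeal R₁, algebraMap R₁ C r ∈ Q)
    (e : ℕ) [ExpChar (ResidueField R₁) e] (hSPI : SPI R₁ C Q e) (I : Ideal R₁) [I.IsPrime]
    [hQbar : (Q.map (Ideal.Quotient.mk (I.map (algebraMap R₁ C)))).IsPrime] :
    IsDomain (Localization.AtPrime (Q.map (Ideal.Quotient.mk (I.map (algebraMap R₁ C))))) := by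
  haveI : IsLocalRing (R₁ ⧸ I) :=
    IsLocalRing.of_surjective' (Ideal.Quotient.mk I) Ideal.Quotient.mk_surjective
  haveI hH : HenselianLocalRing (R₁ ⧸ I) :=
    IH.henselianLocalRing_of_integral_ringHom (Ideal.Quotient.mk I)
      (RingHom.isIntegral_of_surjective _ Ideal.Quotient.mk_surjective)
  haveI : Algebra.Smooth (R₁ ⧸ I) (C ⧸ (I.map (algebraMap R₁ C))) :=
    Algebra.Smooth.of_equiv (Algebra.TensorProduct.quotIdealMapEquivQuotTensor C I).symm
  haveI : IsLocalRing (integralClosure (R₁ ⧸ I) (FractionRing (R₁ ⧸ I))) :=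
    UB.isLocalRing_integralClosure_of_isDomain' (R₁ ⧸ I) (R₁ ⧸ I) (fun _ _ h => h)
  have hinj : Function.Injective (algebraMap (R₁ ⧸ I)
      (integralClosure (R₁ ⧸ I) (FractionRing (R₁ ⧸ I)))) := by
    intro x y hxy
    have h1 := congrArg (algebraMap (integralClosure (R₁ ⧸ I) (FractionRing (R₁ ⧸ I)))
      (FractionRing (R₁ ⧸ I))) hxy
    rw [← IsScalarTower.algebraMap_apply, ← IsScalarTower.algebraMap_apply] at h1
    exact IsFractionRing.injective (R₁ ⧸ I) (FractionRing (R₁ ⧸ I)) h1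
  haveI : IsLocalHom (Ideal.Quotient.mk I) :=
    IsLocalHom.of_surjective _ Ideal.Quotient.mk_surjective
  haveI : FaithfulSMul (R₁ ⧸ I) (integralClosure (R₁ ⧸ I) (FractionRing (R₁ ⧸ I))) :=
    (faithfulSMul_iff_algebraMap_injective _ _).mpr hinj
  haveI : ExpChar (ResidueField (R₁ ⧸ I)) e :=
    expChar_of_injective_ringHom (ResidueField.map (Ideal.Quotient.mk I)).injective e
  haveI : ExpChar (ResidueField (integralClosure (R₁ ⧸ I) (FractionRing (R₁ ⧸ I)))) e :=
    expChar_of_injective_ringHom (ResidueField.map (algebraMap (R₁ ⧸ I)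
      (integralClosure (R₁ ⧸ I) (FractionRing (R₁ ⧸ I))))).injective e
  haveI : IsIntegrallyClosed (integralClosure (R₁ ⧸ I) (FractionRing (R₁ ⧸ I))) :=
    integralClosure.isIntegrallyClosedOfFiniteExtension (FractionRing (R₁ ⧸ I))
  have hcomm : ∀ r : R₁, algebraMap (R₁ ⧸ I) (C ⧸ (I.map (algebraMap R₁ C)))
      (Ideal.Quotient.mk I r) = Ideal.Quotient.mk _ (algebraMap R₁ C r) := fun r => rfl
  refine isDomain_localization_of_pIat (R₁ ⧸ I)
    (integralClosure (R₁ ⧸ I) (FractionRing (R₁ ⧸ I))) (C ⧸ (I.map (algebraMap R₁ C))) hinj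
    (Q.map (Ideal.Quotient.mk (I.map (algebraMap R₁ C)))) ?_ e ?_
  · intro d hd
    obtain ⟨r, rfl⟩ := Ideal.Quotient.mk_surjective d
    have hr : r ∈ maximalIdeal R₁ := by
      rw [mem_maximalIdeal, mem_nonunits_iff] at hd ⊢
      exact fun hu => hd (hu.map _)
    rw [hcomm]
    exact Ideal.mem_map_of_mem _ (hQm r hr)
  · intro c
    obtain ⟨c, rfl⟩ := Ideal.Quotient.mk_surjective c
    obtain ⟨n, l, hl⟩ := hSPI c
    refine ⟨n, Ideal.Quotient.mk I l, 1, ?_, ?_⟩
    · rw [map_one]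
      exact fun h1 => hQbar.ne_top ((Ideal.eq_top_iff_one _).mpr h1)
    · rw [map_one, one_mul, hcomm, ← map_pow, ← map_sub]
      exact Ideal.mem_map_of_mem _ hl

theorem eq_of_comap_eq (Q : Ideal C) [Q.IsPrime]
    (hQm : ∀ r ∈ maximalIdeal R₁, algebraMap R₁ C r ∈ Q)
    (e : ℕ) [ExpChar (ResidueField R₁) e] (hSPI : SPI R₁ C Q e)
    (P₁ P₂ : Ideal C) (h₁ : P₁ ∈ minimalPrimes C) (h₂ : P₂ ∈ minimalPrimes C)
    (hle₁ : P₁ ≤ Q) (hle₂ : P₂ ≤ Q)
    (hc : P₁.comap (algebraMap R₁ C) = P₂.comap (algebraMap R₁ C)) : P₁ = P₂ := by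
  haveI hP₁ : P₁.IsPrime := h₁.1.1
  haveI hI : (P₁.comap (algebraMap R₁ C)).IsPrime := Ideal.comap_isPrime _ _
  obtain ⟨I, hIdef⟩ : ∃ I : Ideal R₁, I = P₁.comap (algebraMap R₁ C) := ⟨_, rfl⟩
  haveI : I.IsPrime := hIdef ▸ hI
  have hIm : I ≤ maximalIdeal R₁ := IsLocalRing.le_maximalIdeal (Ideal.IsPrime.ne_top ‹_›)
  have hJQ : I.map (algebraMap R₁ C) ≤ Q := by
    rw [Ideal.map_le_iff_le_comap]
    intro r hr
    exact hQm r (hIm hr)
  have hπ : Function.Surjective (Ideal.Quotient.mk (I.map (algebraMap R₁ C))) :=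
    Ideal.Quotient.mk_surjective
  haveI hQbar : (Q.map (Ideal.Quotient.mk (I.map (algebraMap R₁ C)))).IsPrime :=
    Ideal.map_isPrime_of_surjective hπ (by rw [Ideal.mk_ker]; exact hJQ)
  have hcomapQ : (Q.map (Ideal.Quotient.mk (I.map (algebraMap R₁ C)))).comap
      (Ideal.Quotient.mk (I.map (algebraMap R₁ C))) = Q := by
    rw [Ideal.comap_map_of_surjective _ hπ, ← RingHom.ker_eq_comap_bot, Ideal.mk_ker]
    exact sup_eq_left.mpr hJQ
  haveI hdom := isDomain_localization_quotient R₁ C Q hQm e hSPI I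
  -- the kernel of `C → (C/IC)_Q`
  let ψ : C →+* Localization.AtPrime (Q.map (Ideal.Quotient.mk (I.map (algebraMap R₁ C)))) :=
    (algebraMap _ _).comp (Ideal.Quotient.mk (I.map (algebraMap R₁ C)))
  haveI hK : (RingHom.ker ψ).IsPrime := RingHom.ker_isPrime ψ
  have key : ∀ P : Ideal C, P ∈ minimalPrimes C → P ≤ Q → P.comap (algebraMap R₁ C) = I →
      P = RingHom.ker ψ := by
    intro P hP hPQ hPI
    haveI : P.IsPrime := hP.1.1
    have hJP : I.map (algebraMap R₁ C) ≤ P := by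
      rw [Ideal.map_le_iff_le_comap, hPI]
    have hKP : RingHom.ker ψ ≤ P := by
      intro x hx
      rw [RingHom.mem_ker] at hx
      have hx' : algebraMap (C ⧸ (I.map (algebraMap R₁ C)))
          (Localization.AtPrime (Q.map (Ideal.Quotient.mk (I.map (algebraMap R₁ C)))))
          (Ideal.Quotient.mk _ x) = 0 := hx
      rw [IsLocalization.map_eq_zero_iff
        (Q.map (Ideal.Quotient.mk (I.map (algebraMap R₁ C)))).primeCompl] at hx'
      obtain ⟨⟨sbar, hsbar⟩, hs⟩ := hx'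
      obtain ⟨s, rfl⟩ := hπ sbar
      have hsQ : s ∉ Q := fun h => hsbar (Ideal.mem_map_of_mem _ h)
      have hsx : s * x ∈ I.map (algebraMap R₁ C) := by
        rw [← Ideal.Quotient.eq_zero_iff_mem, map_mul]
        exact hs
      have hsP : s ∉ P := fun h => hsQ (hPQ h)
      exact (Ideal.IsPrime.mem_or_mem ‹_› (hJP hsx)).resolve_left hsP
    exact le_antisymm (hP.2 ⟨hK, bot_le⟩ hKP) hKP
  rw [key P₁ h₁ hle₁ hIdef.symm, key P₂ h₂ hle₂ (hc ▸ hIdef.symm)]

/-- the number of minimal primes of `C` inside `Q` is at most the number of minimal primes of the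
henselian base -/
theorem encard_minimalPrimes_le (Q : Ideal C) [Q.IsPrime]
    (hQm : ∀ r ∈ maximalIdeal R₁, algebraMap R₁ C r ∈ Q)
    (e : ℕ) [ExpChar (ResidueField R₁) e] (hSPI : SPI R₁ C Q e) :
    {P : Ideal C | P ∈ minimalPrimes C ∧ P ≤ Q}.encard ≤ (minimalPrimes R₁).encard := by
  haveI : Module.Flat R₁ C := inferInstance
  have hflat : (algebraMap R₁ C).Flat := RingHom.flat_algebraMap_iff.mpr inferInstance
  have hmaps : Set.MapsTo (fun P : Ideal C => P.comap (algebraMap R₁ C))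
      {P : Ideal C | P ∈ minimalPrimes C ∧ P ≤ Q} (minimalPrimes R₁) := fun P hP =>
    Groth.Agent.Helper15.GUPunct.comap_mem_minimalPrimes_of_flat _ hflat hP.1
  have hinj : Set.InjOn (fun P : Ideal C => P.comap (algebraMap R₁ C))
      {P : Ideal C | P ∈ minimalPrimes C ∧ P ≤ Q} := fun P₁ h₁ P₂ h₂ hc =>
    eq_of_comap_eq R₁ C Q hQm e hSPI P₁ P₂ h₁.1 h₂.1 h₁.2 h₂.2 hc
  exact Set.encard_le_encard_of_injOn hmaps hinj

end Count

end Groth.Agent.Helper15.PIns
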