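import Mathlib
import Groth.Prelude
import Groth.Agent.Lib.Helper15.PIns3
import Groth.Agent.Lib.Helper15.BrnchH3

set_option autoImplicit false
set_option linter.unusedSectionVars false
set_option linter.unusedVariables false
set_option linter.style.haveILetI false

universe u

namespace Groth.Agent.Helper15.PIns

open TensorProduct IsLocalRing Groth.Agent.Helper1 Groth.Agent.Helper26
  Groth.Agent.Helper15.BrnchH Groth.Agent.Helper15.BrnchEt

section A

variable (R : Type u) [CommRing R] (p : Ideal R) [p.IsPrime]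
  (A : Type u) [CommRing A] [IsLocalRing A] [Algebra R A] [IsLocalization.AtPrime A p]
  (Rh : Type u) [CommRing Rh] [IsLocalRing Rh] [Algebra A Rh] [IsLocalHom (algebraMap A Rh)]
  [Hensel.IsHenselization A Rh] [Algebra R Rh] [IsScalarTower R A Rh]

include p A in
/-- variant of `exists_etale_of_natCast_le_hens` that keeps the map to the henselization -/
theorem exists_etale_of_natCast_le_hens' (n : ℕ)
    (hn : (n : ℕ∞) ≤ (minimalPrimes Rh).encard) :
    ∃ (C : Type u) (_ : CommRing C) (_ : Algebra R C) (_ : Algebra.Etale R C) (φ : C →ₐ[R] Rh),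
      ((maximalIdeal Rh).comap φ.toRingHom).comap (algebraMap R C) = p ∧
        (∀ a' b' : C, b' ∉ (maximalIdeal Rh).comap φ.toRingHom → ∃ a b : R, b ∉ p ∧
          a' * algebraMap R C b - b' * algebraMap R C a ∈ (maximalIdeal Rh).comap φ.toRingHom) ∧
        (n : ℕ∞) ≤ {P : Ideal C | P ∈ minimalPrimes C ∧
          P ≤ (maximalIdeal Rh).comap φ.toRingHom}.encard := by
  let e : Localization.AtPrime p ≃ₐ[R] A := IsLocalization.algEquiv p.primeCompl _ _
  letI : Algebra (Localization.AtPrime p) Rh :=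
    ((algebraMap A Rh).comp (e : Localization.AtPrime p →+* A)).toAlgebra
  have hL : ∀ l, algebraMap (Localization.AtPrime p) Rh l = algebraMap A Rh (e l) := fun _ => rfl
  haveI : IsLocalHom (algebraMap (Localization.AtPrime p) Rh) := by
    constructor
    intro l hl
    rw [hL] at hl
    have h1 : IsUnit (e l) := isUnit_of_map_unit (algebraMap A Rh) _ hl
    have h2 := h1.map e.symm
    rwa [AlgEquiv.symm_apply_apply] at h2
  haveI : Hensel.IsHenselization (Localization.AtPrime p) Rh :=
    isHenselization_of_ringEquiv A (Localization.AtPrime p) Rh e.toRingEquiv rfl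
  haveI : IsScalarTower R (Localization.AtPrime p) Rh := by
    refine IsScalarTower.of_algebraMap_eq (fun r => ?_)
    rw [hL, e.commutes, IsScalarTower.algebraMap_apply R A Rh]
  have hp := HensPrime.comap_maximalIdeal R p Rh
  obtain ⟨C, _, _, _, φ, hle⟩ := exists_etale_of_natCast_le_gen R Rh (HensPrime.flat R p Rh)
    (HensPrime.isEt R p Rh) n hn
  refine ⟨C, inferInstance, inferInstance, inferInstance, φ,
    (HensPrime.comap_comap_eq hp φ).symm, ?_, hle⟩
  intro a' b' hb'
  exact ew_of_resSurj hp (HensPrime.resSurj R p Rh) φ a' b' hb'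

end A

section B

/-- along a flat ring map, the number of minimal primes inside a prime does not decrease -/
theorem encard_minimalPrimes_le_of_flat {C C₁ : Type u} [CommRing C] [CommRing C₁] [Algebra C C₁]
    [Module.Flat C C₁] (Q : Ideal C) (Q₁ : Ideal C₁) [Q₁.IsPrime]
    (hQ : Q₁.comap (algebraMap C C₁) = Q) :
    {P : Ideal C | P ∈ minimalPrimes C ∧ P ≤ Q}.encard ≤
      {P : Ideal C₁ | P ∈ minimalPrimes C₁ ∧ P ≤ Q₁}.encard := by
  have hsub : {P : Ideal C | P ∈ minimalPrimes C ∧ P ≤ Q} ⊆
      (fun P : Ideal C₁ => P.comap (algebraMap C C₁)) ''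
        {P : Ideal C₁ | P ∈ minimalPrimes C₁ ∧ P ≤ Q₁} := by
    rintro P ⟨hPmin, hPQ⟩
    haveI hPp : P.IsPrime := hPmin.1.1
    haveI : Q.IsPrime := hQ ▸ Ideal.comap_isPrime _ _
    haveI : Q₁.LiesOver Q := ⟨hQ.symm⟩
    obtain ⟨P', hP'le, hP'prime, hP'lo⟩ :=
      Ideal.exists_ideal_le_liesOver_of_le (p := P) (q := Q) Q₁ hPQ
    obtain ⟨P₁, hP₁min, hP₁le⟩ := Ideal.exists_minimalPrimes_le (I := (⊥ : Ideal C₁))
      (J := P') bot_le
    haveI : P₁.IsPrime := hP₁min.1.1
    refine ⟨P₁, ⟨hP₁min, hP₁le.trans hP'le⟩, ?_⟩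
    have h1 : P₁.comap (algebraMap C C₁) ≤ P := by
      have : P'.comap (algebraMap C C₁) = P := hP'lo.over.symm
      rw [← this]
      exact Ideal.comap_mono hP₁le
    exact le_antisymm h1 (hPmin.2 ⟨inferInstance, bot_le⟩ h1)
  exact (Set.encard_le_encard hsub).trans (Set.encard_image_le _ _)

end B

end Groth.Agent.Helper15.PIns
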