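import Mathlib
import Groth.Prelude
import Groth.Agent.Lib.Helper15.PIns4
import Groth.Agent.Lib.Helper15.BrnchF2
import Groth.Agent.Lib.Helper1.TP3
import Groth.Agent.Lib.Helper1.HFlat4

set_option autoImplicit false
set_option linter.unusedSectionVars false
set_option linter.unusedVariables false
set_option linter.style.haveILetI false

universe u

namespace Groth.Agent.Helper15.PIns

open TensorProduct IsLocalRing Groth.Agent.Helper1 Groth.Agent.Helper26
  Groth.Agent.Helper15.BrnchH Groth.Agent.Helper15.BrnchEt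

section Main

variable {R S Ah Bh : Type u} [CommRing R] [CommRing S] [Algebra R S] [Algebra.Smooth R S]
  (q : Ideal S) [q.IsPrime] (p : Ideal R) [p.IsPrime] [q.LiesOver p]
  [CommRing Ah] [IsLocalRing Ah] [Algebra (Localization.AtPrime p) Ah]
  [IsLocalHom (algebraMap (Localization.AtPrime p) Ah)]
  [Hensel.IsHenselization (Localization.AtPrime p) Ah]
  [CommRing Bh] [IsLocalRing Bh] [Algebra (Localization.AtPrime q) Bh]
  [IsLocalHom (algebraMap (Localization.AtPrime q) Bh)]
  [Hensel.IsHenselization (Localization.AtPrime q) Bh]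
  [Algebra R Ah] [IsScalarTower R (Localization.AtPrime p) Ah]
  [Algebra S Bh] [IsScalarTower S (Localization.AtPrime q) Bh] [Algebra R Bh]
  [IsScalarTower R S Bh] [Algebra Ah Bh] [IsScalarTower R Ah Bh]

include q p in
/-- the local map of henselizations is flat -/
theorem flat_hens : Module.Flat Ah Bh := by
  haveI : Module.Flat R S := inferInstance
  obtain ⟨Q, hQ⟩ : ∃ Q : Ideal (Ah ⊗[R] S), Q = Ideal.comap (TP.phi R S Ah Bh) (maximalIdeal Bh) :=
    ⟨_, rfl⟩
  haveI : Q.IsPrime := hQ ▸ Ideal.comap_isPrime _ _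
  haveI := Hzn.isHenselization (Localization.AtPrime Q)
  obtain ⟨e, he⟩ := TP.exists_equiv_hens R S p q Ah Bh Q hQ (Hzn.S (Localization.AtPrime Q))
  have h1 : (algebraMap Ah (Ah ⊗[R] S)).Flat := RingHom.flat_algebraMap_iff.mpr inferInstance
  have h2 : (algebraMap (Ah ⊗[R] S) (Localization.AtPrime Q)).Flat :=
    RingHom.flat_algebraMap_iff.mpr (IsLocalization.flat _ Q.primeCompl)
  have h3 : (algebraMap (Localization.AtPrime Q) (Hzn.S (Localization.AtPrime Q))).Flat :=
    RingHom.flat_algebraMap_iff.mpr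
      (HFlat.faithfullyFlat_of_isHenselization _ _).toFlat
  have h4 : (e : Hzn.S (Localization.AtPrime Q) →+* Bh).Flat := RingHom.Flat.of_bijective e.bijective
  have hcomp : algebraMap Ah Bh = (e : Hzn.S (Localization.AtPrime Q) →+* Bh).comp
      ((algebraMap (Localization.AtPrime Q) (Hzn.S (Localization.AtPrime Q))).comp
        ((algebraMap (Ah ⊗[R] S) (Localization.AtPrime Q)).comp
          (algebraMap Ah (Ah ⊗[R] S)))) := by
    ext x
    show _ = e (algebraMap (Localization.AtPrime Q) (Hzn.S (Localization.AtPrime Q))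
      (algebraMap (Ah ⊗[R] S) (Localization.AtPrime Q) (algebraMap Ah (Ah ⊗[R] S) x)))
    rw [he, TP.phi_algebraMap]
  rw [← RingHom.flat_algebraMap_iff, hcomp]
  exact ((h1.comp h2).comp h3).comp h4


attribute [local instance] Algebra.TensorProduct.rightAlgebra in
include q p in
/-- the hard inequality: minimal primes of `Bh` are controlled by those of `Ah` -/
theorem natCast_le_of_le_hens
    (hpi : @IsPurelyInseparable p.ResidueField q.ResidueField _ _
      (Ideal.ResidueField.mapₐ p q (Algebra.ofId R S) (q.over_def p)).toRingHom.toAlgebra)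
    [IsLocalHom (algebraMap Ah Bh)] (n : ℕ) (hn : (n : ℕ∞) ≤ (minimalPrimes Bh).encard) :
    (n : ℕ∞) ≤ (minimalPrimes Ah).encard := by
  obtain ⟨e, he⟩ : ∃ e : ℕ, e = ringExpChar p.ResidueField := ⟨_, rfl⟩
  haveI : ExpChar p.ResidueField e := he ▸ ringExpChar.expChar _
  have hPI₀ : PIat R S q e := pIat_of_isPurelyInseparable q p hpi e
  haveI hAH : HenselianLocalRing Ah :=
    Hensel.IsHenselization.henselian (R := Localization.AtPrime p)
  haveI : ExpChar (ResidueField Ah) e :=
    expChar_of_injective_ringHom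
      (ResidueField.map (algebraMap (Localization.AtPrime p) Ah)).injective e
  obtain ⟨C, _, _, _, φ, hφp, hew, hle⟩ :=
    exists_etale_of_natCast_le_hens' S q (Localization.AtPrime q) Bh n hn
  obtain ⟨Q, hQdef⟩ : ∃ Q : Ideal C, Q = (maximalIdeal Bh).comap φ.toRingHom := ⟨_, rfl⟩
  rw [← hQdef] at hφp hew hle
  haveI hQprime : Q.IsPrime := hQdef ▸ Ideal.comap_isPrime _ _
  have hQmem : ∀ c : C, c ∈ Q ↔ φ c ∈ maximalIdeal Bh := fun c => by rw [hQdef]; rfl
  letI : Algebra R C := ((algebraMap S C).comp (algebraMap R S)).toAlgebra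
  haveI : IsScalarTower R S C := IsScalarTower.of_algebraMap_eq' rfl
  haveI : Algebra.Smooth R C := Algebra.Smooth.comp R S C
  have hPI : PIat R C Q e := pIat_of_ew Q q hφp.symm e hew hPI₀
  -- base change to `Ah`
  let Φ : Ah ⊗[R] C →ₐ[R] Bh :=
    Algebra.TensorProduct.lift (IsScalarTower.toAlgHom R Ah Bh) (φ.restrictScalars R)
      (fun _ _ => Commute.all _ _)
  have hΦl : ∀ l : Ah, Φ (l ⊗ₜ[R] (1 : C)) = algebraMap Ah Bh l := fun l => by
    show (IsScalarTower.toAlgHom R Ah Bh) l * (φ.restrictScalars R) 1 = _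
    rw [map_one, mul_one]
    rfl
  have hΦr : ∀ c : C, Φ ((1 : Ah) ⊗ₜ[R] c) = φ c := fun c => by
    show (IsScalarTower.toAlgHom R Ah Bh) 1 * (φ.restrictScalars R) c = _
    rw [map_one, one_mul]
    rfl
  obtain ⟨Q₁, hQ₁def⟩ : ∃ Q₁ : Ideal (Ah ⊗[R] C), Q₁ = (maximalIdeal Bh).comap Φ.toRingHom :=
    ⟨_, rfl⟩
  haveI hQ₁prime : Q₁.IsPrime := hQ₁def ▸ Ideal.comap_isPrime _ _
  have hQ₁mem : ∀ x : Ah ⊗[R] C, x ∈ Q₁ ↔ Φ x ∈ maximalIdeal Bh := fun x => by
    rw [hQ₁def]; rfl
  have hQ₁C : Q₁.comap (algebraMap C (Ah ⊗[R] C)) = Q := by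
    ext c
    rw [Ideal.mem_comap, hQ₁mem, hQmem]
    show Φ ((1 : Ah) ⊗ₜ[R] c) ∈ _ ↔ _
    rw [hΦr]
  have hLL : ∀ l ∈ maximalIdeal Ah, l ⊗ₜ[R] (1 : C) ∈ Q₁ := by
    intro l hl
    rw [hQ₁mem, hΦl]
    exact map_nonunit (algebraMap Ah Bh) l hl
  have hQ1 : ∀ c ∈ Q, (1 : Ah) ⊗ₜ[R] c ∈ Q₁ := by
    intro c hc
    rw [hQ₁mem, hΦr]
    exact (hQmem c).mp hc
  have hL : ∀ b : R, algebraMap R C b ∉ Q → IsUnit (algebraMap R Ah b) := by
    intro b hb
    by_contra hnu
    apply hb
    rw [hQmem]
    have h1 : algebraMap Ah Bh (algebraMap R Ah b) ∈ maximalIdeal Bh :=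
      map_nonunit (algebraMap Ah Bh) _ ((mem_maximalIdeal _).mpr hnu)
    rw [← IsScalarTower.algebraMap_apply R Ah Bh] at h1
    have h2 : φ (algebraMap R C b) = algebraMap R Bh b := by
      show φ (algebraMap S C (algebraMap R S b)) = _
      rw [φ.commutes, ← IsScalarTower.algebraMap_apply R S Bh]
    rw [h2]
    exact h1
  have hSPI : SPI Ah (Ah ⊗[R] C) Q₁ e := sPI_tensor R C Ah Q e hL hPI Q₁ hQ1 hLL
  have hQm : ∀ r ∈ maximalIdeal Ah, algebraMap Ah (Ah ⊗[R] C) r ∈ Q₁ := fun r hr => hLL r hr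
  have hcount2 := encard_minimalPrimes_le Ah (Ah ⊗[R] C) Q₁ hQm e hSPI
  -- flatness of `C → Ah ⊗ C`
  haveI : Module.Flat R (Localization.AtPrime p) := IsLocalization.flat _ p.primeCompl
  haveI : Module.Flat (Localization.AtPrime p) Ah :=
    (HFlat.faithfullyFlat_of_isHenselization _ _).toFlat
  haveI : Module.Flat R Ah := Module.Flat.trans R (Localization.AtPrime p) Ah
  haveI : Module.Flat C (Ah ⊗[R] C) := by
    rw [← RingHom.flat_algebraMap_iff]
    exact RingHom.Flat.isStableUnderBaseChange R Ah C (Ah ⊗[R] C)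
      (RingHom.flat_algebraMap_iff.mpr inferInstance)
  have hcount1 := encard_minimalPrimes_le_of_flat Q Q₁ hQ₁C
  exact (hle.trans hcount1).trans hcount2

end Main


section Final

/-- **S2130**: henselizations of `R_p` and `S_q`, `S` smooth over `R` with purely inseparable
residue field extension at `q`, have the same number of minimal primes. -/
theorem card_minimalPrimes_h_of_smooth_pi {R S Ah Bh : Type u} [CommRing R] [CommRing S]
    [Algebra R S] [Algebra.Smooth R S] (q : Ideal S) [q.IsPrime] (p : Ideal R) [p.IsPrime]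
    [q.LiesOver p]
    (hpi : @IsPurelyInseparable p.ResidueField q.ResidueField _ _
      (Ideal.ResidueField.mapₐ p q (Algebra.ofId R S) (q.over_def p)).toRingHom.toAlgebra)
    [CommRing Ah] [IsLocalRing Ah] [Algebra (Localization.AtPrime p) Ah]
    [IsLocalHom (algebraMap (Localization.AtPrime p) Ah)]
    [Hensel.IsHenselization (Localization.AtPrime p) Ah]
    [CommRing Bh] [IsLocalRing Bh] [Algebra (Localization.AtPrime q) Bh]
    [IsLocalHom (algebraMap (Localization.AtPrime q) Bh)]
    [Hensel.IsHenselization (Localization.AtPrime q) Bh] :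
    (minimalPrimes Ah).encard = (minimalPrimes Bh).encard := by
  letI : Algebra R Ah := ((algebraMap (Localization.AtPrime p) Ah).comp
    (algebraMap R (Localization.AtPrime p))).toAlgebra
  haveI : IsScalarTower R (Localization.AtPrime p) Ah := IsScalarTower.of_algebraMap_eq' rfl
  letI : Algebra S Bh := ((algebraMap (Localization.AtPrime q) Bh).comp
    (algebraMap S (Localization.AtPrime q))).toAlgebra
  haveI : IsScalarTower S (Localization.AtPrime q) Bh := IsScalarTower.of_algebraMap_eq' rfl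
  letI : Algebra R Bh := ((algebraMap S Bh).comp (algebraMap R S)).toAlgebra
  haveI : IsScalarTower R S Bh := IsScalarTower.of_algebraMap_eq' rfl
  haveI hBH : HenselianLocalRing Bh :=
    Hensel.IsHenselization.henselian (R := Localization.AtPrime q)
  haveI := TP.isLocalHom_uMap R S p q
  haveI : IsLocalHom ((algebraMap (Localization.AtPrime q) Bh).comp (TP.uMap R S p q)) :=
    RingHom.isLocalHom_comp _ _
  obtain ⟨g, hg, -⟩ := Hensel.IsHenselization.universal (R := Localization.AtPrime p) (S := Ah) Bh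
    ((algebraMap (Localization.AtPrime q) Bh).comp (TP.uMap R S p q)) inferInstance
  letI : Algebra Ah Bh := g.toAlgebra
  haveI : IsScalarTower R Ah Bh := by
    refine IsScalarTower.of_algebraMap_eq (fun r => ?_)
    show algebraMap (Localization.AtPrime q) Bh (algebraMap S (Localization.AtPrime q)
      (algebraMap R S r)) = g (algebraMap (Localization.AtPrime p) Ah
        (algebraMap R (Localization.AtPrime p) r))
    have h1 := RingHom.congr_fun hg (algebraMap R (Localization.AtPrime p) r)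
    simp only [RingHom.comp_apply] at h1
    rw [h1, TP.uMap_algebraMap]
  haveI hloc : IsLocalHom (algebraMap Ah Bh) :=
    TP.isLocalHom_of_comp_eq' (Localization.AtPrime p) Ah (Localization.AtPrime q) Bh
      (Hzn.map_maximalIdeal_eq_of_isHenselization (Localization.AtPrime p) Ah)
      (TP.uMap R S p q) (algebraMap Ah Bh) hg
  apply le_antisymm
  · haveI : Module.Flat Ah Bh := flat_hens q p
    haveI : Module.FaithfullyFlat Ah Bh := Module.FaithfullyFlat.of_flat_of_isLocalHom
    exact encard_minimalPrimes_le_of_faithfullyFlat Ah Bh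
  · rw [← ENat.forall_natCast_le_iff_le]
    intro n hn
    exact natCast_le_of_le_hens q p hpi n hn

end Final

end Groth.Agent.Helper15.PIns
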