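import Groth.Agent.Lib.Helper15.AlgSpLqfSelf
import Groth.Agent.Lib.Helper15.GActionFree
import Groth.Agent.Lib.Helper15.AlgSpDiagMor

/-!
# Pseudo-torsors inherit unramifiedness and local quasi-finiteness from the group
-/

set_option autoImplicit false
universe u
open CategoryTheory CategoryTheory.Limits AlgebraicGeometry MorphismProperty Opposite MonoidalCategory
  CartesianMonoidalCategory MonObj
open AlgSp

namespace Groth.Agent.Helper15

variable {S : Scheme.{u}} {B : Sp S} {G X : Over B} [GrpObj G] (a : GAction G X)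

theorem pseudoTorsor_lqf (hB : IsAlgSpace B) (hG : IsAlgSpace G.left) (hX : IsAlgSpace X.left)
    (ha : a.IsPseudoTorsor) (hXt : LocP @LocallyOfFiniteType X.hom)
    (hGq : LocP (@LocallyQuasiFinite ⊓ @LocallyOfFiniteType) G.hom) :
    LocP (@LocallyQuasiFinite ⊓ @LocallyOfFiniteType) X.hom := by
  have sqG : IsPullback (pullback.fst G.hom X.hom) (pullback.snd G.hom X.hom) G.hom X.hom :=
    IsPullback.of_hasPullback _ _
  have h1 : LocP (@LocallyQuasiFinite ⊓ @LocallyOfFiniteType) (pullback.snd G.hom X.hom) :=
    locP_listed_of_isPullback _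
      (Or.inr (Or.inr (Or.inr (Or.inr (Or.inr (Or.inl (fun _ _ _ => Iff.rfl)))))))
      hG hB hX sqG hGq
  haveI : IsIso (lift a.act (snd G X)) := ha
  set m := lift a.act (snd G X) with hm
  haveI : IsIso m.left := (Over.forget B).map_isIso m
  have hms : m.left ≫ pullback.snd X.hom X.hom = pullback.snd G.hom X.hom := by
    change m.left ≫ (snd X X).left = (snd G X).left
    rw [← Over.comp_left, hm, lift_snd]
  have h2 : LocP (@LocallyQuasiFinite ⊓ @LocallyOfFiniteType) (pullback.snd X.hom X.hom) := by
    intro U V a' b h ha' hb comm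
    refine h1 (a' ≫ inv m.left) b h
      ((RepWith @Etale).comp_mem _ _ ha' (repWith_of_isIso _ _)) hb ?_
    rw [← comm, Category.assoc, ← hms, IsIso.inv_hom_id_assoc]
  exact locP_lqf_of_snd hB X.hom hXt h2

theorem pseudoTorsor_unramified (hB : IsAlgSpace B) (hG : IsAlgSpace G.left)
    (hX : IsAlgSpace X.left) (ha : a.IsPseudoTorsor) (hXt : LocP @LocallyOfFiniteType X.hom)
    (hGu : LocP (@LocallyOfFiniteType ⊓ @FormallyUnramified) G.hom) :
    LocP (@LocallyOfFiniteType ⊓ @FormallyUnramified) X.hom := by
  have hd : RepWith @IsOpenImmersion (pullback.diagonal G.hom) :=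
    repWith_isOpenImmersion_diagonal_of_locP_unramified hG hB G.hom hGu
  have hs : (η[G]).left ≫ G.hom = 𝟙 B := Over.w η[G]
  have hη : RepWith @IsOpenImmersion (η[G]).left := repWith_section G.hom (η[G]).left hs hd
  have sqG : IsPullback (pullback.fst G.hom X.hom) (pullback.snd G.hom X.hom) G.hom X.hom :=
    IsPullback.of_hasPullback _ _
  haveI : IsIso (lift a.act (snd G X)) := ha
  set m := lift a.act (snd G X) with hm
  haveI : IsIso m.left := (Over.forget B).map_isIso m
  set jj : X ⟶ G ⊗ X := lift (toUnit X ≫ η[G]) (𝟙 X) with hj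
  have hj1 : jj.left ≫ pullback.fst G.hom X.hom = X.hom ≫ (η[G]).left := by
    change jj.left ≫ (fst G X).left = _
    rw [← Over.comp_left, hj, lift_fst, Over.comp_left]
    congr 1
  have hj2 : jj.left ≫ pullback.snd G.hom X.hom = 𝟙 X.left := by
    change jj.left ≫ (snd G X).left = _
    rw [← Over.comp_left, hj, lift_snd]
    rfl
  have sqjj : IsPullback jj.left X.hom (pullback.fst G.hom X.hom) (η[G]).left := by
    refine IsPullback.of_right ?_ hj1 sqG.flip
    rw [hj2, hs]
    exact IsPullback.of_horiz_isIso ⟨by simp⟩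
  have hjo : RepWith @IsOpenImmersion jj.left :=
    (RepWith @IsOpenImmersion).of_isPullback sqjj.flip hη
  have hdiag : pullback.diagonal X.hom = jj.left ≫ m.left := by
    have e : jj ≫ m = lift (𝟙 X) (𝟙 X) := by
      apply CartesianMonoidalCategory.hom_ext
      · rw [Category.assoc, hm, lift_fst, lift_fst, hj, ← Hom.one_def]
        exact GAction.one_smul a (𝟙 X)
      · rw [Category.assoc, hm, lift_snd, lift_snd, lift_snd]
    have e' := congrArg (fun z => z.left) e
    simp only [Over.comp_left] at e'
    rw [e']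
    rfl
  have hdX : RepWith @IsOpenImmersion (pullback.diagonal X.hom) := by
    rw [hdiag]
    exact (RepWith @IsOpenImmersion).comp_mem _ _ hjo (repWith_of_isIso _ _)
  exact locP_unramified_of_diagonal hX X.hom hXt hdX

end Groth.Agent.Helper15
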