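import Groth.Agent.Lib.Helper15.QFDiscrete
import Groth.Agent.Lib.Helper15.AlgSpField
import Groth.Prelude.Def_AlgSp4

set_option autoImplicit false
universe u
open CategoryTheory CategoryTheory.Limits AlgebraicGeometry Opposite
open AlgSp Groth.Agent.Helper16.AS

namespace Groth.Agent.Helper15.QFDiscrete

/-- A morphism of finite type has finitely many points of quasi-finiteness in each fibre. -/
theorem finite_quasiFiniteAt_fibre {U V : Scheme.{u}} (h : U ⟶ V) [LocallyOfFiniteType h]
    [QuasiCompact h] (v : V) : {u : U | h u = v ∧ h.QuasiFiniteAt u}.Finite := by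
  haveI : LocallyOfFiniteType (h.fiberToSpecResidueField v) := by
    unfold Scheme.Hom.fiberToSpecResidueField
    exact MorphismProperty.pullback_snd _ _ ‹_›
  haveI : IsLocallyNoetherian (h.fiber v) :=
    LocallyOfFiniteType.isLocallyNoetherian (h.fiberToSpecResidueField v)
  haveI : IsNoetherian (h.fiber v) := {}
  let D : Set (h.fiber v) := {w | IsOpen ({w} : Set (h.fiber v))}
  have hDc : IsCompact D := TopologicalSpace.NoetherianSpace.isCompact D
  have hDd : _root_.IsDiscrete D := by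
    rw [isDiscrete_iff_forall_mem_exists_isOpen]
    intro w hw
    refine ⟨{w}, hw, ?_⟩
    ext z
    simp only [Set.mem_inter_iff, Set.mem_singleton_iff]
    exact ⟨fun hz => hz.1, fun hz => ⟨hz, hz ▸ hw⟩⟩
  have hDf : D.Finite := hDc.finite hDd
  refine (hDf.image (h.fiberι v)).subset ?_
  rintro u ⟨huv, hqf⟩
  rw [Groth.Agent.Helper15.FibDim.quasiFiniteAt_iff_isOpen_singleton_fiberHomeo_symm h u v huv]
    at hqf
  exact ⟨(h.fiberHomeo v).symm ⟨u, huv⟩, hqf, h.fiberι_fiberHomeo_symm v ⟨u, huv⟩⟩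


variable {S : Scheme.{u}}

theorem finite_qf_over_point {X Y : Sp S} (hX : IsAlgSpace X) (hY : IsAlgSpace Y) (f : X ⟶ Y)
    (hf : IsFiniteTypeMor f) (y : Points Y) :
    {x : Points X | Points.map f x = y ∧
      HasAtMor (fun U _ h u => ∃ W : U.Opens, u ∈ W ∧
        (@LocallyQuasiFinite ⊓ @LocallyOfFiniteType : MorphismProperty Scheme.{u}) (W.ι ≫ h)) f
        x}.Finite := by
  have hP : ∀ ⦃A B : Scheme.{u}⦄ (g : A ⟶ B),
      (@LocallyQuasiFinite ⊓ @LocallyOfFiniteType : MorphismProperty Scheme.{u}) g ↔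
        (LocallyQuasiFinite g ∧ LocallyOfFiniteType g) := fun A B g => Iff.rfl
  obtain ⟨hlft, hqc⟩ := hf
  obtain ⟨V', hV'aff, β, v, hβe, hβv⟩ := exists_affine_etale_nbhd hY y
  haveI := hV'aff
  have hV'qc : IsQuasiCompactSp ((yon S).obj V') :=
    ⟨V', 𝟙 _, repWith_id _ _, repWith_id _ _, inferInstance⟩
  have sqZ := IsPullback.of_hasPullback f β
  obtain ⟨U, c, hce, hcs, hUc⟩ := hqc (IsAlgSpace.yon_obj V') hV'qc β _ _ sqZ
  haveI : CompactSpace U.left := hUc
  have hfste : RepWith @Etale (pullback.fst f β) := (RepWith @Etale).of_isPullback sqZ.flip hβe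
  have hαe : RepWith @Etale (c ≫ pullback.fst f β) := (RepWith @Etale).comp_mem _ _ hce hfste
  set h : U ⟶ V' := (yon S).preimage (c ≫ pullback.snd f β) with hh
  have hhy : (yon S).map h = c ≫ pullback.snd f β := (yon S).map_preimage _
  have hcomm : (c ≫ pullback.fst f β) ≫ f = (yon S).map h ≫ β := by
    rw [hhy, Category.assoc, Category.assoc, pullback.condition]
  haveI : LocallyOfFiniteType h.left := hlft _ β h hαe hβe hcomm
  haveI : QuasiCompact h.left := inferInstance
  refine ((finite_quasiFiniteAt_fibre h.left v).image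
    (Points.ofPt (c ≫ pullback.fst f β))).subset ?_
  rintro x ⟨hxy, hx⟩
  have heq : Points.map f x = Points.map β (Points.ofScheme V' v) := by
    rw [← Points.ofPt_eq_map_ofScheme, hβv, hxy]
  obtain ⟨z', hz'1, hz'2⟩ := exists_point_of_isPullback sqZ x _ heq
  obtain ⟨u, hu⟩ := surjective_ofPt c hcs z'
  have hux : Points.ofPt (c ≫ pullback.fst f β) u = x := by
    rw [← Points.map_ofPt, hu, hz'1]
  have huv : h.left u = v := by
    apply (Points.schemeEquiv V').injective
    change Points.ofScheme V' (h.left u) = Points.ofScheme V' v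
    rw [← ofPt_yon_map, hhy, ← Points.map_ofPt, hu, hz'2]
  obtain ⟨X₀, j₀, hX₀, hj₀, hmem, hloc⟩ :=
    (hasAtMor_nbhd_iff_exists_open_subspace _
      (Or.inr (Or.inr (Or.inr (Or.inr (Or.inr (Or.inl hP)))))) hX hY f x).1 hx
  obtain ⟨W, hWu, hWP⟩ :=
    Groth.Agent.Helper15.ChartBC.exists_nbhd_of_open_subspace f j₀ hj₀ hloc _ β h hαe hβe hcomm u
      (hux ▸ hmem)
  exact ⟨u, ⟨huv, Groth.Agent.Helper15.ChartBC.quasiFiniteAt_of_nbhd h.left u W hWu hWP.1⟩, hux⟩

end Groth.Agent.Helper15.QFDiscrete
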