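import Mathlib

/-!
# Fibre injectivity of pointed morphisms with trivial residue field extension
-/

set_option autoImplicit false
universe u
open CategoryTheory CategoryTheory.Limits AlgebraicGeometry TensorProduct

namespace Groth.Agent.Helper15.QfMulti

/-- `g : T₁ ⟶ T` at the point `u` does not split points of fibres: for every base change of a
morphism `φ : E ⟶ T`, two points over `u` with the same image in `E` agree. -/
def FibInj {T₁ T : Scheme.{u}} (g : T₁ ⟶ T) (u : T₁) : Prop :=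
  ∀ ⦃E E₁ : Scheme.{u}⦄ (φ : E ⟶ T) (p₁ : E₁ ⟶ E) (p₂ : E₁ ⟶ T₁), IsPullback p₁ p₂ φ g →
    ∀ a b : E₁, p₂ a = u → p₂ b = u → p₁ a = p₁ b → a = b

theorem fibInj_of_isOpenImmersion {T₁ T : Scheme.{u}} (g : T₁ ⟶ T) [IsOpenImmersion g] (u : T₁) :
    FibInj g u := by
  intro E E₁ φ p₁ p₂ sq a b _ _ hab
  haveI : IsOpenImmersion p₁ := MorphismProperty.of_isPullback (P := @IsOpenImmersion) sq.flip
    inferInstance
  exact p₁.isOpenEmbedding.injective hab

theorem FibInj.comp {T₂ T₁ T : Scheme.{u}} {g₂ : T₂ ⟶ T₁} {g₁ : T₁ ⟶ T} {u₂ : T₂} {u₁ : T₁}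
    (h₂ : FibInj g₂ u₂) (h₁ : FibInj g₁ u₁) (hu : g₂ u₂ = u₁) : FibInj (g₂ ≫ g₁) u₂ := by
  intro E E₂ φ p₁ p₂ sq a b ha hb hab
  let k : E₂ ⟶ pullback φ g₁ := pullback.lift p₁ (p₂ ≫ g₂) (by rw [sq.w, Category.assoc])
  have hk1 : k ≫ pullback.fst φ g₁ = p₁ := pullback.lift_fst _ _ _
  have hk2 : k ≫ pullback.snd φ g₁ = p₂ ≫ g₂ := pullback.lift_snd _ _ _
  have sqk : IsPullback k p₂ (pullback.snd φ g₁) g₂ := by
    refine IsPullback.of_right ?_ hk2 (IsPullback.of_hasPullback φ g₁)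
    rw [hk1]
    exact sq
  have hka : k a = k b := by
    refine h₁ φ _ _ (IsPullback.of_hasPullback φ g₁) (k a) (k b) ?_ ?_ ?_
    · rw [← Scheme.Hom.comp_apply, hk2, Scheme.Hom.comp_apply, ha, hu]
    · rw [← Scheme.Hom.comp_apply, hk2, Scheme.Hom.comp_apply, hb, hu]
    · rw [← Scheme.Hom.comp_apply, ← Scheme.Hom.comp_apply, hk1, hab]
  exact h₂ _ _ _ sqk a b ha hb hka

/-- The Spec of an algebra map with trivial residue field extension at `P` is fibre-injective at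
`P`. -/
theorem fibInj_SpecMap {R R' : Type u} [CommRing R] [CommRing R'] [Algebra R R']
    (p : Ideal R) [p.IsPrime] (P : Ideal R') [hP : P.IsPrime] [P.LiesOver p]
    (H : Function.Bijective (Ideal.ResidueField.mapₐ p P (Algebra.ofId _ _) (P.over_def p))) :
    FibInj (Spec.map (CommRingCat.ofHom (algebraMap R R'))) (⟨P, hP⟩ : PrimeSpectrum R') := by
  intro E E₁ φ p₁ p₂ sq a b ha hb hab
  obtain ⟨_, ⟨W, hW, rfl⟩, haW, -⟩ := (E.isBasis_affineOpens).exists_subset_of_mem_open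
    (Set.mem_univ (p₁ a)) isOpen_univ
  let ψ : CommRingCat.of R ⟶ Γ(E, W) := Spec.preimage (hW.fromSpec ≫ φ)
  have hψ : Spec.map ψ = hW.fromSpec ≫ φ := Spec.map_preimage _
  algebraize [ψ.hom]
  have hψ' : CommRingCat.ofHom (algebraMap R Γ(E, W)) = ψ := rfl
  have po := CommRingCat.isPushout_tensorProduct R R' Γ(E, W)
  have pb := (isPullback_SpecMap_of_isPushout _ _ _ _ po).flip
  rw [hψ', hψ] at pb
  -- `pb : IsPullback (Spec.map inclRight) (Spec.map inclLeft) (hW.fromSpec ≫ φ) g`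
  have pbw : (Spec.map (CommRingCat.ofHom
      (Algebra.TensorProduct.includeRight.toRingHom : Γ(E, W) →+* R' ⊗[R] Γ(E, W))) ≫
      hW.fromSpec) ≫ φ = Spec.map (CommRingCat.ofHom (Algebra.TensorProduct.includeLeftRingHom :
      R' →+* R' ⊗[R] Γ(E, W))) ≫ Spec.map (CommRingCat.ofHom (algebraMap R R')) := by
    rw [Category.assoc]; exact pb.w
  let k := sq.lift _ _ pbw
  have hk1 : k ≫ p₁ = _ := sq.lift_fst _ _ pbw
  have hk2 : k ≫ p₂ = _ := sq.lift_snd _ _ pbw
  have sqk : IsPullback k (Spec.map (CommRingCat.ofHom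
      (Algebra.TensorProduct.includeRight.toRingHom : Γ(E, W) →+* R' ⊗[R] Γ(E, W))))
      p₁ hW.fromSpec := by
    refine IsPullback.of_right ?_ hk1 sq.flip
    rw [hk2]
    exact pb.flip
  have haW' : p₁ a ∈ Set.range hW.fromSpec := by rw [hW.range_fromSpec]; exact haW
  obtain ⟨y, hy⟩ := haW'
  obtain ⟨a', ha'1, ha'2⟩ := Scheme.exists_preimage_of_isPullback sqk a y hy.symm
  obtain ⟨b', hb'1, hb'2⟩ := Scheme.exists_preimage_of_isPullback sqk b y
    (by rw [← hab]; exact hy.symm)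
  have hLa : Spec.map (CommRingCat.ofHom (Algebra.TensorProduct.includeLeftRingHom :
      R' →+* R' ⊗[R] Γ(E, W))) a' = ⟨P, hP⟩ := by
    rw [← hk2, Scheme.Hom.comp_apply]
    change p₂ (k a') = _
    rw [ha'1, ha]
  have hLb : Spec.map (CommRingCat.ofHom (Algebra.TensorProduct.includeLeftRingHom :
      R' →+* R' ⊗[R] Γ(E, W))) b' = ⟨P, hP⟩ := by
    rw [← hk2, Scheme.Hom.comp_apply]
    change p₂ (k b') = _
    rw [hb'1, hb]
  haveI : a'.asIdeal.LiesOver P := ⟨by
    have := congrArg PrimeSpectrum.asIdeal hLa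
    exact this.symm⟩
  haveI : b'.asIdeal.LiesOver P := ⟨by
    have := congrArg PrimeSpectrum.asIdeal hLb
    exact this.symm⟩
  have hab' : a'.asIdeal = b'.asIdeal := by
    refine Ideal.eq_of_comap_eq_comap_of_bijective_residueFieldMap H a'.asIdeal b'.asIdeal ?_
    have := congrArg PrimeSpectrum.asIdeal (ha'2.trans hb'2.symm)
    exact this
  have : a' = b' := PrimeSpectrum.ext hab'
  rw [← ha'1, ← hb'1, this]

end Groth.Agent.Helper15.QfMulti
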