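import Groth.Agent.Lib.Helper15.FiniteNear
import Groth.Agent.Lib.Helper15.AlgSpEtCl
import Groth.Agent.Lib.Helper15.LqfSepSch4
import Groth.Agent.Lib.Helper16.AlgSp.ProperSp

/-!
# Étale-local splitting of a quasi-finite point for separated morphisms of algebraic spaces
-/

set_option autoImplicit false
universe u
open CategoryTheory CategoryTheory.Limits AlgebraicGeometry MorphismProperty Opposite
open AlgSp

namespace Groth.Agent.Helper15.Norm

variable {S : Scheme.{u}}

/-- An open immersion which is universally closed is a closed immersion. -/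
theorem repWith_isClosedImmersion_of_open_univClosed {X Y : Sp S} (f : X ⟶ Y)
    (hopen : RepWith @IsOpenImmersion f) (huc : IsUnivClosedMor f) :
    RepWith @IsClosedImmersion f := by
  have h1 : RepWith @UniversallyClosed f := (repWith_universallyClosed_iff f hopen.rep).2 huc
  refine ⟨hopen.rep, fun T V g fst snd sq => ?_⟩
  haveI : IsOpenImmersion snd.left := hopen.property g fst snd sq
  haveI : UniversallyClosed snd.left := h1.property g fst snd sq
  exact isClosedImmersion_of_isOpenImmersion_of_universallyClosed snd.left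

/-- An affine étale chart through a given point. -/
theorem exists_affine_etale_chart_at {Y : Sp S} (hY : IsAlgSpace Y) (y : Points Y) :
    ∃ (T : Over S) (c : (yon S).obj T ⟶ Y) (t : T.left), IsAffine T.left ∧ RepWith @Etale c ∧
      Points.ofPt c t = y := by
  obtain ⟨V₀, q, hqe, hqs⟩ := hY.atlas
  obtain ⟨v₀, hv₀⟩ := surjective_ofPt q hqs y
  obtain ⟨i, r, hr⟩ : ∃ (i : V₀.left.affineCover.I₀) (r : V₀.left.affineCover.X i),
      V₀.left.affineCover.f i r = v₀ :=
    ⟨V₀.left.affineCover.idx v₀, V₀.left.affineCover.covers v₀⟩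
  let T : Over S := Over.mk (V₀.left.affineCover.f i ≫ V₀.hom)
  let ι : T ⟶ V₀ := Over.homMk (V₀.left.affineCover.f i) rfl
  refine ⟨T, (yon S).map ι ≫ q, r, ?_, ?_, ?_⟩
  · change IsAffine (V₀.left.affineCover.X i); infer_instance
  · exact (RepWith @Etale).comp_mem _ _ ((repWith_yon_map_iff _ _).2
      (inferInstance : Etale (V₀.left.affineCover.f i))) hqe
  · rw [ofPt_comp_yon_map]
    change Points.ofPt q (V₀.left.affineCover.f i r) = y
    rw [hr, hv₀]

/-- A scheme chart of a separated locally quasi-finite morphism over an affine étale chart of the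
target, through a given point. -/
theorem exists_lqf_scheme_chart_at {X' Y : Sp S} (hX' : IsAlgSpace X') (hY : IsAlgSpace Y)
    (g : X' ⟶ Y) (hqf : LocP (@LocallyQuasiFinite ⊓ @LocallyOfFiniteType) g)
    (hsep : IsSeparatedMor g) (x₀ : Points X') :
    ∃ (T E : Over S) (c : (yon S).obj T ⟶ Y) (φ : E ⟶ T) (a₁ : (yon S).obj E ⟶ X') (e : E.left),
      IsAffine T.left ∧ RepWith @Etale c ∧ IsPullback a₁ ((yon S).map φ) g c ∧
      LocallyQuasiFinite φ.left ∧ LocallyOfFiniteType φ.left ∧ IsSeparated φ.left ∧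
      Points.ofPt a₁ e = x₀ := by
  obtain ⟨T, c, t, hT, hce, ht⟩ := exists_affine_etale_chart_at hY (Points.map g x₀)
  have hrep := LqfSep.representable_of_lqf_separated hX' hY g hqf hsep
  have h1 : RepWith (@LocallyQuasiFinite ⊓ @LocallyOfFiniteType) g :=
    repWith_of_locP goodP_lqf_lft hY g hrep hqf
  have h3 : RepWith @IsSeparated g := (isSeparatedMor_iff_repWith hX' hY g hrep).1 hsep
  have sq := hrep.isPullback c
  have h1' := h1.property_snd c
  obtain ⟨p, hp, -⟩ := exists_point_of_isPullback sq x₀ (Points.ofScheme T t)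
    (by rw [← Points.ofPt_eq_map_ofScheme, ht])
  obtain ⟨e, rfl⟩ := (Points.schemeEquiv (hrep.pullback c)).surjective p
  refine ⟨T, hrep.pullback c, c, hrep.snd c, hrep.fst c, e, hT, hce, sq, h1'.1, h1'.2,
    h3.property_snd c, ?_⟩
  rw [Points.ofPt_eq_map_ofScheme]
  exact hp

/-- **Étale-local splitting at a quasi-finite point** of a separated morphism of algebraic
spaces. -/
theorem exists_etale_split {X Y : Sp S} (hX : IsAlgSpace X) (hY : IsAlgSpace Y) (f : X ⟶ Y)
    (hsep : IsSeparatedMor f) (x : Points X)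
    (hx : HasAtMor (fun U _ h u => ∃ W : U.Opens, u ∈ W ∧
      (@LocallyQuasiFinite ⊓ @LocallyOfFiniteType : MorphismProperty Scheme.{u}) (W.ι ≫ h)) f x) :
    ∃ (T₁ Vo : Over S) (a : (yon S).obj T₁ ⟶ Y) (ψ : Vo ⟶ T₁) (b : (yon S).obj Vo ⟶ X)
      (v : Vo.left) (comm : b ≫ f = (yon S).map ψ ≫ a),
      RepWith @Etale a ∧ IsFinite ψ.left ∧ Points.ofPt b v = x ∧
      ∀ (P : Sp S) (prX : P ⟶ X) (prU : P ⟶ (yon S).obj T₁) (sq : IsPullback prX prU f a),
        RepWith @IsOpenImmersion (sq.lift b ((yon S).map ψ) comm) ∧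
        RepWith @IsClosedImmersion (sq.lift b ((yon S).map ψ) comm) := by
  have hP₀ : ∀ ⦃A B : Scheme.{u}⦄ (g : A ⟶ B),
      (@LocallyQuasiFinite ⊓ @LocallyOfFiniteType : MorphismProperty Scheme.{u}) g ↔
        (LocallyQuasiFinite g ∧ LocallyOfFiniteType g) := fun A B g => Iff.rfl
  obtain ⟨X', j, hX', hj, ⟨x₀, hx₀⟩, hloc⟩ := (hasAtMor_nbhd_iff_exists_open_subspace _
    (Or.inr (Or.inr (Or.inr (Or.inr (Or.inr (Or.inl hP₀)))))) hX hY f x).1 hx
  haveI : Mono j := mono_of_repWith isOpenImmersion_le_mono _ hj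
  have hsepg : IsSeparatedMor (j ≫ f) :=
    Groth.Agent.Helper16.AS.isSeparatedMor_comp j f (isSeparatedMor_of_mono j) hsep
  obtain ⟨T, E, c, φ, a₁, e, hT, hce, sqE, h1, h2, h3, he⟩ :=
    exists_lqf_scheme_chart_at hX' hY (j ≫ f) hloc hsepg x₀
  haveI := h1
  haveI := h2
  haveI := h3
  obtain ⟨T₁, g₁, hg₁, -, Vo, Wo, v, hcompl, hfin, hv⟩ :=
    exists_etale_isCompl_of_quasiFiniteAt φ.left (rfl : φ.left e = φ.left e)
      (φ.left.quasiFiniteAt e)
  haveI := hg₁
  let T₁' : Over S := Over.mk (g₁ ≫ T.hom)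
  let γ : T₁' ⟶ T := Over.homMk g₁ rfl
  let E₁ : Over S := Over.mk (pullback.fst φ.left g₁ ≫ E.hom)
  let ρ₁ : E₁ ⟶ E := Over.homMk (pullback.fst φ.left g₁) rfl
  let ρ₂ : E₁ ⟶ T₁' := Over.homMk (pullback.snd φ.left g₁) (by
    change pullback.snd φ.left g₁ ≫ g₁ ≫ T.hom = pullback.fst φ.left g₁ ≫ E.hom
    rw [← Category.assoc, ← pullback.condition, Category.assoc, Over.w φ])
  have sqE₁ : IsPullback ρ₁ ρ₂ φ γ :=
    IsPullback.of_map_of_faithful (Over.forget S) (IsPullback.of_hasPullback φ.left g₁)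
  let Vo' : Over S := Over.mk (Vo.ι ≫ E₁.hom)
  let ιV : Vo' ⟶ E₁ := Over.homMk Vo.ι rfl
  have big : IsPullback ((yon S).map ρ₁ ≫ a₁) ((yon S).map ρ₂) (j ≫ f) ((yon S).map γ ≫ c) :=
    (sqE₁.map (yon S)).paste_horiz sqE
  have hae : RepWith @Etale ((yon S).map γ ≫ c) :=
    (RepWith @Etale).comp_mem _ _ ((repWith_yon_map_iff _ _).2 (inferInstance : Etale g₁)) hce
  have comm : ((yon S).map ιV ≫ ((yon S).map ρ₁ ≫ a₁) ≫ j) ≫ f =
      (yon S).map (ιV ≫ ρ₂) ≫ ((yon S).map γ ≫ c) := by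
    rw [Functor.map_comp]
    simp only [Category.assoc]
    congr 1
    simpa only [Category.assoc] using big.w
  refine ⟨T₁', Vo', (yon S).map γ ≫ c, ιV ≫ ρ₂, (yon S).map ιV ≫ ((yon S).map ρ₁ ≫ a₁) ≫ j, v,
    comm, hae, hfin, ?_, ?_⟩
  · have e1 : Points.ofPt ((yon S).map ιV ≫ ((yon S).map ρ₁ ≫ a₁) ≫ j) (v : Vo'.left) =
        Points.map j (Points.ofPt a₁ (ρ₁.left (ιV.left (v : Vo'.left)))) := by
      rw [ofPt_comp_yon_map, ← Points.map_ofPt, ofPt_comp_yon_map]
    rw [e1, ← hx₀, ← he]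
    congr 2
  · intro P prX prU sq
    have hPsp : IsAlgSpace P := isAlgSpace_of_isPullback hY.diag hX (IsAlgSpace.yon_obj _) sq
    have hw : (((yon S).map ρ₁ ≫ a₁) ≫ j) ≫ f = (yon S).map ρ₂ ≫ ((yon S).map γ ≫ c) := by
      simpa only [Category.assoc] using big.w
    obtain ⟨k, hk1, hk2⟩ : ∃ k : (yon S).obj E₁ ⟶ P, k ≫ prX = ((yon S).map ρ₁ ≫ a₁) ≫ j ∧
        k ≫ prU = (yon S).map ρ₂ := ⟨sq.lift _ _ hw, sq.lift_fst _ _ _, sq.lift_snd _ _ _⟩
    have hk1' : k ≫ prX = (yon S).map ρ₁ ≫ a₁ ≫ j := by rw [hk1, Category.assoc]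
    have sqk : IsPullback k ((yon S).map ρ₁ ≫ a₁) prX j := by
      refine IsPullback.of_right ?_ hk1 sq.flip
      rw [hk2]
      exact big.flip
    have hkopen : RepWith @IsOpenImmersion k := (RepWith @IsOpenImmersion).of_isPullback sqk.flip hj
    have hlift : sq.lift ((yon S).map ιV ≫ ((yon S).map ρ₁ ≫ a₁) ≫ j) ((yon S).map (ιV ≫ ρ₂)) comm =
        (yon S).map ιV ≫ k := by
      apply sq.hom_ext
      · rw [sq.lift_fst]
        simp only [Category.assoc]
        rw [hk1']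
      · rw [sq.lift_snd]
        simp only [Category.assoc]
        rw [hk2, Functor.map_comp]
    rw [hlift]
    have hopen : RepWith @IsOpenImmersion ((yon S).map ιV ≫ k) :=
      (RepWith @IsOpenImmersion).comp_mem _ _
        ((repWith_yon_map_iff _ _).2 (inferInstance : IsOpenImmersion Vo.ι)) hkopen
    refine ⟨hopen, repWith_isClosedImmersion_of_open_univClosed _ hopen ?_⟩
    have hsepU : IsSeparatedMor prU := Groth.Agent.Helper16.AS.isSeparatedMor_of_isPullback sq hsep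
    have hfinM : IsFiniteMor ((yon S).map (ιV ≫ ρ₂)) := by
      rw [isFiniteMor_iff_affRep]
      exact affRep_of_repWith ((repWith_yon_map_iff _ _).2 hfin)
    have huc : IsUnivClosedMor ((yon S).map (ιV ≫ ρ₂)) :=
      ((isFiniteMor_iff_affine_proper (IsAlgSpace.yon_obj _) (IsAlgSpace.yon_obj _) _).1 hfinM).2.2.2
    exact isUnivClosedMor_of_comp_separated (IsAlgSpace.yon_obj _) hPsp
      (IsAlgSpace.yon_obj _).diag ((yon S).map ιV ≫ k) ((yon S).map (ιV ≫ ρ₂)) prU
      (by rw [Category.assoc, hk2, Functor.map_comp]) hsepU huc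

end Groth.Agent.Helper15.Norm
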