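import Groth.Agent.Lib.Helper15.QfMulti3
import Groth.Agent.Lib.Helper15.QfSplit
import Groth.Agent.Lib.Helper15.QFLocusSp
import Groth.Agent.Lib.Helper15.QFFinite
import Groth.Agent.Lib.Helper15.FibreProdPts

/-!
# Finiteness of the set of points of a chart over finitely many quasi-finite points
-/

set_option autoImplicit false
universe u
open CategoryTheory CategoryTheory.Limits AlgebraicGeometry MorphismProperty Opposite
open AlgSp

namespace Groth.Agent.Helper15.QfMulti

open Groth.Agent.Helper15 Groth.Agent.Helper15.ChartBC Groth.Agent.Helper15.QFDiscrete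

variable {S : Scheme.{u}}

theorem finite_chart_points {X Y X' : Sp S} (hX : IsAlgSpace X) (hY : IsAlgSpace Y)
    (f : X ⟶ Y) (hlft : LocP @LocallyOfFiniteType f) (j : X' ⟶ X) (hX' : IsAlgSpace X')
    (hj : RepWith @IsOpenImmersion j)
    (hchar : ∀ (Y'' X'' : Sp S), IsAlgSpace Y'' → IsAlgSpace X'' → ∀ (g : Y'' ⟶ Y) (b : X'' ⟶ X)
        (f'' : X'' ⟶ Y''), IsPullback b f'' f g → ∀ x'' : Points X'',
          Points.map b x'' ∈ Set.range (Points.map j) ↔
            HasAtMor (fun U _ h u => ∃ W : U.Opens, u ∈ W ∧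
              (@LocallyQuasiFinite ⊓ @LocallyOfFiniteType : MorphismProperty Scheme.{u})
                (W.ι ≫ h)) f'' x'')
    {T E : Over S} (c : (yon S).obj T ⟶ Y) (φ : E ⟶ T) (a₁ : (yon S).obj E ⟶ X')
    (sqE : IsPullback a₁ ((yon S).map φ) (j ≫ f) c) (t : T.left)
    (y : Points Y) (hty : Points.ofPt c t = y)
    (xs : Finset (Points X)) (hxs : ∀ x ∈ xs, Points.map f x = y)
    (hx : ∀ x ∈ xs, HasAtMor (fun U _ h u => ∃ W : U.Opens, u ∈ W ∧
      (@LocallyQuasiFinite ⊓ @LocallyOfFiniteType : MorphismProperty Scheme.{u}) (W.ι ≫ h)) f x)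
    (h4 : IsQuasiCompactMor f ∨ IsDecent Y) :
    {e : E.left | φ.left e = t ∧ Points.map j (Points.ofPt a₁ e) ∈ xs}.Finite := by
  rcases h4 with hqc | hdec
  · -- quasi-compact case
    have sqP := IsPullback.of_hasPullback f c
    have hPT : IsAlgSpace (pullback f c) :=
      isAlgSpace_of_isPullback hY.diag hX (IsAlgSpace.yon_obj T) sqP
    have lft₂ : LocP @LocallyOfFiniteType (pullback.snd f c) :=
      locP_listed_of_isPullback @LocallyOfFiniteType (Or.inl rfl) hX hY (IsAlgSpace.yon_obj T)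
        sqP hlft
    have qc₂ : IsQuasiCompactMor (pullback.snd f c) := fun Z Z' hZ hZq h fst' snd' sq' =>
      hqc hZ hZq (h ≫ c) (fst' ≫ pullback.fst f c) snd' (sq'.paste_horiz sqP)
    have fin := finite_qf_over_point hPT (IsAlgSpace.yon_obj T) (pullback.snd f c) ⟨lft₂, qc₂⟩
      (Points.ofScheme T t)
    let ℓ : (yon S).obj E ⟶ pullback f c := pullback.lift (a₁ ≫ j) ((yon S).map φ)
      (by rw [Category.assoc]; exact sqE.w)
    have hℓ1 : ℓ ≫ pullback.fst f c = a₁ ≫ j := pullback.lift_fst _ _ _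
    have hℓ2 : ℓ ≫ pullback.snd f c = (yon S).map φ := pullback.lift_snd _ _ _
    have sqℓ : IsPullback ℓ a₁ (pullback.fst f c) j := by
      refine IsPullback.of_right ?_ hℓ1 sqP.flip
      rw [hℓ2]
      exact sqE.flip
    have hℓo : RepWith @IsOpenImmersion ℓ := (RepWith @IsOpenImmersion).of_isPullback sqℓ.flip hj
    have hinj : Function.Injective (fun e : E.left => Points.ofPt ℓ e) := by
      intro e e' hee
      have h1 : Points.map ℓ (Points.ofScheme E e) = Points.map ℓ (Points.ofScheme E e') := by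
        rw [← Points.ofPt_eq_map_ofScheme, ← Points.ofPt_eq_map_ofScheme]; exact hee
      exact (Points.schemeEquiv E).injective
        (Groth.Agent.Helper16.AS.injective_points_map_of_open ℓ hℓo h1)
    refine (fin.preimage (hinj.injOn)).subset ?_
    rintro e ⟨het, hexs⟩
    refine ⟨?_, ?_⟩
    · change Points.map (pullback.snd f c) (Points.ofPt ℓ e) = _
      rw [Points.map_ofPt, hℓ2, ofPt_yon_map, het]
    · refine (hchar _ _ (IsAlgSpace.yon_obj T) hPT c (pullback.fst f c) (pullback.snd f c) sqP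
        (Points.ofPt ℓ e)).1 ⟨Points.ofPt a₁ e, ?_⟩
      rw [Points.map_ofPt, Points.map_ofPt, hℓ1]
  · -- decent case
    obtain ⟨r, hr, hm, -⟩ := hdec y
    have hsub : {e : E.left | φ.left e = t ∧ Points.map j (Points.ofPt a₁ e) ∈ xs} ⊆
        ⋃ x ∈ xs, {e : E.left | φ.left e = t ∧ Points.map j (Points.ofPt a₁ e) = x} := by
      rintro e ⟨h1, h2⟩
      exact Set.mem_iUnion₂.2 ⟨_, h2, h1, rfl⟩
    refine (Set.Finite.biUnion xs.finite_toSet (fun x hxm => ?_)).subset hsub
    have hxr : x ∈ Set.range (Points.map j) := by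
      have := (hchar Y X hY hX (𝟙 Y) (𝟙 X) f (IsPullback.id_horiz f) x).2 (hx x hxm)
      rwa [Points.map_id] at this
    obtain ⟨x', rfl⟩ := hxr
    have hg : HasAtMor (fun U _ h u => ∃ W : U.Opens, u ∈ W ∧
        (@LocallyQuasiFinite ⊓ @LocallyOfFiniteType : MorphismProperty Scheme.{u}) (W.ι ≫ h))
        (j ≫ f) x' := hasAtMor_nbhd_comp_open f j hj x' (hx _ hxm)
    have hgy : Points.map (j ≫ f) x' = y := by rw [Points.map_comp]; exact hxs _ hxm
    have fin := FibreProdPts.finite_points_over_pair hY c (j ≫ f) ((yon S).map φ) a₁ sqE.flip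
      (Points.ofScheme T t) x' (by rw [← Points.ofPt_eq_map_ofScheme, hty, hgy]) r
      (by rw [hr, hgy]) hm hg
    have hinj : Function.Injective (fun e : E.left => Points.ofScheme E e) :=
      (Points.schemeEquiv E).injective
    refine (fin.preimage (hinj.injOn)).subset ?_
    rintro e ⟨het, hex⟩
    refine ⟨?_, ?_⟩
    · change Points.map ((yon S).map φ) (Points.ofScheme E e) = _
      rw [← Points.ofPt_eq_map_ofScheme, ofPt_yon_map, het]
    · change Points.map a₁ (Points.ofScheme E e) = x'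
      rw [← Points.ofPt_eq_map_ofScheme]
      exact Groth.Agent.Helper16.AS.injective_points_map_of_open j hj hex

end Groth.Agent.Helper15.QfMulti
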