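import Groth.Agent.Lib.Helper15.QfMulti4

/-!
# Étale-local splitting at finitely many quasi-finite points for separated morphisms of algebraic
spaces
-/

set_option autoImplicit false
universe u
open CategoryTheory CategoryTheory.Limits AlgebraicGeometry MorphismProperty Opposite
open AlgSp

namespace Groth.Agent.Helper15.QfMulti

open Groth.Agent.Helper15 Groth.Agent.Helper15.ChartBC Groth.Agent.Helper15.Norm

variable {S : Scheme.{u}}

theorem exists_etale_split_multi {X Y : Sp S} (hX : IsAlgSpace X) (hY : IsAlgSpace Y) (f : X ⟶ Y)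
    (hlft : LocP @LocallyOfFiniteType f) (hsep : IsSeparatedMor f) (y : Points Y)
    (xs : Finset (Points X)) (hxs : ∀ x ∈ xs, Points.map f x = y)
    (hx : ∀ x ∈ xs, HasAtMor (fun U _ h u => ∃ W : U.Opens, u ∈ W ∧
      (@LocallyQuasiFinite ⊓ @LocallyOfFiniteType : MorphismProperty Scheme.{u}) (W.ι ≫ h)) f x)
    (h4 : IsQuasiCompactMor f ∨ IsDecent Y) :
    ∃ (T₁ Vo : Over S) (a : (yon S).obj T₁ ⟶ Y) (t₁ : T₁.left) (ψ : Vo ⟶ T₁)
      (b : (yon S).obj Vo ⟶ X) (comm : b ≫ f = (yon S).map ψ ≫ a),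
      RepWith @Etale a ∧ Points.ofPt a t₁ = y ∧ IsFinite ψ.left ∧
      (∀ v : Vo.left, ψ.left v = t₁ → Points.ofPt b v ∈ xs) ∧
      ∀ (P : Sp S) (prX : P ⟶ X) (prU : P ⟶ (yon S).obj T₁) (sq : IsPullback prX prU f a),
        RepWith @IsOpenImmersion (sq.lift b ((yon S).map ψ) comm) ∧
        RepWith @IsClosedImmersion (sq.lift b ((yon S).map ψ) comm) ∧
        ∀ w : Points P, w ∉ Set.range (Points.map (sq.lift b ((yon S).map ψ) comm)) →
          Points.map prU w = Points.ofScheme T₁ t₁ → Points.map prX w ∉ xs := by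
  classical
  obtain ⟨X', j, hX', hj, hloc, -, hchar⟩ := qf_locus hX hY f hlft
  haveI : Mono j := mono_of_repWith isOpenImmersion_le_mono _ hj
  have hsepg : IsSeparatedMor (j ≫ f) :=
    Groth.Agent.Helper16.AS.isSeparatedMor_comp j f (isSeparatedMor_of_mono j) hsep
  obtain ⟨T, c, t, hT, hce, hty⟩ := exists_affine_etale_chart_at hY y
  have hrep := LqfSep.representable_of_lqf_separated hX' hY (j ≫ f) hloc hsepg
  have h1 : RepWith (@LocallyQuasiFinite ⊓ @LocallyOfFiniteType) (j ≫ f) :=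
    repWith_of_locP goodP_lqf_lft hY (j ≫ f) hrep hloc
  have h3 : RepWith @IsSeparated (j ≫ f) := (isSeparatedMor_iff_repWith hX' hY (j ≫ f) hrep).1 hsepg
  have sqE := hrep.isPullback c
  set E := hrep.pullback c with hE
  set φ : E ⟶ T := hrep.snd c with hφ
  set a₁ : (yon S).obj E ⟶ X' := hrep.fst c with ha₁
  have h1' := h1.property_snd c
  haveI : LocallyQuasiFinite φ.left := h1'.1
  haveI : LocallyOfFiniteType φ.left := h1'.2
  haveI : IsSeparated φ.left := h3.property_snd c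
  have hGfin := finite_chart_points hX hY f hlft j hX' hj hchar c φ a₁ sqE t y hty xs hxs hx h4
  obtain ⟨T₁, g₁, t₁, hg₁, hgt₁, -, E₁, p₁, p₂, sq₁, V, -, hVfin, hViff⟩ :=
    exists_split φ.left t hGfin.toFinset (fun e he => ((Set.Finite.mem_toFinset _).1 he).1)
  haveI := hg₁
  haveI := hVfin
  let T₁' : Over S := Over.mk (g₁ ≫ T.hom)
  let γ : T₁' ⟶ T := Over.homMk g₁ rfl
  let E₁' : Over S := Over.mk (p₁ ≫ E.hom)
  let ρ₁ : E₁' ⟶ E := Over.homMk p₁ rfl
  let ρ₂ : E₁' ⟶ T₁' := Over.homMk p₂ (by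
    change p₂ ≫ g₁ ≫ T.hom = p₁ ≫ E.hom
    rw [← Category.assoc, ← sq₁.w, Category.assoc, CategoryTheory.Over.w φ])
  have sqE₁ : IsPullback ρ₁ ρ₂ φ γ := IsPullback.of_map_of_faithful (Over.forget S) sq₁
  let Vo' : Over S := Over.mk (V.ι ≫ E₁'.hom)
  let ιV : Vo' ⟶ E₁' := Over.homMk V.ι rfl
  have big : IsPullback ((yon S).map ρ₁ ≫ a₁) ((yon S).map ρ₂) (j ≫ f) ((yon S).map γ ≫ c) :=
    (sqE₁.map (yon S)).paste_horiz sqE
  have hae : RepWith @Etale ((yon S).map γ ≫ c) :=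
    (RepWith @Etale).comp_mem _ _ ((repWith_yon_map_iff _ _).2 (inferInstance : Etale g₁)) hce
  have comm : ((yon S).map ιV ≫ ((yon S).map ρ₁ ≫ a₁) ≫ j) ≫ f =
      (yon S).map (ιV ≫ ρ₂) ≫ ((yon S).map γ ≫ c) := by
    rw [Functor.map_comp]
    simp only [Category.assoc]
    congr 1
    simpa only [Category.assoc] using big.w
  have hfinψ : IsFinite (ιV ≫ ρ₂).left := hVfin
  refine ⟨T₁', Vo', (yon S).map γ ≫ c, t₁, ιV ≫ ρ₂, (yon S).map ιV ≫ ((yon S).map ρ₁ ≫ a₁) ≫ j,
    comm, hae, ?_, hfinψ, ?_, ?_⟩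
  · rw [ofPt_comp_yon_map]
    change Points.ofPt c (g₁ t₁) = y
    rw [hgt₁, hty]
  · intro v hv
    have hv' : p₂ (V.ι v) = t₁ := hv
    have hmem := (hViff (V.ι v) hv').1 v.2
    have hmem' := ((Set.Finite.mem_toFinset _).1 hmem).2
    have e1 : Points.ofPt ((yon S).map ιV ≫ ((yon S).map ρ₁ ≫ a₁) ≫ j) (v : Vo'.left) =
        Points.map j (Points.ofPt a₁ (ρ₁.left (ιV.left (v : Vo'.left)))) := by
      rw [ofPt_comp_yon_map, ← Points.map_ofPt, ofPt_comp_yon_map]
    rw [e1]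
    exact hmem'
  · intro P prX prU sq
    have hPsp : IsAlgSpace P := isAlgSpace_of_isPullback hY.diag hX (IsAlgSpace.yon_obj _) sq
    have hw : (((yon S).map ρ₁ ≫ a₁) ≫ j) ≫ f = (yon S).map ρ₂ ≫ ((yon S).map γ ≫ c) := by
      simpa only [Category.assoc] using big.w
    obtain ⟨k, hk1, hk2⟩ : ∃ k : (yon S).obj E₁' ⟶ P, k ≫ prX = ((yon S).map ρ₁ ≫ a₁) ≫ j ∧
        k ≫ prU = (yon S).map ρ₂ := ⟨sq.lift _ _ hw, sq.lift_fst _ _ _, sq.lift_snd _ _ _⟩
    have hk1' : k ≫ prX = (yon S).map ρ₁ ≫ a₁ ≫ j := by rw [hk1, Category.assoc]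
    have sqk : IsPullback k ((yon S).map ρ₁ ≫ a₁) prX j := by
      refine IsPullback.of_right ?_ hk1 sq.flip
      rw [hk2]
      exact big.flip
    have hkopen : RepWith @IsOpenImmersion k := (RepWith @IsOpenImmersion).of_isPullback sqk.flip hj
    have hlift : sq.lift ((yon S).map ιV ≫ ((yon S).map ρ₁ ≫ a₁) ≫ j) ((yon S).map (ιV ≫ ρ₂)) comm =
        (yon S).map ιV ≫ k := by
      apply sq.hom_ext
      · rw [sq.lift_fst]
        simp only [Category.assoc]
        rw [hk1']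
      · rw [sq.lift_snd]
        simp only [Category.assoc]
        rw [hk2, Functor.map_comp]
    rw [hlift]
    have hopen : RepWith @IsOpenImmersion ((yon S).map ιV ≫ k) :=
      (RepWith @IsOpenImmersion).comp_mem _ _
        ((repWith_yon_map_iff _ _).2 (inferInstance : IsOpenImmersion V.ι)) hkopen
    refine ⟨hopen, repWith_isClosedImmersion_of_open_univClosed _ hopen ?_, ?_⟩
    · have hsepU : IsSeparatedMor prU := Groth.Agent.Helper16.AS.isSeparatedMor_of_isPullback sq hsep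
      have hfinM : IsFiniteMor ((yon S).map (ιV ≫ ρ₂)) := by
        rw [isFiniteMor_iff_affRep]
        exact affRep_of_repWith ((repWith_yon_map_iff _ _).2 hfinψ)
      have huc : IsUnivClosedMor ((yon S).map (ιV ≫ ρ₂)) :=
        ((isFiniteMor_iff_affine_proper (IsAlgSpace.yon_obj _) (IsAlgSpace.yon_obj _) _).1 hfinM).2.2.2
      exact isUnivClosedMor_of_comp_separated (IsAlgSpace.yon_obj _) hPsp
        (IsAlgSpace.yon_obj _).diag ((yon S).map ιV ≫ k) ((yon S).map (ιV ≫ ρ₂)) prU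
        (by rw [Category.assoc, hk2, Functor.map_comp]) hsepU huc
    · intro w hwV hwU hwX
      apply hwV
      -- `prX w` lies in the quasi-finite locus
      have hxr : Points.map prX w ∈ Set.range (Points.map j) := by
        have := (hchar Y X hY hX (𝟙 Y) (𝟙 X) f (IsPullback.id_horiz f) _).2 (hx _ hwX)
        rwa [Points.map_id] at this
      obtain ⟨x', hx'⟩ := hxr
      obtain ⟨pe, hpe1, hpe2⟩ := exists_point_of_isPullback sqk w x' hx'.symm
      obtain ⟨e₁, rfl⟩ := (Points.schemeEquiv E₁').surjective pe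
      change Points.map k (Points.ofScheme E₁' e₁) = w at hpe1
      change Points.map ((yon S).map ρ₁ ≫ a₁) (Points.ofScheme E₁' e₁) = x' at hpe2
      rw [← Points.ofPt_eq_map_ofScheme] at hpe1 hpe2
      have he₁t : p₂ e₁ = t₁ := by
        apply (Points.schemeEquiv T₁').injective
        change Points.ofScheme T₁' (ρ₂.left e₁) = Points.ofScheme T₁' t₁
        rw [← ofPt_yon_map, ← hk2, ← Points.map_ofPt, hpe1, hwU]
      have he₁F : p₁ e₁ ∈ hGfin.toFinset := by
        rw [Set.Finite.mem_toFinset]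
        refine ⟨?_, ?_⟩
        · change φ.left (p₁ e₁) = t
          rw [← Scheme.Hom.comp_apply, sq₁.w, Scheme.Hom.comp_apply, he₁t, hgt₁]
        · have : Points.ofPt a₁ (p₁ e₁) = x' := by
            rw [← hpe2, ofPt_comp_yon_map]
            rfl
          rw [this, hx']
          exact hwX
      have he₁V : e₁ ∈ V := (hViff e₁ he₁t).2 he₁F
      refine ⟨Points.ofScheme Vo' (⟨e₁, he₁V⟩ : V), ?_⟩
      rw [← Points.ofPt_eq_map_ofScheme, ofPt_comp_yon_map]
      exact hpe1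

end Groth.Agent.Helper15.QfMulti
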