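import Mathlib
import Groth.Agent.Lib.Helper15.AlgSpLim25
import Groth.Agent.Lib.Helper15.AlgSpOpen
import Groth.Agent.Lib.Helper15.AlgSpLocal
import Groth.Agent.Lib.Helper15.CatLemmas

/-!
# Quasi-compact affine charts of quasi-separated algebraic spaces
-/

set_option autoImplicit false
universe u
open CategoryTheory CategoryTheory.Limits AlgebraicGeometry MorphismProperty Opposite
open AlgSp

namespace Groth.Agent.Helper15.QsCharts

open Groth.Agent.Helper15

variable {S : Scheme.{u}}

/-- The fibre product of two affine schemes over `S` both mapping into one affine open of `S` is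
affine. -/
theorem isAffine_pullback_of_range_le {A B : Scheme.{u}} [IsAffine A] [IsAffine B]
    (f : A ⟶ S) (g : B ⟶ S) (W : S.Opens) (hW : IsAffineOpen W)
    (hf : ∀ a : A, f a ∈ W) (hg : ∀ b : B, g b ∈ W) : IsAffine (pullback f g) := by
  haveI : IsAffine (W : Scheme.{u}) := hW
  have hf' : Set.range f ⊆ Set.range W.ι := by
    rintro _ ⟨a, rfl⟩
    rw [Scheme.Opens.range_ι]
    exact hf a
  have hg' : Set.range g ⊆ Set.range W.ι := by
    rintro _ ⟨b, rfl⟩
    rw [Scheme.Opens.range_ι]
    exact hg b
  let f' : A ⟶ W := IsOpenImmersion.lift W.ι f hf'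
  let g' : B ⟶ W := IsOpenImmersion.lift W.ι g hg'
  have ef : f' ≫ W.ι = f := IsOpenImmersion.lift_fac _ _ _
  have eg : g' ≫ W.ι = g := IsOpenImmersion.lift_fac _ _ _
  have sq := isPullback_comp_mono W.ι (IsPullback.of_hasPullback f' g')
  rw [ef, eg] at sq
  exact IsAffine.of_isIso sq.isoPullback.inv

/-- An etale surjective chart from an affine scheme (mapping into an affine open of the base) of a
quasi-separated algebraic space is quasi-compact. -/
theorem repWith_quasiCompact_chart {X : Sp S} (hqs : IsQuasiSeparatedSp X) {U : Over S}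
    (hU : IsAffine U.left) (p : (yon S).obj U ⟶ X) (hpe : RepWith @Etale p)
    (hps : RepWith @Surjective p) (W : S.Opens) (hW : IsAffineOpen W)
    (hUW : ∀ v : U.left, U.hom v ∈ W) : RepWith @QuasiCompact p := by
  refine repWith_of_forall_affine hpe.rep @QuasiCompact (fun T V hT g fst snd sq => ?_)
  obtain ⟨fst', rfl⟩ := (yon S).map_surjective fst
  have hsurj : Surjective snd.left := hps.property g _ snd sq
  have hTW : ∀ t : T.left, T.hom t ∈ W := by
    intro t
    obtain ⟨v, rfl⟩ := hsurj.surj t
    have e1 : snd.left ≫ T.hom = V.hom := Over.w snd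
    have e2 : fst'.left ≫ U.hom = V.hom := Over.w fst'
    have : T.hom (snd.left v) = U.hom (fst'.left v) := by
      rw [← Scheme.Hom.comp_apply, ← Scheme.Hom.comp_apply, e1, e2]
    rw [this]
    exact hUW _
  have hqc : QuasiCompact (prod.lift fst' snd).left := prod_lift_of_repWith_diag hqs sq
  haveI : IsAffine (pullback U.hom T.hom) :=
    isAffine_pullback_of_range_le U.hom T.hom W hW hUW hTW
  haveI : IsAffine (U ⨯ T).left := IsAffine.of_isIso (Over.prodLeftIsoPullback U T).hom
  haveI : CompactSpace V.left := by
    have := hqc.isCompact_preimage (Set.univ) isOpen_univ isCompact_univ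
    rw [Set.preimage_univ] at this
    exact isCompact_univ_iff.1 this
  exact quasiCompact_of_compactSpace _

end Groth.Agent.Helper15.QsCharts
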