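import Mathlib

/-! # Open immersions of quasi-affine schemes are base changes of the maps of spectra of global sections -/

set_option autoImplicit false
universe u
open CategoryTheory CategoryTheory.Limits AlgebraicGeometry

namespace Groth.Agent.Helper15

theorem quasiAffine_openImm_isPullback {U V : Scheme.{u}} (j : U ⟶ V)
    [IsOpenImmersion j] [U.IsQuasiAffine] [V.IsQuasiAffine] :
    IsPullback (𝟙 U) U.toSpecΓ (j ≫ V.toSpecΓ) (Spec.map j.appTop) := by
  have w : 𝟙 U ≫ j ≫ V.toSpecΓ = U.toSpecΓ ≫ Spec.map j.appTop := by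
    rw [Category.id_comp, Scheme.toSpecΓ_naturality]
  set g := j ≫ V.toSpecΓ with hg
  set φ := Spec.map j.appTop with hφ
  let s : U ⟶ pullback g φ := pullback.lift (𝟙 U) U.toSpecΓ w
  have hs1 : s ≫ pullback.fst g φ = 𝟙 U := pullback.lift_fst _ _ _
  have hs2 : s ≫ pullback.snd g φ = U.toSpecΓ := pullback.lift_snd _ _ _
  haveI : IsOpenImmersion (s ≫ pullback.snd g φ) := by rw [hs2]; infer_instance
  haveI : IsOpenImmersion s := IsOpenImmersion.of_comp s (pullback.snd g φ)
  haveI : IsClosedImmersion (s ≫ pullback.fst g φ) := by rw [hs1]; infer_instance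
  haveI : IsClosedImmersion s := IsClosedImmersion.of_comp s (pullback.fst g φ)
  have hdense : DenseRange s := by
    have h1 : DenseRange (s ≫ pullback.snd g φ) := by
      rw [hs2]; exact U.toSpecΓ.denseRange
    have h2 : Dense (pullback.snd g φ ⁻¹' Set.range (s ≫ pullback.snd g φ)) :=
      h1.preimage (pullback.snd g φ).isOpenEmbedding.isOpenMap
    have h3 : pullback.snd g φ ⁻¹' Set.range (s ≫ pullback.snd g φ) = Set.range s := by
      ext p
      constructor
      · rintro ⟨u, hu⟩
        refine ⟨u, (pullback.snd g φ).isOpenEmbedding.injective ?_⟩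
        rw [← hu]; rfl
      · rintro ⟨u, rfl⟩
        exact ⟨u, rfl⟩
    rw [h3] at h2
    exact h2
  haveI : Surjective s := by
    constructor
    intro p
    have hc : IsClosed (Set.range s) := s.isClosedEmbedding.isClosed_range
    have : Set.range s = Set.univ := by
      rw [← hc.closure_eq]; exact hdense.closure_range
    rw [Set.eq_univ_iff_forall] at this
    exact this p
  haveI : IsIso s := (isIso_iff_isOpenImmersion_and_epi_base s).2 ⟨inferInstance, by
    rw [TopCat.epi_iff_surjective]; exact ‹Surjective s›.surj⟩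
  have base : IsPullback (pullback.fst g φ) (pullback.snd g φ) g φ := IsPullback.of_hasPullback _ _
  exact IsPullback.of_iso base (asIso s).symm (Iso.refl _) (Iso.refl _) (Iso.refl _)
    (by simp only [Iso.symm_hom, asIso_inv, Iso.refl_hom, Category.comp_id]
        exact IsIso.eq_inv_of_hom_inv_id hs1)
    (by simp only [Iso.symm_hom, asIso_inv, Iso.refl_hom, Category.comp_id]
        exact (IsIso.eq_inv_comp s).2 hs2)
    (by simp) (by simp)

end Groth.Agent.Helper15
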