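import Mathlib
import Groth.Agent.Lib.Helper15.QuotNC2
import Groth.Agent.Lib.Helper15.AlgSpDiag

/-!
# Separation of the quotient of a scheme by a free action of a finite group
-/

set_option autoImplicit false
universe u
open CategoryTheory CategoryTheory.Limits AlgebraicGeometry MorphismProperty Opposite
open AlgSp

namespace Groth.Agent.Helper15.QuotFreeSep

open Groth.Agent.Helper15

/-- A morphism which is injective on points and restricts to closed immersions on the members of a
finite open cover of the source is a closed immersion. -/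
theorem isClosedImmersion_of_finite_openCover {R Y : Scheme.{u}} (j : R ⟶ Y) (𝒰 : R.OpenCover)
    [Finite 𝒰.I₀] (h : ∀ i, IsClosedImmersion (𝒰.f i ≫ j)) (hinj : Function.Injective j) :
    IsClosedImmersion j := by
  haveI : SurjectiveOnStalks j :=
    IsZariskiLocalAtSource.of_openCover (P := @SurjectiveOnStalks) 𝒰 (fun i => inferInstance)
  refine ⟨Topology.IsClosedEmbedding.of_continuous_injective_isClosedMap j.continuous hinj ?_⟩
  intro Z hZ
  have hZeq : j '' Z = ⋃ i, (𝒰.f i ≫ j) '' ((𝒰.f i) ⁻¹' Z) := by
    ext y
    constructor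
    · rintro ⟨r, hr, rfl⟩
      obtain ⟨i, x, rfl⟩ := 𝒰.exists_eq r
      exact Set.mem_iUnion.2 ⟨i, x, hr, by rw [Scheme.Hom.comp_apply]⟩
    · intro hy
      obtain ⟨i, x, hx, rfl⟩ := Set.mem_iUnion.1 hy
      exact ⟨𝒰.f i x, hx, by rw [Scheme.Hom.comp_apply]⟩
  rw [hZeq]
  exact isClosed_iUnion_of_finite (fun i =>
    (h i).isClosedEmbedding.isClosedMap _ (hZ.preimage (𝒰.f i).continuous))

variable {S : Scheme.{u}} {U : Over S} {G : Type u} (c : Cofan (fun _ : G => U)) (hc : IsColimit c)
variable (s : c.pt ⟶ U) (hs : ∀ g, c.inj g ≫ s = 𝟙 U)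

include hc hs in
/-- The fold map of a finite coproduct is quasi-compact. -/
theorem quasiCompact_fold [Finite G] : QuasiCompact s.left := by
  rw [quasiCompact_iff_forall_isAffineOpen]
  intro V hV
  have heq : (s.left ⁻¹ᵁ V : Set c.pt.left) = ⋃ g : G, (c.inj g).left '' (V : Set U.left) := by
    ext r
    constructor
    · intro hr
      obtain ⟨g, y, rfl⟩ := exists_cofan_inj_left_eq c hc r
      refine Set.mem_iUnion.2 ⟨g, y, ?_, rfl⟩
      have h1 : s.left ((c.inj g).left y) = y := by
        rw [← Scheme.Hom.comp_apply, ← Over.comp_left, hs]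
        rfl
      have h2 : s.left ((c.inj g).left y) ∈ V := hr
      rwa [h1] at h2
    · intro hr
      obtain ⟨g, y, hy, rfl⟩ := Set.mem_iUnion.1 hr
      have h1 : s.left ((c.inj g).left y) = y := by
        rw [← Scheme.Hom.comp_apply, ← Over.comp_left, hs]
        rfl
      change s.left ((c.inj g).left y) ∈ V
      rwa [h1]
  rw [heq]
  exact isCompact_iUnion (fun g => hV.isCompact.image (c.inj g).left.continuous)

variable [Group G] (ρ : G →* Aut U) (t : c.pt ⟶ U) (ht : ∀ g, c.inj g ≫ t = (ρ g).hom)

include hc hs ht in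
theorem mono_prod_lift
    (hfree : ∀ (g : G) (x : U.left), g ≠ 1 →
      U.left.fromSpecResidueField x ≫ (ρ g).hom.left ≠ U.left.fromSpecResidueField x) :
    Mono (prod.lift t s) := by
  refine ⟨fun {T} r r' h => ?_⟩
  refine cofan_injective c hc ρ s t hs ht hfree T r r' ?_ ?_
  · have := congrArg (· ≫ prod.fst) h
    simpa only [Category.assoc, prod.lift_fst] using this
  · have := congrArg (· ≫ prod.snd) h
    simpa only [Category.assoc, prod.lift_snd] using this

theorem quasiSeparated_prod_snd_left (hU : QuasiSeparated U.hom) :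
    QuasiSeparated (prod.snd : U ⨯ U ⟶ U).left := by
  have : (prod.snd : U ⨯ U ⟶ U).left =
      (Over.prodLeftIsoPullback U U).hom ≫ pullback.snd U.hom U.hom :=
    (Over.prodLeftIsoPullback_hom_snd (Y := U) (Z := U)).symm
  rw [this]
  infer_instance

theorem isSeparated_prod_snd_left (hU : IsSeparated U.hom) :
    IsSeparated (prod.snd : U ⨯ U ⟶ U).left := by
  have : (prod.snd : U ⨯ U ⟶ U).left =
      (Over.prodLeftIsoPullback U U).hom ≫ pullback.snd U.hom U.hom :=
    (Over.prodLeftIsoPullback_hom_snd (Y := U) (Z := U)).symm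
  rw [this]
  infer_instance

include hc hs ht in
/-- **Separation of the quotient by a free action of a finite group.** -/
theorem separation_quot [Finite G]
    (hfree : ∀ (g : G) (x : U.left), g ≠ 1 →
      U.left.fromSpecResidueField x ≫ (ρ g).hom.left ≠ U.left.fromSpecResidueField x) :
    (QuasiSeparated U.hom → IsQuasiSeparatedSp (QuotSh.quot Scheme.fppfPrecoverage s t)) ∧
      (IsSeparated U.hom → IsSeparatedSp (QuotSh.quot Scheme.fppfPrecoverage s t)) := by
  have h : IsEtaleEqvRel s t := isEtaleEqvRel_of_free_action c hc ρ s t hs ht hfree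
  have hF := Groth.Agent.S9868.result S s t h
  have hq := isPresentation_quotShπ s t h hF
  have hsnd : (prod.lift t s).left ≫ (prod.snd : U ⨯ U ⟶ U).left = s.left := by
    rw [← Over.comp_left, prod.lift_snd]
  constructor
  · intro hU
    refine repWith_diag_of_chart hF.diag (quotShπ s t) hq.etale hq.surjective s t hq.isPullback
      @QuasiCompact ?_
    haveI := quasiSeparated_prod_snd_left hU
    haveI : QuasiCompact ((prod.lift t s).left ≫ (prod.snd : U ⨯ U ⟶ U).left) := by
      rw [hsnd]
      exact quasiCompact_fold c hc s hs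
    exact QuasiCompact.of_comp (prod.lift t s).left (prod.snd : U ⨯ U ⟶ U).left
  · intro hU
    refine repWith_diag_of_chart hF.diag (quotShπ s t) hq.etale hq.surjective s t hq.isPullback
      @IsClosedImmersion ?_
    haveI := isSeparated_prod_snd_left hU
    haveI : Mono (prod.lift t s) := mono_prod_lift c hc s hs ρ t ht hfree
    haveI : Mono (prod.lift t s).left := inferInstance
    haveI : Finite (cofanOpenCover c hc).I₀ := inferInstanceAs (Finite G)
    refine isClosedImmersion_of_finite_openCover (prod.lift t s).left (cofanOpenCover c hc) ?_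
      (prod.lift t s).left.injective
    intro g
    change IsClosedImmersion ((c.inj g).left ≫ (prod.lift t s).left)
    haveI : IsClosedImmersion (((c.inj g).left ≫ (prod.lift t s).left) ≫
        (prod.snd : U ⨯ U ⟶ U).left) := by
      rw [Category.assoc, hsnd, ← Over.comp_left, hs]
      exact inferInstanceAs (IsClosedImmersion (𝟙 U.left))
    exact IsClosedImmersion.of_comp ((c.inj g).left ≫ (prod.lift t s).left)
      (prod.snd : U ⨯ U ⟶ U).left

end Groth.Agent.Helper15.QuotFreeSep
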