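import Mathlib
import Groth.Agent.Lib.Helper15.QuotShBridge
import Groth.Agent.Lib.Helper15.AlgSpOpen
import Groth.Agent.Lib.Helper15.AlgSpGeomPts

/-!
# Separation properties of quotients by finite surjective maps
-/

set_option autoImplicit false
universe u
open CategoryTheory CategoryTheory.Limits AlgebraicGeometry MorphismProperty Opposite
open AlgSp

namespace Groth.Agent.Helper15.QuotSep

open Groth.Agent.Helper15

variable {S : Scheme.{u}}

/-- A quotient map of fppf sheaves between schemes is surjective. -/
theorem surjective_of_isQuotient {R U M : Over S} (s t : R ⟶ U) (q : U ⟶ M)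
    (hq : QuotSh.IsQuotient Scheme.fppfPrecoverage s t q) : Surjective q.left := by
  obtain ⟨w, hiso⟩ := hq
  have e : QuotSh.repMap Scheme.fppfPrecoverage q =
      QuotSh.quotπ Scheme.fppfPrecoverage s t ≫ QuotSh.quotDesc Scheme.fppfPrecoverage q w :=
    (coequalizer.π_desc _ _).symm
  haveI : Epi (QuotSh.repMap Scheme.fppfPrecoverage q) := by
    rw [e]; exact epi_comp _ _
  have e2 : (yon S).map q = (QuotSh.repIsoUliftYoneda Scheme.fppfPrecoverage U).inv ≫
      QuotSh.repMap Scheme.fppfPrecoverage q ≫
        (QuotSh.repIsoUliftYoneda Scheme.fppfPrecoverage M).hom := by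
    rw [repMap_repIso_hom, Iso.inv_hom_id_assoc]
  haveI : Epi ((yon S).map q) := by
    rw [e2]; infer_instance
  have h1 := isSurjectiveMor_of_epi ((yon S).map q)
  exact (repWith_yon_map_iff _ q).1
    (repWith_surjective_of_isSurjectiveMor _ (representable_yon_map q) h1)

/-- Quasi-compactness can be checked after precomposing with a surjective morphism. -/
theorem quasiCompact_of_comp_surjective {X Y Z : Scheme.{u}} (m : X ⟶ Y) (f : Y ⟶ Z)
    [Surjective m] [QuasiCompact (m ≫ f)] : QuasiCompact f := by
  refine ⟨fun W hW hWc => ?_⟩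
  have h1 : IsCompact ((m ≫ f) ⁻¹' W) := QuasiCompact.isCompact_preimage W hW hWc
  have h2 : f ⁻¹' W = m '' ((m ≫ f) ⁻¹' W) := by
    have : (m ≫ f) ⁻¹' W = m ⁻¹' (f ⁻¹' W) := by
      ext x; simp
    rw [this, Set.image_preimage_eq _ m.surjective]
  rw [h2]
  exact h1.image m.continuous

/-- The map `X ×_B X ⟶ Y ×_B Y` induced by `m : X ⟶ Y`. -/
noncomputable abbrev mm {X Y B : Scheme.{u}} (m : X ⟶ Y) (g : Y ⟶ B) :
    pullback (m ≫ g) (m ≫ g) ⟶ pullback g g :=
  pullback.map (m ≫ g) (m ≫ g) g g m m (𝟙 B) ((Category.comp_id _).trans rfl)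
    ((Category.comp_id _).trans rfl)

theorem diagonal_comp_mm {X Y B : Scheme.{u}} (m : X ⟶ Y) (g : Y ⟶ B) :
    pullback.diagonal (m ≫ g) ≫ mm m g = m ≫ pullback.diagonal g := by
  apply pullback.hom_ext
  · rw [Category.assoc, Category.assoc, pullback.lift_fst, pullback.diagonal_fst,
      pullback.diagonal_fst_assoc, Category.comp_id]
  · rw [Category.assoc, Category.assoc, pullback.lift_snd, pullback.diagonal_snd,
      pullback.diagonal_snd_assoc, Category.comp_id]

/-- If `m` is surjective and quasi-compact and `m ≫ g` is quasi-separated, so is `g`. -/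
theorem quasiSeparated_of_comp_surjective {X Y B : Scheme.{u}} (m : X ⟶ Y) (g : Y ⟶ B)
    [Surjective m] [QuasiCompact m] [QuasiSeparated (m ≫ g)] : QuasiSeparated g := by
  have hmm : QuasiCompact (mm m g) :=
    MorphismProperty.pullbackMap (P := @QuasiCompact) (inferInstance : QuasiCompact m)
      (inferInstance : QuasiCompact m) rfl rfl
  haveI : QuasiCompact (m ≫ pullback.diagonal g) := by
    rw [← diagonal_comp_mm]; infer_instance
  exact ⟨quasiCompact_of_comp_surjective m _⟩

/-- If `m` is surjective and universally closed and `m ≫ g` is separated, so is `g`. -/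
theorem isSeparated_of_comp_surjective {X Y B : Scheme.{u}} (m : X ⟶ Y) (g : Y ⟶ B)
    [Surjective m] [UniversallyClosed m] [IsSeparated (m ≫ g)] : IsSeparated g := by
  have hmm : UniversallyClosed (mm m g) :=
    MorphismProperty.pullbackMap (P := @UniversallyClosed) (inferInstance : UniversallyClosed m)
      (inferInstance : UniversallyClosed m) rfl rfl
  have hcl : IsClosed (Set.range (pullback.diagonal g)) := by
    have h1 : Set.range (pullback.diagonal g) = Set.range (m ≫ pullback.diagonal g) := by
      rw [Scheme.Hom.comp_base, TopCat.coe_comp, Set.range_comp, Set.range_eq_univ.2 m.surjective,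
        Set.image_univ]
    rw [h1, ← diagonal_comp_mm, Scheme.Hom.comp_base, TopCat.coe_comp, Set.range_comp]
    exact (mm m g).isClosedMap _ (pullback.diagonal (m ≫ g)).isClosedEmbedding.isClosed_range
  exact ⟨IsClosedImmersion.of_isPreimmersion _ hcl⟩

end Groth.Agent.Helper15.QuotSep
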