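import Groth.Agent.Lib.Helper15.AlgSpOpenDesc

set_option autoImplicit false
universe u
open CategoryTheory CategoryTheory.Limits AlgebraicGeometry Opposite MorphismProperty
open AlgSp

namespace Groth.Agent.Helper15
variable {S : Scheme.{u}}

section
variable {R U : Over S} (s t : R ⟶ U)

/-- Scheme-level pre-equivalence relation. -/
def IsPreEqvRel : Prop :=
  ∀ (T : Over S), Equivalence (fun a b : T ⟶ U => ∃ r : T ⟶ R, r ≫ t = a ∧ r ≫ s = b)

theorem isPreEqvRelSp_yon_of_isPreEqvRel (h : IsPreEqvRel s t) :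
    IsPreEqvRelSp ((yon S).map s) ((yon S).map t) := by
  intro T
  have key : ∀ a b : (yon S).obj T ⟶ (yon S).obj U,
      (∃ r : (yon S).obj T ⟶ (yon S).obj R, r ≫ (yon S).map t = a ∧ r ≫ (yon S).map s = b) ↔
      (∃ r : T ⟶ R, r ≫ t = (yon S).preimage a ∧ r ≫ s = (yon S).preimage b) := by
    intro a b
    constructor
    · rintro ⟨r, rfl, rfl⟩
      refine ⟨(yon S).preimage r, ?_, ?_⟩
      · apply (yon S).map_injective; simp
      · apply (yon S).map_injective; simp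
    · rintro ⟨r, h1, h2⟩
      refine ⟨(yon S).map r, ?_, ?_⟩
      · rw [← Functor.map_comp, h1, Functor.map_preimage]
      · rw [← Functor.map_comp, h2, Functor.map_preimage]
  have hE := h T
  refine ⟨fun a => (key a a).2 (hE.refl _), fun {a b} hab => (key b a).2 (hE.symm ((key a b).1 hab)),
    fun {a b c} hab hbc => (key a c).2 (hE.trans ((key a b).1 hab) ((key b c).1 hbc))⟩

/-- Effectivity for pre-equivalence relations on schemes. -/
theorem exists_local_rel_of_quotShπ_eq' (h : IsPreEqvRel s t) {T : Over S}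
    (a b : T ⟶ U) (hab : (yon S).map a ≫ quotShπ s t = (yon S).map b ≫ quotShπ s t) :
    ∃ Rv ∈ (J S) T, ∀ ⦃T' : Over S⦄ (k : T' ⟶ T), Rv k →
      ∃ r : T' ⟶ R, r ≫ t = k ≫ a ∧ r ≫ s = k ≫ b := by
  obtain ⟨Rv, hRv, hl⟩ := exists_local_rel_of_quotSpπ_eq _ _ (isPreEqvRelSp_yon_of_isPreEqvRel s t h)
    ((yon S).map a) ((yon S).map b) (by
      rw [← quotShπ_toQuotSp, ← Category.assoc, ← Category.assoc, hab])
  refine ⟨Rv, hRv, fun T' k hk => ?_⟩
  obtain ⟨r, hr1, hr2⟩ := hl k hk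
  obtain ⟨r, rfl⟩ := (yon S).map_surjective r
  refine ⟨r, ?_, ?_⟩
  · apply (yon S).map_injective; rw [Functor.map_comp, hr1, Functor.map_comp]
  · apply (yon S).map_injective; rw [Functor.map_comp, hr2, Functor.map_comp]

end

section
variable {R U R' U' : Over S} (s t : R ⟶ U) (g : U' ⟶ U) (s' t' : R' ⟶ U')

/-- The map of quotient sheaves induced by a restriction of a pre-equivalence relation is a
monomorphism. -/
theorem mono_quotSh_map (hpre : IsPreEqvRel s t)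
    (hlift : ∀ (T : Over S) (a b : T ⟶ U') (ρ : T ⟶ R), ρ ≫ t = a ≫ g → ρ ≫ s = b ≫ g →
      ∃ ρ' : T ⟶ R', ρ' ≫ t' = a ∧ ρ' ≫ s' = b)
    (φ : QuotSh.quot Scheme.fppfPrecoverage s' t' ⟶ QuotSh.quot Scheme.fppfPrecoverage s t)
    (hφ : quotShπ s' t' ≫ φ = (yon S).map g ≫ quotShπ s t) : Mono φ := by
  apply mono_of_yon
  intro T x y hxy
  obtain ⟨Rx, hRx, hx⟩ := exists_local_lift_of_epi' (quotShπ s' t') x
  obtain ⟨Ry, hRy, hy⟩ := exists_local_lift_of_epi' (quotShπ s' t') y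
  refine yon_hom_ext_of_cover x y (Rx ⊓ Ry) ((J S).intersection_covering hRx hRy) ?_
  rintro T' k ⟨hkx, hky⟩
  obtain ⟨a, ha⟩ := hx k hkx
  obtain ⟨b, hb⟩ := hy k hky
  obtain ⟨a, rfl⟩ := (yon S).map_surjective a
  obtain ⟨b, rfl⟩ := (yon S).map_surjective b
  have hab : (yon S).map (a ≫ g) ≫ quotShπ s t = (yon S).map (b ≫ g) ≫ quotShπ s t := by
    rw [Functor.map_comp, Functor.map_comp, Category.assoc, Category.assoc, ← hφ,
      ← Category.assoc, ← Category.assoc, ha, hb, Category.assoc, Category.assoc, hxy]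
  obtain ⟨Rv, hRv, hrel⟩ := exists_local_rel_of_quotShπ_eq' s t hpre (a ≫ g) (b ≫ g) hab
  rw [← ha, ← hb]
  refine yon_hom_ext_of_cover _ _ Rv hRv ?_
  intro T'' l hl
  obtain ⟨r, hr1, hr2⟩ := hrel l hl
  obtain ⟨r', hr'1, hr'2⟩ := hlift T'' (l ≫ a) (l ≫ b) r
    (by rw [hr1, Category.assoc]) (by rw [hr2, Category.assoc])
  rw [← Category.assoc, ← Category.assoc, ← Functor.map_comp, ← Functor.map_comp, ← hr'1, ← hr'2,
    Functor.map_comp, Functor.map_comp, Category.assoc, Category.assoc, quotShπ_condition]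

/-- General form: the map of quotient sheaves induced by the restriction of a pre-equivalence
relation along `g : U' ⟶ U` is a representable open immersion, provided the saturation of the image of
`g` is an open `W` onto which `U' ×_U R` surjects as a sheaf. -/
theorem repWith_isOpenImmersion_quotSh_map (hpre : IsPreEqvRel s t)
    (hlift : ∀ (T : Over S) (a b : T ⟶ U') (ρ : T ⟶ R), ρ ≫ t = a ≫ g → ρ ≫ s = b ≫ g →
      ∃ ρ' : T ⟶ R', ρ' ≫ t' = a ∧ ρ' ≫ s' = b)
    (W : U.left.Opens)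
    (hW1 : ∀ (T : Over S) (a' : T ⟶ U') (ρ : T ⟶ R), ρ ≫ t = a' ≫ g →
      Set.range (ρ ≫ s).left ⊆ (W : Set U.left))
    (hW2 : ∀ (T : Over S) (w : T ⟶ U), Set.range w.left ⊆ (W : Set U.left) →
      ∃ Rv ∈ (J S) T, ∀ ⦃T' : Over S⦄ (k : T' ⟶ T), Rv k →
        ∃ (a' : T' ⟶ U') (ρ : T' ⟶ R), ρ ≫ t = a' ≫ g ∧ ρ ≫ s = k ≫ w)
    (φ : QuotSh.quot Scheme.fppfPrecoverage s' t' ⟶ QuotSh.quot Scheme.fppfPrecoverage s t)
    (hφ : quotShπ s' t' ≫ φ = (yon S).map g ≫ quotShπ s t) : RepWith @IsOpenImmersion φ := by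
  haveI := mono_quotSh_map s t g s' t' hpre hlift φ hφ
  let WO : Over S := Over.mk (W.ι ≫ U.hom)
  let iW : WO ⟶ U := Over.homMk W.ι rfl
  haveI hiW : IsOpenImmersion iW.left := by change IsOpenImmersion W.ι; infer_instance
  haveI : Mono iW := by
    haveI : Mono ((Over.forget S).map iW) := by change Mono iW.left; infer_instance
    exact (Over.forget S).mono_of_mono_map inferInstance
  have hrange : Set.range iW.left = (W : Set U.left) := Scheme.Opens.range_ι W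
  obtain ⟨Rv, hRv, hl⟩ := hW2 WO iW hrange.le
  obtain ⟨cW, hcW⟩ := exists_factor_mono_of_local φ ((yon S).map iW ≫ quotShπ s t) Rv hRv (by
    intro T' k hk
    obtain ⟨a', ρ, h1, h2⟩ := hl k hk
    refine ⟨(yon S).map a' ≫ quotShπ s' t', ?_⟩
    rw [Category.assoc, hφ, ← Category.assoc, ← Functor.map_comp, ← h1, Functor.map_comp,
      Category.assoc, ← quotShπ_condition, ← Category.assoc, ← Functor.map_comp, h2,
      Functor.map_comp, Category.assoc])
  have sqW : IsPullback cW ((yon S).map iW) φ (quotShπ s t) := by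
    apply isPullback_of_mono_of_yon_lift φ (quotShπ s t) iW cW hcW
    intro T' c z hz
    apply exists_over_lift_of_range_subset
    rintro _ ⟨p, rfl⟩
    obtain ⟨Rz, hRz, hz'⟩ := exists_local_lift_of_epi' (quotShπ s' t') z
    obtain ⟨R₀, hR₀, hle⟩ := exists_fppf_presieve_of_mem_J Rz hRz
    obtain ⟨T1, i1, p1, hi1, hp1⟩ := exists_mem_of_mem_fppfPrecoverage hR₀ p
    obtain ⟨α, hα⟩ := hz' _ (hle i1 hi1)
    obtain ⟨α, rfl⟩ := (yon S).map_surjective α
    obtain ⟨k1, hk1⟩ : ∃ k1 : Over.mk (i1 ≫ T'.hom) ⟶ T', k1 = CategoryTheory.Over.homMk i1 rfl := ⟨_, rfl⟩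
    rw [← hk1] at hα
    have hab : (yon S).map (α ≫ g) ≫ quotShπ s t = (yon S).map (k1 ≫ c) ≫ quotShπ s t := by
      rw [Functor.map_comp, Category.assoc, ← hφ, ← Category.assoc, hα, Category.assoc, hz,
        Functor.map_comp, Category.assoc]
    obtain ⟨Rv', hRv', hrel⟩ := exists_local_rel_of_quotShπ_eq' s t hpre _ _ hab
    obtain ⟨R₀', hR₀', hle'⟩ := exists_fppf_presieve_of_mem_J Rv' hRv'
    obtain ⟨T2, i2, p2, hi2, hp2⟩ := exists_mem_of_mem_fppfPrecoverage hR₀' p1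
    obtain ⟨ρ, hρ1, hρ2⟩ := hrel _ (hle' i2 hi2)
    obtain ⟨k2, hk2⟩ : ∃ k2 : Over.mk (i2 ≫ (Over.mk (i1 ≫ T'.hom)).hom) ⟶ Over.mk (i1 ≫ T'.hom),
      k2 = CategoryTheory.Over.homMk i2 rfl := ⟨_, rfl⟩
    rw [← hk2] at hρ1 hρ2
    have h3 := hW1 _ (k2 ≫ α) ρ (by rw [hρ1, Category.assoc]) ⟨p2, rfl⟩
    rw [hrange]
    have h4 : (ρ ≫ s).left p2 = c.left p := by
      rw [hρ2, ← hp1, ← hp2, hk2, hk1]
      rfl
    rw [← h4]; exact h3
  exact repWith_isOpenImmersion_of_epi_base φ (quotShπ s t) cW ((yon S).map iW) sqW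
    ((repWith_yon_map_iff _ _).2 hiW)

end

end Groth.Agent.Helper15
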