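import Groth.Agent.Lib.Helper15.QuotShOpen
import Groth.Agent.Lib.Helper15.EqvRelRestrict
import Groth.Prelude.Def_Grpd

set_option autoImplicit false
universe u
open CategoryTheory CategoryTheory.Limits AlgebraicGeometry Opposite MorphismProperty
open AlgSp

namespace Groth.Agent.Helper15
variable {S : Scheme.{u}}

theorem quotShπ_comp_of_quotπ {R U R' U' : Over S} (s t : R ⟶ U) (g : U' ⟶ U) (s' t' : R' ⟶ U')
    (φ : QuotSh.quot Scheme.fppfPrecoverage s' t' ⟶ QuotSh.quot Scheme.fppfPrecoverage s t)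
    (hφ : QuotSh.quotπ Scheme.fppfPrecoverage s' t' ≫ φ =
      QuotSh.repMap Scheme.fppfPrecoverage g ≫ QuotSh.quotπ Scheme.fppfPrecoverage s t) :
    quotShπ s' t' ≫ φ = (yon S).map g ≫ quotShπ s t := by
  unfold quotShπ
  rw [Category.assoc, hφ, ← Category.assoc, repIso_inv_repMap, Category.assoc]

theorem repWith_isOpenImmersion_quot_restrict {R U R' U' : Over S} (s t : R ⟶ U)
    (g : U' ⟶ U) (s' t' : R' ⟶ U') (r : R' ⟶ R)
    (hsq : IsPullback (prod.lift t' s') r (prod.map g g) (prod.lift t s))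
    (hR : AlgSp.IsEqvRel s t)
    [Flat s.left] [LocallyOfFinitePresentation s.left]
    [Flat g.left] [LocallyOfFinitePresentation g.left]
    (φ : QuotSh.quot Scheme.fppfPrecoverage s' t' ⟶ QuotSh.quot Scheme.fppfPrecoverage s t)
    (hφ : QuotSh.quotπ Scheme.fppfPrecoverage s' t' ≫ φ = QuotSh.repMap Scheme.fppfPrecoverage g ≫ QuotSh.quotπ Scheme.fppfPrecoverage s t) :
    AlgSp.RepWith @IsOpenImmersion φ := by
  have hφ' := quotShπ_comp_of_quotπ s t g s' t' φ hφ
  set h : pullback g.left t.left ⟶ U.left := pullback.snd g.left t.left ≫ s.left with hh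
  haveI : Flat (pullback.snd g.left t.left) := MorphismProperty.pullback_snd _ _ inferInstance
  haveI : LocallyOfFinitePresentation (pullback.snd g.left t.left) :=
    MorphismProperty.pullback_snd _ _ inferInstance
  haveI : Flat h := by rw [hh]; infer_instance
  haveI : LocallyOfFinitePresentation h := by rw [hh]; infer_instance
  let W : U.left.Opens := ⟨Set.range h, h.isOpenMap.isOpen_range⟩
  refine repWith_isOpenImmersion_quotSh_map s t g s' t' hR.equivalence
    (fun T a b ρ h1 h2 => ?_) W ?_ ?_ φ hφ'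
  · obtain ⟨x, hx1, hx2, -⟩ := restrict_exists_lift hsq a b ρ h1 h2
    exact ⟨x, hx1, hx2⟩
  · rintro T a' ρ h1 _ ⟨p, rfl⟩
    have h1' : a'.left ≫ g.left = ρ.left ≫ t.left := by
      rw [← Over.comp_left, ← Over.comp_left, h1]
    refine ⟨(pullback.lift a'.left ρ.left h1') p, ?_⟩
    rw [← Scheme.Hom.comp_apply, hh, pullback.lift_snd_assoc]
    rfl
  · intro T w hw
    have hsurj : Surjective (pullback.fst w.left h) := ⟨fun x => by
      obtain ⟨y, hy⟩ := hw ⟨x, rfl⟩
      obtain ⟨q, hq1, -⟩ := Scheme.Pullback.exists_preimage_pullback x y hy.symm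
      exact ⟨q, hq1⟩⟩
    let TP : Over S := Over.mk (pullback.fst w.left h ≫ T.hom)
    let kP : TP ⟶ T := Over.homMk (pullback.fst w.left h) rfl
    have hcov := singleton_mem_J kP (MorphismProperty.pullback_fst (P := @Flat) _ _ inferInstance)
      (MorphismProperty.pullback_fst (P := @LocallyOfFinitePresentation) _ _ inferInstance) hsurj
    have e1 : (pullback.snd w.left h ≫ pullback.snd g.left t.left) ≫ R.hom =
        pullback.fst w.left h ≫ T.hom := by
      rw [← CategoryTheory.Over.w w, ← CategoryTheory.Over.w s, pullback.condition_assoc, hh]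
      simp only [Category.assoc]
    have e2 : (pullback.snd w.left h ≫ pullback.fst g.left t.left) ≫ U'.hom =
        pullback.fst w.left h ≫ T.hom := by
      rw [← e1, ← CategoryTheory.Over.w g, ← CategoryTheory.Over.w t]
      simp only [Category.assoc]
      rw [pullback.condition_assoc]
    let a'P : TP ⟶ U' := Over.homMk (pullback.snd w.left h ≫ pullback.fst g.left t.left) e2
    let ρP : TP ⟶ R := Over.homMk (pullback.snd w.left h ≫ pullback.snd g.left t.left) e1
    have h1 : ρP ≫ t = a'P ≫ g := by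
      ext
      change (pullback.snd w.left h ≫ pullback.snd g.left t.left) ≫ t.left =
        (pullback.snd w.left h ≫ pullback.fst g.left t.left) ≫ g.left
      rw [Category.assoc, Category.assoc, pullback.condition]
    have h2 : ρP ≫ s = kP ≫ w := by
      ext
      change (pullback.snd w.left h ≫ pullback.snd g.left t.left) ≫ s.left =
        pullback.fst w.left h ≫ w.left
      rw [pullback.condition, hh, Category.assoc]
    refine ⟨_, hcov, ?_⟩
    rintro T' k ⟨T'', e, _, ⟨_⟩, rfl⟩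
    exact ⟨e ≫ a'P, e ≫ ρP, by rw [Category.assoc, h1, Category.assoc],
      by rw [Category.assoc, h2, Category.assoc]⟩

theorem isPreEqvRel_of_groupoidScheme (G : Grpd.GroupoidScheme S) :
    IsPreEqvRel (Over.homMk G.s G.s_over : Over.mk G.pR ⟶ Over.mk G.pU)
      (Over.homMk G.t G.t_over : Over.mk G.pR ⟶ Over.mk G.pU) := by
  intro T
  refine ⟨fun a => ?_, fun {a b} hab => ?_, fun {a b c} hab hbc => ?_⟩
  · refine ⟨Over.homMk (a.left ≫ G.e) ?_, ?_, ?_⟩
    · change (a.left ≫ G.e) ≫ G.pR = T.hom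
      refine (congrArg (fun x => (a.left ≫ G.e) ≫ x) G.s_over.symm).trans ?_
      change (a.left ≫ G.e) ≫ G.s ≫ G.pU = T.hom
      rw [Category.assoc, reassoc_of% G.e_s]
      exact CategoryTheory.Over.w a
    · ext
      change (a.left ≫ G.e) ≫ G.t = a.left
      rw [Category.assoc, G.e_t]; exact Category.comp_id _
    · ext
      change (a.left ≫ G.e) ≫ G.s = a.left
      rw [Category.assoc, G.e_s]; exact Category.comp_id _
  · obtain ⟨ρ, rfl, rfl⟩ := hab
    refine ⟨Over.homMk (ρ.left ≫ G.i) ?_, ?_, ?_⟩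
    · change (ρ.left ≫ G.i) ≫ G.pR = T.hom
      refine (congrArg (fun x => (ρ.left ≫ G.i) ≫ x) G.s_over.symm).trans ?_
      change (ρ.left ≫ G.i) ≫ G.s ≫ G.pU = T.hom
      rw [Category.assoc, reassoc_of% G.i_s, G.t_over]
      exact CategoryTheory.Over.w ρ
    · ext
      change (ρ.left ≫ G.i) ≫ G.t = ρ.left ≫ G.s
      rw [Category.assoc, G.i_t]
    · ext
      change (ρ.left ≫ G.i) ≫ G.s = ρ.left ≫ G.t
      rw [Category.assoc, G.i_s]
  · obtain ⟨ρ₁, rfl, rfl⟩ := hab
    obtain ⟨ρ₂, h2, rfl⟩ := hbc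
    have hc : ρ₁.left ≫ G.s = ρ₂.left ≫ G.t := (congrArg (fun x => x.left) h2).symm
    refine ⟨Over.homMk (pullback.lift ρ₁.left ρ₂.left hc ≫ G.c) ?_, ?_, ?_⟩
    · change (pullback.lift ρ₁.left ρ₂.left hc ≫ G.c) ≫ G.pR = T.hom
      refine (congrArg (fun x => (pullback.lift ρ₁.left ρ₂.left hc ≫ G.c) ≫ x) G.s_over.symm).trans ?_
      change (pullback.lift ρ₁.left ρ₂.left hc ≫ G.c) ≫ G.s ≫ G.pU = T.hom
      rw [← Category.assoc, G.comp_s, Category.assoc, G.s_over]
      exact CategoryTheory.Over.w ρ₂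
    · ext
      change (pullback.lift ρ₁.left ρ₂.left hc ≫ G.c) ≫ G.t = ρ₁.left ≫ G.t
      rw [G.comp_t]
    · ext
      change (pullback.lift ρ₁.left ρ₂.left hc ≫ G.c) ≫ G.s = ρ₂.left ≫ G.s
      rw [G.comp_s]

theorem repWith_isOpenImmersion_quot_restrict_of_groupoidScheme (G : Grpd.GroupoidScheme S)
    (U' : Scheme.{u}) (g : U' ⟶ G.U) (W : G.U.Opens)
    (hW : (W : Set ↥G.U) = Set.range ⇑(pullback.snd g G.t ≫ G.s))
    (hlift : pullback g G.t ⟶ ↑W) (hh : hlift ≫ W.ι = pullback.snd g G.t ≫ G.s)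
    (hsurj : Sheaf.IsLocallySurjective ((AlgSp.yon S).map
      (Over.homMk hlift ((Category.assoc _ _ _).symm.trans (congrArg (· ≫ G.pU) hh)) :
        Over.mk ((pullback.snd g G.t ≫ G.s) ≫ G.pU) ⟶ Over.mk (W.ι ≫ G.pU))))
    (R' : Over S) (s' t' : R' ⟶ Over.mk (g ≫ G.pU)) (r : R' ⟶ Over.mk G.pR)
    (hsq : IsPullback (prod.lift t' s') r
      (prod.map (Over.homMk g rfl : Over.mk (g ≫ G.pU) ⟶ Over.mk G.pU) (Over.homMk g rfl : Over.mk (g ≫ G.pU) ⟶ Over.mk G.pU))
      (prod.lift (Over.homMk G.t G.t_over : Over.mk G.pR ⟶ Over.mk G.pU) (Over.homMk G.s G.s_over : Over.mk G.pR ⟶ Over.mk G.pU)))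
    (ψ : QuotSh.quot Scheme.fppfPrecoverage s' t' ⟶
      QuotSh.quot Scheme.fppfPrecoverage (Over.homMk G.s G.s_over : Over.mk G.pR ⟶ Over.mk G.pU) (Over.homMk G.t G.t_over : Over.mk G.pR ⟶ Over.mk G.pU))
    (hψ : QuotSh.quotπ Scheme.fppfPrecoverage s' t' ≫ ψ =
      QuotSh.repMap Scheme.fppfPrecoverage (Over.homMk g rfl : Over.mk (g ≫ G.pU) ⟶ Over.mk G.pU) ≫ QuotSh.quotπ Scheme.fppfPrecoverage _ _) :
    AlgSp.RepWith @IsOpenImmersion ψ := by
  have hψ' := quotShπ_comp_of_quotπ _ _ _ s' t' ψ hψ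
  refine repWith_isOpenImmersion_quotSh_map _ _ _ s' t' (isPreEqvRel_of_groupoidScheme G)
    (fun T a b ρ h1 h2 => ?_) W ?_ ?_ ψ hψ'
  · obtain ⟨x, hx1, hx2, -⟩ := restrict_exists_lift hsq a b ρ h1 h2
    exact ⟨x, hx1, hx2⟩
  · rintro T a' ρ h1 _ ⟨p, rfl⟩
    have h1' : a'.left ≫ g = ρ.left ≫ G.t := (congrArg (fun x => x.left) h1).symm
    rw [hW]
    refine ⟨(pullback.lift a'.left ρ.left h1') p, ?_⟩
    rw [← Scheme.Hom.comp_apply, pullback.lift_snd_assoc]
    rfl
  · intro T w hw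
    let WO : Over S := Over.mk (W.ι ≫ G.pU)
    let iW : WO ⟶ Over.mk G.pU := Over.homMk W.ι rfl
    haveI hiW : IsOpenImmersion iW.left := by change IsOpenImmersion W.ι; infer_instance
    have hrange : Set.range iW.left = (W : Set G.U) := Scheme.Opens.range_ι W
    obtain ⟨w', hw'⟩ := exists_over_lift_of_range_subset iW w (by rw [hrange]; exact hw)
    haveI := hsurj
    haveI := Sheaf.epi_of_isLocallySurjective ((AlgSp.yon S).map
      (Over.homMk hlift ((Category.assoc _ _ _).symm.trans (congrArg (· ≫ G.pU) hh)) :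
        Over.mk ((pullback.snd g G.t ≫ G.s) ≫ G.pU) ⟶ Over.mk (W.ι ≫ G.pU)))
    obtain ⟨Rv, hRv, hl⟩ := exists_local_lift_of_epi' ((AlgSp.yon S).map
      (Over.homMk hlift ((Category.assoc _ _ _).symm.trans (congrArg (· ≫ G.pU) hh)) :
        Over.mk ((pullback.snd g G.t ≫ G.s) ≫ G.pU) ⟶ Over.mk (W.ι ≫ G.pU))) ((yon S).map w')
    refine ⟨Rv, hRv, fun T' k hk => ?_⟩
    obtain ⟨τ, hτ⟩ := hl k hk
    obtain ⟨τ, rfl⟩ := (yon S).map_surjective τ
    rw [← Functor.map_comp, ← Functor.map_comp] at hτ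
    have hτ' := (yon S).map_injective hτ
    have hτl : τ.left ≫ hlift = k.left ≫ w'.left := congrArg (fun x => x.left) hτ'
    have hwl : w'.left ≫ W.ι = w.left := congrArg (fun x => x.left) hw'
    have hτw : τ.left ≫ (pullback.snd g G.t ≫ G.s) ≫ G.pU = T'.hom := CategoryTheory.Over.w τ
    have e1 : (τ.left ≫ pullback.snd g G.t) ≫ G.pR = T'.hom := by
      rw [← hτw, ← G.s_over]; simp only [Category.assoc]
    have e2 : (τ.left ≫ pullback.fst g G.t) ≫ g ≫ G.pU = T'.hom := by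
      rw [← e1, ← G.t_over]; simp only [Category.assoc]; rw [pullback.condition_assoc]
    refine ⟨Over.homMk (τ.left ≫ pullback.fst g G.t) e2, Over.homMk (τ.left ≫ pullback.snd g G.t) e1,
      ?_, ?_⟩
    · ext
      change (τ.left ≫ pullback.snd g G.t) ≫ G.t = (τ.left ≫ pullback.fst g G.t) ≫ g
      exact (Category.assoc _ _ _).trans ((congrArg (τ.left ≫ ·) pullback.condition.symm).trans
        (Category.assoc _ _ _).symm)
    · ext
      change (τ.left ≫ pullback.snd g G.t) ≫ G.s = k.left ≫ w.left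
      calc (τ.left ≫ pullback.snd g G.t) ≫ G.s = τ.left ≫ (pullback.snd g G.t ≫ G.s) :=
            Category.assoc _ _ _
        _ = τ.left ≫ (hlift ≫ W.ι) := congrArg (τ.left ≫ ·) hh.symm
        _ = (τ.left ≫ hlift) ≫ W.ι := (Category.assoc _ _ _).symm
        _ = (k.left ≫ w'.left) ≫ W.ι := congrArg (· ≫ W.ι) hτl
        _ = k.left ≫ (w'.left ≫ W.ι) := Category.assoc _ _ _
        _ = k.left ≫ w.left := congrArg (k.left ≫ ·) hwl

end Groth.Agent.Helper15
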