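import Mathlib
import Groth.Agent.Lib.Helper15.QcLocal
import Groth.Agent.Lib.Helper15.AlgSpDecent3
import Groth.Agent.Lib.Helper15.SchReduced
import Groth.Agent.Lib.Helper15.AlgSpSI2

/-!
# Morphisms from reduced spaces into a point factor through the residue field
-/

set_option autoImplicit false
universe u
open CategoryTheory CategoryTheory.Limits AlgebraicGeometry Opposite MorphismProperty
open AlgSp

namespace Groth.Agent.Helper15.ReducedFactor

open Groth.Agent.Helper15

/-- A morphism from a reduced scheme to an affine scheme with image a single point factors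
through the spectrum of a field. -/
theorem exists_factor_through_field_of_const {W : Scheme.{u}} [IsReduced W] {A : CommRingCat.{u}}
    (g : W ⟶ Spec A) (p : Spec A) (hg : ∀ w : W, g w = p) :
    ∃ (K : Type u) (_ : Field K) (h : W ⟶ Spec (CommRingCat.of K))
      (j : Spec (CommRingCat.of K) ⟶ Spec A), h ≫ j = g := by
  let ψ : A ⟶ Γ(W, ⊤) := (Scheme.ΓSpecIso A).inv ≫ g.appTop
  have hgψ : g = W.toSpecΓ ≫ Spec.map ψ := by
    have h1 := Scheme.toSpecΓ_naturality g
    have h2 : (Spec A).toSpecΓ ≫ Spec.map (Scheme.ΓSpecIso A).inv = 𝟙 _ :=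
      toSpecΓ_SpecMap_ΓSpecIso_inv A
    calc g = g ≫ (Spec A).toSpecΓ ≫ Spec.map (Scheme.ΓSpecIso A).inv := by
            rw [h2, Category.comp_id]
      _ = W.toSpecΓ ≫ Spec.map g.appTop ≫ Spec.map (Scheme.ΓSpecIso A).inv := by
            rw [← Category.assoc, h1, Category.assoc]
      _ = W.toSpecΓ ≫ Spec.map ψ := by rw [← Spec.map_comp]
  have hbo : ∀ a : A, W.basicOpen (ψ.hom a) = g ⁻¹ᵁ (PrimeSpectrum.basicOpen a) := by
    intro a
    rw [← basicOpen_eq_of_affine, Scheme.preimage_basicOpen]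
    rfl
  haveI hp : p.asIdeal.IsPrime := p.isPrime
  have h1 : p.asIdeal ≤ RingHom.ker ψ.hom := by
    intro a ha
    rw [RingHom.mem_ker]
    apply eq_zero_of_basicOpen_eq_bot
    rw [hbo a]
    ext w
    constructor
    · intro hw
      have hw' : g w ∈ PrimeSpectrum.basicOpen a := hw
      rw [hg w] at hw'
      exact absurd ha hw'
    · intro hw
      exact absurd hw (by simp)
  have h2 : p.asIdeal.primeCompl ≤ (IsUnit.submonoid Γ(W, ⊤)).comap ψ.hom := by
    intro a ha
    change IsUnit (ψ.hom a)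
    refine W.toRingedSpace.isUnit_of_isUnit_germ ⊤ (ψ.hom a) (fun w hw => ?_)
    have : w ∈ W.basicOpen (ψ.hom a) := by
      rw [hbo a]
      change g w ∈ PrimeSpectrum.basicOpen a
      rw [hg w]
      exact ha
    exact (Scheme.mem_basicOpen _ _ _ hw).1 this
  let θ : p.asIdeal.ResidueField →+* Γ(W, ⊤) := Ideal.ResidueField.lift p.asIdeal ψ.hom h1 h2
  have hθ : θ.comp (algebraMap A p.asIdeal.ResidueField) = ψ.hom := by
    ext a
    exact Ideal.ResidueField.lift_algebraMap p.asIdeal ψ.hom h1 h2 a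
  refine ⟨p.asIdeal.ResidueField, inferInstance,
    W.toSpecΓ ≫ Spec.map (CommRingCat.ofHom θ),
    Spec.map (CommRingCat.ofHom (algebraMap A p.asIdeal.ResidueField)), ?_⟩
  rw [Category.assoc, ← Spec.map_comp, hgψ]
  congr 2
  ext a
  exact congrFun (congrArg DFunLike.coe hθ) a

variable {S : Scheme.{u}}

/-- A monomorphism of sheaves through which a jointly surjective family of etale maps from
schemes lifts is an isomorphism. -/
theorem isIso_of_mono_of_fac_etale_family {F Y : Sp S} (q : F ⟶ Y) [Mono q] {ι : Type u}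
    (W : ι → Over S) (a : ∀ i, (yon S).obj (W i) ⟶ Y) (hae : ∀ i, RepWith @Etale (a i))
    (hcov : ∀ y : Points Y, ∃ i w, Points.ofPt (a i) w = y)
    (l : ∀ i, (yon S).obj (W i) ⟶ F) (hl : ∀ i, l i ≫ q = a i) : IsIso q := by
  haveI : Sheaf.IsLocallySurjective q := by
    refine isLocallySurjective_of_local_lift q (fun T z => ?_)
    have sq := fun i => (hae i).rep.isPullback' z
    have hsnd : ∀ i, Etale ((hae i).rep.snd z).left := fun i => (hae i).property_snd z
    refine ⟨Sieve.ofArrows (fun i => (hae i).rep.pullback z) (fun i => (hae i).rep.snd z),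
      ofArrows_mem_J _ _ (fun i => ?_) (fun i => ?_) (fun t => ?_), ?_⟩
    · haveI := hsnd i; infer_instance
    · haveI := hsnd i; infer_instance
    · obtain ⟨i, w, hw⟩ := hcov (Points.ofPt z t)
      obtain ⟨v, -, hv⟩ := exists_of_ofPt_eq (sq i) w t hw
      exact ⟨i, v, hv⟩
    · intro T' k hk
      obtain ⟨Z, g, _, ⟨i⟩, rfl⟩ := hk
      refine ⟨(yon S).map g ≫ (yon S).map ((hae i).rep.fst' z) ≫ l i, ?_⟩
      rw [Category.assoc, Category.assoc, hl i, (sq i).w, Functor.map_comp, Category.assoc]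
  haveI : Epi q := Sheaf.epi_of_isLocallySurjective q
  exact isIso_of_mono_of_epi q

/-- A point of an affine etale chart over a point represented by a quasi-compact field point is
isolated in its fibre. -/
theorem exists_open_fibre_eq_singleton {X : Sp S} (p : FieldPt X)
    (hq : RepWith @QuasiCompact p.toHom) {U : Over S} [IsAffine U.left]
    (φ : (yon S).obj U ⟶ X) (hφ : RepWith @Etale φ) (u : U.left)
    (hu : Points.ofPt φ u = Points.mk p) :
    ∃ U' : U.left.Opens, u ∈ U' ∧ ∀ u' ∈ U', Points.ofPt φ u' = Points.mk p → u' = u := by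
  have hfin : (Points.ofPt φ ⁻¹' {Points.mk p}).Finite :=
    finite_fibre_of_repWith_quasiCompact_fieldPt p hq φ hφ
  have hx : ∀ (V : Over S) (b : (yon S).obj V ⟶ X), IsAffine V.left → RepWith @Etale b →
      (Points.ofPt b ⁻¹' {Points.mk p}).Finite := fun V b hV hb => by
    haveI := hV
    exact finite_fibre_of_repWith_quasiCompact_fieldPt p hq b hb
  have hsep : ∀ σ ∈ Points.ofPt φ ⁻¹' {Points.mk p}, σ ≠ u →
      ∃ N : Set U.left, IsOpen N ∧ u ∈ N ∧ σ ∉ N := by
    intro σ hσ hne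
    have hns : ¬ σ ⤳ u := fun hs =>
      hne (eq_of_specializes_of_ofPt_eq_of_finite_fibres _ hx φ hφ u σ hu hσ hs).symm
    rw [specializes_iff_forall_open] at hns
    push Not at hns
    obtain ⟨N, hN, huN, hσN⟩ := hns
    exact ⟨N, hN, huN, hσN⟩
  classical
  let N : U.left → Set U.left := fun σ =>
    if h : σ ∈ Points.ofPt φ ⁻¹' {Points.mk p} ∧ σ ≠ u then (hsep σ h.1 h.2).choose else Set.univ
  have hN : ∀ σ, IsOpen (N σ) ∧ u ∈ N σ := by
    intro σ
    by_cases h : σ ∈ Points.ofPt φ ⁻¹' {Points.mk p} ∧ σ ≠ u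
    · simp only [N, dif_pos h]
      exact ⟨(hsep σ h.1 h.2).choose_spec.1, (hsep σ h.1 h.2).choose_spec.2.1⟩
    · simp only [N, dif_neg h]
      exact ⟨isOpen_univ, Set.mem_univ _⟩
  have hNσ : ∀ σ, σ ∈ Points.ofPt φ ⁻¹' {Points.mk p} → σ ≠ u → σ ∉ N σ := by
    intro σ h1 h2
    have h : σ ∈ Points.ofPt φ ⁻¹' {Points.mk p} ∧ σ ≠ u := ⟨h1, h2⟩
    simp only [N, dif_pos h]
    exact (hsep σ h.1 h.2).choose_spec.2.2
  refine ⟨⟨⋂ σ ∈ Points.ofPt φ ⁻¹' {Points.mk p}, N σ,
    hfin.isOpen_biInter (fun σ _ => (hN σ).1)⟩, ?_, ?_⟩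
  · change u ∈ ⋂ σ ∈ Points.ofPt φ ⁻¹' {Points.mk p}, N σ
    simp only [Set.mem_iInter]
    exact fun σ _ => (hN σ).2
  · intro u' hu' hu'p
    by_contra hne
    have : u' ∈ ⋂ σ ∈ Points.ofPt φ ⁻¹' {Points.mk p}, N σ := hu'
    simp only [Set.mem_iInter] at this
    exact hNσ u' hu'p hne (this u' hu'p)

/-- Local form: around every point of a reduced chart of `Y`, the composite to `X` factors
through the monomorphic quasi-compact field point. -/
theorem exists_local_factor {X Y : Sp S} (hX : IsAlgSpace X) (f : Y ⟶ X) (p : FieldPt X)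
    (hm : Mono p.toHom) (hq : RepWith @QuasiCompact p.toHom)
    (hf : ∀ y : Points Y, Points.map f y = Points.mk p) {V₀ : Over S} [IsReduced V₀.left]
    (b : (yon S).obj V₀ ⟶ Y) (hbe : RepWith @Etale b) (v : V₀.left) :
    ∃ (W : Over S) (a : (yon S).obj W ⟶ Y) (w : W.left) (l : (yon S).obj W ⟶ (yon S).obj p.pt),
      RepWith @Etale a ∧ Points.ofPt a w = Points.ofPt b v ∧ l ≫ p.toHom = a ≫ f := by
  obtain ⟨U, hU, φ, u, hφ, hu⟩ := exists_affine_etale_nbhd hX (Points.mk p)
  haveI := hU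
  have sqE := hφ.rep.isPullback' (b ≫ f)
  haveI he₁ : Etale (hφ.rep.snd (b ≫ f)).left := hφ.property_snd (b ≫ f)
  have hbv : Points.ofPt (b ≫ f) v = Points.mk p := by
    rw [← Points.map_ofPt]; exact hf _
  obtain ⟨e, he2, he1⟩ := exists_of_ofPt_eq sqE u v (hu.trans hbv.symm)
  obtain ⟨U', huU', hU'⟩ := exists_open_fibre_eq_singleton p hq φ hφ u hu
  -- the open subscheme of `E` over `U'`
  let O : (hφ.rep.pullback (b ≫ f)).left.Opens := (hφ.rep.fst' (b ≫ f)).left ⁻¹ᵁ U'
  let W : Over S := Over.mk (O.ι ≫ (hφ.rep.pullback (b ≫ f)).hom)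
  let j : W ⟶ hφ.rep.pullback (b ≫ f) := Over.homMk O.ι rfl
  have heO : e ∈ O := by
    change (hφ.rep.fst' (b ≫ f)).left e ∈ U'
    rw [he2]; exact huU'
  haveI : IsReduced (hφ.rep.pullback (b ≫ f)).left :=
    isReduced_of_etale (hφ.rep.snd (b ≫ f)).left
  haveI : IsReduced W.left := (inferInstance : IsReduced (O : Scheme.{u}))
  -- the map to `Y` and its properties
  let a : (yon S).obj W ⟶ Y := (yon S).map (j ≫ hφ.rep.snd (b ≫ f)) ≫ b
  have hae : RepWith @Etale a := by
    refine (RepWith @Etale).comp_mem _ _ ((repWith_yon_map_iff _ _).2 ?_) hbe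
    change Etale (O.ι ≫ (hφ.rep.snd (b ≫ f)).left)
    infer_instance
  have hcomm : (yon S).map (j ≫ hφ.rep.fst' (b ≫ f)) ≫ φ = a ≫ f := by
    simp only [a, Functor.map_comp, Category.assoc]
    rw [sqE.w]
  -- all points of `W` map to `u`
  have hconst : ∀ w : W.left, (j ≫ hφ.rep.fst' (b ≫ f)).left w = u := by
    intro w
    refine hU' _ w.2 ?_
    have h1 : Points.ofPt φ ((j ≫ hφ.rep.fst' (b ≫ f)).left w) =
        Points.ofPt ((yon S).map (j ≫ hφ.rep.fst' (b ≫ f)) ≫ φ) w := (ofPt_comp_yon_map _ _ _).symm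
    rw [h1, hcomm, ← Points.map_ofPt]
    exact hf _
  -- factor through a field
  let g : W.left ⟶ Spec Γ(U.left, ⊤) := (j ≫ hφ.rep.fst' (b ≫ f)).left ≫ U.left.isoSpec.hom
  obtain ⟨K, hK, h, j', hj'⟩ := exists_factor_through_field_of_const g (U.left.isoSpec.hom u)
    (fun w => by
      change U.left.isoSpec.hom ((j ≫ hφ.rep.fst' (b ≫ f)).left w) = _
      rw [hconst w])
  have hj'' : h ≫ j' ≫ U.left.isoSpec.inv = (j ≫ hφ.rep.fst' (b ≫ f)).left := by
    rw [← Category.assoc, hj', Category.assoc, Iso.hom_inv_id, Category.comp_id]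
  let T' : Over S := Over.mk (j' ≫ U.left.isoSpec.inv ≫ U.hom)
  let jK : T' ⟶ U := Over.homMk (j' ≫ U.left.isoSpec.inv) (by simp [T'])
  let hK' : W ⟶ T' := Over.homMk h (by
    change h ≫ j' ≫ U.left.isoSpec.inv ≫ U.hom = W.hom
    rw [← Category.assoc, ← Category.assoc, Category.assoc h, hj'']
    exact Over.w (j ≫ hφ.rep.fst' (b ≫ f)))
  have hfac : hK' ≫ jK = j ≫ hφ.rep.fst' (b ≫ f) := Over.OverMorphism.ext hj''
  -- the field point
  let q' : FieldPt X := ⟨K, T'.hom, yonEquiv ((yon S).map jK ≫ φ)⟩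
  have hq' : q'.toHom = (yon S).map jK ≫ φ := Equiv.symm_apply_apply _ _
  have hq'p : Points.mk q' = Points.mk p := by
    have h1 : Points.ofPt ((yon S).map hK' ≫ q'.toHom) (⟨e, heO⟩ : O) = Points.mk q' := by
      rw [ofPt_comp_yon_map, Points.ofPt_toHom]
    rw [← h1, hq', ← Category.assoc, ← Functor.map_comp, hfac, hcomm, ← Points.map_ofPt]
    exact hf _
  obtain ⟨c, hc⟩ := QcEtDecent.exists_factor_of_mono_fieldPt hX p q' hm hq'p
  refine ⟨W, a, (⟨e, heO⟩ : O), (yon S).map (hK' ≫ c), hae, ?_, ?_⟩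
  · change Points.ofPt ((yon S).map (j ≫ hφ.rep.snd (b ≫ f)) ≫ b) _ = _
    rw [ofPt_comp_yon_map]
    congr 1
  · rw [Functor.map_comp, Category.assoc, hc, hq', ← Category.assoc, ← Functor.map_comp, hfac,
      hcomm]

/-- A morphism from a reduced algebraic space all of whose points map to a point represented by
a quasi-compact monomorphism from the spectrum of a field factors through that monomorphism. -/
theorem exists_factor_of_reduced {X Y : Sp S} (hX : IsAlgSpace X) (f : Y ⟶ X) (p : FieldPt X)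
    (hm : Mono p.toHom) (hq : RepWith @QuasiCompact p.toHom)
    (hYr : EtaleLocally (fun U => IsReduced U) Y)
    (hf : ∀ y : Points Y, Points.map f y = Points.mk p) :
    ∃ g : Y ⟶ (yon S).obj p.pt, g ≫ p.toHom = f := by
  obtain ⟨V₀, b, hbe, hbs, hred⟩ := hYr
  haveI : IsReduced V₀.left := hred
  have h1 := fun v : V₀.left => exists_local_factor hX f p hm hq hf b hbe v
  choose W a w l hae haw hl using h1
  haveI := hm
  haveI : Mono (pullback.snd p.toHom f) := inferInstance
  haveI : IsIso (pullback.snd p.toHom f) :=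
    isIso_of_mono_of_fac_etale_family (pullback.snd p.toHom f) W a hae
      (fun y => by
        obtain ⟨v, rfl⟩ := surjective_ofPt b hbs y
        exact ⟨v, w v, haw v⟩)
      (fun v => pullback.lift (l v) (a v) (hl v)) (fun v => pullback.lift_snd _ _ _)
  refine ⟨inv (pullback.snd p.toHom f) ≫ pullback.fst p.toHom f, ?_⟩
  rw [Category.assoc, pullback.condition, IsIso.inv_hom_id_assoc]

end Groth.Agent.Helper15.ReducedFactor
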