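import Mathlib
import Groth.Prelude.Def_FlatCA
import Groth.Agent.Lib.Helper15.RelFP2

set_option autoImplicit false
universe u v w

namespace Groth.Agent.Helper15.RelFP

open TensorProduct

section QuotientStep

variable {A C C' M M' : Type*} [CommRing A] [CommRing C] [CommRing C']
  [Algebra A C] [Algebra C C']
  [AddCommGroup M] [AddCommGroup M'] [Module C M] [Module C M'] [Module C' M']
  [IsScalarTower C C' M']

/-- a base change along a surjective ring map is surjective -/
theorem IsBaseChange.surjective_of_surjective (hCC' : Function.Surjective (algebraMap C C'))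
    (ℓ : M →ₗ[C] M') (hℓ : IsBaseChange C' ℓ) : Function.Surjective ℓ := by
  intro x
  induction x using hℓ.inductionOn with
  | zero => exact ⟨0, map_zero _⟩
  | tmul m => exact ⟨m, rfl⟩
  | smul s n hn =>
    obtain ⟨m, rfl⟩ := hn
    obtain ⟨c, rfl⟩ := hCC' s
    exact ⟨c • m, by rw [map_smul, algebraMap_smul]⟩
  | add n₁ n₂ h₁ h₂ =>
    obtain ⟨m₁, rfl⟩ := h₁
    obtain ⟨m₂, rfl⟩ := h₂
    exact ⟨m₁ + m₂, map_add _ _ _⟩

/-- the kernel of a base change along a surjective ring map -/
theorem IsBaseChange.ker_of_surjective (hCC' : Function.Surjective (algebraMap C C'))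
    (ℓ : M →ₗ[C] M') (hℓ : IsBaseChange C' ℓ) :
    LinearMap.ker ℓ = (RingHom.ker (algebraMap C C')) • (⊤ : Submodule C M) := by
  set J := RingHom.ker (algebraMap C C') with hJ
  apply le_antisymm
  · -- use the universal property with target `M ⧸ J • ⊤`
    let e : (C ⧸ J) ≃+* C' := RingHom.quotientKerEquivOfSurjective hCC'
    letI : Module C' (M ⧸ (J • ⊤ : Submodule C M)) :=
      Module.compHom _ (e.symm : C' →+* C ⧸ J)
    haveI : IsScalarTower C C' (M ⧸ (J • ⊤ : Submodule C M)) := by
      apply IsScalarTower.of_algebraMap_smul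
      intro c q
      change (e.symm (algebraMap C C' c)) • q = c • q
      have : e.symm (algebraMap C C' c) = Ideal.Quotient.mk J c := by
        rw [RingEquiv.symm_apply_eq]
        rfl
      rw [this]
      obtain ⟨m, rfl⟩ := Submodule.Quotient.mk_surjective _ q
      rfl
    intro m hm
    have h1 := hℓ.lift_eq (Submodule.mkQ (J • ⊤ : Submodule C M)) m
    rw [LinearMap.mem_ker.mp hm, map_zero] at h1
    exact (Submodule.Quotient.mk_eq_zero _).mp h1.symm
  · rw [Submodule.smul_le]
    intro c hc m _
    rw [LinearMap.mem_ker, map_smul, ← algebraMap_smul C' c (ℓ m)]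
    have : algebraMap C C' c = 0 := hc
    rw [this, zero_smul]

variable [Algebra A C'] [IsScalarTower A C C'] [Module A M] [IsScalarTower A C M]
  [Module A M'] [IsScalarTower A C M']

/-- Lemma Q: base change along a surjection with finitely generated kernel preserves finite
presentation over a ring surjecting onto the source. -/
theorem finitePresentation_of_isBaseChange_quotient
    (hAC : Function.Surjective (algebraMap A C))
    (hCC' : Function.Surjective (algebraMap C C')) (hJ : (RingHom.ker (algebraMap C C')).FG)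
    (ℓ : M →ₗ[C] M') (hℓ : IsBaseChange C' ℓ) [Module.FinitePresentation A M] :
    Module.FinitePresentation A M' := by
  have hsurj : Function.Surjective (ℓ.restrictScalars A) :=
    IsBaseChange.surjective_of_surjective hCC' ℓ hℓ
  refine Module.finitePresentation_of_surjective (ℓ.restrictScalars A) hsurj ?_
  rw [LinearMap.ker_restrictScalars, IsBaseChange.ker_of_surjective hCC' ℓ hℓ]
  haveI : Module.Finite C M := Module.Finite.of_restrictScalars_finite A C M
  have h1 : ((RingHom.ker (algebraMap C C')) • (⊤ : Submodule C M)).FG :=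
    Submodule.FG.smul hJ Module.Finite.fg_top
  obtain ⟨s, hs⟩ := h1
  refine ⟨s, ?_⟩
  rw [← hs, Submodule.restrictScalars_span A C hAC]

end QuotientStep

attribute [local instance] MvPolynomial.algebraMvPolynomial

/-- relative finite presentation is preserved by base change of the module along a finitely
presented extension of the algebra -/
theorem relFP_baseChange_of_finitePresentation {R B B' : Type u} [CommRing R] [CommRing B]
    [CommRing B'] [Algebra R B] [Algebra B B'] [Algebra R B'] [IsScalarTower R B B']
    [Algebra.FinitePresentation B B'] {N N' : Type u} [AddCommGroup N] [AddCommGroup N']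
    [Module B N] [Module B' N'] [Module B N'] [IsScalarTower B B' N']
    (ℓ : N →ₗ[B] N') (hℓ : IsBaseChange B' ℓ)
    (h : FlatCA.RelFinitePresentation R B N) : FlatCA.RelFinitePresentation R B' N' := by
  obtain ⟨n, φ, hφ, hN⟩ := h
  obtain ⟨m, θ, hθ, hJ⟩ := Algebra.FinitePresentation.out (R := B) (A := B')
  letI algPB : Algebra (MvPolynomial (Fin n) R) B := φ.toRingHom.toAlgebra
  haveI : IsScalarTower R (MvPolynomial (Fin n) R) B :=
    IsScalarTower.of_algebraMap_eq' (by ext r; exact (φ.commutes r).symm)
  letI mPN : Module (MvPolynomial (Fin n) R) N := Module.compHom N φ.toRingHom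
  haveI : IsScalarTower (MvPolynomial (Fin n) R) B N :=
    IsScalarTower.of_algebraMap_smul fun _ _ => rfl
  haveI : Module.FinitePresentation (MvPolynomial (Fin n) R) N := hN
  -- the polynomial step
  let e₁ : MvPolynomial (Fin m) B ⊗[B] N ≃ₗ[MvPolynomial (Fin m) (MvPolynomial (Fin n) R)]
      MvPolynomial (Fin m) (MvPolynomial (Fin n) R) ⊗[MvPolynomial (Fin n) R] N :=
    Algebra.IsPushout.cancelBaseChange (MvPolynomial (Fin n) R)
      (MvPolynomial (Fin m) (MvPolynomial (Fin n) R)) B (MvPolynomial (Fin m) B) N
  haveI : Module.FinitePresentation (MvPolynomial (Fin m) (MvPolynomial (Fin n) R))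
      (MvPolynomial (Fin m) B ⊗[B] N) :=
    Module.FinitePresentation.of_equiv
      (M := MvPolynomial (Fin m) (MvPolynomial (Fin n) R) ⊗[MvPolynomial (Fin n) R] N) e₁.symm
  -- the quotient step
  letI algCB' : Algebra (MvPolynomial (Fin m) B) B' := θ.toRingHom.toAlgebra
  haveI : IsScalarTower B (MvPolynomial (Fin m) B) B' :=
    IsScalarTower.of_algebraMap_eq' (by ext b; exact (θ.commutes b).symm)
  letI algAB' : Algebra (MvPolynomial (Fin m) (MvPolynomial (Fin n) R)) B' :=
    ((algebraMap (MvPolynomial (Fin m) B) B').comp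
      (algebraMap (MvPolynomial (Fin m) (MvPolynomial (Fin n) R)) (MvPolynomial (Fin m) B))).toAlgebra
  haveI : IsScalarTower (MvPolynomial (Fin m) (MvPolynomial (Fin n) R)) (MvPolynomial (Fin m) B) B' :=
    IsScalarTower.of_algebraMap_eq' rfl
  letI mCN' : Module (MvPolynomial (Fin m) B) N' := Module.compHom N' (algebraMap (MvPolynomial (Fin m) B) B')
  haveI : IsScalarTower (MvPolynomial (Fin m) B) B' N' :=
    IsScalarTower.of_algebraMap_smul fun _ _ => rfl
  letI mAN' : Module (MvPolynomial (Fin m) (MvPolynomial (Fin n) R)) N' :=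
    Module.compHom N' (algebraMap (MvPolynomial (Fin m) (MvPolynomial (Fin n) R)) B')
  haveI : IsScalarTower (MvPolynomial (Fin m) (MvPolynomial (Fin n) R)) (MvPolynomial (Fin m) B) N' :=
    IsScalarTower.of_algebraMap_smul fun _ _ => rfl
  haveI : IsScalarTower B (MvPolynomial (Fin m) B) N' := by
    apply IsScalarTower.of_algebraMap_smul
    intro b x
    change θ (algebraMap B _ b) • x = b • x
    rw [θ.commutes, algebraMap_smul]
  have hbc : IsBaseChange (MvPolynomial (Fin m) B) (TensorProduct.mk B (MvPolynomial (Fin m) B) N 1) :=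
    TensorProduct.isBaseChange B N (MvPolynomial (Fin m) B)
  let ℓ' : MvPolynomial (Fin m) B ⊗[B] N →ₗ[MvPolynomial (Fin m) B] N' := hbc.lift ℓ
  have hℓ' : IsBaseChange B' ℓ' := by
    apply IsBaseChange.of_comp hbc
    have : (ℓ'.restrictScalars B) ∘ₗ (TensorProduct.mk B (MvPolynomial (Fin m) B) N 1) = ℓ :=
      hbc.lift_comp ℓ
    rw [this]
    exact hℓ
  have hAC : Function.Surjective (algebraMap (MvPolynomial (Fin m) (MvPolynomial (Fin n) R))
      (MvPolynomial (Fin m) B)) := MvPolynomial.map_surjective _ hφ
  have hfp : Module.FinitePresentation (MvPolynomial (Fin m) (MvPolynomial (Fin n) R)) N' :=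
    finitePresentation_of_isBaseChange_quotient hAC hθ hJ ℓ' hℓ'
  -- conclude
  let π : MvPolynomial (Fin m) (MvPolynomial (Fin n) R) →ₐ[R] B' :=
    (θ.restrictScalars R).comp (MvPolynomial.mapAlgHom φ)
  have hπ : Function.Surjective π := hθ.comp (MvPolynomial.map_surjective _ hφ)
  rw [relFP_iff_fpVia π hπ N']
  exact hfp

end Groth.Agent.Helper15.RelFP
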