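import Mathlib
import Groth.Prelude.Def_Flatn
import Groth.Agent.Lib.Helper15.RelFP3
import Groth.Agent.Lib.Helper15.RelFP9
import Groth.Agent.Lib.Helper13.PullbackSections

set_option autoImplicit false
universe u

open CategoryTheory CategoryTheory.Limits AlgebraicGeometry Opposite TopologicalSpace TensorProduct

namespace Groth.Agent.Helper15.RelFP

/-- ring-level form with an explicit tensor product -/
theorem relFP_of_tensorEquiv {R B B' : Type u} [CommRing R] [CommRing B]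
    [CommRing B'] [Algebra R B] [Algebra B B'] [Algebra R B'] [IsScalarTower R B B']
    [Algebra.FinitePresentation B B'] {N N' : Type u} [AddCommGroup N] [AddCommGroup N']
    [Module B N] [Module B' N'] (ε : N' ≃ₗ[B'] B' ⊗[B] N)
    (h : FlatCA.RelFinitePresentation R B N) : FlatCA.RelFinitePresentation R B' N' := by
  letI : Module B N' := Module.compHom N' (algebraMap B B')
  haveI : IsScalarTower B B' N' := IsScalarTower.of_algebraMap_smul fun _ _ => rfl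
  let ℓ : N →ₗ[B] N' := (ε.symm.toLinearMap.restrictScalars B) ∘ₗ (TensorProduct.mk B B' N 1)
  have hℓ : IsBaseChange B' ℓ := IsBaseChange.of_equiv ε.symm (fun x => rfl)
  exact relFP_baseChange_of_finitePresentation ℓ hℓ h

variable {X Y S : Scheme.{u}}

/-- S9745 -/
theorem isRelFP_pullback_of_lfp (f : X ⟶ Y) (g : Y ⟶ S) [LocallyOfFinitePresentation f]
    [LocallyOfFiniteType g] (G : Y.Modules) [G.IsQuasicoherent] (hG : Flatn.IsRelFP g G) :
    Flatn.IsRelFP (f ≫ g) ((Scheme.Modules.pullback f).obj G) := by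
  have hG' := relFPOn_of_isRelFP g G hG
  refine ⟨Set.univ, ?_, fun W _ => ⟨{U | ∃ V : Y.affineOpens, (U : X.Opens) ≤ f ⁻¹ᵁ (V : Y.Opens) ∧
    (V : Y.Opens) ≤ g ⁻¹ᵁ (W : S.Opens)}, ?_, ?_⟩⟩
  · rw [eq_top_iff]
    intro x _
    obtain ⟨_, ⟨W, hW, rfl⟩, hxW, -⟩ :=
      S.isBasis_affineOpens.exists_subset_of_mem_open (Set.mem_univ x) isOpen_univ
    exact Opens.mem_iSup.mpr ⟨⟨W, hW⟩, Opens.mem_iSup.mpr ⟨Set.mem_univ _, hxW⟩⟩
  · apply le_antisymm
    · refine iSup₂_le fun U hU => ?_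
      obtain ⟨V, hUV, hVW⟩ := hU
      intro x hx
      exact hVW (hUV hx)
    · intro x hx
      obtain ⟨_, ⟨V, hV, rfl⟩, hxV, hVW⟩ :=
        Y.isBasis_affineOpens.exists_subset_of_mem_open (show f x ∈ g ⁻¹ᵁ (W : S.Opens) from hx)
          (g ⁻¹ᵁ (W : S.Opens)).2
      obtain ⟨_, ⟨U, hU, rfl⟩, hxU, hUV⟩ :=
        X.isBasis_affineOpens.exists_subset_of_mem_open (show x ∈ f ⁻¹ᵁ V from hxV) (f ⁻¹ᵁ V).2
      exact Opens.mem_iSup.mpr ⟨⟨U, hU⟩, Opens.mem_iSup.mpr ⟨⟨⟨V, hV⟩, hUV, hVW⟩, hxU⟩⟩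
  · rintro ⟨U, hU⟩ ⟨⟨V, hV⟩, hUV, hVW⟩ h
    obtain ⟨W, hW⟩ := W
    dsimp only at hUV hVW h ⊢
    have H := hG' ⟨V, hV⟩ ⟨W, hW⟩ hVW
    rw [relFPOn_iff'] at H ⊢
    dsimp only at H ⊢
    letI algRB : Algebra Γ(S, W) Γ(Y, V) := (g.appLE W V hVW).hom.toAlgebra
    letI algBB' : Algebra Γ(Y, V) Γ(X, U) := (f.appLE V U hUV).hom.toAlgebra
    letI algRB' : Algebra Γ(S, W) Γ(X, U) := ((f ≫ g).appLE W U h).hom.toAlgebra
    haveI : IsScalarTower Γ(S, W) Γ(Y, V) Γ(X, U) := by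
      apply IsScalarTower.of_algebraMap_eq'
      change ((f ≫ g).appLE W U h).hom = (f.appLE V U hUV).hom.comp (g.appLE W V hVW).hom
      rw [← CommRingCat.hom_comp, Scheme.Hom.appLE_comp_appLE]
    haveI : Algebra.FinitePresentation Γ(Y, V) Γ(X, U) :=
      HasRingHomProperty.appLE (P := @LocallyOfFinitePresentation) f inferInstance
        ⟨V, hV⟩ ⟨U, hU⟩ hUV
    exact relFP_of_tensorEquiv (Groth.Agent.Helper13.Pullback.sectionsPullbackEquiv f G hU hV hUV) H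

end Groth.Agent.Helper15.RelFP
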