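import Mathlib
import Groth.Prelude.Def_FlatCA
import Groth.Agent.Lib.Helper15.RelFP2

set_option autoImplicit false
universe u v w

namespace Groth.Agent.Helper15.RelFP

open TensorProduct

attribute [local instance] MvPolynomial.algebraMvPolynomial

/-- relative finite presentation is stable under base change -/
theorem relFP_baseChange {R R' S₀ S₀' : Type u} [CommRing R] [CommRing R'] [CommRing S₀]
    [CommRing S₀'] [Algebra R S₀] [Algebra R R'] [Algebra S₀ S₀'] [Algebra R' S₀'] [Algebra R S₀']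
    [IsScalarTower R S₀ S₀'] [IsScalarTower R R' S₀'] [Algebra.IsPushout R S₀ R' S₀']
    {N N' : Type u} [AddCommGroup N] [AddCommGroup N'] [Module S₀ N] [Module S₀' N']
    (ε : N' ≃ₗ[S₀'] S₀' ⊗[S₀] N) (h : FlatCA.RelFinitePresentation R S₀ N) :
    FlatCA.RelFinitePresentation R' S₀' N' := by
  obtain ⟨n, φ, hφ, hN⟩ := h
  let φ' : MvPolynomial (Fin n) R' →ₐ[R'] S₀' :=
    MvPolynomial.aeval (fun i => algebraMap S₀ S₀' (φ (MvPolynomial.X i)))
  have hcomp : ∀ p, φ' (MvPolynomial.map (algebraMap R R') p) = algebraMap S₀ S₀' (φ p) := by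
    intro p
    induction p using MvPolynomial.induction_on with
    | C r =>
      simp only [MvPolynomial.map_C, φ']
      rw [MvPolynomial.aeval_C, ← IsScalarTower.algebraMap_apply]
      have : φ (MvPolynomial.C r) = algebraMap R S₀ r := φ.commutes r
      rw [this, ← IsScalarTower.algebraMap_apply]
    | add p q hp hq => rw [map_add, map_add, hp, hq, map_add, map_add]
    | mul_X p i hp =>
      rw [map_mul, map_mul, hp, map_mul, map_mul, MvPolynomial.map_X]
      congr 1
      exact MvPolynomial.aeval_X _ i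
  letI algPS : Algebra (MvPolynomial (Fin n) R) S₀ := φ.toRingHom.toAlgebra
  letI algP'S' : Algebra (MvPolynomial (Fin n) R') S₀' := φ'.toRingHom.toAlgebra
  letI algPS' : Algebra (MvPolynomial (Fin n) R) S₀' :=
    ((algebraMap S₀ S₀').comp φ.toRingHom).toAlgebra
  haveI : IsScalarTower R (MvPolynomial (Fin n) R) S₀ :=
    IsScalarTower.of_algebraMap_eq' (by ext r; exact (φ.commutes r).symm)
  haveI : IsScalarTower (MvPolynomial (Fin n) R) S₀ S₀' := IsScalarTower.of_algebraMap_eq' rfl
  haveI : IsScalarTower (MvPolynomial (Fin n) R) (MvPolynomial (Fin n) R') S₀' := by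
    apply IsScalarTower.of_algebraMap_eq
    intro p
    exact (hcomp p).symm
  haveI : IsScalarTower R' (MvPolynomial (Fin n) R') S₀' :=
    IsScalarTower.of_algebraMap_eq' (by ext r; exact (φ'.commutes r).symm)
  haveI : IsScalarTower R (MvPolynomial (Fin n) R') S₀' := by
    apply IsScalarTower.of_algebraMap_eq
    intro r
    rw [IsScalarTower.algebraMap_apply R R' S₀', IsScalarTower.algebraMap_apply R R' (MvPolynomial (Fin n) R'),
      ← IsScalarTower.algebraMap_apply R' (MvPolynomial (Fin n) R') S₀']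
  haveI : IsScalarTower R (MvPolynomial (Fin n) R) S₀' := by
    apply IsScalarTower.of_algebraMap_eq
    intro r
    change algebraMap R S₀' r = algebraMap S₀ S₀' (φ (algebraMap R _ r))
    rw [φ.commutes, ← IsScalarTower.algebraMap_apply]
  have hpo : Algebra.IsPushout (MvPolynomial (Fin n) R) S₀ (MvPolynomial (Fin n) R') S₀' :=
    (Algebra.IsPushout.comp_iff R (MvPolynomial (Fin n) R) R' (S' := MvPolynomial (Fin n) R')
      (T := S₀) (T' := S₀')).mp inferInstance
  haveI hpo' : Algebra.IsPushout (MvPolynomial (Fin n) R) (MvPolynomial (Fin n) R') S₀ S₀' :=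
    hpo.symm
  have hφ' : Function.Surjective φ' := by
    intro x
    have hbc := hpo'.out
    induction x using hbc.inductionOn with
    | zero => exact ⟨0, map_zero _⟩
    | tmul s =>
      obtain ⟨p, rfl⟩ := hφ s
      exact ⟨MvPolynomial.map (algebraMap R R') p, hcomp p⟩
    | smul p' y hy =>
      obtain ⟨q, rfl⟩ := hy
      exact ⟨p' * q, by rw [map_mul]; rfl⟩
    | add y₁ y₂ h₁ h₂ =>
      obtain ⟨q₁, rfl⟩ := h₁
      obtain ⟨q₂, rfl⟩ := h₂
      exact ⟨q₁ + q₂, map_add _ _ _⟩
  refine ⟨n, φ', hφ', ?_⟩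
  letI mPN : Module (MvPolynomial (Fin n) R) N := Module.compHom N φ.toRingHom
  haveI : IsScalarTower (MvPolynomial (Fin n) R) S₀ N :=
    IsScalarTower.of_algebraMap_smul fun _ _ => rfl
  haveI : Module.FinitePresentation (MvPolynomial (Fin n) R) N := hN
  letI mP'N' : Module (MvPolynomial (Fin n) R') N' := Module.compHom N' φ'.toRingHom
  haveI : IsScalarTower (MvPolynomial (Fin n) R') S₀' N' :=
    IsScalarTower.of_algebraMap_smul fun _ _ => rfl
  let e₁ : S₀' ⊗[S₀] N ≃ₗ[MvPolynomial (Fin n) R']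
      MvPolynomial (Fin n) R' ⊗[MvPolynomial (Fin n) R] N :=
    Algebra.IsPushout.cancelBaseChange (MvPolynomial (Fin n) R) (MvPolynomial (Fin n) R') S₀ S₀' N
  let e₂ : N' ≃ₗ[MvPolynomial (Fin n) R'] MvPolynomial (Fin n) R' ⊗[MvPolynomial (Fin n) R] N :=
    (ε.restrictScalars (MvPolynomial (Fin n) R')).trans e₁
  change Module.FinitePresentation (MvPolynomial (Fin n) R') N'
  exact Module.FinitePresentation.of_equiv
    (M := MvPolynomial (Fin n) R' ⊗[MvPolynomial (Fin n) R] N) e₂.symm

end Groth.Agent.Helper15.RelFP
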