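import Mathlib
import Groth.Prelude.Def_Flatn
import Groth.Agent.Lib.Helper15.RelFP3
import Groth.Agent.Lib.Helper15.RelFP11
import Groth.Agent.Lib.Helper13.PullbackSections

set_option autoImplicit false
universe u

open CategoryTheory CategoryTheory.Limits AlgebraicGeometry Opposite TopologicalSpace TensorProduct

namespace Groth.Agent.Helper15.RelFP

variable {X S X' S' : Scheme.{u}}

/-- the box `g'⁻¹ U ∩ f'⁻¹ V'` in a fibre product is affine -/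
theorem isAffineOpen_box {f : X ⟶ S} {g : S' ⟶ S} {f' : X' ⟶ S'} {g' : X' ⟶ X}
    (hc : IsPullback g' f' f g) {V : S.Opens} {V' : S'.Opens} {U : X.Opens}
    (hV : IsAffineOpen V) (hV' : IsAffineOpen V') (hU : IsAffineOpen U)
    (hV'V : V' ≤ g ⁻¹ᵁ V) (hUV : U ≤ f ⁻¹ᵁ V) :
    IsAffineOpen (g' ⁻¹ᵁ U ⊓ f' ⁻¹ᵁ V') := by
  have : IsAffine (V : Scheme.{u}) := hV
  have : IsAffine (V' : Scheme.{u}) := hV'
  have : IsAffine (U : Scheme.{u}) := hU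
  exact .of_isIso (Scheme.Hom.isPullback_resLE hc hV'V hUV rfl).isoPullback.hom

/-- S9744 on one box -/
theorem relFPOn_baseChange (f : X ⟶ S) (F : X.Modules) [F.IsQuasicoherent]
    (g : S' ⟶ S) (f' : X' ⟶ S') (g' : X' ⟶ X) (hc : IsPullback g' f' f g)
    (U : X.affineOpens) (V : S.affineOpens) (V' : S'.affineOpens)
    (hUV : (U : X.Opens) ≤ f ⁻¹ᵁ (V : S.Opens)) (hV'V : (V' : S'.Opens) ≤ g ⁻¹ᵁ (V : S.Opens))
    (U' : X'.affineOpens) (hU' : (U' : X'.Opens) = g' ⁻¹ᵁ (U : X.Opens) ⊓ f' ⁻¹ᵁ (V' : S'.Opens))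
    (hU'V' : (U' : X'.Opens) ≤ f' ⁻¹ᵁ (V' : S'.Opens))
    (H : Flatn.RelFPOn f F U V hUV) :
    Flatn.RelFPOn f' ((Scheme.Modules.pullback g').obj F) U' V' hU'V' := by
  obtain ⟨U, hU⟩ := U
  obtain ⟨V, hV⟩ := V
  obtain ⟨V', hV'⟩ := V'
  obtain ⟨U', hU'aff⟩ := U'
  dsimp only at hUV hV'V hU' hU'V' H ⊢
  have hU'U : U' ≤ g' ⁻¹ᵁ U := by rw [hU']; exact inf_le_left
  rw [relFPOn_iff'] at H ⊢
  dsimp only at H ⊢
  have hpo := (isIso_pushoutSection_iff hc hV'V hUV hU').mp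
    (isIso_pushoutSection_of_isAffineOpen hc hV'V hUV hU' hV hV' hU)
  letI a1 : Algebra Γ(S, V) Γ(X, U) := (f.appLE V U hUV).hom.toAlgebra
  letI a2 : Algebra Γ(S, V) Γ(S', V') := (g.appLE V V' hV'V).hom.toAlgebra
  letI a3 : Algebra Γ(X, U) Γ(X', U') := (g'.appLE U U' hU'U).hom.toAlgebra
  letI a4 : Algebra Γ(S', V') Γ(X', U') := (f'.appLE V' U' hU'V').hom.toAlgebra
  letI a5 : Algebra Γ(S, V) Γ(X', U') :=
    ((g'.appLE U U' hU'U).hom.comp (f.appLE V U hUV).hom).toAlgebra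
  haveI : IsScalarTower Γ(S, V) Γ(X, U) Γ(X', U') := IsScalarTower.of_algebraMap_eq' rfl
  haveI : IsScalarTower Γ(S, V) Γ(S', V') Γ(X', U') := by
    apply IsScalarTower.of_algebraMap_eq'
    change (g'.appLE U U' hU'U).hom.comp (f.appLE V U hUV).hom =
      (f'.appLE V' U' hU'V').hom.comp (g.appLE V V' hV'V).hom
    rw [← CommRingCat.hom_comp, ← CommRingCat.hom_comp, hpo.w]
  haveI : Algebra.IsPushout Γ(S, V) Γ(X, U) Γ(S', V') Γ(X', U') :=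
    CommRingCat.isPushout_iff_isPushout.mp hpo
  exact relFP_baseChange (Groth.Agent.Helper13.Pullback.sectionsPullbackEquiv g' F hU'aff hU hU'U) H

/-- S9744 -/
theorem isRelFP_baseChange (f : X ⟶ S) [LocallyOfFiniteType f] (F : X.Modules) [F.IsQuasicoherent]
    (g : S' ⟶ S) (f' : X' ⟶ S') (g' : X' ⟶ X) (hc : IsPullback g' f' f g)
    (hF : Flatn.IsRelFP f F) : Flatn.IsRelFP f' ((Scheme.Modules.pullback g').obj F) := by
  have hF' := relFPOn_of_isRelFP f F hF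
  refine ⟨{V' | ∃ V : S.affineOpens, (V' : S'.Opens) ≤ g ⁻¹ᵁ (V : S.Opens)}, ?_, ?_⟩
  · rw [eq_top_iff]
    intro x _
    obtain ⟨_, ⟨V, hV, rfl⟩, hxV, -⟩ :=
      S.isBasis_affineOpens.exists_subset_of_mem_open (Set.mem_univ (g x)) isOpen_univ
    obtain ⟨_, ⟨V', hV', rfl⟩, hxV', hV'V⟩ :=
      S'.isBasis_affineOpens.exists_subset_of_mem_open (show x ∈ g ⁻¹ᵁ V from hxV) (g ⁻¹ᵁ V).2
    exact Opens.mem_iSup.mpr ⟨⟨V', hV'⟩, Opens.mem_iSup.mpr ⟨⟨⟨V, hV⟩, hV'V⟩, hxV'⟩⟩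
  · rintro V' ⟨V, hV'V⟩
    refine ⟨{U' | ∃ U : X.affineOpens, (U : X.Opens) ≤ f ⁻¹ᵁ (V : S.Opens) ∧
      (U' : X'.Opens) = g' ⁻¹ᵁ (U : X.Opens) ⊓ f' ⁻¹ᵁ (V' : S'.Opens)}, ?_, ?_⟩
    · apply le_antisymm
      · refine iSup₂_le ?_
        rintro U' ⟨U, hUV, hU'⟩
        rw [hU']
        exact inf_le_right
      · intro x hx
        have h1 : f (g' x) ∈ (V : S.Opens) := by
          have h2 : f (g' x) = g (f' x) := by
            rw [← Scheme.Hom.comp_apply, ← Scheme.Hom.comp_apply, hc.w]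
          rw [h2]
          exact hV'V hx
        obtain ⟨_, ⟨U, hU, rfl⟩, hxU, hUV⟩ :=
          X.isBasis_affineOpens.exists_subset_of_mem_open
            (show g' x ∈ f ⁻¹ᵁ (V : S.Opens) from h1) (f ⁻¹ᵁ (V : S.Opens)).2
        refine Opens.mem_iSup.mpr ⟨⟨g' ⁻¹ᵁ U ⊓ f' ⁻¹ᵁ (V' : S'.Opens),
          isAffineOpen_box hc V.2 V'.2 hU hV'V hUV⟩, Opens.mem_iSup.mpr ⟨⟨⟨U, hU⟩, hUV, rfl⟩, ?_⟩⟩
        exact ⟨hxU, hx⟩
    · rintro U' ⟨U, hUV, hU'⟩ hU'V'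
      exact relFPOn_baseChange f F g f' g' hc U V V' hUV hV'V U' hU' hU'V' (hF' U V hUV)

end Groth.Agent.Helper15.RelFP
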