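import Mathlib
import Groth.Prelude.Def_Flatn
import Groth.Agent.Lib.Helper15.RelFP3

set_option autoImplicit false
universe u

open CategoryTheory CategoryTheory.Limits AlgebraicGeometry Opposite TopologicalSpace

namespace Groth.Agent.Helper15.RelFP

variable {X Y S : Scheme.{u}}

/-- S9746: composition with a locally finitely presented base morphism. -/
theorem isRelFP_comp_of_lfp (f : X ⟶ Y) (g : Y ⟶ S) [LocallyOfFiniteType f]
    [LocallyOfFinitePresentation g] (F : X.Modules) [F.IsQuasicoherent]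
    (hF : Flatn.IsRelFP f F) : Flatn.IsRelFP (f ≫ g) F := by
  have hF' := relFPOn_of_isRelFP f F hF
  refine ⟨Set.univ, ?_, fun W _ => ⟨{U | ∃ V : Y.affineOpens, (U : X.Opens) ≤ f ⁻¹ᵁ (V : Y.Opens) ∧
    (V : Y.Opens) ≤ g ⁻¹ᵁ (W : S.Opens)}, ?_, ?_⟩⟩
  · rw [eq_top_iff]
    intro x _
    obtain ⟨_, ⟨W, hW, rfl⟩, hxW, -⟩ :=
      S.isBasis_affineOpens.exists_subset_of_mem_open (Set.mem_univ x) isOpen_univ
    exact Opens.mem_iSup.mpr ⟨⟨W, hW⟩, Opens.mem_iSup.mpr ⟨Set.mem_univ _, hxW⟩⟩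
  · apply le_antisymm
    · refine iSup₂_le fun U hU => ?_
      obtain ⟨V, hUV, hVW⟩ := hU
      intro x hx
      exact hVW (hUV hx)
    · intro x hx
      obtain ⟨_, ⟨V, hV, rfl⟩, hxV, hVW⟩ :=
        Y.isBasis_affineOpens.exists_subset_of_mem_open (show f x ∈ g ⁻¹ᵁ (W : S.Opens) from hx)
          (g ⁻¹ᵁ (W : S.Opens)).2
      obtain ⟨_, ⟨U, hU, rfl⟩, hxU, hUV⟩ :=
        X.isBasis_affineOpens.exists_subset_of_mem_open (show x ∈ f ⁻¹ᵁ V from hxV) (f ⁻¹ᵁ V).2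
      exact Opens.mem_iSup.mpr ⟨⟨U, hU⟩, Opens.mem_iSup.mpr ⟨⟨⟨V, hV⟩, hUV, hVW⟩, hxU⟩⟩
  · rintro ⟨U, hU⟩ ⟨⟨V, hV⟩, hUV, hVW⟩ h
    obtain ⟨W, hW⟩ := W
    dsimp only at hUV hVW h ⊢
    have H := hF' ⟨U, hU⟩ ⟨V, hV⟩ hUV
    rw [relFPOn_iff'] at H ⊢
    dsimp only at H ⊢
    letI algRR' : Algebra Γ(S, W) Γ(Y, V) := (g.appLE W V hVW).hom.toAlgebra
    letI algR'S : Algebra Γ(Y, V) Γ(X, U) := (f.appLE V U hUV).hom.toAlgebra
    letI algRS : Algebra Γ(S, W) Γ(X, U) := ((f ≫ g).appLE W U h).hom.toAlgebra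
    haveI : IsScalarTower Γ(S, W) Γ(Y, V) Γ(X, U) := by
      apply IsScalarTower.of_algebraMap_eq'
      change ((f ≫ g).appLE W U h).hom = (f.appLE V U hUV).hom.comp (g.appLE W V hVW).hom
      rw [← CommRingCat.hom_comp, Scheme.Hom.appLE_comp_appLE]
    haveI : Algebra.FinitePresentation Γ(S, W) Γ(Y, V) :=
      HasRingHomProperty.appLE (P := @LocallyOfFinitePresentation) g inferInstance
        ⟨W, hW⟩ ⟨V, hV⟩ hVW
    exact (relFP_iff_of_base_finitePresentation Γ(F, U)).mpr H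

end Groth.Agent.Helper15.RelFP
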