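import Mathlib
import Groth.Prelude.Def_FlatCA
import Groth.Agent.Lib.Helper15.RelFP2

set_option autoImplicit false
universe u v w

namespace Groth.Agent.Helper15.RelFP

open TensorProduct

section Exact

variable {R S : Type u} [CommRing R] [CommRing S] [Algebra R S]
variable {N₁ N₂ N₃ : Type u} [AddCommGroup N₁] [AddCommGroup N₂] [AddCommGroup N₃]
  [Module S N₁] [Module S N₂] [Module S N₃]

/-- extensions of relatively finitely presented modules -/
theorem relFP_of_exact_outer (i : N₁ →ₗ[S] N₂) (p : N₂ →ₗ[S] N₃) (hi : Function.Injective i)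
    (hp : Function.Surjective p) (hex : Function.Exact i p)
    (h₁ : FlatCA.RelFinitePresentation R S N₁) (h₃ : FlatCA.RelFinitePresentation R S N₃) :
    FlatCA.RelFinitePresentation R S N₂ := by
  obtain ⟨n, φ, hφ, hN₁⟩ := h₁
  obtain ⟨m, ψ, hψ, hN₃⟩ := h₃
  have hN₃' : FPVia φ.toRingHom N₃ := fpVia_mvPolynomial_indep ψ hψ φ hφ N₃ hN₃
  refine ⟨n, φ, hφ, ?_⟩
  letI : Module (MvPolynomial (Fin n) R) N₁ := Module.compHom N₁ φ.toRingHom
  letI : Module (MvPolynomial (Fin n) R) N₂ := Module.compHom N₂ φ.toRingHom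
  letI : Module (MvPolynomial (Fin n) R) N₃ := Module.compHom N₃ φ.toRingHom
  haveI : Module.FinitePresentation (MvPolynomial (Fin n) R) N₁ := hN₁
  haveI : Module.FinitePresentation (MvPolynomial (Fin n) R) N₃ := hN₃'
  let i' : N₁ →ₗ[MvPolynomial (Fin n) R] N₂ :=
    { i with map_smul' := fun a x => i.map_smul (φ a) x }
  let p' : N₂ →ₗ[MvPolynomial (Fin n) R] N₃ :=
    { p with map_smul' := fun a x => p.map_smul (φ a) x }
  have hp' : Function.Surjective p' := hp
  have hi' : Function.Injective i' := hi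
  have hker : LinearMap.ker p' = LinearMap.range i' := by
    ext x
    exact hex x
  haveI : Module.FinitePresentation (MvPolynomial (Fin n) R) (LinearMap.ker p') := by
    rw [hker]
    exact Module.FinitePresentation.of_equiv (LinearEquiv.ofInjective i' hi')
  change Module.FinitePresentation (MvPolynomial (Fin n) R) N₂
  exact Module.finitePresentation_of_ker p' hp'

/-- quotients of relatively finitely presented modules by finite submodules -/
theorem relFP_of_exact_quot (i : N₁ →ₗ[S] N₂) (p : N₂ →ₗ[S] N₃)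
    (hp : Function.Surjective p) (hex : Function.Exact i p) [Module.Finite S N₁]
    (h₂ : FlatCA.RelFinitePresentation R S N₂) :
    FlatCA.RelFinitePresentation R S N₃ := by
  obtain ⟨n, φ, hφ, hN₂⟩ := h₂
  refine ⟨n, φ, hφ, ?_⟩
  letI algPS : Algebra (MvPolynomial (Fin n) R) S := φ.toRingHom.toAlgebra
  letI : Module (MvPolynomial (Fin n) R) N₁ := Module.compHom N₁ φ.toRingHom
  letI : Module (MvPolynomial (Fin n) R) N₂ := Module.compHom N₂ φ.toRingHom
  letI : Module (MvPolynomial (Fin n) R) N₃ := Module.compHom N₃ φ.toRingHom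
  haveI : IsScalarTower (MvPolynomial (Fin n) R) S N₁ :=
    IsScalarTower.of_algebraMap_smul fun _ _ => rfl
  haveI : Module.FinitePresentation (MvPolynomial (Fin n) R) N₂ := hN₂
  haveI : Module.Finite (MvPolynomial (Fin n) R) N₁ := by
    obtain ⟨s, hs⟩ := (Module.finite_def (R := S) (M := N₁)).mp inferInstance
    refine ⟨⟨s, ?_⟩⟩
    have h1 := Submodule.restrictScalars_span (MvPolynomial (Fin n) R) S (M := N₁) hφ (s : Set N₁)
    rw [← h1, hs]
    rfl
  let i' : N₁ →ₗ[MvPolynomial (Fin n) R] N₂ :=
    { i with map_smul' := fun a x => i.map_smul (φ a) x }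
  let p' : N₂ →ₗ[MvPolynomial (Fin n) R] N₃ :=
    { p with map_smul' := fun a x => p.map_smul (φ a) x }
  have hp' : Function.Surjective p' := hp
  have hker : LinearMap.ker p' = LinearMap.range i' := by
    ext x
    exact hex x
  change Module.FinitePresentation (MvPolynomial (Fin n) R) N₃
  refine Module.finitePresentation_of_surjective p' hp' ?_
  rw [hker]
  exact Submodule.fg_range i'

/-- retracts of relatively finitely presented modules -/
theorem relFP_of_retract (i : N₁ →ₗ[S] N₂) (p : N₂ →ₗ[S] N₁) (hpi : ∀ x, p (i x) = x)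
    (h₂ : FlatCA.RelFinitePresentation R S N₂) :
    FlatCA.RelFinitePresentation R S N₁ := by
  obtain ⟨n, φ, hφ, hN₂⟩ := h₂
  refine ⟨n, φ, hφ, ?_⟩
  letI : Module (MvPolynomial (Fin n) R) N₁ := Module.compHom N₁ φ.toRingHom
  letI : Module (MvPolynomial (Fin n) R) N₂ := Module.compHom N₂ φ.toRingHom
  haveI : Module.FinitePresentation (MvPolynomial (Fin n) R) N₂ := hN₂
  let i' : N₁ →ₗ[MvPolynomial (Fin n) R] N₂ :=
    { i with map_smul' := fun a x => i.map_smul (φ a) x }
  let p' : N₂ →ₗ[MvPolynomial (Fin n) R] N₁ :=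
    { p with map_smul' := fun a x => p.map_smul (φ a) x }
  have hp' : Function.Surjective p' := fun x => ⟨i x, hpi x⟩
  change Module.FinitePresentation (MvPolynomial (Fin n) R) N₁
  refine Module.finitePresentation_of_surjective p' hp' ?_
  have hker : LinearMap.ker p' = LinearMap.range (LinearMap.id - i' ∘ₗ p') := by
    ext x
    constructor
    · intro hx
      refine ⟨x, ?_⟩
      have hx' : p' x = 0 := hx
      simp [hx']
    · rintro ⟨y, rfl⟩
      change p' (y - i' (p' y)) = 0
      rw [map_sub]
      have : p' (i' (p' y)) = p' y := hpi _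
      rw [this, sub_self]
  rw [hker]
  exact Submodule.fg_range _

end Exact

end Groth.Agent.Helper15.RelFP
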