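import Mathlib
import Groth.Prelude.Def_Flatn
import Groth.Agent.Lib.Helper15.RelFP3
import Groth.Agent.Lib.Helper15.RelFP5
import Groth.Agent.Lib.Helper13.EpiStalk
import Groth.Agent.Lib.Helper13.FinAffine2

set_option autoImplicit false
universe u

open CategoryTheory CategoryTheory.Limits AlgebraicGeometry Opposite TopologicalSpace

namespace Groth.Agent.Helper15.RelFP

open Groth.Agent.Helper13.QCoh

variable {X S : Scheme.{u}}

/-- the map on sections of a morphism of modules, as a linear map -/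
noncomputable def appLin {F G : X.Modules} (φ : F ⟶ G) (U : X.Opens) :
    Γ(F, U) →ₗ[Γ(X, U)] Γ(G, U) where
  toFun := fun m => φ.app U m
  map_add' := fun a b => map_add _ a b
  map_smul' := fun r m => Scheme.Modules.Hom.app_smul φ r m

theorem appLin_apply {F G : X.Modules} (φ : F ⟶ G) (U : X.Opens) (m : Γ(F, U)) :
    appLin φ U m = φ.app U m := rfl

/-- an epimorphism of quasi-coherent modules is surjective on sections over affine opens -/
theorem app_surjective_of_epi {F G : X.Modules} [F.IsQuasicoherent] [G.IsQuasicoherent]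
    (φ : F ⟶ G) [Epi φ] {U : X.Opens} (hU : IsAffineOpen U) :
    Function.Surjective (φ.app U) := by
  intro n
  let I : Ideal Γ(X, U) :=
    { carrier := {a | ∃ m, φ.app U m = a • n}
      add_mem' := by
        rintro a b ⟨m₁, h₁⟩ ⟨m₂, h₂⟩
        exact ⟨m₁ + m₂, by rw [map_add, h₁, h₂, add_smul]⟩
      zero_mem' := ⟨0, by rw [map_zero, zero_smul]⟩
      smul_mem' := by
        rintro c a ⟨m, hm⟩
        refine ⟨c • m, ?_⟩
        rw [Scheme.Modules.Hom.app_smul, hm, smul_smul]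
        rfl }
  suffices h : I = ⊤ by
    have h1 : (1 : Γ(X, U)) ∈ I := by rw [h]; trivial
    obtain ⟨m, hm⟩ := h1
    exact ⟨m, by rw [hm, one_smul]⟩
  by_contra hI
  obtain ⟨𝔪, h𝔪, hI𝔪⟩ := Ideal.exists_le_maximal I hI
  let y : PrimeSpectrum Γ(X, U) := ⟨𝔪, h𝔪.isPrime⟩
  let x : X := hU.fromSpec y
  have hx : x ∈ U := by
    have h1 : x ∈ Set.range hU.fromSpec := ⟨y, rfl⟩
    rw [hU.range_fromSpec] at h1
    exact h1
  have hmem : ∀ a : Γ(X, U), x ∈ X.basicOpen a → a ∉ 𝔪 := by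
    intro a ha
    have h1 : y ∈ hU.fromSpec ⁻¹ᵁ X.basicOpen a := ha
    rw [hU.fromSpec_preimage_basicOpen] at h1
    exact h1
  obtain ⟨mx, hmx⟩ := Groth.Agent.Helper13.FinType.stalkMap_surjective_of_epi φ x (G.presheaf.germ U x hx n)
  obtain ⟨g, hxg, t, ht⟩ := exists_germ_smul_eq F hU x hx mx
  have h2 : G.presheaf.germ U x hx (φ.app U t - g • n) = 0 := by
    rw [map_sub, ← stalkMap_germ, ← ht, stalkMap_smul, hmx, germ_smul, sub_self]
  obtain ⟨g', hxg', hg'⟩ := exists_smul_eq_zero_of_germ_eq_zero G hU x hx _ h2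
  have h3 : g' * g ∈ I := by
    refine ⟨g' • t, ?_⟩
    rw [Scheme.Modules.Hom.app_smul, mul_smul]
    rw [smul_sub, sub_eq_zero] at hg'
    exact hg'
  have h4 : x ∈ X.basicOpen (g' * g) := by
    rw [Scheme.basicOpen_mul]
    exact ⟨hxg', hxg⟩
  exact hmem _ h4 (hI𝔪 h3)

section ShortExact

variable (E : ShortComplex X.Modules) (hE : E.ShortExact)

include hE in
theorem appLin_injective (U : X.Opens) : Function.Injective (appLin E.f U) := by
  haveI := hE.mono_f
  exact (mono_iff_app_injective E.f).mp inferInstance U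

include hE in
theorem appLin_exact (U : X.Opens) : Function.Exact (appLin E.f U) (appLin E.g U) := by
  haveI := hE.mono_f
  intro y
  constructor
  · intro hy
    obtain ⟨m, hm⟩ := app_exact_of_exact_of_mono E hE.exact U y hy
    exact ⟨m, hm⟩
  · rintro ⟨m, rfl⟩
    change E.g.app U (E.f.app U m) = 0
    have h1 : (E.f ≫ E.g).app U m = 0 := by
      rw [E.zero]
      rfl
    exact h1

include hE in
theorem appLin_surjective [E.X₂.IsQuasicoherent] [E.X₃.IsQuasicoherent] {U : X.Opens}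
    (hU : IsAffineOpen U) : Function.Surjective (appLin E.g U) := by
  haveI := hE.epi_g
  exact app_surjective_of_epi E.g hU

include hE in
/-- S9747 -/
theorem isRelFP_of_shortExact_outer (f : X ⟶ S) [LocallyOfFiniteType f]
    [E.X₁.IsQuasicoherent] [E.X₂.IsQuasicoherent] [E.X₃.IsQuasicoherent]
    (h₁ : Flatn.IsRelFP f E.X₁) (h₃ : Flatn.IsRelFP f E.X₃) : Flatn.IsRelFP f E.X₂ := by
  apply isRelFP_of_forall_relFPOn
  intro U V h
  have H₁ := relFPOn_of_isRelFP f E.X₁ h₁ U V h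
  have H₃ := relFPOn_of_isRelFP f E.X₃ h₃ U V h
  rw [relFPOn_iff'] at H₁ H₃ ⊢
  letI := (f.appLE (V : S.Opens) (U : X.Opens) h).hom.toAlgebra
  exact relFP_of_exact_outer (appLin E.f U) (appLin E.g U) (appLin_injective E hE U)
    (appLin_surjective E hE U.2) (appLin_exact E hE U) H₁ H₃

include hE in
/-- S9748 -/
theorem isRelFP_of_shortExact_quot (f : X ⟶ S) [LocallyOfFiniteType f]
    [E.X₁.IsQuasicoherent] [E.X₂.IsQuasicoherent] [E.X₃.IsQuasicoherent]
    (h₁ : SheafOfModules.IsFiniteType (R := X.ringCatSheaf) E.X₁) (h₂ : Flatn.IsRelFP f E.X₂) :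
    Flatn.IsRelFP f E.X₃ := by
  apply isRelFP_of_forall_relFPOn
  intro U V h
  have H₂ := relFPOn_of_isRelFP f E.X₂ h₂ U V h
  rw [relFPOn_iff'] at H₂ ⊢
  letI := (f.appLE (V : S.Opens) (U : X.Opens) h).hom.toAlgebra
  haveI : Module.Finite Γ(X, (U : X.Opens)) Γ(E.X₁, (U : X.Opens)) :=
    Groth.Agent.Helper13.FinType.finite_sections_of_isFiniteType E.X₁ U.2
  exact relFP_of_exact_quot (appLin E.f U) (appLin E.g U)
    (appLin_surjective E hE U.2) (appLin_exact E hE U) H₂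

end ShortExact

/-- S9749 -/
theorem isRelFP_of_biprod (f : X ⟶ S) (F F' : X.Modules) (h : Flatn.IsRelFP f (F ⊞ F')) :
    Flatn.IsRelFP f F ∧ Flatn.IsRelFP f F' := by
  obtain ⟨𝒱, h𝒱, H⟩ := h
  constructor
  · refine ⟨𝒱, h𝒱, fun V hV => ?_⟩
    obtain ⟨𝒰, h𝒰, H𝒰⟩ := H V hV
    refine ⟨𝒰, h𝒰, fun U hU hUV => ?_⟩
    have H' := H𝒰 U hU hUV
    rw [relFPOn_iff'] at H' ⊢
    letI := (f.appLE (V : S.Opens) (U : X.Opens) hUV).hom.toAlgebra
    refine relFP_of_retract (appLin (biprod.inl : F ⟶ F ⊞ F') U) (appLin (biprod.fst : F ⊞ F' ⟶ F) U)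
      (fun x => ?_) H'
    change (biprod.fst : F ⊞ F' ⟶ F).app U ((biprod.inl : F ⟶ F ⊞ F').app U x) = x
    have h1 : ((biprod.inl : F ⟶ F ⊞ F') ≫ (biprod.fst : F ⊞ F' ⟶ F)).app U x = x := by
      rw [biprod.inl_fst]
      rfl
    exact h1
  · refine ⟨𝒱, h𝒱, fun V hV => ?_⟩
    obtain ⟨𝒰, h𝒰, H𝒰⟩ := H V hV
    refine ⟨𝒰, h𝒰, fun U hU hUV => ?_⟩
    have H' := H𝒰 U hU hUV
    rw [relFPOn_iff'] at H' ⊢
    letI := (f.appLE (V : S.Opens) (U : X.Opens) hUV).hom.toAlgebra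
    refine relFP_of_retract (appLin (biprod.inr : F' ⟶ F ⊞ F') U)
      (appLin (biprod.snd : F ⊞ F' ⟶ F') U) (fun x => ?_) H'
    change (biprod.snd : F ⊞ F' ⟶ F').app U ((biprod.inr : F' ⟶ F ⊞ F').app U x) = x
    have h1 : ((biprod.inr : F' ⟶ F ⊞ F') ≫ (biprod.snd : F ⊞ F' ⟶ F')).app U x = x := by
      rw [biprod.inr_snd]
      rfl
    exact h1

end Groth.Agent.Helper15.RelFP
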