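import Mathlib
import Groth.Prelude.Def_FlatCA
import Groth.Agent.Lib.Helper15.RelFP2

set_option autoImplicit false
universe u v w

namespace Groth.Agent.Helper15.RelFP

open TensorProduct

/-- Stacks 0561 (4) for finite extensions: finite presentation ascends along finite ring maps. -/
theorem finitePresentation_of_finite_extension (P A N : Type*) [CommRing P] [CommRing A]
    [Algebra P A] [Module.Finite P A] [AddCommGroup N] [Module P N] [Module A N]
    [IsScalarTower P A N] [Module.FinitePresentation P N] : Module.FinitePresentation A N := by
  haveI : Module.Finite A N := Module.Finite.of_restrictScalars_finite P A N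
  obtain ⟨k, f, hf⟩ := Module.Finite.exists_fin' A N
  haveI : Module.Finite P (Fin k → A) := Module.Finite.pi
  have h1 : (LinearMap.ker (f.restrictScalars P)).FG :=
    Module.FinitePresentation.fg_ker (f.restrictScalars P) hf
  have h2 : (LinearMap.ker f).FG := by
    apply Submodule.FG.of_restrictScalars P
    rwa [← LinearMap.ker_restrictScalars]
  exact Module.finitePresentation_of_surjective f hf h2

/-- relative finite presentation and finite extensions of the algebra -/
theorem relFP_iff_of_finite {R C C' : Type u} [CommRing R] [CommRing C] [CommRing C']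
    [Algebra R C] [Algebra C C'] [Algebra R C'] [IsScalarTower R C C'] [Module.Finite C C']
    [Algebra.FiniteType R C] (N : Type u) [AddCommGroup N] [Module C' N] [Module C N]
    [IsScalarTower C C' N] :
    FlatCA.RelFinitePresentation R C' N ↔ FlatCA.RelFinitePresentation R C N := by
  have key : ∀ (n : ℕ) (φ : MvPolynomial (Fin n) R →ₐ[R] C), Function.Surjective φ →
      (FlatCA.RelFinitePresentation R C' N ↔ FPVia φ.toRingHom N) := by
    intro n φ hφ
    letI algPC : Algebra (MvPolynomial (Fin n) R) C := φ.toRingHom.toAlgebra
    letI algPC' : Algebra (MvPolynomial (Fin n) R) C' :=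
      ((algebraMap C C').comp φ.toRingHom).toAlgebra
    haveI : IsScalarTower (MvPolynomial (Fin n) R) C C' := IsScalarTower.of_algebraMap_eq' rfl
    haveI : IsScalarTower R (MvPolynomial (Fin n) R) C :=
      IsScalarTower.of_algebraMap_eq' (by ext r; exact (φ.commutes r).symm)
    haveI : IsScalarTower R (MvPolynomial (Fin n) R) C' := by
      apply IsScalarTower.of_algebraMap_eq'
      ext r
      change algebraMap R C' r = algebraMap C C' (φ (algebraMap R _ r))
      rw [φ.commutes, ← IsScalarTower.algebraMap_apply]
    haveI : Module.Finite (MvPolynomial (Fin n) R) C :=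
      Module.Finite.of_surjective (Algebra.linearMap (MvPolynomial (Fin n) R) C) hφ
    haveI : Module.Finite (MvPolynomial (Fin n) R) C' := Module.Finite.trans C C'
    obtain ⟨A, _, _, _, _, _, θ, hθ⟩ :=
      Module.Finite.exists_free_surjective (MvPolynomial (Fin n) R) C'
    letI algRA : Algebra R A :=
      ((algebraMap (MvPolynomial (Fin n) R) A).comp (algebraMap R (MvPolynomial (Fin n) R))).toAlgebra
    haveI : IsScalarTower R (MvPolynomial (Fin n) R) A := IsScalarTower.of_algebraMap_eq' rfl
    haveI : Algebra.FinitePresentation R A :=
      Algebra.FinitePresentation.trans R (MvPolynomial (Fin n) R) A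
    rw [relFP_iff_fpVia (θ.restrictScalars R) hθ N]
    letI mAN : Module A N := Module.compHom N θ.toRingHom
    letI mPN : Module (MvPolynomial (Fin n) R) N := Module.compHom N φ.toRingHom
    haveI : IsScalarTower (MvPolynomial (Fin n) R) A N := by
      apply IsScalarTower.of_algebraMap_smul
      intro p x
      change θ (algebraMap _ A p) • x = φ p • x
      rw [θ.commutes]
      change algebraMap C C' (φ p) • x = φ p • x
      rw [algebraMap_smul]
    change Module.FinitePresentation A N ↔ Module.FinitePresentation (MvPolynomial (Fin n) R) N
    constructor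
    · intro h
      haveI : Module.FinitePresentation (MvPolynomial (Fin n) R) A :=
        Module.finitePresentation_of_projective _ _
      exact Module.FinitePresentation.trans (MvPolynomial (Fin n) R) N A
    · intro h
      exact finitePresentation_of_finite_extension (MvPolynomial (Fin n) R) A N
  constructor
  · intro h
    obtain ⟨n, φ, hφ⟩ := Algebra.FiniteType.iff_quotient_mvPolynomial''.mp ‹Algebra.FiniteType R C›
    exact ⟨n, φ, hφ, (key n φ hφ).mp h⟩
  · rintro ⟨n, φ, hφ, hN⟩
    exact (key n φ hφ).mpr hN

end Groth.Agent.Helper15.RelFP
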