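import Mathlib
import Groth.Prelude.Def_Flatn
import Groth.Agent.Lib.Helper15.RelFP3
import Groth.Agent.Lib.Helper15.RelFP7

set_option autoImplicit false
universe u

open CategoryTheory CategoryTheory.Limits AlgebraicGeometry Opposite TopologicalSpace

namespace Groth.Agent.Helper15.RelFP

variable {X Y S : Scheme.{u}}

/-- the key comparison for finite pushforward on one affine open -/
theorem relFPOn_pushforward_iff (π : X ⟶ Y) (g : Y ⟶ S) [IsFinite π] [LocallyOfFiniteType g]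
    (F : X.Modules) (V : Y.affineOpens) (W : S.affineOpens)
    (hVW : (V : Y.Opens) ≤ g ⁻¹ᵁ (W : S.Opens))
    (h : π ⁻¹ᵁ (V : Y.Opens) ≤ (π ≫ g) ⁻¹ᵁ (W : S.Opens)) :
    Flatn.RelFPOn (π ≫ g) F ⟨π ⁻¹ᵁ (V : Y.Opens), V.2.preimage π⟩ W h ↔
      Flatn.RelFPOn g ((Scheme.Modules.pushforward π).obj F) V W hVW := by
  obtain ⟨V, hV⟩ := V
  obtain ⟨W, hW⟩ := W
  dsimp only at hVW h ⊢
  rw [relFPOn_iff', relFPOn_iff']
  dsimp only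
  letI algRC : Algebra Γ(S, W) Γ(Y, V) := (g.appLE W V hVW).hom.toAlgebra
  letI algCC' : Algebra Γ(Y, V) Γ(X, π ⁻¹ᵁ V) := (π.app V).hom.toAlgebra
  letI algRC' : Algebra Γ(S, W) Γ(X, π ⁻¹ᵁ V) := ((π ≫ g).appLE W (π ⁻¹ᵁ V) h).hom.toAlgebra
  haveI : IsScalarTower Γ(S, W) Γ(Y, V) Γ(X, π ⁻¹ᵁ V) := by
    apply IsScalarTower.of_algebraMap_eq'
    change ((π ≫ g).appLE W (π ⁻¹ᵁ V) h).hom = (π.app V).hom.comp (g.appLE W V hVW).hom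
    rw [← CommRingCat.hom_comp, Scheme.Hom.app_eq_appLE, Scheme.Hom.appLE_comp_appLE]
  haveI : Module.Finite Γ(Y, V) Γ(X, π ⁻¹ᵁ V) := IsFinite.finite_app π V hV
  haveI : Algebra.FiniteType Γ(S, W) Γ(Y, V) :=
    HasRingHomProperty.appLE (P := @LocallyOfFiniteType) g inferInstance ⟨W, hW⟩ ⟨V, hV⟩ hVW
  letI mCN : Module Γ(Y, V) Γ(F, π ⁻¹ᵁ V) :=
    (inferInstance : Module Γ(Y, V) Γ((Scheme.Modules.pushforward π).obj F, V))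
  haveI : IsScalarTower Γ(Y, V) Γ(X, π ⁻¹ᵁ V) Γ(F, π ⁻¹ᵁ V) :=
    IsScalarTower.of_algebraMap_smul fun _ _ => rfl
  exact relFP_iff_of_finite (R := Γ(S, W)) (C := Γ(Y, V)) (C' := Γ(X, π ⁻¹ᵁ V)) Γ(F, π ⁻¹ᵁ V)

/-- S9743 -/
theorem isRelFP_pushforward_iff (π : X ⟶ Y) (g : Y ⟶ S) [IsFinite π] [LocallyOfFiniteType g]
    (F : X.Modules) [F.IsQuasicoherent] :
    Flatn.IsRelFP (π ≫ g) F ↔ Flatn.IsRelFP g ((Scheme.Modules.pushforward π).obj F) := by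
  constructor
  · intro H
    have H' := relFPOn_of_isRelFP (π ≫ g) F H
    apply isRelFP_of_forall_relFPOn
    intro V W hVW
    have h : π ⁻¹ᵁ (V : Y.Opens) ≤ (π ≫ g) ⁻¹ᵁ (W : S.Opens) := fun x hx => hVW hx
    exact (relFPOn_pushforward_iff π g F V W hVW h).mp (H' ⟨π ⁻¹ᵁ (V : Y.Opens), V.2.preimage π⟩ W h)
  · rintro ⟨𝒱, h𝒱, H⟩
    refine ⟨𝒱, h𝒱, fun W hW => ?_⟩
    obtain ⟨𝒰, h𝒰, H𝒰⟩ := H W hW
    refine ⟨(fun V : Y.affineOpens => (⟨π ⁻¹ᵁ (V : Y.Opens), V.2.preimage π⟩ : X.affineOpens)) '' 𝒰,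
      ?_, ?_⟩
    · apply le_antisymm
      · refine iSup₂_le ?_
        rintro _ ⟨V, hV, rfl⟩
        intro x hx
        have h1 : (V : Y.Opens) ≤ g ⁻¹ᵁ (W : S.Opens) := by
          rw [← h𝒰]
          exact le_iSup₂ (f := fun (V : Y.affineOpens) (_ : V ∈ 𝒰) => (V : Y.Opens)) V hV
        exact h1 hx
      · intro x hx
        have h1 : π x ∈ (⨆ V ∈ 𝒰, (V : Y.Opens)) := by rw [h𝒰]; exact hx
        obtain ⟨V, hVmem⟩ := Opens.mem_iSup.mp h1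
        obtain ⟨hV, hxV⟩ := Opens.mem_iSup.mp hVmem
        exact Opens.mem_iSup.mpr ⟨⟨π ⁻¹ᵁ (V : Y.Opens), V.2.preimage π⟩,
          Opens.mem_iSup.mpr ⟨⟨V, hV, rfl⟩, hxV⟩⟩
    · rintro _ ⟨V, hV, rfl⟩ h
      have hVW : (V : Y.Opens) ≤ g ⁻¹ᵁ (W : S.Opens) := by
        rw [← h𝒰]
        exact le_iSup₂ (f := fun (V : Y.affineOpens) (_ : V ∈ 𝒰) => (V : Y.Opens)) V hV
      exact (relFPOn_pushforward_iff π g F V W hVW h).mpr (H𝒰 V hV hVW)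

end Groth.Agent.Helper15.RelFP
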