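import Groth.Prelude.Def_AlgSpRep
import Mathlib.CategoryTheory.Filtered.Final
import Mathlib.CategoryTheory.Limits.Types.Filtered
import Mathlib.CategoryTheory.Limits.Types.Pullbacks

set_option autoImplicit false
universe u

open CategoryTheory CategoryTheory.Limits AlgebraicGeometry Opposite

namespace Groth.Agent.Helper15.RelLim

open AlgSp

variable {S : Scheme.{u}}

/-- Element-wise form of "the square `colim F(T_i) → F(T)`, `colim G(T_i) → G(T)` is cartesian". -/
structure Elem {F G : PSp S} (a : F ⟶ G) {I : Type u} [SmallCategory I] (D : I ⥤ Over S)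
    (c : Cone D) : Prop where
  surj : ∀ (i : I) (y : G.obj (op (D.obj i))) (x : F.obj (op c.pt)),
    a.app _ x = G.map (c.π.app i).op y →
    ∃ (j : I) (φ : j ⟶ i) (x' : F.obj (op (D.obj j))),
      F.map (c.π.app j).op x' = x ∧ a.app _ x' = G.map (D.map φ).op y
  inj : ∀ (i : I) (x₁ x₂ : F.obj (op (D.obj i))),
    F.map (c.π.app i).op x₁ = F.map (c.π.app i).op x₂ → a.app _ x₁ = a.app _ x₂ →
    ∃ (j : I) (φ : j ⟶ i), F.map (D.map φ).op x₁ = F.map (D.map φ).op x₂

/-- `Elem` for all cofiltered affine systems with affine limit. -/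
def ElemAll {F G : PSp S} (a : F ⟶ G) : Prop :=
  ∀ ⦃I : Type u⦄ [SmallCategory I] [IsCofiltered I] (D : I ⥤ Over S) (c : Cone D),
    IsLimit ((Over.forget S).mapCone c) → (∀ i, IsAffine (D.obj i).left) → IsAffine c.pt.left →
      Elem a D c

theorem map_map {F : PSp S} {X Y Z : Over S} (f : X ⟶ Y) (g : Y ⟶ Z) (x : F.obj (op Z)) :
    F.map f.op (F.map g.op x) = F.map (f ≫ g).op x := by
  rw [op_comp, Functor.map_comp_apply]

theorem app_map {F G : PSp S} (a : F ⟶ G) {X Y : Over S} (f : X ⟶ Y) (x : F.obj (op Y)) :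
    a.app _ (F.map f.op x) = G.map f.op (a.app _ x) :=
  NatTrans.naturality_apply a f.op x

theorem isRelLimitPreserving_of_elemAll {F G : PSp S} (a : F ⟶ G) (h : ElemAll a) :
    IsRelLimitPreserving a := by
  intro T y I _ _ D c hc hD hT
  let D' : I ⥤ Over S := D ⋙ Over.map T.hom
  let c' : Cone D' := (Over.map T.hom).mapCone c
  have hc' : IsLimit ((Over.forget S).mapCone c') := hc
  have hE := h D' c' hc' (fun i => hD i) hT
  refine ⟨Types.FilteredColimit.isColimitOf _ _ ?_ ?_⟩
  · rintro ⟨x0, hx0⟩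
    obtain ⟨i₀⟩ := IsCofiltered.nonempty (C := I)
    have e1 : c'.π.app i₀ ≫ overHom T (D.obj i₀) = overHom T c.pt := map_comp_overHom T (c.π.app i₀)
    obtain ⟨j, φ, x', hx'1, hx'2⟩ := hE.surj i₀ (G.map (overHom T (D.obj i₀)).op y) x0
      (hx0.trans (by rw [map_map, e1]; rfl))
    have e2 : D'.map φ ≫ overHom T (D.obj i₀) = overHom T (D.obj j) := map_comp_overHom T (D.map φ)
    refine ⟨op j, ⟨x', hx'2.trans (by rw [map_map, e2]; rfl)⟩, ?_⟩
    apply Subtype.ext
    exact hx'1.symm
  · rintro ⟨i⟩ ⟨j⟩ ⟨xi, hxi⟩ ⟨xj, hxj⟩ hij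
    have hij' : F.map (c'.π.app i).op xi = F.map (c'.π.app j).op xj := congrArg Subtype.val hij
    let k₀ := IsCofiltered.min i j
    let f₁ : k₀ ⟶ i := IsCofiltered.minToLeft i j
    let f₂ : k₀ ⟶ j := IsCofiltered.minToRight i j
    have e1 : D'.map f₁ ≫ overHom T (D.obj i) = overHom T (D.obj k₀) := map_comp_overHom T (D.map f₁)
    have e2 : D'.map f₂ ≫ overHom T (D.obj j) = overHom T (D.obj k₀) := map_comp_overHom T (D.map f₂)
    have hxi' : a.app (op (D'.obj i)) xi = G.map (overHom T (D.obj i)).op y := hxi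
    have hxj' : a.app (op (D'.obj j)) xj = G.map (overHom T (D.obj j)).op y := hxj
    obtain ⟨k, φ, hk⟩ := hE.inj k₀ (F.map (D'.map f₁).op xi) (F.map (D'.map f₂).op xj) (by
      rw [map_map, map_map, c'.w, c'.w]; exact hij') (by
      rw [app_map, app_map, hxi', hxj', map_map, map_map, e1, e2])
    refine ⟨op k, (φ ≫ f₁).op, (φ ≫ f₂).op, Subtype.ext ?_⟩
    show F.map (D'.map (φ ≫ f₁)).op xi = F.map (D'.map (φ ≫ f₂)).op xj
    rw [D'.map_comp, D'.map_comp, ← map_map, ← map_map]
    exact hk


section Over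

variable {I : Type u} [SmallCategory I] (D : I ⥤ Over S) (c : Cone D) (i : I)

/-- The system `T_j → T_i` indexed by `j → i`, as schemes over `T_i`. -/
@[simps]
def overDiag : Over i ⥤ Over (D.obj i).left where
  obj φ := Over.mk (D.map φ.hom).left
  map {φ φ'} ψ := Over.homMk (D.map ψ.left).left (by
    dsimp
    rw [← Over.comp_left, ← D.map_comp, Over.w])
  map_id φ := by
    ext
    simp
  map_comp ψ ψ' := by
    ext
    simp

/-- The cone on `overDiag` with vertex the limit `T → T_i`. -/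
@[simps]
def overCone : Cone (overDiag D i) where
  pt := Over.mk (c.π.app i).left
  π :=
    { app := fun φ => Over.homMk (c.π.app φ.left).left (by
        dsimp [overDiag]
        rw [← Over.comp_left, c.w])
      naturality := fun φ φ' ψ => by
        ext
        simp only [Functor.const_obj_obj, Functor.const_obj_map, Category.id_comp, Over.comp_left,
          Over.homMk_left, overDiag_map]
        exact (congrArg (fun f => f.left) (c.w ψ.left)).symm }

/-- The cone `overCone` is a limit cone of schemes. -/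
noncomputable def isLimitOverCone [IsCofiltered I] (hc : IsLimit ((Over.forget S).mapCone c)) :
    IsLimit ((Over.forget (D.obj i).left).mapCone (overCone D c i)) :=
  (Functor.Initial.isLimitWhiskerEquiv (Over.forget i) ((Over.forget S).mapCone c)).symm hc

/-- comparison of `T_j` over `S` via `T_i` with `T_j`. -/
def eObj (φ : Over i) : (Over.map (D.obj i).hom).obj ((overDiag D i).obj φ) ≅ D.obj φ.left :=
  Over.isoMk (Iso.refl (D.obj φ.left).left) (by simp [overDiag])

/-- comparison of `T` over `S` via `T_i` with `T`. -/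
def ePt : (Over.map (D.obj i).hom).obj (overCone D c i).pt ≅ c.pt :=
  Over.isoMk (Iso.refl c.pt.left) (by simp [overCone])

theorem ePt_hom_π : (ePt D c i).hom ≫ c.π.app i = overHom (D.obj i) (overCone D c i).pt := by
  ext
  simp [ePt, overCone]

theorem map_π_eObj (φ : Over i) :
    (Over.map (D.obj i).hom).map ((overCone D c i).π.app φ) ≫ (eObj D i φ).hom =
      (ePt D c i).hom ≫ c.π.app φ.left := by
  ext
  simp [ePt, eObj, overCone]
  exact Category.comp_id _

theorem eObj_inv_overHom (φ : Over i) :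
    (eObj D i φ).inv ≫ overHom (D.obj i) ((overDiag D i).obj φ) = D.map φ.hom := by
  ext
  simp [eObj, overDiag]

theorem map_map_eObj {φ φ' : Over i} (ψ : φ ⟶ φ') :
    (Over.map (D.obj i).hom).map ((overDiag D i).map ψ) ≫ (eObj D i φ').hom =
      (eObj D i φ).hom ≫ D.map ψ.left := by
  ext
  simp [eObj, overDiag]

end Over


theorem elemAll_of_isRelLimitPreserving {F G : PSp S} (a : F ⟶ G) (h : IsRelLimitPreserving a) :
    ElemAll a := by
  intro I _ _ D c hc hD hT
  constructor
  · intro i y x hx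
    obtain ⟨hcol⟩ := h (D.obj i) y (overDiag D i) (overCone D c i) (isLimitOverCone D c i hc)
      (fun φ => hD φ.left) hT
    -- the element of the fibre over the limit
    let xt : (fiberFun a (D.obj i) y).obj (op (overCone D c i).pt) :=
      ⟨F.map (ePt D c i).hom.op x, by
        rw [app_map, hx, map_map, ePt_hom_π]⟩
    obtain ⟨⟨φ⟩, ⟨xφ, hxφ⟩, hφ⟩ := Types.jointly_surjective_of_isColimit hcol xt
    have hφ' : F.map ((Over.map (D.obj i).hom).map ((overCone D c i).π.app φ)).op xφ =
        F.map (ePt D c i).hom.op x := congrArg Subtype.val hφ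
    refine ⟨φ.left, φ.hom, F.map (eObj D i φ).inv.op xφ, ?_, ?_⟩
    · have h1 : c.π.app φ.left ≫ (eObj D i φ).inv =
          (ePt D c i).inv ≫ (Over.map (D.obj i).hom).map ((overCone D c i).π.app φ) := by
        rw [Iso.comp_inv_eq, Category.assoc, map_π_eObj, Iso.inv_hom_id_assoc]
      rw [map_map, h1, ← map_map, hφ', map_map, Iso.inv_hom_id]
      simp
    · have hxφ' : a.app (op ((Over.map (D.obj i).hom).obj ((overDiag D i).obj φ))) xφ =
          G.map (overHom (D.obj i) ((overDiag D i).obj φ)).op y := hxφ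
      rw [app_map, hxφ', map_map, eObj_inv_overHom]
  · intro i x₁ x₂ hx ha
    obtain ⟨hcol⟩ := h (D.obj i) (a.app _ x₁) (overDiag D i) (overCone D c i)
      (isLimitOverCone D c i hc) (fun φ => hD φ.left) hT
    let φ₀ : Over i := Over.mk (𝟙 i)
    have e0 : (eObj D i φ₀).hom = overHom (D.obj i) ((overDiag D i).obj φ₀) := by
      ext
      simp [eObj, overDiag, φ₀]
    let z₁ : (fiberFun a (D.obj i) (a.app _ x₁)).obj (op ((overDiag D i).obj φ₀)) :=
      ⟨F.map (eObj D i φ₀).hom.op x₁, by rw [app_map, e0]; rfl⟩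
    let z₂ : (fiberFun a (D.obj i) (a.app _ x₁)).obj (op ((overDiag D i).obj φ₀)) :=
      ⟨F.map (eObj D i φ₀).hom.op x₂, by rw [app_map, e0, ha]; rfl⟩
    have hz : (Functor.mapCocone (fiberFun a (D.obj i) (a.app _ x₁)) (overCone D c i).op).ι.app (op φ₀) z₁ =
        (Functor.mapCocone (fiberFun a (D.obj i) (a.app _ x₁)) (overCone D c i).op).ι.app (op φ₀) z₂ := by
      apply Subtype.ext
      show F.map ((Over.map (D.obj i).hom).map ((overCone D c i).π.app φ₀)).op
          (F.map (eObj D i φ₀).hom.op x₁) =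
        F.map ((Over.map (D.obj i).hom).map ((overCone D c i).π.app φ₀)).op
          (F.map (eObj D i φ₀).hom.op x₂)
      rw [map_map, map_map, map_π_eObj, ← map_map, ← map_map]
      exact congrArg _ hx
    obtain ⟨⟨k⟩, f, hf⟩ := (Types.FilteredColimit.isColimit_eq_iff' hcol z₁ z₂).1 hz
    obtain ⟨g, rfl⟩ : ∃ g : k ⟶ φ₀, f = g.op := ⟨f.unop, rfl⟩
    have hf' : F.map ((Over.map (D.obj i).hom).map ((overDiag D i).map g)).op
          (F.map (eObj D i φ₀).hom.op x₁) =
        F.map ((Over.map (D.obj i).hom).map ((overDiag D i).map g)).op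
          (F.map (eObj D i φ₀).hom.op x₂) := congrArg Subtype.val hf
    have hk : g.left = k.hom := (Category.comp_id _).symm.trans (Over.w g)
    refine ⟨k.left, k.hom, ?_⟩
    rw [map_map, map_map, map_map_eObj, hk] at hf'
    have := congrArg (F.map (eObj D i k).inv.op) hf'
    rw [map_map, map_map, Iso.inv_hom_id_assoc] at this
    exact this


theorem isRelLimitPreserving_iff_elemAll {F G : PSp S} (a : F ⟶ G) :
    IsRelLimitPreserving a ↔ ElemAll a :=
  ⟨elemAll_of_isRelLimitPreserving a, isRelLimitPreserving_of_elemAll a⟩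

section Formal

variable {I : Type u} [SmallCategory I] {D : I ⥤ Over S} {c : Cone D}

theorem Elem.comp {F G H : PSp S} {a : F ⟶ G} {b : G ⟶ H} (ha : Elem a D c) (hb : Elem b D c) :
    Elem (a ≫ b) D c := by
  constructor
  · intro i z x hx
    obtain ⟨j, φ, y', hy1, hy2⟩ := hb.surj i z (a.app _ x) hx
    obtain ⟨k, ψ, x', hx1, hx2⟩ := ha.surj j y' x hy1.symm
    refine ⟨k, ψ ≫ φ, x', hx1, ?_⟩
    show b.app _ (a.app _ x') = _
    rw [hx2, app_map, hy2, map_map, D.map_comp]
  · intro i x₁ x₂ hx hab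
    obtain ⟨j, φ, hj⟩ := hb.inj i (a.app _ x₁) (a.app _ x₂)
      (by rw [← app_map, ← app_map, hx]) hab
    obtain ⟨k, ψ, hk⟩ := ha.inj j (F.map (D.map φ).op x₁) (F.map (D.map φ).op x₂)
      (by rw [map_map, map_map, c.w]; exact hx) (by rw [app_map, app_map, hj])
    refine ⟨k, ψ ≫ φ, ?_⟩
    rw [D.map_comp, ← map_map, ← map_map]
    exact hk

theorem Elem.of_comp {F G H : PSp S} {a : F ⟶ G} {b : G ⟶ H} (hab : Elem (a ≫ b) D c)
    (hb : Elem b D c) : Elem a D c := by
  constructor
  · intro i y x hx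
    obtain ⟨j, φ, x', hx1, hx2⟩ := hab.surj i (b.app _ y) x (by
      show b.app _ (a.app _ x) = _
      rw [hx, app_map])
    have hx2' : b.app _ (a.app _ x') = H.map (D.map φ).op (b.app _ y) := hx2
    have e1 : G.map (c.π.app j).op (a.app _ x') = a.app (op c.pt) x := by
      rw [← hx1]
      exact (app_map a (c.π.app j) x').symm
    have e2 : G.map (c.π.app j).op (G.map (D.map φ).op y) = G.map (c.π.app i).op y := by
      rw [map_map, c.w]
    obtain ⟨k, ψ, hk⟩ := hb.inj j (a.app _ x') (G.map (D.map φ).op y)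
      (e1.trans (hx.trans e2.symm)) (by rw [hx2', app_map])
    refine ⟨k, ψ ≫ φ, F.map (D.map ψ).op x', ?_, ?_⟩
    · rw [map_map, c.w, hx1]
    · rw [app_map, hk, map_map, D.map_comp]
  · intro i x₁ x₂ hx ha
    exact hab.inj i x₁ x₂ hx (by
      show b.app _ (a.app _ x₁) = b.app _ (a.app _ x₂)
      rw [ha])

theorem Elem.of_isPullback {F G H P : PSp S} {a : F ⟶ G} {b : H ⟶ G} {fst : P ⟶ F} {snd : P ⟶ H}
    (hP : IsPullback fst snd a b) (ha : Elem a D c) : Elem snd D c := by
  have hPev : ∀ T : (Over S)ᵒᵖ, IsPullback (fst.app T) (snd.app T) (a.app T) (b.app T) := fun T =>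
    hP.map ((evaluation _ _).obj T)
  constructor
  · intro i h p hp
    obtain ⟨j, φ, x', hx1, hx2⟩ := ha.surj i (b.app _ h) (fst.app _ p) (by
      rw [← app_map, ← hp]
      exact ConcreteCategory.congr_hom (hPev _).w p)
    obtain ⟨p', hp'1, hp'2⟩ := Types.exists_of_isPullback (hPev (op (D.obj j))) x'
      (H.map (D.map φ).op h) (by rw [hx2, app_map])
    refine ⟨j, φ, p', ?_, hp'2⟩
    apply Types.ext_of_isPullback (hPev (op c.pt))
    · rw [app_map, hp'1, hx1]
    · rw [app_map, hp'2, map_map, c.w, hp]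
  · intro i p₁ p₂ hp hs
    obtain ⟨j, φ, hj⟩ := ha.inj i (fst.app _ p₁) (fst.app _ p₂)
      (by rw [← app_map, ← app_map, hp]) (by
        have h1 := ConcreteCategory.congr_hom (hPev (op (D.obj i))).w p₁
        have h2 := ConcreteCategory.congr_hom (hPev (op (D.obj i))).w p₂
        simp only [types_comp_apply] at h1 h2
        rw [h1, h2, hs])
    refine ⟨j, φ, ?_⟩
    apply Types.ext_of_isPullback (hPev (op (D.obj j)))
    · rw [app_map, app_map, hj]
    · rw [app_map, app_map, hs]

end Formal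

theorem isRelLimitPreserving_comp {F G H : PSp S} (a : F ⟶ G) (b : G ⟶ H)
    (ha : IsRelLimitPreserving a) (hb : IsRelLimitPreserving b) : IsRelLimitPreserving (a ≫ b) := by
  rw [isRelLimitPreserving_iff_elemAll] at ha hb ⊢
  intro I _ _ D c hc hD hT
  exact (ha D c hc hD hT).comp (hb D c hc hD hT)

theorem isRelLimitPreserving_of_comp {F G H : PSp S} (a : F ⟶ G) (b : G ⟶ H)
    (hab : IsRelLimitPreserving (a ≫ b)) (hb : IsRelLimitPreserving b) : IsRelLimitPreserving a := by
  rw [isRelLimitPreserving_iff_elemAll] at hab hb ⊢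
  intro I _ _ D c hc hD hT
  exact (hab D c hc hD hT).of_comp (hb D c hc hD hT)

theorem isRelLimitPreserving_snd {F G H P : PSp S} {a : F ⟶ G} {b : H ⟶ G} {fst : P ⟶ F}
    {snd : P ⟶ H} (hP : IsPullback fst snd a b) (ha : IsRelLimitPreserving a) :
    IsRelLimitPreserving snd := by
  rw [isRelLimitPreserving_iff_elemAll] at ha ⊢
  intro I _ _ D c hc hD hT
  exact (ha D c hc hD hT).of_isPullback hP

end Groth.Agent.Helper15.RelLim
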