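import Groth.Agent.Lib.Helper15.RelLim1

set_option autoImplicit false
universe u

open CategoryTheory CategoryTheory.Limits AlgebraicGeometry Opposite

namespace Groth.Agent.Helper15.RelLim

open AlgSp

variable {S : Scheme.{u}}

section

variable {F G : PSp S} (a : F ⟶ G) {I : Type u} [SmallCategory I]
  (D : I ⥤ Over S) (c : Cone D)

theorem colimMap_ι (i : I) (x : F.obj (op (D.obj i))) :
    colimMap (Functor.whiskerLeft D.op a) (colimit.ι (D.op ⋙ F) (op i) x) =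
      colimit.ι (D.op ⋙ G) (op i) (a.app (op (D.obj i)) x) :=
  ConcreteCategory.congr_hom (ι_colimMap (Functor.whiskerLeft D.op a) (op i)) x

theorem desc_ι (F : PSp S) (i : I) (x : F.obj (op (D.obj i))) :
    colimit.desc (D.op ⋙ F) (F.mapCocone c.op) (colimit.ι (D.op ⋙ F) (op i) x) =
      F.map (c.π.app i).op x :=
  ConcreteCategory.congr_hom (colimit.ι_desc (F.mapCocone c.op) (op i)) x

theorem ι_map (F : PSp S) {i j : I} (φ : j ⟶ i) (x : F.obj (op (D.obj i))) :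
    colimit.ι (D.op ⋙ F) (op j) (F.map (D.map φ).op x) = colimit.ι (D.op ⋙ F) (op i) x :=
  ConcreteCategory.congr_hom (colimit.w (D.op ⋙ F) φ.op) x

variable [IsCofiltered I]

theorem isPullback_of_elem (h : Elem a D c) :
    IsPullback (colimMap (Functor.whiskerLeft D.op a))
      (colimit.desc (D.op ⋙ F) (F.mapCocone c.op))
      (colimit.desc (D.op ⋙ G) (G.mapCocone c.op)) (a.app (op c.pt)) := by
  rw [Types.isPullback_iff]
  refine ⟨?_, ?_, ?_⟩
  · apply colimit.hom_ext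
    intro j
    rw [ι_colimMap_assoc, colimit.ι_desc, colimit.ι_desc_assoc]
    exact (a.naturality (c.π.app j.unop).op).symm
  · rintro ξ₁ ξ₂ ⟨h1, h2⟩
    obtain ⟨⟨i⟩, x₁, x₂, rfl, rfl⟩ :=
      Types.FilteredColimit.jointly_surjective_of_isColimit₂ (colimit.isColimit (D.op ⋙ F)) ξ₁ ξ₂
    have h1' : colimit.ι (D.op ⋙ G) (op i) (a.app (op (D.obj i)) x₁) =
        colimit.ι (D.op ⋙ G) (op i) (a.app (op (D.obj i)) x₂) :=
      (colimMap_ι a D i x₁).symm.trans (h1.trans (colimMap_ι a D i x₂))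
    have h2' : F.map (c.π.app i).op x₁ = F.map (c.π.app i).op x₂ :=
      (desc_ι D c F i x₁).symm.trans (h2.trans (desc_ι D c F i x₂))
    obtain ⟨⟨j⟩, f, hf⟩ := (Types.FilteredColimit.isColimit_eq_iff' (colimit.isColimit (D.op ⋙ G))
      (a.app (op (D.obj i)) x₁) (a.app (op (D.obj i)) x₂)).1 h1'
    obtain ⟨φ, rfl⟩ : ∃ φ : j ⟶ i, f = φ.op := ⟨f.unop, rfl⟩
    have hf' : G.map (D.map φ).op (a.app _ x₁) = G.map (D.map φ).op (a.app _ x₂) := hf
    obtain ⟨k, ψ, hk⟩ := h.inj j (F.map (D.map φ).op x₁) (F.map (D.map φ).op x₂)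
      (by rw [map_map, map_map, c.w]; exact h2') (by rw [app_map, app_map, hf'])
    show colimit.ι (D.op ⋙ F) (op i) x₁ = colimit.ι (D.op ⋙ F) (op i) x₂
    rw [← ι_map D F φ x₁, ← ι_map D F φ x₂, ← ι_map D F ψ, ← ι_map D F ψ (F.map (D.map φ).op x₂), hk]
  · intro η x hx
    obtain ⟨⟨i⟩, y, rfl⟩ := Types.jointly_surjective_of_isColimit (colimit.isColimit (D.op ⋙ G)) η
    have hx' : a.app (op c.pt) x = G.map (c.π.app i).op y :=
      hx.symm.trans (desc_ι D c G i y)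
    obtain ⟨j, φ, x', hx1, hx2⟩ := h.surj i y x hx'
    refine ⟨colimit.ι (D.op ⋙ F) (op j) x', ?_, ?_⟩
    · exact (colimMap_ι a D j x').trans ((congrArg _ hx2).trans (ι_map D G φ y))
    · exact (desc_ι D c F j x').trans hx1

theorem elem_of_isPullback
    (h : IsPullback (colimMap (Functor.whiskerLeft D.op a))
      (colimit.desc (D.op ⋙ F) (F.mapCocone c.op))
      (colimit.desc (D.op ⋙ G) (G.mapCocone c.op)) (a.app (op c.pt))) : Elem a D c := by
  rw [Types.isPullback_iff] at h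
  obtain ⟨-, hinj, hsurj⟩ := h
  constructor
  · intro i y x hx
    obtain ⟨ξ, hξ1, hξ2⟩ := hsurj (colimit.ι (D.op ⋙ G) (op i) y) x
      ((desc_ι D c G i y).trans hx.symm)
    obtain ⟨⟨j₀⟩, x₀, rfl⟩ := Types.jointly_surjective_of_isColimit (colimit.isColimit (D.op ⋙ F)) ξ
    have hξ1' : colimit.ι (D.op ⋙ G) (op j₀) (a.app (op (D.obj j₀)) x₀) =
        colimit.ι (D.op ⋙ G) (op i) y := (colimMap_ι a D j₀ x₀).symm.trans hξ1
    have hξ2' : F.map (c.π.app j₀).op x₀ = x := (desc_ι D c F j₀ x₀).symm.trans hξ2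
    obtain ⟨⟨k⟩, f, g, hfg⟩ := (Types.FilteredColimit.isColimit_eq_iff _
      (colimit.isColimit (D.op ⋙ G))).1 hξ1'
    obtain ⟨φ, rfl⟩ : ∃ φ : k ⟶ j₀, f = φ.op := ⟨f.unop, rfl⟩
    obtain ⟨ψ, rfl⟩ : ∃ ψ : k ⟶ i, g = ψ.op := ⟨g.unop, rfl⟩
    have hfg' : G.map (D.map φ).op (a.app _ x₀) = G.map (D.map ψ).op y := hfg
    refine ⟨k, ψ, F.map (D.map φ).op x₀, ?_, ?_⟩
    · rw [map_map, c.w, hξ2']
    · rw [app_map, hfg']
  · intro i x₁ x₂ hx ha
    have : colimit.ι (D.op ⋙ F) (op i) x₁ = colimit.ι (D.op ⋙ F) (op i) x₂ := by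
      apply hinj
      refine ⟨?_, ?_⟩
      · exact (colimMap_ι a D i x₁).trans ((congrArg _ ha).trans (colimMap_ι a D i x₂).symm)
      · exact (desc_ι D c F i x₁).trans (hx.trans (desc_ι D c F i x₂).symm)
    obtain ⟨⟨j⟩, f, hf⟩ := (Types.FilteredColimit.isColimit_eq_iff' (colimit.isColimit (D.op ⋙ F))
      x₁ x₂).1 this
    exact ⟨j, f.unop, hf⟩

theorem isPullback_iff_elem :
    IsPullback (colimMap (Functor.whiskerLeft D.op a))
      (colimit.desc (D.op ⋙ F) (F.mapCocone c.op))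
      (colimit.desc (D.op ⋙ G) (G.mapCocone c.op)) (a.app (op c.pt)) ↔ Elem a D c :=
  ⟨elem_of_isPullback a D c, isPullback_of_elem a D c⟩

end

end Groth.Agent.Helper15.RelLim
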