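import Mathlib
import Groth.Prelude.Def_AlgSpRep
import Groth.Agent.Lib.Helper19.Bootstrap
import Groth.Agent.Lib.Helper15.CatLemmas

set_option autoImplicit false

universe u

open CategoryTheory CategoryTheory.Limits AlgebraicGeometry MorphismProperty Opposite
open AlgSp

namespace Groth.Agent.Helper15.RepBySp1

open Groth.Agent.Helper19.Bootstrap Groth.Agent.Helper15

variable {S : Scheme.{u}}

instance : (RepBySp (S := S)).IsStableUnderBaseChange where
  of_isPullback sq hg := repBySp_of_isPullback sq.flip hg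

instance : (RepBySp (S := S)).IsStableUnderComposition where
  comp_mem f g hf hg := repBySp_comp f g hf hg

theorem isAlgSpaceP_pyon (U : Over S) : IsAlgSpaceP ((pyon S).obj U) :=
  (isAlgSpaceP_obj_iff ((yon S).obj U)).2 (IsAlgSpace.yon_obj U)

theorem repBySp_of_isIso {F G : PSp S} (a : F ⟶ G) [IsIso a] : RepBySp a := by
  intro U ξ F' fst snd sq
  have : IsIso snd := sq.isIso_snd_of_isIso
  exact (isAlgSpaceP_pyon U).of_iso (asIso snd).symm

instance : (RepBySp (S := S)).ContainsIdentities where
  id_mem F := repBySp_of_isIso (𝟙 F)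

instance : (RepBySp (S := S)).IsMultiplicative where

/-- Cancellation: if the diagonal of `b` and `a ≫ b` are representable by algebraic spaces, so is `a`. -/
theorem repBySp_of_postcomp {F G H : PSp S} (a : F ⟶ G) (b : G ⟶ H)
    (hΔ : RepBySp (pullback.diagonal b)) (hab : RepBySp (a ≫ b)) : RepBySp a := by
  have : (RepBySp (S := S)).HasOfPostcompProperty (RepBySp (S := S)).diagonal :=
    (hasOfPostcompProperty_iff_le_diagonal (P := RepBySp (S := S))
      (Q := (RepBySp (S := S)).diagonal)).2 le_rfl
  exact (RepBySp (S := S)).of_postcomp (W' := (RepBySp (S := S)).diagonal) a b hΔ hab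


set_option backward.isDefEq.respectTransparency false in
theorem isPullback_prod_snd_with_id {C : Type*} [Category C] {A B : C} (f : A ⟶ B) (X : C)
    [HasBinaryProduct X A] [HasBinaryProduct X B] :
    IsPullback prod.snd (prod.map (𝟙 X) f) f prod.snd where
  w := by simp
  isLimit' := ⟨PullbackCone.isLimitAux' _ (fun s ↦ by
    refine ⟨prod.lift (s.snd ≫ prod.fst) s.fst, ?_, ?_, ?_⟩
    · simp
    · ext
      · simp
      · simp [PullbackCone.condition]
    · intro m h₁ h₂
      dsimp at m h₁ h₂ ⊢
      apply Limits.prod.hom_ext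
      · simp [← h₂]
      · simpa using h₁)⟩

theorem repBySp_prod_map {F₁ G₁ F₂ G₂ : PSp S} (a₁ : F₁ ⟶ G₁) (a₂ : F₂ ⟶ G₂)
    (h₁ : RepBySp a₁) (h₂ : RepBySp a₂) : RepBySp (prod.map a₁ a₂) := by
  have e : prod.map a₁ a₂ = prod.map a₁ (𝟙 F₂) ≫ prod.map (𝟙 G₁) a₂ := by simp
  rw [e]
  refine repBySp_comp _ _ ?_ ?_
  · exact repBySp_of_isPullback (IsPullback.of_prod_fst_with_id a₁ F₂).flip h₁
  · exact repBySp_of_isPullback (isPullback_prod_snd_with_id a₂ G₁).flip h₂

theorem repBySp_pyon_map {U V : Over S} (g : U ⟶ V) : RepBySp ((pyon S).map g) := by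
  intro W ξ F' fst snd sq
  obtain ⟨w, rfl⟩ := (pyon S).map_surjective ξ
  have sq' := (IsPullback.of_hasPullback g w).map (pyon S)
  exact (isAlgSpaceP_pyon (pullback g w)).of_iso (sq'.isoIsPullback _ _ sq)

theorem repBySp_diag_pyon (U : Over S) : RepBySp (Limits.diag ((pyon S).obj U)) := by
  have e : Limits.diag ((pyon S).obj U) =
      (pyon S).map (Limits.diag U) ≫ prodComparison (pyon S) U U := by
    apply Limits.prod.hom_ext
    · rw [Category.assoc, prodComparison_fst, ← Functor.map_comp, Limits.diag, Limits.diag,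
        prod.lift_fst, prod.lift_fst, CategoryTheory.Functor.map_id]
    · rw [Category.assoc, prodComparison_snd, ← Functor.map_comp, Limits.diag, Limits.diag,
        prod.lift_snd, prod.lift_snd, CategoryTheory.Functor.map_id]
  rw [e]
  exact repBySp_comp _ _ (repBySp_pyon_map _) (repBySp_of_isIso _)

theorem repBySp_diag_iff (F : PSp S) :
    RepBySp (Limits.diag F) ↔ ∀ (T : Over S) (ξ : (pyon S).obj T ⟶ F), RepBySp ξ := by
  constructor
  · intro hΔ T ξ U η F' fst snd sq
    have sq1 := isPullback_diag_prod_map sq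
    let e : (pyon S).obj (T ⨯ U) ≅ (pyon S).obj T ⨯ (pyon S).obj U :=
      asIso (prodComparison (pyon S) T U)
    have sq2 : IsPullback (fst ≫ ξ) (prod.lift fst snd ≫ e.inv) (Limits.diag F)
        (e.hom ≫ prod.map ξ η) :=
      IsPullback.of_iso sq1 (Iso.refl _) (Iso.refl _) e.symm (Iso.refl _) (by simp) (by simp)
        (by simp) (by simp)
    exact hΔ _ _ _ sq2
  · intro h U ζ F' fst snd sq
    let a : (pyon S).obj U ⟶ F := ζ ≫ prod.fst
    let b : (pyon S).obj U ⟶ F := ζ ≫ prod.snd
    have hP : IsAlgSpaceP (pullback a b) := h U a b _ _ (IsPullback.of_hasPullback a b)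
    have sq1 := isPullback_diag_prod_map (IsPullback.of_hasPullback a b)
    have hζ : ζ = Limits.diag ((pyon S).obj U) ≫ prod.map a b := by
      apply Limits.prod.hom_ext
      · rw [Category.assoc, prod.map_fst, Limits.diag, prod.lift_fst_assoc, Category.id_comp]
      · rw [Category.assoc, prod.map_snd, Limits.diag, prod.lift_snd_assoc, Category.id_comp]
    rw [hζ] at sq
    let l : F' ⟶ pullback a b := sq1.lift fst (snd ≫ Limits.diag _) (by rw [sq.w, Category.assoc])
    have hl1 : l ≫ (pullback.fst a b ≫ a) = fst := sq1.lift_fst _ _ _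
    have hl2 : l ≫ prod.lift (pullback.fst a b) (pullback.snd a b) = snd ≫ Limits.diag _ :=
      sq1.lift_snd _ _ _
    have sq3 : IsPullback l snd (prod.lift (pullback.fst a b) (pullback.snd a b))
        (Limits.diag ((pyon S).obj U)) := by
      refine IsPullback.of_right ?_ hl2 sq1
      rw [hl1]; exact sq
    exact isAlgSpaceP_of_isPullback _ (repBySp_diag_pyon U) hP _ l snd sq3

end Groth.Agent.Helper15.RepBySp1
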