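import Groth.Agent.Lib.Helper15.LqfSepSch7
import Groth.Agent.Lib.Helper15.AlgSpRepSrc

set_option autoImplicit false
set_option linter.style.haveILetI false
universe u
open CategoryTheory CategoryTheory.Limits AlgebraicGeometry MorphismProperty Opposite
open AlgSp

namespace Groth.Agent.Helper15.RepBySpEt

variable {S : Scheme.{u}}

/-- To check `RepBySpWith Q` for a morphism of sheaves it suffices to look at the chosen pullbacks
in the category of sheaves (for `Q` stable under precomposition with isomorphisms). -/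
theorem repBySpWith_of_forall_pullback {F G : Sp S} (a : F ⟶ G) (Q : MorphismProperty (Sp S))
    (hQ : ∀ {A B C : Sp S} (e : A ≅ B) (f : B ⟶ C), Q f → Q (e.hom ≫ f))
    (h : ∀ (T : Over S) (ξ : (yon S).obj T ⟶ G),
      IsAlgSpace (pullback a ξ) ∧ Q (pullback.snd a ξ)) : RepBySpWith Q a.hom := by
  intro U ξ F' fst snd sq
  let ξ' : (yon S).obj U ⟶ G := ⟨ξ⟩
  have pb : IsPullback (pullback.fst a ξ') (pullback.snd a ξ') a ξ' := IsPullback.of_hasPullback _ _
  have pbp := pb.map (sheafToPresheaf (J S) (Type (u + 1)))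
  let e' : F' ≅ (pullback a ξ').obj := sq.isoIsPullback _ _ pbp
  have hsh : Presheaf.IsSheaf (J S) F' :=
    (Presheaf.isSheaf_of_iso_iff e'.symm).1 (pullback a ξ').property
  refine ⟨hsh, ?_⟩
  let E' : Sp S := ⟨F', hsh⟩
  let e : E' ≅ pullback a ξ' := (fullyFaithfulSheafToPresheaf (J S) _).preimageIso e'
  obtain ⟨h1, h2⟩ := h U ξ'
  refine ⟨h1.of_iso e.symm, ?_⟩
  have : (ObjectProperty.homMk snd : E' ⟶ (yon S).obj U) = e.hom ≫ pullback.snd a ξ' := by
    apply Sheaf.hom_ext
    exact (sq.isoIsPullback_hom_snd _ _ pbp).symm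
  rw [this]
  exact hQ e _ h2

/-- A representable étale morphism followed by an étale morphism (in the sense of the reference)
to a scheme is locally quasi-finite. -/
theorem locP_lqf_of_isEtaleMor {E' E : Sp S} {T : Over S} (k : E' ⟶ E) (hk : RepWith @Etale k)
    (f : E ⟶ (yon S).obj T) (hf : IsEtaleMor f) :
    LocP (@LocallyQuasiFinite ⊓ @LocallyOfFiniteType) (k ≫ f) := by
  intro W V a b h hae hbe hcomm
  have h1 : RepWith @Etale ((a ≫ k) ≫ f) := hf (a ≫ k) ((RepWith @Etale).comp_mem _ _ hae hk)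
  obtain ⟨b', rfl⟩ := (yon S).map_surjective b
  rw [Category.assoc, hcomm, ← Functor.map_comp] at h1
  have h2 : Etale (h ≫ b').left := (repWith_yon_map_iff _ _).1 h1
  have h3 : Etale b'.left := (repWith_yon_map_iff _ _).1 hbe
  rw [Over.comp_left] at h2
  haveI := h2
  haveI := h3
  haveI : Etale h.left := Etale.of_comp h.left b'.left
  exact ⟨locallyQuasiFinite_of_etale _, inferInstance⟩

end Groth.Agent.Helper15.RepBySpEt

namespace Groth.Agent.Helper15.RepBySpEt

variable {S : Scheme.{u}}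

/-- A sheaf receiving a map from a scheme which is representable by algebraic spaces, étale and
surjective receives a map from a scheme which is representable (by schemes), étale and
surjective. -/
theorem exists_etale_surjective_chart {F X : Sp S} (hX : IsAlgSpace X) (p : X ⟶ F)
    (hp : RepBySpWith (IsSurjectiveMor ⊓ IsEtaleMor) p.hom) :
    ∃ (U : Over S) (p' : (yon S).obj U ⟶ F), RepWith @Etale p' ∧ RepWith @Surjective p' := by
  obtain ⟨U, q, hqe, hqs⟩ := hX.atlas
  have key : ∀ (T : Over S) (ξ : (yon S).obj T ⟶ F), IsAlgSpace (pullback p ξ) ∧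
      IsSurjectiveMor (pullback.snd p ξ) ∧ IsEtaleMor (pullback.snd p ξ) := by
    intro T ξ
    have pb : IsPullback (pullback.fst p ξ) (pullback.snd p ξ) p ξ := IsPullback.of_hasPullback _ _
    have pbp := pb.map (sheafToPresheaf (J S) (Type (u + 1)))
    obtain ⟨hsh, halg, hQ1, hQ2⟩ := hp ξ.hom _ _ pbp
    exact ⟨halg, hQ1, hQ2⟩
  have hk : ∀ (T : Over S) (ξ : (yon S).obj T ⟶ F),
      ∃ k : pullback (q ≫ p) ξ ⟶ pullback p ξ, RepWith @Etale k ∧ RepWith @Surjective k ∧
        k ≫ pullback.snd p ξ = pullback.snd (q ≫ p) ξ := by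
    intro T ξ
    let k : pullback (q ≫ p) ξ ⟶ pullback p ξ :=
      pullback.lift (pullback.fst (q ≫ p) ξ ≫ q) (pullback.snd (q ≫ p) ξ) (by
        rw [Category.assoc]; exact pullback.condition)
    have hk1 : k ≫ pullback.fst p ξ = pullback.fst (q ≫ p) ξ ≫ q := pullback.lift_fst _ _ _
    have hk2 : k ≫ pullback.snd p ξ = pullback.snd (q ≫ p) ξ := pullback.lift_snd _ _ _
    have pb : IsPullback (pullback.fst p ξ) (pullback.snd p ξ) p ξ := IsPullback.of_hasPullback _ _
    have pb' : IsPullback (pullback.fst (q ≫ p) ξ) (pullback.snd (q ≫ p) ξ) (q ≫ p) ξ :=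
      IsPullback.of_hasPullback _ _
    have sqk : IsPullback k (pullback.fst (q ≫ p) ξ) (pullback.fst p ξ) q :=
      IsPullback.of_right (by rw [hk2]; exact pb'.flip) hk1 pb.flip
    exact ⟨k, (RepWith @Etale).of_isPullback sqk.flip hqe,
      (RepWith @Surjective).of_isPullback sqk.flip hqs, hk2⟩
  have hrep : RepBySpWith (LocP (@LocallyQuasiFinite ⊓ @LocallyOfFiniteType)) (q ≫ p).hom := by
    refine repBySpWith_of_forall_pullback (q ≫ p) _
      (fun e f hf => Zmt.locP_etale_comp e.hom (repWith_of_isIso _ _) f hf) (fun T ξ => ?_)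
    obtain ⟨k, hke, hks, hk2⟩ := hk T ξ
    refine ⟨isAlgSpace_of_representable k hke.rep (key T ξ).1, ?_⟩
    rw [← hk2]
    exact locP_lqf_of_isEtaleMor k hke _ (key T ξ).2.2
  have hrr := LqfSep.relativelyRepresentable_of_lqf F.obj U (q ≫ p).hom hrep
  have hrepp : Representable (q ≫ p) := by
    intro T g
    obtain ⟨b, snd, fst, sq⟩ := hrr g.hom
    let fst' : (yon S).obj b ⟶ (yon S).obj U := ⟨fst⟩
    refine ⟨b, snd, fst', ?_⟩
    have hw : fst' ≫ (q ≫ p) = (yon S).map snd ≫ g := by
      apply Sheaf.hom_ext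
      exact sq.w
    exact IsPullback.of_map (sheafToPresheaf (J S) (Type (u + 1))) hw sq
  refine ⟨U, q ≫ p, ⟨hrepp, fun T V ξ fst snd sq => ?_⟩, ⟨hrepp, fun T V ξ fst snd sq => ?_⟩⟩
  · obtain ⟨k, hke, hks, hk2⟩ := hk T ξ
    have h1 : sq.isoPullback.hom ≫ pullback.snd (q ≫ p) ξ = (yon S).map snd :=
      sq.isoPullback_hom_snd
    have h2 : RepWith @Etale (sq.isoPullback.hom ≫ k) :=
      (RepWith @Etale).comp_mem _ _ (repWith_of_isIso _ _) hke
    have h3 := (key T ξ).2.2 _ h2
    rw [Category.assoc, hk2, h1] at h3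
    exact (repWith_yon_map_iff _ snd).1 h3
  · obtain ⟨k, hke, hks, hk2⟩ := hk T ξ
    have h1 : sq.isoPullback.hom ≫ pullback.snd (q ≫ p) ξ = (yon S).map snd :=
      sq.isoPullback_hom_snd
    have h2 : IsSurjectiveMor ((yon S).map snd) := by
      rw [← h1, ← hk2]
      intro y
      obtain ⟨y1, rfl⟩ := (key T ξ).2.1 y
      obtain ⟨y2, rfl⟩ := isSurjectiveMor_of_repWith_surjective k hks y1
      refine ⟨Points.map sq.isoPullback.inv y2, ?_⟩
      rw [← Points.map_comp, Iso.inv_hom_id_assoc, Points.map_comp]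
    exact (repWith_yon_map_iff _ snd).1
      (repWith_surjective_of_isSurjectiveMor _ (representable_of_yon _) h2)

end Groth.Agent.Helper15.RepBySpEt
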