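import Groth.Agent.Lib.Helper15.RepBySpEt1
import Groth.Agent.Lib.Helper15.FppfBridge4

set_option autoImplicit false
set_option linter.style.haveILetI false
universe u
open CategoryTheory CategoryTheory.Limits AlgebraicGeometry MorphismProperty Opposite
open AlgSp

namespace Groth.Agent.Helper15.RepBySpEt

variable {S : Scheme.{u}}

/-- **Stacks 04S5-type statement**: a sheaf with an fppf chart from an algebraic space which is
representable by algebraic spaces has representable diagonal. -/
theorem representable_diag_of_fppf_chart {F X : Sp S} (hX : IsAlgSpace X) (p : X ⟶ F)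
    (hp : RepBySpWith
      (IsSurjectiveMor ⊓ LocP @Flat ⊓ LocP @LocallyOfFinitePresentation) p.hom) :
    Representable (Limits.diag F) := by
  obtain ⟨U, q, hqe, hqs⟩ := hX.atlas
  haveI : Epi p := epi_of_repBySpWith_fppf p hp
  haveI : Sheaf.IsLocallySurjective q := isLocallySurjective_of_etale_surjective q hqe hqs
  haveI : Epi q := Sheaf.epi_of_isLocallySurjective q
  haveI : Epi (q ≫ p) := epi_comp _ _
  set p' := q ≫ p with hp'
  have pbE : IsPullback (pullback.fst p p') (pullback.snd p p') p p' := .of_hasPullback _ _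
  obtain ⟨hsh, hE, ⟨hQ1, hQ2⟩, hQ3⟩ := hp p'.hom _ _
    (pbE.map (sheafToPresheaf (J S) (Type (u + 1))))
  have hE' : IsAlgSpace (pullback p p') := hE
  have hlfpE : LocP @LocallyOfFinitePresentation (pullback.snd p p') := hQ3
  have pb' : IsPullback (pullback.fst p' p') (pullback.snd p' p') p' p' := .of_hasPullback _ _
  let k : pullback p' p' ⟶ pullback p p' :=
    pullback.lift (pullback.fst p' p' ≫ q) (pullback.snd p' p') (by
      rw [Category.assoc]; exact pullback.condition)
  have hk1 : k ≫ pullback.fst p p' = pullback.fst p' p' ≫ q := pullback.lift_fst _ _ _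
  have hk2 : k ≫ pullback.snd p p' = pullback.snd p' p' := pullback.lift_snd _ _ _
  have sqk : IsPullback k (pullback.fst p' p') (pullback.fst p p') q :=
    IsPullback.of_right (by rw [hk2]; exact pb'.flip) hk1 pbE.flip
  have hke : RepWith @Etale k := (RepWith @Etale).of_isPullback sqk.flip hqe
  have hR₀ : IsAlgSpace (pullback p' p') := isAlgSpace_of_representable k hke.rep hE'
  have hlfpR : LocP @LocallyOfFinitePresentation (pullback.snd p' p') := by
    rw [← hk2]; exact Zmt.locP_etale_comp k hke _ hlfpE
  let m : pullback p' p' ⟶ (yon S).obj (U ⨯ U) :=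
    prod.lift (pullback.fst p' p') (pullback.snd p' p') ≫ inv (prodComparison (yon S) U U)
  have hm1 : m ≫ (yon S).map (prod.fst : U ⨯ U ⟶ U) = pullback.fst p' p' := by
    simp only [m, Category.assoc]
    rw [← prodComparison_fst, IsIso.inv_hom_id_assoc, prod.lift_fst]
  have hm2 : m ≫ (yon S).map (prod.snd : U ⨯ U ⟶ U) = pullback.snd p' p' := by
    simp only [m, Category.assoc]
    rw [← prodComparison_snd, IsIso.inv_hom_id_assoc, prod.lift_snd]
  haveI : Mono m := ⟨fun {Z} x y hxy => by
    have h1 := congr($hxy ≫ (yon S).map (prod.fst : U ⨯ U ⟶ U))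
    have h2 := congr($hxy ≫ (yon S).map (prod.snd : U ⨯ U ⟶ U))
    simp only [Category.assoc, hm1, hm2] at h1 h2
    exact pullback.hom_ext h1 h2⟩
  have hlft : LocP @LocallyOfFiniteType m := by
    intro W V a b h hae hbe hcomm
    obtain ⟨l, hl⟩ := (yon S).map_surjective (b ≫ (yon S).map (prod.snd : U ⨯ U ⟶ U))
    have h1 : LocallyOfFinitePresentation (h ≫ l).left :=
      hlfpR a (𝟙 _) (h ≫ l) hae (repWith_id _ U) (by
        rw [Category.comp_id, Functor.map_comp, hl, ← Category.assoc, ← hcomm, Category.assoc, hm2])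
    rw [Over.comp_left] at h1
    haveI := h1
    haveI : LocallyOfFiniteType (h.left ≫ l.left) := inferInstance
    exact locallyOfFiniteType_of_comp h.left l.left
  have hunr := locP_unramified_of_diagonal hR₀ m hlft (repWith_of_isIso _ _)
  have hlqf : LocP (@LocallyQuasiFinite ⊓ @LocallyOfFiniteType) m := by
    intro W V a b h hae hbe hcomm
    obtain ⟨h1, h2⟩ := hunr a b h hae hbe hcomm
    haveI : LocallyOfFiniteType h.left := h1
    haveI : FormallyUnramified h.left := h2
    exact ⟨locallyQuasiFinite_of_formallyUnramified _, h1⟩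
  obtain ⟨R, ⟨e⟩⟩ := LqfSep.exists_rep_of_lqf_separated hR₀ m hlqf (isSeparatedMor_of_mono m)
  obtain ⟨s, hs⟩ := (yon S).map_surjective (e.hom ≫ pullback.fst p' p')
  obtain ⟨t, ht⟩ := (yon S).map_surjective (e.hom ≫ pullback.snd p' p')
  have sqR : IsPullback ((yon S).map s) ((yon S).map t) p' p' := by
    rw [hs, ht]
    exact IsPullback.of_iso pb' e.symm (Iso.refl _) (Iso.refl _) (Iso.refl _) (by simp) (by simp)
      (by simp) (by simp)
  refine Bridge.representable_diag_of_chart p' s t sqR ?_
  have hst : (yon S).map (prod.lift s t) = e.hom ≫ m := by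
    rw [← cancel_mono (prodComparison (yon S) U U)]
    simp only [m, Category.assoc, IsIso.inv_hom_id, Category.comp_id]
    apply Limits.prod.hom_ext
    · rw [Category.assoc, prodComparison_fst, ← Functor.map_comp, prod.lift_fst, hs,
        Category.assoc, prod.lift_fst]
    · rw [Category.assoc, prodComparison_snd, ← Functor.map_comp, prod.lift_snd, ht,
        Category.assoc, prod.lift_snd]
  exact locP_yon_map (P := @LocallyOfFiniteType) (g := prod.lift s t) (by
    rw [hst]; exact Zmt.locP_etale_comp e.hom (repWith_of_isIso _ _) m hlft)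

end Groth.Agent.Helper15.RepBySpEt
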