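import Mathlib.CategoryTheory.MorphismProperty.Representable
import Mathlib.CategoryTheory.Limits.Shapes.Diagonal

/-!
# The diagonal of a relatively representable morphism is relatively representable
-/

set_option autoImplicit false
universe v₁ v₂ u₁ u₂

open CategoryTheory CategoryTheory.Limits

namespace Groth.Agent.Helper15

variable {C : Type u₁} [Category.{v₁} C] {D : Type u₂} [Category.{v₂} D] (F : C ⥤ D)

/-- For a fully faithful functor `F : C ⥤ D` preserving pullbacks, with `C` and `D` having pullbacks,
the diagonal of an `F`-relatively representable morphism is `F`-relatively representable. -/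
theorem relativelyRepresentable_diagonal [F.Full] [F.Faithful] [HasPullbacks C] [HasPullbacks D]
    [PreservesLimitsOfShape WalkingCospan F] {X Y : D} (a : X ⟶ Y)
    (ha : F.relativelyRepresentable a) : F.relativelyRepresentable (pullback.diagonal a) := by
  intro T g
  let a1 : F.obj T ⟶ X := g ≫ pullback.fst a a
  let a2 : F.obj T ⟶ X := g ≫ pullback.snd a a
  have h12 : a1 ≫ a = a2 ≫ a := by
    simp only [a1, a2, Category.assoc, pullback.condition]
  let c : F.obj T ⟶ Y := a1 ≫ a
  have hpb := ha.isPullback c
  have w1 : a1 ≫ a = F.map (𝟙 T) ≫ c := by rw [F.map_id, Category.id_comp]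
  have w2 : a2 ≫ a = F.map (𝟙 T) ≫ c := by rw [F.map_id, Category.id_comp, ← h12]
  let σ1 : T ⟶ ha.pullback c := ha.lift a1 (𝟙 T) w1
  let σ2 : T ⟶ ha.pullback c := ha.lift a2 (𝟙 T) w2
  have hσ1 : F.map σ1 ≫ ha.fst c = a1 := ha.lift_fst _ _ _
  have hσ2 : F.map σ2 ≫ ha.fst c = a2 := ha.lift_fst _ _ _
  have hσ1' : σ1 ≫ ha.snd c = 𝟙 T := ha.lift_snd _ _ _
  have hσ2' : σ2 ≫ ha.snd c = 𝟙 T := ha.lift_snd _ _ _
  let e1 : pullback σ1 σ2 ⟶ T := pullback.fst σ1 σ2
  let e2 : pullback σ1 σ2 ⟶ T := pullback.snd σ1 σ2
  have he : e1 = e2 := by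
    have h := pullback.condition (f := σ1) (g := σ2)
    have := congrArg (fun t => t ≫ ha.snd c) h
    simpa only [Category.assoc, hσ1', hσ2', Category.comp_id] using this
  have hE : IsPullback (F.map e1) (F.map e2) (F.map σ1) (F.map σ2) :=
    (IsPullback.of_hasPullback σ1 σ2).map F
  refine ⟨pullback σ1 σ2, e1, F.map e1 ≫ a1, ?_⟩
  have hcomm : (F.map e1 ≫ a1) ≫ pullback.diagonal a = F.map e1 ≫ g := by
    apply pullback.hom_ext
    · simp only [Category.assoc, pullback.diagonal_fst, Category.comp_id, a1]
    · simp only [Category.assoc, pullback.diagonal_snd, Category.comp_id]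
      rw [← hσ1, ← Category.assoc, ← F.map_comp, pullback.condition, F.map_comp, Category.assoc,
        hσ2]
      change F.map e2 ≫ a2 = _
      rw [← he]
  refine ⟨⟨hcomm⟩, ⟨PullbackCone.IsLimit.mk hcomm ?_ ?_ ?_ ?_⟩⟩
  · intro s
    have hs := s.condition
    have hu1 : s.fst = s.snd ≫ a1 := by
      have := congrArg (fun t => t ≫ pullback.fst a a) hs
      simpa only [Category.assoc, pullback.diagonal_fst, Category.comp_id] using this
    have hu2 : s.fst = s.snd ≫ a2 := by
      have := congrArg (fun t => t ≫ pullback.snd a a) hs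
      simpa only [Category.assoc, pullback.diagonal_snd, Category.comp_id] using this
    refine hE.lift s.snd s.snd ?_
    apply hpb.hom_ext
    · rw [Category.assoc, Category.assoc, hσ1, hσ2, ← hu1, ← hu2]
    · rw [Category.assoc, Category.assoc, ← F.map_comp, ← F.map_comp, hσ1', hσ2']
  · intro s
    have hs := s.condition
    have hu1 : s.fst = s.snd ≫ a1 := by
      have := congrArg (fun t => t ≫ pullback.fst a a) hs
      simpa only [Category.assoc, pullback.diagonal_fst, Category.comp_id] using this
    rw [← Category.assoc, hE.lift_fst, ← hu1]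
  · intro s
    exact hE.lift_fst _ _ _
  · intro s m _ h2
    apply hE.hom_ext
    · rw [hE.lift_fst]; exact h2
    · rw [hE.lift_snd, ← he]; exact h2

end Groth.Agent.Helper15
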