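import Mathlib

/-!
# Ring maps all of whose contracted primes coincide factor through a field, locally
-/

set_option autoImplicit false
universe u

namespace Groth.Agent.Helper15.ResidFac

open PrimeSpectrum

/-- A ring map from `A` to a reduced ring all of whose primes contract to `p` factors through the
fraction field of `A ⧸ p`. -/
theorem exists_factor_field_of_forall_comap_eq {A B : Type u} [CommRing A] [CommRing B]
    [IsReduced B] (ψ : A →+* B) (p : Ideal A) [p.IsPrime]
    (h : ∀ q : PrimeSpectrum B, q.asIdeal.comap ψ = p) :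
    ∃ β : FractionRing (A ⧸ p) →+* B,
      β.comp ((algebraMap (A ⧸ p) (FractionRing (A ⧸ p))).comp (Ideal.Quotient.mk p)) = ψ := by
  have h0 : ∀ a ∈ p, ψ a = 0 := by
    intro a ha
    have hnil : IsNilpotent (ψ a) := by
      rw [nilpotent_iff_mem_prime]
      intro J hJ
      have := h ⟨J, hJ⟩
      have ha' : a ∈ Ideal.comap ψ J := by rw [this]; exact ha
      exact ha'
    exact hnil.eq_zero
  have hu : ∀ a : A, a ∉ p → IsUnit (ψ a) := by
    intro a ha
    by_contra hnu
    obtain ⟨M, hM, haM⟩ := exists_max_ideal_of_mem_nonunits hnu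
    have := h ⟨M, hM.isPrime⟩
    apply ha
    rw [← this]
    exact haM
  let β₀ : A ⧸ p →+* B := Ideal.Quotient.lift p ψ h0
  have hβ₀ : ∀ y : nonZeroDivisors (A ⧸ p), IsUnit (β₀ y) := by
    rintro ⟨y, hy⟩
    obtain ⟨a, rfl⟩ := Ideal.Quotient.mk_surjective y
    have hne : (Ideal.Quotient.mk p a) ≠ 0 := nonZeroDivisors.ne_zero hy
    have ha : a ∉ p := fun ha => hne (Ideal.Quotient.eq_zero_iff_mem.2 ha)
    change IsUnit (β₀ (Ideal.Quotient.mk p a))
    rw [Ideal.Quotient.lift_mk]
    exact hu a ha
  refine ⟨IsLocalization.lift (M := nonZeroDivisors (A ⧸ p)) hβ₀, ?_⟩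
  ext a
  simp only [RingHom.comp_apply, IsLocalization.lift_eq]
  exact Ideal.Quotient.lift_mk p ψ h0

/-- For a ring map from a Noetherian ring whose contracted primes admit no strict inclusions, the
set of primes contracting to a given contracted prime is open. -/
theorem isOpen_comap_eq {A B : Type u} [CommRing A] [CommRing B] [IsNoetherianRing A]
    (φ : A →+* B)
    (hE : ∀ q q' : PrimeSpectrum B, q.asIdeal.comap φ ≤ q'.asIdeal.comap φ →
      q.asIdeal.comap φ = q'.asIdeal.comap φ) (q₀ : PrimeSpectrum B) :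
    IsOpen {q : PrimeSpectrum B | q.asIdeal.comap φ = q₀.asIdeal.comap φ} := by
  set p := q₀.asIdeal.comap φ with hp
  have hfg : (p.map φ).FG := Ideal.FG.map (IsNoetherian.noetherian p) φ
  have hset : {q : PrimeSpectrum B | q.asIdeal.comap φ = p} = zeroLocus ((p.map φ : Ideal B) : Set B) := by
    ext q
    simp only [Set.mem_setOf_eq, mem_zeroLocus, SetLike.coe_subset_coe]
    rw [Ideal.map_le_iff_le_comap]
    constructor
    · intro h; rw [h]
    · intro h; exact (hE q₀ q h).symm
  rw [hset]
  apply isOpen_of_stableUnderGeneralization_of_isConstructible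
  · intro q q' hq'q hq
    rw [← hset] at hq ⊢
    have hle : q'.asIdeal ≤ q.asIdeal := (PrimeSpectrum.le_iff_specializes q' q).2 hq'q
    have h1 : q'.asIdeal.comap φ ≤ q.asIdeal.comap φ := Ideal.comap_mono hle
    rw [Set.mem_setOf_eq] at hq ⊢
    rw [hE q' q h1, hq]
  · have h1 := isRetrocompact_zeroLocus_compl_of_fg hfg
    have h2 : IsOpen (zeroLocus ((p.map φ : Ideal B) : Set B))ᶜ :=
      (isClosed_zeroLocus _).isOpen_compl
    have h3 := (h1.isConstructible h2).compl
    rwa [compl_compl] at h3

end Groth.Agent.Helper15.ResidFac
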