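import Mathlib
import Groth.Agent.Lib.Helper15.ResidFac1

/-!
# Morphisms from reduced schemes to locally Noetherian schemes with image without specialisations
factor locally through spectra of fields
-/

set_option autoImplicit false
universe u
open CategoryTheory CategoryTheory.Limits AlgebraicGeometry

namespace Groth.Agent.Helper15.ResidFac

theorem exists_open_factor_field {V U : Scheme.{u}} (c : V ⟶ U) [IsReduced V]
    [IsLocallyNoetherian U] (hE : ∀ v v' : V, c v' ⤳ c v → c v' = c v) (v : V) :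
    ∃ (N : Scheme.{u}) (j : N ⟶ V) (_ : IsOpenImmersion j) (K : Type u) (_ : Field K)
      (β : N ⟶ Spec (CommRingCat.of K)) (α : Spec (CommRingCat.of K) ⟶ U),
      v ∈ Set.range j ∧ β ≫ α = j ≫ c := by
  obtain ⟨U₀, hU₀, hu, -⟩ := exists_isAffineOpen_mem_and_subset
    (x := c v) (U := (⊤ : U.Opens)) trivial
  obtain ⟨V₀, hV₀, hv, hle⟩ := exists_isAffineOpen_mem_and_subset
    (x := v) (U := c ⁻¹ᵁ U₀) hu
  have hle' : V₀ ≤ c ⁻¹ᵁ U₀ := hle
  haveI : IsNoetherianRing Γ(U, U₀) := IsLocallyNoetherian.component_noetherian ⟨U₀, hU₀⟩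
  haveI : IsReduced Γ(V, V₀) := inferInstance
  let φ : Γ(U, U₀) →+* Γ(V, V₀) := (c.appLE U₀ V₀ hle').hom
  have hkey : Spec.map (c.appLE U₀ V₀ hle') ≫ hU₀.fromSpec = hV₀.fromSpec ≫ c :=
    IsAffineOpen.SpecMap_appLE_fromSpec c hU₀ hV₀ hle'
  have hpt : ∀ q : PrimeSpectrum Γ(V, V₀),
      hU₀.fromSpec (PrimeSpectrum.comap φ q) = c (hV₀.fromSpec q) := by
    intro q
    have := congrArg (fun g => g q) hkey
    simp only [Scheme.Hom.comp_apply] at this
    exact this
  have hEring : ∀ q q' : PrimeSpectrum Γ(V, V₀), q.asIdeal.comap φ ≤ q'.asIdeal.comap φ →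
      q.asIdeal.comap φ = q'.asIdeal.comap φ := by
    intro q q' hqq'
    have h1 : PrimeSpectrum.comap φ q ⤳ PrimeSpectrum.comap φ q' :=
      (PrimeSpectrum.le_iff_specializes _ _).1 hqq'
    have h2 : hU₀.fromSpec (PrimeSpectrum.comap φ q) ⤳ hU₀.fromSpec (PrimeSpectrum.comap φ q') :=
      h1.map hU₀.fromSpec.continuous
    rw [hpt, hpt] at h2
    have h3 := hE _ _ h2
    rw [← hpt, ← hpt] at h3
    have h4 := hU₀.fromSpec.isOpenEmbedding.injective h3
    exact congrArg PrimeSpectrum.asIdeal h4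
  let q₀ : PrimeSpectrum Γ(V, V₀) := hV₀.primeIdealOf ⟨v, hv⟩
  have hq₀ : hV₀.fromSpec q₀ = v := hV₀.fromSpec_primeIdealOf ⟨v, hv⟩
  have hO := isOpen_comap_eq φ hEring q₀
  obtain ⟨D, ⟨s, rfl⟩, hq₀D, hDO⟩ :=
    PrimeSpectrum.isTopologicalBasis_basic_opens.exists_subset_of_mem_open
      (show q₀ ∈ {q : PrimeSpectrum Γ(V, V₀) | q.asIdeal.comap φ = q₀.asIdeal.comap φ} from rfl) hO
  let ψ : Γ(U, U₀) →+* Localization.Away s := (algebraMap Γ(V, V₀) (Localization.Away s)).comp φ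
  haveI : (q₀.asIdeal.comap φ).IsPrime := inferInstance
  have hψ : ∀ Q : PrimeSpectrum (Localization.Away s), Q.asIdeal.comap ψ = q₀.asIdeal.comap φ := by
    intro Q
    have hmem : PrimeSpectrum.comap (algebraMap Γ(V, V₀) (Localization.Away s)) Q ∈
        (PrimeSpectrum.basicOpen s : Set (PrimeSpectrum Γ(V, V₀))) := by
      rw [← PrimeSpectrum.localization_away_comap_range (Localization.Away s) s]
      exact ⟨Q, rfl⟩
    have := hDO hmem
    rw [Set.mem_ofPred_eq] at this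
    rw [← this]
    rfl
  obtain ⟨β, hβ⟩ := exists_factor_field_of_forall_comap_eq ψ (q₀.asIdeal.comap φ) hψ
  let jloc : Spec (CommRingCat.of (Localization.Away s)) ⟶ Spec Γ(V, V₀) :=
    Spec.map (CommRingCat.ofHom (algebraMap Γ(V, V₀) (Localization.Away s)))
  haveI : IsOpenImmersion jloc := inferInstance
  refine ⟨Spec (CommRingCat.of (Localization.Away s)), jloc ≫ hV₀.fromSpec, inferInstance,
    FractionRing (Γ(U, U₀) ⧸ q₀.asIdeal.comap φ), inferInstance,
    Spec.map (CommRingCat.ofHom β),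
    Spec.map (CommRingCat.ofHom ((algebraMap (Γ(U, U₀) ⧸ q₀.asIdeal.comap φ)
      (FractionRing (Γ(U, U₀) ⧸ q₀.asIdeal.comap φ))).comp
        (Ideal.Quotient.mk (q₀.asIdeal.comap φ)))) ≫ hU₀.fromSpec, ?_, ?_⟩
  · have hmem : q₀ ∈ Set.range (PrimeSpectrum.comap
        (algebraMap Γ(V, V₀) (Localization.Away s))) := by
      rw [PrimeSpectrum.localization_away_comap_range (Localization.Away s) s]
      exact hq₀D
    obtain ⟨Q, hQ⟩ := hmem
    refine ⟨Q, ?_⟩
    rw [Scheme.Hom.comp_apply]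
    have : jloc Q = q₀ := hQ
    rw [this, hq₀]
  · rw [← Category.assoc, ← Spec.map_comp, ← CommRingCat.ofHom_comp, hβ, Category.assoc, ← hkey,
      ← Category.assoc, ← Spec.map_comp]
    rfl

end Groth.Agent.Helper15.ResidFac
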