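import Mathlib
import Groth.Prelude
import Groth.Agent.Lib.Helper15.ResidFac2
import Groth.Agent.Lib.Helper15.AlgSpField
import Groth.Agent.Lib.Helper15.AlgSpDimEt
import Groth.Agent.Lib.Helper15.AlgSpNoeth
import Groth.Agent.Lib.Helper15.AlgSpLim4
import Groth.Agent.Lib.Helper15.AlgSpFibre
import Groth.Agent.Lib.Helper15.NormQf1

/-!
# Morphisms from reduced spaces into a locally Noetherian algebraic space hitting one point factor
through every monomorphism whose image contains that point
-/

set_option autoImplicit false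
universe u
open CategoryTheory CategoryTheory.Limits AlgebraicGeometry MorphismProperty Opposite
open AlgSp

namespace Groth.Agent.Helper15.ResidFac

open Groth.Agent.Helper15 Groth.Agent.Helper15.Norm

/-- In a locally Noetherian scheme a strict generisation has a local ring of smaller dimension. -/
theorem eq_of_specializes_of_ringKrullDim_eq {U : Scheme.{u}} [IsLocallyNoetherian U] {u u' : U}
    (h : u' ⤳ u)
    (hd : ringKrullDim ↥(U.presheaf.stalk u') = ringKrullDim ↥(U.presheaf.stalk u)) : u' = u := by
  by_contra hne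
  have hlt : u < u' :=
    ⟨Scheme.le_iff_specializes.2 h, fun h' => hne (h.antisymm (Scheme.le_iff_specializes.1 h')).eq⟩
  have hfin : Order.coheight u' < ⊤ := by
    rw [lt_top_iff_ne_top]
    intro htop
    have h1 : ringKrullDim ↥(U.presheaf.stalk u') < ⊤ := ringKrullDim_lt_top
    rw [ringKrullDim_stalk_eq_coheight, htop] at h1
    exact lt_irrefl _ h1
  have hlt' := Order.coheight_strictAnti hlt hfin
  rw [ringKrullDim_stalk_eq_coheight, ringKrullDim_stalk_eq_coheight] at hd
  have hd' : Order.coheight u' = Order.coheight u := by exact_mod_cast hd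
  rw [hd'] at hlt'
  exact lt_irrefl _ hlt'

variable {S : Scheme.{u}}

/-- There are no specialisations between distinct points of a chart of a locally Noetherian
algebraic space lying over the same point. -/
theorem eq_of_specializes_of_ofPt_eq {X : Sp S} (hX : IsLocNoethSp X) {U : Over S}
    (a : (yon S).obj U ⟶ X) (ha : RepWith @Etale a) {u u' : U.left} (h : u' ⤳ u)
    (hx : Points.ofPt a u' = Points.ofPt a u) : u' = u := by
  haveI : IsLocallyNoetherian U.left := isLocallyNoetherian_of_etale_of_isLocNoethSp hX a ha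
  refine eq_of_specializes_of_ringKrullDim_eq h ?_
  set d := ringKrullDim ↥(U.left.presheaf.stalk u) with hd
  have hHas : HasAt (fun W w => ringKrullDim ↥(W.presheaf.stalk w) = d) X (Points.ofPt a u) :=
    ⟨U, a, u, ha, rfl, rfl⟩
  exact hasAt_forall_chart (etInv_ringKrullDim_stalk d) _ hHas U a u' ha hx

/-- A field valued point factors through every monomorphism of algebraic spaces whose image
contains the point. -/
theorem exists_factor_of_field {X Z : Sp S} (hX : IsAlgSpace X) (hZ : IsAlgSpace Z) (i : Z ⟶ X)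
    [Mono i] {K : Type u} [Field K] (str : Spec (CommRingCat.of K) ⟶ S)
    (ξ : (yon S).obj (Over.mk str) ⟶ X) (t : (Over.mk str).left)
    (hξ : Points.ofPt ξ t ∈ Set.range (Points.map i)) :
    ∃ l : (yon S).obj (Over.mk str) ⟶ Z, l ≫ i = ξ := by
  obtain ⟨z, hz⟩ := hξ
  have sq := IsPullback.of_hasPullback i ξ
  have hP : IsAlgSpace (pullback i ξ) :=
    isAlgSpace_of_isPullback hX.diag hZ (IsAlgSpace.yon_obj _) sq
  obtain ⟨p, -, -⟩ := exists_point_of_isPullback sq z (Points.ofScheme (Over.mk str) t)
    (by rw [hz, Points.ofPt_eq_map_ofScheme])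
  haveI : Mono (pullback.snd i ξ) := inferInstance
  haveI : IsIso (pullback.snd i ξ) := isIso_of_mono_to_field_sp hP str (pullback.snd i ξ) p
  refine ⟨inv (pullback.snd i ξ) ≫ pullback.fst i ξ, ?_⟩
  rw [Category.assoc, pullback.condition, IsIso.inv_hom_id_assoc]

/-- **Factorisation through a monomorphism hitting the point.** -/
theorem exists_factor_of_reduced {X Y Z : Sp S} (hX : IsAlgSpace X) (hY : IsAlgSpace Y)
    (hZ : IsAlgSpace Z) (hXn : IsLocNoethSp X) (hYr : IsReducedSp Y) (f : Y ⟶ X) (i : Z ⟶ X)
    [Mono i] (x : Points X) (hx : x ∈ Set.range (Points.map i))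
    (hf : ∀ y : Points Y, Points.map f y = x) : ∃ g : Y ⟶ Z, g ≫ i = f := by
  obtain ⟨U, a, hae, has⟩ := hX.atlas
  obtain ⟨V, q, α, hqe, hqs, hcomm⟩ := exists_chart_lift hY f a hae has
  haveI : IsReduced V.left := AlgSpLim.isReduced_of_etale_chart hY hYr q hqe
  haveI : IsLocallyNoetherian U.left := isLocallyNoetherian_of_etale_of_isLocNoethSp hXn a hae
  have hpts : ∀ v : V.left, Points.ofPt a (α.left v) = x := by
    intro v
    rw [← ofPt_comp_yon_map, ← hcomm, ← Points.map_ofPt]
    exact hf _
  have hE : ∀ v v' : V.left, α.left v' ⤳ α.left v → α.left v' = α.left v := fun v v' h =>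
    eq_of_specializes_of_ofPt_eq hXn a hae h (by rw [hpts, hpts])
  choose N j hj K hK β αK hvN hβα using fun v => exists_open_factor_field α.left hE v
  -- the objects over `S`
  let NO : V.left → Over S := fun v => Over.mk (j v ≫ V.hom)
  let jO : ∀ v, NO v ⟶ V := fun v => Over.homMk (j v) rfl
  let KO : V.left → Over S := fun v => Over.mk (αK v ≫ U.hom)
  let αO : ∀ v, KO v ⟶ U := fun v => Over.homMk (αK v) rfl
  have hβw : ∀ v, β v ≫ (KO v).hom = (NO v).hom := by
    intro v
    change β v ≫ αK v ≫ U.hom = j v ≫ V.hom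
    rw [← Category.assoc, hβα v, Category.assoc, CategoryTheory.Over.w]
  let βO : ∀ v, NO v ⟶ KO v := fun v => Over.homMk (β v) (hβw v)
  have hβαO : ∀ v, βO v ≫ αO v = jO v ≫ α := by
    intro v
    ext
    exact hβα v
  let b : ∀ v, (yon S).obj (NO v) ⟶ Y := fun v => (yon S).map (jO v) ≫ q
  have hbf : ∀ v, b v ≫ f = (yon S).map (βO v) ≫ (yon S).map (αO v) ≫ a := by
    intro v
    change ((yon S).map (jO v) ≫ q) ≫ f = _
    rw [Category.assoc, hcomm, ← Category.assoc, ← Functor.map_comp, ← hβαO v, Functor.map_comp,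
      Category.assoc]
  -- the field points factor through `Z`
  have hfac : ∀ v, ∃ l : (yon S).obj (KO v) ⟶ Z, l ≫ i = (yon S).map (αO v) ≫ a := by
    intro v
    obtain ⟨n, hn⟩ := hvN v
    refine exists_factor_of_field hX hZ i (αK v ≫ U.hom) ((yon S).map (αO v) ≫ a) (β v n) ?_
    rw [ofPt_comp_yon_map]
    have h1 : (αO v).left (β v n) = α.left (j v n) := by
      change (αK v) (β v n) = α.left (j v n)
      rw [← Scheme.Hom.comp_apply, hβα v, Scheme.Hom.comp_apply]
    rw [h1, hpts]
    exact hx
  choose l hl using hfac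
  have hlift : ∀ v, ((yon S).map (βO v) ≫ l v) ≫ i = b v ≫ f := by
    intro v
    rw [Category.assoc, hl v, hbf v]
  let b' : ∀ v, (yon S).obj (NO v) ⟶ pullback i f := fun v =>
    pullback.lift ((yon S).map (βO v) ≫ l v) (b v) (hlift v)
  have hb' : ∀ v, b' v ≫ pullback.snd i f = b v := fun v => pullback.lift_snd _ _ _
  haveI : Mono (pullback.snd i f) := inferInstance
  have sq : ∀ v, IsPullback (b' v) (𝟙 _) (pullback.snd i f) (b v) := by
    intro v
    refine ⟨⟨by rw [hb' v, Category.id_comp]⟩, ⟨PullbackCone.IsLimit.mk _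
      (fun s => s.snd) (fun s => ?_) (fun s => Category.comp_id _) (fun s m _ h2 => ?_)⟩⟩
    · rw [← cancel_mono (pullback.snd i f), Category.assoc, hb' v]
      exact s.condition.symm
    · rw [← h2, Category.comp_id]
  have hb : JointlyEpi (fun v => (yon S).obj (NO v)) b := by
    refine jointlyEpi_of_repWith_etale _ b (fun v => ?_) (fun y => ?_)
    · haveI := hj v
      exact (RepWith @Etale).comp_mem _ _
        ((repWith_yon_map_iff _ _).2 (inferInstance : Etale (j v))) hqe
    · obtain ⟨v, rfl⟩ := surjective_ofPt q hqs y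
      obtain ⟨n, hn⟩ := hvN v
      refine ⟨v, Points.ofScheme (NO v) n, ?_⟩
      rw [← Points.ofPt_eq_map_ofScheme]
      change Points.ofPt ((yon S).map (jO v) ≫ q) n = _
      rw [ofPt_comp_yon_map]
      congr 1
  haveI : IsIso (pullback.snd i f) :=
    isIso_of_jointlyEpi_base (pullback.snd i f) b hb b' (fun _ => 𝟙 _) sq
      (fun _ => inferInstance)
  refine ⟨inv (pullback.snd i f) ≫ pullback.fst i f, ?_⟩
  rw [Category.assoc, pullback.condition, IsIso.inv_hom_id_assoc]

end Groth.Agent.Helper15.ResidFac
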