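import Mathlib
import Groth.Prelude
import Groth.Agent.Lib.Helper15.ResidFac3
import Groth.Agent.Lib.Helper15.AlgSpCD2
import Groth.Agent.Lib.Helper15.AlgSpImm
import Groth.Agent.Lib.Helper15.AlgSpFieldCover2
import Groth.Agent.Lib.Helper15.AlgSpLocP

/-!
# The residual space at a closed point of a locally Noetherian algebraic space is a closed subspace
-/

set_option autoImplicit false
universe u
open CategoryTheory CategoryTheory.Limits AlgebraicGeometry MorphismProperty Opposite
open AlgSp

namespace Groth.Agent.Helper15.ResidFac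

open Groth.Agent.Helper15 Groth.Agent.Helper15.Norm

variable {S : Scheme.{u}}

/-- Two reduced algebraic spaces with monomorphisms into a locally Noetherian algebraic space with
the same one-point image are isomorphic over it. -/
theorem exists_iso_of_mono_of_range_eq {X Z Z' : Sp S} (hX : IsAlgSpace X) (hZ : IsAlgSpace Z)
    (hZ' : IsAlgSpace Z') (hXn : IsLocNoethSp X) (hZr : IsReducedSp Z) (hZ'r : IsReducedSp Z')
    (i : Z ⟶ X) (i' : Z' ⟶ X) [Mono i] [Mono i'] (x : Points X)
    (hi : Set.range (Points.map i) = {x}) (hi' : Set.range (Points.map i') = {x}) :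
    ∃ e : Z ≅ Z', e.hom ≫ i' = i := by
  have hx : x ∈ Set.range (Points.map i) := by rw [hi]; exact Set.mem_singleton x
  have hx' : x ∈ Set.range (Points.map i') := by rw [hi']; exact Set.mem_singleton x
  have hp : ∀ z : Points Z, Points.map i z = x := fun z => by
    have : Points.map i z ∈ Set.range (Points.map i) := ⟨z, rfl⟩
    rw [hi] at this
    exact this
  have hp' : ∀ z : Points Z', Points.map i' z = x := fun z => by
    have : Points.map i' z ∈ Set.range (Points.map i') := ⟨z, rfl⟩
    rw [hi'] at this
    exact this
  obtain ⟨g, hg⟩ := exists_factor_of_reduced hX hZ hZ' hXn hZr i i' x hx' hp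
  obtain ⟨g', hg'⟩ := exists_factor_of_reduced hX hZ' hZ hXn hZ'r i' i x hx hp'
  refine ⟨⟨g, g', ?_, ?_⟩, hg⟩
  · rw [← cancel_mono i, Category.assoc, hg', hg, Category.id_comp]
  · rw [← cancel_mono i', Category.assoc, hg, hg', Category.id_comp]

/-- **The residual space at a point of a locally Noetherian algebraic space is a closed subspace
iff the point is closed.** -/
theorem isClosed_singleton_iff_repWith_isClosedImmersion {X Z : Sp S} (hX : IsAlgSpace X)
    (hZ : IsAlgSpace Z) (hXn : IsLocNoethSp X) (hZr : IsReducedSp Z) (i : Z ⟶ X) [Mono i]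
    (x : Points X) (hi : Set.range (Points.map i) = {x}) :
    IsClosed ({x} : Set (Points X)) ↔ RepWith @IsClosedImmersion i := by
  constructor
  · intro hcl
    obtain ⟨Z', i', hZ', hi'c, hi'r, hZ'r⟩ := exists_isRedInduced hX {x} hcl
    haveI : Mono i' := mono_of_repWith isClosedImmersion_le_mono i' hi'c
    obtain ⟨e, he⟩ := exists_iso_of_mono_of_range_eq hX hZ hZ' hXn hZr hZ'r i i' x hi hi'r
    rw [← he]
    exact (RepWith @IsClosedImmersion).comp_mem _ _ (repWith_of_isIso _ e.hom) hi'c
  · intro h
    have himm : RepWith @IsImmersion i := repWith_mono isClosedImmersion_le_isImmersion h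
    have := (repWith_isClosedImmersion_iff_isClosed_range hX i himm).1 h
    rwa [hi] at this

end Groth.Agent.Helper15.ResidFac
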