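import Mathlib
import Groth.Agent.Lib.Helper15.ResidualSp
import Groth.Agent.Lib.Helper15.QsDecent
import Groth.Agent.Lib.Helper15.AlgSpLocPRep
import Groth.Agent.Lib.Helper15.AlgSpTop

/-!
# The residual space of an arbitrary point of an algebraic space
-/

set_option autoImplicit false
universe u
open CategoryTheory CategoryTheory.Limits AlgebraicGeometry MorphismProperty Opposite
open AlgSp

namespace Groth.Agent.Helper15.ResidualSp2

open Groth.Agent.Helper15 Groth.Agent.Helper15.QsDecent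

variable {S : Scheme.{u}}

/-- The residual space of a point of an etale chart: the image sheaf of the residue field
point is an algebraic space, etale-covered by the spectrum of the residue field. -/
theorem residual_space {X : Sp S} (hX : IsAlgSpace X) {U : Over S}
    (φ : (yon S).obj U ⟶ X) (hφ : RepWith @Etale φ) (u : U.left) :
    IsAlgSpace (Sheaf.image (FieldPt.ofPt φ u).toHom) ∧
      RepWith @Etale (Sheaf.toImage (FieldPt.ofPt φ u).toHom) ∧
      RepWith @Surjective (Sheaf.toImage (FieldPt.ofPt φ u).toHom) := by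
  set p := FieldPt.ofPt φ u with hp
  set ξ₀ := p.toHom with hξ₀
  have hξrep : Representable ξ₀ := Functor.relativelyRepresentable.of_diag hX.diag ξ₀
  have sq := hξrep.isPullback' ξ₀
  have hs : Etale (hξrep.fst' ξ₀).left := etale_kernelPair_ofPt φ hφ u _ _ sq
  have hfac : Sheaf.toImage ξ₀ ≫ Sheaf.imageι ξ₀ = ξ₀ := Sheaf.toImage_ι ξ₀
  have big' : IsPullback ((yon S).map (hξrep.snd ξ₀)) ((yon S).map (hξrep.fst' ξ₀))
      (Sheaf.toImage ξ₀ ≫ Sheaf.imageι ξ₀) (Sheaf.toImage ξ₀ ≫ Sheaf.imageι ξ₀) := by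
    rw [hfac]; exact sq.flip
  have sqZ := isPullback_of_comp_mono (Sheaf.imageι ξ₀) big'
  have hzrep : Representable (Sheaf.toImage ξ₀) :=
    (repWith_of_comp_mono (P := ⊤) (Sheaf.toImage ξ₀) (Sheaf.imageι ξ₀)
      (by rw [hfac]; exact ⟨hξrep, fun _ _ _ _ _ _ => trivial⟩)).rep
  have h1 : RepWith @Etale (Sheaf.toImage ξ₀) :=
    repWith_of_isLocallySurjective_base (Sheaf.toImage ξ₀) hzrep (Sheaf.toImage ξ₀) _ _ sqZ
      @Etale ((repWith_yon_map_iff _ (hξrep.fst' ξ₀)).2 hs)
  have hsurj : IsSurjectiveMor (Sheaf.toImage ξ₀) := isSurjectiveMor_of_isLocallySurjective _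
  have h2 : RepWith @Surjective (Sheaf.toImage ξ₀) :=
    repWith_surjective_of_isSurjectiveMor _ hzrep hsurj
  have hZ : IsAlgSpace (Sheaf.image ξ₀) :=
    ⟨representable_diag_of_mono (Sheaf.imageι ξ₀) hX.diag, p.pt, Sheaf.toImage ξ₀, h1, h2⟩
  exact ⟨hZ, h1, h2⟩

/-- Every point of an algebraic space is the image of a monomorphism from a one-point algebraic
space etale-covered by the spectrum of a field. -/
theorem exists_residual_space {X : Sp S} (hX : IsAlgSpace X) (x : Points X) :
    ∃ (Z : Sp S) (_ : IsAlgSpace Z) (i : Z ⟶ X), Mono i ∧ Set.range (Points.map i) = {x} ∧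
      ∃ (k : Type u) (_ : Field k) (str : Spec (CommRingCat.of k) ⟶ S)
        (p : (yon S).obj (Over.mk str) ⟶ Z), RepWith @Etale p ∧ RepWith @Surjective p := by
  obtain ⟨U, hU, φ, u, hφ, rfl⟩ := exists_affine_etale_nbhd hX x
  obtain ⟨hZ, h1, h2⟩ := residual_space hX φ hφ u
  refine ⟨_, hZ, Sheaf.imageι (FieldPt.ofPt φ u).toHom, inferInstance, ?_,
    (FieldPt.ofPt φ u).K, inferInstance, (FieldPt.ofPt φ u).str,
    Sheaf.toImage (FieldPt.ofPt φ u).toHom, h1, h2⟩
  have key : ∀ t : (FieldPt.ofPt φ u).pt.left,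
      Points.map (Sheaf.imageι (FieldPt.ofPt φ u).toHom)
        (Points.ofPt (Sheaf.toImage (FieldPt.ofPt φ u).toHom) t) = Points.ofPt φ u := by
    intro t
    rw [Points.map_ofPt, Sheaf.toImage_ι]
    have : t = IsLocalRing.closedPoint (FieldPt.ofPt φ u).K :=
      Subsingleton.elim (α := PrimeSpectrum (FieldPt.ofPt φ u).K) _ _
    rw [this, Points.ofPt_toHom]
    rfl
  ext y
  simp only [Set.mem_range, Set.mem_singleton_iff]
  constructor
  · rintro ⟨w, rfl⟩
    obtain ⟨t, rfl⟩ := surjective_ofPt _ h2 w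
    exact key t
  · rintro rfl
    exact ⟨_, key (IsLocalRing.closedPoint _)⟩

end Groth.Agent.Helper15.ResidualSp2
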