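import Mathlib
import Groth.Prelude
import Groth.Agent.Lib.Helper1.TP3
import Groth.Agent.Lib.Helper1.BRN3
import Groth.Agent.Lib.Helper1.SH3
import Groth.Agent.Lib.Lead.FEq1
import Groth.Agent.Lib.Helper15.GUPunct2

set_option autoImplicit false
set_option linter.unusedSectionVars false
set_option linter.unusedVariables false
set_option linter.style.haveILetI false

universe u

namespace Groth.Agent.Helper15.SHExt

open IsLocalRing Groth.Agent.Helper1

section Tower

variable (A Ah Ash : Type u) [CommRing A] [IsLocalRing A]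
  [CommRing Ah] [IsLocalRing Ah] [Algebra A Ah] [IsLocalHom (algebraMap A Ah)]
  [Hensel.IsHenselization A Ah]
  [CommRing Ash] [IsLocalRing Ash] [Algebra A Ash] [IsLocalHom (algebraMap A Ash)]
  [Hensel.IsStrictHenselization A Ash] [Algebra Ah Ash] [IsScalarTower A Ah Ash]

include A in
theorem isLocalHom_tower : IsLocalHom (algebraMap Ah Ash) := by
  haveI : IsLocalHom (RingHom.id A) := ⟨fun a h => h⟩
  letI : Algebra A A := Algebra.id A
  exact TP.isLocalHom_of_comp_eq' A Ah A Ash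
    (Hzn.map_maximalIdeal_eq_of_isHenselization A Ah) (RingHom.id A) (algebraMap Ah Ash)
    (by
      rw [RingHom.comp_id]
      exact (IsScalarTower.algebraMap_eq A Ah Ash).symm)

include A in
/-- a strict henselization of `A` is a strict henselization of a henselization of `A` -/
theorem isStrictHenselization_tower [IsLocalHom (algebraMap Ah Ash)] :
    Hensel.IsStrictHenselization Ah Ash := by
  haveI hS : HenselianLocalRing Ash := Hensel.IsStrictHenselization.henselian (R := A)
  haveI hsc : IsSepClosure (ResidueField A) (ResidueField Ash) :=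
    Hensel.IsStrictHenselization.isSepClosure
  haveI : IsSepClosed (ResidueField Ash) := hsc.sep_closed
  haveI : Algebra.IsSeparable (ResidueField A) (ResidueField Ash) := hsc.separable
  haveI : IsScalarTower (ResidueField A) (ResidueField Ah) (ResidueField Ash) := by
    refine IsScalarTower.of_algebraMap_eq (fun x => ?_)
    obtain ⟨a, rfl⟩ := residue_surjective x
    show residue Ash (algebraMap A Ash a) = residue Ash (algebraMap Ah Ash (algebraMap A Ah a))
    rw [← IsScalarTower.algebraMap_apply A Ah Ash]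
  have hmapcomp : (ResidueField.map (algebraMap Ah Ash)).comp (ResidueField.map (algebraMap A Ah)) =
      ResidueField.map (algebraMap A Ash) := by
    refine RingHom.ext (fun x => ?_)
    obtain ⟨a, rfl⟩ := residue_surjective x
    show residue Ash (algebraMap Ah Ash (algebraMap A Ah a)) = residue Ash (algebraMap A Ash a)
    rw [← IsScalarTower.algebraMap_apply A Ah Ash]
  refine ⟨hS, ⟨inferInstance, Algebra.isSeparable_tower_top_of_isSeparable (ResidueField A)
    (ResidueField Ah) (ResidueField Ash)⟩, ?_⟩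
  intro T _ _ f _ τ hτ
  haveI : IsLocalHom (f.comp (algebraMap A Ah)) := RingHom.isLocalHom_comp _ _
  have hτ0 : τ.comp (ResidueField.map (algebraMap A Ash)) =
      ResidueField.map (f.comp (algebraMap A Ah)) := by
    rw [← hmapcomp, ← RingHom.comp_assoc, hτ]
    refine RingHom.ext (fun x => ?_)
    obtain ⟨a, rfl⟩ := residue_surjective x
    rfl
  obtain ⟨g, ⟨hg1, hg2⟩, hguniq⟩ := Hensel.IsStrictHenselization.universal (R := A) (S := Ash) T
    (f.comp (algebraMap A Ah)) τ hτ0
  obtain ⟨g₀, -, hg₀uniq⟩ := Hensel.IsHenselization.universal (R := A) (S := Ah) T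
    (f.comp (algebraMap A Ah)) inferInstance
  have hgf : g.comp (algebraMap Ah Ash) = f := by
    have h1 : g.comp (algebraMap Ah Ash) = g₀ := by
      apply hg₀uniq
      rw [RingHom.comp_assoc, ← IsScalarTower.algebraMap_eq A Ah Ash, hg1]
    have h2 : f = g₀ := hg₀uniq f rfl
    rw [h1, h2]
  refine ⟨g, ⟨hgf, hg2⟩, ?_⟩
  rintro g' ⟨hg'1, hg'2⟩
  apply hguniq
  refine ⟨?_, hg'2⟩
  rw [IsScalarTower.algebraMap_eq A Ah Ash, ← RingHom.comp_assoc, hg'1]

end Tower


section Ext

variable (A Ah Ash : Type u) [CommRing A] [IsLocalRing A]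
  [CommRing Ah] [IsLocalRing Ah] [Algebra A Ah] [IsLocalHom (algebraMap A Ah)]
  [Hensel.IsHenselization A Ah]
  [CommRing Ash] [IsLocalRing Ash] [Algebra A Ash] [IsLocalHom (algebraMap A Ash)]
  [Hensel.IsStrictHenselization A Ash] [Algebra Ah Ash] [IsScalarTower A Ah Ash]

include A in
/-- if contraction to the henselization is injective on minimal primes of the strict
henselization, every minimal prime is extended from the henselization -/
theorem eq_map_comap_of_injOn
    (hinj : Set.InjOn (fun Q : Ideal Ash => Q.comap (algebraMap Ah Ash)) (minimalPrimes Ash))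
    (Q : Ideal Ash) (hQ : Q ∈ minimalPrimes Ash) :
    Q = Ideal.map (algebraMap Ah Ash) (Q.comap (algebraMap Ah Ash)) := by
  haveI := isLocalHom_tower A Ah Ash
  haveI := isStrictHenselization_tower A Ah Ash
  haveI : Module.Flat Ah Ash := (HFlat.faithfullyFlat_of_isStrictHenselization Ah Ash).toFlat
  have hflat : (algebraMap Ah Ash).Flat := RingHom.flat_algebraMap_iff.mpr inferInstance
  haveI hQp : Q.IsPrime := hQ.1.1
  obtain ⟨𝔭, h𝔭def⟩ : ∃ 𝔭 : Ideal Ah, 𝔭 = Q.comap (algebraMap Ah Ash) := ⟨_, rfl⟩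
  rw [← h𝔭def]
  have h𝔭min : 𝔭 ∈ minimalPrimes Ah :=
    h𝔭def ▸ Groth.Agent.Helper15.GUPunct.comap_mem_minimalPrimes_of_flat _ hflat hQ
  haveI h𝔭prime : 𝔭.IsPrime := h𝔭min.1.1
  have hJle : 𝔭.map (algebraMap Ah Ash) ≤ Q := h𝔭def ▸ Ideal.map_comap_le
  -- the quotient is reduced
  letI : Algebra (Ah ⧸ 𝔭) (Ash ⧸ 𝔭.map (algebraMap Ah Ash)) :=
    (Ideal.quotientMap (𝔭.map (algebraMap Ah Ash)) (algebraMap Ah Ash) Ideal.le_comap_map).toAlgebra
  obtain ⟨hl1, hl2, hlh, hSH⟩ := BRN.isStrictHenselization_quotient_map Ah Ash 𝔭 h𝔭prime.ne_top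
  haveI := hl1
  haveI := hl2
  haveI := hlh
  haveI := hSH
  haveI : IsDomain (Ah ⧸ 𝔭) := Ideal.Quotient.isDomain 𝔭
  haveI : IsReduced (Ash ⧸ 𝔭.map (algebraMap Ah Ash)) :=
    (HFlat.isReduced_iff_of_isStrictHenselization (Ah ⧸ 𝔭)
      (Ash ⧸ 𝔭.map (algebraMap Ah Ash))).mp inferInstance
  have hrad : (𝔭.map (algebraMap Ah Ash)).IsRadical :=
    (Ideal.isRadical_iff_quotient_reduced _).mpr inferInstance
  apply le_antisymm _ hJle
  rw [← hrad.radical, ← Ideal.sInf_minimalPrimes]
  apply le_sInf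
  intro Q' hQ'
  haveI hQ'p : Q'.IsPrime := hQ'.1.1
  have hQ'comap : Q'.comap (algebraMap Ah Ash) = 𝔭 :=
    Groth.Agent.Lead.FEq.under_eq_of_mem_minimalPrimes_map 𝔭 Q' hQ'
  have hQ'min : Q' ∈ minimalPrimes Ash := by
    refine ⟨⟨hQ'p, bot_le⟩, ?_⟩
    rintro Q'' ⟨hQ''p, -⟩ hle
    haveI := hQ''p
    have h1 : Q''.comap (algebraMap Ah Ash) ≤ 𝔭 := hQ'comap ▸ Ideal.comap_mono hle
    have h2 : 𝔭 ≤ Q''.comap (algebraMap Ah Ash) := h𝔭min.2 ⟨inferInstance, bot_le⟩ h1
    exact hQ'.2 ⟨hQ''p, Ideal.map_le_iff_le_comap.mpr h2⟩ hle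
  have : Q' = Q := hinj hQ'min hQ (by
    show Q'.comap (algebraMap Ah Ash) = Q.comap (algebraMap Ah Ash)
    rw [hQ'comap, h𝔭def])
  rw [this]

theorem injOn_of_eq_map_comap
    (h : ∀ Q ∈ minimalPrimes Ash, Q = Ideal.map (algebraMap Ah Ash) (Q.comap (algebraMap Ah Ash))) :
    Set.InjOn (fun Q : Ideal Ash => Q.comap (algebraMap Ah Ash)) (minimalPrimes Ash) := by
  intro Q₁ h₁ Q₂ h₂ heq
  have heq' : Q₁.comap (algebraMap Ah Ash) = Q₂.comap (algebraMap Ah Ash) := heq
  rw [h Q₁ h₁, h Q₂ h₂, heq']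

end Ext

end Groth.Agent.Helper15.SHExt
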