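import Mathlib
import Groth.Prelude
import Groth.Agent.Lib.Helper1.BRN5
import Groth.Agent.Lib.Helper1.GB2

set_option autoImplicit false
set_option linter.unusedSectionVars false
set_option linter.unusedVariables false
set_option linter.style.haveILetI false

universe u

namespace Groth.Agent.Helper15.SHExt

open IsLocalRing TensorProduct Groth.Agent.Helper1

section Card

variable (A Ash : Type u) [CommRing A] [IsLocalRing A] [IsReduced A]
  [CommRing Ash] [IsLocalRing Ash] [Algebra A Ash] [IsLocalHom (algebraMap A Ash)]
  [Hensel.IsStrictHenselization A Ash]

/-- minimal primes of the strict henselization of a reduced local ring correspond to the points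
of its normalization in the algebraic closure of the residue field -/
theorem card_minimalPrimes_shens_integralClosure (hfin : (minimalPrimes A).Finite)
    (K : Type u) [CommRing K] [Algebra A K] [IsFractionRing A K] :
    ENat.card (minimalPrimes Ash) =
      ENat.card {ψ : integralClosure A K →+* AlgebraicClosure (ResidueField A) //
        ψ.comp (algebraMap A (integralClosure A K)) = Brnch.toClosure A} := by
  haveI : HenselianLocalRing Ash := Hensel.IsStrictHenselization.henselian (R := A)
  haveI : Module.Flat A Ash := (HFlat.faithfullyFlat_of_isStrictHenselization A Ash).toFlat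
  haveI hsc : IsSepClosure (ResidueField A) (ResidueField Ash) :=
    Hensel.IsStrictHenselization.isSepClosure
  haveI : IsSepClosed (ResidueField Ash) := hsc.sep_closed
  haveI : Algebra.IsSeparable (ResidueField A) (ResidueField Ash) := hsc.separable
  have hcoe : ∀ (a : A) (x : integralClosure A K),
      ((a • x : integralClosure A K) : K) = algebraMap A K a * (x : K) := by
    intro a x
    show a • (x : K) = _
    rw [Algebra.smul_def]
  have h1 : ∀ a ∈ nonZeroDivisors A, ∀ x : integralClosure A K, a • x = 0 → x = 0 := by
    intro a ha x hx
    have hu : IsUnit (algebraMap A K a) :=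
      IsLocalization.map_units K (⟨a, ha⟩ : nonZeroDivisors A)
    have h : algebraMap A K a * (x : K) = 0 := by
      rw [← hcoe, hx]
      rfl
    apply Subtype.ext
    exact (hu.mul_right_eq_zero).mp h
  have h2 : ∀ a ∈ nonZeroDivisors A, ∀ p ∈ minimalPrimes A, a ∉ p := by
    intro a ha p hp hap
    exact Set.disjoint_left.mp (Ideal.disjoint_nonZeroDivisors_of_mem_minimalPrimes hp) hap ha
  have h3 : ∀ x : integralClosure A K, ∃ a ∈ nonZeroDivisors A, ∃ b : A,
      a • x = algebraMap A (integralClosure A K) b := by
    intro x
    obtain ⟨r, s, e⟩ := IsLocalization.exists_mk'_eq (nonZeroDivisors A) (x : K)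
    refine ⟨s, s.2, r, ?_⟩
    apply Subtype.ext
    rw [hcoe, ← e]
    exact IsLocalization.mk'_spec' K r s
  have h4 : ∀ a : A, algebraMap A (integralClosure A K) a = 0 → IsNilpotent a := by
    intro a ha
    have h : algebraMap A K a = 0 := by
      have := congrArg (fun y : integralClosure A K => (y : K)) ha
      exact this
    have h' : a = 0 := IsFractionRing.injective A K (by rw [h, map_zero])
    rw [h']
    exact IsNilpotent.zero
  have e1 : ENat.card (minimalPrimes (integralClosure A K ⊗[A] Ash)) =
      ENat.card (minimalPrimes Ash) :=
    ENat.card_congr (Set.BijOn.equiv _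
      (BR.bijOn_of_birational (A := A) (A' := integralClosure A K) (Ah := Ash)
        (nonZeroDivisors A) h1 h2 h3 h4))
  have hdom : ∀ (M : Ideal (integralClosure A K ⊗[A] Ash)) [M.IsMaximal],
      IsDomain (Localization.AtPrime M) := fun M _ =>
    DM.isDomain_localization_shens A (integralClosure A K) Ash M
      (fun m' _ => NR.normal_localization_integralClosure hfin K m')
  obtain ⟨ι, -⟩ : ∃ ι : ResidueField Ash →ₐ[ResidueField A]
      AlgebraicClosure (ResidueField A), True := ⟨IsAlgClosed.lift, trivial⟩
  have hθχ : ((ι : ResidueField Ash →+* AlgebraicClosure (ResidueField A)).comp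
      (residue Ash)).comp (algebraMap A Ash) = Brnch.toClosure A := by
    refine RingHom.ext (fun a => ?_)
    show ι (residue Ash (algebraMap A Ash a)) = _
    have h1 : residue Ash (algebraMap A Ash a) =
        algebraMap (ResidueField A) (ResidueField Ash) (residue A a) := rfl
    rw [h1, ι.commutes]
    rfl
  rw [← e1, DM.card_minimalPrimes_eq_card_maximalSpectrum A (integralClosure A K) Ash hdom,
    GB.card_maximalSpectrum_eq_card_homs A (integralClosure A K) Ash
      (AlgebraicClosure (ResidueField A))
      (ι : ResidueField Ash →+* AlgebraicClosure (ResidueField A))]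
  exact GB.card_homs_eq_card_homs_left A (integralClosure A K) Ash
    (AlgebraicClosure (ResidueField A))
    ((ι : ResidueField Ash →+* AlgebraicClosure (ResidueField A)).comp (residue Ash))
    (Brnch.toClosure A) hθχ

end Card

end Groth.Agent.Helper15.SHExt
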