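import Mathlib
import Groth.Prelude

set_option autoImplicit false
set_option linter.unusedSectionVars false
set_option linter.unusedVariables false
set_option linter.style.haveILetI false

universe u

namespace Groth.Agent.Helper15.SHExt

open IsLocalRing

section Fibre

variable (A B : Type u) [CommRing A] [IsLocalRing A] [CommRing B] [Algebra A B]
  [Algebra.IsIntegral A B]

/-- the `A`-points of `B` in the algebraic closure of the residue field of `A` -/
abbrev H : Type u :=
  {ψ : B →+* AlgebraicClosure (ResidueField A) // ψ.comp (algebraMap A B) = Brnch.toClosure A}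

theorem toClosure_apply (a : A) : Brnch.toClosure A a =
    algebraMap (ResidueField A) (AlgebraicClosure (ResidueField A)) (residue A a) := rfl

theorem ker_toClosure' : RingHom.ker (Brnch.toClosure A) = maximalIdeal A := by
  ext a
  rw [RingHom.mem_ker, toClosure_apply, map_eq_zero, residue_eq_zero_iff]

theorem ker_isMaximal (ψ : H A B) : (RingHom.ker ψ.1).IsMaximal := by
  haveI hkp : (RingHom.ker ψ.1).IsPrime := RingHom.ker_isPrime ψ.1
  have hcomap : (RingHom.ker ψ.1).comap (algebraMap A B) = maximalIdeal A := by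
    rw [← ker_toClosure']
    ext a
    rw [Ideal.mem_comap, RingHom.mem_ker, RingHom.mem_ker]
    have := RingHom.congr_fun ψ.2 a
    rw [RingHom.comp_apply] at this
    rw [this]
  apply Ideal.isMaximal_of_isIntegral_of_isMaximal_comap (R := A)
  rw [hcomap]
  exact maximalIdeal.isMaximal A

section

variable (M : Ideal B) [hM : M.IsMaximal]

theorem mk_algebraMap_eq_zero (a : A) (ha : a ∈ maximalIdeal A) :
    ((Ideal.Quotient.mk M).comp (algebraMap A B)) a = 0 := by
  haveI : (M.comap (algebraMap A B)).IsMaximal :=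
    Ideal.isMaximal_comap_of_isIntegral_of_isMaximal M
  have h1 : M.comap (algebraMap A B) = maximalIdeal A := IsLocalRing.eq_maximalIdeal inferInstance
  rw [RingHom.comp_apply, Ideal.Quotient.eq_zero_iff_mem]
  have : a ∈ M.comap (algebraMap A B) := h1 ▸ ha
  exact this

/-- the residue field of `A` inside the residue field of `M` -/
noncomputable def resMap : ResidueField A →+* B ⧸ M :=
  Ideal.Quotient.lift (maximalIdeal A) ((Ideal.Quotient.mk M).comp (algebraMap A B))
    (mk_algebraMap_eq_zero A B M)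

theorem resMap_residue (a : A) : resMap A B M (residue A a) =
    Ideal.Quotient.mk M (algebraMap A B a) := rfl

theorem range_resMap : (resMap A B M).range =
    ((Ideal.Quotient.mk M).comp (algebraMap A B)).range := by
  ext x
  constructor
  · rintro ⟨y, rfl⟩
    obtain ⟨a, rfl⟩ := residue_surjective y
    exact ⟨a, rfl⟩
  · rintro ⟨a, rfl⟩
    exact ⟨residue A a, rfl⟩

theorem exists_hom_ker_eq : ∃ ψ : H A B, RingHom.ker ψ.1 = M := by
  letI : Field (B ⧸ M) := Ideal.Quotient.field M
  letI : Algebra (ResidueField A) (B ⧸ M) := (resMap A B M).toAlgebra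
  haveI : Algebra.IsAlgebraic (ResidueField A) (B ⧸ M) := by
    refine ⟨fun x => ?_⟩
    obtain ⟨b, rfl⟩ := Ideal.Quotient.mk_surjective x
    have hb : IsIntegral A b := Algebra.IsIntegral.isIntegral b
    exact (hb.map_of_comp_eq (residue A) (Ideal.Quotient.mk M) rfl).isAlgebraic
  let σ : (B ⧸ M) →ₐ[ResidueField A] AlgebraicClosure (ResidueField A) := IsAlgClosed.lift
  refine ⟨⟨(σ : (B ⧸ M) →+* AlgebraicClosure (ResidueField A)).comp (Ideal.Quotient.mk M), ?_⟩, ?_⟩
  · refine RingHom.ext (fun a => ?_)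
    show σ (Ideal.Quotient.mk M (algebraMap A B a)) = _
    rw [← resMap_residue, toClosure_apply]
    exact σ.commutes (residue A a)
  · ext b
    rw [RingHom.mem_ker]
    show σ (Ideal.Quotient.mk M b) = 0 ↔ _
    rw [map_eq_zero, Ideal.Quotient.eq_zero_iff_mem]

theorem fibre_subsingleton_iff :
    (∀ ψ₁ ψ₂ : H A B, RingHom.ker ψ₁.1 = M → RingHom.ker ψ₂.1 = M → ψ₁ = ψ₂) ↔
      ∀ x : B ⧸ M, ∃ n : ℕ, x ^ (ringExpChar (B ⧸ M)) ^ n ∈
        ((Ideal.Quotient.mk M).comp (algebraMap A B)).range := by
  letI : Field (B ⧸ M) := Ideal.Quotient.field M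
  letI : Algebra (ResidueField A) (B ⧸ M) := (resMap A B M).toAlgebra
  haveI : Algebra.IsAlgebraic (ResidueField A) (B ⧸ M) := by
    refine ⟨fun x => ?_⟩
    obtain ⟨b, rfl⟩ := Ideal.Quotient.mk_surjective x
    have hb : IsIntegral A b := Algebra.IsIntegral.isIntegral b
    exact (hb.map_of_comp_eq (residue A) (Ideal.Quotient.mk M) rfl).isAlgebraic
  haveI : ExpChar (B ⧸ M) (ringExpChar (B ⧸ M)) := ringExpChar.expChar _
  haveI : ExpChar (ResidueField A) (ringExpChar (B ⧸ M)) :=
    RingHom.expChar (algebraMap (ResidueField A) (B ⧸ M)) (RingHom.injective _) _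
  have hrange : (algebraMap (ResidueField A) (B ⧸ M)).range =
      ((Ideal.Quotient.mk M).comp (algebraMap A B)).range := range_resMap A B M
  rw [← hrange, ← isPurelyInseparable_iff_pow_mem (ResidueField A) (ringExpChar (B ⧸ M))]
  constructor
  · intro h
    rw [isPurelyInseparable_iff_subsingleton_emb]
    have hsub : Subsingleton ((B ⧸ M) →ₐ[ResidueField A] AlgebraicClosure (ResidueField A)) := by
      refine ⟨fun σ₁ σ₂ => ?_⟩
      have key : ∀ σ : (B ⧸ M) →ₐ[ResidueField A] AlgebraicClosure (ResidueField A),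
          ∃ ψ : H A B, RingHom.ker ψ.1 = M ∧ ∀ b, ψ.1 b = σ (Ideal.Quotient.mk M b) := by
        intro σ
        refine ⟨⟨(σ : (B ⧸ M) →+* AlgebraicClosure (ResidueField A)).comp
          (Ideal.Quotient.mk M), ?_⟩, ?_, fun b => rfl⟩
        · refine RingHom.ext (fun a => ?_)
          show σ (Ideal.Quotient.mk M (algebraMap A B a)) = _
          rw [← resMap_residue, toClosure_apply]
          exact σ.commutes (residue A a)
        · ext b
          rw [RingHom.mem_ker]
          show σ (Ideal.Quotient.mk M b) = 0 ↔ _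
          rw [map_eq_zero, Ideal.Quotient.eq_zero_iff_mem]
      obtain ⟨ψ₁, hk₁, h₁⟩ := key σ₁
      obtain ⟨ψ₂, hk₂, h₂⟩ := key σ₂
      have heq := h ψ₁ ψ₂ hk₁ hk₂
      apply AlgHom.ext
      intro x
      obtain ⟨b, rfl⟩ := Ideal.Quotient.mk_surjective x
      rw [← h₁, ← h₂, heq]
    exact (Field.embEquivOfIsAlgClosed (ResidueField A) (B ⧸ M)
      (AlgebraicClosure (ResidueField A))).subsingleton
  · intro hPI ψ₁ ψ₂ hk₁ hk₂
    haveI := hPI
    let σ₁ : (B ⧸ M) →+* AlgebraicClosure (ResidueField A) :=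
      Ideal.Quotient.lift M ψ₁.1 (fun b hb => by rw [← RingHom.mem_ker, hk₁]; exact hb)
    let σ₂ : (B ⧸ M) →+* AlgebraicClosure (ResidueField A) :=
      Ideal.Quotient.lift M ψ₂.1 (fun b hb => by rw [← RingHom.mem_ker, hk₂]; exact hb)
    have hσ : σ₁.comp (algebraMap (ResidueField A) (B ⧸ M)) =
        σ₂.comp (algebraMap (ResidueField A) (B ⧸ M)) := by
      refine RingHom.ext (fun y => ?_)
      obtain ⟨a, rfl⟩ := residue_surjective y
      show σ₁ (Ideal.Quotient.mk M (algebraMap A B a)) = σ₂ (Ideal.Quotient.mk M (algebraMap A B a))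
      show ψ₁.1 (algebraMap A B a) = ψ₂.1 (algebraMap A B a)
      have e1 := RingHom.congr_fun ψ₁.2 a
      have e2 := RingHom.congr_fun ψ₂.2 a
      simp only [RingHom.comp_apply] at e1 e2
      rw [e1, e2]
    have hσeq : σ₁ = σ₂ := IsPurelyInseparable.injective_comp_algebraMap (ResidueField A) (B ⧸ M)
      (AlgebraicClosure (ResidueField A)) hσ
    apply Subtype.ext
    refine RingHom.ext (fun b => ?_)
    have : σ₁ (Ideal.Quotient.mk M b) = σ₂ (Ideal.Quotient.mk M b) := by rw [hσeq]
    exact this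

end

end Fibre

end Groth.Agent.Helper15.SHExt
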