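import Mathlib
import Groth.Prelude
import Groth.Agent.Lib.Helper15.SHExt1
import Groth.Agent.Lib.Helper15.SHExt2
import Groth.Agent.Lib.Helper15.SHExt3
import Groth.Agent.Lib.Helper1.HFlat8
import Groth.Agent.Lib.Helper1.SH2

set_option autoImplicit false
set_option linter.unusedSectionVars false
set_option linter.unusedVariables false
set_option linter.style.haveILetI false

universe u

namespace Groth.Agent.Helper15.SHExt

open IsLocalRing Groth.Agent.Helper1

theorem injective_iff_card_eq {α β : Type*} [Finite α] [Finite β] (f : α → β)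
    (hf : Function.Surjective f) : Function.Injective f ↔ ENat.card α = ENat.card β := by
  constructor
  · intro hinj
    exact ENat.card_congr (Equiv.ofBijective f ⟨hinj, hf⟩)
  · intro h
    letI := Fintype.ofFinite α
    letI := Fintype.ofFinite β
    rw [ENat.card_eq_coe_fintype_card, ENat.card_eq_coe_fintype_card, Nat.cast_inj] at h
    obtain ⟨e⟩ := Fintype.card_eq.mp h
    exact hf.injective_of_finite e

section Main

variable (A Ah Ash : Type u) [CommRing A] [IsLocalRing A] [IsReduced A]
  [CommRing Ah] [IsLocalRing Ah] [Algebra A Ah] [IsLocalHom (algebraMap A Ah)]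
  [Hensel.IsHenselization A Ah]
  [CommRing Ash] [IsLocalRing Ash] [Algebra A Ash] [IsLocalHom (algebraMap A Ash)]
  [Hensel.IsStrictHenselization A Ash] [Algebra Ah Ash] [IsScalarTower A Ah Ash]

theorem purelyInseparable_iff_extended [IsNoetherianRing A] :
    (∀ (M : Ideal (integralClosure A (FractionRing A))) [M.IsMaximal],
        ∀ x : (integralClosure A (FractionRing A)) ⧸ M, ∃ n : ℕ,
        x ^ (ringExpChar ((integralClosure A (FractionRing A)) ⧸ M)) ^ n ∈
          ((Ideal.Quotient.mk M).comp
            (algebraMap A (integralClosure A (FractionRing A)))).range) ↔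
      (∀ Q ∈ minimalPrimes Ash,
        Q = Ideal.map (algebraMap Ah Ash) (Q.comap (algebraMap Ah Ash))) := by
  haveI : IsNoetherianRing Ah := (HFlat.isNoetherianRing_iff_of_isHenselization A Ah).mp inferInstance
  haveI : IsNoetherianRing Ash :=
    (HFlat.isNoetherianRing_iff_of_isStrictHenselization A Ash).mp inferInstance
  have hfinA : (minimalPrimes A).Finite := minimalPrimes.finite_of_isNoetherianRing A
  haveI : Finite ↥(minimalPrimes Ah) := (minimalPrimes.finite_of_isNoetherianRing Ah).to_subtype
  haveI : Finite ↥(minimalPrimes Ash) := (minimalPrimes.finite_of_isNoetherianRing Ash).to_subtype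
  have c1 := BRN.card_minimalPrimes_hens_of_isReduced A Ah hfinA (FractionRing A)
  have c2 := card_minimalPrimes_shens_integralClosure A Ash hfinA (FractionRing A)
  haveI : Finite (MaximalSpectrum (integralClosure A (FractionRing A))) := by
    rw [← ENat.card_lt_top, ← c1]
    exact ENat.card_lt_top_of_finite
  haveI : Finite (H A (integralClosure A (FractionRing A))) := by
    rw [← ENat.card_lt_top, ← c2]
    exact ENat.card_lt_top_of_finite
  -- the two maps
  haveI := isLocalHom_tower A Ah Ash
  haveI := isStrictHenselization_tower A Ah Ash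
  haveI : Module.FaithfullyFlat Ah Ash := HFlat.faithfullyFlat_of_isStrictHenselization Ah Ash
  have hflat : (algebraMap Ah Ash).Flat := RingHom.flat_algebraMap_iff.mpr inferInstance
  let π : ↥(minimalPrimes Ash) → ↥(minimalPrimes Ah) := fun Q =>
    ⟨Q.1.comap (algebraMap Ah Ash),
      Groth.Agent.Helper15.GUPunct.comap_mem_minimalPrimes_of_flat _ hflat Q.2⟩
  have hπsurj : Function.Surjective π := by
    rintro ⟨P, hP⟩
    haveI hPp : P.IsPrime := hP.1.1
    obtain ⟨Q, hQ⟩ := PrimeSpectrum.comap_surjective_of_faithfullyFlat (A := Ah) (B := Ash) ⟨P, hPp⟩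
    obtain ⟨Q', hQ'min, hQ'le⟩ := Ideal.exists_minimalPrimes_le (I := (⊥ : Ideal Ash))
      (J := Q.asIdeal) bot_le
    refine ⟨⟨Q', hQ'min⟩, Subtype.ext ?_⟩
    haveI : Q'.IsPrime := hQ'min.1.1
    have h1 : Q'.comap (algebraMap Ah Ash) ≤ P := by
      have : Q.asIdeal.comap (algebraMap Ah Ash) = P := congrArg PrimeSpectrum.asIdeal hQ
      rw [← this]
      exact Ideal.comap_mono hQ'le
    exact le_antisymm h1 (hP.2 ⟨inferInstance, bot_le⟩ h1)
  let κ : H A (integralClosure A (FractionRing A)) →
      MaximalSpectrum (integralClosure A (FractionRing A)) := fun ψ =>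
    ⟨RingHom.ker ψ.1, ker_isMaximal A _ ψ⟩
  have hκsurj : Function.Surjective κ := by
    rintro ⟨M, hM⟩
    haveI := hM
    obtain ⟨ψ, hψ⟩ := exists_hom_ker_eq A (integralClosure A (FractionRing A)) M
    exact ⟨ψ, MaximalSpectrum.ext hψ⟩
  have hκπ : Function.Injective κ ↔ Function.Injective π := by
    rw [injective_iff_card_eq κ hκsurj, injective_iff_card_eq π hπsurj, ← c1, ← c2]
  have hL : (∀ (M : Ideal (integralClosure A (FractionRing A))) [M.IsMaximal],
        ∀ x : (integralClosure A (FractionRing A)) ⧸ M, ∃ n : ℕ,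
        x ^ (ringExpChar ((integralClosure A (FractionRing A)) ⧸ M)) ^ n ∈
          ((Ideal.Quotient.mk M).comp
            (algebraMap A (integralClosure A (FractionRing A)))).range) ↔
      Function.Injective κ := by
    constructor
    · intro h ψ₁ ψ₂ heq
      haveI := ker_isMaximal A _ ψ₁
      have hk : RingHom.ker ψ₂.1 = RingHom.ker ψ₁.1 :=
        (congrArg MaximalSpectrum.asIdeal heq).symm
      exact (fibre_subsingleton_iff A _ (RingHom.ker ψ₁.1)).mpr (h (RingHom.ker ψ₁.1))
        ψ₁ ψ₂ rfl hk
    · intro hinj M hM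
      haveI := hM
      apply (fibre_subsingleton_iff A _ M).mp
      intro ψ₁ ψ₂ h₁ h₂
      apply hinj
      exact MaximalSpectrum.ext (h₁.trans h₂.symm)
  have hR : (∀ Q ∈ minimalPrimes Ash,
        Q = Ideal.map (algebraMap Ah Ash) (Q.comap (algebraMap Ah Ash))) ↔
      Function.Injective π := by
    constructor
    · intro h Q₁ Q₂ heq
      apply Subtype.ext
      exact injOn_of_eq_map_comap Ah Ash h Q₁.2 Q₂.2 (congrArg Subtype.val heq)
    · intro hinj
      apply eq_map_comap_of_injOn A Ah Ash
      intro Q₁ h₁ Q₂ h₂ heq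
      have := hinj (a₁ := ⟨Q₁, h₁⟩) (a₂ := ⟨Q₂, h₂⟩) (Subtype.ext heq)
      exact congrArg Subtype.val this
  rw [hL, hR, hκπ]

end Main

end Groth.Agent.Helper15.SHExt
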