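import Mathlib
import Groth.Prelude
import Groth.Agent.Lib.Helper15.SHExt4
import Groth.Agent.Lib.Helper15.FinEtTens1

set_option autoImplicit false
set_option linter.unusedSectionVars false
set_option linter.unusedVariables false
set_option linter.style.haveILetI false

universe u

namespace Groth.Agent.Helper15.SHCnt

open IsLocalRing Groth.Agent.Helper1

section Tower

variable (A E S : Type u) [CommRing A] [IsLocalRing A]
  [CommRing E] [IsLocalRing E] [Algebra A E] [IsLocalHom (algebraMap A E)]
  [CommRing S] [IsLocalRing S] [Algebra A S] [IsLocalHom (algebraMap A S)]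
  [Algebra E S] [IsScalarTower A E S]

include A in
/-- if `E` is integral over `A`, the map `E → S` is local -/
theorem isLocalHom_tower [Algebra.IsIntegral A E] : IsLocalHom (algebraMap E S) := by
  apply ((local_hom_TFAE (algebraMap E S)).out 0 4 rfl rfl).mpr
  haveI hp : ((maximalIdeal S).comap (algebraMap E S)).IsPrime := Ideal.comap_isPrime _ _
  have h1 : ((maximalIdeal S).comap (algebraMap E S)).comap (algebraMap A E) = maximalIdeal A := by
    rw [Ideal.comap_comap, ← IsScalarTower.algebraMap_eq]
    exact ((local_hom_TFAE (algebraMap A S)).out 0 4 rfl rfl).mp inferInstance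
  have h2 : ((maximalIdeal S).comap (algebraMap E S)).IsMaximal := by
    apply Ideal.isMaximal_of_isIntegral_of_isMaximal_comap (R := A)
    rw [h1]
    exact maximalIdeal.isMaximal A
  exact IsLocalRing.eq_maximalIdeal h2

include A in
/-- a strict henselization of `A` is a strict henselization of an essentially étale local
`A`-algebra mapping to it -/
theorem isStrictHenselization_of_essEt [Hensel.IsStrictHenselization A S]
    (hE : EGA4loc.IsEssentiallyEtale A E) [IsLocalHom (algebraMap E S)] :
    Hensel.IsStrictHenselization E S := by
  haveI hS : HenselianLocalRing S := Hensel.IsStrictHenselization.henselian (R := A)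
  haveI hsc : IsSepClosure (ResidueField A) (ResidueField S) :=
    Hensel.IsStrictHenselization.isSepClosure
  haveI : IsSepClosed (ResidueField S) := hsc.sep_closed
  haveI : Algebra.IsSeparable (ResidueField A) (ResidueField S) := hsc.separable
  have hmapcomp : (ResidueField.map (algebraMap E S)).comp (ResidueField.map (algebraMap A E)) =
      ResidueField.map (algebraMap A S) := by
    refine RingHom.ext (fun x => ?_)
    obtain ⟨a, rfl⟩ := residue_surjective x
    show residue S (algebraMap E S (algebraMap A E a)) = residue S (algebraMap A S a)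
    rw [← IsScalarTower.algebraMap_apply A E S]
  refine ⟨hS, ⟨inferInstance, Algebra.isSeparable_tower_top_of_isSeparable (ResidueField A)
    (ResidueField E) (ResidueField S)⟩, ?_⟩
  intro T _ _ f _ τ hτ
  haveI : IsLocalHom (f.comp (algebraMap A E)) := RingHom.isLocalHom_comp _ _
  have hmapf : (ResidueField.map f).comp (ResidueField.map (algebraMap A E)) =
      ResidueField.map (f.comp (algebraMap A E)) := by
    refine RingHom.ext (fun x => ?_)
    obtain ⟨a, rfl⟩ := residue_surjective x
    rfl
  have hτ0 : τ.comp (ResidueField.map (algebraMap A S)) =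
      ResidueField.map (f.comp (algebraMap A E)) := by
    rw [← hmapcomp, ← RingHom.comp_assoc, hτ, hmapf]
  obtain ⟨g, ⟨hg1, hg2⟩, hguniq⟩ := Hensel.IsStrictHenselization.universal (R := A) (S := S) T
    (f.comp (algebraMap A E)) τ hτ0
  obtain ⟨f₀, -, hf₀uniq⟩ :=
    Groth.Agent.Helper4.EssEt.existsUnique_localHom_of_essentiallyEtale A E hE T
      (f.comp (algebraMap A E)) (ResidueField.map f) hmapf
  have hgres : ∀ x : E, residue T (g (algebraMap E S x)) = ResidueField.map f (residue E x) := by
    intro x
    rw [hg2]
    have := RingHom.congr_fun hτ (residue E x)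
    rw [RingHom.comp_apply] at this
    rw [← this]
    rfl
  have hgf : g.comp (algebraMap E S) = f := by
    have h1 : g.comp (algebraMap E S) = f₀ := by
      apply hf₀uniq
      refine ⟨⟨fun x hx => ?_⟩, ?_, fun x => hgres x⟩
      · have h3 : IsUnit (residue T (g (algebraMap E S x))) := hx.map (residue T)
        rw [hgres] at h3
        have h4 : residue E x ≠ 0 := by
          intro h0
          rw [h0, map_zero] at h3
          exact not_isUnit_zero h3
        exact (residue_ne_zero_iff_isUnit x).mp h4
      · rw [RingHom.comp_assoc, ← IsScalarTower.algebraMap_eq A E S, hg1]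
    have h2 : f = f₀ := by
      apply hf₀uniq
      exact ⟨inferInstance, rfl, fun x => rfl⟩
    rw [h1, h2]
  refine ⟨g, ⟨hgf, hg2⟩, ?_⟩
  rintro g' ⟨hg'1, hg'2⟩
  apply hguniq
  refine ⟨?_, hg'2⟩
  rw [IsScalarTower.algebraMap_eq A E S, ← RingHom.comp_assoc, hg'1]

end Tower

end Groth.Agent.Helper15.SHCnt
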