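import Mathlib
import Groth.Prelude
import Groth.Agent.Lib.Helper15.SHCnt1
import Groth.Agent.Lib.Helper16.Alg.NormalEtale

set_option autoImplicit false
set_option linter.unusedSectionVars false
set_option linter.unusedVariables false
set_option linter.style.haveILetI false

universe u

namespace Groth.Agent.Helper15.SHCnt

open IsLocalRing TensorProduct Groth.Agent.Helper1

section Count

variable (A E : Type u) [CommRing A] [IsLocalRing A] [IsDomain A]
  [CommRing E] [HenselianLocalRing E] [Algebra A E] [Algebra.Etale A E]
  (K : Type u) [Field K] [Algebra A K] [IsFractionRing A K]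

/-- over a local domain `A`, the minimal primes of a henselian local étale `A`-algebra `E`
correspond to the maximal ideals of `A' ⊗ E`, `A'` the normalization of `A` -/
theorem card_minimalPrimes_eq_card_maximalSpectrum_tensor :
    ENat.card (minimalPrimes E) =
      ENat.card (MaximalSpectrum (integralClosure A K ⊗[A] E)) := by
  haveI : Module.Flat A E := inferInstance
  have hcoe : ∀ (a : A) (x : integralClosure A K),
      ((a • x : integralClosure A K) : K) = algebraMap A K a * (x : K) := by
    intro a x
    show a • (x : K) = _
    rw [Algebra.smul_def]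
  have h1 : ∀ a ∈ nonZeroDivisors A, ∀ x : integralClosure A K, a • x = 0 → x = 0 := by
    intro a ha x hx
    have hu : IsUnit (algebraMap A K a) :=
      IsLocalization.map_units K (⟨a, ha⟩ : nonZeroDivisors A)
    have h : algebraMap A K a * (x : K) = 0 := by
      rw [← hcoe, hx]
      rfl
    apply Subtype.ext
    exact (hu.mul_right_eq_zero).mp h
  have h2 : ∀ a ∈ nonZeroDivisors A, ∀ p ∈ minimalPrimes A, a ∉ p := by
    intro a ha p hp hap
    exact Set.disjoint_left.mp (Ideal.disjoint_nonZeroDivisors_of_mem_minimalPrimes hp) hap ha
  have h3 : ∀ x : integralClosure A K, ∃ a ∈ nonZeroDivisors A, ∃ b : A,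
      a • x = algebraMap A (integralClosure A K) b := by
    intro x
    obtain ⟨r, s, e⟩ := IsLocalization.exists_mk'_eq (nonZeroDivisors A) (x : K)
    refine ⟨s, s.2, r, ?_⟩
    apply Subtype.ext
    rw [hcoe, ← e]
    exact IsLocalization.mk'_spec' K r s
  have h4 : ∀ a : A, algebraMap A (integralClosure A K) a = 0 → IsNilpotent a := by
    intro a ha
    have h : algebraMap A K a = 0 := by
      have := congrArg (fun y : integralClosure A K => (y : K)) ha
      exact this
    have h' : a = 0 := IsFractionRing.injective A K (by rw [h, map_zero])
    rw [h']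
    exact IsNilpotent.zero
  have e1 : ENat.card (minimalPrimes (integralClosure A K ⊗[A] E)) =
      ENat.card (minimalPrimes E) :=
    ENat.card_congr (Set.BijOn.equiv _
      (BR.bijOn_of_birational (A := A) (A' := integralClosure A K) (Ah := E)
        (nonZeroDivisors A) h1 h2 h3 h4))
  haveI : IsIntegrallyClosed (integralClosure A K) :=
    integralClosure.isIntegrallyClosedOfFiniteExtension K
  have hdom : ∀ (M : Ideal (integralClosure A K ⊗[A] E)) [M.IsMaximal],
      IsDomain (Localization.AtPrime M) := fun M _ =>
    (Groth.Agent.Helper16.NormalEtale.normal_of_etale_localization (integralClosure A K)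
      (integralClosure A K ⊗[A] E) (Localization.AtPrime M) M.primeCompl).1
  rw [← e1]
  exact DM.card_minimalPrimes_eq_card_maximalSpectrum A (integralClosure A K) E hdom

end Count

end Groth.Agent.Helper15.SHCnt
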