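import Mathlib

set_option autoImplicit false
set_option linter.unusedSectionVars false
set_option linter.unusedVariables false
set_option linter.style.haveILetI false

universe u

namespace Groth.Agent.Helper15.SHCnt

section FT

variable (k k' L Ω : Type u) [Field k] [Field k'] [Field L] [Field Ω] [Algebra k k'] [Algebra k L]
  [Algebra k Ω] [Algebra L Ω] [IsScalarTower k L Ω] [IsAlgClosed Ω]
  [Algebra.IsAlgebraic k k']

/-- number of embeddings of the separable closure -/
theorem card_sepClosure_algHom :
    Nat.card (separableClosure k k' →ₐ[k] Ω) = Module.finrank k (separableClosure k k') := by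
  rw [← Field.finSepDegree_eq_of_isAlgClosed k (separableClosure k k') Ω,
    Field.finSepDegree_eq_finrank_of_isSeparable]

theorem finiteDimensional_sepClosure_of_finite (h : Finite (k' →ₐ[k] Ω)) :
    FiniteDimensional k (separableClosure k k') := by
  haveI : Finite (separableClosure k k' →ₐ[k] Ω) :=
    Finite.of_surjective _ (IsAlgClosed.surjective_domRestrict_of_isAlgebraic
      (K := k) (L := separableClosure k k') (M := Ω) (E := k'))
  haveI : Nonempty (separableClosure k k' →ₐ[k] Ω) := ⟨IsAlgClosed.lift⟩
  have hpos : 0 < Nat.card (separableClosure k k' →ₐ[k] Ω) := Nat.card_pos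
  rw [card_sepClosure_algHom] at hpos
  exact Module.finite_of_finrank_pos hpos

/-- if `ks` has as many embeddings into `L` as its degree, every embedding into `Ω` factors
through `L` -/
theorem exists_factor_of_card_eq [FiniteDimensional k (separableClosure k k')]
    (h : Nat.card (separableClosure k k' →ₐ[k] L) = Module.finrank k (separableClosure k k'))
    (σ : separableClosure k k' →ₐ[k] Ω) :
    ∃ τ : separableClosure k k' →ₐ[k] L, σ = (IsScalarTower.toAlgHom k L Ω).comp τ := by
  classical
  let F : (separableClosure k k' →ₐ[k] L) → (separableClosure k k' →ₐ[k] Ω) :=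
    fun τ => (IsScalarTower.toAlgHom k L Ω).comp τ
  have hFinj : Function.Injective F := by
    intro τ₁ τ₂ h12
    apply AlgHom.ext
    intro x
    have := AlgHom.congr_fun h12 x
    exact (algebraMap L Ω).injective this
  haveI : Finite (separableClosure k k' →ₐ[k] Ω) := inferInstance
  haveI : Finite (separableClosure k k' →ₐ[k] L) := Finite.of_injective F hFinj
  have hcard : Nat.card (separableClosure k k' →ₐ[k] L) =
      Nat.card (separableClosure k k' →ₐ[k] Ω) := by
    rw [h, card_sepClosure_algHom]
  have hbij : Function.Bijective F :=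
    (Nat.bijective_iff_injective_and_card F).mpr ⟨hFinj, hcard⟩
  obtain ⟨τ, hτ⟩ := hbij.surjective σ
  exact ⟨τ, hτ.symm⟩

/-- an embedding of `ks` not landing in `L` is moved by an automorphism over `L` -/
theorem exists_algEquiv_ne [Algebra.IsAlgebraic L Ω]
    (σ : separableClosure k k' →ₐ[k] Ω) (x : separableClosure k k')
    (hx : σ x ∉ (algebraMap L Ω).range) :
    ∃ g : Ω ≃ₐ[L] Ω, g (σ x) ≠ σ x := by
  classical
  haveI : Normal L Ω := normal_iff.mpr fun y =>
    ⟨Algebra.IsIntegral.isIntegral y, IsAlgClosed.splits _⟩
  have hsepk : IsSeparable k (σ x) := by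
    have h1 : IsSeparable k x := Algebra.IsSeparable.isSeparable k x
    exact h1.map σ σ.injective
  have hsepL : IsSeparable L (σ x) := hsepk.tower_top L
  set y := σ x with hy
  have hyint : IsIntegral L y := Algebra.IsIntegral.isIntegral y
  have hdeg : 2 ≤ (minpoly L y).natDegree := by
    rw [← not_lt]
    intro hlt
    have h1 : (minpoly L y).natDegree = 1 := by
      have := minpoly.natDegree_pos hyint
      omega
    exact hx ((minpoly.natDegree_eq_one_iff).mp h1)
  -- another root
  have hsplit : ((minpoly L y).map (algebraMap L Ω)).Splits := IsAlgClosed.splits _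
  have hsepm : ((minpoly L y).map (algebraMap L Ω)).Separable :=
    Polynomial.Separable.map hsepL
  have hcard : ((minpoly L y).map (algebraMap L Ω)).roots.toFinset.card =
      (minpoly L y).natDegree := by
    rw [← Polynomial.natDegree_map (algebraMap L Ω),
      Polynomial.Splits.natDegree_eq_card_roots hsplit]
    exact (Multiset.toFinset_card_of_nodup (Polynomial.nodup_roots hsepm))
  have hex : ∃ y' ∈ ((minpoly L y).map (algebraMap L Ω)).roots.toFinset, y' ≠ y := by
    by_contra hcon
    push Not at hcon
    have hsub : ((minpoly L y).map (algebraMap L Ω)).roots.toFinset ⊆ {y} := by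
      intro z hz
      rw [Finset.mem_singleton]
      exact hcon z hz
    have := Finset.card_le_card hsub
    rw [hcard, Finset.card_singleton] at this
    omega
  obtain ⟨y', hy'mem, hy'ne⟩ := hex
  have hy'root : Polynomial.aeval y' (minpoly L y) = 0 := by
    rw [Multiset.mem_toFinset, Polynomial.mem_roots', Polynomial.IsRoot.def,
      Polynomial.eval_map_algebraMap] at hy'mem
    exact hy'mem.2
  have hminpoly : minpoly L y' = minpoly L y :=
    (minpoly.eq_of_irreducible_of_monic (minpoly.irreducible hyint) hy'root
      (minpoly.monic hyint)).symm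
  obtain ⟨g, hg⟩ := (Normal.minpoly_eq_iff_mem_orbit Ω).mp hminpoly
  -- hg : g • y = y'
  refine ⟨g, ?_⟩
  intro hfix
  apply hy'ne
  have : g • y = y' := hg
  rw [← this]
  exact hfix

end FT

end Groth.Agent.Helper15.SHCnt
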