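import Mathlib
import Groth.Prelude
import Groth.Agent.Lib.Helper15.SHCnt2
import Groth.Agent.Lib.Helper15.SHCnt3

set_option autoImplicit false
set_option linter.unusedSectionVars false
set_option linter.unusedVariables false
set_option linter.style.haveILetI false

universe u

namespace Groth.Agent.Helper15.SHCnt

open IsLocalRing TensorProduct Groth.Agent.Helper1

section Theta

variable (A A' E : Type u) [CommRing A] [IsLocalRing A] [CommRing A'] [IsLocalRing A']
  [Algebra A A'] [IsLocalHom (algebraMap A A')] [Algebra.IsIntegral A A']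
  [CommRing E] [IsLocalRing E] [Algebra A E] [IsLocalHom (algebraMap A E)]

/-- points of `A' ⊗ E` in the algebraic closure of the residue field of `E`, extending the
canonical point of `E` -/
abbrev HB : Type u :=
  {φ : A' ⊗[A] E →+* AlgebraicClosure (ResidueField E) //
    ∀ e, φ (IH.incR A A' E e) = Brnch.toClosure E e}

theorem toClosure_algebraMap (a : A) : Brnch.toClosure E (algebraMap A E a) =
    algebraMap (ResidueField A) (AlgebraicClosure (ResidueField E)) (residue A a) := by
  show algebraMap (ResidueField E) (AlgebraicClosure (ResidueField E))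
    (residue E (algebraMap A E a)) = _
  rw [IsScalarTower.algebraMap_apply (ResidueField A) (ResidueField E)
    (AlgebraicClosure (ResidueField E))]
  rfl

theorem hb_algebraMap (φ : HB A A' E) (a : A) :
    φ.1 (algebraMap A' (A' ⊗[A] E) (algebraMap A A' a)) =
      algebraMap (ResidueField A) (AlgebraicClosure (ResidueField E)) (residue A a) := by
  rw [← IH.incR_algebraMap A A' E a, φ.2, toClosure_algebraMap]

theorem hb_maximalIdeal (φ : HB A A' E) (a' : A') (ha' : a' ∈ maximalIdeal A') :
    φ.1 (algebraMap A' (A' ⊗[A] E) a') = 0 := by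
  set ψ : A' →+* AlgebraicClosure (ResidueField E) := φ.1.comp (algebraMap A' (A' ⊗[A] E)) with hψ
  haveI hkp : (RingHom.ker ψ).IsPrime := RingHom.ker_isPrime ψ
  have hcomap : (RingHom.ker ψ).comap (algebraMap A A') = maximalIdeal A := by
    ext a
    rw [Ideal.mem_comap, RingHom.mem_ker, hψ, RingHom.comp_apply, hb_algebraMap, map_eq_zero,
      residue_eq_zero_iff]
  have hmax : (RingHom.ker ψ).IsMaximal := by
    apply Ideal.isMaximal_of_isIntegral_of_isMaximal_comap (R := A)
    rw [hcomap]
    exact maximalIdeal.isMaximal A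
  have hk : RingHom.ker ψ = maximalIdeal A' := IsLocalRing.eq_maximalIdeal hmax
  have : a' ∈ RingHom.ker ψ := hk ▸ ha'
  exact this

/-- the embedding of the residue field of `A'` attached to a point -/
noncomputable def theta (φ : HB A A' E) :
    ResidueField A' →ₐ[ResidueField A] AlgebraicClosure (ResidueField E) :=
  { Ideal.Quotient.lift (maximalIdeal A') (φ.1.comp (algebraMap A' (A' ⊗[A] E)))
      (hb_maximalIdeal A A' E φ) with
    commutes' := by
      intro x
      obtain ⟨a, rfl⟩ := residue_surjective x
      exact hb_algebraMap A A' E φ a }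

theorem theta_residue (φ : HB A A' E) (a' : A') :
    theta A A' E φ (residue A' a') = φ.1 (a' ⊗ₜ[A] (1 : E)) := rfl

theorem theta_injective : Function.Injective (theta A A' E) := by
  intro φ₁ φ₂ h
  apply Subtype.ext
  apply RingHom.ext
  intro z
  induction z using TensorProduct.induction_on with
  | zero => rw [map_zero, map_zero]
  | tmul a' e =>
    have h1 : a' ⊗ₜ[A] e = (a' ⊗ₜ[A] (1 : E)) * ((1 : A') ⊗ₜ[A] e) := by
      rw [Algebra.TensorProduct.tmul_mul_tmul, mul_one, one_mul]
    rw [h1, map_mul, map_mul]
    have h2 : φ₁.1 (a' ⊗ₜ[A] (1 : E)) = φ₂.1 (a' ⊗ₜ[A] (1 : E)) := by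
      rw [← theta_residue, ← theta_residue, h]
    have h3 : φ₁.1 ((1 : A') ⊗ₜ[A] e) = φ₂.1 ((1 : A') ⊗ₜ[A] e) := by
      have e1 := φ₁.2 e
      have e2 := φ₂.2 e
      rw [IH.incR_apply] at e1 e2
      rw [e1, e2]
    rw [h2, h3]
  | add x y hx hy => rw [map_add, map_add, hx, hy]

theorem theta_surjective : Function.Surjective (theta A A' E) := by
  intro ψ
  let f₁ : A' →ₐ[A] AlgebraicClosure (ResidueField E) :=
    { (ψ : ResidueField A' →+* AlgebraicClosure (ResidueField E)).comp (residue A') with
      commutes' := by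
        intro a
        show ψ (residue A' (algebraMap A A' a)) = _
        have h1 : residue A' (algebraMap A A' a) =
            algebraMap (ResidueField A) (ResidueField A') (residue A a) := rfl
        rw [h1, ψ.commutes, IsScalarTower.algebraMap_apply A (ResidueField A)
          (AlgebraicClosure (ResidueField E))]
        rfl }
  let f₂ : E →ₐ[A] AlgebraicClosure (ResidueField E) :=
    { Brnch.toClosure E with
      commutes' := by
        intro a
        show Brnch.toClosure E (algebraMap A E a) = _
        rw [toClosure_algebraMap, IsScalarTower.algebraMap_apply A (ResidueField A)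
          (AlgebraicClosure (ResidueField E))]
        rfl }
  let Φ : A' ⊗[A] E →ₐ[A] AlgebraicClosure (ResidueField E) :=
    Algebra.TensorProduct.lift f₁ f₂ (fun _ _ => Commute.all _ _)
  have hΦ : ∀ (a' : A') (e : E), Φ (a' ⊗ₜ[A] e) = f₁ a' * f₂ e := fun a' e =>
    Algebra.TensorProduct.lift_tmul _ _ _ _ _
  refine ⟨⟨Φ.toRingHom, ?_⟩, ?_⟩
  · intro e
    show Φ ((1 : A') ⊗ₜ[A] e) = _
    rw [hΦ, map_one, one_mul]
    rfl
  · apply AlgHom.ext
    intro x
    obtain ⟨a', rfl⟩ := residue_surjective x
    rw [theta_residue]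
    show Φ (a' ⊗ₜ[A] (1 : E)) = _
    rw [hΦ, map_one, mul_one]
    rfl

end Theta

end Groth.Agent.Helper15.SHCnt
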