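import Mathlib
import Groth.Prelude
import Groth.Agent.Lib.Helper15.SHCnt4

set_option autoImplicit false
set_option linter.unusedSectionVars false
set_option linter.unusedVariables false
set_option linter.style.haveILetI false

universe u

namespace Groth.Agent.Helper15.SHCnt

open IsLocalRing TensorProduct Groth.Agent.Helper1

section FT3

variable (k k' L Ω : Type u) [Field k] [Field k'] [Field L] [Field Ω] [Algebra k k'] [Algebra k L]
  [Algebra k Ω] [Algebra L Ω] [IsScalarTower k L Ω] [IsAlgClosed Ω]
  [Algebra.IsAlgebraic k k']

theorem card_eq_of_forall_mem_range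
    (h : ∀ (σ : separableClosure k k' →ₐ[k] Ω) (x : separableClosure k k'),
      σ x ∈ (algebraMap L Ω).range) :
    Nat.card (separableClosure k k' →ₐ[k] L) = Module.finrank k (separableClosure k k') := by
  let ι : L →ₐ[k] Ω := IsScalarTower.toAlgHom k L Ω
  let F : (separableClosure k k' →ₐ[k] L) → (separableClosure k k' →ₐ[k] Ω) :=
    fun τ => ι.comp τ
  have hFinj : Function.Injective F := by
    intro τ₁ τ₂ h12
    apply AlgHom.ext
    intro x
    have := AlgHom.congr_fun h12 x
    exact (algebraMap L Ω).injective this
  have hFsurj : Function.Surjective F := by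
    intro σ
    have hmem : ∀ x, σ x ∈ ι.range := by
      intro x
      obtain ⟨l, hl⟩ := h σ x
      exact ⟨l, hl⟩
    let σ' : separableClosure k k' →ₐ[k] ι.range := σ.codRestrict ι.range hmem
    let e : L ≃ₐ[k] ι.range := AlgEquiv.ofInjectiveField ι
    refine ⟨(e.symm : ι.range →ₐ[k] L).comp σ', ?_⟩
    apply AlgHom.ext
    intro x
    show ι (e.symm (σ' x)) = σ x
    have h1 : (e (e.symm (σ' x)) : Ω) = ι (e.symm (σ' x)) := rfl
    rw [← h1, e.apply_symm_apply]
    rfl
  rw [Nat.card_eq_of_bijective F ⟨hFinj, hFsurj⟩]
  exact card_sepClosure_algHom k k' Ω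

end FT3

section KerInj

variable (A A' E : Type u) [CommRing A] [IsLocalRing A] [CommRing A'] [IsLocalRing A']
  [Algebra A A'] [IsLocalHom (algebraMap A A')] [Algebra.IsIntegral A A']
  [CommRing E] [IsLocalRing E] [Algebra A E] [IsLocalHom (algebraMap A E)]

theorem isAlgebraic_residueField : Algebra.IsAlgebraic (ResidueField A) (ResidueField A') :=
  ⟨fun x => by
    obtain ⟨a', rfl⟩ := residue_surjective x
    have hb : IsIntegral A a' := Algebra.IsIntegral.isIntegral a'
    exact (hb.map_of_comp_eq (residue A) (residue A') rfl).isAlgebraic⟩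

theorem toClosure_eq (e : E) : Brnch.toClosure E e =
    algebraMap (ResidueField E) (AlgebraicClosure (ResidueField E)) (residue E e) := rfl

theorem ker_injective_iff [Finite (HB A A' E)] :
    (∀ φ₁ φ₂ : HB A A' E, RingHom.ker φ₁.1 = RingHom.ker φ₂.1 → φ₁ = φ₂) ↔
      Nat.card (separableClosure (ResidueField A) (ResidueField A') →ₐ[ResidueField A]
          ResidueField E) =
        Module.finrank (ResidueField A)
          (separableClosure (ResidueField A) (ResidueField A')) := by
  haveI := isAlgebraic_residueField A A'
  haveI hfin : Finite (ResidueField A' →ₐ[ResidueField A] AlgebraicClosure (ResidueField E)) :=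
    Finite.of_surjective (theta A A' E) (theta_surjective A A' E)
  haveI : FiniteDimensional (ResidueField A)
      (separableClosure (ResidueField A) (ResidueField A')) :=
    finiteDimensional_sepClosure_of_finite (ResidueField A) (ResidueField A')
      (AlgebraicClosure (ResidueField E)) hfin
  constructor
  · intro hinj
    apply card_eq_of_forall_mem_range (ResidueField A) (ResidueField A') (ResidueField E)
      (AlgebraicClosure (ResidueField E))
    intro σ x
    by_contra hx
    obtain ⟨g, hg⟩ := exists_algEquiv_ne (ResidueField A) (ResidueField A') (ResidueField E)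
      (AlgebraicClosure (ResidueField E)) σ x hx
    obtain ⟨ψ, hψ⟩ := IsAlgClosed.surjective_domRestrict_of_isAlgebraic
      (K := ResidueField A) (L := separableClosure (ResidueField A) (ResidueField A'))
      (M := AlgebraicClosure (ResidueField E)) (E := ResidueField A') σ
    obtain ⟨φ, hφ⟩ := theta_surjective A A' E ψ
    let φ' : HB A A' E :=
      ⟨(g : AlgebraicClosure (ResidueField E) →+* AlgebraicClosure (ResidueField E)).comp φ.1,
        fun e => by
          rw [RingHom.comp_apply, φ.2 e, toClosure_eq]
          exact g.commutes _⟩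
    have hker : RingHom.ker φ'.1 = RingHom.ker φ.1 := by
      ext z
      rw [RingHom.mem_ker, RingHom.mem_ker]
      show g (φ.1 z) = 0 ↔ _
      exact EmbeddingLike.map_eq_zero_iff
    have heq := hinj φ' φ hker
    obtain ⟨a', ha'⟩ := residue_surjective ((x : separableClosure (ResidueField A)
      (ResidueField A')) : ResidueField A')
    have h1 : φ.1 (a' ⊗ₜ[A] (1 : E)) = σ x := by
      rw [← theta_residue, ha', hφ, ← hψ]
      rfl
    have h2 : φ'.1 (a' ⊗ₜ[A] (1 : E)) = g (σ x) := by
      show g (φ.1 _) = _
      rw [h1]
    rw [heq, h1] at h2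
    exact hg h2.symm
  · intro hcard φ₁ φ₂ hker
    apply theta_injective A A' E
    obtain ⟨τ₁, hτ₁⟩ := exists_factor_of_card_eq (ResidueField A) (ResidueField A')
      (ResidueField E) (AlgebraicClosure (ResidueField E)) hcard
      ((theta A A' E φ₁).domRestrict (separableClosure (ResidueField A) (ResidueField A')))
    have key : ∀ x : separableClosure (ResidueField A) (ResidueField A'),
        theta A A' E φ₁ (x : ResidueField A') = theta A A' E φ₂ (x : ResidueField A') := by
      intro x
      obtain ⟨a', ha'⟩ := residue_surjective (x : ResidueField A')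
      obtain ⟨e, he⟩ := residue_surjective (τ₁ x)
      have h0 : theta A A' E φ₁ (x : ResidueField A') =
          algebraMap (ResidueField E) (AlgebraicClosure (ResidueField E)) (τ₁ x) :=
        AlgHom.congr_fun hτ₁ x
      have h1 : φ₁.1 (a' ⊗ₜ[A] (1 : E) - (1 : A') ⊗ₜ[A] e) = 0 := by
        rw [map_sub, ← theta_residue, ha', ← IH.incR_apply, φ₁.2 e, toClosure_eq, he, h0,
          sub_self]
      have h2 : φ₂.1 (a' ⊗ₜ[A] (1 : E) - (1 : A') ⊗ₜ[A] e) = 0 := by
        have : (a' ⊗ₜ[A] (1 : E) - (1 : A') ⊗ₜ[A] e) ∈ RingHom.ker φ₁.1 := h1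
        rw [hker] at this
        exact this
      rw [map_sub, ← theta_residue, ha', ← IH.incR_apply, φ₂.2 e, toClosure_eq, he,
        sub_eq_zero] at h2
      rw [h2, h0]
    haveI hPI : IsPurelyInseparable (separableClosure (ResidueField A) (ResidueField A'))
        (ResidueField A') := separableClosure.isPurelyInseparable _ _
    apply IsPurelyInseparable.injective_restrictDomain
      (separableClosure (ResidueField A) (ResidueField A')) (ResidueField A') (ResidueField A)
      (AlgebraicClosure (ResidueField E))
    apply AlgHom.ext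
    intro x
    exact key x

end KerInj

end Groth.Agent.Helper15.SHCnt
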