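import Mathlib
import Groth.Prelude
import Groth.Agent.Lib.Helper15.SHCnt5
import Groth.Agent.Lib.Helper14.EtaleReduced

set_option autoImplicit false
set_option linter.unusedSectionVars false
set_option linter.unusedVariables false
set_option linter.style.haveILetI false

universe u

namespace Groth.Agent.Helper15.SHCnt

open IsLocalRing TensorProduct Groth.Agent.Helper1 Groth.Agent.Helper15

section CH

variable (A A' E : Type u) [CommRing A] [IsLocalRing A] [CommRing A'] [IsLocalRing A']
  [Algebra A A'] [IsLocalHom (algebraMap A A')] [Algebra.IsIntegral A A']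
  [CommRing E] [IsLocalRing E] [Algebra A E] [IsLocalHom (algebraMap A E)]
  [Algebra.IsAlgebraic (ResidueField A) (ResidueField E)]

/-- the points of `A' ⊗ E` over the canonical point of `E` are as many as the points of `A'` over
the canonical point of `A` -/
theorem card_hb : ENat.card (HB A A' E) = ENat.card (SHExt.H A A') := by
  rw [show ENat.card (HB A A' E) = _ from
    GB.card_homs_eq_card_homs_left A A' E (AlgebraicClosure (ResidueField E))
      (Brnch.toClosure E) ((Brnch.toClosure E).comp (algebraMap A E)) rfl]
  let j : AlgebraicClosure (ResidueField A) ≃ₐ[ResidueField A]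
      AlgebraicClosure (ResidueField E) :=
    IsAlgClosure.equiv (ResidueField A) _ _
  refine ENat.card_congr
    { toFun := fun ψ => ⟨(j.symm : AlgebraicClosure (ResidueField E) →+*
          AlgebraicClosure (ResidueField A)).comp ψ.1, ?_⟩
      invFun := fun ψ => ⟨(j : AlgebraicClosure (ResidueField A) →+*
          AlgebraicClosure (ResidueField E)).comp ψ.1, ?_⟩
      left_inv := ?_
      right_inv := ?_ }
  · refine RingHom.ext (fun a => ?_)
    have h1 := RingHom.congr_fun ψ.2 a
    rw [RingHom.comp_apply] at h1
    rw [RingHom.comp_apply, RingHom.comp_apply, h1, RingHom.comp_apply, toClosure_algebraMap]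
    show j.symm (algebraMap (ResidueField A) (AlgebraicClosure (ResidueField E)) (residue A a)) = _
    rw [j.symm.commutes]
    rfl
  · refine RingHom.ext (fun a => ?_)
    have h1 := RingHom.congr_fun ψ.2 a
    rw [RingHom.comp_apply] at h1
    rw [RingHom.comp_apply, RingHom.comp_apply, h1, RingHom.comp_apply, toClosure_algebraMap]
    show j (algebraMap (ResidueField A) (AlgebraicClosure (ResidueField A)) (residue A a)) = _
    rw [j.commutes]
  · intro ψ
    apply Subtype.ext
    refine RingHom.ext (fun a => ?_)
    show j (j.symm (ψ.1 a)) = ψ.1 a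
    rw [j.apply_symm_apply]
  · intro ψ
    apply Subtype.ext
    refine RingHom.ext (fun a => ?_)
    show j.symm (j (ψ.1 a)) = ψ.1 a
    rw [j.symm_apply_apply]

end CH

end Groth.Agent.Helper15.SHCnt
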