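import Mathlib
import Groth.Prelude
import Groth.Agent.Lib.Helper15.SHCnt6

set_option autoImplicit false
set_option linter.unusedSectionVars false
set_option linter.unusedVariables false
set_option linter.style.haveILetI false

universe u

namespace Groth.Agent.Helper15.SHCnt

open IsLocalRing TensorProduct Groth.Agent.Helper1 Groth.Agent.Helper15

theorem main (A S E : Type u) [CommRing A] [HenselianLocalRing A] [IsDomain A]
    [IsNoetherianRing A]
    [IsLocalRing (integralClosure A (FractionRing A))]
    [IsLocalHom (algebraMap A (integralClosure A (FractionRing A)))]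
    [CommRing S] [IsLocalRing S] [Algebra A S] [IsLocalHom (algebraMap A S)]
    [Hensel.IsStrictHenselization A S]
    [CommRing E] [IsLocalRing E] [Algebra A E] [IsLocalHom (algebraMap A E)]
    (hE : EGA4loc.IsEssentiallyEtale A E) [Algebra E S] [IsScalarTower A E S] :
    (∀ Q ∈ minimalPrimes S, Q = Ideal.map (algebraMap E S) (Q.comap (algebraMap E S))) ↔
      Nat.card (separableClosure (ResidueField A)
          (ResidueField (integralClosure A (FractionRing A))) →ₐ[ResidueField A]
          ResidueField E) =
        Module.finrank (ResidueField A)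
          (separableClosure (ResidueField A)
            (ResidueField (integralClosure A (FractionRing A)))) := by
  classical
  haveI : Module.Finite A E := FinEtTens.finite_of_essEt A E hE
  haveI : Algebra.Etale A E := FinEtTens.etale_of_essEt A E hE
  haveI : HenselianLocalRing E := IH.henselianLocalRing_of_finite A E
  haveI : IsLocalHom (algebraMap E S) := isLocalHom_tower A E S
  haveI : Hensel.IsStrictHenselization E S := isStrictHenselization_of_essEt A E S hE
  haveI : Hensel.IsHenselization E E := TP.isHenselization_self E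
  haveI : IsReduced E := Groth.Agent.Helper14.isReduced_of_etale A E
  haveI : IsNoetherianRing E := Algebra.EssFiniteType.isNoetherianRing A E
  haveI : IsNoetherianRing S :=
    (HFlat.isNoetherianRing_iff_of_isStrictHenselization A S).mp inferInstance
  have hfinA : (minimalPrimes A).Finite := minimalPrimes.finite_of_isNoetherianRing A
  haveI : Finite ↥(minimalPrimes E) := (minimalPrimes.finite_of_isNoetherianRing E).to_subtype
  haveI : Finite ↥(minimalPrimes S) := (minimalPrimes.finite_of_isNoetherianRing S).to_subtype
  haveI : Module.FaithfullyFlat E S := HFlat.faithfullyFlat_of_isStrictHenselization E S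
  have hflat : (algebraMap E S).Flat := RingHom.flat_algebraMap_iff.mpr inferInstance
  let π : ↥(minimalPrimes S) → ↥(minimalPrimes E) := fun Q =>
    ⟨Q.1.comap (algebraMap E S),
      Groth.Agent.Helper15.GUPunct.comap_mem_minimalPrimes_of_flat _ hflat Q.2⟩
  have hπsurj : Function.Surjective π := by
    rintro ⟨P, hP⟩
    haveI hPp : P.IsPrime := hP.1.1
    obtain ⟨Q, hQ⟩ := PrimeSpectrum.comap_surjective_of_faithfullyFlat (A := E) (B := S) ⟨P, hPp⟩
    obtain ⟨Q', hQ'min, hQ'le⟩ := Ideal.exists_minimalPrimes_le (I := (⊥ : Ideal S))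
      (J := Q.asIdeal) bot_le
    refine ⟨⟨Q', hQ'min⟩, Subtype.ext ?_⟩
    haveI : Q'.IsPrime := hQ'min.1.1
    have h1 : Q'.comap (algebraMap E S) ≤ P := by
      have : Q.asIdeal.comap (algebraMap E S) = P := congrArg PrimeSpectrum.asIdeal hQ
      rw [← this]
      exact Ideal.comap_mono hQ'le
    exact le_antisymm h1 (hP.2 ⟨inferInstance, bot_le⟩ h1)
  have hR : (∀ Q ∈ minimalPrimes S,
        Q = Ideal.map (algebraMap E S) (Q.comap (algebraMap E S))) ↔
      Function.Injective π := by
    constructor
    · intro h Q₁ Q₂ heq
      apply Subtype.ext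
      exact SHExt.injOn_of_eq_map_comap E S h Q₁.2 Q₂.2 (congrArg Subtype.val heq)
    · intro hinj
      apply SHExt.eq_map_comap_of_injOn E E S
      intro Q₁ h₁ Q₂ h₂ heq
      have := hinj (a₁ := ⟨Q₁, h₁⟩) (a₂ := ⟨Q₂, h₂⟩) (Subtype.ext heq)
      exact congrArg Subtype.val this
  -- counts
  haveI : Algebra.IsAlgebraic (ResidueField A) (ResidueField E) := inferInstance
  have c2 := SHExt.card_minimalPrimes_shens_integralClosure A S hfinA (FractionRing A)
  have cE := card_minimalPrimes_eq_card_maximalSpectrum_tensor A E (FractionRing A)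
  have cH := card_hb A (integralClosure A (FractionRing A)) E
  haveI : Finite (SHExt.H A (integralClosure A (FractionRing A))) := by
    rw [← ENat.card_lt_top, ← c2]
    exact ENat.card_lt_top_of_finite
  haveI : Finite (HB A (integralClosure A (FractionRing A)) E) := by
    rw [← ENat.card_lt_top, cH]
    exact ENat.card_lt_top_of_finite
  haveI : Finite (MaximalSpectrum (integralClosure A (FractionRing A) ⊗[A] E)) := by
    rw [← ENat.card_lt_top, ← cE]
    exact ENat.card_lt_top_of_finite
  -- the kernel map
  letI algEB : Algebra E (integralClosure A (FractionRing A) ⊗[A] E) :=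
    Algebra.TensorProduct.rightAlgebra
  have halg : algebraMap E (integralClosure A (FractionRing A) ⊗[A] E) =
      IH.incR A (integralClosure A (FractionRing A)) E := rfl
  haveI : Algebra.IsIntegral E (integralClosure A (FractionRing A) ⊗[A] E) :=
    algebraMap_isIntegral_iff.mp
      (halg ▸ IH.incR_isIntegral A (integralClosure A (FractionRing A)) E)
  let eHB : HB A (integralClosure A (FractionRing A)) E ≃
      SHExt.H E (integralClosure A (FractionRing A) ⊗[A] E) :=
    { toFun := fun φ => ⟨φ.1, RingHom.ext (fun e => φ.2 e)⟩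
      invFun := fun ψ => ⟨ψ.1, fun e => RingHom.congr_fun ψ.2 e⟩
      left_inv := fun _ => rfl
      right_inv := fun _ => rfl }
  let κ : HB A (integralClosure A (FractionRing A)) E →
      MaximalSpectrum (integralClosure A (FractionRing A) ⊗[A] E) := fun φ =>
    ⟨RingHom.ker φ.1, SHExt.ker_isMaximal E _ (eHB φ)⟩
  have hκsurj : Function.Surjective κ := by
    rintro ⟨M, hM⟩
    haveI := hM
    obtain ⟨ψ, hψ⟩ := SHExt.exists_hom_ker_eq E (integralClosure A (FractionRing A) ⊗[A] E) M
    exact ⟨eHB.symm ψ, MaximalSpectrum.ext hψ⟩
  have hκπ : Function.Injective κ ↔ Function.Injective π := by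
    rw [SHExt.injective_iff_card_eq κ hκsurj, SHExt.injective_iff_card_eq π hπsurj, cH, c2, cE]
  have hK : Function.Injective κ ↔
      (∀ φ₁ φ₂ : HB A (integralClosure A (FractionRing A)) E,
        RingHom.ker φ₁.1 = RingHom.ker φ₂.1 → φ₁ = φ₂) := by
    constructor
    · intro hinj φ₁ φ₂ hker
      exact hinj (MaximalSpectrum.ext hker)
    · intro h φ₁ φ₂ heq
      exact h φ₁ φ₂ (congrArg MaximalSpectrum.asIdeal heq)
  rw [hR, ← hκπ, hK]
  exact ker_injective_iff A (integralClosure A (FractionRing A)) E

end Groth.Agent.Helper15.SHCnt
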