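import Mathlib
import Groth.Prelude
import Groth.Agent.Lib.Helper15.AffDesc3
import Groth.Agent.Lib.Helper15.AlgSpResidual
import Groth.Agent.Lib.Helper15.AlgSpUnram
import Groth.Agent.Lib.Helper15.AlgSpPoints
import Groth.Agent.Lib.Helper15.AlgSpFibre
import Groth.Agent.Lib.Helper15.AlgSpVal
import Groth.Agent.Lib.Helper15.NormSN
import Groth.Agent.Lib.Helper15.AlgSpLocPRep
import Groth.Agent.Lib.Helper14.NerA
import Groth.Agent.Lib.Helper19.DiagConv
import Groth.Agent.Lib.Helper19.ConnBC.Main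
import Groth.Agent.Lib.Helper16.AlgSp.LocPEngine
import Groth.Agent.Lib.Helper16.AlgSp.FlatSp

set_option autoImplicit false
set_option backward.isDefEq.respectTransparency false
universe u
open CategoryTheory CategoryTheory.Limits AlgebraicGeometry MorphismProperty Opposite
open AlgSp

namespace Groth.Agent.Helper15.SchDenseFac

variable {S : Scheme.{u}}

/-- A surjective, flat, locally finitely presented morphism of algebraic spaces is an epimorphism
of fppf sheaves. -/
theorem epi_of_fppf {X Z : Sp S} (hX : IsAlgSpace X) (hZ : IsAlgSpace Z) (g : X ⟶ Z)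
    (hgs : IsSurjectiveMor g) (hgf : LocP @Flat g)
    (hgp : LocP @LocallyOfFinitePresentation g) : Epi g := by
  obtain ⟨U, a, hae, has⟩ := hX.atlas
  haveI : Epi (a ≫ g) := Groth.Agent.Helper15.epi_of_locP_fppf_surjective hZ (a ≫ g)
    (Groth.Agent.Helper15.locP_precomp_etale g hgp a hae)
    (Groth.Agent.Helper15.locP_precomp_etale g hgf a hae)
    (Groth.Agent.Helper19.ConnBC.isSurjectiveMor_comp a g
      (Groth.Agent.Helper15.isSurjectiveMor_of_repWith_surjective a has) hgs)
  exact epi_of_epi a g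


/-- Two maps from a scheme chart to a sheaf `Y` separated over `B`, agreeing on a
scheme theoretically dominant open, are equal. -/
theorem eq_of_eq_on_dominant_open {Y B : Sp S} (pY : Y ⟶ B) (hY : IsSeparatedMor pY)
    {W : Over S} (O : W.left.Opens) [IsSchemeTheoreticallyDominant O.ι]
    (a b : (yon S).obj W ⟶ Y) (hab : a ≫ pY = b ≫ pY)
    (h : (yon S).map (Over.homMk O.ι rfl : Over.mk (O.ι ≫ W.hom) ⟶ W) ≫ a =
      (yon S).map (Over.homMk O.ι rfl : Over.mk (O.ι ≫ W.hom) ⟶ W) ≫ b) : a = b := by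
  set o := (yon S).map (Over.homMk O.ι rfl : Over.mk (O.ι ≫ W.hom) ⟶ W) with ho
  let c : (yon S).obj W ⟶ pullback pY pY := pullback.lift a b hab
  have hrep := hY.1
  have sqE := hrep.isPullback c
  have hi : IsClosedImmersion (hrep.snd c).left := hY.2 c _ _ sqE
  -- the open factors through the equaliser
  have hcomm : (o ≫ a) ≫ pullback.diagonal pY = o ≫ c := by
    apply pullback.hom_ext
    · rw [Category.assoc, Category.assoc, pullback.diagonal_fst, Category.comp_id]
      show o ≫ a = o ≫ pullback.lift a b hab ≫ pullback.fst pY pY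
      rw [pullback.lift_fst]
    · rw [Category.assoc, Category.assoc, pullback.diagonal_snd, Category.comp_id]
      show o ≫ a = o ≫ pullback.lift a b hab ≫ pullback.snd pY pY
      rw [pullback.lift_snd, h]
  obtain ⟨j, hj⟩ := (yon S).map_surjective (sqE.lift (o ≫ a) o hcomm)
  have hj2 : j ≫ hrep.snd c = (Over.homMk O.ι rfl : Over.mk (O.ι ≫ W.hom) ⟶ W) := by
    apply (yon S).map_injective
    rw [(yon S).map_comp, hj, sqE.lift_snd]
  have hj3 : j.left ≫ (hrep.snd c).left = O.ι := by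
    rw [← Over.comp_left, hj2]; rfl
  have hker : (hrep.snd c).left.ker = ⊥ := by
    rw [eq_bot_iff]
    have h1 := Scheme.Hom.le_ker_comp j.left (hrep.snd c).left
    rw [hj3, (IsSchemeTheoreticallyDominant.ker_eq_bot O.ι)] at h1
    exact h1
  haveI : IsIso (hrep.snd c).left := (IsClosedImmersion.isIso_iff_ker_eq_bot).2 hker
  haveI : IsIso ((Over.forget S).map (hrep.snd c)) := this
  haveI : IsIso (hrep.snd c) := isIso_of_reflects_iso (hrep.snd c) (Over.forget S)
  have hc : c = inv ((yon S).map (hrep.snd c)) ≫ hrep.fst c ≫ pullback.diagonal pY := by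
    rw [sqE.w, IsIso.inv_hom_id_assoc]
  have ha : a = c ≫ pullback.fst pY pY := (pullback.lift_fst _ _ _).symm
  have hb : b = c ≫ pullback.snd pY pY := (pullback.lift_snd _ _ _).symm
  rw [ha, hb, hc]
  simp only [Category.assoc, pullback.diagonal_fst, pullback.diagonal_snd]


/-- S10129: factoring through an fppf morphism can be checked over a quasi-compact scheme
theoretically dense open of the target. -/
theorem exists_factor {B X Y Z : Sp S} (hX : IsAlgSpace X) (hZ : IsAlgSpace Z)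
    (pX : X ⟶ B) (pY : Y ⟶ B) (pZ : Z ⟶ B)
    (f : X ⟶ Y) (g : X ⟶ Z) (hf : f ≫ pY = pX) (hg : g ≫ pZ = pX)
    (hY : IsSeparatedMor pY)
    (hgs : IsSurjectiveMor g) (hgf : LocP @Flat g) (hgp : LocP @LocallyOfFinitePresentation g)
    (V : Sp S) (v : V ⟶ Z) (hv : IsSchDense v) (hvq : IsQuasiCompactMor v)
    (hfac : ∃ φ : V ⟶ Y, pullback.fst g v ≫ f = pullback.snd g v ≫ φ) :
    ∃ h : Z ⟶ Y, g ≫ h = f := by
  obtain ⟨hvo, V₀, φ₀, W₀, fstW, hφe, hφs, sqW, hdense⟩ := hv
  obtain ⟨φ, hφ⟩ := hfac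
  haveI : Epi g := epi_of_fppf hX hZ g hgs hgf hgp
  refine Groth.Agent.Helper15.AffDesc.exists_desc_of_epi g f (fun T x y hxy => ?_)
  have hR : IsAlgSpace (pullback g g) :=
    Groth.Agent.Helper15.isAlgSpace_of_isPullback hZ.diag hX hX (IsPullback.of_hasPullback g g)
  suffices hab : pullback.fst g g ≫ f = pullback.snd g g ≫ f by
    have h1 : pullback.lift x y hxy ≫ pullback.fst g g ≫ f = x ≫ f := by
      rw [pullback.lift_fst_assoc]
    have h2 : pullback.lift x y hxy ≫ pullback.snd g g ≫ f = y ≫ f := by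
      rw [pullback.lift_snd_assoc]
    rw [← h1, ← h2, hab]
  -- flatness of `R ⟶ Z`
  have hρ : LocP @Flat (pullback.fst g g ≫ g) :=
    Groth.Agent.Helper16.AS.locP_comp Groth.Agent.Helper15.goodP_flat
      Groth.Agent.Helper16.AS.srcEtLoc_flat hR hX hZ _ _
      (Groth.Agent.Helper16.AS.locP_of_isPullback Groth.Agent.Helper15.goodP_flat
        Groth.Agent.Helper16.AS.srcEtLoc_flat hX hZ hX (IsPullback.of_hasPullback g g).flip hgf) hgf
  -- the chart
  have hR' : IsAlgSpace (pullback (pullback.fst g g ≫ g) φ₀) :=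
    Groth.Agent.Helper15.isAlgSpace_of_isPullback hZ.diag hR (IsAlgSpace.yon_obj V₀)
      (IsPullback.of_hasPullback _ _)
  obtain ⟨W', q, hqe, hqs⟩ := hR'.atlas
  have hfe : RepWith @Etale (pullback.fst (pullback.fst g g ≫ g) φ₀) :=
    (RepWith @Etale).of_isPullback (IsPullback.of_hasPullback _ _).flip hφe
  have hfs : RepWith @Surjective (pullback.fst (pullback.fst g g ≫ g) φ₀) :=
    (RepWith @Surjective).of_isPullback (IsPullback.of_hasPullback _ _).flip hφs
  set e := q ≫ pullback.fst (pullback.fst g g ≫ g) φ₀ with he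
  have hee : RepWith @Etale e := (RepWith @Etale).comp_mem _ _ hqe hfe
  have hes : RepWith @Surjective e := (RepWith @Surjective).comp_mem _ _ hqs hfs
  haveI : Epi e := Groth.Agent.Helper15.Norm.epi_of_etale_surjective e hee hes
  obtain ⟨κ, hκ⟩ := (yon S).map_surjective (q ≫ pullback.snd (pullback.fst g g ≫ g) φ₀)
  have hcomm : e ≫ (pullback.fst g g ≫ g) = (yon S).map κ ≫ φ₀ := by
    rw [hκ, he, Category.assoc, Category.assoc]
    congr 1
    exact pullback.condition
  haveI hκf : Flat κ.left := hρ e φ₀ κ hee hφe hcomm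
  -- density of the pulled back open
  haveI : IsSchemeTheoreticallyDominant W₀.ι :=
    Groth.Agent.Helper14.Ner.isSchemeTheoreticallyDominant_ι hdense
  haveI : QuasiCompact W₀.ι :=
    Groth.Agent.Helper19.DiagConv.quasiCompact_of_isQuasiCompactMor_yon_map
      (Over.homMk W₀.ι rfl : Over.mk (W₀.ι ≫ V₀.hom) ⟶ V₀)
      (Groth.Agent.Helper15.isQuasiCompactMor_of_isPullback sqW hvq)
  haveI : IsSchemeTheoreticallyDominant (κ.left ⁻¹ᵁ W₀).ι :=
    IsSchemeTheoreticallyDominant.of_isPullback (isPullback_morphismRestrict κ.left W₀)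
  rw [← cancel_epi e]
  refine eq_of_eq_on_dominant_open pY hY (κ.left ⁻¹ᵁ W₀) _ _ ?_ ?_
  · simp only [Category.assoc, hf]
    rw [← hg, pullback.condition_assoc]
  · set o := (yon S).map (Over.homMk (κ.left ⁻¹ᵁ W₀).ι rfl :
      Over.mk ((κ.left ⁻¹ᵁ W₀).ι ≫ W'.hom) ⟶ W') with ho
    -- the map to `V`
    let r : Over.mk ((κ.left ⁻¹ᵁ W₀).ι ≫ W'.hom) ⟶ Over.mk (W₀.ι ≫ V₀.hom) :=
      Over.homMk (κ.left ∣_ W₀) (by
        show (κ.left ∣_ W₀) ≫ W₀.ι ≫ V₀.hom = (κ.left ⁻¹ᵁ W₀).ι ≫ W'.hom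
        rw [morphismRestrict_ι_assoc, Over.w κ])
    have hr : r ≫ (Over.homMk W₀.ι rfl : Over.mk (W₀.ι ≫ V₀.hom) ⟶ V₀) =
        (Over.homMk (κ.left ⁻¹ᵁ W₀).ι rfl : Over.mk ((κ.left ⁻¹ᵁ W₀).ι ≫ W'.hom) ⟶ W') ≫ κ := by
      apply Over.OverMorphism.ext
      simp only [Over.comp_left, Over.homMk_left, r]
      exact morphismRestrict_ι κ.left W₀
    let n := (yon S).map r ≫ fstW
    have hn : n ≫ v = o ≫ e ≫ pullback.fst g g ≫ g := by
      simp only [n, Category.assoc]
      rw [sqW.w, ← (yon S).map_comp_assoc, hr, (yon S).map_comp_assoc, ← hcomm]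
    have key : ∀ m : (yon S).obj (Over.mk ((κ.left ⁻¹ᵁ W₀).ι ≫ W'.hom)) ⟶ X,
        m ≫ g = n ≫ v → m ≫ f = n ≫ φ := by
      intro m hm
      have h1 : pullback.lift m n hm ≫ pullback.fst g v ≫ f = m ≫ f := by
        rw [pullback.lift_fst_assoc]
      have h2 : pullback.lift m n hm ≫ pullback.snd g v ≫ φ = n ≫ φ := by
        rw [pullback.lift_snd_assoc]
      rw [← h1, hφ, h2]
    have k1 := key (o ≫ e ≫ pullback.fst g g) (by simp only [Category.assoc]; exact hn.symm)
    have k2 := key (o ≫ e ≫ pullback.snd g g) (by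
      simp only [Category.assoc]; rw [← pullback.condition]; exact hn.symm)
    simp only [Category.assoc] at k1 k2 ⊢
    rw [k1, k2]

end Groth.Agent.Helper15.SchDenseFac
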