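import Mathlib
import Groth.Prelude
import Groth.Agent.Lib.Helper15.AlgSpCD5
import Groth.Agent.Lib.Helper15.AlgSpEtCl
import Groth.Agent.Lib.Helper15.AlgSpQc
import Groth.Agent.Lib.Helper16.AlgSp.RedSp

set_option autoImplicit false
set_option backward.isDefEq.respectTransparency false
universe u
open CategoryTheory CategoryTheory.Limits AlgebraicGeometry MorphismProperty Opposite
open AlgSp

namespace Groth.Agent.Helper15.SchImRed

variable {S : Scheme.{u}}

/-- An algebraic space etale over a reduced algebraic space is reduced. -/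
theorem isReducedSp_of_isEtaleMor {W Z : Sp S} (hW : IsAlgSpace W) (e : W ⟶ Z) (he : IsEtaleMor e)
    (hZ : IsReducedSp Z) : IsReducedSp W := by
  obtain ⟨U, q, hqe, hqs⟩ := hW.atlas
  exact ⟨U, q, hqe, hqs,
    Groth.Agent.Helper16.AS.isReduced_of_etale_of_isReducedSp hZ (q ≫ e) (he q hqe)⟩

/-- S12193: for a reduced source the scheme theoretic image commutes with etale base change. -/
theorem isSchImage_etale_base_change {X Y Z V XV ZV : Sp S} (hX : IsAlgSpace X) (hY : IsAlgSpace Y)
    (hZs : IsAlgSpace Z) (hV : IsAlgSpace V) (hXV : IsAlgSpace XV) (hZV : IsAlgSpace ZV)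
    (f : X ⟶ Y) (i : Z ⟶ Y) (hXr : IsReducedSp X) (hZ : IsSchImage f i) (b : V ⟶ Y)
    (hb : IsEtaleMor b) (f₁ : XV ⟶ X) (fV : XV ⟶ V) (i₁ : ZV ⟶ Z) (iV : ZV ⟶ V)
    (sqX : IsPullback f₁ fV f b) (sqZ : IsPullback i₁ iV i b) :
    IsSchImage fV iV := by
  obtain ⟨hicl, hrange, hZred⟩ :=
    Groth.Agent.Helper15.isRedInduced_of_isSchImage_of_isReducedSp hY f i hXr hZ
  obtain ⟨-, ⟨f', hf'⟩, -⟩ := hZ
  have hiVcl : RepWith @IsClosedImmersion iV := (RepWith @IsClosedImmersion).of_isPullback sqZ hicl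
  have hi₁e : IsEtaleMor i₁ :=
    Groth.Agent.Helper15.isEtaleMor_of_isPullback hV hY hZs b i i₁ iV sqZ hb
  have hZVred : IsReducedSp ZV := isReducedSp_of_isEtaleMor hZV i₁ hi₁e hZred
  refine ⟨hiVcl, ⟨sqZ.lift (f₁ ≫ f') fV (by rw [Category.assoc, hf', sqX.w]), sqZ.lift_snd _ _ _⟩, ?_⟩
  intro Z' i' hZ' hi'cl ⟨f'', hf''⟩
  refine (Groth.Agent.Helper15.factors_iff_of_isReducedSp i' hi'cl hZVred iV).2 ?_
  -- the image of `iV` lies in the closure of the image of `fV`
  have hbopen : IsOpenMap (Points.map b) :=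
    Groth.Agent.Helper15.isOpenMor_of_isUnivOpenMor hY b
      (Groth.Agent.Helper15.isUnivOpenMor_of_isEtaleMor hV b hb)
  have hclosed : IsClosed (Set.range (Points.map i')) :=
    (Groth.Agent.Helper15.repWith_isClosedImmersion_iff_isClosed_range hV i'
      (repWith_mono (fun _ _ g hg => by
        haveI : IsClosedImmersion g := hg; exact inferInstance) hi'cl)).1 hi'cl
  have hsub : Set.range (Points.map fV) ⊆ Set.range (Points.map i') := by
    rintro _ ⟨x, rfl⟩
    exact ⟨Points.map f'' x, by rw [← Points.map_comp, hf'']⟩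
  rintro _ ⟨z, rfl⟩
  apply closure_minimal hsub hclosed
  -- `iV z` lies in the preimage of the closure of the image of `f`
  have hz : Points.map b (Points.map iV z) ∈ closure (Set.range (Points.map f)) := by
    rw [← hrange, ← Points.map_comp, ← sqZ.w, Points.map_comp]
    exact ⟨_, rfl⟩
  have hpre : Points.map b ⁻¹' closure (Set.range (Points.map f)) ⊆
      closure (Points.map b ⁻¹' Set.range (Points.map f)) :=
    (hbopen.preimage_closure_subset_closure_preimage)
  refine closure_mono ?_ (hpre hz)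
  rintro v ⟨x, hx⟩
  obtain ⟨p, -, hp⟩ := Groth.Agent.Helper15.exists_point_of_isPullback sqX x v hx
  exact ⟨p, hp⟩

end Groth.Agent.Helper15.SchImRed
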