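import Mathlib.AlgebraicGeometry.Morphisms.SchemeTheoreticallyDominant
import Mathlib.AlgebraicGeometry.IdealSheaf.Functorial

/-!
# Flat base change of scheme theoretic images and effective descent of closed subschemes

Scheme-level core (Mathlib only): `toImage` of a quasi-compact morphism is scheme theoretically
dominant, kernels of quasi-compact morphisms commute with flat base change, and a closed subscheme
of `T''` which is invariant for a flat quasi-compact `c : T'' ⟶ T` is the preimage of its scheme
theoretic image in `T`.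
-/

set_option autoImplicit false
universe u
open CategoryTheory CategoryTheory.Limits AlgebraicGeometry

namespace Groth.Agent.Helper15

instance isSchemeTheoreticallyDominant_toImage {X Y : Scheme.{u}} (f : X ⟶ Y) [QuasiCompact f] :
    IsSchemeTheoreticallyDominant f.toImage := by
  rw [isSchemeTheoreticallyDominant_iff]
  refine Scheme.IdealSheafData.ext_of_iSup_eq_top
    (fun U : Y.affineOpens => ⟨f.imageι ⁻¹ᵁ U.1, U.2.preimage f.imageι⟩) ?_ ?_
  · rw [eq_top_iff]
    rintro x -
    obtain ⟨_, ⟨U, hU, rfl⟩, hxU, -⟩ :=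
      Y.isBasis_affineOpens.exists_subset_of_mem_open (Set.mem_univ (f.imageι x)) isOpen_univ
    exact TopologicalSpace.Opens.mem_iSup.2 ⟨⟨U, hU⟩, hxU⟩
  · intro U
    rw [Scheme.Hom.ker_apply]
    simp only [Scheme.IdealSheafData.ideal_bot, Pi.bot_apply]
    exact (RingHom.injective_iff_ker_eq_bot _).1 (f.toImage_app_injective U)

/-- Flat base change for the kernel (scheme theoretic image) of a quasi-compact morphism. -/
theorem ker_of_isPullback_of_flat {X Y X' Y' : Scheme.{u}} {f : X ⟶ Y} {g : Y' ⟶ Y}
    {pX : X' ⟶ X} {pY : X' ⟶ Y'} (H : IsPullback pX pY f g) [QuasiCompact f] [Flat g] :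
    pY.ker = f.ker.comap g := by
  let j := f.imageι
  let t := f.toImage
  have htj : t ≫ j = f := f.toImage_imageι
  let q : X' ⟶ pullback g j := pullback.lift pY (pX ≫ t) (by
    rw [Category.assoc, htj, H.w])
  have hq1 : q ≫ pullback.fst g j = pY := pullback.lift_fst _ _ _
  have hq2 : q ≫ pullback.snd g j = pX ≫ t := pullback.lift_snd _ _ _
  have hB : IsPullback q pX (pullback.snd g j) t := by
    refine IsPullback.of_right ?_ hq2 (IsPullback.of_hasPullback g j)
    rw [hq1, htj]
    exact H.flip
  have : IsSchemeTheoreticallyDominant q := IsSchemeTheoreticallyDominant.of_isPullback hB.flip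
  rw [← hq1, Scheme.Hom.ker_comp, Scheme.Hom.ker_eq_bot q, Scheme.IdealSheafData.map_bot,
    Scheme.IdealSheafData.ker_fst_of_isClosedImmersion, Scheme.IdealSheafData.ker_subschemeι]

/-- Core of effective descent for closed subschemes: if `W ⊆ T''` is a closed subscheme which is
invariant under the equivalence relation defined by a flat `c : T'' ⟶ T` (with `W ⟶ T` quasi-compact),
then `W` is the preimage of the scheme theoretic image of `W` in `T`. -/
theorem isPullback_toImage_of_flat {T T'' W P : Scheme.{u}} (c : T'' ⟶ T) [Flat c] (i : W ⟶ T'')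
    [IsClosedImmersion i] [QuasiCompact (i ≫ c)] {p₁ : P ⟶ W} {p₂ : P ⟶ T''}
    (H : IsPullback p₁ p₂ (i ≫ c) c) (l : P ⟶ W) (hl : l ≫ i = p₂) :
    IsPullback i (i ≫ c).toImage c (i ≫ c).imageι := by
  refine isPullback_of_isClosedImmersion i (i ≫ c).imageι (i ≫ c).toImage c
    (i ≫ c).toImage_imageι.symm ?_
  rw [Scheme.IdealSheafData.ker_subschemeι]
  apply le_antisymm
  · rw [Scheme.Hom.ker_comp]
    exact Scheme.IdealSheafData.comap_map_le _ _
  · rw [← ker_of_isPullback_of_flat H, ← hl]
    exact Scheme.Hom.le_ker_comp _ _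

end Groth.Agent.Helper15
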