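import Mathlib

set_option autoImplicit false
universe u
open CategoryTheory AlgebraicGeometry

namespace Groth.Agent.Helper15

/-- If a field `K` is a finitely generated algebra over a subdomain `D`, then some localization
`D[1/y]` is a field: every nonzero `a : D` divides a power of `y`. -/
theorem exists_forall_dvd_pow_of_finiteType_field (D K : Type*) [CommRing D] [IsDomain D] [Field K]
    [Algebra D K] [Algebra.FiniteType D K] (hinj : Function.Injective (algebraMap D K)) :
    ∃ y : D, y ≠ 0 ∧ ∀ a : D, a ≠ 0 → ∃ (b : D) (n : ℕ), a * b = y ^ n := by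
  haveI : FaithfulSMul D K := (faithfulSMul_iff_algebraMap_injective D K).2 hinj
  -- K is algebraic over D
  let F := FractionRing D
  letI : Algebra F K := (IsFractionRing.lift (K := F) hinj).toAlgebra
  haveI : IsScalarTower D F K := IsScalarTower.of_algebraMap_eq (fun x => by
    change algebraMap D K x = IsFractionRing.lift hinj (algebraMap D F x)
    rw [IsFractionRing.lift_algebraMap])
  haveI : Algebra.FiniteType F K := Algebra.FiniteType.of_restrictScalars_finiteType D F K
  haveI : Module.Finite F K := finite_of_finite_type_of_isJacobsonRing F K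
  haveI : Algebra.IsAlgebraic F K := Algebra.IsAlgebraic.of_finite F K
  haveI : Algebra.IsAlgebraic D K := (IsFractionRing.comap_isAlgebraic_iff (A := D) (K := F)).2 ‹_›
  obtain ⟨s, hs⟩ := (Algebra.FiniteType.out : (⊤ : Subalgebra D K).FG)
  obtain ⟨y, hy0, hy⟩ := Algebra.IsAlgebraic.exists_integral_multiples D s
  refine ⟨y, hy0, ?_⟩
  have hyK : algebraMap D K y ≠ 0 := fun h => hy0 (hinj (h.trans (map_zero _).symm))
  have hunit : IsUnit (algebraMap D K y) := isUnit_iff_ne_zero.2 hyK
  let D' := Localization.Away y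
  letI : Algebra D' K := (IsLocalization.Away.lift (S := D') y (g := algebraMap D K) hunit).toAlgebra
  have hlift : ∀ x : D, algebraMap D' K (algebraMap D D' x) = algebraMap D K x := fun x =>
    IsLocalization.Away.lift_eq y hunit x
  haveI : IsScalarTower D D' K := IsScalarTower.of_algebraMap_eq (fun x => (hlift x).symm)
  have hinjD : Function.Injective (algebraMap D D') :=
    IsLocalization.injective D' (powers_le_nonZeroDivisors_of_noZeroDivisors hy0)
  have hinj' : Function.Injective (algebraMap D' K) := by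
    change Function.Injective (IsLocalization.Away.lift (S := D') y (g := algebraMap D K) hunit)
    rw [IsLocalization.Away.lift, IsLocalization.lift_injective_iff]
    intro a b
    rw [hinj.eq_iff, hinjD.eq_iff]
  -- K is integral over D'
  have hint : ∀ x : K, IsIntegral D' x := by
    have hle : Algebra.adjoin D (s : Set K) ≤ (integralClosure D' K).restrictScalars D := by
      apply Algebra.adjoin_le
      intro z hz
      change IsIntegral D' z
      have h1 : IsIntegral D' (y • z) := (hy z hz).tower_top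
      have h2 : z = algebraMap D' K (IsLocalization.Away.invSelf y) * (y • z) := by
        rw [Algebra.smul_def, ← hlift y, ← mul_assoc, ← map_mul]
        have : IsLocalization.Away.invSelf y * algebraMap D D' y = 1 := by
          rw [mul_comm]; exact IsLocalization.Away.mul_invSelf y
        rw [this, map_one, one_mul]
      rw [h2]
      exact IsIntegral.mul isIntegral_algebraMap h1
    intro x
    have : x ∈ Algebra.adjoin D (s : Set K) := by rw [hs]; trivial
    exact hle this
  haveI : Algebra.IsIntegral D' K := ⟨hint⟩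
  have hfield : IsField D' := isField_of_isIntegral_of_isField hinj' (Field.toIsField K)
  intro a ha
  have ha' : algebraMap D D' a ≠ 0 := fun h => ha (hinjD (h.trans (map_zero _).symm))
  obtain ⟨c, hc⟩ := hfield.mul_inv_cancel ha'
  obtain ⟨n, b, hb⟩ := IsLocalization.Away.surj y c
  refine ⟨b, n, hinjD ?_⟩
  rw [map_mul, map_pow, ← hb, ← mul_assoc, hc, one_mul]


theorem exists_basicOpen_of_finiteType_to_field {A K : Type*} [CommRing A] [Field K]
    (φ : A →+* K) (hφ : φ.FiniteType) :
    ∃ f : A, φ f ≠ 0 ∧ ∀ (𝔮 : Ideal A), 𝔮.IsPrime → RingHom.ker φ ≤ 𝔮 → f ∉ 𝔮 →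
      𝔮 = RingHom.ker φ := by
  haveI : (RingHom.ker φ).IsPrime := RingHom.ker_isPrime φ
  let D := A ⧸ RingHom.ker φ
  letI : Algebra D K := (RingHom.kerLift φ).toAlgebra
  have hinj : Function.Injective (algebraMap D K) := RingHom.kerLift_injective φ
  haveI : Algebra.FiniteType D K := by
    have h1 : ((RingHom.kerLift φ).comp (Ideal.Quotient.mk (RingHom.ker φ))).FiniteType := by
      have : (RingHom.kerLift φ).comp (Ideal.Quotient.mk (RingHom.ker φ)) = φ := by
        ext a; rfl
      rw [this]; exact hφ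
    exact RingHom.FiniteType.of_comp_finiteType h1
  obtain ⟨y, hy0, hy⟩ := exists_forall_dvd_pow_of_finiteType_field D K hinj
  obtain ⟨f, rfl⟩ := Ideal.Quotient.mk_surjective y
  refine ⟨f, ?_, ?_⟩
  · intro h
    exact hy0 ((Ideal.Quotient.eq_zero_iff_mem).2 ((RingHom.mem_ker).2 h))
  · intro 𝔮 h𝔮 hle hf
    refine le_antisymm (fun a ha => ?_) hle
    by_contra hak
    have ha0 : (Ideal.Quotient.mk (RingHom.ker φ) a) ≠ 0 := fun h =>
      hak ((Ideal.Quotient.eq_zero_iff_mem).1 h)
    obtain ⟨b, n, hb⟩ := hy _ ha0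
    obtain ⟨b', rfl⟩ := Ideal.Quotient.mk_surjective b
    rw [← map_mul, ← map_pow, Ideal.Quotient.eq] at hb
    have h1 : a * b' - f ^ n ∈ 𝔮 := hle hb
    have h2 : f ^ n ∈ 𝔮 := by
      have := 𝔮.sub_mem (𝔮.mul_mem_right b' ha) h1
      simpa using this
    exact hf (h𝔮.mem_of_pow_mem n h2)


theorem exists_opens_of_lft_field_Spec {A : CommRingCat.{u}} {K : Type u} [Field K]
    (φ : A ⟶ CommRingCat.of K) [LocallyOfFiniteType (Spec.map φ)]
    (pt : Spec (CommRingCat.of K)) :
    ∃ O : (Spec A).Opens, (Spec.map φ) pt ∈ O ∧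
      ∀ y ∈ O, (Spec.map φ) pt ⤳ y → y = (Spec.map φ) pt := by
  have hφ : φ.hom.FiniteType := (HasRingHomProperty.Spec_iff (P := @LocallyOfFiniteType)).1 ‹_›
  obtain ⟨f, hf0, hf⟩ := exists_basicOpen_of_finiteType_to_field φ.hom hφ
  have hx₀ : ((Spec.map φ) pt : PrimeSpectrum A).asIdeal = RingHom.ker φ.hom := by
    change (PrimeSpectrum.comap φ.hom pt).asIdeal = _
    rw [PrimeSpectrum.comap_asIdeal]
    have : pt.asIdeal = ⊥ := by
      letI : Field (CommRingCat.of K) := ‹Field K›
      exact Ideal.eq_bot_of_prime pt.asIdeal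
    rw [this]; rfl
  refine ⟨PrimeSpectrum.basicOpen f, ?_, ?_⟩
  · change f ∉ ((Spec.map φ) pt : PrimeSpectrum A).asIdeal
    rw [hx₀, RingHom.mem_ker]; exact hf0
  · intro y hy hs
    have hle : ((Spec.map φ) pt : PrimeSpectrum A).asIdeal ≤ (y : PrimeSpectrum A).asIdeal :=
      (PrimeSpectrum.le_iff_specializes ((Spec.map φ) pt : PrimeSpectrum A) y).2 hs
    have := hf y.asIdeal y.isPrime (by rw [← hx₀]; exact hle) hy
    apply PrimeSpectrum.ext
    rw [this, hx₀]


/-- The image point of a locally finite type morphism from the spectrum of a field is closed in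
some open neighbourhood. -/
theorem exists_opens_of_lft_field {U : Scheme.{u}} {K : Type u} [Field K]
    (g : Spec (CommRingCat.of K) ⟶ U) [LocallyOfFiniteType g] (pt : Spec (CommRingCat.of K)) :
    ∃ U' : U.Opens, g pt ∈ U' ∧ ∀ y ∈ U', g pt ⤳ y → y = g pt := by
  obtain ⟨R, j, hj, hmem, -⟩ := Scheme.exists_affine_mem_range_and_range_subset
    (show g pt ∈ (⊤ : U.Opens) from trivial)
  have hrange : Set.range g ⊆ Set.range j := by
    rintro _ ⟨t, rfl⟩
    have : t = pt := Subsingleton.elim _ _
    rw [this]; exact hmem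
  let g₀ := IsOpenImmersion.lift j g hrange
  have hg₀ : g₀ ≫ j = g := IsOpenImmersion.lift_fac j g hrange
  haveI : LocallyOfFiniteType (g₀ ≫ j) := by rw [hg₀]; infer_instance
  haveI : LocallyOfFiniteType g₀ := locallyOfFiniteType_of_comp g₀ j
  obtain ⟨φ, hφ⟩ := Spec.map_surjective g₀
  haveI : LocallyOfFiniteType (Spec.map φ) := by rw [hφ]; infer_instance
  obtain ⟨O, hO1, hO2⟩ := exists_opens_of_lft_field_Spec φ pt
  rw [hφ] at hO1 hO2
  have hgpt : g pt = j (g₀ pt) := by rw [← hg₀]; rfl
  refine ⟨j ''ᵁ O, ⟨g₀ pt, hO1, hgpt.symm⟩, ?_⟩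
  rintro _ ⟨x, hx, rfl⟩ hs
  rw [hgpt] at hs ⊢
  have hs' : g₀ pt ⤳ x := (j.isOpenEmbedding.isInducing.specializes_iff).1 hs
  rw [hO2 x hx hs']
  rfl

end Groth.Agent.Helper15
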