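import Mathlib.AlgebraicGeometry.Morphisms.FinitePresentation
import Mathlib.AlgebraicGeometry.Morphisms.Etale
import Mathlib.AlgebraicGeometry.Morphisms.QuasiSeparated
import Mathlib.AlgebraicGeometry.Morphisms.UniversallyOpen

set_option autoImplicit false
set_option linter.style.haveILetI false
universe u
open CategoryTheory CategoryTheory.Limits AlgebraicGeometry MorphismProperty Opposite Topology

namespace Groth.Agent.Helper15

/-- The preimage of a locally constructible set under a morphism of schemes is locally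
constructible. -/
theorem isLocallyConstructible_preimage {X Y : Scheme.{u}} (f : X ⟶ Y) {s : Set Y}
    (hs : IsLocallyConstructible s) : IsLocallyConstructible (f ⁻¹' s) := by
  intro x
  obtain ⟨O, hO, hOo, hc⟩ := hs (f x)
  let O' : Y.Opens := ⟨O, hOo⟩
  refine ⟨(f ⁻¹ᵁ O' : Set X),
    (f ⁻¹ᵁ O').2.mem_nhds (show f x ∈ O from mem_of_mem_nhds hO), (f ⁻¹ᵁ O').2, ?_⟩
  have h1 := (f ∣_ O').isConstructible_preimage (s := (Subtype.val ⁻¹' s : Set O')) hc
  have h2 : (⇑(f ∣_ O') ⁻¹' (Subtype.val ⁻¹' s : Set O')) =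
      (Subtype.val ⁻¹' (f ⁻¹' s) : Set ↥(f ⁻¹ᵁ O')) := by
    ext ⟨z, hz⟩
    simp only [Set.mem_preimage]
    have h3 : ((f ∣_ O') ⟨z, hz⟩).1 = f z := by
      have := congrArg (fun g : (f ⁻¹ᵁ O' : Scheme) ⟶ Y => g ⟨z, hz⟩) (morphismRestrict_ι f O')
      simpa using this
    rw [h3]
    rfl
  rw [h2] at h1
  exact h1

/-- Local constructibility descends along surjective étale morphisms. -/
theorem isLocallyConstructible_of_preimage_etale_surjective {P U : Scheme.{u}} (g : P ⟶ U)
    [Etale g] (hsurj : Function.Surjective g) {T : Set U}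
    (h : IsLocallyConstructible (g ⁻¹' T)) : IsLocallyConstructible T := by
  have key : ∀ p : P, ∃ (W : P.Opens) (O : U.Opens), IsAffineOpen W ∧ IsAffineOpen O ∧ p ∈ W ∧
      W ≤ g ⁻¹ᵁ O := by
    intro p
    obtain ⟨_, ⟨O, hO, rfl⟩, hpO, -⟩ :=
      U.isBasis_affineOpens.exists_subset_of_mem_open (Set.mem_univ (g p)) isOpen_univ
    obtain ⟨_, ⟨W, hW, rfl⟩, hpW, hle⟩ :=
      P.isBasis_affineOpens.exists_subset_of_mem_open (show p ∈ (g ⁻¹ᵁ O : Set P) from hpO)
        (g ⁻¹ᵁ O).isOpen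
    exact ⟨W, O, hW, hO, hpW, hle⟩
  choose W O hW hO hpW hWO using key
  let Ui : P → U.Opens := fun p => ⟨g '' (W p : Set P), g.isOpenMap _ (W p).2⟩
  have hcov : TopologicalSpace.IsOpenCover Ui := by
    rw [TopologicalSpace.IsOpenCover, eq_top_iff]
    intro u _
    obtain ⟨p, rfl⟩ := hsurj u
    exact TopologicalSpace.Opens.mem_iSup.2 ⟨p, p, hpW p, rfl⟩
  refine IsLocallyConstructible.of_isOpenCover hcov (fun p => ?_)
  have hrange : Set.range ((W p).ι ≫ g) ⊆ Set.range (Ui p).ι := by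
    rintro _ ⟨w, rfl⟩
    rw [Scheme.Opens.range_ι]
    exact ⟨w.1, w.2, by simp⟩
  let hp : (W p : Scheme) ⟶ (Ui p : Scheme) :=
    IsOpenImmersion.lift (Ui p).ι ((W p).ι ≫ g) hrange
  have hfac : hp ≫ (Ui p).ι = (W p).ι ≫ g := IsOpenImmersion.lift_fac _ _ _
  haveI : Etale hp := by
    have h1 : Etale (hp ≫ (Ui p).ι) := by rw [hfac]; infer_instance
    exact MorphismProperty.of_postcomp (W := @Etale) (W' := @IsOpenImmersion) hp (Ui p).ι
      inferInstance h1
  haveI : CompactSpace ↥(W p : Scheme) := isCompact_iff_compactSpace.1 (hW p).isCompact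
  haveI : QuasiSeparatedSpace ↥(Ui p : Scheme) := by
    refine (isQuasiSeparated_iff_quasiSeparatedSpace _ (Ui p).2).1 ?_
    refine (hO p).isQuasiSeparated.of_subset ?_
    rintro _ ⟨w, hw, rfl⟩
    exact hWO p hw
  haveI : QuasiCompact hp := inferInstance
  have hlc : IsLocallyConstructible ((Subtype.val : (W p) → P) ⁻¹' (g ⁻¹' T)) :=
    h.preimage_of_isOpenEmbedding (W p).isOpenEmbedding'
  have h2 := hp.isLocallyConstructible_image hlc
  have h3 : (hp '' ((Subtype.val : (W p) → P) ⁻¹' (g ⁻¹' T)) : Set ↥(Ui p : Scheme)) =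
      ((Subtype.val : (Ui p) → U) ⁻¹' T) := by
    have hval : ∀ w : (W p), (hp w).1 = g w.1 := by
      intro w
      have := congrArg (fun k : (W p : Scheme) ⟶ U => k w) hfac
      simpa using this
    ext ⟨u, hu⟩
    constructor
    · rintro ⟨w, hw, hwu⟩
      have : g w.1 = u := by rw [← hval w, hwu]
      change u ∈ T
      rw [← this]
      exact hw
    · intro huT
      obtain ⟨w, hw, rfl⟩ := hu
      refine ⟨⟨w, hw⟩, huT, Subtype.ext (hval ⟨w, hw⟩)⟩
  exact (congrArg IsLocallyConstructible h3).mp h2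

end Groth.Agent.Helper15
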