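import Mathlib
import Groth.Prelude
import Groth.Agent.Lib.Helper1.BRN5
import Groth.Agent.Lib.Helper1.HznUniv
import Groth.Agent.Lib.Helper1.HFlat8
import Groth.Agent.Lib.Helper14.EtaleReduced
import Groth.Agent.Lib.Helper24.EssEtFrac

set_option autoImplicit false
set_option linter.unusedSectionVars false
set_option linter.unusedVariables false
set_option linter.style.haveILetI false

universe u

namespace Groth.Agent.Helper15.SemiLocC

open IsLocalRing Groth.Agent.Helper1

/-- the residue field of a quasi-finite local algebra is integral over the base -/
theorem residue_isIntegral (A E : Type u) [CommRing A] [IsLocalRing A] [CommRing E]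
    [IsLocalRing E] [Algebra A E] [IsLocalHom (algebraMap A E)] [Algebra.QuasiFinite A E] :
    (algebraMap A (ResidueField E)).IsIntegral := by
  haveI : Algebra.QuasiFinite A (ResidueField E) :=
    inferInstanceAs (Algebra.QuasiFinite A (E ⧸ maximalIdeal E))
  haveI : Algebra.QuasiFinite (ResidueField A) (ResidueField E) :=
    Algebra.QuasiFinite.of_restrictScalars A _ _
  haveI : Module.Finite (ResidueField A) (ResidueField E) := Module.Finite.of_quasiFinite
  have h1 : (algebraMap (ResidueField A) (ResidueField E)).IsIntegral :=
    fun x => IsIntegral.of_finite _ x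
  have h2 : (algebraMap A (ResidueField A)).IsIntegral :=
    RingHom.isIntegral_of_surjective _ residue_surjective
  have := RingHom.IsIntegral.trans _ _ h2 h1
  rwa [← IsScalarTower.algebraMap_eq] at this

/-- the inverse of a unit in a finite algebra over an artinian ring is a polynomial in it -/
theorem inv_mem_adjoin (F K : Type u) [CommRing F] [CommRing K] [Algebra F K]
    [IsArtinianRing F] [Module.Finite F K] (c d : K) (hcd : c * d = 1) :
    d ∈ Algebra.adjoin F {c} := by
  set T := Algebra.adjoin F ({c} : Set K) with hT
  haveI : IsNoetherian F K := isNoetherian_of_isNoetherianRing_of_finite F K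
  haveI : Module.Finite F T :=
    Module.Finite.of_injective T.val.toLinearMap Subtype.val_injective
  haveI : IsArtinianRing T := IsArtinianRing.of_finite F T
  let c' : T := ⟨c, Algebra.subset_adjoin rfl⟩
  have hc' : c' ∈ nonZeroDivisors T := by
    rw [mem_nonZeroDivisors_iff_right]
    intro x hx
    have h1 : (x : K) * c = 0 := congrArg Subtype.val hx
    apply Subtype.ext
    have : (x : K) = (x : K) * (c * d) := by rw [hcd, mul_one]
    rw [this, ← mul_assoc, h1, zero_mul]
    rfl
  obtain ⟨⟨u, v, huv, hvu⟩, hu⟩ := IsArtinianRing.isUnit_of_mem_nonZeroDivisors hc'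
  have hu' : u = c' := hu
  have h2 : c * (v : K) = 1 := by
    have := congrArg Subtype.val huv
    rw [hu'] at this
    exact this
  have : d = (v : K) := by
    calc d = (c * (v : K)) * d := by rw [h2, one_mul]
      _ = (c * d) * (v : K) := by ring
      _ = (v : K) := by rw [hcd, one_mul]
  rw [this]
  exact v.2

end Groth.Agent.Helper15.SemiLocC
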