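import Mathlib
import Groth.Prelude
import Groth.Agent.Lib.Helper15.SemiLocC1

set_option autoImplicit false
set_option linter.unusedSectionVars false
set_option linter.unusedVariables false
set_option linter.style.haveILetI false

universe u

namespace Groth.Agent.Helper15.SemiLocC

open IsLocalRing

section Quot

variable (A E K : Type u) [CommRing A] [CommRing E] [IsLocalRing E] [CommRing K]
  [Algebra A E] [Algebra A K] [Algebra E K] [IsScalarTower A E K]

/-- residue fields of an integral extension of a local ring `E` are integral over `A` as soon as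
the residue field of `E` is -/
theorem quotient_isIntegral (B : Subalgebra A K) (hB : ∀ x ∈ B, IsIntegral E x)
    (hEB : ∀ e : E, algebraMap E K e ∈ B)
    (hres : (algebraMap A (ResidueField E)).IsIntegral) (M : Ideal B) [M.IsMaximal] :
    (algebraMap A (B ⧸ M)).IsIntegral := by
  let j : E →+* B := (algebraMap E K).codRestrict B hEB
  let π : B →+* B ⧸ M := Ideal.Quotient.mk M
  have hint : (π.comp j).IsIntegral := by
    intro x
    obtain ⟨b, rfl⟩ := Ideal.Quotient.mk_surjective x
    obtain ⟨p, hp, hpb⟩ := hB b b.2
    refine ⟨p, hp, ?_⟩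
    have h1 : Polynomial.eval₂ j b p = 0 := by
      apply Subtype.ext
      have h2 := Polynomial.hom_eval₂ p j (B.val : B →+* K) b
      have h3 : ((B.val : B →+* K)).comp j = algebraMap E K := by
        ext e
        rfl
      rw [h3] at h2
      exact h2.trans hpb
    have h4 := Polynomial.hom_eval₂ p j π b
    rw [h1, map_zero] at h4
    exact h4.symm
  haveI : (⊥ : Ideal (B ⧸ M)).IsMaximal := by
    letI := Ideal.Quotient.field M
    exact Ideal.bot_isMaximal
  have hker : (⊥ : Ideal (B ⧸ M)).comap (π.comp j) = maximalIdeal E :=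
    IsLocalRing.eq_maximalIdeal (Ideal.isMaximal_comap_of_isIntegral_of_isMaximal' _ hint ⊥)
  let φ : ResidueField E →+* B ⧸ M := Ideal.Quotient.lift (maximalIdeal E) (π.comp j)
    (fun a ha => by
      have : a ∈ (⊥ : Ideal (B ⧸ M)).comap (π.comp j) := hker ▸ ha
      exact this)
  have hφ : φ.comp (residue E) = π.comp j := by
    ext e
    rfl
  have hφint : φ.IsIntegral := RingHom.IsIntegral.tower_top (residue E) φ (hφ ▸ hint)
  have h5 : (φ.comp (algebraMap A (ResidueField E))).IsIntegral :=
    RingHom.IsIntegral.trans _ _ hres hφint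
  have h6 : φ.comp (algebraMap A (ResidueField E)) = algebraMap A (B ⧸ M) := by
    ext a
    show π (j (algebraMap A E a)) = π (algebraMap A B a)
    congr 1
    apply Subtype.ext
    exact (IsScalarTower.algebraMap_apply A E K a).symm
  rw [← h6]
  exact h5

end Quot

section Max

variable (A K : Type u) [CommRing A] [CommRing K] [Algebra A K]

/-- maximal ideals of `C = L ⊓ B` are the contractions of the maximal ideals of `B` -/
theorem maximal_iff (L B C : Subalgebra A K) (hC : C = L ⊓ B)
    (hfin : {M : Ideal B | M.IsMaximal}.Finite)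
    (hinv : ∀ c ∈ L, ∀ d : K, c * d = 1 → d ∈ L)
    (hint : ∀ (M : Ideal B) [M.IsMaximal], (algebraMap A (B ⧸ M)).IsIntegral)
    (N : Ideal C) :
    N.IsMaximal ↔ ∃ M : Ideal B, M.IsMaximal ∧
      N = M.comap (Subalgebra.inclusion (hC.trans_le inf_le_right)) := by
  classical
  set incl : C →ₐ[A] B := Subalgebra.inclusion (hC.trans_le inf_le_right) with hincl
  constructor
  · intro hN
    by_contra hne
    push Not at hne
    have hnle : ¬ ∃ M ∈ hfin.toFinset, N ≤ (fun M : Ideal B => M.comap incl) M := by
      rintro ⟨M, hM, hle⟩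
      have hMmax : M.IsMaximal := by simpa using hM
      have hprime : (M.comap incl).IsPrime := Ideal.comap_isPrime _ _
      exact hne M hMmax (hN.eq_of_le hprime.ne_top hle)
    have hnsub : ¬ ((N : Set C) ⊆ ⋃ M ∈ (hfin.toFinset : Set (Ideal B)),
        ((fun M : Ideal B => M.comap incl) M : Set C)) := by
      intro hsub
      apply hnle
      refine (Ideal.subset_union_prime (s := hfin.toFinset)
        (f := fun M : Ideal B => M.comap incl) ⊥ ⊥ ?_).mp hsub
      intro M hM _ _
      have hMmax : M.IsMaximal := by simpa using hM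
      exact Ideal.comap_isPrime _ _
    obtain ⟨c, hcN, hcU⟩ := Set.not_subset.mp hnsub
    have hcM : ∀ M : Ideal B, M.IsMaximal → incl c ∉ M := by
      intro M hM hmem
      apply hcU
      simp only [Set.mem_iUnion]
      exact ⟨M, by simpa using hM, hmem⟩
    have hunit : IsUnit (incl c) := by
      by_contra hnu
      obtain ⟨M, hM, hmem⟩ := exists_max_ideal_of_mem_nonunits hnu
      exact hcM M hM hmem
    obtain ⟨d, hd⟩ := hunit.exists_right_inv
    have hcd : (c : K) * (d : K) = 1 := by
      have := congrArg Subtype.val hd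
      exact this
    have hcL : (c : K) ∈ L := ((hC.le : C ≤ L ⊓ B) c.2).1
    have hdL : (d : K) ∈ L := hinv _ hcL _ hcd
    have hdC : (d : K) ∈ C := by
      rw [hC]
      exact ⟨hdL, d.2⟩
    have h1 : c * ⟨(d : K), hdC⟩ = 1 := Subtype.ext hcd
    have : (1 : C) ∈ N := by
      rw [← h1]
      exact Ideal.mul_mem_right _ _ hcN
    exact hN.ne_top ((Ideal.eq_top_iff_one _).mpr this)
  · rintro ⟨M, hM, rfl⟩
    haveI := hM
    let π : B →+* B ⧸ M := Ideal.Quotient.mk M
    let f : C →+* B ⧸ M := π.comp (incl : C →+* B)
    have hf : f.IsIntegral := by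
      apply RingHom.IsIntegral.tower_top (algebraMap A C) f
      have : f.comp (algebraMap A C) = algebraMap A (B ⧸ M) := by
        ext a
        rfl
      rw [this]
      exact hint M
    haveI : (⊥ : Ideal (B ⧸ M)).IsMaximal := by
      letI := Ideal.Quotient.field M
      exact Ideal.bot_isMaximal
    have := Ideal.isMaximal_comap_of_isIntegral_of_isMaximal' f hf ⊥
    have h2 : (⊥ : Ideal (B ⧸ M)).comap f = M.comap incl := by
      ext x
      simp only [Ideal.mem_comap, Ideal.mem_bot]
      show π (incl x) = 0 ↔ _
      exact Ideal.Quotient.eq_zero_iff_mem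
    rw [← h2]
    exact this

end Max

end Groth.Agent.Helper15.SemiLocC
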