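import Mathlib
import Groth.Prelude
import Groth.Agent.Lib.Helper15.SemiLocC2

set_option autoImplicit false
set_option linter.unusedSectionVars false
set_option linter.unusedVariables false
set_option linter.style.haveILetI false

universe u

namespace Groth.Agent.Helper15.SemiLocC

open IsLocalRing Groth.Agent.Helper1 Groth.Agent.Helper24.EssEtFrac

theorem isReduced_of_isEssentiallyEtale (A E : Type u) [CommRing A] [IsLocalRing A] [IsReduced A]
    [CommRing E] [Algebra A E] (hE : EGA4loc.IsEssentiallyEtale A E) : IsReduced E := by
  obtain ⟨C, _, _, q, _, hC, hq, ⟨e⟩⟩ := hE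
  haveI := hC
  haveI : IsReduced C := Groth.Agent.Helper14.isReduced_of_etale A C
  haveI : IsReduced (Localization.AtPrime q) :=
    isReduced_localizationPreserves q.primeCompl _ inferInstance
  exact isReduced_of_injective (e : E →+* Localization.AtPrime q) e.injective

theorem main (A E : Type u) [CommRing A] [IsLocalRing A] [IsReduced A] [IsNoetherianRing A]
    [CommRing E] [IsLocalRing E] [Algebra A E] [IsLocalHom (algebraMap A E)]
    (hE : EGA4loc.IsEssentiallyEtale A E) (L : Subalgebra A (FractionRing E))
    (hL : ∀ s ∈ nonZeroDivisors A, ∃ y ∈ L, algebraMap A (FractionRing E) s * y = 1)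
    (C : Subalgebra A (FractionRing E))
    (hC : C = L ⊓ (integralClosure E (FractionRing E)).restrictScalars A) :
    (∀ x ∈ L, IsIntegral C x → x ∈ C) ∧
      {N : Ideal C | N.IsMaximal}.Finite ∧
      (∀ N : Ideal C, N.IsMaximal ↔
        ∃ M : Ideal ((integralClosure E (FractionRing E)).restrictScalars A),
          M.IsMaximal ∧ N = M.comap (Subalgebra.inclusion (hC.trans_le inf_le_right))) ∧
      ∀ l ∈ L, ∃ c ∈ C, ∃ s ∈ nonZeroDivisors A, ∃ y ∈ L,
        algebraMap A (FractionRing E) s * y = 1 ∧ l = c * y := by
  classical
  obtain ⟨hflat, hunr, heft⟩ := props_of_isEssentiallyEtale A E hE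
  haveI := hflat
  haveI := hunr
  haveI := heft
  have hminA : (minimalPrimes A).Finite := minimalPrimes.finite_of_isNoetherianRing A
  haveI : IsReduced E := isReduced_of_isEssentiallyEtale A E hE
  haveI : IsNoetherianRing E := Algebra.EssFiniteType.isNoetherianRing A E
  have hminE : (minimalPrimes E).Finite := minimalPrimes.finite_of_isNoetherianRing E
  haveI hloc := isLocalization_fractionRing hminA E
  letI : Algebra (FractionRing A) (FractionRing E) := localizationAlgebra (nonZeroDivisors A) E
  haveI : IsScalarTower A (FractionRing A) (FractionRing E) :=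
    isScalarTower_localizationAlgebra (nonZeroDivisors A) E
  haveI : Module.Finite (FractionRing A) (FractionRing E) := finite_fractionRing hminA E
  haveI : IsArtinianRing (FractionRing A) :=
    isArtinianRing_of_isFractionRing hminA (FractionRing A)
  -- finiteness of the maximal spectrum of the normalization
  have hfinB : {M : Ideal ((integralClosure E (FractionRing E)).restrictScalars A) |
      M.IsMaximal}.Finite := by
    haveI := Hzn.isHenselization E
    haveI : IsNoetherianRing (Hzn.S E) :=
      (HFlat.isNoetherianRing_iff_of_isHenselization E (Hzn.S E)).mp inferInstance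
    haveI : Finite ↥(minimalPrimes (Hzn.S E)) :=
      (minimalPrimes.finite_of_isNoetherianRing _).to_subtype
    have c1 := BRN.card_minimalPrimes_hens_of_isReduced E (Hzn.S E) hminE (FractionRing E)
    haveI hfinMS : Finite (MaximalSpectrum (integralClosure E (FractionRing E))) := by
      rw [← ENat.card_lt_top, ← c1]
      exact ENat.card_lt_top_of_finite
    have hfinMS' : Finite (MaximalSpectrum
        ((integralClosure E (FractionRing E)).restrictScalars A)) := hfinMS
    exact Set.Finite.subset (Set.finite_range (fun m : MaximalSpectrum
      ((integralClosure E (FractionRing E)).restrictScalars A) => m.asIdeal))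
      (fun M hM => ⟨⟨M, hM⟩, rfl⟩)
  -- `L` contains the image of the fraction ring of `A`
  have hFL : ∀ r : FractionRing A, algebraMap (FractionRing A) (FractionRing E) r ∈ L := by
    intro r
    obtain ⟨a, s, rfl⟩ := IsLocalization.exists_mk'_eq (nonZeroDivisors A) r
    obtain ⟨y, hyL, hy⟩ := hL s s.2
    have h1 : algebraMap (FractionRing A) (FractionRing E)
        (IsLocalization.mk' (FractionRing A) a s) * algebraMap A (FractionRing E) s =
        algebraMap A (FractionRing E) a := by
      rw [IsScalarTower.algebraMap_apply A (FractionRing A) (FractionRing E), ← map_mul,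
        IsLocalization.mk'_spec, ← IsScalarTower.algebraMap_apply]
    have h2 : algebraMap (FractionRing A) (FractionRing E)
        (IsLocalization.mk' (FractionRing A) a s) = algebraMap A (FractionRing E) a * y := by
      calc algebraMap (FractionRing A) (FractionRing E) (IsLocalization.mk' (FractionRing A) a s)
          = algebraMap (FractionRing A) (FractionRing E)
              (IsLocalization.mk' (FractionRing A) a s) *
              (algebraMap A (FractionRing E) s * y) := by rw [hy, mul_one]
        _ = (algebraMap (FractionRing A) (FractionRing E)
              (IsLocalization.mk' (FractionRing A) a s) * algebraMap A (FractionRing E) s) * y := by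
            ring
        _ = algebraMap A (FractionRing E) a * y := by rw [h1]
    rw [h2]
    exact L.mul_mem (L.algebraMap_mem a) hyL
  have hinv : ∀ c ∈ L, ∀ d : FractionRing E, c * d = 1 → d ∈ L := by
    intro c hc d hcd
    have h1 := inv_mem_adjoin (FractionRing A) (FractionRing E) c d hcd
    refine Algebra.adjoin_induction (p := fun x _ => x ∈ L) ?_ ?_ ?_ ?_ h1
    · intro x hx
      rw [Set.mem_singleton_iff] at hx
      rw [hx]
      exact hc
    · intro r
      exact hFL r
    · intro x y _ _ hx hy
      exact L.add_mem hx hy
    · intro x y _ _ hx hy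
      exact L.mul_mem hx hy
  -- integrality of residue fields
  haveI : Algebra.QuasiFinite A E := inferInstance
  have hres := residue_isIntegral A E
  have hint : ∀ (M : Ideal ((integralClosure E (FractionRing E)).restrictScalars A))
      [M.IsMaximal],
      (algebraMap A (((integralClosure E (FractionRing E)).restrictScalars A) ⧸ M)).IsIntegral :=
    fun M _ => quotient_isIntegral A E (FractionRing E) _ (fun x hx => hx)
      (fun e => isIntegral_algebraMap) hres M
  have h3 := maximal_iff A (FractionRing E) L _ C hC hfinB hinv hint
  refine ⟨?_, ?_, h3, ?_⟩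
  · intro x hxL hx
    have hCB : C ≤ (integralClosure E (FractionRing E)).restrictScalars A :=
      hC.trans_le inf_le_right
    have h1 : IsIntegral (integralClosure E (FractionRing E)) x := by
      have := IsIntegral.map_of_comp_eq (R := C) (S := FractionRing E)
        (T := integralClosure E (FractionRing E)) (U := FractionRing E)
        ((algebraMap C (FractionRing E)).codRestrict (integralClosure E (FractionRing E))
          (fun y => hCB y.2)) (RingHom.id (FractionRing E))
        (by ext y; rfl) hx
      simpa using this
    have h2 : IsIntegral E x := isIntegral_trans x h1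
    have : x ∈ L ⊓ (integralClosure E (FractionRing E)).restrictScalars A := ⟨hxL, h2⟩
    rw [hC]
    exact this
  · refine Set.Finite.subset (hfinB.image
      (fun M => M.comap (Subalgebra.inclusion (hC.trans_le inf_le_right)))) ?_
    intro N hN
    obtain ⟨M, hM, rfl⟩ := (h3 N).mp hN
    exact ⟨M, hM, rfl⟩
  · intro l hl
    have hlint : IsIntegral (FractionRing A) l := IsIntegral.of_finite _ l
    obtain ⟨⟨m, hm⟩, hmint⟩ :=
      IsIntegral.exists_multiple_integral_of_isLocalization (nonZeroDivisors A) l hlint
    obtain ⟨y, hyL, hy⟩ := hL m hm
    have hsm : (⟨m, hm⟩ : nonZeroDivisors A) • l = algebraMap A (FractionRing E) m * l := by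
      rw [Submonoid.smul_def, Algebra.smul_def]
    have hcC : algebraMap A (FractionRing E) m * l ∈ C := by
      have h2 : IsIntegral E (algebraMap A (FractionRing E) m * l) := by
        rw [← hsm]
        exact hmint.tower_top
      have : algebraMap A (FractionRing E) m * l ∈
          L ⊓ (integralClosure E (FractionRing E)).restrictScalars A :=
        ⟨L.mul_mem (L.algebraMap_mem m) hl, h2⟩
      rw [hC]
      exact this
    refine ⟨algebraMap A (FractionRing E) m * l, hcC, m, hm, y, hyL, hy, ?_⟩
    calc l = l * (algebraMap A (FractionRing E) m * y) := by rw [hy, mul_one]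
      _ = algebraMap A (FractionRing E) m * l * y := by ring

end Groth.Agent.Helper15.SemiLocC
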