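import Mathlib
import Groth.Prelude
import Groth.Agent.Lib.Helper7.SmallExt4

/-!
# Smoothness at a maximal ideal via small extensions of finite type (helper15)
-/

set_option autoImplicit false
set_option linter.unusedSectionVars false
set_option linter.unusedVariables false
set_option linter.style.haveILetI false
universe u

namespace Groth.Agent.Helper15.SmExt
open IsLocalRing Groth.Agent.Helper7.SmallExt

/-- An Artinian local algebra whose residue field is generated by the image of a finite type
algebra is of finite type. -/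
theorem finiteType_of_artinian_local {R A C : Type u} [CommRing R] [CommRing A] [CommRing C]
    [Algebra R A] [Algebra R C] [Algebra.FiniteType R A] [IsLocalRing C] [IsArtinianRing C]
    (J : Ideal C) (hJ : J ≤ maximalIdeal C) (g : A →ₐ[R] C ⧸ J)
    (hg : ∀ c : C, ∃ (a : A) (c' : C), Ideal.Quotient.mk J c' = g a ∧ c - c' ∈ maximalIdeal C) :
    Algebra.FiniteType R C := by
  classical
  obtain ⟨s, hs⟩ := (Algebra.FiniteType.out : (⊤ : Subalgebra R A).FG)
  choose ℓ hℓ using fun a : A => Ideal.Quotient.mk_surjective (I := J) (g a)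
  obtain ⟨s', hs'⟩ := (IsNoetherian.noetherian (maximalIdeal C) : (maximalIdeal C).FG)
  obtain ⟨T, hT⟩ : ∃ T : Finset C, T = s.image ℓ ∪ s' := ⟨_, rfl⟩
  obtain ⟨C₀, hC₀⟩ : ∃ C₀ : Subalgebra R C, C₀ = Algebra.adjoin R (T : Set C) := ⟨_, rfl⟩
  have hTC : ∀ x ∈ T, x ∈ C₀ := fun x hx => hC₀ ▸ Algebra.subset_adjoin hx
  -- lifting elements of `A`
  have hA : ∀ a : A, ∃ c₀ ∈ C₀, Ideal.Quotient.mk J c₀ = g a := by
    intro a
    have ha : a ∈ Algebra.adjoin R (s : Set A) := by rw [hs]; trivial
    induction ha using Algebra.adjoin_induction with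
    | mem x hx =>
      exact ⟨ℓ x, hTC _ (by rw [hT]; exact Finset.mem_union_left _ (Finset.mem_image_of_mem _ hx)),
        hℓ x⟩
    | algebraMap r =>
      refine ⟨algebraMap R C r, C₀.algebraMap_mem r, ?_⟩
      rw [AlgHom.commutes]; rfl
    | add x y _ _ hx hy =>
      obtain ⟨cx, hcx, ex⟩ := hx
      obtain ⟨cy, hcy, ey⟩ := hy
      exact ⟨cx + cy, C₀.add_mem hcx hcy, by rw [map_add, map_add, ex, ey]⟩
    | mul x y _ _ hx hy =>
      obtain ⟨cx, hcx, ex⟩ := hx
      obtain ⟨cy, hcy, ey⟩ := hy
      exact ⟨cx * cy, C₀.mul_mem hcx hcy, by rw [map_mul, map_mul, ex, ey]⟩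
  have hB1 : ∀ c : C, ∃ c₀ ∈ C₀, c - c₀ ∈ maximalIdeal C := by
    intro c
    obtain ⟨a, c', hc', hcc'⟩ := hg c
    obtain ⟨c₀, hc₀, e⟩ := hA a
    refine ⟨c₀, hc₀, ?_⟩
    have h1 : c' - c₀ ∈ J := by
      rw [← Ideal.Quotient.eq, hc', e]
    have : c - c₀ = (c - c') + (c' - c₀) := by ring
    rw [this]
    exact Ideal.add_mem _ hcc' (hJ h1)
  -- the ideal of `C₀` generated by generators of the maximal ideal
  have hs'C : ∀ x ∈ s', x ∈ C₀ := fun x hx => hTC x (by rw [hT]; exact Finset.mem_union_right _ hx)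
  let I₀ : Ideal C₀ := Ideal.span {x : C₀ | (x : C) ∈ s'}
  have hI₀ : I₀.map (algebraMap C₀ C) = maximalIdeal C := by
    rw [Ideal.map_span, ← hs']
    congr 1
    ext x
    constructor
    · rintro ⟨y, hy, rfl⟩; exact hy
    · intro hx; exact ⟨⟨x, hs'C x hx⟩, hx, rfl⟩
  have hpow : ∀ n, (I₀ ^ n).map (algebraMap C₀ C) = maximalIdeal C ^ n := fun n => by
    rw [Ideal.map_pow, hI₀]
  -- downward induction
  have hstep : ∀ n, (∀ d ∈ maximalIdeal C ^ (n + 1), d ∈ C₀) → ∀ d ∈ maximalIdeal C ^ n, d ∈ C₀ := by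
    intro n ih d hd
    rw [← hpow n, Ideal.map] at hd
    induction hd using Submodule.span_induction with
    | mem x hx =>
      obtain ⟨y, _, rfl⟩ := hx
      exact y.2
    | zero => exact C₀.zero_mem
    | add x y _ _ hx hy => exact C₀.add_mem hx hy
    | smul c x hx hx' =>
      obtain ⟨c₀, hc₀, hcc⟩ := hB1 c
      have hxm : x ∈ maximalIdeal C ^ n := by
        rw [← hpow n, Ideal.map]; exact hx
      have h1 : (c - c₀) * x ∈ maximalIdeal C ^ (n + 1) := by
        rw [pow_succ']
        exact Ideal.mul_mem_mul hcc hxm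
      have : c • x = c₀ * x + (c - c₀) * x := by rw [smul_eq_mul]; ring
      rw [this]
      exact C₀.add_mem (C₀.mul_mem hc₀ hx') (ih _ h1)
  obtain ⟨N, hN⟩ : ∃ N, maximalIdeal C ^ N = ⊥ := by
    have h := IsArtinianRing.isNilpotent_jacobson_bot (R := C)
    rw [IsLocalRing.jacobson_eq_maximalIdeal ⊥ bot_ne_top] at h
    exact h
  have hall : ∀ k, k ≤ N → ∀ d ∈ maximalIdeal C ^ (N - k), d ∈ C₀ := by
    intro k
    induction k with
    | zero =>
      intro _ d hd
      rw [Nat.sub_zero, hN] at hd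
      rw [(Submodule.mem_bot C).1 hd]
      exact C₀.zero_mem
    | succ k ih =>
      intro hk d hd
      apply hstep (N - (k + 1)) _ d hd
      intro d' hd'
      have : N - (k + 1) + 1 = N - k := by omega
      rw [this] at hd'
      exact ih (by omega) d' hd'
  have htop : C₀ = ⊤ := by
    rw [eq_top_iff]
    intro c _
    have h0 := hall N le_rfl
    rw [Nat.sub_self] at h0
    exact h0 c (by rw [pow_zero, Ideal.one_eq_top]; trivial)
  refine ⟨⟨T, ?_⟩⟩
  rw [← hC₀, htop]


/-- For a maximal ideal `q`, elements of the localization are congruent to elements of the ring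
modulo the maximal ideal. -/
theorem exists_sub_mem_maximalIdeal {S : Type u} [CommRing S] (q : Ideal S) [hq : q.IsMaximal]
    (b : Localization.AtPrime q) :
    ∃ a : S, b - algebraMap S (Localization.AtPrime q) a ∈ maximalIdeal (Localization.AtPrime q) := by
  obtain ⟨ā, hā⟩ := (IsLocalization.AtPrime.equivQuotMaximalIdeal q
    (Localization.AtPrime q)).surjective (Ideal.Quotient.mk _ b)
  obtain ⟨a, rfl⟩ := Ideal.Quotient.mk_surjective ā
  refine ⟨a, ?_⟩
  rw [IsLocalization.AtPrime.equivQuotMaximalIdeal_apply_mk] at hā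
  rw [← Ideal.Quotient.eq]
  exact hā.symm

/-- Variant of helper7's `s2060_mpr` at a maximal ideal: only small extensions of finite type
are needed. -/
theorem s2060_mpr_ft {R S : Type u} [CommRing R] [IsNoetherianRing R] [CommRing S] [Algebra R S]
    [Algebra.FiniteType R S] (q : Ideal S) [hqmax : q.IsMaximal]
    (H : ∀ (B' B : Type u) [CommRing B'] [CommRing B] [IsLocalRing B'] [IsLocalRing B]
        [IsArtinianRing B'] [IsArtinianRing B] [Algebra R B'] [Algebra R B] (π : B' →ₐ[R] B),
        Function.Surjective π → Algebra.FiniteType R B' →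
        (∃ t : B', RingHom.ker π.toRingHom = Ideal.span {t} ∧
          ∀ a ∈ IsLocalRing.maximalIdeal B', a * t = 0) →
        ∀ g : S →ₐ[R] B, (IsLocalRing.maximalIdeal B).comap g = q →
          ∃ g' : S →ₐ[R] B', π.comp g' = g) :
    Algebra.IsSmoothAt R q := by
  classical
  haveI : Algebra.FinitePresentation R S := Algebra.FinitePresentation.of_finiteType.mp inferInstance
  haveI : IsNoetherianRing S := Algebra.FiniteType.isNoetherianRing R S
  set p : Ideal R := Ideal.comap (algebraMap R S) q with hp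
  let Ap := Localization.AtPrime p
  let Bq := Localization.AtPrime q
  letI alg : Algebra Ap Bq := (Localization.localRingHom p q (algebraMap R S) rfl).toAlgebra
  haveI : IsLocalHom (algebraMap Ap Bq) := Localization.isLocalHom_localRingHom p q (algebraMap R S) rfl
  haveI : IsScalarTower R Ap Bq := IsScalarTower.of_algebraMap_eq (fun r => by
    show algebraMap R Bq r = Localization.localRingHom p q (algebraMap R S) rfl (algebraMap R Ap r)
    rw [Localization.localRingHom_to_map]
    exact IsScalarTower.algebraMap_apply R S Bq r)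
  -- it suffices to prove adic formal smoothness
  suffices hfs : CAlgX.IsAdicFormallySmooth Ap Bq (maximalIdeal Bq) by
    obtain ⟨g, hgq, hsm⟩ := (Groth.Agent.S9268.result R S q).mpr hfs
    have h1 : ↑(PrimeSpectrum.basicOpen g) ⊆ Algebra.smoothLocus R S :=
      Algebra.basicOpen_subset_smoothLocus_iff_smooth.mpr hsm
    exact h1 (show (⟨q, inferInstance⟩ : PrimeSpectrum S) ∈ PrimeSpectrum.basicOpen g from hgq)
  apply adicFS_of_smallLift
  intro C _ _ _ _ _ J hJ hlen _ ψ hψ hbij
  letI : Algebra R C := ((algebraMap Ap C).comp (algebraMap R Ap)).toAlgebra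
  haveI : IsScalarTower R Ap C := IsScalarTower.of_algebraMap_eq (fun r => rfl)
  haveI : IsScalarTower R Ap (C ⧸ J) := IsScalarTower.of_algebraMap_eq (fun r => rfl)
  haveI : IsArtinianRing (C ⧸ J) := inferInstance
  obtain ⟨t, htJ, htk⟩ := exists_generator_of_length_one J hlen
  let g : S →ₐ[R] C ⧸ J := (ψ.restrictScalars R).comp (IsScalarTower.toAlgHom R S Bq)
  have hgs : ∀ s, g s = ψ (algebraMap S Bq s) := fun s => rfl
  have hgq : (maximalIdeal (C ⧸ J)).comap g = q := by
    ext s
    rw [Ideal.mem_comap, mem_maximalIdeal, mem_nonunits_iff, hgs]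
    constructor
    · intro h
      by_contra hs
      apply h
      exact (IsLocalization.map_units Bq (⟨s, hs⟩ : q.primeCompl)).map ψ
    · intro hs hu
      have h1 : IsUnit (algebraMap S Bq s) := isUnit_of_map_unit ψ.toRingHom _ hu
      exact ((IsLocalization.AtPrime.isUnit_to_map_iff Bq q s).mp h1) hs
  -- finite type
  have hJm : J ≤ maximalIdeal C := by
    apply IsLocalRing.le_maximalIdeal
    intro hJtop
    rw [hJtop] at hJ
    have : (1 : C) ∈ (⊤ : Ideal C) ^ 2 := by rw [Ideal.top_pow]; trivial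
    rw [hJ] at this
    exact one_ne_zero ((Submodule.mem_bot C).1 this)
  have hres : ∀ c : C, ∃ (a : S) (c' : C), Ideal.Quotient.mk J c' = g a ∧ c - c' ∈ maximalIdeal C := by
    intro c
    obtain ⟨z, hz⟩ := hbij.2 (residue (C ⧸ J) (Ideal.Quotient.mk J c))
    obtain ⟨b, rfl⟩ := IsLocalRing.residue_surjective z
    obtain ⟨a, ha⟩ := exists_sub_mem_maximalIdeal q b
    obtain ⟨c', hc'⟩ := Ideal.Quotient.mk_surjective (I := J) (g a)
    refine ⟨a, c', hc', ?_⟩
    by_contra hnm
    have hu : IsUnit (c - c') := by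
      by_contra h; exact hnm ((mem_maximalIdeal _).mpr h)
    have hu' : IsUnit (Ideal.Quotient.mk J (c - c')) := hu.map _
    have hm : Ideal.Quotient.mk J (c - c') ∈ maximalIdeal (C ⧸ J) := by
      have e : Ideal.Quotient.mk J (c - c') =
          (Ideal.Quotient.mk J c - ψ b) + ψ (b - algebraMap S Bq a) := by
        rw [map_sub, hc', hgs, map_sub]; ring
      rw [e]
      apply Ideal.add_mem
      · rw [← IsLocalRing.residue_eq_zero_iff, map_sub, ← hz]
        show ResidueField.map ψ.toRingHom (residue Bq b) - residue (C ⧸ J) (ψ.toRingHom b) = 0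
        rw [ResidueField.map_residue, sub_self]
      · exact map_nonunit ψ.toRingHom _ ha
    exact (mem_maximalIdeal _).mp hm hu'
  have hft : Algebra.FiniteType R C := finiteType_of_artinian_local J hJm g hres
  obtain ⟨g', hg'⟩ := H C (C ⧸ J) (Ideal.Quotient.mkₐ R J) Ideal.Quotient.mk_surjective hft
    ⟨t, by rw [← htJ]; exact Ideal.mk_ker, htk⟩ g hgq
  have hg's : ∀ s, Ideal.Quotient.mk J (g' s) = g s := fun s => congrArg (fun f => f s) hg'
  -- units
  have hJ2 : ∀ x ∈ RingHom.ker (Ideal.Quotient.mk J), ∀ y ∈ RingHom.ker (Ideal.Quotient.mk J),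
      x * y = 0 := by
    intro x hx y hy
    rw [Ideal.mk_ker] at hx hy
    have : x * y ∈ J ^ 2 := by rw [pow_two]; exact Ideal.mul_mem_mul hx hy
    rw [hJ] at this
    exact this
  haveI hmkloc : IsLocalHom (Ideal.Quotient.mk J) :=
    isLocalHom_of_sq_zero _ Ideal.Quotient.mk_surjective hJ2
  have hunits : ∀ y : q.primeCompl, IsUnit (g'.toRingHom y) := by
    intro y
    have h1 : IsUnit (g (y : S)) := by
      rw [hgs]
      exact (IsLocalization.map_units Bq y).map ψ
    rw [← hg's] at h1
    exact isUnit_of_map_unit (Ideal.Quotient.mk J) _ h1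
  let χ₀ : Bq →+* C := IsLocalization.lift (M := q.primeCompl) hunits
  have hχ₀ : ∀ s, χ₀ (algebraMap S Bq s) = g' s := fun s => IsLocalization.lift_eq _ _
  have hcomm : ∀ x : Ap, χ₀ (algebraMap Ap Bq x) = algebraMap Ap C x := by
    have : χ₀.comp (algebraMap Ap Bq) = algebraMap Ap C := by
      apply IsLocalization.ringHom_ext p.primeCompl
      ext r
      simp only [RingHom.comp_apply]
      rw [← IsScalarTower.algebraMap_apply R Ap Bq, IsScalarTower.algebraMap_apply R S Bq, hχ₀,
        AlgHom.commutes]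
      rfl
    exact fun x => congrArg (fun f => f x) this
  let χ : Bq →ₐ[Ap] C := { χ₀ with commutes' := hcomm }
  refine ⟨χ, ?_⟩
  have : ((Ideal.Quotient.mkₐ Ap J).comp χ).toRingHom = ψ.toRingHom := by
    apply IsLocalization.ringHom_ext q.primeCompl
    ext s
    show Ideal.Quotient.mk J (χ₀ (algebraMap S Bq s)) = ψ (algebraMap S Bq s)
    rw [hχ₀, hg's, hgs]
  ext x
  exact congrArg (fun f => f x) this

end Groth.Agent.Helper15.SmExt
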