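import Mathlib
import Groth.Prelude
import Groth.Agent.Lib.Helper15.SmExt1

/-!
# Smoothness of morphisms of schemes via small extensions (helper15)
-/

set_option autoImplicit false
set_option linter.unusedSectionVars false
set_option linter.unusedVariables false
set_option linter.style.haveILetI false
universe u
open CategoryTheory CategoryTheory.Limits AlgebraicGeometry

namespace Groth.Agent.Helper15.SmExt
open IsLocalRing Groth.Agent.Helper7.SmallExt

/-- A morphism from the spectrum of a local ring factors through an affine open immersion as soon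
as the closed point lands in its range. -/
theorem exists_factor_of_closedPoint_mem {X : Scheme.{u}} {A : CommRingCat.{u}} (iU : Spec A ⟶ X)
    [IsOpenImmersion iU] {B : Type u} [CommRing B] [IsLocalRing B]
    (α : Spec (CommRingCat.of B) ⟶ X) (h : α (closedPoint B) ∈ Set.range iU) :
    ∃ g : A →+* B, α = Spec.map (CommRingCat.ofHom g) ≫ iU := by
  have hsub : Set.range α ⊆ Set.range iU := by
    have h1 : closedPoint B ∈ α ⁻¹ᵁ iU.opensRange := h
    have h2 : α ⁻¹ᵁ iU.opensRange = ⊤ := (closedPoint_mem_iff _).1 h1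
    rintro _ ⟨y, rfl⟩
    have : y ∈ α ⁻¹ᵁ iU.opensRange := by rw [h2]; trivial
    exact this
  refine ⟨(Spec.preimage (IsOpenImmersion.lift iU α hsub)).hom, ?_⟩
  rw [CommRingCat.ofHom_hom, Spec.map_preimage, IsOpenImmersion.lift_fac]

/-- Extracting a ring homomorphism from a lift, in affine charts. -/
theorem exists_ringHom_of_lift {X S : Scheme.{u}} (f : X ⟶ S) {A R : CommRingCat.{u}}
    (iU : Spec A ⟶ X) (iV : Spec R ⟶ S) [IsOpenImmersion iU] [IsOpenImmersion iV]
    (ρ : R ⟶ A) (hρ : iU ≫ f = Spec.map ρ ≫ iV)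
    {B' B : Type u} [CommRing B'] [CommRing B] [IsLocalRing B'] [IsLocalRing B]
    (π : B' →+* B) (hπ : Function.Surjective π) (g : A →+* B) (r' : R →+* B')
    (γ : Spec (CommRingCat.of B') ⟶ X)
    (h1 : Spec.map (CommRingCat.ofHom π) ≫ γ = Spec.map (CommRingCat.ofHom g) ≫ iU)
    (h2 : γ ≫ f = Spec.map (CommRingCat.ofHom r') ≫ iV) :
    ∃ g' : A →+* B', π.comp g' = g ∧ g'.comp ρ.hom = r' := by
  haveI : IsLocalHom π := hπ.isLocalHom
  have hcl : Spec.map (CommRingCat.ofHom π) (closedPoint B) = closedPoint B' :=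
    comap_closedPoint π
  have hmem : γ (closedPoint B') ∈ Set.range iU := by
    rw [← hcl, ← Scheme.Hom.comp_apply, h1, Scheme.Hom.comp_apply]
    exact ⟨_, rfl⟩
  obtain ⟨g', hg'⟩ := exists_factor_of_closedPoint_mem iU γ hmem
  refine ⟨g', ?_, ?_⟩
  · rw [hg', ← Category.assoc, ← Spec.map_comp, cancel_mono] at h1
    have := Spec.map_injective h1
    have h3 := congrArg CommRingCat.Hom.hom this
    exact h3
  · rw [hg', Category.assoc, hρ, ← Category.assoc, ← Spec.map_comp, cancel_mono] at h2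
    have := Spec.map_injective h2
    have h3 := congrArg CommRingCat.Hom.hom this
    exact h3

/-- Lifting along small extensions at a point. -/
def SmallLiftAt {X Y : Scheme.{u}} (f : X ⟶ Y) (x : X) : Prop :=
  ∀ (B' B : Type u) [CommRing B'] [CommRing B] [IsLocalRing B'] [IsLocalRing B]
    [IsArtinianRing B'] [IsArtinianRing B] (π : B' →+* B), Function.Surjective π →
    (∃ t : B', RingHom.ker π = Ideal.span {t} ∧ ∀ a ∈ IsLocalRing.maximalIdeal B', a * t = 0) →
    ∀ (α : Spec (CommRingCat.of B) ⟶ X) (β : Spec (CommRingCat.of B') ⟶ Y),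
      α (IsLocalRing.closedPoint B) = x →
      Spec.map (CommRingCat.ofHom π) ≫ β = α ≫ f →
      ∃ γ : Spec (CommRingCat.of B') ⟶ X, Spec.map (CommRingCat.ofHom π) ≫ γ = α ∧ γ ≫ f = β

/-- Lifting along small extensions against maps locally of finite type. -/
def SmallLiftFT {X Y : Scheme.{u}} (f : X ⟶ Y) : Prop :=
  ∀ (B' B : Type u) [CommRing B'] [CommRing B] [IsLocalRing B'] [IsLocalRing B]
    [IsArtinianRing B'] [IsArtinianRing B] (π : B' →+* B), Function.Surjective π →
    (∃ t : B', RingHom.ker π = Ideal.span {t} ∧ ∀ a ∈ IsLocalRing.maximalIdeal B', a * t = 0) →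
    ∀ (α : Spec (CommRingCat.of B) ⟶ X) (β : Spec (CommRingCat.of B') ⟶ Y),
      LocallyOfFiniteType β →
      Spec.map (CommRingCat.ofHom π) ≫ β = α ≫ f →
      ∃ γ : Spec (CommRingCat.of B') ⟶ X, Spec.map (CommRingCat.ofHom π) ≫ γ = α ∧ γ ≫ f = β

section Aff

variable {X Y : Scheme.{u}} (f : X ⟶ Y)
  (U : Y.Opens) (hU : IsAffineOpen U) (V : X.Opens) (hV : IsAffineOpen V) (hVU : V ≤ f ⁻¹ᵁ U)

/-- The common core: ring-level lifting data produce scheme-level lifting data, and a scheme-level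
lift produces a ring-level lift. -/
theorem exists_algHom_of_lift :
    letI := (f.appLE U V hVU).hom.toAlgebra
    ∀ (B' B : Type u) [CommRing B'] [CommRing B] [IsLocalRing B'] [IsLocalRing B]
      [Algebra Γ(Y, U) B'] [Algebra Γ(Y, U) B] (π : B' →ₐ[Γ(Y, U)] B), Function.Surjective π →
      ∀ (g : Γ(X, V) →ₐ[Γ(Y, U)] B),
      (Spec.map (CommRingCat.ofHom π.toRingHom) ≫
          (Spec.map (CommRingCat.ofHom (algebraMap Γ(Y, U) B')) ≫ hU.fromSpec) =
        (Spec.map (CommRingCat.ofHom g.toRingHom) ≫ hV.fromSpec) ≫ f) ∧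
      ((∃ γ : Spec (CommRingCat.of B') ⟶ X,
        Spec.map (CommRingCat.ofHom π.toRingHom) ≫ γ =
          Spec.map (CommRingCat.ofHom g.toRingHom) ≫ hV.fromSpec ∧
        γ ≫ f = Spec.map (CommRingCat.ofHom (algebraMap Γ(Y, U) B')) ≫ hU.fromSpec) →
      ∃ g' : Γ(X, V) →ₐ[Γ(Y, U)] B', π.comp g' = g) := by
  letI := (f.appLE U V hVU).hom.toAlgebra
  intro B' B _ _ _ _ _ _ π hπ g
  have hρ : hV.fromSpec ≫ f = Spec.map (f.appLE U V hVU) ≫ hU.fromSpec :=
    (IsAffineOpen.SpecMap_appLE_fromSpec f hU hV hVU).symm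
  constructor
  · rw [Category.assoc, hρ, ← Category.assoc, ← Category.assoc, ← Spec.map_comp, ← Spec.map_comp]
    congr 2
    ext r
    show π (algebraMap Γ(Y, U) B' r) = g (algebraMap Γ(Y, U) Γ(X, V) r)
    rw [AlgHom.commutes, AlgHom.commutes]
  · rintro ⟨γ, h1, h2⟩
    obtain ⟨g', hg'1, hg'2⟩ := exists_ringHom_of_lift f hV.fromSpec hU.fromSpec
      (f.appLE U V hVU) hρ π.toRingHom hπ g.toRingHom (algebraMap Γ(Y, U) B') γ h1 h2
    refine ⟨{ g' with commutes' := fun r => ?_ }, ?_⟩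
    · exact congrArg (fun φ => φ r) hg'2
    · ext a
      exact congrArg (fun φ => φ a) hg'1

end Aff

end Groth.Agent.Helper15.SmExt

namespace Groth.Agent.Helper15.SmExt
open IsLocalRing Groth.Agent.Helper7.SmallExt

section Aff2

variable {X Y : Scheme.{u}} (f : X ⟶ Y)
  (U : Y.Opens) (hU : IsAffineOpen U) (V : X.Opens) (hV : IsAffineOpen V) (hVU : V ≤ f ⁻¹ᵁ U)
include hU hV

/-- Smoothness at a prime of an affine chart from lifting along small extensions at the point. -/
theorem isSmoothAt_of_smallLiftAt [IsLocallyNoetherian Y] [LocallyOfFiniteType f]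
    (q : PrimeSpectrum Γ(X, V)) (H : SmallLiftAt f (hV.fromSpec q)) :
    letI := (f.appLE U V hVU).hom.toAlgebra
    Algebra.IsSmoothAt Γ(Y, U) q.asIdeal := by
  letI := (f.appLE U V hVU).hom.toAlgebra
  haveI : IsNoetherianRing Γ(Y, U) := IsLocallyNoetherian.component_noetherian ⟨U, hU⟩
  haveI : Algebra.FiniteType Γ(Y, U) Γ(X, V) := f.finiteType_appLE hU hV hVU
  apply s2060_mpr q.asIdeal
  intro B' B _ _ _ _ _ _ _ _ π hπ ht g hg
  obtain ⟨hcomm, hlift⟩ := exists_algHom_of_lift f U hU V hV hVU B' B π hπ g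
  apply hlift
  refine H B' B π.toRingHom hπ ht _ _ ?_ hcomm
  rw [Scheme.Hom.comp_apply]
  congr 1
  apply PrimeSpectrum.ext
  exact hg

/-- Smoothness at a maximal ideal of an affine chart from lifting along small extensions against
maps locally of finite type. -/
theorem isSmoothAt_of_smallLiftFT [IsLocallyNoetherian Y] [LocallyOfFiniteType f]
    (q : Ideal Γ(X, V)) [q.IsMaximal] (H : SmallLiftFT f) :
    letI := (f.appLE U V hVU).hom.toAlgebra
    Algebra.IsSmoothAt Γ(Y, U) q := by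
  letI := (f.appLE U V hVU).hom.toAlgebra
  haveI : IsNoetherianRing Γ(Y, U) := IsLocallyNoetherian.component_noetherian ⟨U, hU⟩
  haveI : Algebra.FiniteType Γ(Y, U) Γ(X, V) := f.finiteType_appLE hU hV hVU
  apply s2060_mpr_ft q
  intro B' B _ _ _ _ _ _ _ _ π hπ hft ht g hg
  obtain ⟨hcomm, hlift⟩ := exists_algHom_of_lift f U hU V hV hVU B' B π hπ g
  apply hlift
  refine H B' B π.toRingHom hπ ht _ _ ?_ hcomm
  have h1 : LocallyOfFiniteType (Spec.map (CommRingCat.ofHom (algebraMap Γ(Y, U) B'))) := by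
    rw [HasRingHomProperty.Spec_iff (P := @LocallyOfFiniteType)]
    exact RingHom.finiteType_algebraMap.mpr hft
  infer_instance

end Aff2

/-- The point `x` lies in the smooth locus if lifting along small extensions at `x` holds. -/
theorem mem_smoothLocus_of_smallLiftAt {X Y : Scheme.{u}} (f : X ⟶ Y) [IsLocallyNoetherian Y]
    [LocallyOfFiniteType f] (x : X) (H : SmallLiftAt f x) : x ∈ f.smoothLocus := by
  obtain ⟨_, ⟨U, hU, rfl⟩, hxU, -⟩ :=
    Y.isBasis_affineOpens.exists_subset_of_mem_open (Set.mem_univ (f x)) isOpen_univ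
  obtain ⟨_, ⟨V, hV, rfl⟩, hxV, hVU⟩ :=
    X.isBasis_affineOpens.exists_subset_of_mem_open hxU (U.2.preimage f.continuous)
  rw [Scheme.Hom.mem_smoothLocus, formallySmooth_stalkMap_iff U hU V hV hVU hxV]
  apply isSmoothAt_of_smallLiftAt f U hU V hV hVU
  rw [hV.fromSpec_primeIdealOf]
  exact H

/-- A neighbourhood on which the map is smooth. -/
theorem exists_smooth_nbhd_of_smallLiftAt {X Y : Scheme.{u}} (f : X ⟶ Y) [IsLocallyNoetherian Y]
    [LocallyOfFiniteType f] (x : X) (H : SmallLiftAt f x) :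
    ∃ W : X.Opens, x ∈ W ∧ Smooth (W.ι ≫ f) := by
  refine ⟨f.smoothLocus, mem_smoothLocus_of_smallLiftAt f x H, ?_⟩
  rw [← Scheme.Hom.smoothLocus_eq_top_iff, ← Scheme.Hom.preimage_smoothLocus_eq]
  exact Scheme.Opens.ι_preimage_self _

/-- S1417, the direction from lifting to smoothness. -/
theorem smooth_of_smallLiftFT {X Y : Scheme.{u}} (f : X ⟶ Y) [IsLocallyNoetherian Y]
    [LocallyOfFiniteType f] (H : SmallLiftFT f) : Smooth f := by
  rw [← Scheme.Hom.smoothLocus_eq_top_iff, ← top_le_iff]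
  rintro x -
  obtain ⟨_, ⟨U, hU, rfl⟩, hxU, -⟩ :=
    Y.isBasis_affineOpens.exists_subset_of_mem_open (Set.mem_univ (f x)) isOpen_univ
  obtain ⟨_, ⟨V, hV, rfl⟩, hxV, hVU⟩ :=
    X.isBasis_affineOpens.exists_subset_of_mem_open hxU (U.2.preimage f.continuous)
  rw [Scheme.Hom.mem_smoothLocus, formallySmooth_stalkMap_iff U hU V hV hVU hxV]
  letI := (f.appLE U V hVU).hom.toAlgebra
  haveI : Algebra.FinitePresentation Γ(Y, U) Γ(X, V) := f.finitePresentation_appLE hU hV hVU
  by_contra hq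
  have hcl : IsClosed (Algebra.smoothLocus Γ(Y, U) Γ(X, V))ᶜ :=
    Algebra.isOpen_smoothLocus.isClosed_compl
  obtain ⟨I, hI⟩ := (PrimeSpectrum.isClosed_iff_zeroLocus_ideal _).1 hcl
  have hqI : hV.primeIdealOf ⟨x, hxV⟩ ∈ PrimeSpectrum.zeroLocus (I : Set Γ(X, V)) := by
    rw [← hI]; exact hq
  have hIne : I ≠ ⊤ := by
    intro h
    rw [h] at hqI
    simp at hqI
  obtain ⟨M, hM, hIM⟩ := Ideal.exists_le_maximal I hIne
  haveI := hM
  have hMmem : (⟨M, hM.isPrime⟩ : PrimeSpectrum Γ(X, V)) ∈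
      PrimeSpectrum.zeroLocus (I : Set Γ(X, V)) := by
    rw [PrimeSpectrum.mem_zeroLocus]; exact hIM
  rw [← hI] at hMmem
  exact hMmem (isSmoothAt_of_smallLiftFT f U hU V hV hVU M H)

end Groth.Agent.Helper15.SmExt

namespace Groth.Agent.Helper15.SmExt
open IsLocalRing Groth.Agent.Helper7.SmallExt

/-- A smooth morphism of schemes lifts along nilpotent surjections of local rings. -/
theorem exists_lift_of_smooth {X Y : Scheme.{u}} (f : X ⟶ Y) [Smooth f]
    {B' B : Type u} [CommRing B'] [CommRing B] [IsLocalRing B'] [IsLocalRing B]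
    (π : B' →+* B) (hπ : Function.Surjective π) (hnil : IsNilpotent (RingHom.ker π))
    (α : Spec (CommRingCat.of B) ⟶ X) (β : Spec (CommRingCat.of B') ⟶ Y)
    (w : Spec.map (CommRingCat.ofHom π) ≫ β = α ≫ f) :
    ∃ γ : Spec (CommRingCat.of B') ⟶ X, Spec.map (CommRingCat.ofHom π) ≫ γ = α ∧ γ ≫ f = β := by
  obtain ⟨x, hx⟩ : ∃ x, x = α (closedPoint B) := ⟨_, rfl⟩
  obtain ⟨_, ⟨U, hU, rfl⟩, hxU, -⟩ :=
    Y.isBasis_affineOpens.exists_subset_of_mem_open (Set.mem_univ (f x)) isOpen_univ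
  obtain ⟨_, ⟨V, hV, rfl⟩, hxV, hVU⟩ :=
    X.isBasis_affineOpens.exists_subset_of_mem_open hxU (U.2.preimage f.continuous)
  haveI : IsLocalHom π := hπ.isLocalHom
  have hcl : Spec.map (CommRingCat.ofHom π) (closedPoint B) = closedPoint B' :=
    comap_closedPoint π
  obtain ⟨g, hg⟩ := exists_factor_of_closedPoint_mem hV.fromSpec α (by
    rw [hV.range_fromSpec, ← hx]; exact hxV)
  obtain ⟨r', hr'⟩ := exists_factor_of_closedPoint_mem hU.fromSpec β (by
    rw [hU.range_fromSpec, ← hcl, ← Scheme.Hom.comp_apply, w, Scheme.Hom.comp_apply, ← hx]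
    exact hxU)
  have hρ : hV.fromSpec ≫ f = Spec.map (f.appLE U V hVU) ≫ hU.fromSpec :=
    (IsAffineOpen.SpecMap_appLE_fromSpec f hU hV hVU).symm
  have hcomm : π.comp r' = g.comp (f.appLE U V hVU).hom := by
    have w' := w
    rw [hg, hr', Category.assoc, hρ, ← Category.assoc, ← Category.assoc, ← Spec.map_comp,
      ← Spec.map_comp, cancel_mono] at w'
    have := Spec.map_injective w'
    exact congrArg CommRingCat.Hom.hom this
  letI := (f.appLE U V hVU).hom.toAlgebra
  letI : Algebra Γ(Y, U) B' := r'.toAlgebra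
  letI : Algebra Γ(Y, U) B := (π.comp r').toAlgebra
  have hsm : Algebra.Smooth Γ(Y, U) Γ(X, V) := f.smooth_appLE hU hV hVU
  haveI : Algebra.FormallySmooth Γ(Y, U) Γ(X, V) := hsm.1
  let πa : B' →ₐ[Γ(Y, U)] B := { π with commutes' := fun r => rfl }
  let ga : Γ(X, V) →ₐ[Γ(Y, U)] B :=
    { g with commutes' := fun r => (congrArg (fun φ => φ r) hcomm).symm }
  have hnil' : IsNilpotent (RingHom.ker (πa : B' →+* B)) := hnil
  let l := Algebra.FormallySmooth.liftOfSurjective ga πa hπ hnil'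
  have hl : πa.comp l = ga := Algebra.FormallySmooth.comp_liftOfSurjective ga πa hπ hnil'
  refine ⟨Spec.map (CommRingCat.ofHom l.toRingHom) ≫ hV.fromSpec, ?_, ?_⟩
  · rw [hg, ← Category.assoc, ← Spec.map_comp]
    congr 2
    ext a
    exact congrArg (fun φ => φ a) hl
  · rw [hr', Category.assoc, hρ, ← Category.assoc, ← Spec.map_comp]
    congr 2
    ext r
    exact l.commutes r

/-- S1417, the direction from smoothness to lifting. -/
theorem smallLiftFT_of_smooth {X Y : Scheme.{u}} (f : X ⟶ Y) [Smooth f] : SmallLiftFT f := by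
  intro B' B _ _ _ _ _ _ π hπ ht α β _ w
  obtain ⟨t, hker, hkill⟩ := ht
  have htm : t ∈ maximalIdeal B' := by
    by_contra hnm
    have hu : IsUnit t := by
      by_contra h; exact hnm ((mem_maximalIdeal _).mpr h)
    have h1 : π t = 0 := by
      have : t ∈ RingHom.ker π := hker ▸ Ideal.subset_span rfl
      exact this
    have h2 : IsUnit (π t) := hu.map π
    rw [h1] at h2
    exact not_isUnit_zero h2
  have hnil : IsNilpotent (RingHom.ker π) := by
    refine ⟨2, ?_⟩
    rw [hker, Ideal.span_singleton_pow, Ideal.zero_eq_bot, Ideal.span_singleton_eq_bot, pow_two]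
    exact hkill t htm
  exact exists_lift_of_smooth f π hπ hnil α β w

end Groth.Agent.Helper15.SmExt
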