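import Mathlib
import Groth.Prelude
import Groth.Agent.Lib.Helper15.SmExt2
import Groth.Agent.Lib.Helper15.FSp6
import Groth.Agent.Lib.Helper15.AlgSpNoeth
import Groth.Agent.Lib.Helper15.AlgSpLocPListed2

/-!
# Smoothness of morphisms of algebraic spaces via small extensions (helper15)
-/

set_option autoImplicit false
set_option linter.unusedSectionVars false
set_option linter.unusedVariables false
set_option linter.style.haveILetI false
universe u
open CategoryTheory CategoryTheory.Limits AlgebraicGeometry MorphismProperty Opposite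

namespace Groth.Agent.Helper15.SmExt
open AlgSp Groth.Agent.Helper15 Groth.Agent.Helper16.AS Groth.Agent.Helper15.UThick
open Groth.Agent.Helper15.FSp

variable {S : Scheme.{u}}

/-- Transfer of a lift to etale charts. -/
theorem exists_lift_chart {X Y : Sp S} (f : X ⟶ Y) {U V : Over S}
    (a : (yon S).obj U ⟶ X) (b : (yon S).obj V ⟶ Y) (h : U ⟶ V)
    (ha : RepWith @Etale a) (hb : RepWith @Etale b) (comm : a ≫ f = (yon S).map h ≫ b)
    {T T' : Over S} (j : T ⟶ T') (hj : IsFOThickMor ((yon S).map j))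
    (α₀ : T ⟶ U) (β₀ : T' ⟶ V) (w : j ≫ β₀ = α₀ ≫ h)
    (γ : (yon S).obj T' ⟶ X) (h1 : (yon S).map j ≫ γ = (yon S).map α₀ ≫ a)
    (h2 : γ ≫ f = (yon S).map β₀ ≫ b) :
    ∃ γ₀ : T' ⟶ U, j ≫ γ₀ = α₀ ∧ γ₀ ≫ h = β₀ := by
  obtain ⟨l, ⟨hl1, hl2⟩, -⟩ := existsUnique_lift_of_foThick (IsAlgSpace.yon_obj T') hj
    (isFormallyEtaleMor_of_repWith ha) h1.symm
  obtain ⟨γ₀, rfl⟩ := (yon S).map_surjective l
  have e1 : j ≫ γ₀ = α₀ := (yon S).map_injective (by rw [(yon S).map_comp]; exact hl1)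
  refine ⟨γ₀, e1, ?_⟩
  have w' : (yon S).map (α₀ ≫ h) ≫ b = (yon S).map j ≫ (γ ≫ f) := by
    rw [(yon S).map_comp, Category.assoc, ← comm, ← Category.assoc, ← h1, Category.assoc]
  obtain ⟨l', -, hl'u⟩ := existsUnique_lift_of_foThick (IsAlgSpace.yon_obj T') hj
    (isFormallyEtaleMor_of_repWith hb) w'
  have u1 := hl'u ((yon S).map (γ₀ ≫ h)) ⟨by
      rw [← (yon S).map_comp, ← Category.assoc, e1], by
      rw [(yon S).map_comp, Category.assoc, ← comm, ← Category.assoc, hl2]⟩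
  have u2 := hl'u ((yon S).map β₀) ⟨by rw [← (yon S).map_comp, w], h2.symm⟩
  exact (yon S).map_injective (u1.trans u2.symm)

/-- The kernel of a small extension has square zero. -/
theorem ker_sq_eq_bot_of_small {B' B : Type u} [CommRing B'] [CommRing B] [IsLocalRing B']
    [IsLocalRing B] (π : B' →+* B)
    (ht : ∃ t : B', RingHom.ker π = Ideal.span {t} ∧
      ∀ a ∈ IsLocalRing.maximalIdeal B', a * t = 0) : RingHom.ker π ^ 2 = ⊥ := by
  obtain ⟨t, hker, hkill⟩ := ht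
  have htm : t ∈ IsLocalRing.maximalIdeal B' := by
    by_contra hnm
    have hu : IsUnit t := by
      by_contra h; exact hnm ((IsLocalRing.mem_maximalIdeal _).mpr h)
    have h1 : π t = 0 := by
      have : t ∈ RingHom.ker π := hker ▸ Ideal.subset_span rfl
      exact this
    have h2 : IsUnit (π t) := hu.map π
    rw [h1] at h2
    exact not_isUnit_zero h2
  rw [hker, Ideal.span_singleton_pow, Ideal.span_singleton_eq_bot, pow_two]
  exact hkill t htm

/-- A map from a scheme that is locally of finite type followed by an etale chart is locally of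
finite type. -/
theorem locP_lft_yon_map_comp {Y : Sp S} (hY : IsAlgSpace Y) {T V : Over S} (β₀ : T ⟶ V)
    (hβ₀ : LocallyOfFiniteType β₀.left) (b : (yon S).obj V ⟶ Y) (hb : RepWith @Etale b) :
    LocP @LocallyOfFiniteType ((yon S).map β₀ ≫ b) := by
  have hG := goodP_of_listed (@LocallyOfFiniteType) (Or.inl rfl)
  have hsrc := srcEtLoc_of_listed (@LocallyOfFiniteType) (Or.inl rfl)
  haveI := hG.comp
  haveI := hG.bc
  exact locP_comp hG hsrc (IsAlgSpace.yon_obj T) (IsAlgSpace.yon_obj V) hY _ b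
    (locP_of_repWith hG.etale_le _ ((repWith_yon_map_iff _ β₀).2 hβ₀))
    (locP_of_repWith hG.etale_le b (repWith_mono hG.etale_le hb))

/-- The lifting property of S10602. -/
def SmallLiftFTSp {X Y : Sp S} (f : X ⟶ Y) : Prop :=
  ∀ (B' B : Type u) [CommRing B'] [CommRing B] [IsLocalRing B'] [IsLocalRing B]
    [IsArtinianRing B'] [IsArtinianRing B] (π : B' →+* B), Function.Surjective π →
    (∃ t : B', RingHom.ker π = Ideal.span {t} ∧ ∀ a ∈ IsLocalRing.maximalIdeal B', a * t = 0) →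
    ∀ (s : Spec (CommRingCat.of B') ⟶ S)
      (α : (AlgSp.yon S).obj (Over.mk (Spec.map (CommRingCat.ofHom π) ≫ s)) ⟶ X)
      (β : (AlgSp.yon S).obj (Over.mk s) ⟶ Y),
      AlgSp.LocP @LocallyOfFiniteType β →
      α ≫ f = (AlgSp.yon S).map
        (CategoryTheory.Over.homMk (Spec.map (CommRingCat.ofHom π)) :
          Over.mk (Spec.map (CommRingCat.ofHom π) ≫ s) ⟶ Over.mk s) ≫ β →
      ∃ γ : (AlgSp.yon S).obj (Over.mk s) ⟶ X,
        (AlgSp.yon S).map (CategoryTheory.Over.homMk (Spec.map (CommRingCat.ofHom π)) :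
          Over.mk (Spec.map (CommRingCat.ofHom π) ≫ s) ⟶ Over.mk s) ≫ γ = α ∧ γ ≫ f = β

theorem smallLiftFTSp_of_locP_smooth {X Y : Sp S} (hX : IsAlgSpace X) (hY : IsAlgSpace Y)
    (f : X ⟶ Y) (hf : LocP @Smooth f) : SmallLiftFTSp f := by
  intro B' B _ _ _ _ _ _ π hπ ht s α β _ w
  have hfs := ((locP_smooth_iff hX hY f).1 hf).2
  exact exists_lift_of_isFormallySmoothMor hfs _
    (isFOThickMor_specMap π hπ (ker_sq_eq_bot_of_small π ht) s)
    (by dsimp; infer_instance) α β w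

theorem locP_smooth_of_smallLiftFTSp {X Y : Sp S} (hX : IsAlgSpace X) (hY : IsAlgSpace Y)
    (f : X ⟶ Y) (hYn : IsLocNoethSp Y) (hft : LocP @LocallyOfFiniteType f)
    (H : SmallLiftFTSp f) : LocP @Smooth f := by
  intro U V a b h ha hb comm
  haveI : IsLocallyNoetherian V.left := isLocallyNoetherian_of_etale_of_isLocNoethSp hYn b hb
  haveI : LocallyOfFiniteType h.left := hft a b h ha hb comm
  apply smooth_of_smallLiftFT
  intro B' B _ _ _ _ _ _ π hπ ht α₀ β₀ hβ₀ w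
  obtain ⟨s, hs⟩ : ∃ s : Spec (CommRingCat.of B') ⟶ S, s = β₀ ≫ V.hom := ⟨_, rfl⟩
  have hα₀ : α₀ ≫ U.hom = Spec.map (CommRingCat.ofHom π) ≫ s := by
    rw [hs, ← Category.assoc, w, Category.assoc, CategoryTheory.Over.w h]
  obtain ⟨α₀', hα₀'⟩ : ∃ α₀' : Over.mk (Spec.map (CommRingCat.ofHom π) ≫ s) ⟶ U,
      α₀'.left = α₀ := ⟨CategoryTheory.Over.homMk α₀ hα₀, rfl⟩
  obtain ⟨β₀', hβ₀'⟩ : ∃ β₀' : Over.mk s ⟶ V, β₀'.left = β₀ :=
    ⟨CategoryTheory.Over.homMk β₀ hs.symm, rfl⟩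
  obtain ⟨j, hj⟩ : ∃ j : Over.mk (Spec.map (CommRingCat.ofHom π) ≫ s) ⟶ Over.mk s,
      j = CategoryTheory.Over.homMk (Spec.map (CommRingCat.ofHom π)) := ⟨_, rfl⟩
  have hjl : j.left = Spec.map (CommRingCat.ofHom π) := by rw [hj]; rfl
  have w' : j ≫ β₀' = α₀' ≫ h := by
    apply Over.OverMorphism.ext
    rw [Over.comp_left, Over.comp_left, hjl, hβ₀', hα₀', w]
  have hjthick : IsFOThickMor ((yon S).map j) := by
    rw [hj]
    exact isFOThickMor_specMap π hπ (ker_sq_eq_bot_of_small π ht) s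
  have hβ : LocP @LocallyOfFiniteType ((yon S).map β₀' ≫ b) :=
    locP_lft_yon_map_comp hY β₀' (by rw [hβ₀']; exact hβ₀) b hb
  have wsp : ((yon S).map α₀' ≫ a) ≫ f = (yon S).map j ≫ ((yon S).map β₀' ≫ b) := by
    rw [Category.assoc, comm, ← Category.assoc, ← (yon S).map_comp, ← w', (yon S).map_comp,
      Category.assoc]
  obtain ⟨γ, hγ1, hγ2⟩ := H B' B π hπ ht s ((yon S).map α₀' ≫ a) ((yon S).map β₀' ≫ b) hβ
    (by rw [← hj]; exact wsp)
  rw [← hj] at hγ1
  obtain ⟨γ₀, hγ₀1, hγ₀2⟩ := exists_lift_chart f a b h ha hb comm j hjthick α₀' β₀' w' γ hγ1 hγ2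
  refine ⟨γ₀.left, ?_, ?_⟩
  · rw [← hjl, ← Over.comp_left, hγ₀1, hα₀']
  · rw [← Over.comp_left, hγ₀2, hβ₀']

end Groth.Agent.Helper15.SmExt
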