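import Mathlib
import Groth.Prelude
import Groth.Agent.Lib.Helper15.SmExt3
import Groth.Agent.Lib.Helper15.AlgSpOpen
import Groth.Agent.Lib.Helper15.AlgSpTop

/-!
# Smoothness at a point of a morphism of algebraic spaces via lifting (helper15)
-/

set_option autoImplicit false
set_option linter.unusedSectionVars false
set_option linter.unusedVariables false
set_option linter.style.haveILetI false
universe u
open CategoryTheory CategoryTheory.Limits AlgebraicGeometry MorphismProperty Opposite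

namespace Groth.Agent.Helper15.SmExt
open AlgSp Groth.Agent.Helper15 Groth.Agent.Helper16.AS Groth.Agent.Helper15.UThick
open Groth.Agent.Helper15.FSp

variable {S : Scheme.{u}}

/-- Condition (2) of S10608. -/
def SqZeroLiftAtSp {X Y : Sp S} (f : X ⟶ Y) (x : Points X) : Prop :=
  ∀ (B' B : Type u) [CommRing B'] [CommRing B] [IsLocalRing B'] [IsLocalRing B] (π : B' →+* B),
    Function.Surjective π → RingHom.ker π ^ 2 = ⊥ →
    ∀ (s : Spec (CommRingCat.of B') ⟶ S)
      (α : (AlgSp.yon S).obj (Over.mk (Spec.map (CommRingCat.ofHom π) ≫ s)) ⟶ X)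
      (β : (AlgSp.yon S).obj (Over.mk s) ⟶ Y),
      AlgSp.Points.ofPt α (IsLocalRing.closedPoint B) = x →
      α ≫ f = (AlgSp.yon S).map
        (CategoryTheory.Over.homMk (Spec.map (CommRingCat.ofHom π)) :
          Over.mk (Spec.map (CommRingCat.ofHom π) ≫ s) ⟶ Over.mk s) ≫ β →
      ∃ γ : (AlgSp.yon S).obj (Over.mk s) ⟶ X,
        (AlgSp.yon S).map (CategoryTheory.Over.homMk (Spec.map (CommRingCat.ofHom π)) :
          Over.mk (Spec.map (CommRingCat.ofHom π) ≫ s) ⟶ Over.mk s) ≫ γ = α ∧ γ ≫ f = β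

/-- Condition (3) of S10608. -/
def SmallLiftAtSp {X Y : Sp S} (f : X ⟶ Y) (x : Points X) : Prop :=
  ∀ (B' B : Type u) [CommRing B'] [CommRing B] [IsLocalRing B'] [IsLocalRing B]
    [IsArtinianRing B'] [IsArtinianRing B] (π : B' →+* B), Function.Surjective π →
    (∃ t : B', RingHom.ker π = Ideal.span {t} ∧ ∀ a ∈ IsLocalRing.maximalIdeal B', a * t = 0) →
    ∀ (s : Spec (CommRingCat.of B') ⟶ S)
      (α : (AlgSp.yon S).obj (Over.mk (Spec.map (CommRingCat.ofHom π) ≫ s)) ⟶ X)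
      (β : (AlgSp.yon S).obj (Over.mk s) ⟶ Y),
      AlgSp.Points.ofPt α (IsLocalRing.closedPoint B) = x →
      α ≫ f = (AlgSp.yon S).map
        (CategoryTheory.Over.homMk (Spec.map (CommRingCat.ofHom π)) :
          Over.mk (Spec.map (CommRingCat.ofHom π) ≫ s) ⟶ Over.mk s) ≫ β →
      ∃ γ : (AlgSp.yon S).obj (Over.mk s) ⟶ X,
        (AlgSp.yon S).map (CategoryTheory.Over.homMk (Spec.map (CommRingCat.ofHom π)) :
          Over.mk (Spec.map (CommRingCat.ofHom π) ≫ s) ⟶ Over.mk s) ≫ γ = α ∧ γ ≫ f = β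

theorem smallLiftAtSp_of_sqZeroLiftAtSp {X Y : Sp S} (f : X ⟶ Y) (x : Points X)
    (H : SqZeroLiftAtSp f x) : SmallLiftAtSp f x := by
  intro B' B _ _ _ _ _ _ π hπ ht s α β hx w
  exact H B' B π hπ (ker_sq_eq_bot_of_small π ht) s α β hx w

/-- (1) ⇒ (2) of S10608. -/
theorem sqZeroLiftAtSp_of_hasAtMor {X Y : Sp S} (hX : IsAlgSpace X) (hY : IsAlgSpace Y)
    (f : X ⟶ Y) (x : Points X)
    (h1 : HasAtMor (fun U _ h u => ∃ W : U.Opens, u ∈ W ∧ Smooth (W.ι ≫ h)) f x) :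
    SqZeroLiftAtSp f x := by
  obtain ⟨U, V, a, b, h, u, ha, hb, comm, hux, W, huW, hsm⟩ := h1
  intro B' B _ _ _ _ π hπ hker s α β hαx w
  have hG := goodP_of_listed (@Smooth) (Or.inr (Or.inr (Or.inr (Or.inl rfl))))
  have hsrc := srcEtLoc_of_listed (@Smooth) (Or.inr (Or.inr (Or.inr (Or.inl rfl))))
  obtain ⟨ιW, hιW⟩ : ∃ ιW : Over.mk (W.ι ≫ U.hom) ⟶ U, ιW.left = W.ι :=
    ⟨CategoryTheory.Over.homMk W.ι rfl, rfl⟩
  have hιWe : RepWith @Etale ((yon S).map ιW) :=
    (repWith_yon_map_iff _ ιW).2 (by rw [hιW]; infer_instance)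
  obtain ⟨a', ha'def⟩ : ∃ a' : (yon S).obj (Over.mk (W.ι ≫ U.hom)) ⟶ X,
      a' = (yon S).map ιW ≫ a := ⟨_, rfl⟩
  have ha' : RepWith @Etale a' := by
    rw [ha'def]; exact (RepWith @Etale).comp_mem _ _ hιWe ha
  obtain ⟨hX', hopen, het, hsurj, hrange⟩ := openSubspace_of_etale hX a' ha'
  have hfac : Sheaf.toImage a' ≫ Sheaf.imageι a' = a' := Sheaf.toImage_ι a'
  have comm' : Sheaf.toImage a' ≫ (Sheaf.imageι a' ≫ f) = (yon S).map (ιW ≫ h) ≫ b := by
    rw [← Category.assoc, hfac, ha'def, Category.assoc, comm, ← Category.assoc,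
      ← (yon S).map_comp]
  have hloc : LocP @Smooth (Sheaf.imageι a' ≫ f) :=
    locP_of_one_chart hG hsrc hX' hY _ (Sheaf.toImage a') b (ιW ≫ h) het hsurj hb comm'
      (by rw [Over.comp_left, hιW]; exact hsm)
  have hfs := ((locP_smooth_iff hX' hY _).1 hloc).2
  -- factor `α` through the open subspace
  have hsub : Set.range (Points.map α) ⊆ Set.range (Points.map (Sheaf.imageι a')) := by
    rw [hrange]
    have hO : IsOpen (Set.range (Points.ofPt a')) := (isOpenMap_ofPt_of_etale a' ha').isOpen_range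
    obtain ⟨O, hOdef⟩ : ∃ O : TopologicalSpace.Opens (PrimeSpectrum B),
        (O : Set (PrimeSpectrum B)) = Points.ofPt α ⁻¹' Set.range (Points.ofPt a') :=
      ⟨⟨_, hO.preimage (Points.continuous_ofPt α)⟩, rfl⟩
    have hcl : IsLocalRing.closedPoint B ∈ O := by
      show IsLocalRing.closedPoint B ∈ (O : Set (PrimeSpectrum B))
      rw [hOdef]
      show Points.ofPt α (IsLocalRing.closedPoint B) ∈ Set.range (Points.ofPt a')
      rw [hαx, ← hux]
      refine ⟨⟨u, huW⟩, ?_⟩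
      rw [ha'def, ofPt_comp_yon_map, hιW]
      rfl
    have hO' : O = ⊤ := (IsLocalRing.closedPoint_mem_iff O).1 hcl
    rintro _ ⟨p, rfl⟩
    obtain ⟨t, rfl⟩ := (Points.schemeEquiv _).surjective p
    have ht : t ∈ (O : Set (PrimeSpectrum B)) := by rw [hO']; trivial
    rw [hOdef] at ht
    have e : Points.map α (Points.schemeEquiv _ t) = Points.ofPt α t :=
      (Points.ofPt_eq_map_ofScheme α t).symm
    rw [e]
    exact ht
  obtain ⟨α', hα'⟩ := (factors_through_open_iff _ hopen α).2 hsub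
  obtain ⟨l, hl1, hl2⟩ := exists_lift_of_isFormallySmoothMor hfs _
    (isFOThickMor_specMap π hπ hker s) (by dsimp; infer_instance) α' β
    (by rw [← Category.assoc, hα']; exact w)
  exact ⟨l ≫ Sheaf.imageι a', by rw [← Category.assoc, hl1, hα'], by
    rw [Category.assoc]; exact hl2⟩

/-- (3) ⇒ (1) of S10608. -/
theorem hasAtMor_of_smallLiftAtSp {X Y : Sp S} (hX : IsAlgSpace X) (hY : IsAlgSpace Y)
    (f : X ⟶ Y) (hYn : IsLocNoethSp Y) (hft : LocP @LocallyOfFiniteType f) (x : Points X)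
    (H : SmallLiftAtSp f x) :
    HasAtMor (fun U _ h u => ∃ W : U.Opens, u ∈ W ∧ Smooth (W.ι ≫ h)) f x := by
  obtain ⟨V, U, b, r, h, hb, hbs, hre, hrs, hh, hP₀⟩ := exists_charts_of_locP hX hY f hft
  have hfst : RepWith @Etale (pullback.fst f b) :=
    (RepWith @Etale).of_isPullback (IsPullback.of_hasPullback f b).flip hb
  have hfsts : RepWith @Surjective (pullback.fst f b) :=
    (RepWith @Surjective).of_isPullback (IsPullback.of_hasPullback f b).flip hbs
  obtain ⟨a, hadef⟩ : ∃ a : (yon S).obj U ⟶ X, a = r ≫ pullback.fst f b := ⟨_, rfl⟩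
  have ha : RepWith @Etale a := by rw [hadef]; exact (RepWith @Etale).comp_mem _ _ hre hfst
  have has : RepWith @Surjective a := by
    rw [hadef]; exact (RepWith @Surjective).comp_mem _ _ hrs hfsts
  obtain ⟨u, hu⟩ := surjective_ofPt a has x
  have comm : a ≫ f = (yon S).map h ≫ b := by
    rw [hadef, Category.assoc, pullback.condition, ← Category.assoc, hh]
  haveI : IsLocallyNoetherian V.left := isLocallyNoetherian_of_etale_of_isLocNoethSp hYn b hb
  haveI : LocallyOfFiniteType h.left := hP₀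
  obtain ⟨W, huW, hW⟩ := exists_smooth_nbhd_of_smallLiftAt h.left u (by
    intro B' B _ _ _ _ _ _ π hπ ht α₀ β₀ hα₀u w
    obtain ⟨s, hs⟩ : ∃ s : Spec (CommRingCat.of B') ⟶ S, s = β₀ ≫ V.hom := ⟨_, rfl⟩
    have hα₀ : α₀ ≫ U.hom = Spec.map (CommRingCat.ofHom π) ≫ s := by
      rw [hs, ← Category.assoc, w, Category.assoc, CategoryTheory.Over.w h]
    obtain ⟨α₀', hα₀'⟩ : ∃ α₀' : Over.mk (Spec.map (CommRingCat.ofHom π) ≫ s) ⟶ U,
        α₀'.left = α₀ := ⟨CategoryTheory.Over.homMk α₀ hα₀, rfl⟩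
    obtain ⟨β₀', hβ₀'⟩ : ∃ β₀' : Over.mk s ⟶ V, β₀'.left = β₀ :=
      ⟨CategoryTheory.Over.homMk β₀ hs.symm, rfl⟩
    obtain ⟨j, hj⟩ : ∃ j : Over.mk (Spec.map (CommRingCat.ofHom π) ≫ s) ⟶ Over.mk s,
        j = CategoryTheory.Over.homMk (Spec.map (CommRingCat.ofHom π)) := ⟨_, rfl⟩
    have hjl : j.left = Spec.map (CommRingCat.ofHom π) := by rw [hj]; rfl
    have w' : j ≫ β₀' = α₀' ≫ h := by
      apply Over.OverMorphism.ext
      rw [Over.comp_left, Over.comp_left, hjl, hβ₀', hα₀', w]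
    have hjthick : IsFOThickMor ((yon S).map j) := by
      rw [hj]
      exact isFOThickMor_specMap π hπ (ker_sq_eq_bot_of_small π ht) s
    have wsp : ((yon S).map α₀' ≫ a) ≫ f = (yon S).map j ≫ ((yon S).map β₀' ≫ b) := by
      rw [Category.assoc, comm, ← Category.assoc, ← (yon S).map_comp, ← w', (yon S).map_comp,
        Category.assoc]
    have hpt : Points.ofPt ((yon S).map α₀' ≫ a) (IsLocalRing.closedPoint B) = x := by
      rw [ofPt_comp_yon_map, hα₀', hα₀u, hu]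
    obtain ⟨γ, hγ1, hγ2⟩ := H B' B π hπ ht s ((yon S).map α₀' ≫ a) ((yon S).map β₀' ≫ b) hpt
      (by rw [← hj]; exact wsp)
    rw [← hj] at hγ1
    obtain ⟨γ₀, hγ₀1, hγ₀2⟩ :=
      exists_lift_chart f a b h ha hb comm j hjthick α₀' β₀' w' γ hγ1 hγ2
    refine ⟨γ₀.left, ?_, ?_⟩
    · rw [← hjl, ← Over.comp_left, hγ₀1, hα₀']
    · rw [← Over.comp_left, hγ₀2, hβ₀'])
  exact ⟨U, V, a, b, h, u, ha, hb, comm, hu, W, huW, hW⟩

end Groth.Agent.Helper15.SmExt
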