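import Mathlib

set_option autoImplicit false
universe u

namespace Groth.Agent.Helper15.SmulMemSpan

open Polynomial in
theorem eval_not_mem_of_monic {T : Type u} [CommRing T] (𝔄 𝔮 : Ideal T) [𝔮.IsPrime] (h𝔄𝔮 : 𝔄 ≤ 𝔮)
    (p : T[X]) (hp : p.Monic) (hc : ∀ k, p.coeff k ∈ 𝔄 ^ (p.natDegree - k)) (s₀ : T) (hs₀ : s₀ ∉ 𝔮) :
    p.eval s₀ ∉ 𝔮 := by
  intro hmem
  rw [Polynomial.eval_eq_sum_range, Finset.sum_range_succ] at hmem
  have h1 : ∑ k ∈ Finset.range p.natDegree, p.coeff k * s₀ ^ k ∈ 𝔮 := by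
    refine Ideal.sum_mem _ fun k hk => ?_
    refine Ideal.mul_mem_right _ _ (h𝔄𝔮 ?_)
    have hk' : k < p.natDegree := Finset.mem_range.1 hk
    exact Ideal.pow_le_self (by omega) (hc k)
  have h2 : p.coeff p.natDegree * s₀ ^ p.natDegree ∈ 𝔮 := by
    have := 𝔮.sub_mem hmem h1
    simpa using this
  rw [Polynomial.Monic.coeff_natDegree hp, one_mul] at h2
  exact hs₀ (Ideal.IsPrime.mem_of_pow_mem inferInstance _ h2)

theorem exists_smul_mem_span {T P' : Type u} [CommRing T] [AddCommGroup P'] [Module T P']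
    [Module.Finite T P'] (𝔄 𝔅 : Ideal T) (u : P' →ₗ[T] T)
    (hF3 : ∀ x, u x ∈ 𝔅 → x ∈ 𝔄 • (⊤ : Submodule T P')) (𝔮 : Ideal T) [𝔮.IsPrime] (h𝔄𝔮 : 𝔄 ≤ 𝔮)
    {c : ℕ} (y : Fin c → P')
    (hy : ∀ x : P', ∃ s : T, s ∉ 𝔮 ∧ s * u x ∈ Ideal.span (Set.range fun j => u (y j)) ⊔ 𝔅) :
    ∃ s : T, s ∉ 𝔮 ∧ ∀ x : P', s • x ∈ Submodule.span T (Set.range y) := by
  classical
  set N : Submodule T P' := Submodule.span T (Set.range y) with hN
  -- Step 1
  have h1 : ∀ x : P', ∃ s : T, s ∉ 𝔮 ∧ s • x ∈ N ⊔ 𝔄 • (⊤ : Submodule T P') := by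
    intro x
    obtain ⟨s, hs, hsx⟩ := hy x
    refine ⟨s, hs, ?_⟩
    obtain ⟨a, ha, b, hb, hab⟩ := Submodule.mem_sup.1 hsx
    have hspan : Ideal.span (Set.range fun j => u (y j)) = Submodule.map u N := by
      rw [hN, Submodule.map_span, ← Set.range_comp]
      rfl
    rw [hspan] at ha
    obtain ⟨n, hn, rfl⟩ := ha
    have hb' : u (s • x - n) ∈ 𝔅 := by
      have : u (s • x - n) = b := by
        rw [map_sub, map_smul, smul_eq_mul, ← hab]; ring
      rw [this]; exact hb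
    have := hF3 _ hb'
    have h3 : s • x = n + (s • x - n) := by abel
    rw [h3]
    exact Submodule.add_mem_sup hn this
  -- Step 2
  obtain ⟨G, hG⟩ := (Module.Finite.fg_top : (⊤ : Submodule T P').FG)
  choose sf hsf1 hsf2 using h1
  set s₀ : T := ∏ g ∈ G, sf g with hs₀
  have hs₀q : s₀ ∉ 𝔮 := by
    intro h
    obtain ⟨g, -, hg⟩ := (Ideal.IsPrime.prod_mem_iff (hp := inferInstance)).1 h
    exact hsf1 g hg
  have h2 : ∀ x : P', s₀ • x ∈ N ⊔ 𝔄 • (⊤ : Submodule T P') := by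
    intro x
    have hx : x ∈ Submodule.span T (G : Set P') := by rw [hG]; trivial
    induction hx using Submodule.span_induction with
    | mem g hg =>
      have : s₀ = (∏ g' ∈ G.erase g, sf g') * sf g := by
        rw [hs₀, Finset.prod_erase_mul G _ hg]
      rw [this, mul_smul]
      exact Submodule.smul_mem _ _ (hsf2 g)
    | zero => simp
    | add a b _ _ ha hb => rw [smul_add]; exact Submodule.add_mem _ ha hb
    | smul t a _ ha => rw [smul_comm]; exact Submodule.smul_mem _ _ ha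
  -- Step 3
  let W := P' ⧸ N
  let f : Module.End T W := algebraMap T (Module.End T W) s₀
  have hf : LinearMap.range f ≤ 𝔄 • (⊤ : Submodule T W) := by
    rintro _ ⟨w, rfl⟩
    obtain ⟨x, rfl⟩ := Submodule.Quotient.mk_surjective N w
    have hx := h2 x
    obtain ⟨n, hn, z, hz, hnz⟩ := Submodule.mem_sup.1 hx
    have : f (Submodule.Quotient.mk x) = N.mkQ z := by
      change s₀ • (Submodule.Quotient.mk x : W) = N.mkQ z
      rw [← Submodule.Quotient.mk_smul, ← hnz]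
      simp [Submodule.Quotient.mk_add, (Submodule.Quotient.mk_eq_zero N).2 hn]
    rw [this]
    have hz' : N.mkQ z ∈ Submodule.map N.mkQ (𝔄 • (⊤ : Submodule T P')) := ⟨z, hz, rfl⟩
    rw [Submodule.map_smul''] at hz'
    exact Submodule.smul_mono le_rfl le_top hz'
  obtain ⟨p, hpm, -, hpc, hp0⟩ :=
    LinearMap.exists_monic_and_natDegree_eq_and_coeff_mem_pow_and_aeval_eq_zero T f 𝔄 hf
  refine ⟨p.eval s₀, eval_not_mem_of_monic 𝔄 𝔮 h𝔄𝔮 p hpm hpc s₀ hs₀q, fun x => ?_⟩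
  have h4 : Polynomial.aeval f p = algebraMap T (Module.End T W) (p.eval s₀) := by
    rw [← Polynomial.aeval_algebraMap_apply_eq_algebraMap_eval]
  rw [h4] at hp0
  have h5 := LinearMap.congr_fun hp0 (Submodule.Quotient.mk x)
  have h6 : (p.eval s₀) • (Submodule.Quotient.mk x : W) = 0 := h5
  rw [← Submodule.Quotient.mk_smul, Submodule.Quotient.mk_eq_zero] at h6
  exact h6

end Groth.Agent.Helper15.SmulMemSpan
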