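import Mathlib

set_option autoImplicit false
universe u
open CategoryTheory CategoryTheory.Limits AlgebraicGeometry TopologicalSpace

namespace Groth.Agent.Helper15

lemma exists_lift_of_finitePresentation {X : Scheme.{u}} {R A : CommRingCat.{u}} {U : X.Opens}
    {x : X} (hxU : x ∈ U)
    (φ : A ⟶ X.presheaf.stalk x) (φRA : R ⟶ A) (φRX : R ⟶ Γ(X, U))
    (hφRA : RingHom.FinitePresentation φRA.hom)
    (e : φRA ≫ φ = φRX ≫ X.presheaf.germ U x hxU) :
    ∃ (V : X.Opens) (hxV : x ∈ V) (φ' : A ⟶ Γ(X, V)) (i : V ≤ U), IsAffineOpen V ∧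
      φ = φ' ≫ X.presheaf.germ V x hxV ∧ φRX ≫ X.presheaf.map i.hom.op = φRA ≫ φ' := by
  classical
  let := φRA.hom.toAlgebra
  obtain ⟨n, π, hπ, s, hs⟩ := hφRA
  choose W hxW t ht using fun j : Fin n ↦ X.presheaf.exists_germ_eq (φ (π (MvPolynomial.X j)))
  let V₀ : X.Opens := (Finset.univ.inf W) ⊓ U
  have hxV₀ : x ∈ V₀ := by
    rw [← SetLike.mem_coe, Opens.coe_inf, Opens.coe_finset_inf]
    exact ⟨by simpa using fun j ↦ hxW j, hxU⟩
  let ρ : R →+* Γ(X, V₀) := (φRX ≫ X.presheaf.map (homOfLE (inf_le_right : V₀ ≤ U)).op).hom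
  have hWj : ∀ j, V₀ ≤ W j := fun j => inf_le_left.trans (Finset.inf_le (Finset.mem_univ j))
  let ψ₀ : MvPolynomial (Fin n) R →+* Γ(X, V₀) :=
    MvPolynomial.eval₂Hom ρ (fun j => X.presheaf.map (homOfLE (hWj j)).op (t j))
  have hψ₀ : (X.presheaf.germ V₀ x hxV₀).hom.comp ψ₀ = φ.hom.comp π.toRingHom := by
    apply MvPolynomial.ringHom_ext
    · intro r
      simp only [RingHom.coe_comp, Function.comp_apply, ψ₀, MvPolynomial.coe_eval₂Hom,
        MvPolynomial.eval₂_C, ρ]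
      have h1 : π (MvPolynomial.C r) = φRA r := by
        rw [← MvPolynomial.algebraMap_eq, AlgHom.commutes]; rfl
      change (X.presheaf.germ V₀ x hxV₀) ((X.presheaf.map (homOfLE inf_le_right).op) (φRX r)) =
        φ (π (MvPolynomial.C r))
      rw [h1, TopCat.Presheaf.germ_res_apply]
      exact (congr($e r)).symm
    · intro j
      simp only [RingHom.coe_comp, Function.comp_apply, ψ₀, MvPolynomial.coe_eval₂Hom,
        MvPolynomial.eval₂_X]
      change (X.presheaf.germ V₀ x hxV₀) ((X.presheaf.map (homOfLE (hWj j)).op) (t j)) = _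
      rw [TopCat.Presheaf.germ_res_apply]
      exact ht j
  have hkill : ∀ p ∈ s, ∃ (Vp : X.Opens) (_ : x ∈ Vp) (i : Vp ≤ V₀),
      X.presheaf.map (homOfLE i).op (ψ₀ p) = 0 := by
    intro p hp
    have hp0 : π p = 0 := by
      have : p ∈ RingHom.ker π.toRingHom := hs ▸ Ideal.subset_span hp
      exact this
    have h0 : X.presheaf.germ V₀ x hxV₀ (ψ₀ p) = X.presheaf.germ V₀ x hxV₀ 0 := by
      have := congr($hψ₀ p)
      simp only [RingHom.coe_comp, Function.comp_apply] at this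
      rw [map_zero]
      refine this.trans ?_
      change φ (π p) = 0
      rw [hp0, map_zero]
    obtain ⟨Wp, hxWp, i1, i2, h⟩ := X.presheaf.germ_eq x hxV₀ hxV₀ (ψ₀ p) 0 h0
    exact ⟨Wp, hxWp, i1.le, by rw [map_zero] at h; exact h⟩
  choose! Vp hxVp iVp hVp using hkill
  let V₁ : X.Opens := (s.inf Vp) ⊓ V₀
  have hxV₁ : x ∈ V₁ := by
    rw [← SetLike.mem_coe, Opens.coe_inf, Opens.coe_finset_inf]
    exact ⟨by simpa using fun p hp ↦ hxVp p hp, hxV₀⟩
  obtain ⟨_, ⟨V, hV, rfl⟩, hxV, hVV₁⟩ :=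
    X.isBasis_affineOpens.exists_subset_of_mem_open hxV₁ V₁.2
  have hVV₀ : V ≤ V₀ := fun y hy => (hVV₁ hy).2
  let ψ : MvPolynomial (Fin n) R →+* Γ(X, V) := (X.presheaf.map (homOfLE hVV₀).op).hom.comp ψ₀
  have hker : RingHom.ker π.toRingHom ≤ RingHom.ker ψ := by
    rw [← hs, Ideal.span_le]
    intro p hp
    have hVVp : V ≤ Vp p := fun y hy =>
      (Finset.inf_le hp : s.inf Vp ≤ Vp p) (hVV₁ hy).1
    change ψ p = 0
    have : ψ p = X.presheaf.map (homOfLE hVVp).op (X.presheaf.map (homOfLE (iVp p hp)).op (ψ₀ p)) := by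
      change (X.presheaf.map (homOfLE hVV₀).op) (ψ₀ p) = _
      rw [← CategoryTheory.comp_apply, ← Functor.map_comp]
      rfl
    rw [this, hVp p hp, map_zero]
  refine ⟨V, hxV, CommRingCat.ofHom (RingHom.liftOfSurjective π.toRingHom hπ ⟨ψ, hker⟩),
    hVV₀.trans inf_le_right, hV, ?_, ?_⟩
  · ext a
    obtain ⟨p, rfl⟩ := hπ a
    have := congr($hψ₀ p)
    simp only [RingHom.coe_comp, Function.comp_apply] at this
    change φ (π p) = X.presheaf.germ V x hxV
      ((RingHom.liftOfSurjective π.toRingHom hπ ⟨ψ, hker⟩) (π.toRingHom p))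
    rw [RingHom.liftOfRightInverse_comp_apply]
    change _ = X.presheaf.germ V x hxV ((X.presheaf.map (homOfLE hVV₀).op) (ψ₀ p))
    rw [TopCat.Presheaf.germ_res_apply]
    exact this.symm
  · ext r
    have h1 : φRA r = π.toRingHom (MvPolynomial.C r) := by
      change _ = π (MvPolynomial.C r)
      rw [← MvPolynomial.algebraMap_eq, AlgHom.commutes]; rfl
    change X.presheaf.map (homOfLE (hVV₀.trans inf_le_right)).op (φRX r) =
      (RingHom.liftOfSurjective π.toRingHom hπ ⟨ψ, hker⟩) (φRA r)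
    rw [h1, RingHom.liftOfRightInverse_comp_apply]
    change _ = (X.presheaf.map (homOfLE hVV₀).op) (ψ₀ (MvPolynomial.C r))
    simp only [ψ₀, MvPolynomial.coe_eval₂Hom, MvPolynomial.eval₂_C, ρ]
    have key : ∀ z, X.presheaf.map (homOfLE (hVV₀.trans (inf_le_right : V₀ ≤ U))).op z =
        X.presheaf.map (homOfLE hVV₀).op (X.presheaf.map (homOfLE (inf_le_right : V₀ ≤ U)).op z) :=
      fun z => by rw [← CategoryTheory.comp_apply, ← Functor.map_comp]; rfl
    exact key _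


variable {X Y S : Scheme.{u}} (sX : X ⟶ S) (sY : Y ⟶ S)

lemma spread_out_of_lfp [LocallyOfFinitePresentation sY] {x : X} {y : Y}
    (e : sX x = sY y) (φ : Y.presheaf.stalk y ⟶ X.presheaf.stalk x)
    (h : sY.stalkMap y ≫ φ =
      S.presheaf.stalkSpecializes (Inseparable.of_eq e).specializes ≫ sX.stalkMap x) :
    ∃ (U : X.Opens) (hxU : x ∈ U) (f : U.toScheme ⟶ Y),
      Spec.map φ ≫ Y.fromSpecStalk y = U.fromSpecStalkOfMem x hxU ≫ f ∧
      f ≫ sY = U.ι ≫ sX := by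
  obtain ⟨_, ⟨U, hU, rfl⟩, hxU, -⟩ :=
    S.isBasis_affineOpens.exists_subset_of_mem_open (Set.mem_univ (sX x)) isOpen_univ
  have hyU : sY y ∈ U := e ▸ hxU
  obtain ⟨_, ⟨V : Y.Opens, hV, rfl⟩, hyV, iVU⟩ :=
    Y.isBasis_affineOpens.exists_subset_of_mem_open hyU (sY ⁻¹ᵁ U).2
  have : sY.appLE U V iVU ≫ Y.presheaf.germ V y hyV ≫ φ =
      sX.app U ≫ X.presheaf.germ (sX ⁻¹ᵁ U) x hxU := by
    rw [Scheme.Hom.appLE, Category.assoc, Y.presheaf.germ_res_assoc,
      ← Scheme.Hom.germ_stalkMap_assoc, h]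
    simp
  obtain ⟨W, hxW, φ', i, hW, h₁, h₂⟩ :=
    exists_lift_of_finitePresentation (R := Γ(S, U)) (A := Γ(Y, V)) (U := sX ⁻¹ᵁ U) (x := x) hxU
    (Y.presheaf.germ _ y hyV ≫ φ) (sY.appLE U V iVU) (sX.app U)
    (HasRingHomProperty.appLE (P := @LocallyOfFinitePresentation) _ ‹_› ⟨U, hU⟩ ⟨V, hV⟩ iVU) this
  refine ⟨W, hxW, W.toSpecΓ ≫ Spec.map φ' ≫ hV.fromSpec, ?_, ?_⟩
  · rw [W.fromSpecStalkOfMem_toSpecΓ_assoc x hxW, ← Spec.map_comp_assoc, ← h₁,
      Spec.map_comp, Category.assoc, ← IsAffineOpen.fromSpecStalk,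
      IsAffineOpen.fromSpecStalk_eq_fromSpecStalk]
  · simp only [Category.assoc]
    rw [← IsAffineOpen.SpecMap_appLE_fromSpec sY hU hV iVU, ← Spec.map_comp_assoc, ← h₂,
      ← Scheme.Hom.appLE, ← hW.isoSpec_hom, IsAffineOpen.SpecMap_appLE_fromSpec sX hU hW i,
      ← Iso.eq_inv_comp, IsAffineOpen.isoSpec_inv_ι_assoc]

lemma spread_out_of_lfp' [LocallyOfFinitePresentation sY] {x : X}
    (φ : Spec (X.presheaf.stalk x) ⟶ Y)
    (h : φ ≫ sY = X.fromSpecStalk x ≫ sX) :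
    ∃ (U : X.Opens) (hxU : x ∈ U) (f : U.toScheme ⟶ Y),
      φ = U.fromSpecStalkOfMem x hxU ≫ f ∧ f ≫ sY = U.ι ≫ sX := by
  have := spread_out_of_lfp sX sY ?_ (Scheme.stalkClosedPointTo φ) ?_
  · simpa only [Scheme.Spec_stalkClosedPointTo_fromSpecStalk] using this
  · rw [← Scheme.Hom.comp_apply, h, Scheme.Hom.comp_apply, Scheme.fromSpecStalk_closedPoint]
  · apply Spec.map_injective
    rw [← cancel_mono (S.fromSpecStalk _)]
    simpa only [Spec.map_comp, Category.assoc, Scheme.SpecMap_stalkMap_fromSpecStalk,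
      Scheme.Spec_stalkClosedPointTo_fromSpecStalk_assoc,
      Scheme.SpecMap_stalkSpecializes_fromSpecStalk]

end Groth.Agent.Helper15
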