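import Groth.Agent.Lib.Helper15.NGeom1
import Groth.Prelude.Def_CurvBase

/-!
# The geometric number of points of a finite scheme over a field
-/

set_option autoImplicit false
universe u
open CategoryTheory CategoryTheory.Limits AlgebraicGeometry

namespace Groth.Agent.Helper15.SteinFin

open Groth.Agent.Helper15.Wt Groth.Agent.Helper15.NGeom

/-- The canonical map from a field to the residue field of its spectrum. -/
noncomputable def toRes (k : Type u) [Field k] (p : Spec (CommRingCat.of k)) :
    k →+* (Spec (CommRingCat.of k)).residueField p :=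
  ((Scheme.ΓSpecIso (CommRingCat.of k)).inv ≫
    (Spec (CommRingCat.of k)).presheaf.germ ⊤ p trivial ≫ (Spec (CommRingCat.of k)).residue p).hom

theorem toRes_bijective (k : Type u) [Field k] (p : Spec (CommRingCat.of k)) :
    Function.Bijective (toRes k p) := by
  have h := Scheme.Spec.algebraMap_residueFieldIso_inv (CommRingCat.of k) p
  have h1 : Function.Bijective (algebraMap k p.asIdeal.ResidueField) :=
    (Ideal.algEquivResidueFieldOfField p.asIdeal).bijective
  have h2 : Function.Bijective (Scheme.Spec.residueFieldIso (CommRingCat.of k) p).inv.hom :=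
    ConcreteCategory.bijective_of_isIso (Scheme.Spec.residueFieldIso (CommRingCat.of k) p).inv
  have h3 : (toRes k p : k → _) =
      (Scheme.Spec.residueFieldIso (CommRingCat.of k) p).inv.hom ∘
        (algebraMap k p.asIdeal.ResidueField) := by
    funext a
    have := congrArg (fun φ => φ.hom a) h
    exact this.symm
  rw [h3]
  exact h2.comp h1

theorem resMap_eq (k : Type u) [Field k] (S' : Scheme.{u}) [S'.Over (Spec (CommRingCat.of k))]
    (u : S') (a : k) :
    Curv2.resMap k S' u a =
      (S' ↘ Spec (CommRingCat.of k)).residueFieldMap u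
        (toRes k ((S' ↘ Spec (CommRingCat.of k)) u) a) := by
  unfold Curv2.resMap Curv2.stalkMap Coh.toGlobal toRes
  simp only [RingHom.coe_comp, Function.comp_apply, CommRingCat.hom_comp]
  have h := Scheme.Γevaluation_naturality_apply (S' ↘ Spec (CommRingCat.of k)) u
    ((Scheme.ΓSpecIso (CommRingCat.of k)).inv.hom a)
  exact h.symm

end Groth.Agent.Helper15.SteinFin

namespace Groth.Agent.Helper15.SteinFin

open Groth.Agent.Helper15.Wt Groth.Agent.Helper15.NGeom

attribute [local instance] Curv2.resAlgebra

theorem finSepDegree_eq (k : Type u) [Field k] (S' : Scheme.{u})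
    [S'.Over (Spec (CommRingCat.of k))] [LocallyQuasiFinite (S' ↘ (Spec (CommRingCat.of k)))]
    (u : S') :
    (letI := ((S' ↘ Spec (CommRingCat.of k)).residueFieldMap u).hom.toAlgebra
     Field.finSepDegree ((Spec (CommRingCat.of k)).residueField ((S' ↘ Spec (CommRingCat.of k)) u))
      (S'.residueField u)) = Field.finSepDegree k (S'.residueField u) := by
  letI a1 : Algebra ((Spec (CommRingCat.of k)).residueField ((S' ↘ Spec (CommRingCat.of k)) u))
      (S'.residueField u) := ((S' ↘ Spec (CommRingCat.of k)).residueFieldMap u).hom.toAlgebra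
  letI a3 : Algebra k ((Spec (CommRingCat.of k)).residueField ((S' ↘ Spec (CommRingCat.of k)) u)) :=
    (toRes k ((S' ↘ Spec (CommRingCat.of k)) u)).toAlgebra
  haveI : IsScalarTower k
      ((Spec (CommRingCat.of k)).residueField ((S' ↘ Spec (CommRingCat.of k)) u))
      (S'.residueField u) := IsScalarTower.of_algebraMap_eq (fun a => resMap_eq k S' u a)
  haveI : Module.Finite
      ((Spec (CommRingCat.of k)).residueField ((S' ↘ Spec (CommRingCat.of k)) u))
      (S'.residueField u) :=
    RingHom.finite_algebraMap.1 (finite_residueFieldMap (S' ↘ Spec (CommRingCat.of k)) u)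
  have h1 := Field.finSepDegree_mul_finSepDegree_of_isAlgebraic k
    ((Spec (CommRingCat.of k)).residueField ((S' ↘ Spec (CommRingCat.of k)) u)) (S'.residueField u)
  have h2 : Field.finSepDegree k
      ((Spec (CommRingCat.of k)).residueField ((S' ↘ Spec (CommRingCat.of k)) u)) = 1 := by
    let e : k ≃ₐ[k] ((Spec (CommRingCat.of k)).residueField ((S' ↘ Spec (CommRingCat.of k)) u)) :=
      AlgEquiv.ofBijective (Algebra.ofId k _) (toRes_bijective k _)
    rw [← Field.finSepDegree_eq_of_equiv k k _ e, Field.finSepDegree_self]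
  rw [h2, one_mul] at h1
  exact h1

theorem nGeomConnComp_eq (k : Type u) [Field k] (S' : Scheme.{u})
    [S'.Over (Spec (CommRingCat.of k))]
    [IsFinite (S' ↘ (Spec (CommRingCat.of k)))] (p : ↥(Spec (CommRingCat.of k))) :
    MoreMor.nGeomConnComp (S' ↘ (Spec (CommRingCat.of k))) p =
      ((∑ᶠ s' : S', Field.finSepDegree k (S'.residueField s') : ℕ) : ℕ∞) := by
  classical
  let Ω := AlgebraicClosure k
  let vb : Spec (CommRingCat.of Ω) ⟶ Spec (CommRingCat.of k) :=
    Spec.map (CommRingCat.ofHom (algebraMap k Ω))
  have hsub : ∀ a b : ↥(Spec (CommRingCat.of k)), a = b := fun a b => Subsingleton.elim a b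
  have hp : vb (pt Ω) = p := hsub _ _
  have hfin : ((S' ↘ (Spec (CommRingCat.of k))) ⁻¹' {vb (pt Ω)}).Finite :=
    (S' ↘ (Spec (CommRingCat.of k))).finite_preimage_singleton _
  have h1 := nGeomConnComp_eq_card_lifts (S' ↘ (Spec (CommRingCat.of k))) vb
  have h2 := card_lifts_eq_fibreIntegral (S' ↘ (Spec (CommRingCat.of k))) vb hfin
  rw [hp] at h1 h2
  rw [h1]
  congr 1
  have h3 : MoreMor.fibreIntegral (S' ↘ (Spec (CommRingCat.of k))) (fun _ => 1) p =
      ((∑ᶠ s' : S', Field.finSepDegree k (S'.residueField s') : ℕ) : ℤ) := by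
    unfold MoreMor.fibreIntegral
    let e : {u : S' // (S' ↘ (Spec (CommRingCat.of k))) u = p} ≃ S' :=
      { toFun := fun u => u.1
        invFun := fun u => ⟨u, hsub _ _⟩
        left_inv := fun u => rfl
        right_inv := fun u => rfl }
    rw [← finsum_comp_equiv e.symm]
    have hfinS : Finite S' := by
      have : Finite {u : S' // (S' ↘ (Spec (CommRingCat.of k))) u = p} := by
        have := hfin
        rw [hp] at this
        exact this.to_subtype
      exact Finite.of_equiv _ e
    letI := Fintype.ofFinite S'
    rw [finsum_eq_sum_of_fintype, finsum_eq_sum_of_fintype]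
    push_cast
    refine Finset.sum_congr rfl (fun u _ => ?_)
    rw [one_mul]
    congr 1
    exact finSepDegree_eq k S' u
  rw [h3] at h2
  exact_mod_cast h2

end Groth.Agent.Helper15.SteinFin
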