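import Mathlib
import Groth.Agent.Lib.Helper15.StratG3
import Groth.Agent.Lib.Helper15.AlgSpDiag

/-!
# An algebraic space with a finite etale cover by a quasi-separated scheme is quasi-separated
-/

set_option autoImplicit false
universe u
open CategoryTheory CategoryTheory.Limits AlgebraicGeometry MorphismProperty Opposite
open AlgSp Groth.Agent.Helper16.AS

namespace Groth.Agent.Helper15.StratG

open Groth.Agent.Helper15

variable {S : Scheme.{u}}

/-- A sheaf with representable diagonal admitting a surjective etale chart from a quasi-separated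
scheme such that the first projection of the relation is quasi-compact is quasi-separated over the
base. -/
theorem isQuasiSeparatedSp_of_quasiCompact_chart {X : Sp S} (hX : Representable (Limits.diag X))
    {U : Over S} (a : (yon S).obj U ⟶ X) (hq : RepWith @QuasiCompact a) (he : RepWith @Etale a)
    (hs : RepWith @Surjective a) [QuasiSeparatedSpace ↥U.left] : IsQuasiSeparatedSp X := by
  have sq := he.rep.isPullback' a
  set R := he.rep.pullback a
  set t := he.rep.fst' a
  set s := he.rep.snd a
  refine repWith_diag_of_chart hX a he hs s t sq @QuasiCompact ?_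
  have hfst : (prod.lift t s).left ≫ (prod.fst : U ⨯ U ⟶ U).left = t.left := by
    rw [← Over.comp_left, prod.lift_fst]
  haveI : QuasiCompact t.left := hq.property _ _ _ sq.flip
  haveI : QuasiSeparated (prod.fst : U ⨯ U ⟶ U).left := by
    have : (prod.fst : U ⨯ U ⟶ U).left =
        (Over.prodLeftIsoPullback U U).hom ≫ pullback.fst U.hom U.hom :=
      (Over.prodLeftIsoPullback_hom_fst (Y := U) (Z := U)).symm
    rw [this]
    infer_instance
  haveI : QuasiCompact ((prod.lift t s).left ≫ (prod.fst : U ⨯ U ⟶ U).left) := by
    rw [hfst]; infer_instance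
  exact QuasiCompact.of_comp (prod.lift t s).left (prod.fst : U ⨯ U ⟶ U).left

end Groth.Agent.Helper15.StratG

namespace Groth.Agent.Helper15.StratG

open Groth.Agent.Helper15

variable {S : Scheme.{u}}

/-- The schematic locus of an algebraic space quasi-separated over an arbitrary base is dense and
contains every point of codimension zero. -/
theorem exists_dense_open_subscheme_c0_of_isQuasiSeparatedSp {X : Sp S} (hX : IsAlgSpace X)
    (hqs : IsQuasiSeparatedSp X) :
    ∃ (X' : Sp S) (j' : X' ⟶ X), IsAlgSpace X' ∧ RepWith @IsOpenImmersion j' ∧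
      X'.obj.IsRepresentable ∧ Dense (Set.range (Points.map j')) ∧
      ∀ x : Points X, HasAt (fun U u => ringKrullDim ↥(U.presheaf.stalk u) = 0) X x →
        x ∈ Set.range (Points.map j') := by
  refine exists_dense_open_subscheme_c0 hX (ι := PUnit.{u + 1}) (fun _ => X) (fun _ => 𝟙 X)
    (fun _ => hX) ⟨fun _ => (RepWith @IsOpenImmersion).id_mem X, fun x => ⟨PUnit.unit, x, ?_⟩⟩
    (fun _ => hqs)
  rw [Points.map_id]

end Groth.Agent.Helper15.StratG
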