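import Mathlib

/-!
# Closure of off-diagonal tensor points meets the diagonal (pure algebra)
-/

set_option autoImplicit false
universe u
open TensorProduct

namespace Groth.Agent.Helper15.TensorDiag

/-- Finitely many field extensions of `k` embed in a common overfield. -/
theorem exists_common_overfield (k : Type u) [Field k] (K : ℕ → Type u) [∀ n, Field (K n)]
    [∀ n, Algebra k (K n)] (N : ℕ) :
    ∃ (Ω : Type u) (_ : Field Ω) (_ : Algebra k Ω), ∀ n < N, Nonempty (K n →ₐ[k] Ω) := by
  induction N with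
  | zero => exact ⟨k, inferInstance, inferInstance, fun n hn => absurd hn (Nat.not_lt_zero _)⟩
  | succ N ih =>
    obtain ⟨Ω, _, _, h⟩ := ih
    haveI : Nontrivial (Ω ⊗[k] K N) := inferInstance
    obtain ⟨m, hm⟩ := Ideal.exists_maximal (Ω ⊗[k] K N)
    letI := Ideal.Quotient.field m
    refine ⟨(Ω ⊗[k] K N) ⧸ m, inferInstance, inferInstance, fun n hn => ?_⟩
    rcases Nat.lt_succ_iff_lt_or_eq.mp hn with h' | rfl
    · obtain ⟨f⟩ := h n h'
      exact ⟨(Ideal.Quotient.mkₐ k m).comp (Algebra.TensorProduct.includeLeft.comp f)⟩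
    · exact ⟨(Ideal.Quotient.mkₐ k m).comp Algebra.TensorProduct.includeRight⟩


/-- Core algebraic statement: an element of `A ⊗ A` whose images in all `K n ⊗[k] K m` (`n ≠ m`)
are nilpotent cannot multiply to `1`. -/
theorem lmul_ne_one (A : Type u) [CommRing A] (k : Type u) [Field k] (K : ℕ → Type u)
    [∀ n, Field (K n)] [∀ n, Algebra A (K n)] [∀ n, Algebra k (K n)]
    (φ : ∀ n m, A ⊗[ℤ] A →+* K n ⊗[k] K m)
    (hφ : ∀ n m a b, φ n m (a ⊗ₜ b) = algebraMap A (K n) a ⊗ₜ algebraMap A (K m) b)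
    (g : A ⊗[ℤ] A) (hg : ∀ n m, n ≠ m → IsNilpotent (φ n m g)) :
    Algebra.TensorProduct.lmul' (S := A) ℤ g ≠ 1 := by
  intro h1
  obtain ⟨s, hs⟩ := TensorProduct.exists_finset g
  obtain ⟨Ω, _, _, hΩ⟩ := exists_common_overfield k K (s.card + 1)
  let ι : ∀ n : Fin (s.card + 1), K n →ₐ[k] Ω := fun n => (hΩ n.1 n.2).some
  let x : Fin (s.card + 1) → (s → Ω) := fun n i => ι n (algebraMap A (K n) i.1.1)
  let y : Fin (s.card + 1) → (s → Ω) := fun n i => ι n (algebraMap A (K n) i.1.2)
  let θ : ∀ n m : Fin (s.card + 1), K n ⊗[k] K m →ₐ[k] Ω := fun n m =>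
    Algebra.TensorProduct.lift (ι n) (ι m) (fun _ _ => Commute.all _ _)
  have hθ : ∀ n m, θ n m (φ n m g) = ∑ i : s, x n i * y m i := by
    intro n m
    rw [hs, map_sum, map_sum, ← Finset.sum_coe_sort s]
    refine Finset.sum_congr rfl fun i _ => ?_
    rw [hφ]
    simp [θ, x, y]
  have hoff : ∀ n m : Fin (s.card + 1), n ≠ m → ∑ i : s, x n i * y m i = 0 := by
    intro n m hnm
    rw [← hθ]
    have : IsNilpotent (θ n m (φ n.1 m.1 g)) :=
      (hg n.1 m.1 (fun h => hnm (Fin.ext h))).map (θ n m)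
    exact this.eq_zero
  have hdiag : ∀ n : Fin (s.card + 1), ∑ i : s, x n i * y n i = 1 := by
    intro n
    have h2 : ∑ i : s, x n i * y n i = ι n (algebraMap A (K n)
        (Algebra.TensorProduct.lmul' (S := A) ℤ g)) := by
      rw [hs, map_sum, map_sum, map_sum, ← Finset.sum_coe_sort s]
      refine Finset.sum_congr rfl fun i _ => ?_
      simp [x, y]
    rw [h2, h1, map_one, map_one]
  have hli : LinearIndependent Ω x := by
    rw [Fintype.linearIndependent_iff]
    intro c hc m
    have h3 : ∑ i : s, (∑ n, c n • x n) i * y m i = 0 := by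
      rw [hc]; simp
    have h4 : ∑ i : s, (∑ n, c n • x n) i * y m i = ∑ n, c n * ∑ i : s, x n i * y m i := by
      simp only [Finset.sum_apply, Pi.smul_apply, smul_eq_mul, Finset.sum_mul, Finset.mul_sum]
      rw [Finset.sum_comm]
      refine Finset.sum_congr rfl fun n _ => Finset.sum_congr rfl fun i _ => by ring
    rw [h4] at h3
    rw [Finset.sum_eq_single m] at h3
    · rw [hdiag, mul_one] at h3; exact h3
    · intro n _ hnm
      rw [hoff n m hnm, mul_zero]
    · intro hm; exact absurd (Finset.mem_univ m) hm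
  have := hli.fintype_card_le_finrank
  simp at this

end Groth.Agent.Helper15.TensorDiag
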