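import Mathlib
import Groth.Prelude
import Groth.Agent.Lib.Helper15.Thick2
import Groth.Agent.Lib.Helper15.AlgSpUnram
import Groth.Agent.Lib.Helper15.AlgSpRed
import Groth.Agent.Lib.Helper15.NormQf1

/-!
# The first order infinitesimal neighbourhood is the universal first order thickening
-/

set_option autoImplicit false
set_option backward.isDefEq.respectTransparency false
universe u
open CategoryTheory CategoryTheory.Limits AlgebraicGeometry MorphismProperty Opposite
open AlgSp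

namespace Groth.Agent.Helper15.Thick

open Groth.Agent.Helper15 Groth.Agent.Helper15.IdealEt Groth.Agent.Helper15.Norm

/-- A morphism followed by a monomorphism: the evident square is cartesian. -/
theorem isPullback_id_of_mono {C : Type*} [Category C] {A B D : C} (j : A ⟶ B) (k : B ⟶ D)
    [Mono k] : IsPullback (𝟙 A) j (j ≫ k) k :=
  IsPullback.of_isLimit' ⟨by simp⟩
    (PullbackCone.IsLimit.mk _ (fun s => s.fst) (fun s => by simp)
      (fun s => by rw [← cancel_mono k, Category.assoc, s.condition])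
      (fun s m h1 _ => by simpa using h1))

variable {S : Scheme.{u}}

/-- Lifting points to a represented pullback. -/
theorem exists_pt_of_isPullback {X Y : Sp S} {f : X ⟶ Y} {W W' : Over S} {q : (yon S).obj W ⟶ Y}
    {fst : (yon S).obj W' ⟶ X} {snd : W' ⟶ W} (sq : IsPullback fst ((yon S).map snd) f q)
    (y : Points X) (t : W.left) (h : Points.map f y = Points.ofPt q t) :
    ∃ w' : W'.left, Points.ofPt fst w' = y ∧ snd.left w' = t := by
  obtain ⟨p, hp1, hp2⟩ := exists_point_of_isPullback sq y (Points.ofScheme W t)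
    (by rw [h, Points.ofPt_eq_map_ofScheme])
  obtain ⟨w', rfl⟩ := (Points.schemeEquiv W').surjective p
  refine ⟨w', ?_, ?_⟩
  · rw [Points.ofPt_eq_map_ofScheme]
    exact hp1
  · have h1 : Points.ofPt ((yon S).map snd) w' = Points.ofScheme W t := by
      rw [Points.ofPt_eq_map_ofScheme]
      exact hp2
    rw [ofPt_yon_map] at h1
    exact (Points.schemeEquiv W).injective h1

section InfNbhd

variable {Z U Z₁ : Sp S} {c : Z ⟶ U} {j : Z ⟶ Z₁} {k : Z₁ ⟶ U}

/-- The kernel family of the `n`-th infinitesimal neighbourhood is the `(n+1)`-st power of the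
kernel family of the closed subspace. -/
theorem idealOfRep_infNbhd {n : ℕ} (hN : IsInfNbhd n c j k) (E : EtOver U)
    (hE : IsAffine E.obj.left.left) :
    (idealOfRep hN.2.2.1.1).ideal E hE = (idealOfRep hN.2.1.1).ideal E hE ^ (n + 1) := by
  haveI := hE
  have hc := hN.2.1
  have hk := hN.2.2.1
  have h := hN.2.2.2 E.obj.hom (EtOver.bcObj hc.1 E).obj.hom (EtOver.bcπ hc.1 E)
    (EtOver.bcObj hk.1 E).obj.hom (EtOver.bcπ hk.1 E) hE E.property
    (EtOver.isPullback_bcObj hc.1 E) (EtOver.isPullback_bcObj hk.1 E)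
  haveI : IsClosedImmersion (EtOver.bcπ hc.1 E).left := hc.property_snd E.obj.hom
  haveI : IsClosedImmersion (EtOver.bcπ hk.1 E).left := hk.property_snd E.obj.hom
  have h1 := congrArg (fun I => I.ideal ⟨⊤, isAffineOpen_top _⟩) h
  simp only [Scheme.IdealSheafData.ideal_pow, Pi.pow_apply, Scheme.Hom.ker_apply] at h1
  exact h1

/-- The inclusion of a closed subspace into its infinitesimal neighbourhood is surjective on
points. -/
theorem isSurjectiveMor_infNbhd (hU : IsAlgSpace U) {n : ℕ} (hN : IsInfNbhd n c j k) :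
    IsSurjectiveMor j := by
  obtain ⟨hjk, hc, hk, hker⟩ := hN
  obtain ⟨ι, E, hEa, hEs⟩ := exists_affine_atlas hU
  intro y
  obtain ⟨v, t, ht⟩ := hEs (Points.map k y)
  have sqc := EtOver.isPullback_bcObj hc.1 (E v)
  have sqn := EtOver.isPullback_bcObj hk.1 (E v)
  obtain ⟨wn, hwn1, hwn2⟩ := exists_pt_of_isPullback sqn y t ht.symm
  haveI hcc : IsClosedImmersion (EtOver.bcπ hc.1 (E v)).left := hc.property_snd (E v).obj.hom
  haveI hkc : IsClosedImmersion (EtOver.bcπ hk.1 (E v)).left := hk.property_snd (E v).obj.hom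
  have hkerE := hker (E v).obj.hom (EtOver.bcObj hc.1 (E v)).obj.hom (EtOver.bcπ hc.1 (E v))
    (EtOver.bcObj hk.1 (E v)).obj.hom (EtOver.bcπ hk.1 (E v)) (hEa v) (E v).property sqc sqn
  -- the ranges agree
  have hrange : Set.range (EtOver.bcπ hk.1 (E v)).left = Set.range (EtOver.bcπ hc.1 (E v)).left := by
    have h1 := Scheme.Hom.support_ker (EtOver.bcπ hk.1 (E v)).left
    have h2 := Scheme.Hom.support_ker (EtOver.bcπ hc.1 (E v)).left
    rw [(EtOver.bcπ hk.1 (E v)).left.isClosedEmbedding.isClosed_range.closure_eq] at h1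
    rw [(EtOver.bcπ hc.1 (E v)).left.isClosedEmbedding.isClosed_range.closure_eq] at h2
    rw [← h1, ← h2, hkerE, Scheme.IdealSheafData.support_pow_succ]
  obtain ⟨w, hw⟩ : t ∈ Set.range (EtOver.bcπ hc.1 (E v)).left := by
    rw [← hrange]
    exact ⟨wn, hwn2⟩
  -- the comparison of the two inverse images
  obtain ⟨m, hm⟩ := (yon S).map_surjective (sqn.lift ((EtOver.bcObj hc.1 (E v)).obj.hom ≫ j)
    ((yon S).map (EtOver.bcπ hc.1 (E v))) (by rw [Category.assoc, hjk, sqc.w]))
  have hm1 : (yon S).map m ≫ (EtOver.bcObj hk.1 (E v)).obj.hom =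
      (EtOver.bcObj hc.1 (E v)).obj.hom ≫ j := by rw [hm, sqn.lift_fst]
  have hm2 : m ≫ EtOver.bcπ hk.1 (E v) = EtOver.bcπ hc.1 (E v) := (yon S).map_injective (by
    rw [Functor.map_comp, hm, sqn.lift_snd])
  have hmw : m.left w = wn := by
    apply (EtOver.bcπ hk.1 (E v)).left.isClosedEmbedding.injective
    rw [hwn2, ← hw, ← hm2]
    rfl
  refine ⟨Points.ofPt (EtOver.bcObj hc.1 (E v)).obj.hom w, ?_⟩
  rw [Points.map_ofPt, ← hm1, ofPt_comp_yon_map, hmw, hwn1]

/-- The inclusion of a closed subspace into its first order infinitesimal neighbourhood is a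
first order thickening. -/
theorem isFOThickMor_infNbhd_one (hU : IsAlgSpace U) (hZ₁ : IsAlgSpace Z₁)
    (hN : IsInfNbhd 1 c j k) : IsFOThickMor j := by
  have hN' := hN
  obtain ⟨hjk, hc, hk, hker⟩ := hN
  haveI : Mono k := mono_of_repWith isClosedImmersion_le_mono k hk
  have sqM : IsPullback (𝟙 Z) j c k := by
    have := isPullback_id_of_mono j k
    rwa [hjk] at this
  have hjc : RepWith @IsClosedImmersion j := (RepWith @IsClosedImmersion).of_isPullback sqM hc
  have hjs : RepWith @Surjective j :=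
    (repWith_surjective_iff_of_representable j hjc.1).2 (isSurjectiveMor_infNbhd hU hN')
  refine ⟨repWith_inf hjc hjs, ?_⟩
  intro V W b fst snd hV _ sqV
  haveI := hV
  haveI : IsClosedImmersion snd.left := hjc.property b fst snd sqV
  rw [sqZero_iff_ker_sq]
  have sqV' : IsPullback (fst ≫ 𝟙 Z) ((yon S).map snd) c (b ≫ k) := sqV.paste_horiz sqM
  rw [Category.comp_id] at sqV'
  refine ker_sq_eq_bot_of_charts hU c hc hV (b ≫ k) fst snd sqV' ?_
  intro E hE b₀ hb₀ Q qE qV hq
  have hb₁ : b₀ ∈ (idealOfRep hk.1).ideal E hE := by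
    rw [idealOfRep_infNbhd hN' E hE]
    exact hb₀
  have sqn := EtOver.isPullback_bcObj hk.1 E
  obtain ⟨l, hl⟩ := (yon S).map_surjective (sqn.lift ((yon S).map qV ≫ b) ((yon S).map qE)
    (by rw [Category.assoc, ← hq]))
  have hl2 : l ≫ EtOver.bcπ hk.1 E = qE := (yon S).map_injective (by
    rw [Functor.map_comp, hl, sqn.lift_snd])
  have hb₂ : (EtOver.bcπ hk.1 E).left.appTop.hom b₀ = 0 := hb₁
  rw [← hl2, Over.comp_left, appTop_comp_apply, hb₂, map_zero]

end InfNbhd


/-- **The first order infinitesimal neighbourhood is the universal first order thickening**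
of a closed subspace of an open subspace. -/
theorem isUnivFOThick_infNbhd_one {Z U X Z₁ : Sp S} (hU : IsAlgSpace U) (hZ₁ : IsAlgSpace Z₁)
    (c : Z ⟶ U) (u : U ⟶ X) (hu : RepWith @IsOpenImmersion u) (j : Z ⟶ Z₁) (k : Z₁ ⟶ U)
    (hN : IsInfNbhd 1 c j k) : IsUnivFOThick (c ≫ u) j (k ≫ u) := by
  have hN' := hN
  obtain ⟨hjk, hc, hk, -⟩ := hN
  haveI : Mono k := mono_of_repWith isClosedImmersion_le_mono k hk
  haveI : Mono u := mono_of_repWith isOpenImmersion_le_mono u hu
  refine ⟨isFOThickMor_infNbhd_one hU hZ₁ hN', by rw [← Category.assoc, hjk], ?_⟩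
  intro T T' hT hT' jT a b hjT hw
  -- it suffices to factor `b` through the monomorphism `k ≫ u`
  suffices hex : ∃ a' : T' ⟶ Z₁, a' ≫ k ≫ u = b by
    obtain ⟨a', ha'⟩ := hex
    refine ⟨a', ⟨?_, ha'⟩, fun a'' h'' => ?_⟩
    · rw [← cancel_mono (k ≫ u), Category.assoc, ha', hw, Category.assoc, ← Category.assoc j, hjk]
    · rw [← cancel_mono (k ≫ u), h''.2, ha']
  obtain ⟨ιT, A, hAa, hAs⟩ := exists_affine_atlas hT'
  obtain ⟨ι, E, hEa, hEs⟩ := exists_affine_atlas hU
  have hue : RepWith @Etale u := repWith_mono isOpenImmersion_le_etale hu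
  have hEu : ∀ v, RepWith @Etale ((E v).obj.hom ≫ u) := fun v =>
    (RepWith @Etale).comp_mem _ _ (E v).property hue
  -- the charts
  let R : ιT → ι → Over S := fun w v => (hEu v).1.pullback ((A w).obj.hom ≫ b)
  let rE : ∀ w v, R w v ⟶ (E v).obj.left := fun w v => (hEu v).1.fst' ((A w).obj.hom ≫ b)
  let rA : ∀ w v, R w v ⟶ (A w).obj.left := fun w v => (hEu v).1.snd ((A w).obj.hom ≫ b)
  have sqR : ∀ w v, IsPullback ((yon S).map (rE w v)) ((yon S).map (rA w v))
      ((E v).obj.hom ≫ u) ((A w).obj.hom ≫ b) := fun w v => (hEu v).1.isPullback' _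
  have hrAe : ∀ w v, Etale (rA w v).left := fun w v => (hEu v).property_snd _
  let Idx := Σ (w : ιT) (v : ι), (R w v).left.affineOpens
  let Q : Idx → Over S := fun p => Over.mk (p.2.2.1.ι ≫ (R p.1 p.2.1).hom)
  let qR : ∀ p : Idx, Q p ⟶ R p.1 p.2.1 := fun p => Over.homMk p.2.2.1.ι rfl
  let qE : ∀ p : Idx, Q p ⟶ (E p.2.1).obj.left := fun p => qR p ≫ rE p.1 p.2.1
  let qA : ∀ p : Idx, Q p ⟶ (A p.1).obj.left := fun p => qR p ≫ rA p.1 p.2.1
  let eQ : ∀ p : Idx, (yon S).obj (Q p) ⟶ T' := fun p => (yon S).map (qA p) ≫ (A p.1).obj.hom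
  have hcompat : ∀ p : Idx, (yon S).map (qE p) ≫ (E p.2.1).obj.hom ≫ u = eQ p ≫ b := by
    intro p
    change (yon S).map (qR p ≫ rE p.1 p.2.1) ≫ _ = ((yon S).map (qR p ≫ rA p.1 p.2.1) ≫ _) ≫ b
    rw [Functor.map_comp, Functor.map_comp, Category.assoc, Category.assoc, Category.assoc,
      (sqR p.1 p.2.1).w]
  have heQe : ∀ p : Idx, RepWith @Etale (eQ p) := by
    intro p
    refine (RepWith @Etale).comp_mem _ _ ((repWith_yon_map_iff _ _).2 ?_) (A p.1).property
    haveI := hrAe p.1 p.2.1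
    change Etale (p.2.2.1.ι ≫ (rA p.1 p.2.1).left)
    infer_instance
  have hjTs : IsSurjectiveMor jT :=
    isSurjectiveMor_of_repWith_surjective jT (repWith_mono (inf_le_right : thick ≤ @Surjective) hjT.1)
  have hJE : JointlyEpi (fun p : Idx => (yon S).obj (Q p)) eQ := by
    refine jointlyEpi_of_repWith_etale _ _ heQe (fun t' => ?_)
    obtain ⟨w, x, hx⟩ := hAs t'
    obtain ⟨t₀, ht₀⟩ := hjTs t'
    obtain ⟨v, tv, htv⟩ := hEs (Points.map (a ≫ c) t₀)
    have h1 : Points.ofPt ((E v).obj.hom ≫ u) tv = Points.ofPt ((A w).obj.hom ≫ b) x := by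
      rw [← Points.map_ofPt, htv, ← Points.map_ofPt, hx, ← ht₀, ← Points.map_comp,
        ← Points.map_comp, hw, Category.assoc]
    obtain ⟨r, -, hr⟩ := exists_of_ofPt_eq (sqR w v) tv x h1
    obtain ⟨_, ⟨(O : (R w v).left.Opens), hO, rfl⟩, hrO, -⟩ :=
      ((R w v).left.isBasis_affineOpens).exists_subset_of_mem_open (Set.mem_univ r) isOpen_univ
    refine ⟨⟨w, v, ⟨O, hO⟩⟩, Points.ofScheme _ (⟨r, hrO⟩ : O.toScheme), ?_⟩
    rw [← Points.ofPt_eq_map_ofScheme]
    change Points.ofPt ((yon S).map (qA ⟨w, v, ⟨O, hO⟩⟩) ≫ (A w).obj.hom) _ = _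
    rw [ofPt_comp_yon_map, ← hx]
    congr 1
  refine exists_factor_of_jointlyEpi (k ≫ u) b eQ hJE (fun p => ?_)
  -- the local factorisation
  obtain ⟨w, v, O⟩ := p
  set p : Idx := ⟨w, v, O⟩ with hp
  have hQa : IsAffine (Q p).left := O.2
  haveI := hQa
  haveI := hEa v
  have sqc := EtOver.isPullback_bcObj hc.1 (E v)
  have sqn := EtOver.isPullback_bcObj hk.1 (E v)
  haveI hcc : IsClosedImmersion (EtOver.bcπ hc.1 (E v)).left := hc.property_snd (E v).obj.hom
  haveI hkc : IsClosedImmersion (EtOver.bcπ hk.1 (E v)).left := hk.property_snd (E v).obj.hom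
  -- the inverse image of `T` in the chart
  have hjTr : Representable jT := hjT.1.1
  let cT := hjTr.snd (eQ p)
  have sqT : IsPullback (hjTr.fst (eQ p)) ((yon S).map cT) jT (eQ p) := hjTr.isPullback _
  haveI hcTc : IsClosedImmersion cT.left := (hjT.1.property_snd (eQ p)).1
  have hN2 : RingHom.ker cT.left.appTop.hom ^ 2 = ⊥ :=
    (sqZero_iff_ker_sq _).1 (hjT.2 (eQ p) (hjTr.fst (eQ p)) cT hQa (heQe p) sqT)
  -- functions of the ideal of `Z` vanish on the inverse image of `T`
  have hvan : ∀ a₁ ∈ (idealOfRep hc.1).ideal (E v) (hEa v),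
      (qE p).left.appTop.hom a₁ ∈ RingHom.ker cT.left.appTop.hom := by
    intro a₁ ha₁
    have hcond : (hjTr.fst (eQ p) ≫ a) ≫ c = (yon S).map (cT ≫ qE p) ≫ (E v).obj.hom := by
      rw [← cancel_mono u]
      calc ((hjTr.fst (eQ p) ≫ a) ≫ c) ≫ u = hjTr.fst (eQ p) ≫ (a ≫ c ≫ u) := by
            simp only [Category.assoc]
        _ = hjTr.fst (eQ p) ≫ jT ≫ b := by rw [hw]
        _ = (yon S).map cT ≫ eQ p ≫ b := by rw [← Category.assoc, sqT.w, Category.assoc]
        _ = (yon S).map cT ≫ (yon S).map (qE p) ≫ (E v).obj.hom ≫ u := by rw [hcompat p]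
        _ = ((yon S).map (cT ≫ qE p) ≫ (E v).obj.hom) ≫ u := by
            rw [(yon S).map_comp cT (qE p)]
            simp only [Category.assoc]
    obtain ⟨l', hl'⟩ := (yon S).map_surjective (sqc.lift _ _ hcond)
    have hl'2 : l' ≫ EtOver.bcπ hc.1 (E v) = cT ≫ qE p := (yon S).map_injective (by
      rw [Functor.map_comp, hl', sqc.lift_snd])
    have ha₂ : (EtOver.bcπ hc.1 (E v)).left.appTop.hom a₁ = 0 := ha₁
    rw [RingHom.mem_ker, ← appTop_comp_apply, ← Over.comp_left, ← hl'2, Over.comp_left,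
      appTop_comp_apply, ha₂, map_zero]
  have hle : RingHom.ker (EtOver.bcπ hk.1 (E v)).left.appTop.hom ≤
      RingHom.ker (qE p).left.appTop.hom := by
    have h1 : RingHom.ker (EtOver.bcπ hk.1 (E v)).left.appTop.hom =
        (idealOfRep hc.1).ideal (E v) (hEa v) ^ 2 := idealOfRep_infNbhd hN' (E v) (hEa v)
    rw [h1, sq, Ideal.mul_le]
    intro a₁ ha₁ a₂ ha₂
    rw [RingHom.mem_ker, map_mul]
    have h2 : (qE p).left.appTop.hom a₁ * (qE p).left.appTop.hom a₂ ∈
        RingHom.ker cT.left.appTop.hom ^ 2 := by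
      rw [sq]
      exact Ideal.mul_mem_mul (hvan a₁ ha₁) (hvan a₂ ha₂)
    rw [hN2, Ideal.mem_bot] at h2
    exact h2
  obtain ⟨m, hm⟩ := exists_over_lift_of_ker_le (hEa v) (EtOver.bcπ hk.1 (E v)) hkc (qE p) hle
  refine ⟨(yon S).map m ≫ (EtOver.bcObj hk.1 (E v)).obj.hom, ?_⟩
  rw [Category.assoc, ← Category.assoc _ k u, sqn.w, Category.assoc, ← Category.assoc,
    ← Functor.map_comp, hm]
  exact hcompat p

end Groth.Agent.Helper15.Thick
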