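import Groth.Agent.Lib.Helper15.AlgSpTop
import Groth.Prelude.Def_AlgSpDec
import Groth.Prelude.Def_Dual3
import Mathlib.AlgebraicGeometry.Morphisms.Etale
import Mathlib.RingTheory.AlgebraicIndependent.TranscendenceBasis

set_option autoImplicit false
universe u

open CategoryTheory CategoryTheory.Limits AlgebraicGeometry Opposite

namespace Groth.Agent.Helper15.Trdeg

open AlgSp

theorem trdeg_comp {K0 K1 K2 : Type u} [Field K0] [Field K1] [Field K2] (φ : K0 →+* K1)
    (ψ : K1 →+* K2) :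
    @Algebra.trdeg K0 K2 _ _ (ψ.comp φ).toAlgebra =
      @Algebra.trdeg K0 K1 _ _ φ.toAlgebra + @Algebra.trdeg K1 K2 _ _ ψ.toAlgebra := by
  let _ := φ.toAlgebra
  let _ := ψ.toAlgebra
  let _ := (ψ.comp φ).toAlgebra
  have : IsScalarTower K0 K1 K2 := IsScalarTower.of_algebraMap_eq (fun x => rfl)
  exact (trdeg_add_eq K0 K1 (A := K2)).symm

theorem resTrdeg_comp {X Y Z : Scheme.{u}} (p : X ⟶ Y) (q : Y ⟶ Z) (x : X) :
    Dual3.resTrdeg (p ≫ q) x = Dual3.resTrdeg q (p x) + Dual3.resTrdeg p x := by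
  unfold Dual3.resTrdeg
  have h := Scheme.residueFieldMap_comp p q x
  have := trdeg_comp (q.residueFieldMap (p x)).hom (p.residueFieldMap x).hom
  rw [← this]
  congr 1
  rw [h]
  rfl

theorem resTrdeg_eq_zero_of_etale {X Y : Scheme.{u}} (p : X ⟶ Y) [Etale p] (x : X) :
    Dual3.resTrdeg p x = 0 := by
  unfold Dual3.resTrdeg
  let _ := (p.residueFieldMap x).hom.toAlgebra
  have : Algebra.IsSeparable (Y.residueField (p x)) (X.residueField x) := inferInstance
  exact trdeg_eq_zero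

variable {S : Scheme.{u}}

theorem hasAtMor_resTrdeg_comp {X Y Z : Sp S} (f : X ⟶ Y) (g : Y ⟶ Z)
    (x : Points X) (r₁ r₂ : Cardinal.{u})
    (h1 : HasAtMor (fun _ _ h u => Dual3.resTrdeg h u = r₁) f x)
    (h2 : HasAtMor (fun _ _ h u => Dual3.resTrdeg h u = r₂) g (Points.map f x)) :
    HasAtMor (fun _ _ h u => Dual3.resTrdeg h u = r₁ + r₂) (f ≫ g) x := by
  obtain ⟨U, V, a, b, h, u, ha, hb, comm1, hx, Q1⟩ := h1
  obtain ⟨V', W, b', c, h', v', hb', hc, comm2, hy, Q2⟩ := h2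
  -- the fibre product `V'' = V ×_Y V'`
  have sq := hb.rep.isPullback' b'
  set V'' := hb.rep.pullback b' with hV''
  set π₁ : V'' ⟶ V := hb.rep.fst' b' with hπ₁
  set π₂ : V'' ⟶ V' := hb.rep.snd b' with hπ₂
  have hπ₂e : Etale π₂.left := hb.property_snd b'
  have hπ₁e : Etale π₁.left :=
    (repWith_yon_map_iff _ π₁).1 ((RepWith @Etale).of_isPullback sq.flip hb')
  -- the point of `V''`
  have hpt : Points.ofPt b (h.left u) = Points.ofPt b' v' := by
    rw [hy, ← hx, Points.map_ofPt, comm1, ofPt_comp_yon_map]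
  obtain ⟨v'', hv1, hv2⟩ := exists_of_ofPt_eq sq (h.left u) v' hpt
  -- the fibre product `U'' = U ×_V V''`
  have sqU := (IsPullback.of_hasPullback h π₁).map (Over.forget S)
  set U'' := pullback h π₁ with hU''
  set p₁ : U'' ⟶ U := pullback.fst h π₁ with hp₁
  set p₂ : U'' ⟶ V'' := pullback.snd h π₁ with hp₂
  have sqU' : IsPullback p₁.left p₂.left h.left π₁.left := sqU
  have hp₁e : Etale p₁.left := MorphismProperty.of_isPullback sqU'.flip hπ₁e
  obtain ⟨u'', hu1, hu2⟩ := Scheme.exists_preimage_of_isPullback sqU' u v'' hv1.symm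
  have hpe : RepWith @Etale ((yon S).map p₁ ≫ a) :=
    (RepWith @Etale).comp_mem _ _ ((repWith_yon_map_iff _ p₁).2 hp₁e) ha
  refine ⟨U'', W, (yon S).map p₁ ≫ a, c, p₂ ≫ π₂ ≫ h', u'', hpe, hc, ?_, ?_, ?_⟩
  · have e1 : p₁ ≫ h = p₂ ≫ π₁ := pullback.condition
    calc ((yon S).map p₁ ≫ a) ≫ f ≫ g = (yon S).map p₁ ≫ (a ≫ f) ≫ g := by
          simp only [Category.assoc]
      _ = (yon S).map (p₁ ≫ h) ≫ b ≫ g := by
          rw [comm1, Functor.map_comp]; simp only [Category.assoc]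
      _ = (yon S).map p₂ ≫ ((yon S).map π₁ ≫ b) ≫ g := by
          rw [e1, Functor.map_comp]; simp only [Category.assoc]
      _ = (yon S).map p₂ ≫ (yon S).map π₂ ≫ b' ≫ g := by
          rw [sq.w]; simp only [Category.assoc]
      _ = (yon S).map (p₂ ≫ π₂ ≫ h') ≫ c := by
          rw [comm2, Functor.map_comp, Functor.map_comp]; simp only [Category.assoc]
  · rw [ofPt_comp_yon_map, hu1, hx]
  · have hπ₂e' : Etale π₂.left := hπ₂e
    have k1 : Dual3.resTrdeg (p₁.left ≫ h.left) u'' = r₁ := by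
      rw [resTrdeg_comp, resTrdeg_eq_zero_of_etale p₁.left, add_zero, hu1, Q1]
    have k2 : Dual3.resTrdeg (p₂.left ≫ π₁.left) u'' = Dual3.resTrdeg p₂.left u'' := by
      rw [resTrdeg_comp, resTrdeg_eq_zero_of_etale π₁.left, zero_add]
    have k3 : Dual3.resTrdeg p₂.left u'' = r₁ := by
      rw [← k2, ← sqU'.w, k1]
    show Dual3.resTrdeg (p₂.left ≫ π₂.left ≫ h'.left) u'' = r₁ + r₂
    rw [resTrdeg_comp, resTrdeg_comp, resTrdeg_eq_zero_of_etale π₂.left, add_zero, k3, hu2, hv2, Q2, add_comm]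

end Groth.Agent.Helper15.Trdeg
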