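import Mathlib

/-!
# Generators of modules over semilocal rings and a dimension bound
-/

set_option autoImplicit false
universe u
open TensorProduct

namespace Groth.Agent.Helper15.UbfAlg

/-- A finite-dimensional vector space of dimension at most `n` is spanned by `n` vectors. -/
theorem exists_span_of_finrank_le {k V : Type*} [Field k] [AddCommGroup V] [Module k V]
    [Module.Finite k V] (n : ℕ) (h : Module.finrank k V ≤ n) :
    ∃ b : Fin n → V, Submodule.span k (Set.range b) = ⊤ := by
  let B := Module.finBasis k V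
  refine ⟨fun i => if hi : i.val < Module.finrank k V then B ⟨i.val, hi⟩ else 0, ?_⟩
  rw [eq_top_iff, ← B.span_eq, Submodule.span_le]
  rintro _ ⟨j, rfl⟩
  apply Submodule.subset_span
  refine ⟨⟨j.val, lt_of_lt_of_le j.isLt h⟩, ?_⟩
  simp

variable {A : Type*} [CommRing A] {M : Type*} [AddCommGroup M] [Module A M]

/-- Spanning modulo an ideal. -/
theorem top_le_span_sup_smul (P : Ideal A) {n : ℕ} (b : Fin n → M)
    (hb : Submodule.span (A ⧸ P) (Set.range fun i => (1 : A ⧸ P) ⊗ₜ[A] b i) = ⊤) :
    ⊤ ≤ Submodule.span A (Set.range b) ⊔ P • (⊤ : Submodule A M) := by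
  intro x _
  have hx : (1 : A ⧸ P) ⊗ₜ[A] x ∈ Submodule.span (A ⧸ P)
      (Set.range fun i => (1 : A ⧸ P) ⊗ₜ[A] b i) := by rw [hb]; trivial
  obtain ⟨c, hc⟩ := (Submodule.mem_span_range_iff_exists_fun _).1 hx
  choose c' hc' using fun i => Ideal.Quotient.mk_surjective (c i)
  have h1 : (1 : A ⧸ P) ⊗ₜ[A] (∑ i, c' i • b i) = (1 : A ⧸ P) ⊗ₜ[A] x := by
    rw [← hc, TensorProduct.tmul_sum]
    refine Finset.sum_congr rfl fun i _ => ?_
    rw [← hc' i]
    calc (1 : A ⧸ P) ⊗ₜ[A] (c' i • b i) = (c' i • (1 : A ⧸ P)) ⊗ₜ[A] b i :=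
          (TensorProduct.smul_tmul _ _ _).symm
      _ = (Ideal.Quotient.mk P (c' i)) ⊗ₜ[A] b i := by
          congr 1
          rw [Algebra.smul_def, mul_one]
          rfl
      _ = (Ideal.Quotient.mk P (c' i)) • ((1 : A ⧸ P) ⊗ₜ[A] b i) := by
          rw [TensorProduct.smul_tmul', smul_eq_mul, mul_one]
  have h2 : x - ∑ i, c' i • b i ∈ P • (⊤ : Submodule A M) := by
    have h3 := congrArg (TensorProduct.quotTensorEquivQuotSMul M P) h1
    rw [TensorProduct.quotTensorEquivQuotSMul_mk_one_tmul,
      TensorProduct.quotTensorEquivQuotSMul_mk_one_tmul] at h3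
    have := (Submodule.Quotient.eq _).1 h3.symm
    exact this
  have h4 : ∑ i, c' i • b i ∈ Submodule.span A (Set.range b) :=
    Submodule.sum_mem _ fun i _ => Submodule.smul_mem _ _ (Submodule.subset_span ⟨i, rfl⟩)
  have : x = ∑ i, c' i • b i + (x - ∑ i, c' i • b i) := by abel
  rw [this]
  exact Submodule.add_mem_sup h4 h2


/-- If `⊤ ≤ N ⊔ P • ⊤` for each of finitely many ideals, the same holds for their product. -/
theorem top_le_sup_prod_smul {ι : Type*} (N : Submodule A M) (I : ι → Ideal A) (s : Finset ι)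
    (h : ∀ i ∈ s, ⊤ ≤ N ⊔ I i • (⊤ : Submodule A M)) :
    ⊤ ≤ N ⊔ (∏ i ∈ s, I i) • (⊤ : Submodule A M) := by
  classical
  induction s using Finset.induction_on with
  | empty => simp [Ideal.one_eq_top]
  | insert i s hi ih =>
    rw [Finset.prod_insert hi]
    have h1 := h i (Finset.mem_insert_self i s)
    have h2 := ih fun j hj => h j (Finset.mem_insert_of_mem hj)
    calc ⊤ ≤ N ⊔ I i • (⊤ : Submodule A M) := h1
      _ ≤ N ⊔ I i • (N ⊔ (∏ j ∈ s, I j) • (⊤ : Submodule A M)) :=
          sup_le_sup_left (Submodule.smul_mono le_rfl h2) _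
      _ ≤ N ⊔ (I i * ∏ j ∈ s, I j) • (⊤ : Submodule A M) := by
          rw [Submodule.smul_sup, ← Submodule.mul_smul]
          refine sup_le le_sup_left (sup_le ?_ le_sup_right)
          exact Submodule.smul_le_right.trans le_sup_left

/-- A finite module over a semilocal ring whose fibres at the maximal ideals have dimension at
most `n` is generated by `n` elements. -/
theorem exists_span_eq_top_of_finrank_le [Finite (MaximalSpectrum A)] [Module.Finite A M] (n : ℕ)
    (h : ∀ P : MaximalSpectrum A,
      @Module.finrank (A ⧸ P.1) ((A ⧸ P.1) ⊗[A] M) _ _ _ ≤ n) :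
    ∃ b : Fin n → M, Submodule.span A (Set.range b) = ⊤ := by
  classical
  haveI : Fintype (MaximalSpectrum A) := Fintype.ofFinite _
  have hb' : ∀ P : MaximalSpectrum A, ∃ b' : Fin n → (A ⧸ P.1) ⊗[A] M,
      Submodule.span (A ⧸ P.1) (Set.range b') = ⊤ := by
    intro P
    letI := Ideal.Quotient.field P.1
    exact exists_span_of_finrank_le n (h P)
  choose b' hb' using hb'
  choose b hb using fun i => Ideal.pi_tensorProductMk_quotient_surjective M
    (fun P : MaximalSpectrum A => P.1)
    (fun _ _ ne => Ideal.isCoprime_of_isMaximal (MaximalSpectrum.ext_iff.ne.mp ne))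
    (fun P => b' P i)
  refine ⟨b, ?_⟩
  have hP : ∀ P : MaximalSpectrum A,
      ⊤ ≤ Submodule.span A (Set.range b) ⊔ P.1 • (⊤ : Submodule A M) := by
    intro P
    apply top_le_span_sup_smul
    have : (fun i => (1 : A ⧸ P.1) ⊗ₜ[A] b i) = b' P := by
      funext i
      exact congrFun (hb i) P
    rw [this, hb' P]
  have hprod := top_le_sup_prod_smul (Submodule.span A (Set.range b))
    (fun P : MaximalSpectrum A => P.1) Finset.univ (fun P _ => hP P)
  rw [eq_top_iff]
  refine Submodule.le_of_le_smul_of_le_jacobson_bot (Module.Finite.fg_top) ?_ hprod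
  refine le_sInf fun J hJ => ?_
  exact Ideal.prod_le_inf.trans (Finset.inf_le (b := (⟨J, hJ.2⟩ : MaximalSpectrum A))
    (Finset.mem_univ _))

/-- The dimension bound: a finite algebra over a finite algebra `A` over a field whose fibres
over `A` have dimension at most `n` has dimension at most `n * dim A`. -/
theorem finrank_le_mul_of_fibres {K A' B : Type*} [Field K] [CommRing A'] [AddCommGroup B]
    [Algebra K A'] [Module A' B] [Module K B] [IsScalarTower K A' B] [Module.Finite K A']
    [Module.Finite A' B] (n : ℕ)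
    (h : ∀ P : MaximalSpectrum A',
      @Module.finrank (A' ⧸ P.1) ((A' ⧸ P.1) ⊗[A'] B) _ _ _ ≤ n) :
    Module.finrank K B ≤ n * Module.finrank K A' := by
  haveI : IsArtinianRing A' := IsArtinianRing.of_finite K A'
  obtain ⟨b, hb⟩ := exists_span_eq_top_of_finrank_le (A := A') (M := B) n h
  let F : (Fin n → A') →ₗ[A'] B := Fintype.linearCombination A' b
  have hF : Function.Surjective F := by
    rw [← LinearMap.range_eq_top, Fintype.range_linearCombination, hb]
  let F' : (Fin n → A') →ₗ[K] B := F.restrictScalars K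
  have hF' : Function.Surjective F' := hF
  have := LinearMap.finrank_le_finrank_of_surjective hF'
  rw [Module.finrank_pi_fintype] at this
  simpa using this

end Groth.Agent.Helper15.UbfAlg
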