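import Mathlib
import Groth.Agent.Lib.Helper15.UbfDecent
import Groth.Agent.Lib.Helper15.AlgSpOnePt

/-!
# Universally bounded fibres bound the fibres on points
-/

set_option autoImplicit false
universe u
open CategoryTheory CategoryTheory.Limits AlgebraicGeometry Opposite MorphismProperty
open AlgSp

namespace Groth.Agent.Helper15.UbfCount

open Groth.Agent.Helper15

/-- The number of primes of a finite algebra over a field is bounded by its dimension. -/
theorem card_primeSpectrum_le_finrank (K A : Type u) [Field K] [CommRing A] [Algebra K A]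
    [Module.Finite K A] :
    Finite (PrimeSpectrum A) ∧ Nat.card (PrimeSpectrum A) ≤ Module.finrank K A := by
  let L := AlgebraicClosure K
  have hex : ∀ 𝔭 : PrimeSpectrum A, ∃ f : A →ₐ[K] L, RingHom.ker f.toRingHom = 𝔭.asIdeal := by
    intro 𝔭
    haveI := 𝔭.isPrime
    haveI : Module.Finite K (A ⧸ 𝔭.asIdeal) :=
      Module.Finite.of_surjective (Ideal.Quotient.mkₐ K 𝔭.asIdeal).toLinearMap
        (Ideal.Quotient.mkₐ_surjective K _)
    haveI : IsDomain (A ⧸ 𝔭.asIdeal) := Ideal.Quotient.isDomain _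
    haveI : Algebra.IsAlgebraic K (A ⧸ 𝔭.asIdeal) := Algebra.IsAlgebraic.of_finite K _
    haveI : IsArtinianRing (A ⧸ 𝔭.asIdeal) := IsArtinianRing.of_finite K _
    haveI hfld : IsField (A ⧸ 𝔭.asIdeal) := IsArtinianRing.isField_of_isDomain _
    let g : (A ⧸ 𝔭.asIdeal) →ₐ[K] L := IsAlgClosed.lift
    have hg : Function.Injective g := by
      letI := hfld.toField
      exact g.toRingHom.injective
    refine ⟨g.comp (Ideal.Quotient.mkₐ K 𝔭.asIdeal), ?_⟩
    ext a
    simp only [RingHom.mem_ker]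
    change g (Ideal.Quotient.mk _ a) = 0 ↔ _
    rw [map_eq_zero_iff g hg, Ideal.Quotient.eq_zero_iff_mem]
  choose f hf using hex
  have hinj : Function.Injective f := by
    intro 𝔭 𝔮 h
    ext1
    rw [← hf 𝔭, ← hf 𝔮, h]
  haveI : Finite (A →ₐ[K] L) := Finite.algHom K A L
  refine ⟨Finite.of_injective f hinj, ?_⟩
  exact (Nat.card_le_card_of_injective f hinj).trans (card_algHom_le_finrank K A L)

/-- The number of points of a finite scheme over a field is bounded by its rank. -/
theorem card_le_finrank_of_isFinite_over_field {K : Type u} [Field K] {T : Scheme.{u}}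
    (c : T ⟶ Spec (CommRingCat.of K)) [IsFinite c] (s : Spec (CommRingCat.of K)) :
    Finite T ∧ Nat.card T ≤ c.finrank s := by
  haveI : IsAffine T := isAffine_of_isAffineHom c
  let ψ : CommRingCat.of K ⟶ Γ(T, ⊤) := Spec.preimage (T.isoSpec.inv ≫ c)
  have hψ : c = T.isoSpec.hom ≫ Spec.map ψ := by
    rw [Spec.map_preimage, Iso.hom_inv_id_assoc]
  haveI hfin : IsFinite (Spec.map ψ) := by
    rw [Spec.map_preimage]; infer_instance
  haveI hflat : Flat (Spec.map ψ) := flat_of_field (k := K) _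
  have hf₁ : ψ.hom.Finite := (IsFinite.SpecMap_iff ψ).1 hfin
  have hf₂ : ψ.hom.Flat := (Flat.SpecMap_iff).1 hflat
  have h1 : c.finrank s = ψ.hom.finrank s := by
    rw [hψ, Scheme.Hom.finrank_comp_left_of_isIso, Scheme.Hom.finrank_SpecMap_eq_finrank hf₁ hf₂]
  letI : Algebra K Γ(T, ⊤) := ψ.hom.toAlgebra
  haveI : Module.Finite K Γ(T, ⊤) := hf₁
  have h2 : ψ.hom.finrank s = Module.finrank K Γ(T, ⊤) := by
    change Module.rankAtStalk (R := K) Γ(T, ⊤) s = _
    rw [Module.rankAtStalk_eq_finrank_of_free]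
    rfl
  obtain ⟨hF, hcard⟩ := card_primeSpectrum_le_finrank K Γ(T, ⊤)
  let e : T ≃ PrimeSpectrum Γ(T, ⊤) := T.isoSpec.hom.homeomorph.toEquiv
  haveI := hF
  refine ⟨Finite.of_equiv _ e.symm, ?_⟩
  rw [h1, h2, Nat.card_congr e]
  exact hcard

variable {S : Scheme.{u}}

/-- A bound on the degrees of the fibres bounds the number of points in the fibres. -/
theorem encard_fibre_le_of_degFibresLE {X : Sp S} {U : Over S} (φ : (yon S).obj U ⟶ X)
    (hφ : Representable φ) (n : ℕ) (hn : W4dec.DegFibresLE n φ) (x : Points X) :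
    (Points.ofPt φ ⁻¹' {x}).encard ≤ n := by
  obtain ⟨q, rfl⟩ := Points.mk_surjective x
  have sqT := (hφ.isPullback' q.toHom).flip
  let c₀ : (hφ.pullback q.toHom).left ⟶ Spec (CommRingCat.of q.K) := (hφ.snd q.toHom).left
  obtain ⟨hfin, hrk⟩ := hn q _ _ _ sqT
  haveI : IsFinite c₀ := hfin
  obtain ⟨hF, hcard⟩ := card_le_finrank_of_isFinite_over_field c₀ (IsLocalRing.closedPoint q.K)
  haveI := hF
  have hsub : Points.ofPt φ ⁻¹' {Points.mk q} ⊆ Set.range (hφ.fst' q.toHom).left := by
    intro v hv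
    obtain ⟨w, -, hw⟩ := exists_of_ofPt_eq sqT (IsLocalRing.closedPoint q.K) v (by
      rw [Points.ofPt_toHom]; exact hv.symm)
    exact ⟨w, hw⟩
  calc (Points.ofPt φ ⁻¹' {Points.mk q}).encard
      ≤ (Set.range (hφ.fst' q.toHom).left).encard := Set.encard_le_encard hsub
    _ = ((hφ.fst' q.toHom).left '' Set.univ).encard := by rw [Set.image_univ]
    _ ≤ (Set.univ : Set (hφ.pullback q.toHom).left).encard := Set.encard_image_le _ _
    _ = (Nat.card (hφ.pullback q.toHom).left : ℕ∞) := by
        rw [Set.encard_univ, ENat.card_eq_coe_natCard]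
    _ ≤ n := by
        exact_mod_cast hcard.trans (hrk _)

end Groth.Agent.Helper15.UbfCount
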