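import Mathlib
import Groth.Agent.Lib.Helper15.UbfCount
import Groth.Agent.Lib.Helper15.AlgSpPoints

/-!
# Universally bounded fibres via counting lifts of field points
-/

set_option autoImplicit false
set_option linter.style.haveILetI false
universe u
open CategoryTheory CategoryTheory.Limits AlgebraicGeometry Opposite MorphismProperty
open AlgSp

namespace Groth.Agent.Helper15.UbfLifts

open Groth.Agent.Helper15

/-- The number of sections of a finite scheme over a field is bounded by its rank. -/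
theorem le_finrank_of_sections {K : Type u} [Field K] {T : Scheme.{u}}
    (c : T ⟶ Spec (CommRingCat.of K)) [IsFinite c] (s : Spec (CommRingCat.of K)) {n : ℕ}
    (σ : Fin n → (Spec (CommRingCat.of K) ⟶ T)) (hinj : Function.Injective σ)
    (hσ : ∀ i, σ i ≫ c = 𝟙 _) : n ≤ c.finrank s := by
  haveI : IsAffine T := isAffine_of_isAffineHom c
  let ψ : CommRingCat.of K ⟶ Γ(T, ⊤) := Spec.preimage (T.isoSpec.inv ≫ c)
  have hψ : c = T.isoSpec.hom ≫ Spec.map ψ := by
    rw [Spec.map_preimage, Iso.hom_inv_id_assoc]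
  haveI hfin : IsFinite (Spec.map ψ) := by
    rw [Spec.map_preimage]; infer_instance
  haveI hflat : Flat (Spec.map ψ) := flat_of_field (k := K) _
  have hf₁ : ψ.hom.Finite := (IsFinite.SpecMap_iff ψ).1 hfin
  have hf₂ : ψ.hom.Flat := (Flat.SpecMap_iff).1 hflat
  have h1 : c.finrank s = ψ.hom.finrank s := by
    rw [hψ, Scheme.Hom.finrank_comp_left_of_isIso, Scheme.Hom.finrank_SpecMap_eq_finrank hf₁ hf₂]
  letI : Algebra K Γ(T, ⊤) := ψ.hom.toAlgebra
  haveI : Module.Finite K Γ(T, ⊤) := hf₁
  have h2 : ψ.hom.finrank s = Module.finrank K Γ(T, ⊤) := by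
    change Module.rankAtStalk (R := K) Γ(T, ⊤) s = _
    rw [Module.rankAtStalk_eq_finrank_of_free]
    rfl
  rw [h1, h2]
  let βr : Fin n → (Γ(T, ⊤) ⟶ CommRingCat.of K) := fun i =>
    (σ i).appTop ≫ (Scheme.ΓSpecIso (CommRingCat.of K)).hom
  have hβr : ∀ i, ψ ≫ βr i = 𝟙 _ := by
    intro i
    apply Spec.map_injective
    rw [Spec.map_comp, Spec.map_preimage, Spec.map_id]
    have h3 : Spec.map (βr i) = σ i ≫ T.isoSpec.hom := by
      simp only [βr, Spec.map_comp]
      rw [← Scheme.isoSpec_Spec_hom, Scheme.isoSpec_hom_naturality]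
    rw [h3, Category.assoc, Iso.hom_inv_id_assoc, hσ]
  let β : Fin n → (Γ(T, ⊤) →ₐ[K] K) := fun i =>
    { (βr i).hom with
      commutes' := fun r => by
        have := congrArg (fun h => h.hom r) (hβr i)
        exact this }
  have hβinj : Function.Injective β := by
    intro i k hik
    apply hinj
    apply ext_of_isAffine
    have h1 : βr i = βr k := by
      ext x
      exact congrArg (fun h : Γ(T, ⊤) →ₐ[K] K => h x) hik
    exact (cancel_mono (Scheme.ΓSpecIso (CommRingCat.of K)).hom).1 h1
  have h1 : Nat.card (Fin n) ≤ Nat.card (Γ(T, ⊤) →ₐ[K] K) :=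
    Nat.card_le_card_of_injective β hβinj
  have h2 := card_algHom_le_finrank K Γ(T, ⊤) K
  rw [Nat.card_fin] at h1
  exact h1.trans h2


variable {S : Scheme.{u}}

/-- The field point defined by a morphism from the spectrum of a field. -/
noncomputable def fieldPtOf {F : Sp S} {K : Type u} [Field K]
    {str : Spec (CommRingCat.of K) ⟶ S} (ξ : (yon S).obj (Over.mk str) ⟶ F) : FieldPt F :=
  ⟨K, str, yonEquiv ξ⟩

@[simp] theorem toHom_fieldPtOf {F : Sp S} {K : Type u} [Field K]
    {str : Spec (CommRingCat.of K) ⟶ S} (ξ : (yon S).obj (Over.mk str) ⟶ F) :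
    (fieldPtOf ξ).toHom = ξ :=
  Equiv.symm_apply_apply _ _

/-- `n` bounds the number of lifts of field points of `F` along `a`. -/
def LiftsLE (n : ℕ) {F : Sp S} {U : Over S} (a : (yon S).obj U ⟶ F) : Prop :=
  ∀ (q : FieldPt F) (L : Finset (q.pt ⟶ U)), (∀ l ∈ L, (yon S).map l ≫ a = q.toHom) → L.card ≤ n

theorem LiftsLE.of_fin {n : ℕ} {F : Sp S} {U : Over S} {a : (yon S).obj U ⟶ F}
    (h : ∀ (q : FieldPt F) (m : ℕ) (l : Fin m → (q.pt ⟶ U)), Function.Injective l →
      (∀ i, (yon S).map (l i) ≫ a = q.toHom) → m ≤ n) : LiftsLE n a := by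
  intro q L hL
  have := h q L.card (fun i => (L.equivFin.symm i).1)
    (fun i k hik => L.equivFin.symm.injective (Subtype.ext hik))
    (fun i => hL _ (L.equivFin.symm i).2)
  exact this

theorem LiftsLE.fin {n : ℕ} {F : Sp S} {U : Over S} {a : (yon S).obj U ⟶ F} (h : LiftsLE n a)
    (q : FieldPt F) (m : ℕ) (l : Fin m → (q.pt ⟶ U)) (hl : Function.Injective l)
    (hla : ∀ i, (yon S).map (l i) ≫ a = q.toHom) : m ≤ n := by
  classical
  have := h q (Finset.univ.image l) (by
    intro l' hl'
    obtain ⟨i, -, rfl⟩ := Finset.mem_image.1 hl'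
    exact hla i)
  rwa [Finset.card_image_of_injective _ hl, Finset.card_univ, Fintype.card_fin] at this

theorem LiftsLE.mono {n m : ℕ} {F : Sp S} {U : Over S} {a : (yon S).obj U ⟶ F} (h : LiftsLE n a)
    (hnm : n ≤ m) : LiftsLE m a := fun q L hL => (h q L hL).trans hnm

/-- A bound on the degrees of the fibres bounds the number of lifts of field points. -/
theorem liftsLE_of_degFibresLE {F : Sp S} {U : Over S} (a : (yon S).obj U ⟶ F)
    (ha : Representable a) (n : ℕ) (h : W4dec.DegFibresLE n a) : LiftsLE n a := by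
  apply LiftsLE.of_fin
  intro q m l hl hla
  have sq := ha.isPullback' q.toHom
  obtain ⟨hfin, hrk⟩ := h q _ _ _ sq.flip
  haveI : IsFinite (ha.snd q.toHom).left := hfin
  have hw : ∀ i, (yon S).map (l i) ≫ a = (yon S).map (𝟙 q.pt) ≫ q.toHom := by
    intro i; rw [hla i, CategoryTheory.Functor.map_id, Category.id_comp]
  choose σ hσ using fun i => (yon S).map_surjective (sq.lift _ _ (hw i))
  have hσ1 : ∀ i, σ i ≫ ha.fst' q.toHom = l i := fun i => (yon S).map_injective (by
    rw [Functor.map_comp, hσ, sq.lift_fst])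
  have hσ2 : ∀ i, σ i ≫ ha.snd q.toHom = 𝟙 _ := fun i => (yon S).map_injective (by
    rw [Functor.map_comp, hσ, sq.lift_snd])
  have hinj : Function.Injective (fun i => (σ i).left) := by
    intro i k hik
    apply hl
    rw [← hσ1 i, ← hσ1 k]
    congr 1
    exact Over.OverMorphism.ext hik
  have := le_finrank_of_sections (K := q.K) (ha.snd q.toHom).left (IsLocalRing.closedPoint q.K)
    (fun i => (σ i).left) hinj (fun i => by
      have := congrArg (fun f => f.left) (hσ2 i)
      exact this)
  exact this.trans (hrk _)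

end Groth.Agent.Helper15.UbfLifts
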