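import Mathlib
import Groth.Agent.Lib.Helper15.UbfLifts
import Groth.Agent.Lib.Helper15.AlgSpGeomPts
import Groth.Agent.Lib.Helper15.SchemeClosedImm
import Groth.Agent.Lib.Helper15.GeomFieldExt
import Groth.Agent.Lib.Helper15.AlgSpDescent

/-!
# Degrees of etale schemes over fields via geometric points
-/

set_option autoImplicit false
set_option linter.style.haveILetI false
universe u
open CategoryTheory CategoryTheory.Limits AlgebraicGeometry Opposite MorphismProperty
open AlgSp

namespace Groth.Agent.Helper15.UbfLifts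

open Groth.Agent.Helper15

/-- Every point of a scheme etale over an algebraically closed field is the image of a
section. -/
theorem exists_section_through {L : Type u} [Field L] [IsAlgClosed L] {T : Scheme.{u}}
    (c : T ⟶ Spec (CommRingCat.of L)) [Etale c] (t : T) :
    ∃ τ : Spec (CommRingCat.of L) ⟶ T, τ ≫ c = 𝟙 _ ∧ τ (IsLocalRing.closedPoint L) = t := by
  haveI : LocallyQuasiFinite c := locallyQuasiFinite_of_etale c
  haveI : DiscreteTopology T := discreteTopology_of_etale_over_field c
  let O : T.Opens := ⟨{t}, isOpen_discrete _⟩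
  haveI : Nonempty O.toScheme := ⟨⟨t, rfl⟩⟩
  obtain ⟨s, hs⟩ := exists_section_of_lft_algClosed (k := L) (O.ι ≫ c)
  refine ⟨s ≫ O.ι, by rw [Category.assoc, hs], ?_⟩
  have : (s ≫ O.ι) (IsLocalRing.closedPoint L) ∈ (O : Set T) := by
    rw [Scheme.Hom.comp_apply]
    exact (s (IsLocalRing.closedPoint L)).2
  exact this

/-- The rank of a finite etale scheme over a separably closed field is its number of points. -/
theorem finrank_eq_card_of_etale_sepClosed {L : Type u} [Field L] [IsSepClosed L] {T : Scheme.{u}}
    (c : T ⟶ Spec (CommRingCat.of L)) [IsFinite c] [Etale c] (s : Spec (CommRingCat.of L)) :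
    c.finrank s = Nat.card T := by
  haveI : IsAffine T := isAffine_of_isAffineHom c
  let ψ : CommRingCat.of L ⟶ Γ(T, ⊤) := Spec.preimage (T.isoSpec.inv ≫ c)
  have hψ : c = T.isoSpec.hom ≫ Spec.map ψ := by
    rw [Spec.map_preimage, Iso.hom_inv_id_assoc]
  haveI hfin : IsFinite (Spec.map ψ) := by
    rw [Spec.map_preimage]; infer_instance
  haveI het : Etale (Spec.map ψ) := by
    rw [Spec.map_preimage]; infer_instance
  haveI hflat : Flat (Spec.map ψ) := flat_of_field (k := L) _
  have hf₁ : ψ.hom.Finite := (IsFinite.SpecMap_iff ψ).1 hfin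
  have hf₂ : ψ.hom.Flat := (Flat.SpecMap_iff).1 hflat
  have hf₃ : ψ.hom.Etale := (HasRingHomProperty.Spec_iff (P := @Etale)).1 het
  have h1 : c.finrank s = ψ.hom.finrank s := by
    rw [hψ, Scheme.Hom.finrank_comp_left_of_isIso, Scheme.Hom.finrank_SpecMap_eq_finrank hf₁ hf₂]
  letI : Algebra L Γ(T, ⊤) := ψ.hom.toAlgebra
  haveI : Module.Finite L Γ(T, ⊤) := hf₁
  haveI : Algebra.Etale L Γ(T, ⊤) := hf₃
  have h2 : ψ.hom.finrank s = Module.finrank L Γ(T, ⊤) := by
    change Module.rankAtStalk (R := L) Γ(T, ⊤) s = _
    rw [Module.rankAtStalk_eq_finrank_of_free]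
    rfl
  rw [h1, h2]
  let e := Algebra.FormallyEtale.equivPiOfIsSepClosed L Γ(T, ⊤)
  rw [e.toLinearEquiv.finrank_eq]
  haveI : Finite (PrimeSpectrum Γ(T, ⊤)) := (UbfCount.card_primeSpectrum_le_finrank L Γ(T, ⊤)).1
  haveI : Fintype (PrimeSpectrum Γ(T, ⊤)) := Fintype.ofFinite _
  rw [Module.finrank_fintype_fun_eq_card, ← Nat.card_eq_fintype_card]
  exact (Nat.card_congr T.isoSpec.hom.homeomorph.toEquiv).symm


/-- A scheme etale over a field `K` with at most `n` points over an algebraically closed
extension is finite of rank at most `n`. -/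
theorem isFinite_and_finrank_le_of_sections {K : Type u} [Field K] {T : Scheme.{u}}
    (c : T ⟶ Spec (CommRingCat.of K)) [Etale c] (n : ℕ) (L : Type u) [Field L] [Algebra K L]
    [IsAlgClosed L]
    (hsec : ∀ (m : ℕ) (σ : Fin m → (Spec (CommRingCat.of L) ⟶ T)), Function.Injective σ →
      (∀ i, σ i ≫ c = Spec.map (CommRingCat.ofHom (algebraMap K L))) → m ≤ n) :
    IsFinite c ∧ ∀ s, c.finrank s ≤ n := by
  let e : Spec (CommRingCat.of L) ⟶ Spec (CommRingCat.of K) :=
    Spec.map (CommRingCat.ofHom (algebraMap K L))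
  let cL : pullback c e ⟶ Spec (CommRingCat.of L) := pullback.snd c e
  haveI : Etale cL := inferInstance
  have hpts : ∀ (m : ℕ) (t : Fin m → ↥(pullback c e)), Function.Injective t → m ≤ n := by
    intro m t ht
    choose τ hτ1 hτ2 using fun i => exists_section_through cL (t i)
    refine hsec m (fun i => τ i ≫ pullback.fst c e) ?_ ?_
    · intro i k hik
      apply ht
      have hτik : τ i = τ k := by
        apply pullback.hom_ext
        · exact hik
        · exact (hτ1 i).trans (hτ1 k).symm
      rw [← hτ2 i, ← hτ2 k, hτik]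
    · intro i
      rw [Category.assoc, pullback.condition, ← Category.assoc]
      change (τ i ≫ cL) ≫ e = e
      rw [hτ1, Category.id_comp]
  haveI : Finite ↥(pullback c e) := by
    by_contra hinf
    rw [not_finite_iff_infinite] at hinf
    have := hpts (n + 1) (fun i => Infinite.natEmbedding ↥(pullback c e) i)
      (fun i k hik => Fin.ext ((Infinite.natEmbedding ↥(pullback c e)).injective hik))
    omega
  have hcard : Nat.card ↥(pullback c e) ≤ n := by
    haveI := Fintype.ofFinite ↥(pullback c e)
    have := hpts (Fintype.card ↥(pullback c e)) (fun i => (Fintype.equivFin _).symm i)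
      (Fintype.equivFin _).symm.injective
    rwa [Nat.card_eq_fintype_card]
  haveI : Surjective e := surjective_SpecMap_of_field
  haveI : Surjective (pullback.fst c e) := inferInstance
  haveI : Finite T := Finite.of_surjective (pullback.fst c e) (pullback.fst c e).surjective
  haveI : CompactSpace T := Finite.compactSpace
  haveI : QuasiCompact c := HasAffineProperty.iff_of_isAffine.mpr ‹CompactSpace T›
  haveI : LocallyQuasiFinite c := locallyQuasiFinite_of_etale c
  haveI : IsLocallyArtinian (Spec (CommRingCat.of K)) := by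
    rw [Scheme.isLocallyArtinianScheme_Spec]
    infer_instance
  haveI : IsFinite c := IsFinite.of_locallyQuasiFinite c
  refine ⟨‹_›, fun s => ?_⟩
  have hs : s = e (IsLocalRing.closedPoint L) := Subsingleton.elim _ _
  rw [hs, ← Scheme.Hom.finrank_pullback_snd c e, finrank_eq_card_of_etale_sepClosed]
  exact hcard


variable {S : Scheme.{u}}

/-- For an etale chart, a bound on the number of lifts of field points bounds the degrees of the
fibres. -/
theorem degFibresLE_of_liftsLE {F : Sp S} {U : Over S} (a : (yon S).obj U ⟶ F)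
    (ha : RepWith @Etale a) (n : ℕ) (h : LiftsLE n a) : W4dec.DegFibresLE n a := by
  intro q T c snd sq
  haveI : Etale c.left := ha.property q.toHom snd c sq.flip
  let L := AlgebraicClosure q.K
  let e : Spec (CommRingCat.of L) ⟶ Spec (CommRingCat.of q.K) :=
    Spec.map (CommRingCat.ofHom (algebraMap q.K L))
  let eO : Over.mk (e ≫ q.str) ⟶ q.pt := Over.homMk e rfl
  let qL : FieldPt F := fieldPtOf ((yon S).map eO ≫ q.toHom)
  obtain ⟨sndU, rfl⟩ := (yon S).map_surjective snd
  refine isFinite_and_finrank_le_of_sections (K := q.K) c.left n L ?_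
  intro m σ hσinj hσ
  have hσw : ∀ i, σ i ≫ T.hom = e ≫ q.str := by
    intro i
    have hc : c.left ≫ q.str = T.hom := Over.w c
    rw [← hc, ← Category.assoc, hσ]
  let σO : Fin m → (Over.mk (e ≫ q.str) ⟶ T) := fun i => Over.homMk (σ i) (hσw i)
  have hσO : ∀ i, σO i ≫ c = eO := fun i => Over.OverMorphism.ext (hσ i)
  refine h.fin qL m (fun i => σO i ≫ sndU) ?_ ?_
  · intro i k hik
    apply hσinj
    have h1 : (yon S).map (σO i) = (yon S).map (σO k) := by
      apply sq.hom_ext
      · rw [← Functor.map_comp, ← Functor.map_comp, hσO i, hσO k]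
      · rw [← Functor.map_comp, ← Functor.map_comp]
        exact congrArg (yon S).map hik
    have h2 : σO i = σO k := (yon S).map_injective h1
    exact congrArg (fun f => f.left) h2
  · intro i
    change (yon S).map (σO i ≫ sndU) ≫ a = qL.toHom
    rw [toHom_fieldPtOf, Functor.map_comp, Category.assoc, ← sq.w, ← Category.assoc,
      ← Functor.map_comp, hσO]

end Groth.Agent.Helper15.UbfLifts
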