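import Mathlib
import Groth.Agent.Lib.Helper15.UbfDecent
import Groth.Agent.Lib.Helper15.UbfEtale

/-!
# Finite schemes over a field: ranks and descent along flat surjections
-/

set_option autoImplicit false
set_option linter.style.haveILetI false
universe u
open CategoryTheory CategoryTheory.Limits AlgebraicGeometry Opposite MorphismProperty

namespace Groth.Agent.Helper15.UbfField

open Groth.Agent.Helper15

/-- The rank of the spectrum of a finite algebra over a field. -/
theorem finrank_SpecMap_algebraMap_field (K B : Type u) [Field K] [CommRing B] [Algebra K B]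
    [Module.Finite K B] (s : Spec (CommRingCat.of K)) :
    (Spec.map (CommRingCat.ofHom (algebraMap K B))).finrank s = Module.finrank K B := by
  rw [Scheme.Hom.finrank_SpecMap_algebraMap, Module.rankAtStalk_eq_finrank_of_free]
  rfl

/-- The rank of `Spec` of a finite ring map from a field. -/
theorem finrank_SpecMap_field {K : Type u} [Field K] {B : CommRingCat.{u}}
    (ψ : CommRingCat.of K ⟶ B) (hψ : ψ.hom.Finite) (s : Spec (CommRingCat.of K)) :
    (Spec.map ψ).finrank s = @Module.finrank K B _ _ ψ.hom.toAlgebra.toModule := by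
  letI : Algebra K B := ψ.hom.toAlgebra
  haveI : Module.Finite K B := hψ
  exact finrank_SpecMap_algebraMap_field K B s

/-- A finite scheme over a field is the spectrum of a finite algebra. -/
theorem exists_ringHom_of_isFinite_field {K : Type u} [Field K] {T : Scheme.{u}}
    (c : T ⟶ Spec (CommRingCat.of K)) [IsFinite c] :
    ∃ (ψ : CommRingCat.of K ⟶ Γ(T, ⊤)), ψ.hom.Finite ∧ IsAffine T ∧
      ∀ h : IsAffine T, c = (@Scheme.isoSpec T h).hom ≫ Spec.map ψ := by
  haveI : IsAffine T := isAffine_of_isAffineHom c
  let ψ : CommRingCat.of K ⟶ Γ(T, ⊤) := Spec.preimage (T.isoSpec.inv ≫ c)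
  have hψ : c = T.isoSpec.hom ≫ Spec.map ψ := by
    rw [Spec.map_preimage, Iso.hom_inv_id_assoc]
  haveI hfin : IsFinite (Spec.map ψ) := by
    rw [Spec.map_preimage]; infer_instance
  exact ⟨ψ, (IsFinite.SpecMap_iff ψ).1 hfin, inferInstance, fun _ => hψ⟩


/-- Algebra: a ring over a field which injects into a finite algebra is finite of smaller
dimension. -/
theorem finite_and_finrank_le_of_injective {K C D : Type u} [Field K] [CommRing C] [CommRing D]
    (θ : K →+* C) (ρ : C →+* D) (hρ : Function.Injective ρ) (hfin : (ρ.comp θ).Finite) :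
    θ.Finite ∧ @Module.finrank K C _ _ θ.toAlgebra.toModule ≤
      @Module.finrank K D _ _ (ρ.comp θ).toAlgebra.toModule := by
  letI : Algebra K C := θ.toAlgebra
  letI : Algebra K D := (ρ.comp θ).toAlgebra
  haveI : Module.Finite K D := hfin
  let ρ' : C →ₗ[K] D :=
    { toFun := ρ
      map_add' := map_add ρ
      map_smul' := fun k c => by
        change ρ (θ k * c) = ρ (θ k) * ρ c
        exact map_mul ρ _ _ }
  have hρ' : Function.Injective ρ' := hρ
  haveI : Module.Finite K C := Module.Finite.of_injective ρ' hρ'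
  exact ⟨‹Module.Finite K C›, LinearMap.finrank_le_finrank_of_injective hρ'⟩

/-- A ring over a field covered by a flat surjection from a finite scheme is finite, of smaller
rank. -/
theorem finite_of_flat_surjective_affine {K : Type u} [Field K] {C : CommRingCat.{u}}
    (θ : CommRingCat.of K ⟶ C) {W : Scheme.{u}} (pW : W ⟶ Spec C) [Flat pW] [Surjective pW]
    [IsFinite (pW ≫ Spec.map θ)] (s : Spec (CommRingCat.of K)) :
    θ.hom.Finite ∧ (θ.hom.Finite → (Spec.map θ).finrank s ≤ (pW ≫ Spec.map θ).finrank s) := by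
  haveI : IsAffine W := isAffine_of_isAffineHom (pW ≫ Spec.map θ)
  let ρ : C ⟶ Γ(W, ⊤) := Spec.preimage (W.isoSpec.inv ≫ pW)
  have hρ : pW = W.isoSpec.hom ≫ Spec.map ρ := by
    rw [Spec.map_preimage, Iso.hom_inv_id_assoc]
  haveI : Flat (Spec.map ρ) := by rw [Spec.map_preimage]; infer_instance
  haveI : Surjective (Spec.map ρ) := by rw [Spec.map_preimage]; infer_instance
  have hff : ρ.hom.FaithfullyFlat := (flat_and_surjective_SpecMap_iff ρ).1 ⟨‹_›, ‹_›⟩
  have hfin' : IsFinite (Spec.map (θ ≫ ρ)) := by
    rw [Spec.map_comp, Spec.map_preimage, Category.assoc]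
    infer_instance
  have hfin : (θ ≫ ρ).hom.Finite := (IsFinite.SpecMap_iff _).1 hfin'
  obtain ⟨h1, h2⟩ := finite_and_finrank_le_of_injective θ.hom ρ.hom hff.injective hfin
  refine ⟨h1, fun _ => ?_⟩
  rw [finrank_SpecMap_field θ h1 s]
  have : pW ≫ Spec.map θ = W.isoSpec.hom ≫ Spec.map (θ ≫ ρ) := by
    rw [hρ, Spec.map_comp, Category.assoc]
  rw [this]
  haveI := hfin'
  haveI : Flat (Spec.map (θ ≫ ρ)) := flat_of_field (k := K) _
  rw [Scheme.Hom.finrank_comp_left_of_isIso, finrank_SpecMap_field (θ ≫ ρ) hfin s]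
  exact h2


theorem isLocallyArtinian_Spec_field (K : Type u) [Field K] :
    IsLocallyArtinian (Spec (CommRingCat.of K)) := by
  rw [Scheme.isLocallyArtinianScheme_Spec]
  infer_instance

/-- A locally quasi-finite scheme with finitely many points over a field is finite. -/
theorem isFinite_of_lqf_of_finite {K : Type u} [Field K] {T : Scheme.{u}}
    (c : T ⟶ Spec (CommRingCat.of K)) [LocallyQuasiFinite c] [Finite T] : IsFinite c := by
  haveI : CompactSpace T := Finite.compactSpace
  haveI : QuasiCompact c := HasAffineProperty.iff_of_isAffine.mpr ‹CompactSpace T›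
  haveI := isLocallyArtinian_Spec_field K
  exact IsFinite.of_locallyQuasiFinite c

/-- The target of a flat surjection from a finite scheme over a field is finite over the field,
of smaller rank. -/
theorem isFinite_of_flat_surjective {K : Type u} [Field K] {TU TV : Scheme.{u}}
    (cU : TU ⟶ Spec (CommRingCat.of K)) [IsFinite cU] (p : TU ⟶ TV) [Flat p] [Surjective p]
    (cV : TV ⟶ Spec (CommRingCat.of K)) (h : p ≫ cV = cU) :
    IsFinite cV ∧ ∀ s, cV.finrank s ≤ cU.finrank s := by
  haveI : Finite TU := UbfDecent.finite_of_isFinite_over_field cU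
  haveI : Finite TV := Finite.of_surjective p p.surjective
  haveI hlqf : LocallyQuasiFinite cV := by
    refine (IsZariskiLocalAtSource.iff_of_openCover (P := @LocallyQuasiFinite)
      TV.affineOpenCover.openCover).2 fun i => ?_
    let C : CommRingCat := TV.affineOpenCover.X i
    let j : Spec C ⟶ TV := TV.affineOpenCover.f i
    haveI : IsOpenImmersion j := inferInstanceAs (IsOpenImmersion (TV.affineOpenCover.f i))
    change LocallyQuasiFinite (j ≫ cV)
    let θ : CommRingCat.of K ⟶ C := Spec.preimage (j ≫ cV)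
    have hθ : Spec.map θ = j ≫ cV := Spec.map_preimage _
    let pW : pullback p j ⟶ Spec C := pullback.snd p j
    have hpW : pW ≫ Spec.map θ = pullback.fst p j ≫ cU := by
      rw [hθ, ← h, ← Category.assoc, ← pullback.condition, Category.assoc]
    haveI : Finite ↥(pullback p j) :=
      Finite.of_injective (pullback.fst p j) (pullback.fst p j).isOpenEmbedding.injective
    haveI : IsFinite (pW ≫ Spec.map θ) := by
      rw [hpW]
      exact isFinite_of_lqf_of_finite _
    obtain ⟨hfin, -⟩ := finite_of_flat_surjective_affine θ pW (IsLocalRing.closedPoint K)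
    rw [← hθ]
    haveI : IsFinite (Spec.map θ) := (IsFinite.SpecMap_iff θ).2 hfin
    infer_instance
  haveI : IsFinite cV := isFinite_of_lqf_of_finite cV
  refine ⟨‹_›, fun s => ?_⟩
  obtain ⟨ψ, hψfin, haff, hψ⟩ := exists_ringHom_of_isFinite_field cV
  haveI := haff
  have hcV := hψ haff
  haveI : IsFinite ((p ≫ TV.isoSpec.hom) ≫ Spec.map ψ) := by
    rw [Category.assoc, ← hcV, h]; infer_instance
  obtain ⟨-, hle⟩ := finite_of_flat_surjective_affine ψ (p ≫ TV.isoSpec.hom) s
  have h1 : cV.finrank s = (Spec.map ψ).finrank s := by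
    haveI : IsFinite (Spec.map ψ) := (IsFinite.SpecMap_iff ψ).2 hψfin
    haveI : Flat (Spec.map ψ) := flat_of_field (k := K) _
    rw [hcV, Scheme.Hom.finrank_comp_left_of_isIso]
  have h2 : (p ≫ TV.isoSpec.hom) ≫ Spec.map ψ = cU := by
    rw [Category.assoc, ← hcV, h]
  rw [h1]
  have := hle hψfin
  simp only [h2] at this
  exact this

end Groth.Agent.Helper15.UbfField
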