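import Mathlib
import Groth.Agent.Lib.Helper15.UbfField
import Groth.Agent.Lib.Helper15.UbfAlg

/-!
# Composition of morphisms with universally bounded fibres over a field
-/

set_option autoImplicit false
set_option linter.style.haveILetI false
universe u
open CategoryTheory CategoryTheory.Limits AlgebraicGeometry Opposite MorphismProperty TensorProduct

namespace Groth.Agent.Helper15.UbfField

open Groth.Agent.Helper15

/-- A morphism to a finite scheme over a field all of whose fibres over field points are finite is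
finite. -/
theorem isFinite_of_fibres {K : Type u} [Field K] {T T' : Scheme.{u}}
    (c' : T' ⟶ Spec (CommRingCat.of K)) [IsFinite c'] (d : T ⟶ T')
    (H : ∀ t : T', IsFinite (d.fiberToSpecResidueField t)) : IsFinite d := by
  haveI := H
  haveI : LocallyQuasiFinite d :=
    LocallyQuasiFinite.of_fiberToSpecResidueField d fun t => inferInstance
  haveI : Finite T' := UbfDecent.finite_of_isFinite_over_field c'
  haveI : Finite T := by
    have hfib : ∀ t : T', (d ⁻¹' {t}).Finite := by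
      intro t
      rw [← Scheme.Hom.range_fiberι]
      haveI : Finite ↥(d.fiber t) := by
        have : IsFinite (d.fiberToSpecResidueField t) := H t
        exact UbfDecent.finite_of_isFinite_over_field (K := T'.residueField t)
          (d.fiberToSpecResidueField t)
      exact Set.finite_range _
    have : (Set.univ : Set T).Finite :=
      Set.Finite.of_finite_fibers d (Set.toFinite _) (fun t _ => (hfib t).subset Set.inter_subset_right)
    exact Set.finite_univ_iff.1 this
  haveI : IsAffine T' := isAffine_of_isAffineHom c'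
  haveI : CompactSpace T := Finite.compactSpace
  haveI : QuasiCompact d := HasAffineProperty.iff_of_isAffine.mpr ‹CompactSpace T›
  haveI := isLocallyArtinian_Spec_field K
  haveI : IsLocallyArtinian T' := IsLocallyArtinian.of_locallyQuasiFinite c'
  exact IsFinite.of_locallyQuasiFinite d


/-- The rank of a composition `T ⟶ T' ⟶ Spec K` of finite morphisms is bounded by the rank of
`T'` times a bound for the ranks of the fibres of `T ⟶ T'` over field points. -/
theorem finrank_comp_le_of_fibres {K : Type u} [Field K] {T T' : Scheme.{u}}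
    (c' : T' ⟶ Spec (CommRingCat.of K)) [IsFinite c'] (d : T ⟶ T') [IsFinite d] (n : ℕ)
    (H : ∀ (L : Type u) [Field L] (x : Spec (CommRingCat.of L) ⟶ T') (P : Scheme.{u})
      (fst : P ⟶ T) (snd : P ⟶ Spec (CommRingCat.of L)), IsPullback fst snd d x → IsFinite snd →
        ∀ s, snd.finrank s ≤ n)
    (s : Spec (CommRingCat.of K)) : (d ≫ c').finrank s ≤ n * c'.finrank s := by
  haveI : IsAffine T' := isAffine_of_isAffineHom c'
  haveI : IsAffine T := isAffine_of_isAffineHom d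
  obtain ⟨ψ', hψ'fin, -, hψ'⟩ := exists_ringHom_of_isFinite_field c'
  have hc' := hψ' inferInstance
  let φ : Γ(T', ⊤) ⟶ Γ(T, ⊤) := d.appTop
  have hnat : T.isoSpec.hom ≫ Spec.map φ = d ≫ T'.isoSpec.hom := Scheme.isoSpec_hom_naturality d
  have hdc : d ≫ c' = T.isoSpec.hom ≫ Spec.map (ψ' ≫ φ) := by
    rw [hc', ← Category.assoc, ← hnat, Category.assoc, ← Spec.map_comp]
  have hφfin : φ.hom.Finite := by
    have : IsFinite (Spec.map φ) := by
      have : Spec.map φ = T.isoSpec.inv ≫ d ≫ T'.isoSpec.hom := by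
        rw [← hnat, Iso.inv_hom_id_assoc]
      rw [this]; infer_instance
    exact (IsFinite.SpecMap_iff φ).1 this
  have hψφfin : (ψ' ≫ φ).hom.Finite := hφfin.comp hψ'fin
  have h1 : (d ≫ c').finrank s =
      @Module.finrank K Γ(T, ⊤) _ _ (ψ' ≫ φ).hom.toAlgebra.toModule := by
    haveI : IsFinite (Spec.map (ψ' ≫ φ)) := (IsFinite.SpecMap_iff _).2 hψφfin
    haveI : Flat (Spec.map (ψ' ≫ φ)) := flat_of_field (k := K) _
    rw [hdc, Scheme.Hom.finrank_comp_left_of_isIso, finrank_SpecMap_field _ hψφfin s]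
  have h2 : c'.finrank s = @Module.finrank K Γ(T', ⊤) _ _ ψ'.hom.toAlgebra.toModule := by
    haveI : IsFinite (Spec.map ψ') := (IsFinite.SpecMap_iff _).2 hψ'fin
    haveI : Flat (Spec.map ψ') := flat_of_field (k := K) _
    rw [hc', Scheme.Hom.finrank_comp_left_of_isIso, finrank_SpecMap_field _ hψ'fin s]
  rw [h1, h2]
  letI : Algebra K Γ(T', ⊤) := ψ'.hom.toAlgebra
  letI : Algebra Γ(T', ⊤) Γ(T, ⊤) := φ.hom.toAlgebra
  letI : Algebra K Γ(T, ⊤) := (ψ' ≫ φ).hom.toAlgebra
  haveI : IsScalarTower K Γ(T', ⊤) Γ(T, ⊤) := IsScalarTower.of_algebraMap_eq (fun _ => rfl)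
  haveI : Module.Finite K Γ(T', ⊤) := hψ'fin
  haveI : Module.Finite Γ(T', ⊤) Γ(T, ⊤) := hφfin
  refine UbfAlg.finrank_le_mul_of_fibres (K := K) (A' := Γ(T', ⊤)) (B := Γ(T, ⊤)) n ?_
  intro P
  letI := Ideal.Quotient.field P.1
  have push := CommRingCat.isPushout_tensorProduct Γ(T', ⊤) (Γ(T', ⊤) ⧸ P.1) Γ(T, ⊤)
  have pb := (isPullback_SpecMap_of_isPushout _ _ _ _ push).flip
  have pb' : IsPullback
      (Spec.map (CommRingCat.ofHom (S := (Γ(T', ⊤) ⧸ P.1) ⊗[Γ(T', ⊤)] Γ(T, ⊤))
        Algebra.TensorProduct.includeRight.toRingHom) ≫ T.isoSpec.inv)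
      (Spec.map (CommRingCat.ofHom (S := (Γ(T', ⊤) ⧸ P.1) ⊗[Γ(T', ⊤)] Γ(T, ⊤))
        Algebra.TensorProduct.includeLeftRingHom)) d
      (Spec.map (CommRingCat.ofHom (algebraMap Γ(T', ⊤) (Γ(T', ⊤) ⧸ P.1))) ≫ T'.isoSpec.inv) := by
    refine pb.of_iso (Iso.refl _) T.isoSpec.symm (Iso.refl _) T'.isoSpec.symm ?_ ?_ ?_ ?_
    · simp
    · simp
    · change Spec.map φ ≫ T'.isoSpec.inv = T.isoSpec.inv ≫ d
      rw [Iso.comp_inv_eq, Category.assoc, ← hnat, Iso.inv_hom_id_assoc]
    · simp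
  have hsnd : CommRingCat.ofHom (S := (Γ(T', ⊤) ⧸ P.1) ⊗[Γ(T', ⊤)] Γ(T, ⊤))
      Algebra.TensorProduct.includeLeftRingHom =
      CommRingCat.ofHom (algebraMap (Γ(T', ⊤) ⧸ P.1) ((Γ(T', ⊤) ⧸ P.1) ⊗[Γ(T', ⊤)] Γ(T, ⊤))) := by
    rfl
  rw [hsnd] at pb'
  have hfin : IsFinite (Spec.map (CommRingCat.ofHom
      (algebraMap (Γ(T', ⊤) ⧸ P.1) ((Γ(T', ⊤) ⧸ P.1) ⊗[Γ(T', ⊤)] Γ(T, ⊤))))) := by
    rw [IsFinite.SpecMap_iff]
    exact RingHom.finite_algebraMap.2 inferInstance
  have := H (Γ(T', ⊤) ⧸ P.1) _ _ _ _ pb' hfin (IsLocalRing.closedPoint _)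
  rwa [finrank_SpecMap_algebraMap_field] at this

end Groth.Agent.Helper15.UbfField
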