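import Mathlib
import Groth.Agent.Lib.Helper15.UbfField

/-!
# Finite schemes over a field: descent along field extensions
-/

set_option autoImplicit false
set_option linter.style.haveILetI false
universe u
open CategoryTheory CategoryTheory.Limits AlgebraicGeometry Opposite MorphismProperty

namespace Groth.Agent.Helper15.UbfField

open Groth.Agent.Helper15

/-- Finiteness and rank descend along a field extension. -/
theorem isFinite_of_fieldExt {K Ω : Type u} [Field K] [Field Ω]
    (a : Spec (CommRingCat.of Ω) ⟶ Spec (CommRingCat.of K)) {T TΩ : Scheme.{u}}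
    (c : T ⟶ Spec (CommRingCat.of K)) (cΩ : TΩ ⟶ Spec (CommRingCat.of Ω)) (pT : TΩ ⟶ T)
    (sq : IsPullback cΩ pT a c) [IsFinite cΩ] :
    IsFinite c ∧ ∀ s, c.finrank s = cΩ.finrank (IsLocalRing.closedPoint Ω) := by
  haveI : Flat a := flat_of_field (k := K) a
  haveI : Surjective a := by
    rw [surjective_iff]
    intro x
    exact ⟨IsLocalRing.closedPoint Ω, Subsingleton.elim (α := PrimeSpectrum K) _ _⟩
  haveI : QuasiCompact a := inferInstance
  haveI : LocallyOfFiniteType c :=
    MorphismProperty.of_isPullback_of_descendsAlong (P := @LocallyOfFiniteType)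
      (Q := @Surjective ⊓ @Flat ⊓ @QuasiCompact) sq ⟨⟨‹_›, ‹_›⟩, ‹_›⟩
      (inferInstance : LocallyOfFiniteType cΩ)
  haveI : Surjective pT := MorphismProperty.of_isPullback (P := @Surjective) sq ‹_›
  haveI : Finite TΩ := UbfDecent.finite_of_isFinite_over_field cΩ
  haveI : Finite T := Finite.of_surjective pT pT.surjective
  haveI : LocallyQuasiFinite c :=
    LocallyQuasiFinite.of_finite_preimage_singleton c (fun x => Set.toFinite _)
  haveI : IsFinite c := isFinite_of_lqf_of_finite c
  refine ⟨‹_›, fun s => ?_⟩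
  haveI : Flat c := flat_of_field (k := K) c
  have := Scheme.Hom.finrank_of_isPullback pT cΩ c a sq.flip (IsLocalRing.closedPoint Ω)
  rw [this]
  congr 1
  exact Subsingleton.elim (α := PrimeSpectrum K) _ _


/-- The empty scheme is finite of rank zero over a field. -/
theorem isFinite_of_isEmpty {K : Type u} [Field K] {T : Scheme.{u}}
    (c : T ⟶ Spec (CommRingCat.of K)) [IsEmpty T] : IsFinite c ∧ ∀ s, c.finrank s = 0 := by
  haveI : IsFinite c := inferInstance
  refine ⟨‹_›, fun s => ?_⟩
  obtain ⟨ψ, hψfin, haff, hψ⟩ := exists_ringHom_of_isFinite_field c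
  haveI := haff
  have hc := hψ haff
  haveI : IsFinite (Spec.map ψ) := (IsFinite.SpecMap_iff ψ).2 hψfin
  haveI : Flat (Spec.map ψ) := flat_of_field (k := K) _
  rw [hc, Scheme.Hom.finrank_comp_left_of_isIso, finrank_SpecMap_field ψ hψfin s]
  haveI : IsEmpty (PrimeSpectrum Γ(T, ⊤)) :=
    (T.isoSpec.hom.homeomorph.toEquiv).symm.isEmpty
  haveI : Subsingleton Γ(T, ⊤) := PrimeSpectrum.isEmpty_iff_subsingleton.1 ‹_›
  letI : Algebra K Γ(T, ⊤) := ψ.hom.toAlgebra
  exact Module.finrank_zero_of_subsingleton

end Groth.Agent.Helper15.UbfField
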