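import Mathlib
import Groth.Agent.Lib.Helper15.UbfEtale
import Groth.Agent.Lib.Helper15.UbfSch
import Groth.Agent.Lib.Helper15.CoprodEqvRel
import Groth.Agent.Lib.Helper15.AlgSpTop

/-!
# Universally bounded fibres of etale charts of algebraic spaces: counting lifts
-/

set_option autoImplicit false
set_option linter.style.haveILetI false
universe u
open CategoryTheory CategoryTheory.Limits AlgebraicGeometry Opposite MorphismProperty
open AlgSp

namespace Groth.Agent.Helper15.UbfLifts

open Groth.Agent.Helper15 Groth.Agent.Helper15.UbfSch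

variable {S : Scheme.{u}}

/-- A scheme-theoretic bound on lifts gives a bound for the induced map of sheaves. -/
theorem liftsLE_yon_map_of_schLiftsLE {W V : Over S} (g : W ⟶ V) (N : ℕ)
    (h : SchLiftsLE N g.left) : LiftsLE N ((yon S).map g) := by
  classical
  intro q L hL
  obtain ⟨z₀, hz₀⟩ := (yon S).map_surjective q.toHom
  have := h q.K z₀.left (L.image (fun l => l.left)) (by
    intro l' hl'
    obtain ⟨l, hl, rfl⟩ := Finset.mem_image.1 hl'
    have h1 : l ≫ g = z₀ := (yon S).map_injective (by rw [Functor.map_comp, hL l hl, hz₀])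
    rw [← h1]; rfl)
  have hc : (L.image (fun l => l.left)).card = L.card :=
    Finset.card_image_of_injective _ (fun a b hab => Over.OverMorphism.ext hab)
  rw [hc] at this
  exact this

/-- Composition: bounds multiply. -/
theorem LiftsLE.comp {F : Sp S} {W U : Over S} (r : W ⟶ U) (φ : (yon S).obj U ⟶ F) {M n : ℕ}
    (hr : LiftsLE M ((yon S).map r)) (hφ : LiftsLE n φ) :
    LiftsLE (M * n) ((yon S).map r ≫ φ) := by
  classical
  intro q L hL
  have h1 : (L.image (fun l => l ≫ r)).card ≤ n := hφ q _ (by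
    intro u hu
    obtain ⟨l, hl, rfl⟩ := Finset.mem_image.1 hu
    rw [Functor.map_comp, Category.assoc]
    exact hL l hl)
  have h2 : ∀ u ∈ L.image (fun l => l ≫ r), (L.filter (fun l => l ≫ r = u)).card ≤ M := by
    intro u _
    refine hr (fieldPtOf ((yon S).map u)) (L.filter (fun l => l ≫ r = u)) ?_
    intro l hl
    rw [toHom_fieldPtOf, ← Functor.map_comp, (Finset.mem_filter.1 hl).2]
    try rfl
  calc L.card ≤ M * (L.image (fun l => l ≫ r)).card := Finset.card_le_mul_card_image L M h2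
    _ ≤ M * n := Nat.mul_le_mul_left M h1


/-- Lifting a geometric point along a locally finite type morphism hitting its image. -/
theorem exists_lift_algClosed {Ω : Type u} [Field Ω] [IsAlgClosed Ω]
    {str : Spec (CommRingCat.of Ω) ⟶ S} {W V : Over S} (p : W ⟶ V)
    [LocallyOfFiniteType p.left] (l : Over.mk str ⟶ V)
    (hl : l.left (IsLocalRing.closedPoint Ω) ∈ Set.range p.left) :
    ∃ l' : Over.mk str ⟶ W, l' ≫ p = l := by
  obtain ⟨w, hw⟩ := hl
  obtain ⟨z, hz1, hz2⟩ := Scheme.Pullback.exists_preimage_pullback (f := l.left) (g := p.left)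
    (IsLocalRing.closedPoint Ω) w hw.symm
  haveI : Nonempty ↥(pullback l.left p.left) := ⟨z⟩
  obtain ⟨s, hs⟩ := exists_section_of_lft_algClosed (k := Ω) (pullback.fst l.left p.left)
  refine ⟨Over.homMk (s ≫ pullback.snd l.left p.left) ?_, ?_⟩
  · have h1 := Over.w p
    have h2 := Over.w l
    dsimp at h1 h2 ⊢
    rw [← h1, Category.assoc, ← pullback.condition_assoc, h2, ← Category.assoc, hs,
      Category.id_comp]
  · apply Over.OverMorphism.ext
    change (s ≫ pullback.snd l.left p.left) ≫ p.left = l.left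
    rw [Category.assoc, ← pullback.condition, ← Category.assoc, hs, Category.id_comp]

/-- Descent of lift bounds along a finite jointly surjective family of locally finite type
morphisms. -/
theorem LiftsLE.of_cover {F : Sp S} {V : Over S} (ψ : (yon S).obj V ⟶ F)
    {κ : Type*} (t : Finset κ) (W : κ → Over S) (p : ∀ k, W k ⟶ V)
    (hp : ∀ k, LocallyOfFiniteType (p k).left)
    (hcov : ∀ v : V.left, ∃ k ∈ t, v ∈ Set.range (p k).left)
    (N : κ → ℕ) (h : ∀ k ∈ t, LiftsLE (N k) ((yon S).map (p k) ≫ ψ)) :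
    LiftsLE (∑ k ∈ t, N k) ψ := by
  classical
  intro q L hL
  let Ω := AlgebraicClosure q.K
  let e : Spec (CommRingCat.of Ω) ⟶ Spec (CommRingCat.of q.K) :=
    Spec.map (CommRingCat.ofHom (algebraMap q.K Ω))
  haveI : Epi e := epi_SpecMap_of_field (K := q.K) (L := Ω) _
  let eO : Over.mk (e ≫ q.str) ⟶ q.pt := Over.homMk e rfl
  have heO : ∀ l₁ l₂ : q.pt ⟶ V, eO ≫ l₁ = eO ≫ l₂ → l₁ = l₂ := by
    intro l₁ l₂ h12
    apply Over.OverMorphism.ext
    have := congrArg (fun f => f.left) h12
    exact (cancel_epi e).1 this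
  let qΩ : FieldPt F := fieldPtOf ((yon S).map eO ≫ q.toHom)
  let M : κ → Finset (q.pt ⟶ V) := fun k =>
    L.filter (fun l => ∃ l' : qΩ.pt ⟶ W k, l' ≫ p k = eO ≫ l)
  have hsub : L ⊆ t.biUnion M := by
    intro l hl
    obtain ⟨k, hk, hv⟩ := hcov ((eO ≫ l).left (IsLocalRing.closedPoint Ω))
    haveI := hp k
    obtain ⟨l', hl'⟩ := exists_lift_algClosed (Ω := Ω) (p k) (eO ≫ l) hv
    exact Finset.mem_biUnion.2 ⟨k, hk, Finset.mem_filter.2 ⟨hl, l', hl'⟩⟩
  have hM : ∀ k ∈ t, (M k).card ≤ N k := by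
    intro k hk
    let f : {l // l ∈ M k} → (qΩ.pt ⟶ W k) := fun l => (Finset.mem_filter.1 l.2).2.choose
    have hf : ∀ l : {l // l ∈ M k}, f l ≫ p k = eO ≫ l.1 :=
      fun l => (Finset.mem_filter.1 l.2).2.choose_spec
    have hfinj : Function.Injective f := by
      intro l₁ l₂ h12
      apply Subtype.ext
      apply heO
      rw [← hf l₁, ← hf l₂, h12]
    have := h k hk qΩ ((M k).attach.image f) (by
      intro u hu
      obtain ⟨l, -, rfl⟩ := Finset.mem_image.1 hu
      rw [toHom_fieldPtOf, ← Category.assoc, ← Functor.map_comp, hf l]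
      erw [Functor.map_comp]
      rw [Category.assoc, hL l.1 (Finset.mem_filter.1 l.2).1]
      rfl)
    rwa [Finset.card_image_of_injective _ hfinj, Finset.card_attach] at this
  calc L.card ≤ (t.biUnion M).card := Finset.card_le_card hsub
    _ ≤ ∑ k ∈ t, (M k).card := Finset.card_biUnion_le
    _ ≤ ∑ k ∈ t, N k := Finset.sum_le_sum hM


/-- An etale morphism with quasi-compact source has a bounded number of lifts of field points. -/
theorem exists_liftsLE_yon_map_of_etale {W V : Over S} (g : W ⟶ V) [CompactSpace W.left]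
    (hg : Etale g.left) : ∃ N, LiftsLE N ((yon S).map g) := by
  haveI := hg
  haveI : LocallyQuasiFinite g.left := locallyQuasiFinite_of_etale _
  obtain ⟨N, hN⟩ := exists_schLiftsLE_of_compactSpace g.left
  exact ⟨N, liftsLE_yon_map_of_schLiftsLE g N hN⟩

/-- Core of S10429: bounds on lifts pass from a jointly surjective etale family of charts to
any etale chart with quasi-compact source. -/
theorem exists_liftsLE_of_etale_cover {X : Sp S} {ι : Type*} (U : ι → Over S)
    (φ : ∀ i, (yon S).obj (U i) ⟶ X) (hφ : ∀ i, RepWith @Etale (φ i))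
    (hsurj : ∀ x : Points X, ∃ (i : ι) (v : ↥(U i).left), Points.ofPt (φ i) v = x)
    (n : ι → ℕ) (hb : ∀ i, LiftsLE (n i) (φ i)) {V : Over S} [CompactSpace V.left]
    (ψ : (yon S).obj V ⟶ X) (hψ : RepWith @Etale ψ) : ∃ N, LiftsLE N ψ := by
  have key : ∀ v : V.left, ∃ (W : Over S) (p : W ⟶ V) (N : ℕ), LocallyOfFiniteType p.left ∧
      IsOpen (Set.range p.left) ∧ v ∈ Set.range p.left ∧ LiftsLE N ((yon S).map p ≫ ψ) := by
    intro v
    obtain ⟨i, u, hu⟩ := hsurj (Points.ofPt ψ v)
    obtain ⟨P, a, b, sq⟩ : ∃ (P : Over S) (a : P ⟶ U i) (b : P ⟶ V),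
        IsPullback ((yon S).map a) ((yon S).map b) (φ i) ψ :=
      ⟨_, _, _, (hφ i).rep.isPullback' ψ⟩
    obtain ⟨z, hz1, hz2⟩ := exists_of_ofPt_eq sq u v hu
    haveI hbe : Etale b.left := (hφ i).property ψ _ _ sq
    haveI hae : Etale a.left := hψ.property (φ i) _ _ sq.flip
    obtain ⟨_, ⟨O, hO, rfl⟩, hzO, -⟩ := (P.left.isBasis_affineOpens).exists_subset_of_mem_open
      (Set.mem_univ z) isOpen_univ
    let O' : P.left.Opens := O
    let W : Over S := Over.mk (O'.ι ≫ P.hom)
    let r : W ⟶ P := Over.homMk O'.ι rfl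
    haveI : CompactSpace W.left := by
      haveI : IsAffine O'.toScheme := hO
      exact (inferInstance : CompactSpace O'.toScheme)
    have hre : Etale (r ≫ a).left := by
      change Etale (O'.ι ≫ a.left)
      infer_instance
    have hrbe : Etale (r ≫ b).left := by
      change Etale (O'.ι ≫ b.left)
      infer_instance
    obtain ⟨M, hM⟩ := exists_liftsLE_yon_map_of_etale (r ≫ a) hre
    refine ⟨W, r ≫ b, M * n i, ?_, ?_, ?_, ?_⟩
    · haveI := hrbe
      infer_instance
    · haveI := hrbe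
      exact (r ≫ b).left.isOpenMap.isOpen_range
    · refine ⟨⟨z, hzO⟩, ?_⟩
      change (O'.ι ≫ b.left) ⟨z, hzO⟩ = v
      rw [Scheme.Hom.comp_apply]
      exact hz2
    · have : (yon S).map (r ≫ b) ≫ ψ = (yon S).map (r ≫ a) ≫ φ i := by
        rw [Functor.map_comp, Functor.map_comp, Category.assoc, Category.assoc, sq.w]
      rw [this]
      exact LiftsLE.comp (r ≫ a) (φ i) hM (hb i)
  choose W p N h1 h2 h3 h4 using key
  obtain ⟨t, ht⟩ := isCompact_univ.elim_finite_subcover (fun v => Set.range (p v).left) h2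
    (fun v _ => Set.mem_iUnion.2 ⟨v, h3 v⟩)
  refine ⟨_, LiftsLE.of_cover ψ t W p h1 ?_ N (fun v _ => h4 v)⟩
  intro v
  obtain ⟨k, hk, hv⟩ := Set.mem_iUnion₂.1 (ht (Set.mem_univ v))
  exact ⟨k, hk, hv⟩

end Groth.Agent.Helper15.UbfLifts
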