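import Mathlib
import Groth.Agent.Lib.Helper15.UbfSp

/-!
# Universally bounded fibres: representable morphisms and Zariski coverings
-/

set_option autoImplicit false
set_option linter.style.haveILetI false
universe u
open CategoryTheory CategoryTheory.Limits AlgebraicGeometry Opposite MorphismProperty
open AlgSp

namespace Groth.Agent.Helper15.UbfLifts

open Groth.Agent.Helper15 Groth.Agent.Helper15.UbfSch

variable {S : Scheme.{u}}

/-- Bounds on lifts pass to base changes. -/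
theorem LiftsLE.of_isPullback {F G : Sp S} {P V : Over S} {fst : (yon S).obj P ⟶ F} {snd : P ⟶ V}
    {f : F ⟶ G} {g : (yon S).obj V ⟶ G} (sq : IsPullback fst ((yon S).map snd) f g) {n : ℕ}
    (h : LiftsLE n g) : LiftsLE n fst := by
  classical
  intro q L hL
  have key : ∀ l ∈ L, (yon S).map (l ≫ snd) ≫ g = q.toHom ≫ f := by
    intro l hl
    rw [Functor.map_comp, Category.assoc, ← sq.w, ← Category.assoc, hL l hl]
  have hinj : Set.InjOn (fun l : q.pt ⟶ P => l ≫ snd) (L : Set (q.pt ⟶ P)) := by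
    intro l₁ h₁ l₂ h₂ h12
    apply (yon S).map_injective
    apply sq.hom_ext
    · rw [hL l₁ h₁, hL l₂ h₂]
    · rw [← Functor.map_comp, ← Functor.map_comp]
      exact congrArg (yon S).map h12
  have := h (fieldPtOf (q.toHom ≫ f)) (L.image (fun l : q.pt ⟶ P => l ≫ snd)) (by
    intro u hu
    obtain ⟨l, hl, rfl⟩ := Finset.mem_image.1 hu
    rw [toHom_fieldPtOf]
    exact key l hl)
  have hc := Finset.card_image_of_injOn hinj
  exact hc ▸ this

/-- S10431 in terms of lifts. -/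
theorem hasUnivBddFibres_of_representable {X Y : Sp S} (hY : IsAlgSpace Y) (f : X ⟶ Y)
    (hf : AlgSp.Representable f)
    (hYb : ∀ (V : Over S) (ψ : (yon S).obj V ⟶ Y), IsAffine V.left → RepWith @Etale ψ →
      W4dec.HasUnivBddFibres ψ)
    (U : Over S) (φ : (yon S).obj U ⟶ X) [CompactSpace U.left] (hφ : RepWith @Etale φ) :
    W4dec.HasUnivBddFibres φ := by
  obtain ⟨V, p, hpe, hps⟩ := hY.atlas
  -- affine open neighbourhoods
  have hO : ∀ v : V.left, ∃ O : V.left.Opens, IsAffineOpen O ∧ v ∈ O := by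
    intro v
    obtain ⟨_, ⟨O, hO, rfl⟩, hvO, -⟩ := (V.left.isBasis_affineOpens).exists_subset_of_mem_open
      (Set.mem_univ v) isOpen_univ
    exact ⟨O, hO, hvO⟩
  choose O hOaff hvO using hO
  let VO : V.left → Over S := fun v => Over.mk ((O v).ι ≫ V.hom)
  let jV : ∀ v, VO v ⟶ V := fun v => Over.homMk (O v).ι rfl
  let ψ : ∀ v, (yon S).obj (VO v) ⟶ Y := fun v => (yon S).map (jV v) ≫ p
  have hψ : ∀ v, RepWith @Etale (ψ v) := fun v =>
    (RepWith @Etale).comp_mem _ _ ((repWith_yon_map_iff _ (jV v)).2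
      (inferInstance : Etale (O v).ι)) hpe
  have hψb : ∀ v, W4dec.HasUnivBddFibres (ψ v) := fun v => hYb _ _ (hOaff v) (hψ v)
  choose n hn using hψb
  have hψL : ∀ v, LiftsLE (n v) (ψ v) := fun v =>
    liftsLE_of_degFibresLE (ψ v) (hψ v).rep (n v) (hn v)
  -- the fibre products
  let P : V.left → Over S := fun v => hf.pullback (ψ v)
  let a : ∀ v, (yon S).obj (P v) ⟶ X := fun v => hf.fst (ψ v)
  let b : ∀ v, P v ⟶ VO v := fun v => hf.snd (ψ v)
  have sq : ∀ v, IsPullback (a v) ((yon S).map (b v)) f (ψ v) := fun v => hf.isPullback (ψ v)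
  have hae : ∀ v, RepWith @Etale (a v) := fun v =>
    (RepWith @Etale).of_isPullback (sq v).flip (hψ v)
  have haL : ∀ v, LiftsLE (n v) (a v) := fun v => (hψL v).of_isPullback (sq v)
  have hsurj : ∀ x : Points X, ∃ (v : V.left) (z : ↥(P v).left), Points.ofPt (a v) z = x := by
    intro x
    obtain ⟨v, hv⟩ := surjective_ofPt p hps (Points.map f x)
    have h1 : Points.ofPt (ψ v) ⟨v, hvO v⟩ = Points.map f x := by
      rw [ofPt_comp_yon_map]
      exact hv
    rw [Points.ofPt_eq_map_ofScheme] at h1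
    obtain ⟨z', hz1, -⟩ := exists_point_of_isPullback (sq v) x _ h1.symm
    obtain ⟨z, rfl⟩ := (Points.schemeEquiv (P v)).surjective z'
    exact ⟨v, z, (Points.ofPt_eq_map_ofScheme (a v) z).trans hz1⟩
  obtain ⟨N, hN⟩ := exists_liftsLE_of_etale_cover P a hae hsurj n haL φ hφ
  exact ⟨N, degFibresLE_of_liftsLE φ hφ N hN⟩


/-- Bounds on lifts are preserved by composing with a monomorphism. -/
theorem LiftsLE.comp_mono {F G : Sp S} {U : Over S} (a : (yon S).obj U ⟶ F) (j : F ⟶ G) [Mono j]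
    {n : ℕ} (h : LiftsLE n a) : LiftsLE n (a ≫ j) := by
  classical
  intro q L hL
  rcases L.eq_empty_or_nonempty with rfl | ⟨l₀, hl₀⟩
  · simp
  · have key : ∀ l ∈ L, (yon S).map l ≫ a = (yon S).map l₀ ≫ a := by
      intro l hl
      rw [← cancel_mono j, Category.assoc, Category.assoc, hL l hl, hL l₀ hl₀]
    refine h (fieldPtOf ((yon S).map l₀ ≫ a)) L (fun l hl => ?_)
    rw [toHom_fieldPtOf]
    exact key l hl

theorem isOpenImmersion_le_etale : (@IsOpenImmersion : MorphismProperty Scheme.{u}) ≤ @Etale :=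
  fun _ _ f hf => by haveI : IsOpenImmersion f := hf; infer_instance

/-- S10432 in terms of sheaves. -/
theorem hasUnivBddFibres_of_zarCover {X : Sp S} {ι : Type*} (Xi : ι → Sp S)
    (hXi : ∀ i, IsAlgSpace (Xi i)) (j : ∀ i, Xi i ⟶ X)
    (hj : ∀ i, RepWith @IsOpenImmersion (j i))
    (hcov : ∀ x : Points X, ∃ i, x ∈ Set.range (Points.map (j i)))
    (h : ∀ (i : ι) (V : Over S) (ψ : (yon S).obj V ⟶ Xi i), IsAffine V.left →
      RepWith @Etale ψ → W4dec.HasUnivBddFibres ψ)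
    (U : Over S) (φ : (yon S).obj U ⟶ X) [CompactSpace U.left] (hφ : RepWith @Etale φ) :
    W4dec.HasUnivBddFibres φ := by
  have hatlas := fun i => (hXi i).atlas
  choose V p hpe hps using hatlas
  have hO : ∀ (i : ι) (v : (V i).left), ∃ O : (V i).left.Opens, IsAffineOpen O ∧ v ∈ O := by
    intro i v
    obtain ⟨_, ⟨O, hO, rfl⟩, hvO, -⟩ := ((V i).left.isBasis_affineOpens).exists_subset_of_mem_open
      (Set.mem_univ v) isOpen_univ
    exact ⟨O, hO, hvO⟩
  choose O hOaff hvO using hO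
  let VO : (Σ i, (V i).left) → Over S := fun k => Over.mk ((O k.1 k.2).ι ≫ (V k.1).hom)
  let jV : ∀ k, VO k ⟶ V k.1 := fun k => Over.homMk (O k.1 k.2).ι rfl
  let ψ : ∀ k, (yon S).obj (VO k) ⟶ Xi k.1 := fun k => (yon S).map (jV k) ≫ p k.1
  have hψ : ∀ k, RepWith @Etale (ψ k) := fun k =>
    (RepWith @Etale).comp_mem _ _ ((repWith_yon_map_iff _ (jV k)).2
      (inferInstance : Etale (O k.1 k.2).ι)) (hpe k.1)
  have hψb : ∀ k, W4dec.HasUnivBddFibres (ψ k) := fun k => h _ _ _ (hOaff k.1 k.2) (hψ k)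
  choose n hn using hψb
  have hψL : ∀ k, LiftsLE (n k) (ψ k) := fun k =>
    liftsLE_of_degFibresLE (ψ k) (hψ k).rep (n k) (hn k)
  haveI : ∀ i, Mono (j i) := fun i => mono_of_repWith isOpenImmersion_le_mono _ (hj i)
  have hae : ∀ k, RepWith @Etale (ψ k ≫ j k.1) := fun k =>
    (RepWith @Etale).comp_mem _ _ (hψ k) (repWith_mono isOpenImmersion_le_etale (hj k.1))
  have haL : ∀ k, LiftsLE (n k) (ψ k ≫ j k.1) := fun k => (hψL k).comp_mono _ _
  have hsurj : ∀ x : Points X, ∃ (k : Σ i, (V i).left) (z : ↥(VO k).left),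
      Points.ofPt (ψ k ≫ j k.1) z = x := by
    intro x
    obtain ⟨i, x', rfl⟩ := hcov x
    obtain ⟨v, rfl⟩ := surjective_ofPt (p i) (hps i) x'
    refine ⟨⟨i, v⟩, ⟨v, hvO i v⟩, ?_⟩
    rw [← Points.map_ofPt]
    congr 1
    exact ofPt_comp_yon_map (jV ⟨i, v⟩) (p i) _
  obtain ⟨N, hN⟩ := exists_liftsLE_of_etale_cover VO (fun k => ψ k ≫ j k.1) hae hsurj n haL φ hφ
  exact ⟨N, degFibresLE_of_liftsLE φ hφ N hN⟩

end Groth.Agent.Helper15.UbfLifts
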