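import Mathlib

/-!
# Global form of Zariski's main theorem for quasi-finite algebras (elementary form)
-/

set_option autoImplicit false
universe u
open scoped TensorProduct

namespace Groth.Agent.Helper15.Ufo

/-- A finite supremum of module-finite subalgebras is module-finite. -/
theorem finite_finset_sup {R S : Type*} [CommRing R] [CommRing S] [Algebra R S] {ι : Type*}
    (J : Finset ι) (A : ι → Subalgebra R S) (h : ∀ i ∈ J, Module.Finite R (A i)) :
    Module.Finite R (J.sup A : Subalgebra R S) := by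
  classical
  induction J using Finset.induction_on with
  | empty =>
    rw [Finset.sup_empty]
    infer_instance
  | insert i J' hi IH =>
    rw [Finset.sup_insert]
    haveI := h i (Finset.mem_insert_self _ _)
    haveI := IH (fun j hj => h j (Finset.mem_insert_of_mem hj))
    exact Subalgebra.finite_sup _ _

/-- **Global Zariski's main theorem**, elementary form: a quasi-finite algebra of finite type
contains a module-finite subalgebra which agrees with it after inverting each of finitely many
elements generating the unit ideal. -/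
theorem exists_finite_subalgebra_cover (R S : Type u) [CommRing R] [CommRing S] [Algebra R S]
    [Algebra.FiniteType R S] [Algebra.QuasiFinite R S] :
    ∃ (S' : Subalgebra R S) (rs : Finset S), Module.Finite R S' ∧ (∀ r ∈ rs, r ∈ S') ∧
      Ideal.span (rs : Set S) = ⊤ ∧ ∀ r ∈ rs, ∀ s : S, ∃ m : ℕ, r ^ m * s ∈ S' := by
  classical
  have key : ∀ p : PrimeSpectrum S, ∃ (S' : Subalgebra R S) (r : S), Module.Finite R S' ∧ r ∈ S' ∧
      r ∉ p.asIdeal ∧ ∀ s : S, ∃ m : ℕ, r ^ m * s ∈ S' := by
    intro p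
    obtain ⟨S', hS', r, hrp, hbij⟩ :=
      Algebra.QuasiFiniteAt.exists_fg_and_exists_notMem_and_awayMap_bijective (R := R) p.asIdeal
    refine ⟨S', r.1, ⟨(Submodule.fg_top _).mpr hS'⟩, r.2, hrp, fun s => ?_⟩
    obtain ⟨b, m, hb⟩ := Localization.awayMap_surjective_iff.1 hbij.2 s
    have hb' : (b : S) = (r : S) ^ m * s := hb
    exact ⟨m, by rw [← hb']; exact b.2⟩
  choose S' r hfin hrS' hrp hsurj using key
  have hspan : Ideal.span (Set.range r) = ⊤ := by
    by_contra hne
    obtain ⟨m, hm, hle⟩ := Ideal.exists_le_maximal _ hne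
    exact hrp ⟨m, hm.isPrime⟩ (hle (Ideal.subset_span ⟨_, rfl⟩))
  obtain ⟨rs, hrs, hrs_top⟩ := (Ideal.span_eq_top_iff_finite _).1 hspan
  have hp : ∀ x : {x // x ∈ rs}, ∃ p, r p = x.1 := fun x => hrs x.2
  choose p hp using hp
  refine ⟨rs.attach.sup (fun x => S' (p x)), rs, ?_, ?_, hrs_top, ?_⟩
  · exact finite_finset_sup _ _ (fun x _ => hfin _)
  · intro x hx
    have h1 : S' (p ⟨x, hx⟩) ≤ rs.attach.sup (fun x => S' (p x)) :=
      Finset.le_sup (f := fun x => S' (p x)) (Finset.mem_attach _ ⟨x, hx⟩)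
    exact h1 (by have := hrS' (p ⟨x, hx⟩); rwa [hp] at this)
  · intro x hx s
    have h1 : S' (p ⟨x, hx⟩) ≤ rs.attach.sup (fun x => S' (p x)) :=
      Finset.le_sup (f := fun x => S' (p x)) (Finset.mem_attach _ ⟨x, hx⟩)
    obtain ⟨m, hm⟩ := hsurj (p ⟨x, hx⟩) s
    rw [hp] at hm
    exact ⟨m, h1 hm⟩

end Groth.Agent.Helper15.Ufo
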