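import Groth.Agent.Lib.Helper15.Ufo8
import Groth.Agent.Lib.Helper15.Ufo9

/-!
# The affine model: opens finite over `Spec A` and idempotents of `A ⊗ T`
-/

set_option autoImplicit false
universe u
open CategoryTheory Limits AlgebraicGeometry
open scoped TensorProduct

namespace Groth.Agent.Helper15.Ufo

namespace Model

variable (R : Type u) [CommRing R]

/-- The structure morphism of the spectrum of an algebra. -/
noncomputable abbrev str (S : Type u) [CommRing S] [Algebra R S] :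
    Spec (.of S) ⟶ Spec (.of R) :=
  Spec.map (CommRingCat.ofHom (algebraMap R S))

variable {R}
variable {S T : Type u} [CommRing S] [CommRing T] [Algebra R S] [Algebra R T] (φ : T →ₐ[R] S)

/-- The morphism of spectra of an algebra map. -/
noncomputable abbrev jφ : Spec (.of S) ⟶ Spec (.of T) :=
  Spec.map (CommRingCat.ofHom (φ : T →+* S))

theorem jφ_str : jφ φ ≫ str R T = str R S := by
  rw [← Spec.map_comp]
  congr 1
  ext x
  exact φ.commutes x

/-- Projection to `Spec T`. -/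
noncomputable abbrev q₁ (R : Type u) [CommRing R] (A : Type u) [CommRing A] [Algebra R A]
    (T : Type u) [CommRing T] [Algebra R T] : Spec (.of (A ⊗[R] T)) ⟶ Spec (.of T) :=
  Spec.map (CommRingCat.ofHom
    (Algebra.TensorProduct.includeRight (R := R) (A := A) (B := T)).toRingHom)

/-- Projection to `Spec A`. -/
noncomputable abbrev q₂ (R : Type u) [CommRing R] (A : Type u) [CommRing A] [Algebra R A]
    (T : Type u) [CommRing T] [Algebra R T] : Spec (.of (A ⊗[R] T)) ⟶ Spec (.of A) :=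
  Spec.map (CommRingCat.ofHom
    (Algebra.TensorProduct.includeLeftRingHom (R := R) (A := A) (B := T)))

theorem isPullback_q (R : Type u) [CommRing R] (A : Type u) [CommRing A] [Algebra R A]
    (T : Type u) [CommRing T] [Algebra R T] :
    IsPullback (q₁ R A T) (q₂ R A T) (str R T) (str R A) :=
  (isPullback_SpecMap_of_isPushout _ _ _ _ (CommRingCat.isPushout_tensorProduct R A T)).flip

variable {A : Type u} [CommRing A] [Algebra R A]
variable {X' : Scheme.{u}} {p₁ : X' ⟶ Spec (.of S)} {p₂ : X' ⟶ Spec (.of A)}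
  (hX : IsPullback p₁ p₂ (str R S) (str R A))

/-- The comparison morphism to the model of the finite scheme. -/
noncomputable def jA : X' ⟶ Spec (.of (A ⊗[R] T)) :=
  (isPullback_q R A T).lift (p₁ ≫ jφ φ) p₂ (by rw [Category.assoc, jφ_str]; exact hX.w)

@[reassoc (attr := simp)]
theorem jA_q₁ : jA φ hX ≫ q₁ R A T = p₁ ≫ jφ φ := (isPullback_q R A T).lift_fst _ _ _

@[reassoc (attr := simp)]
theorem jA_q₂ : jA φ hX ≫ q₂ R A T = p₂ := (isPullback_q R A T).lift_snd _ _ _

include hX in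
theorem hX' : IsPullback p₁ p₂ (jφ φ ≫ str R T) (str R A) := by
  rw [jφ_str]; exact hX

theorem isOpenImmersion_jA [IsOpenImmersion (jφ φ)] : IsOpenImmersion (jA φ hX) :=
  isOpenImmersion_left (str R T) (jφ φ) (str R A) (hX' φ hX) (isPullback_q R A T) (jA φ hX)
    (jA_q₁ φ hX) (jA_q₂ φ hX)

omit [Algebra R S] in
theorem mem_compl_zeroLocus_spanOne (z : PrimeSpectrum (A ⊗[R] T)) (ts : Set T) :
    z ∈ (PrimeSpectrum.zeroLocus (spanOne R A ts : Set (A ⊗[R] T)))ᶜ ↔
      ∃ t ∈ ts, PrimeSpectrum.comap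
        (Algebra.TensorProduct.includeRight (R := R) (A := A) (B := T)).toRingHom z ∈
          (PrimeSpectrum.basicOpen t : Set (PrimeSpectrum T)) := by
  rw [Set.mem_compl_iff, PrimeSpectrum.mem_zeroLocus, spanOne, SetLike.coe_subset_coe,
    Ideal.span_le]
  constructor
  · intro h
    by_contra hcon
    push Not at hcon
    apply h
    rintro _ ⟨t, ht, rfl⟩
    by_contra h'
    exact hcon t ht h'
  · rintro ⟨t, ht, hz⟩ hsub
    exact hz (hsub ⟨t, ht, rfl⟩)

theorem range_jA (ts : Set T)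
    (hr : Set.range (jφ φ) = ⋃ t ∈ ts, (PrimeSpectrum.basicOpen t : Set (PrimeSpectrum T))) :
    Set.range (jA φ hX) = (PrimeSpectrum.zeroLocus (spanOne R A ts : Set (A ⊗[R] T)))ᶜ := by
  rw [range_left (str R T) (jφ φ) (str R A) (hX' φ hX) (isPullback_q R A T) (jA φ hX)
    (jA_q₁ φ hX) (jA_q₂ φ hX), hr]
  ext z
  refine Iff.trans ?_ (mem_compl_zeroLocus_spanOne z ts).symm
  constructor
  · intro hz
    have hz' : (q₁ R A T) z ∈ ⋃ t ∈ ts, (PrimeSpectrum.basicOpen t : Set (PrimeSpectrum T)) := hz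
    obtain ⟨t, ht, h⟩ := Set.mem_iUnion₂.1 hz'
    exact ⟨t, ht, h⟩
  · rintro ⟨t, ht, h⟩
    have : (q₁ R A T) z ∈ ⋃ t ∈ ts, (PrimeSpectrum.basicOpen t : Set (PrimeSpectrum T)) :=
      Set.mem_iUnion₂.2 ⟨t, ht, h⟩
    exact this

theorem isFinite_iff [IsOpenImmersion (jφ φ)] [Module.Finite R T] (U : X'.Opens) :
    IsFinite (U.ι ≫ p₂) ↔ IsClosed (jA φ hX '' (U : Set X')) := by
  haveI : IsFinite (str R T) := by
    rw [str, IsFinite.SpecMap_iff]
    exact RingHom.finite_algebraMap.2 inferInstance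
  exact isFinite_iff_isClosed_image (str R T) (jφ φ) (str R A) (hX' φ hX) (isPullback_q R A T)
    (jA φ hX) (jA_q₁ φ hX) (jA_q₂ φ hX) U

theorem exists_idem_of_isFinite [IsOpenImmersion (jφ φ)] [Module.Finite R T] (ts : Set T)
    (hr : Set.range (jφ φ) = ⋃ t ∈ ts, (PrimeSpectrum.basicOpen t : Set (PrimeSpectrum T)))
    (U : X'.Opens) (hU : IsFinite (U.ι ≫ p₂)) :
    ∃ e : A ⊗[R] T, e * e = e ∧ e ∈ spanOne R A ts ∧
      (U : Set X') = jA φ hX ⁻¹'
        (PrimeSpectrum.basicOpen e : Set (PrimeSpectrum (A ⊗[R] T))) := by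
  haveI := isOpenImmersion_jA φ hX
  have hcl : IsClosed (jA φ hX '' (U : Set X')) := (isFinite_iff φ hX U).1 hU
  have hop : IsOpen (jA φ hX '' (U : Set X')) :=
    (jA φ hX).isOpenEmbedding.isOpenMap _ U.isOpen
  obtain ⟨e, he, hWe⟩ := PrimeSpectrum.isClopen_iff.1 ⟨hcl, hop⟩
  refine ⟨e, he, ?_, ?_⟩
  · have hsub : (PrimeSpectrum.basicOpen e : Set (PrimeSpectrum (A ⊗[R] T))) ⊆
        (PrimeSpectrum.zeroLocus (spanOne R A ts : Set (A ⊗[R] T)))ᶜ := by
      rw [← hWe, ← range_jA φ hX ts hr]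
      exact Set.image_subset_range _ _
    have hrad : e ∈ (spanOne R A ts).radical := by
      rw [← PrimeSpectrum.vanishingIdeal_zeroLocus_eq_radical, PrimeSpectrum.mem_vanishingIdeal]
      intro z hz
      by_contra h
      exact hsub h hz
    obtain ⟨n, hn⟩ := hrad
    cases n with
    | zero =>
      rw [pow_zero] at hn
      rw [(Ideal.eq_top_iff_one _).2 hn]
      exact Submodule.mem_top
    | succ n => rwa [he.pow_succ_eq] at hn
  · rw [← hWe, Set.preimage_image_eq _ (jA φ hX).isOpenEmbedding.injective]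

theorem isFinite_of_idem [IsOpenImmersion (jφ φ)] [Module.Finite R T] (ts : Set T)
    (hr : Set.range (jφ φ) = ⋃ t ∈ ts, (PrimeSpectrum.basicOpen t : Set (PrimeSpectrum T)))
    (e : A ⊗[R] T) (he : e * e = e) (hmem : e ∈ spanOne R A ts) (U : X'.Opens)
    (hU : (U : Set X') = jA φ hX ⁻¹'
      (PrimeSpectrum.basicOpen e : Set (PrimeSpectrum (A ⊗[R] T)))) :
    IsFinite (U.ι ≫ p₂) := by
  rw [isFinite_iff φ hX U, hU, Set.image_preimage_eq_inter_range, range_jA φ hX ts hr]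
  have hsub : (PrimeSpectrum.basicOpen e : Set (PrimeSpectrum (A ⊗[R] T))) ⊆
      (PrimeSpectrum.zeroLocus (spanOne R A ts : Set (A ⊗[R] T)))ᶜ := by
    intro z hz hz'
    exact hz (hz' hmem)
  have hcl : IsClosed (PrimeSpectrum.basicOpen e : Set (PrimeSpectrum (A ⊗[R] T))) :=
    (PrimeSpectrum.isClopen_iff.2 ⟨e, he, rfl⟩).1
  have heq : ∀ (s t : Set (PrimeSpectrum (A ⊗[R] T))), s ⊆ t → IsClosed s → IsClosed (s ∩ t) :=
    fun s t h hs => by rwa [Set.inter_eq_left.2 h]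
  exact heq _ _ hsub hcl

theorem jA_natural {A' : Type u} [CommRing A'] [Algebra R A'] (γ : A →ₐ[R] A')
    {X'' : Scheme.{u}} {p₁' : X'' ⟶ Spec (.of S)} {p₂' : X'' ⟶ Spec (.of A')}
    (hX'' : IsPullback p₁' p₂' (str R S) (str R A'))
    (m : X'' ⟶ X') (hm1 : m ≫ p₁ = p₁')
    (hm2 : m ≫ p₂ = p₂' ≫ Spec.map (CommRingCat.ofHom (γ : A →+* A'))) :
    m ≫ jA φ hX = jA φ hX'' ≫ Spec.map (CommRingCat.ofHom
      (Algebra.TensorProduct.map γ (AlgHom.id R T)).toRingHom) := by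
  apply (isPullback_q R A T).hom_ext
  · have : Spec.map (CommRingCat.ofHom
        (Algebra.TensorProduct.map γ (AlgHom.id R T)).toRingHom) ≫ q₁ R A T = q₁ R A' T := by
      rw [← Spec.map_comp]
      congr 1
      ext t
      simp
    rw [Category.assoc, jA_q₁, ← Category.assoc, hm1, Category.assoc, this, jA_q₁]
  · have : Spec.map (CommRingCat.ofHom
        (Algebra.TensorProduct.map γ (AlgHom.id R T)).toRingHom) ≫ q₂ R A T =
        q₂ R A' T ≫ Spec.map (CommRingCat.ofHom (γ : A →+* A')) := by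
      rw [← Spec.map_comp, ← Spec.map_comp]
      congr 1
    rw [Category.assoc, jA_q₂, hm2, Category.assoc, this, jA_q₂_assoc]

theorem preimage_eq_of_map {A' : Type u} [CommRing A'] [Algebra R A'] (γ : A →ₐ[R] A')
    {X'' : Scheme.{u}} {p₁' : X'' ⟶ Spec (.of S)} {p₂' : X'' ⟶ Spec (.of A')}
    (hX'' : IsPullback p₁' p₂' (str R S) (str R A'))
    (m : X'' ⟶ X') (hm1 : m ≫ p₁ = p₁')
    (hm2 : m ≫ p₂ = p₂' ≫ Spec.map (CommRingCat.ofHom (γ : A →+* A')))
    (eu : A ⊗[R] T) (U : X'.Opens)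
    (hU : (U : Set X') = jA φ hX ⁻¹'
      (PrimeSpectrum.basicOpen eu : Set (PrimeSpectrum (A ⊗[R] T))))
    (U'' : X''.Opens)
    (hU'' : (U'' : Set X'') = jA φ hX'' ⁻¹'
      (PrimeSpectrum.basicOpen (Algebra.TensorProduct.map γ (AlgHom.id R T) eu) :
        Set (PrimeSpectrum (A' ⊗[R] T)))) :
    m ⁻¹ᵁ U = U'' := by
  have hnat := jA_natural φ hX γ hX'' m hm1 hm2
  ext x
  have h1 : x ∈ m ⁻¹ᵁ U ↔ jA φ hX (m x) ∈
      (PrimeSpectrum.basicOpen eu : Set (PrimeSpectrum (A ⊗[R] T))) := by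
    change m x ∈ (U : Set X') ↔ _
    rw [hU]
    rfl
  have h2 : x ∈ U'' ↔ jA φ hX'' x ∈
      (PrimeSpectrum.basicOpen (Algebra.TensorProduct.map γ (AlgHom.id R T) eu) :
        Set (PrimeSpectrum (A' ⊗[R] T))) := by
    change x ∈ (U'' : Set X'') ↔ _
    rw [hU'']
    rfl
  refine Iff.trans h1 (Iff.trans ?_ h2.symm)
  rw [← Scheme.Hom.comp_apply, hnat, Scheme.Hom.comp_apply]
  rfl

end Model

end Groth.Agent.Helper15.Ufo
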