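import Groth.Agent.Lib.Helper15.Ufo10

/-!
# The versal family in the affine model
-/

set_option autoImplicit false
universe u
open CategoryTheory Limits AlgebraicGeometry
open scoped TensorProduct

namespace Groth.Agent.Helper15.Ufo

open Model in
theorem exists_versal_model (R S : Type u) [CommRing R] [CommRing S] [Algebra R S]
    [Algebra.FinitePresentation R S] [Algebra.QuasiFinite R S] :
    ∃ (Au : Type u) (_ : CommRing Au) (_ : Algebra R Au) (_ : Algebra.FinitePresentation R Au),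
      ∀ (Xu : Scheme.{u}) (pu₁ : Xu ⟶ Spec (.of S)) (pu₂ : Xu ⟶ Spec (.of Au))
        (_ : IsPullback pu₁ pu₂ (str R S) (str R Au)),
      ∃ Uu : Xu.Opens, IsFinite (Uu.ι ≫ pu₂) ∧
        ∀ (A' : Type u) [CommRing A'] [Algebra R A'] (X' : Scheme.{u})
          (p₁ : X' ⟶ Spec (.of S)) (p₂ : X' ⟶ Spec (.of A'))
          (_ : IsPullback p₁ p₂ (str R S) (str R A')) (U' : X'.Opens),
          IsFinite (U'.ι ≫ p₂) →
          ∃ γ : Au →ₐ[R] A', ∀ m : X' ⟶ Xu, m ≫ pu₁ = p₁ →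
            m ≫ pu₂ = p₂ ≫ Spec.map (CommRingCat.ofHom (γ : Au →+* A')) → m ⁻¹ᵁ Uu = U' := by
  classical
  obtain ⟨T₀, i1, i2, i3, i4, i5, ψ, rs, G, hG, hspan, hsurj, hinj⟩ := exists_zmt_data R S
  obtain ⟨hoi, hrange⟩ := isOpenImmersion_φq ψ rs G hG hspan hsurj hinj
  let φ : Tq G →ₐ[R] S := φq ψ G hG
  let ts : Set (Tq G) := ρq R G '' (rs : Set T₀)
  haveI : IsOpenImmersion (jφ φ) := hoi
  have hr : Set.range (jφ φ) =
      ⋃ t ∈ ts, (PrimeSpectrum.basicOpen t : Set (PrimeSpectrum (Tq G))) := by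
    rw [Set.biUnion_image]
    exact hrange
  haveI : Module.Finite R (Tq G) :=
    Module.Finite.of_surjective (ρq R G).toLinearMap (ρq_surjective (R := R) G)
  obtain ⟨Au, j1, j2, j3, eu, heu, hmem, hv⟩ := exists_versal_idem R rs G
  refine ⟨Au, j1, j2, j3, fun Xu pu₁ pu₂ hXu => ?_⟩
  let D : (Spec (.of (Au ⊗[R] Tq G))).Opens := PrimeSpectrum.basicOpen eu
  refine ⟨jA φ hXu ⁻¹ᵁ D, isFinite_of_idem φ hXu ts hr eu heu hmem _ rfl, ?_⟩
  intro A' _ _ X' p₁ p₂ hX' U' hfin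
  obtain ⟨e', he', hmem', hU'⟩ := exists_idem_of_isFinite φ hX' ts hr U' hfin
  obtain ⟨γ, hγ⟩ := hv A' e' he' hmem'
  refine ⟨γ, fun m hm1 hm2 => ?_⟩
  exact preimage_eq_of_map φ hXu γ hX' m hm1 hm2 eu _ rfl U' (by rw [hγ]; exact hU')

end Groth.Agent.Helper15.Ufo
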