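import Groth.Agent.Lib.Helper15.Ufo11

/-!
# The universal open finite over the base, for affine schemes
-/

set_option autoImplicit false
universe u
open CategoryTheory Limits AlgebraicGeometry
open scoped TensorProduct

namespace Groth.Agent.Helper15.Ufo

theorem isPullback_transport {X Y Y' P X₀ Y₀ Y₀' : Scheme.{u}} (eX : X ≅ X₀) (eY : Y ≅ Y₀)
    (eY' : Y' ≅ Y₀') {f : X ⟶ Y} {f₀ : X₀ ⟶ Y₀} (hf : f ≫ eY.hom = eX.hom ≫ f₀) {b : Y' ⟶ Y}
    {b₀ : Y₀' ⟶ Y₀} (hb : b ≫ eY.hom = eY'.hom ≫ b₀) {p₁ : P ⟶ X} {p₂ : P ⟶ Y'}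
    (h : IsPullback p₁ p₂ f b) :
    IsPullback (p₁ ≫ eX.hom) (p₂ ≫ eY'.hom) f₀ b₀ :=
  IsPullback.of_iso h (Iso.refl _) eX eY' eY (by simp) (by simp) hf hb

theorem universal_finite_open {X Y : Scheme.{u}} (f : X ⟶ Y) [IsAffine X] [IsAffine Y]
    [LocallyQuasiFinite f] [LocallyOfFinitePresentation f] :
    ∃ (Yu : Scheme.{u}) (a : Yu ⟶ Y) (Uu : (pullback f a).Opens),
      LocallyOfFinitePresentation a ∧ QuasiCompact a ∧ QuasiSeparated a ∧
      IsFinite (Uu.ι ≫ pullback.snd f a) ∧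
      ∀ (Y' : Scheme.{u}) (b : Y' ⟶ Y) (U' : (pullback f b).Opens), IsAffine Y' →
        IsFinite (U'.ι ≫ pullback.snd f b) →
        ∃ (c : Y' ⟶ Yu) (hc : c ≫ a = b),
          (pullback.map f b f a (𝟙 X) c (𝟙 Y)
            ((Category.comp_id f).trans (Category.id_comp f).symm)
            ((Category.comp_id b).trans hc.symm)) ⁻¹ᵁ Uu = U' := by
  let R : Type u := Γ(Y, ⊤)
  let S : Type u := Γ(X, ⊤)
  letI : Algebra R S := f.appTop.hom.toAlgebra
  haveI : Algebra.FinitePresentation R S :=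
    (HasRingHomProperty.iff_of_isAffine (P := @LocallyOfFinitePresentation)).1 ‹_›
  haveI : Algebra.QuasiFinite R S :=
    (HasRingHomProperty.iff_of_isAffine (P := @LocallyQuasiFinite)).1 ‹_›
  have hf : f ≫ Y.isoSpec.hom = X.isoSpec.hom ≫ Model.str R S :=
    (Scheme.isoSpec_hom_naturality f).symm
  obtain ⟨Au, j1, j2, j3, hM⟩ := exists_versal_model R S
  let a : Spec (.of Au) ⟶ Y := Model.str R Au ≫ Y.isoSpec.inv
  have ha : a ≫ Y.isoSpec.hom = (Iso.refl _).hom ≫ Model.str R Au := by simp [a]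
  have hXu := isPullback_transport X.isoSpec Y.isoSpec (Iso.refl _) hf ha
    (IsPullback.of_hasPullback f a)
  obtain ⟨Uu, hUu, hvers⟩ := hM _ _ _ hXu
  refine ⟨Spec (.of Au), a, Uu, ?_, ?_, ?_, ?_, ?_⟩
  · haveI : LocallyOfFinitePresentation (Model.str R Au) :=
      (HasRingHomProperty.Spec_iff (P := @LocallyOfFinitePresentation)).2
        (RingHom.finitePresentation_algebraMap.2 j3)
    infer_instance
  · infer_instance
  · infer_instance
  · simpa using hUu
  · intro Y' b U' hY' hfin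
    let A' : Type u := Γ(Y', ⊤)
    let b₀ : Spec (.of A') ⟶ Spec (.of R) := Y'.isoSpec.inv ≫ b ≫ Y.isoSpec.hom
    let β : CommRingCat.of R ⟶ CommRingCat.of A' := Spec.preimage b₀
    letI : Algebra R A' := β.hom.toAlgebra
    have hb₀ : Model.str R A' = b₀ := Spec.map_preimage b₀
    have hb : b ≫ Y.isoSpec.hom = Y'.isoSpec.hom ≫ Model.str R A' := by
      rw [hb₀]; simp [b₀]
    have hX' := isPullback_transport X.isoSpec Y.isoSpec Y'.isoSpec hf hb
      (IsPullback.of_hasPullback f b)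
    have hfin' : IsFinite (U'.ι ≫ pullback.snd f b ≫ Y'.isoSpec.hom) := by
      rw [← Category.assoc]; infer_instance
    obtain ⟨γ, hγ⟩ := hvers A' _ _ _ hX' U' hfin'
    let c : Y' ⟶ Spec (.of Au) := Y'.isoSpec.hom ≫ Spec.map (CommRingCat.ofHom (γ : Au →+* A'))
    have hγstr : Spec.map (CommRingCat.ofHom (γ : Au →+* A')) ≫ Model.str R Au =
        Model.str R A' := by
      rw [← Spec.map_comp]
      congr 1
      ext x
      exact γ.commutes x
    have hc : c ≫ a = b := by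
      simp only [c, a, Category.assoc]
      rw [reassoc_of% hγstr, hb₀]
      simp [b₀]
    refine ⟨c, hc, hγ _ ?_ ?_⟩
    · rw [← Category.assoc]
      congr 1
      exact (pullback.lift_fst _ _ _).trans (Category.comp_id _)
    · exact pullback.lift_snd _ _ _

end Groth.Agent.Helper15.Ufo
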