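import Mathlib

/-!
# Covering a finite subalgebra by a finite free, finitely presented algebra
-/

set_option autoImplicit false
universe u
open scoped TensorProduct
open Polynomial

namespace Groth.Agent.Helper15.Ufo

/-- Finitely many integral elements lie in the image of a finite free finitely presented algebra. -/
theorem exists_finite_free_of_integral (R S : Type u) [CommRing R] [CommRing S] [Algebra R S]
    (F : Finset S) (hF : ∀ b ∈ F, IsIntegral R b) :
    ∃ (T₀ : Type u) (_ : CommRing T₀) (_ : Algebra R T₀) (_ : Module.Free R T₀)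
      (_ : Module.Finite R T₀) (_ : Algebra.FinitePresentation R T₀) (ψ : T₀ →ₐ[R] S),
      ∀ b ∈ F, b ∈ ψ.range := by
  classical
  induction F using Finset.induction_on with
  | empty =>
    exact ⟨R, inferInstance, inferInstance, inferInstance, inferInstance, inferInstance,
      Algebra.ofId R S, by simp⟩
  | insert b F' hb IH =>
    obtain ⟨T₀, _, _, _, _, _, ψ, hψ⟩ := IH (fun c hc => hF c (Finset.mem_insert_of_mem hc))
    obtain ⟨P, hPmonic, hPb⟩ := hF b (Finset.mem_insert_self _ _)
    let P' : T₀[X] := P.map (algebraMap R T₀)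
    have hP'monic : P'.Monic := hPmonic.map _
    have hroot : P'.eval₂ (ψ : T₀ →+* S) b = 0 := by
      rw [Polynomial.eval₂_map]
      have : (ψ : T₀ →+* S).comp (algebraMap R T₀) = algebraMap R S := ψ.comp_algebraMap
      rw [this]
      exact hPb
    let pb := AdjoinRoot.powerBasis' hP'monic
    haveI : Module.Free T₀ (AdjoinRoot P') := Module.Free.of_basis pb.basis
    haveI : Module.Finite T₀ (AdjoinRoot P') := pb.finite
    haveI : Module.Free R (AdjoinRoot P') := Module.Free.trans (R := R) (S := T₀)
    haveI : Module.Finite R (AdjoinRoot P') := Module.Finite.trans T₀ _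
    refine ⟨AdjoinRoot P', inferInstance, inferInstance, inferInstance, inferInstance,
      inferInstance, AdjoinRoot.liftAlgHom P' ψ b hroot, ?_⟩
    intro c hc
    rcases Finset.mem_insert.1 hc with rfl | hc'
    · exact ⟨AdjoinRoot.root P', by simp⟩
    · obtain ⟨t, ht⟩ := hψ c hc'
      exact ⟨AdjoinRoot.of P' t, by simpa using ht⟩

/-- A module-finite subalgebra lies in the image of a finite free finitely presented algebra. -/
theorem exists_finite_free_cover (R S : Type u) [CommRing R] [CommRing S] [Algebra R S]
    (S' : Subalgebra R S) [Module.Finite R S'] :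
    ∃ (T₀ : Type u) (_ : CommRing T₀) (_ : Algebra R T₀) (_ : Module.Free R T₀)
      (_ : Module.Finite R T₀) (_ : Algebra.FinitePresentation R T₀) (ψ : T₀ →ₐ[R] S),
      S' ≤ ψ.range := by
  classical
  obtain ⟨G, hG⟩ := (Submodule.fg_top (Subalgebra.toSubmodule S')).1
    (Module.Finite.fg_top (R := R) (M := S'))
  have hint : ∀ b ∈ G, IsIntegral R b := by
    intro b hb
    have hbS : b ∈ S' := by
      have : b ∈ Subalgebra.toSubmodule S' := hG ▸ Submodule.subset_span hb
      exact this
    have : IsIntegral R (⟨b, hbS⟩ : S') := Algebra.IsIntegral.isIntegral _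
    exact this.map S'.val
  obtain ⟨T₀, i1, i2, i3, i4, i5, ψ, hψ⟩ := exists_finite_free_of_integral R S _ hint
  refine ⟨T₀, i1, i2, i3, i4, i5, ψ, ?_⟩
  have h1 : Subalgebra.toSubmodule S' ≤ Subalgebra.toSubmodule ψ.range := by
    rw [← hG, Submodule.span_le]
    intro b hb
    exact hψ b hb
  exact h1

end Groth.Agent.Helper15.Ufo
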