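import Mathlib

/-!
# Finite generation of the kernel after inverting an element
-/

set_option autoImplicit false
universe u
open scoped TensorProduct
open Polynomial

namespace Groth.Agent.Helper15.Ufo

/-- If `ψ : T₀ → S` is a map of finitely presented `R`-algebras which is surjective after inverting
`r`, then the kernel of `ψ` is finitely generated up to powers of `r`. -/
theorem exists_finset_ker (R : Type u) {T₀ S : Type u} [CommRing R] [CommRing T₀] [CommRing S]
    [Algebra R T₀] [Algebra R S] [Algebra.FinitePresentation R T₀] [Algebra.FinitePresentation R S]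
    (ψ : T₀ →ₐ[R] S) (r : T₀) (hsurj : ∀ s : S, ∃ (t : T₀) (m : ℕ), ψ t = ψ r ^ m * s) :
    ∃ G : Finset T₀, (∀ g ∈ G, ψ g = 0) ∧
      ∀ a : T₀, ψ a = 0 → ∃ n : ℕ, r ^ n * a ∈ Ideal.span (G : Set T₀) := by
  classical
  let A := Localization.Away r
  let B := Localization.Away (ψ r)
  let ψr : A →ₐ[R] B := Localization.awayMapₐ ψ r
  have hψr_surj : Function.Surjective ψr := by
    have : Function.Surjective (Localization.awayMap (ψ : T₀ →+* S) r) :=
      Localization.awayMap_surjective_iff.2 hsurj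
    exact this
  haveI : Algebra.FinitePresentation T₀ A := IsLocalization.Away.finitePresentation r
  haveI : Algebra.FinitePresentation R A := Algebra.FinitePresentation.trans R T₀ A
  haveI : Algebra.FinitePresentation S B := IsLocalization.Away.finitePresentation (ψ r)
  haveI : Algebra.FinitePresentation R B := Algebra.FinitePresentation.trans R S B
  obtain ⟨G₀, hG₀⟩ := Algebra.FinitePresentation.ker_fG_of_surjective ψr hψr_surj
  -- each generator comes from an element of the kernel of `ψ`, up to a unit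
  have hψr_mk : ∀ (a : T₀), ψr (algebraMap T₀ A a) = algebraMap S B (ψ a) := by
    intro a
    simp [ψr, IsLocalization.Away.mapₐ, IsLocalization.Away.map, IsLocalization.map_eq]
    rfl
  have hgen : ∀ g ∈ G₀, ∃ a : T₀, ψ a = 0 ∧ ∃ u : A, IsUnit u ∧ g = u * algebraMap T₀ A a := by
    intro g hg
    have hgker : ψr g = 0 := by
      have : g ∈ RingHom.ker ψr.toRingHom := hG₀ ▸ Ideal.subset_span hg
      exact this
    obtain ⟨a, ⟨_, n, rfl⟩, rfl⟩ := IsLocalization.exists_mk'_eq (Submonoid.powers r) g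
    have hu : IsUnit (algebraMap T₀ A (r ^ n)) :=
      IsLocalization.map_units A (⟨r ^ n, n, rfl⟩ : Submonoid.powers r)
    have h1 : algebraMap T₀ A a = algebraMap T₀ A (r ^ n) *
        IsLocalization.mk' A a (⟨r ^ n, n, rfl⟩ : Submonoid.powers r) := by
      rw [mul_comm]
      exact (IsLocalization.mk'_spec A a (⟨r ^ n, n, rfl⟩ : Submonoid.powers r)).symm
    have h2 : algebraMap S B (ψ a) = 0 := by
      rw [← hψr_mk, h1, map_mul, hgker, mul_zero]
    obtain ⟨⟨_, k, rfl⟩, hk⟩ := (IsLocalization.map_eq_zero_iff (Submonoid.powers (ψ r)) B _).1 h2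
    refine ⟨r ^ k * a, by rw [map_mul, map_pow]; exact hk, ?_⟩
    have hu' : IsUnit (algebraMap T₀ A (r ^ k)) :=
      IsLocalization.map_units A (⟨r ^ k, k, rfl⟩ : Submonoid.powers r)
    refine ⟨(hu.unit⁻¹ : Aˣ) * (hu'.unit⁻¹ : Aˣ), ((hu.unit⁻¹ * hu'.unit⁻¹ : Aˣ)).isUnit, ?_⟩
    rw [map_mul, h1]
    have e1 : (hu.unit⁻¹ : Aˣ) * algebraMap T₀ A (r ^ n) = 1 := by
      have := hu.unit.inv_mul
      simpa using this
    have e2 : (hu'.unit⁻¹ : Aˣ) * algebraMap T₀ A (r ^ k) = 1 := by
      have := hu'.unit.inv_mul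
      simpa using this
    calc IsLocalization.mk' A a (⟨r ^ n, n, rfl⟩ : Submonoid.powers r)
        = ((hu.unit⁻¹ : Aˣ) * algebraMap T₀ A (r ^ n)) *
          (((hu'.unit⁻¹ : Aˣ) : A) * algebraMap T₀ A (r ^ k)) *
          IsLocalization.mk' A a (⟨r ^ n, n, rfl⟩ : Submonoid.powers r) := by
          rw [e1, e2, one_mul, one_mul]
      _ = _ := by ring
  choose! a ha u hu hgu using hgen
  refine ⟨G₀.image a, ?_, ?_⟩
  · intro g hg
    obtain ⟨g₀, hg₀, rfl⟩ := Finset.mem_image.1 hg
    exact ha g₀ hg₀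
  · intro x hx
    have hxker : algebraMap T₀ A x ∈ Ideal.span (G₀ : Set A) := by
      rw [hG₀]
      change ψr (algebraMap T₀ A x) = 0
      rw [hψr_mk, hx, map_zero]
    have hle : Ideal.span (G₀ : Set A) ≤
        Ideal.map (algebraMap T₀ A) (Ideal.span ((G₀.image a : Finset T₀) : Set T₀)) := by
      rw [Ideal.span_le]
      intro g hg
      rw [hgu g hg]
      apply Ideal.mul_mem_left
      apply Ideal.mem_map_of_mem
      apply Ideal.subset_span
      exact Finset.mem_coe.2 (Finset.mem_image_of_mem a hg)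
    obtain ⟨⟨i, ⟨_, n, rfl⟩⟩, hi⟩ :=
      (IsLocalization.mem_map_algebraMap_iff (Submonoid.powers r) A).1 (hle hxker)
    rw [← map_mul] at hi
    obtain ⟨⟨_, m, rfl⟩, hm⟩ := (IsLocalization.eq_iff_exists (Submonoid.powers r) A).1 hi
    refine ⟨m + n, ?_⟩
    have : r ^ (m + n) * x = r ^ m * (i : T₀) := by
      rw [pow_add, mul_assoc, mul_comm (r ^ n) x]
      exact hm
    rw [this]
    exact Ideal.mul_mem_left _ _ i.2

end Groth.Agent.Helper15.Ufo
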