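import Groth.Agent.Lib.Helper15.Ufo1
import Groth.Agent.Lib.Helper15.Ufo2
import Groth.Agent.Lib.Helper15.Ufo3

/-!
# Zariski's main theorem with a finite, finitely presented model
-/

set_option autoImplicit false
universe u
open scoped TensorProduct
open Polynomial

namespace Groth.Agent.Helper15.Ufo

theorem exists_zmt_data (R S : Type u) [CommRing R] [CommRing S] [Algebra R S]
    [Algebra.FinitePresentation R S] [Algebra.QuasiFinite R S] :
    ∃ (T₀ : Type u) (_ : CommRing T₀) (_ : Algebra R T₀) (_ : Module.Free R T₀)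
      (_ : Module.Finite R T₀) (_ : Algebra.FinitePresentation R T₀) (ψ : T₀ →ₐ[R] S)
      (rs G : Finset T₀),
      (∀ g ∈ G, ψ g = 0) ∧ Ideal.span (ψ '' (rs : Set T₀)) = ⊤ ∧
      (∀ r ∈ rs, ∀ s : S, ∃ (t : T₀) (m : ℕ), ψ t = ψ r ^ m * s) ∧
      (∀ r ∈ rs, ∀ a : T₀, ψ a = 0 → ∃ n : ℕ, r ^ n * a ∈ Ideal.span (G : Set T₀)) := by
  classical
  obtain ⟨S', rs₀, hfin, hmem, hspan, hsurj⟩ := exists_finite_subalgebra_cover R S
  obtain ⟨T₀, i1, i2, i3, i4, i5, ψ, hψ⟩ := exists_finite_free_cover R S S'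
  have hlift : ∀ s : S, s ∈ S' → ∃ t : T₀, ψ t = s := fun s hs => hψ hs
  let lift : S → T₀ := fun s => if hs : s ∈ S' then (hlift s hs).choose else 0
  have hlift' : ∀ s ∈ S', ψ (lift s) = s := fun s hs => by
    simp only [lift, dif_pos hs]
    exact (hlift s hs).choose_spec
  let rs : Finset T₀ := rs₀.image lift
  have hsurj' : ∀ r ∈ rs, ∀ s : S, ∃ (t : T₀) (m : ℕ), ψ t = ψ r ^ m * s := by
    intro r hr s
    obtain ⟨r₀, hr₀, rfl⟩ := Finset.mem_image.1 hr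
    obtain ⟨m, hm⟩ := hsurj r₀ hr₀ s
    obtain ⟨t, ht⟩ := hlift _ hm
    exact ⟨t, m, by rw [ht, hlift' r₀ (hmem r₀ hr₀)]⟩
  have hker : ∀ r ∈ rs, ∃ G : Finset T₀, (∀ g ∈ G, ψ g = 0) ∧
      ∀ a : T₀, ψ a = 0 → ∃ n : ℕ, r ^ n * a ∈ Ideal.span (G : Set T₀) :=
    fun r hr => exists_finset_ker R ψ r (hsurj' r hr)
  choose! Gs hGs1 hGs2 using hker
  refine ⟨T₀, i1, i2, i3, i4, i5, ψ, rs, rs.biUnion Gs, ?_, ?_, hsurj', ?_⟩
  · intro g hg
    obtain ⟨r, hr, hgr⟩ := Finset.mem_biUnion.1 hg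
    exact hGs1 r hr g hgr
  · have : ψ '' (rs : Set T₀) = (rs₀ : Set S) := by
      ext s
      simp only [Set.mem_image, Finset.mem_coe, rs, Finset.mem_image]
      constructor
      · rintro ⟨t, ⟨r₀, hr₀, rfl⟩, rfl⟩
        rw [hlift' r₀ (hmem r₀ hr₀)]
        exact hr₀
      · intro hs
        exact ⟨lift s, ⟨s, hs, rfl⟩, hlift' s (hmem s hs)⟩
    rw [this, hspan]
  · intro r hr a ha
    obtain ⟨n, hn⟩ := hGs2 r hr a ha
    refine ⟨n, Ideal.span_mono ?_ hn⟩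
    intro g hg
    exact Finset.mem_coe.2 (Finset.mem_biUnion.2 ⟨r, hr, hg⟩)

end Groth.Agent.Helper15.Ufo
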