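import Mathlib

/-!
# A ring map which is an isomorphism after inverting elements covering the source is an open
immersion on spectra
-/

set_option autoImplicit false
universe u
open CategoryTheory AlgebraicGeometry

namespace Groth.Agent.Helper15.Ufo

theorem isOpenImmersion_SpecMap_of_cover {T S : Type u} [CommRing T] [CommRing S] (φ : T →+* S)
    (ts : Finset T) (hspan : Ideal.span (φ '' (ts : Set T)) = ⊤)
    (hbij : ∀ t ∈ ts, Function.Bijective (Localization.awayMap φ t)) :
    IsOpenImmersion (Spec.map (CommRingCat.ofHom φ)) ∧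
      Set.range (Spec.map (CommRingCat.ofHom φ)) =
        ⋃ t ∈ ts, (PrimeSpectrum.basicOpen t : Set (PrimeSpectrum T)) := by
  -- the local pieces
  let i : ∀ t : T, Spec (CommRingCat.of (Localization.Away (φ t))) ⟶ Spec (CommRingCat.of S) :=
    fun t => Spec.map (CommRingCat.ofHom (algebraMap S (Localization.Away (φ t))))
  haveI hi : ∀ t, IsOpenImmersion (i t) := fun t => IsOpenImmersion.of_isLocalization (φ t)
  let k : ∀ t : T, Spec (CommRingCat.of (Localization.Away t)) ⟶ Spec (CommRingCat.of T) :=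
    fun t => Spec.map (CommRingCat.ofHom (algebraMap T (Localization.Away t)))
  haveI hk : ∀ t, IsOpenImmersion (k t) := fun t => IsOpenImmersion.of_isLocalization t
  have hrange_i : ∀ t, Set.range (i t) = (PrimeSpectrum.basicOpen (φ t) : Set (PrimeSpectrum S)) :=
    fun t => PrimeSpectrum.localization_away_comap_range _ (φ t)
  have hrange_k : ∀ t, Set.range (k t) = (PrimeSpectrum.basicOpen t : Set (PrimeSpectrum T)) :=
    fun t => PrimeSpectrum.localization_away_comap_range _ t
  have hcomp : ∀ t, i t ≫ Spec.map (CommRingCat.ofHom φ) =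
      Spec.map (CommRingCat.ofHom (Localization.awayMap φ t)) ≫ k t := by
    intro t
    simp only [i, k, ← Spec.map_comp, ← CommRingCat.ofHom_comp]
    congr 2
    ext x
    simp [Localization.awayMap, IsLocalization.Away.map]
  haveI hiso : ∀ t ∈ ts, IsIso (Spec.map (CommRingCat.ofHom (Localization.awayMap φ t))) := by
    intro t ht
    haveI : IsIso (CommRingCat.ofHom (Localization.awayMap φ t)) :=
      (ConcreteCategory.isIso_iff_bijective _).2 (hbij t ht)
    infer_instance
  have hopen : ∀ t ∈ ts, IsOpenImmersion (i t ≫ Spec.map (CommRingCat.ofHom φ)) := by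
    intro t ht
    rw [hcomp]
    haveI := hiso t ht
    infer_instance
  have hcover : ∀ x : PrimeSpectrum S, ∃ t ∈ ts, φ t ∉ x.asIdeal := by
    intro x
    by_contra hne
    push_neg at hne
    have : Ideal.span (φ '' (ts : Set T)) ≤ x.asIdeal := by
      rw [Ideal.span_le]
      rintro _ ⟨t, ht, rfl⟩
      exact hne t ht
    rw [hspan] at this
    exact x.2.ne_top (top_le_iff.1 this)
  have hinj : Function.Injective (Spec.map (CommRingCat.ofHom φ)) := by
    intro x x' hxx'
    obtain ⟨t, ht, hx⟩ := hcover x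
    have hx1 : x ∈ PrimeSpectrum.basicOpen (φ t) := hx
    have hx'1 : x' ∈ PrimeSpectrum.basicOpen (φ t) := by
      have h3 : (Spec.map (CommRingCat.ofHom φ)) x ∈ PrimeSpectrum.basicOpen t := hx1
      rw [hxx'] at h3
      exact h3
    have h1 : x ∈ Set.range (i t) := by rw [hrange_i]; exact hx1
    have h2 : x' ∈ Set.range (i t) := by rw [hrange_i]; exact hx'1
    obtain ⟨z, rfl⟩ := h1
    obtain ⟨z', rfl⟩ := h2
    haveI := hopen t ht
    have : (i t ≫ Spec.map (CommRingCat.ofHom φ)) z = (i t ≫ Spec.map (CommRingCat.ofHom φ)) z' := by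
      simpa using hxx'
    rw [(i t ≫ Spec.map (CommRingCat.ofHom φ)).isOpenEmbedding.injective this]
  constructor
  · refine IsOpenImmersion.of_forall_source_exists _ hinj (fun x => ?_)
    obtain ⟨t, ht, hx⟩ := hcover x
    refine ⟨_, i t, hi t, ?_, hopen t ht⟩
    change x ∈ Set.range (i t)
    rw [hrange_i]
    exact hx
  · refine Set.ext (fun y => ?_)
    have hU : ∀ y' : PrimeSpectrum T, (y' ∈ ⋃ t ∈ ts,
        (PrimeSpectrum.basicOpen t : Set (PrimeSpectrum T))) ↔
        ∃ t ∈ ts, y' ∈ PrimeSpectrum.basicOpen t := fun y' => by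
      rw [Set.mem_iUnion₂]
      exact ⟨fun ⟨t, ht, h⟩ => ⟨t, ht, h⟩, fun ⟨t, ht, h⟩ => ⟨t, ht, h⟩⟩
    refine Iff.trans ?_ (hU y).symm
    constructor
    · rintro ⟨x, rfl⟩
      obtain ⟨t, ht, hx⟩ := hcover x
      exact ⟨t, ht, hx⟩
    · rintro ⟨t, ht, hy⟩
      have h1 : y ∈ Set.range (k t) := by rw [hrange_k]; exact hy
      obtain ⟨z, rfl⟩ := h1
      haveI := hiso t ht
      refine ⟨i t (inv (Spec.map (CommRingCat.ofHom (Localization.awayMap φ t))) z), ?_⟩
      rw [← Scheme.Hom.comp_apply, hcomp, ← Scheme.Hom.comp_apply, ← Category.assoc,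
        IsIso.inv_hom_id, Category.id_comp]

end Groth.Agent.Helper15.Ufo
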