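import Groth.Agent.Lib.Helper15.Ufo4
import Groth.Agent.Lib.Helper15.Ufo5

/-!
# The finite finitely presented model and the open immersion into its spectrum
-/

set_option autoImplicit false
universe u
open CategoryTheory AlgebraicGeometry
open scoped TensorProduct

namespace Groth.Agent.Helper15.Ufo

variable {R S T₀ : Type u} [CommRing R] [CommRing S] [CommRing T₀] [Algebra R S] [Algebra R T₀]

/-- The finitely presented quotient. -/
abbrev Tq (G : Finset T₀) : Type u := T₀ ⧸ Ideal.span (G : Set T₀)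

/-- The quotient map. -/
noncomputable def ρq (R : Type u) [CommRing R] [Algebra R T₀] (G : Finset T₀) : T₀ →ₐ[R] Tq G :=
  Ideal.Quotient.mkₐ R _

theorem ρq_surjective (G : Finset T₀) : Function.Surjective (ρq R G) :=
  Ideal.Quotient.mkₐ_surjective R _

theorem ρq_eq_zero_iff (G : Finset T₀) (a : T₀) :
    ρq R G a = 0 ↔ a ∈ Ideal.span (G : Set T₀) :=
  Ideal.Quotient.eq_zero_iff_mem

/-- The induced map from the quotient. -/
noncomputable def φq (ψ : T₀ →ₐ[R] S) (G : Finset T₀) (hG : ∀ g ∈ G, ψ g = 0) : Tq G →ₐ[R] S :=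
  Ideal.Quotient.liftₐ _ ψ (fun a ha => by
    have h1 : Ideal.span (G : Set T₀) ≤ RingHom.ker (ψ : T₀ →+* S) := by
      rw [Ideal.span_le]
      intro g hg
      exact hG g hg
    exact h1 ha)

@[simp]
theorem φq_ρq (ψ : T₀ →ₐ[R] S) (G : Finset T₀) (hG : ∀ g ∈ G, ψ g = 0) (t : T₀) :
    φq ψ G hG (ρq R G t) = ψ t := rfl

theorem isOpenImmersion_φq (ψ : T₀ →ₐ[R] S) (rs G : Finset T₀) (hG : ∀ g ∈ G, ψ g = 0)
    (hspan : Ideal.span (ψ '' (rs : Set T₀)) = ⊤)
    (hsurj : ∀ r ∈ rs, ∀ s : S, ∃ (t : T₀) (m : ℕ), ψ t = ψ r ^ m * s)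
    (hinj : ∀ r ∈ rs, ∀ a : T₀, ψ a = 0 → ∃ n : ℕ, r ^ n * a ∈ Ideal.span (G : Set T₀)) :
    IsOpenImmersion (Spec.map (CommRingCat.ofHom (φq ψ G hG : Tq G →+* S))) ∧
      Set.range (Spec.map (CommRingCat.ofHom (φq ψ G hG : Tq G →+* S))) =
        ⋃ r ∈ rs, (PrimeSpectrum.basicOpen (ρq R G r) : Set (PrimeSpectrum (Tq G))) := by
  classical
  have h := isOpenImmersion_SpecMap_of_cover (φq ψ G hG : Tq G →+* S) (rs.image (ρq R G)) ?_ ?_
  · refine ⟨h.1, h.2.trans ?_⟩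
    ext y
    simp only [Set.mem_iUnion, Finset.mem_image, exists_prop]
    constructor
    · rintro ⟨_, ⟨r, hr, rfl⟩, hy⟩
      exact ⟨r, hr, hy⟩
    · rintro ⟨r, hr, hy⟩
      exact ⟨_, ⟨r, hr, rfl⟩, hy⟩
  · have : (φq ψ G hG : Tq G →+* S) '' ((rs.image (ρq R G) : Finset (Tq G)) : Set (Tq G)) =
        ψ '' (rs : Set T₀) := by
      ext s
      simp only [Finset.coe_image, Set.mem_image, Finset.mem_coe]
      constructor
      · rintro ⟨_, ⟨r, hr, rfl⟩, rfl⟩
        exact ⟨r, hr, rfl⟩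
      · rintro ⟨r, hr, rfl⟩
        exact ⟨_, ⟨r, hr, rfl⟩, rfl⟩
    rw [this, hspan]
  · intro t ht
    obtain ⟨r, hr, rfl⟩ := Finset.mem_image.1 ht
    constructor
    · rw [Localization.awayMap_injective_iff]
      intro a ha
      obtain ⟨a₀, rfl⟩ := ρq_surjective (R := R) G a
      obtain ⟨n, hn⟩ := hinj r hr a₀ ha
      refine ⟨n, ?_⟩
      rw [← map_pow, ← map_mul]
      exact (ρq_eq_zero_iff G _).2 hn
    · rw [Localization.awayMap_surjective_iff]
      intro s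
      obtain ⟨t, m, htm⟩ := hsurj r hr s
      exact ⟨ρq R G t, m, htm⟩

end Groth.Agent.Helper15.Ufo
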