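import Mathlib

/-!
# A versal finitely presented algebra for solutions of equations in a finite free algebra
-/

set_option autoImplicit false
universe u
open scoped TensorProduct

namespace Groth.Agent.Helper15.Ufo

section Versal

variable (R : Type u) {T₀ : Type u} [CommRing R] [CommRing T₀] [Algebra R T₀]
variable (rs G : Finset T₀)

/-- The index type of the unknowns: `x`, `λ_g`, `y_r`, `μ_g`. -/
abbrev VarIdx : Type u := PUnit.{u+1} ⊕ {g // g ∈ G} ⊕ {r // r ∈ rs} ⊕ {g // g ∈ G}

variable {rs G}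

/-- The defect of the first equation `x² - x = Σ g λ_g`. -/
noncomputable def err1 (A : Type u) [CommRing A] [Algebra R A] (z : VarIdx rs G → A ⊗[R] T₀) :
    A ⊗[R] T₀ :=
  z (.inl ⟨⟩) * z (.inl ⟨⟩) - z (.inl ⟨⟩) -
    ∑ g : {g // g ∈ G}, ((1 : A) ⊗ₜ[R] (g : T₀)) * z (.inr (.inl g))

/-- The defect of the second equation `x = Σ r y_r + Σ g μ_g`. -/
noncomputable def err2 (A : Type u) [CommRing A] [Algebra R A] (z : VarIdx rs G → A ⊗[R] T₀) :
    A ⊗[R] T₀ :=
  z (.inl ⟨⟩) - ∑ r : {r // r ∈ rs}, ((1 : A) ⊗ₜ[R] (r : T₀)) * z (.inr (.inr (.inl r))) -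
    ∑ g : {g // g ∈ G}, ((1 : A) ⊗ₜ[R] (g : T₀)) * z (.inr (.inr (.inr g)))

theorem map_err1 {A A' : Type u} [CommRing A] [Algebra R A] [CommRing A'] [Algebra R A']
    (γ : A →ₐ[R] A') (z : VarIdx rs G → A ⊗[R] T₀) :
    Algebra.TensorProduct.map γ (AlgHom.id R T₀) (err1 R A z) =
      err1 R A' (fun v => Algebra.TensorProduct.map γ (AlgHom.id R T₀) (z v)) := by
  simp [err1, map_sub, map_mul, map_sum]

theorem map_err2 {A A' : Type u} [CommRing A] [Algebra R A] [CommRing A'] [Algebra R A']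
    (γ : A →ₐ[R] A') (z : VarIdx rs G → A ⊗[R] T₀) :
    Algebra.TensorProduct.map γ (AlgHom.id R T₀) (err2 R A z) =
      err2 R A' (fun v => Algebra.TensorProduct.map γ (AlgHom.id R T₀) (z v)) := by
  simp [err2, map_sub, map_mul, map_sum]

variable [Module.Free R T₀] [Module.Finite R T₀]

/-- Expansion in the base-changed basis. -/
theorem sum_repr_tmul (A : Type u) [CommRing A] [Algebra R A] (z : A ⊗[R] T₀) :
    ∑ l, ((Algebra.TensorProduct.basis A (Module.Free.chooseBasis R T₀)).repr z l) ⊗ₜ[R]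
      (Module.Free.chooseBasis R T₀ l) = z := by
  conv_rhs => rw [← (Algebra.TensorProduct.basis A (Module.Free.chooseBasis R T₀)).sum_repr z]
  refine Finset.sum_congr rfl (fun l _ => ?_)
  rw [Algebra.TensorProduct.basis_repr_symm_apply']

theorem eq_zero_of_sum_tmul (A : Type u) [CommRing A] [Algebra R A]
    (a : Module.Free.ChooseBasisIndex R T₀ → A)
    (h : ∑ l, (a l) ⊗ₜ[R] (Module.Free.chooseBasis R T₀ l) = 0) : ∀ l, a l = 0 := by
  have h1 : ∑ l, a l • (Algebra.TensorProduct.basis A (Module.Free.chooseBasis R T₀)) l = 0 := by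
    rw [← h]
    refine Finset.sum_congr rfl (fun l _ => ?_)
    rw [Algebra.TensorProduct.basis_repr_symm_apply']
  exact Fintype.linearIndependent_iff.1
    (Algebra.TensorProduct.basis A (Module.Free.chooseBasis R T₀)).linearIndependent a h1

variable (rs G) in
/-- **The versal algebra.** -/
theorem exists_versal :
    ∃ (Au : Type u) (_ : CommRing Au) (_ : Algebra R Au) (_ : Algebra.FinitePresentation R Au)
      (zu : VarIdx rs G → Au ⊗[R] T₀), err1 R Au zu = 0 ∧ err2 R Au zu = 0 ∧
      ∀ (A' : Type u) [CommRing A'] [Algebra R A'] (z' : VarIdx rs G → A' ⊗[R] T₀),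
        err1 R A' z' = 0 → err2 R A' z' = 0 →
        ∃ γ : Au →ₐ[R] A', ∀ v, Algebra.TensorProduct.map γ (AlgHom.id R T₀) (zu v) = z' v := by
  classical
  let ι := Module.Free.ChooseBasisIndex R T₀
  let b := Module.Free.chooseBasis R T₀
  let P := MvPolynomial (VarIdx rs G × ι) R
  let zP : VarIdx rs G → P ⊗[R] T₀ := fun v => ∑ l, (MvPolynomial.X (v, l) : P) ⊗ₜ[R] b l
  let B := Algebra.TensorProduct.basis P b
  let gens : Set P := Set.range (fun l => B.repr (err1 R P zP) l) ∪
    Set.range (fun l => B.repr (err2 R P zP) l)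
  have hgens : gens.Finite := (Set.finite_range _).union (Set.finite_range _)
  let I : Ideal P := Ideal.span gens
  have hI : I.FG := ⟨hgens.toFinset, by simp [I]⟩
  let q : P →ₐ[R] P ⧸ I := Ideal.Quotient.mkₐ R I
  haveI : Algebra.FinitePresentation R (P ⧸ I) := Algebra.FinitePresentation.quotient hI
  -- general principle: a map killing the coordinates kills the element
  have hkill : ∀ (A' : Type u) [CommRing A'] [Algebra R A'] (γ : P →ₐ[R] A') (E : P ⊗[R] T₀),
      (∀ l, γ (B.repr E l) = 0) → Algebra.TensorProduct.map γ (AlgHom.id R T₀) E = 0 := by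
    intro A' _ _ γ E hE
    rw [← sum_repr_tmul R P E, map_sum]
    refine Finset.sum_eq_zero (fun l _ => ?_)
    rw [Algebra.TensorProduct.map_tmul, hE l, TensorProduct.zero_tmul]
  have hcoord : ∀ (A' : Type u) [CommRing A'] [Algebra R A'] (γ : P →ₐ[R] A') (E : P ⊗[R] T₀),
      Algebra.TensorProduct.map γ (AlgHom.id R T₀) E = 0 → ∀ l, γ (B.repr E l) = 0 := by
    intro A' _ _ γ E hE
    rw [← sum_repr_tmul R P E, map_sum] at hE
    simp only [Algebra.TensorProduct.map_tmul, AlgHom.coe_id, id_eq] at hE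
    exact eq_zero_of_sum_tmul R A' _ hE
  refine ⟨P ⧸ I, inferInstance, inferInstance, inferInstance,
    fun v => Algebra.TensorProduct.map q (AlgHom.id R T₀) (zP v), ?_, ?_, ?_⟩
  · rw [← map_err1]
    refine hkill _ q _ (fun l => ?_)
    exact Ideal.Quotient.eq_zero_iff_mem.2 (Ideal.subset_span (Or.inl ⟨l, rfl⟩))
  · rw [← map_err2]
    refine hkill _ q _ (fun l => ?_)
    exact Ideal.Quotient.eq_zero_iff_mem.2 (Ideal.subset_span (Or.inr ⟨l, rfl⟩))
  · intro A' _ _ z' h1 h2
    let B' := Algebra.TensorProduct.basis A' b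
    let γ₀ : P →ₐ[R] A' := MvPolynomial.aeval (fun p : VarIdx rs G × ι => B'.repr (z' p.1) p.2)
    have hz : ∀ v, Algebra.TensorProduct.map γ₀ (AlgHom.id R T₀) (zP v) = z' v := by
      intro v
      simp only [zP, map_sum, Algebra.TensorProduct.map_tmul, AlgHom.coe_id, id_eq]
      refine (Finset.sum_congr rfl (fun l _ => ?_)).trans (sum_repr_tmul R A' (z' v))
      have : γ₀ (MvPolynomial.X (v, l)) = B'.repr (z' v) l :=
        MvPolynomial.aeval_X (fun p : VarIdx rs G × ι => B'.repr (z' p.1) p.2) (v, l)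
      rw [this]
    have hγ₀ : ∀ a ∈ I, γ₀ a = 0 := by
      have hle : I ≤ RingHom.ker (γ₀ : P →+* A') := by
        rw [Ideal.span_le]
        rintro _ (⟨l, rfl⟩ | ⟨l, rfl⟩)
        · refine hcoord A' γ₀ _ ?_ l
          rw [map_err1]
          simp only [hz]
          exact h1
        · refine hcoord A' γ₀ _ ?_ l
          rw [map_err2]
          simp only [hz]
          exact h2
      exact fun a ha => hle ha
    refine ⟨Ideal.Quotient.liftₐ I γ₀ hγ₀, fun v => ?_⟩
    rw [← hz v]
    have : (Algebra.TensorProduct.map (Ideal.Quotient.liftₐ I γ₀ hγ₀) (AlgHom.id R T₀)).comp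
        (Algebra.TensorProduct.map q (AlgHom.id R T₀)) =
        Algebra.TensorProduct.map γ₀ (AlgHom.id R T₀) := by
      ext <;> simp [q]
    exact DFunLike.congr_fun this (zP v)

end Versal

end Groth.Agent.Helper15.Ufo
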