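import Groth.Agent.Lib.Helper15.Ufo6
import Groth.Agent.Lib.Helper15.Ufo7

/-!
# The versal idempotent
-/

set_option autoImplicit false
universe u
open scoped TensorProduct

namespace Groth.Agent.Helper15.Ufo

/-- The ideal of `A ⊗ T` generated by the `1 ⊗ t`, `t ∈ ts`. -/
def spanOne (R : Type u) [CommRing R] (A : Type u) [CommRing A] [Algebra R A] {T : Type u}
    [CommRing T] [Algebra R T] (ts : Set T) : Ideal (A ⊗[R] T) :=
  Ideal.span ((fun t => (1 : A) ⊗ₜ[R] t) '' ts)

theorem mem_spanOne_finset_iff (R : Type u) [CommRing R] (A : Type u) [CommRing A] [Algebra R A]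
    {T₀ T : Type u} [CommRing T₀] [CommRing T] [Algebra R T] (ρ : T₀ → T) (rs : Finset T₀)
    (x : A ⊗[R] T) :
    x ∈ spanOne R A (ρ '' (rs : Set T₀)) ↔
      ∃ c : {r // r ∈ rs} → A ⊗[R] T, ∑ r, c r * ((1 : A) ⊗ₜ[R] ρ r) = x := by
  have : (fun t => (1 : A) ⊗ₜ[R] t) '' (ρ '' (rs : Set T₀)) =
      Set.range (fun r : {r // r ∈ rs} => (1 : A) ⊗ₜ[R] ρ r) := by
    ext y
    simp only [Set.mem_image, Finset.mem_coe, exists_exists_and_eq_and, Set.mem_range,
      Subtype.exists, exists_prop]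
  rw [spanOne, this, Ideal.mem_span_range_iff_exists_fun]

variable (R : Type u) {T₀ : Type u} [CommRing R] [CommRing T₀] [Algebra R T₀]

/-- The surjection `A ⊗ T₀ → A ⊗ T₀/(G)`. -/
noncomputable abbrev μq (G : Finset T₀) (A : Type u) [CommRing A] [Algebra R A] :
    A ⊗[R] T₀ →ₐ[R] A ⊗[R] Tq G :=
  Algebra.TensorProduct.map (AlgHom.id R A) (ρq R G)

theorem μq_surjective (G : Finset T₀) (A : Type u) [CommRing A] [Algebra R A] :
    Function.Surjective (μq R G A) :=
  Algebra.TensorProduct.map_surjective (f := AlgHom.id R A) (g := ρq R G)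
    Function.surjective_id (ρq_surjective G)

theorem μq_one_tmul_mem (G : Finset T₀) (A : Type u) [CommRing A] [Algebra R A] (g : T₀)
    (hg : g ∈ G) : μq R G A ((1 : A) ⊗ₜ[R] g) = 0 := by
  have : ρq R G g = 0 := (ρq_eq_zero_iff G g).2 (Ideal.subset_span hg)
  simp [μq, this]

theorem exists_of_μq_eq_zero (G : Finset T₀) (A : Type u) [CommRing A] [Algebra R A]
    (w : A ⊗[R] T₀) (hw : μq R G A w = 0) :
    ∃ c : {g // g ∈ G} → A ⊗[R] T₀, w = ∑ g : {g // g ∈ G}, ((1 : A) ⊗ₜ[R] (g : T₀)) * c g := by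
  have h1 : w ∈ RingHom.ker (Algebra.TensorProduct.map (AlgHom.id R A) (ρq R G)) := hw
  rw [Algebra.TensorProduct.lTensor_ker _ (ρq_surjective G)] at h1
  have h2 : RingHom.ker (ρq R G) = Ideal.span (G : Set T₀) := by
    ext a
    exact ρq_eq_zero_iff G a
  rw [h2, Ideal.map_span] at h1
  have h3 : (Algebra.TensorProduct.includeRight : T₀ →ₐ[R] A ⊗[R] T₀) '' (G : Set T₀) =
      Set.range (fun g : {g // g ∈ G} => (1 : A) ⊗ₜ[R] (g : T₀)) := by
    ext y
    simp only [Set.mem_image, Finset.mem_coe, Algebra.TensorProduct.includeRight_apply,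
      Set.mem_range, Subtype.exists, exists_prop]
  rw [h3, Ideal.mem_span_range_iff_exists_fun] at h1
  obtain ⟨c, hc⟩ := h1
  refine ⟨c, hc.symm.trans (Finset.sum_congr rfl (fun g _ => mul_comm _ _))⟩

variable [Module.Free R T₀] [Module.Finite R T₀]

/-- **The versal idempotent.** -/
theorem exists_versal_idem (rs G : Finset T₀) :
    ∃ (Au : Type u) (_ : CommRing Au) (_ : Algebra R Au) (_ : Algebra.FinitePresentation R Au)
      (eu : Au ⊗[R] Tq G), eu * eu = eu ∧ eu ∈ spanOne R Au (ρq R G '' (rs : Set T₀)) ∧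
      ∀ (A' : Type u) [CommRing A'] [Algebra R A'] (e' : A' ⊗[R] Tq G), e' * e' = e' →
        e' ∈ spanOne R A' (ρq R G '' (rs : Set T₀)) →
        ∃ γ : Au →ₐ[R] A', Algebra.TensorProduct.map γ (AlgHom.id R (Tq G)) eu = e' := by
  classical
  obtain ⟨Au, i1, i2, i3, zu, h1, h2, hv⟩ := exists_versal R rs G
  refine ⟨Au, i1, i2, i3, μq R G Au (zu (.inl ⟨⟩)), ?_, ?_, ?_⟩
  · have h := congrArg (μq R G Au) h1
    rw [err1, map_zero, map_sub, map_sub, map_mul, map_sum] at h
    have h0 : ∑ g : {g // g ∈ G}, μq R G Au (((1 : Au) ⊗ₜ[R] (g : T₀)) * zu (.inr (.inl g))) = 0 := by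
      refine Finset.sum_eq_zero (fun g _ => ?_)
      rw [map_mul, μq_one_tmul_mem R G Au g g.2, zero_mul]
    rw [h0, sub_zero, sub_eq_zero] at h
    exact h
  · have h := congrArg (μq R G Au) h2
    rw [err2, map_zero, map_sub, map_sub, map_sum, map_sum] at h
    have h0 : ∑ g : {g // g ∈ G},
        μq R G Au (((1 : Au) ⊗ₜ[R] (g : T₀)) * zu (.inr (.inr (.inr g)))) = 0 := by
      refine Finset.sum_eq_zero (fun g _ => ?_)
      rw [map_mul, μq_one_tmul_mem R G Au g g.2, zero_mul]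
    rw [h0, sub_zero, sub_eq_zero] at h
    rw [h, mem_spanOne_finset_iff]
    refine ⟨fun r => μq R G Au (zu (.inr (.inr (.inl r)))), Finset.sum_congr rfl (fun r _ => ?_)⟩
    rw [map_mul, mul_comm]
    congr 1
  · intro A' _ _ e' he' hmem
    obtain ⟨x', hx'⟩ := μq_surjective R G A' e'
    obtain ⟨c, hc⟩ := (mem_spanOne_finset_iff R A' (ρq R G) rs e').1 hmem
    choose y hy using fun r => μq_surjective R G A' (c r)
    have hw1 : μq R G A' (x' * x' - x') = 0 := by
      rw [map_sub, map_mul, hx', he', sub_self]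
    obtain ⟨l, hl⟩ := exists_of_μq_eq_zero R G A' _ hw1
    have hw2 : μq R G A' (x' - ∑ r : {r // r ∈ rs}, ((1 : A') ⊗ₜ[R] (r : T₀)) * y r) = 0 := by
      rw [map_sub, hx', map_sum, sub_eq_zero, ← hc]
      refine Finset.sum_congr rfl (fun r _ => ?_)
      rw [map_mul, hy, mul_comm]
      congr 1
    obtain ⟨m, hm⟩ := exists_of_μq_eq_zero R G A' _ hw2
    let z' : VarIdx rs G → A' ⊗[R] T₀ :=
      Sum.elim (fun _ => x') (Sum.elim l (Sum.elim y m))
    have e1 : err1 R A' z' = 0 := by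
      simp only [err1, z', Sum.elim_inl, Sum.elim_inr]
      rw [hl, sub_self]
    have e2 : err2 R A' z' = 0 := by
      simp only [err2, z', Sum.elim_inl, Sum.elim_inr]
      rw [hm, sub_self]
    obtain ⟨γ, hγ⟩ := hv A' z' e1 e2
    refine ⟨γ, ?_⟩
    have hcomm : (Algebra.TensorProduct.map γ (AlgHom.id R (Tq G))).comp (μq R G Au) =
        (μq R G A').comp (Algebra.TensorProduct.map γ (AlgHom.id R T₀)) := by
      ext <;> simp [μq]
    have := DFunLike.congr_fun hcomm (zu (.inl ⟨⟩))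
    simp only [AlgHom.comp_apply] at this
    rw [this, hγ]
    exact hx'

end Groth.Agent.Helper15.Ufo
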