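import Mathlib
import Groth.Agent.Lib.Helper15.AlgSpField
import Groth.Agent.Lib.Helper15.AlgSpGeomPt
import Groth.Agent.Lib.Helper15.AlgSpTop
import Groth.Agent.Lib.Helper15.AlgSpFibre
import Groth.Agent.Lib.Helper15.UnivInj2

set_option autoImplicit false
set_option linter.unusedSectionVars false
set_option linter.unusedVariables false
set_option linter.style.haveILetI false
universe u

open CategoryTheory CategoryTheory.Limits AlgebraicGeometry MorphismProperty Opposite
open AlgSp

namespace Groth.Agent.Helper15.UnivInj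

variable {S : Scheme.{u}}

/-- Lifting a geometric point along an étale surjective chart. -/
theorem exists_lift_of_isAlgClosed {X : Sp S} {W : Over S} (b : (yon S).obj W ⟶ X)
    (hbe : RepWith @Etale b) (hbs : RepWith @Surjective b) {K : Type u} [Field K] [IsAlgClosed K]
    {str : Spec (CommRingCat.of K) ⟶ S} (ξ : (yon S).obj (Over.mk str) ⟶ X) :
    ∃ l : Over.mk str ⟶ W, (yon S).map l ≫ b = ξ := by
  let p : FieldPt X := ⟨K, str, yonEquiv ξ⟩
  have hp : p.IsGeometric := ‹IsAlgClosed K›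
  obtain ⟨w, hw⟩ := surjective_ofPt b hbs (Points.mk p)
  obtain ⟨l, hl1, -⟩ := exists_lift_geometric_point_of_repWith_etale b hbe p hp w hw
  refine ⟨l, ?_⟩
  rw [hl1]
  change (J S).uliftYonedaEquiv.symm (yonEquiv ξ) = ξ
  exact Equiv.symm_apply_apply _ _

theorem eq_of_comp_eq_of_isAlgClosed {X Y : Sp S} (hX : IsAlgSpace X) (hY : IsAlgSpace Y)
    (f : X ⟶ Y) (hft : LocP @LocallyOfFiniteType f)
    (hinj : ∀ (V : Over S) (g : (yon S).obj V ⟶ Y), IsEtaleMor g →
      ∀ (P : Sp S) (fst : P ⟶ X) (snd : P ⟶ (yon S).obj V), IsPullback fst snd f g →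
        Function.Injective (Points.map snd))
    {K : Type u} [Field K] [IsAlgClosed K] {str : Spec (CommRingCat.of K) ⟶ S}
    (a b : (yon S).obj (Over.mk str) ⟶ X) (hab : a ≫ f = b ≫ f) : a = b := by
  obtain ⟨V₀, pY, hpYe, hpYs⟩ := hY.atlas
  obtain ⟨l, hl⟩ := exists_lift_of_isAlgClosed pY hpYe hpYs (a ≫ f)
  let XV := pullback f pY
  let fstV : XV ⟶ X := pullback.fst f pY
  let sndV : XV ⟶ (yon S).obj V₀ := pullback.snd f pY
  have sqV : IsPullback fstV sndV f pY := IsPullback.of_hasPullback f pY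
  have hXV : IsAlgSpace XV := isAlgSpace_of_isPullback hY.diag hX (IsAlgSpace.yon_obj V₀) sqV
  have hfstV : RepWith @Etale fstV := (RepWith @Etale).of_isPullback sqV.flip hpYe
  obtain ⟨U₀, π, hπe, hπs⟩ := hXV.atlas
  let h₀ : U₀ ⟶ V₀ := (yon S).preimage (π ≫ sndV)
  have hh₀ : (yon S).map h₀ = π ≫ sndV := (yon S).map_preimage _
  have hπX : RepWith @Etale (π ≫ fstV) := (RepWith @Etale).comp_mem _ _ hπe hfstV
  have hcomm : (π ≫ fstV) ≫ f = (yon S).map h₀ ≫ pY := by
    rw [Category.assoc, sqV.w, ← Category.assoc, hh₀]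
  haveI hlft : LocallyOfFiniteType h₀.left := hft (π ≫ fstV) pY h₀ hπX hpYe hcomm
  let aV : (yon S).obj (Over.mk str) ⟶ XV := sqV.lift a ((yon S).map l) (by rw [hl])
  let bV : (yon S).obj (Over.mk str) ⟶ XV := sqV.lift b ((yon S).map l) (by rw [hl, hab])
  have haV1 : aV ≫ fstV = a := sqV.lift_fst _ _ _
  have haV2 : aV ≫ sndV = (yon S).map l := sqV.lift_snd _ _ _
  have hbV1 : bV ≫ fstV = b := sqV.lift_fst _ _ _
  have hbV2 : bV ≫ sndV = (yon S).map l := sqV.lift_snd _ _ _
  obtain ⟨la, hla⟩ := exists_lift_of_isAlgClosed π hπe hπs aV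
  obtain ⟨lb, hlb⟩ := exists_lift_of_isAlgClosed π hπe hπs bV
  have hlab : la ≫ h₀ = lb ≫ h₀ := by
    apply (yon S).map_injective
    rw [Functor.map_comp, Functor.map_comp, hh₀, ← Category.assoc, ← Category.assoc, hla, hlb,
      haV2, hbV2]
  let Rel : ∀ (T : Scheme.{u}), (T ⟶ U₀.left) → (T ⟶ U₀.left) → Prop := fun T c₁ c₂ =>
    ∃ (strT : T ⟶ S) (w₁ : c₁ ≫ U₀.hom = strT) (w₂ : c₂ ≫ U₀.hom = strT),
      (yon S).map (Over.homMk c₁ w₁ : Over.mk strT ⟶ U₀) ≫ π ≫ fstV =
        (yon S).map (Over.homMk c₂ w₂ : Over.mk strT ⟶ U₀) ≫ π ≫ fstV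
  have key : Rel (Spec (.of K)) la.left lb.left := by
    refine rel_of_connected h₀.left Rel ?_ ?_ K la.left lb.left
      (by rw [← Over.comp_left, hlab, Over.comp_left])
    · -- hRel
      rintro T T' e c₁ c₂ ⟨strT, w₁, w₂, H⟩
      have w₁' : (e ≫ c₁) ≫ U₀.hom = e ≫ strT := by rw [Category.assoc, w₁]
      have w₂' : (e ≫ c₂) ≫ U₀.hom = e ≫ strT := by rw [Category.assoc, w₂]
      refine ⟨e ≫ strT, w₁', w₂', ?_⟩
      have e1 : (Over.homMk (e ≫ c₁) w₁' : Over.mk (e ≫ strT) ⟶ U₀) =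
          (Over.homMk e rfl : Over.mk (e ≫ strT) ⟶ Over.mk strT) ≫ Over.homMk c₁ w₁ := by
        apply Over.OverMorphism.ext; rfl
      have e2 : (Over.homMk (e ≫ c₂) w₂' : Over.mk (e ≫ strT) ⟶ U₀) =
          (Over.homMk e rfl : Over.mk (e ≫ strT) ⟶ Over.mk strT) ≫ Over.homMk c₂ w₂ := by
        apply Over.OverMorphism.ext; rfl
      rw [e1, e2, Functor.map_comp, Functor.map_comp, Category.assoc, Category.assoc, H]
    · -- hC
      intro V' g _ U' p q sq u₁ u₂ hq
      let V'o : Over S := Over.mk (g ≫ V₀.hom)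
      let go : V'o ⟶ V₀ := Over.homMk g rfl
      let U'o : Over S := Over.mk (p ≫ U₀.hom)
      let po : U'o ⟶ U₀ := Over.homMk p rfl
      have hqw : q ≫ g ≫ V₀.hom = p ≫ U₀.hom := by
        rw [← Category.assoc, ← sq.w, Category.assoc, Over.w h₀]
      let qo : U'o ⟶ V'o := Over.homMk q hqw
      have hcommo : po ≫ h₀ = qo ≫ go := by
        apply Over.OverMorphism.ext; exact sq.w
      have sqo : IsPullback po qo h₀ go := IsPullback.of_map (Over.forget S) hcommo sq
      have sqy : IsPullback ((yon S).map po) ((yon S).map qo) ((yon S).map h₀) ((yon S).map go) :=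
        sqo.map (yon S)
      let X' := pullback sndV ((yon S).map go)
      let fst' : X' ⟶ XV := pullback.fst _ _
      let snd' : X' ⟶ (yon S).obj V'o := pullback.snd _ _
      have sq' : IsPullback fst' snd' sndV ((yon S).map go) := IsPullback.of_hasPullback _ _
      have sqbig : IsPullback (fst' ≫ fstV) snd' f ((yon S).map go ≫ pY) := sq'.paste_horiz sqV
      have hget : IsEtaleMor ((yon S).map go ≫ pY) := by
        intro W φ hφ
        rw [← Category.assoc]
        have h1 : RepWith @Etale (φ ≫ (yon S).map go) :=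
          (RepWith @Etale).comp_mem _ _ hφ ((repWith_yon_map_iff _ _).2 ‹Etale g›)
        exact (RepWith @Etale).comp_mem _ _ h1 hpYe
      have hinj' := hinj V'o ((yon S).map go ≫ pY) hget X' (fst' ≫ fstV) snd' sqbig
      have hw' : ((yon S).map po ≫ π) ≫ sndV = (yon S).map qo ≫ (yon S).map go := by
        rw [Category.assoc, ← hh₀]; exact sqy.w
      let π' : (yon S).obj U'o ⟶ X' := sq'.lift ((yon S).map po ≫ π) ((yon S).map qo) hw'
      have hπ'1 : π' ≫ fst' = (yon S).map po ≫ π := sq'.lift_fst _ _ _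
      have hπ'2 : π' ≫ snd' = (yon S).map qo := sq'.lift_snd _ _ _
      have sqπ : IsPullback ((yon S).map po) π' π fst' := by
        refine IsPullback.of_bot ?_ hπ'1.symm sq'
        rw [hπ'2, ← hh₀]
        exact sqy
      have hπ'e : RepWith @Etale π' := (RepWith @Etale).of_isPullback sqπ hπe
      have hpts : Points.ofPt π' u₁ = Points.ofPt π' u₂ := by
        apply hinj'
        rw [Points.map_ofPt, Points.map_ofPt, hπ'2, ofPt_yon_map, ofPt_yon_map]
        exact congrArg _ hq
      have sqR := hπ'e.rep.isPullback' π'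
      obtain ⟨r', hr1, hr2⟩ := exists_of_ofPt_eq sqR u₁ u₂ hpts
      let R'o := hπ'e.rep.pullback π'
      let s'o : R'o ⟶ U'o := hπ'e.rep.fst' π'
      let t'o : R'o ⟶ U'o := hπ'e.rep.snd π'
      have hs' : Etale s'o.left := hπ'e.property π' ((yon S).map t'o) s'o sqR.flip
      have ht' : Etale t'o.left := hπ'e.property_snd π'
      have hstq : s'o ≫ qo = t'o ≫ qo := by
        apply (yon S).map_injective
        rw [Functor.map_comp, Functor.map_comp, ← hπ'2, ← Category.assoc, ← Category.assoc, sqR.w]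
      refine ⟨R'o.left, s'o.left, t'o.left, r', hs', ht', ?_, ?_, hr1, hr2⟩
      · exact congrArg (fun m => m.left) hstq
      · have ws : (s'o.left ≫ p) ≫ U₀.hom = R'o.hom := by
          rw [Category.assoc]; exact Over.w s'o
        have wt : (t'o.left ≫ p) ≫ U₀.hom = R'o.hom := by
          rw [Category.assoc]; exact Over.w t'o
        refine ⟨R'o.hom, ws, wt, ?_⟩
        have e1 : (Over.homMk (s'o.left ≫ p) ws : Over.mk R'o.hom ⟶ U₀) = s'o ≫ po := by
          apply Over.OverMorphism.ext; rfl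
        have e2 : (Over.homMk (t'o.left ≫ p) wt : Over.mk R'o.hom ⟶ U₀) = t'o ≫ po := by
          apply Over.OverMorphism.ext; rfl
        rw [e1, e2, Functor.map_comp, Functor.map_comp, Category.assoc, Category.assoc]
        have hw := sqR.w
        calc (yon S).map s'o ≫ (yon S).map po ≫ π ≫ fstV
            = ((yon S).map s'o ≫ π') ≫ fst' ≫ fstV := by
              rw [Category.assoc, ← Category.assoc π', hπ'1, Category.assoc]
          _ = ((yon S).map t'o ≫ π') ≫ fst' ≫ fstV := by rw [hw]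
          _ = (yon S).map t'o ≫ (yon S).map po ≫ π ≫ fstV := by
              rw [Category.assoc, ← Category.assoc π', hπ'1, Category.assoc]
  obtain ⟨strT, w₁, w₂, H⟩ := key
  have hstr : strT = str := by rw [← w₁]; exact Over.w la
  subst hstr
  have e1 : (Over.homMk la.left w₁ : Over.mk strT ⟶ U₀) = la := by
    apply Over.OverMorphism.ext; rfl
  have e2 : (Over.homMk lb.left w₂ : Over.mk strT ⟶ U₀) = lb := by
    apply Over.OverMorphism.ext; rfl
  rw [e1, e2, ← Category.assoc, ← Category.assoc, hla, hlb, haV1, hbV1] at H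
  exact H

theorem injOnFieldPts_of_injective_etale_baseChange {X Y : Sp S} (hX : IsAlgSpace X)
    (hY : IsAlgSpace Y) (f : X ⟶ Y) (hft : LocP @LocallyOfFiniteType f)
    (hinj : ∀ (V : Over S) (g : (yon S).obj V ⟶ Y), IsEtaleMor g →
      ∀ (P : Sp S) (fst : P ⟶ X) (snd : P ⟶ (yon S).obj V), IsPullback fst snd f g →
        Function.Injective (Points.map snd)) :
    InjOnFieldPts f := by
  intro K₀ _ str₀ a₀ b₀ hab₀
  dsimp only at hab₀
  let Ω := AlgebraicClosure K₀
  let ι : Spec (CommRingCat.of Ω) ⟶ Spec (CommRingCat.of K₀) :=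
    Spec.map (CommRingCat.ofHom (algebraMap K₀ Ω))
  let α : Over.mk (ι ≫ str₀) ⟶ Over.mk str₀ := Over.homMk ι rfl
  apply eq_of_yon_map_comp_eq hX.diag α a₀ b₀
  apply eq_of_comp_eq_of_isAlgClosed hX hY f hft hinj
  rw [Category.assoc, Category.assoc, hab₀]

theorem main10601 {X Y : AlgSp.Space S} (f : X ⟶ Y)
    (hft : AlgSp.LocP @LocallyOfFiniteType f.hom)
    (hinj : ∀ (V : AlgSp.Space S) (g : V ⟶ Y), AlgSp.IsEtaleMor g.hom →
      ∀ (P : AlgSp.Sp S) (fst : P ⟶ X.obj) (snd : P ⟶ V.obj), IsPullback fst snd f.hom g.hom →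
        Function.Injective (AlgSp.Points.map snd)) :
    AlgSp.IsUnivInjectiveMor f.hom := by
  apply InjOnFieldPts.isUnivInjectiveMor
  apply injOnFieldPts_of_injective_etale_baseChange X.property Y.property f.hom hft
  intro V g hg P fst snd sq
  exact hinj ⟨(yon S).obj V, IsAlgSpace.yon_obj V⟩ (ObjectProperty.homMk g) hg P fst snd sq

end Groth.Agent.Helper15.UnivInj
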