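import Mathlib

set_option autoImplicit false
universe u
open CategoryTheory CategoryTheory.Limits AlgebraicGeometry TensorProduct

namespace Groth.Agent.Helper15

section
variable (k : Type u) [Field k] {X : Scheme.{u}} (f : X ⟶ Spec (CommRingCat.of k))

/-- For an affine open `U` of `X` unramified over a field `k`, the ring `Γ(X, U)` with its
`k`-algebra structure. -/
lemma affineOpen_unramified_field [FormallyUnramified f] [LocallyOfFiniteType f]
    {U : X.Opens} (hU : IsAffineOpen U) :
    ∃ (_ : Algebra k Γ(X, U)), Spec.map (CommRingCat.ofHom (algebraMap k Γ(X, U))) = hU.fromSpec ≫ f ∧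
      Algebra.FormallyUnramified k Γ(X, U) ∧ Algebra.FiniteType k Γ(X, U) := by
  let ψ : CommRingCat.of k ⟶ Γ(X, U) := Spec.preimage (hU.fromSpec ≫ f)
  have hψ : Spec.map ψ = hU.fromSpec ≫ f := Spec.map_preimage _
  have h1 : FormallyUnramified (Spec.map ψ) := by
    rw [hψ]; exact MorphismProperty.comp_mem _ _ _ inferInstance inferInstance
  have h2 : LocallyOfFiniteType (Spec.map ψ) := by
    rw [hψ]; infer_instance
  rw [HasRingHomProperty.Spec_iff (P := @FormallyUnramified)] at h1
  rw [HasRingHomProperty.Spec_iff (P := @LocallyOfFiniteType)] at h2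
  algebraize [ψ.hom]
  exact ⟨inferInstance, hψ, inferInstance, inferInstance⟩

include k f in
lemma discreteTopology_of_unramified_field [FormallyUnramified f] [LocallyOfFiniteType f] :
    DiscreteTopology X := by
  rw [discreteTopology_iff_isOpen_singleton]
  intro x
  obtain ⟨U, hU, hxU, -⟩ := TopologicalSpace.Opens.isBasis_iff_nbhd.mp X.isBasis_affineOpens
    (TopologicalSpace.Opens.mem_top x)
  obtain ⟨_, _, hFU, hft⟩ := affineOpen_unramified_field k f hU
  have : Module.Finite k Γ(X, U) := Algebra.FormallyUnramified.finite_of_free k _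
  have : IsArtinianRing Γ(X, U) := .of_finite k _
  have : DiscreteTopology (Spec Γ(X, U)) := inferInstanceAs (DiscreteTopology (PrimeSpectrum _))
  have hx : x ∈ Set.range hU.fromSpec := by rw [hU.range_fromSpec]; exact hxU
  obtain ⟨y, rfl⟩ := hx
  have := hU.fromSpec.isOpenEmbedding.isOpenMap {y} (isOpen_discrete _)
  simpa using this


lemma isLocalRing_of_subsingleton_primeSpectrum (A : Type*) [CommRing A] [Nontrivial A]
    [Subsingleton (PrimeSpectrum A)] : IsLocalRing A := by
  obtain ⟨M, hM⟩ := Ideal.exists_maximal A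
  refine IsLocalRing.of_unique_max_ideal ⟨M, hM, fun I hI => ?_⟩
  have := Subsingleton.elim (⟨I, hI.isPrime⟩ : PrimeSpectrum A) ⟨M, hM.isPrime⟩
  exact congrArg PrimeSpectrum.asIdeal this

include k f in
theorem exists_iso_sigma_of_unramified_field [FormallyUnramified f] [LocallyOfFiniteType f] :
    ∃ (ι : Type u) (K : ι → Type u) (_ : ∀ i, Field (K i)) (_ : ∀ i, Algebra k (K i)),
      (∀ i, FiniteDimensional k (K i) ∧ Algebra.IsSeparable k (K i)) ∧
      ∃ e : X ≅ ∐ (fun i => Spec (CommRingCat.of (K i))),
        e.hom ≫ Sigma.desc (fun i => Spec.map (CommRingCat.ofHom (algebraMap k (K i)))) = f := by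
  have := discreteTopology_of_unramified_field k f
  let P : X → X.Opens := fun x => ⟨{x}, isOpen_discrete _⟩
  have hP : ∀ x, IsAffineOpen (P x) := fun x => .of_subsingleton Set.subsingleton_singleton
  let alg : ∀ x, Algebra k Γ(X, P x) := fun x =>
    (Spec.preimage ((hP x).fromSpec ≫ f)).hom.toAlgebra
  have halg : ∀ x, Spec.map (CommRingCat.ofHom (algebraMap k Γ(X, P x))) = (hP x).fromSpec ≫ f :=
    fun x => Spec.map_preimage _
  have hFU : ∀ x, Algebra.FormallyUnramified k Γ(X, P x) := by
    intro x
    have h1 : FormallyUnramified (Spec.map (CommRingCat.ofHom (algebraMap k Γ(X, P x)))) := by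
      rw [halg]; exact MorphismProperty.comp_mem _ _ _ inferInstance inferInstance
    rw [HasRingHomProperty.Spec_iff (P := @FormallyUnramified)] at h1
    exact (RingHom.formallyUnramified_algebraMap (R := k) (S := Γ(X, P x))).mp h1
  have hft : ∀ x, Algebra.FiniteType k Γ(X, P x) := by
    intro x
    have h2 : LocallyOfFiniteType (Spec.map (CommRingCat.ofHom (algebraMap k Γ(X, P x)))) := by
      rw [halg]; infer_instance
    rw [HasRingHomProperty.Spec_iff (P := @LocallyOfFiniteType)] at h2
    exact (RingHom.finiteType_algebraMap (A := k) (B := Γ(X, P x))).mp h2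
  have hfin : ∀ x, Module.Finite k Γ(X, P x) := fun x =>
    Algebra.FormallyUnramified.finite_of_free k _
  have hfield : ∀ x, IsField Γ(X, P x) := by
    intro x
    have : IsArtinianRing Γ(X, P x) := .of_finite k _
    have : IsReduced Γ(X, P x) := Algebra.FormallyUnramified.isReduced_of_field k _
    have hne : Nonempty (Spec Γ(X, P x)) := by
      have hx : x ∈ Set.range (hP x).fromSpec := by rw [(hP x).range_fromSpec]; exact rfl
      exact ⟨hx.choose⟩
    have : Nontrivial Γ(X, P x) := by
      obtain ⟨y⟩ := hne
      exact (PrimeSpectrum.nonempty_iff_nontrivial.mp ⟨y⟩)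
    have : Subsingleton (PrimeSpectrum Γ(X, P x)) := by
      refine ⟨fun a b => (hP x).fromSpec.isOpenEmbedding.injective ?_⟩
      have ha : (hP x).fromSpec a ∈ Set.range (hP x).fromSpec := ⟨a, rfl⟩
      have hb : (hP x).fromSpec b ∈ Set.range (hP x).fromSpec := ⟨b, rfl⟩
      rw [(hP x).range_fromSpec] at ha hb
      exact (ha : _ = x).trans (hb : _ = x).symm
    have := isLocalRing_of_subsingleton_primeSpectrum Γ(X, P x)
    exact IsArtinianRing.isField_of_isReduced_of_isLocalRing _
  refine ⟨X, fun x => Γ(X, P x), fun x => (hfield x).toField, alg, fun x => ⟨hfin x, ?_⟩, ?_⟩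
  · let _ := (hfield x).toField
    exact Algebra.FormallyUnramified.isSeparable k _
  · have hcolim : Nonempty (IsColimit (Cofan.mk X fun x => (hP x).fromSpec)) := by
      refine nonempty_isColimit_cofanMk_of _ ?_ ?_
      · rw [eq_top_iff]
        intro x _
        simp only [TopologicalSpace.Opens.iSup_mk, TopologicalSpace.Opens.mem_mk, Set.mem_iUnion]
        refine ⟨x, ?_⟩
        rw [IsAffineOpen.opensRange_fromSpec]
        rfl
      · intro x y hxy
        simp only [Function.onFun, IsAffineOpen.opensRange_fromSpec]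
        rw [disjoint_iff]
        ext z
        simp only [TopologicalSpace.Opens.coe_inf, Set.mem_inter_iff, SetLike.mem_coe,
          TopologicalSpace.Opens.coe_bot, Set.mem_empty_iff_false, iff_false, not_and]
        intro h1 h2
        exact hxy ((h1 : z = x).symm.trans (h2 : z = y))
    obtain ⟨hc⟩ := hcolim
    refine ⟨hc.coconePointUniqueUpToIso (colimit.isColimit _), ?_⟩
    refine Cofan.IsColimit.hom_ext hc _ _ fun x => ?_
    have := hc.comp_coconePointUniqueUpToIso_hom (colimit.isColimit _) ⟨x⟩
    simp only [Cofan.mk_pt, Cofan.mk_ι_app] at this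
    rw [Cofan.inj, ← Category.assoc]
    erw [this]
    erw [colimit.ι_desc]
    exact halg x


omit f in
theorem unramified_sigmaDesc_field {ι : Type u} (K : ι → Type u) [∀ i, Field (K i)]
    [∀ i, Algebra k (K i)] (h : ∀ i, FiniteDimensional k (K i) ∧ Algebra.IsSeparable k (K i)) :
    FormallyUnramified (Sigma.desc (fun i => Spec.map (CommRingCat.ofHom (algebraMap k (K i))))) ∧
      LocallyOfFiniteType
        (Sigma.desc (fun i => Spec.map (CommRingCat.ofHom (algebraMap k (K i))))) := by
  constructor
  · rw [IsZariskiLocalAtSource.iff_of_openCover (P := @FormallyUnramified)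
      (sigmaOpenCover (fun i => Spec (CommRingCat.of (K i))))]
    intro i
    change FormallyUnramified (Sigma.ι _ i ≫ Sigma.desc _)
    rw [Sigma.ι_desc, HasRingHomProperty.Spec_iff (P := @FormallyUnramified)]
    have := (h i).2
    exact (RingHom.formallyUnramified_algebraMap (R := k) (S := K i)).mpr
      (Algebra.FormallyUnramified.of_isSeparable k (K i))
  · rw [IsZariskiLocalAtSource.iff_of_openCover (P := @LocallyOfFiniteType)
      (sigmaOpenCover (fun i => Spec (CommRingCat.of (K i))))]
    intro i
    change LocallyOfFiniteType (Sigma.ι _ i ≫ Sigma.desc _)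
    rw [Sigma.ι_desc, HasRingHomProperty.Spec_iff (P := @LocallyOfFiniteType)]
    have := (h i).1
    exact (RingHom.finiteType_algebraMap (A := k) (B := K i)).mpr inferInstance

theorem unramified_field_iff :
    (FormallyUnramified f ∧ LocallyOfFiniteType f) ↔
      ∃ (ι : Type u) (K : ι → Type u) (_ : ∀ i, Field (K i)) (_ : ∀ i, Algebra k (K i)),
        (∀ i, FiniteDimensional k (K i) ∧ Algebra.IsSeparable k (K i)) ∧
        ∃ e : X ≅ ∐ (fun i => Spec (CommRingCat.of (K i))),
          e.hom ≫ Sigma.desc (fun i => Spec.map (CommRingCat.ofHom (algebraMap k (K i)))) = f := by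
  constructor
  · rintro ⟨h1, h2⟩
    exact exists_iso_sigma_of_unramified_field k f
  · rintro ⟨ι, K, _, _, h, e, rfl⟩
    obtain ⟨h1, h2⟩ := unramified_sigmaDesc_field k K h
    exact ⟨MorphismProperty.comp_mem _ _ _ inferInstance h1, inferInstance⟩

end

end Groth.Agent.Helper15
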