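import Mathlib
import Groth.Agent.Lib.Helper15.UnramifiedField
import Groth.Agent.Lib.Helper15.UnrLocusBC

set_option autoImplicit false
universe u
open CategoryTheory CategoryTheory.Limits AlgebraicGeometry TensorProduct

namespace Groth.Agent.Helper15

/-- `f` is formally unramified as soon as it is so near every point. -/
lemma formallyUnramified_of_forall_unrNear {X S : Scheme.{u}} (f : X ⟶ S)
    (H : ∀ x : X, UnrNear f x) : FormallyUnramified f := by
  choose U hxU hU using H
  refine IsZariskiLocalAtSource.of_iSup_eq_top (P := @FormallyUnramified) U ?_ hU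
  rw [eq_top_iff]
  intro x _
  exact TopologicalSpace.Opens.mem_iSup.mpr ⟨x, hxU x⟩

/-- fibrewise criterion: a morphism locally of finite type with formally unramified fibres is
formally unramified. -/
theorem formallyUnramified_of_fibers {X S : Scheme.{u}} (f : X ⟶ S) [LocallyOfFiniteType f]
    (H : ∀ s : S, FormallyUnramified (f.fiberToSpecResidueField s)) : FormallyUnramified f := by
  refine formallyUnramified_of_forall_unrNear f fun x => ?_
  have hx : x ∈ Set.range (f.fiberι (f x)) := by
    rw [Scheme.Hom.range_fiberι]; rfl
  obtain ⟨x', hx'⟩ := hx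
  rw [← hx']
  refine unrNear_fst_of_unrNear_snd f (S.fromSpecResidueField (f x)) x' ?_
  refine ⟨⊤, trivial, ?_⟩
  have := H (f x)
  exact MorphismProperty.comp_mem _ _ _ inferInstance this

end Groth.Agent.Helper15
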