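import Groth.Agent.Lib.Helper15.WtLim4
import Groth.Agent.Lib.Helper15.QfMulti2

/-!
# The universal family and universal openness
-/

set_option autoImplicit false
universe u
open CategoryTheory CategoryTheory.Limits AlgebraicGeometry

namespace Groth.Agent.Helper15.UoLim

open Groth.Agent.Helper15.Wt Groth.Agent.Helper15.WtLim Groth.Agent.Helper15.QfMulti

section Family

variable {X0 Y0 Yu0 Uu0 : Scheme.{u}} (f0 : X0 ⟶ Y0) (a0 : Yu0 ⟶ Y0) (q0 : Uu0 ⟶ X0)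
  (π0 : Uu0 ⟶ Yu0) (hq : q0 ≫ f0 = π0 ≫ a0)

/-- The versality of the universal family is inherited by its base changes. -/
theorem versal_baseChange
    (huniv : ∀ (V' B' : Scheme.{u}) (b : V' ⟶ Y0) (u₁ : B' ⟶ X0) (u₂ : B' ⟶ V'), IsAffine V' →
      IsOpenPiece f0 b u₁ u₂ → IsFinite u₂ →
      ∃ (c : V' ⟶ Yu0) (m : B' ⟶ Uu0), c ≫ a0 = b ∧ IsPullback m u₂ π0 c ∧ m ≫ q0 = u₁)
    {B : Scheme.{u}} (β : B ⟶ Y0)
    (V' B' : Scheme.{u}) (b : V' ⟶ B) (u₁ : B' ⟶ pullback f0 β) (u₂ : B' ⟶ V')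
    (hV' : IsAffine V') (hp : IsOpenPiece (pullback.snd f0 β) b u₁ u₂) (hu₂ : IsFinite u₂) :
    ∃ (c : V' ⟶ pullback a0 β) (m : B' ⟶ pullback π0 (pullback.fst a0 β)),
      c ≫ pullback.snd a0 β = b ∧ IsPullback m u₂ (πB a0 π0 β) c ∧
      m ≫ qB f0 a0 q0 π0 hq β = u₁ := by
  have hp2 : IsOpenPiece f0 (b ≫ β) (u₁ ≫ pullback.fst f0 β) u₂ :=
    IsOpenPiece.ofBaseChange (IsPullback.of_hasPullback f0 β) hp
  obtain ⟨c, m, hc, sqm, hm⟩ := huniv _ _ _ _ _ hV' hp2 hu₂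
  let cB : V' ⟶ pullback a0 β := pullback.lift c b hc
  have hcB1 : cB ≫ pullback.fst a0 β = c := pullback.lift_fst _ _ _
  have hcB2 : cB ≫ pullback.snd a0 β = b := pullback.lift_snd _ _ _
  let mB : B' ⟶ pullback π0 (pullback.fst a0 β) :=
    pullback.lift m (u₂ ≫ cB) (by rw [sqm.w, Category.assoc, hcB1])
  have hmB1 : mB ≫ pullback.fst π0 (pullback.fst a0 β) = m := pullback.lift_fst _ _ _
  have hmB2 : mB ≫ πB a0 π0 β = u₂ ≫ cB := pullback.lift_snd _ _ _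
  have sqB : IsPullback mB u₂ (πB a0 π0 β) cB := by
    have big : IsPullback (mB ≫ pullback.fst π0 (pullback.fst a0 β)) u₂ π0
        (cB ≫ pullback.fst a0 β) := by
      rw [hmB1, hcB1]; exact sqm
    exact IsPullback.of_right big hmB2 (IsPullback.of_hasPullback π0 (pullback.fst a0 β))
  refine ⟨cB, mB, hcB2, sqB, ?_⟩
  apply pullback.hom_ext
  · rw [Category.assoc, qB_fst, reassoc_of% hmB1, hm]
  · rw [Category.assoc, qB_snd, reassoc_of% hmB2, hcB2]
    exact hp.1.symm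

theorem range_πB {B : Scheme.{u}} (β : B ⟶ Y0) :
    Set.range (πB a0 π0 β) = pullback.fst a0 β ⁻¹' Set.range π0 :=
  Scheme.Pullback.range_snd π0 (pullback.fst a0 β)

theorem range_πB_bcMap {B B' : Scheme.{u}} (β : B ⟶ Y0) (β' : B' ⟶ Y0) (t : B ⟶ B')
    (ht : t ≫ β' = β) :
    Set.range (πB a0 π0 β) = bcMap a0 β β' t ht ⁻¹' Set.range (πB a0 π0 β') := by
  rw [range_πB, range_πB, ← Set.preimage_comp]
  congr 1
  funext x
  change pullback.fst a0 β x = pullback.fst a0 β' (bcMap a0 β β' t ht x)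
  rw [← Scheme.Hom.comp_apply, bcMap_fst]

include hq in
/-- If the base change of `f0` is universally open, the image of the base changed family is
open. -/
theorem isOpen_range_πB (hp0 : IsOpenPiece f0 a0 q0 π0) {B : Scheme.{u}} (β : B ⟶ Y0)
    [UniversallyOpen (pullback.snd f0 β)] : IsOpen (Set.range (πB a0 π0 β)) := by
  obtain ⟨hcomm, hoi⟩ := isOpenPiece_qB f0 a0 q0 π0 hq hp0 β
  haveI := hoi
  have h : πB a0 π0 β = pullback.lift (qB f0 a0 q0 π0 hq β) (πB a0 π0 β) hcomm ≫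
      pullback.snd (pullback.snd f0 β) (pullback.snd a0 β) := (pullback.lift_snd _ _ _).symm
  rw [h]
  exact (Scheme.Hom.isOpenMap _).isOpen_range

end Family

end Groth.Agent.Helper15.UoLim
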