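import Groth.Agent.Lib.Helper15.UoLim2

/-!
# A criterion for universal openness of quasi-finite morphisms via a versal family
-/

set_option autoImplicit false
universe u
open CategoryTheory CategoryTheory.Limits AlgebraicGeometry

namespace Groth.Agent.Helper15.UoLim

open Groth.Agent.Helper15.Wt Groth.Agent.Helper15.WtLim Groth.Agent.Helper15.QfMulti

theorem range_of_isPullback {P A B C : Scheme.{u}} {m : P ⟶ A} {r : P ⟶ B} {π : A ⟶ C}
    {c : B ⟶ C} (sq : IsPullback m r π c) : Set.range r = c ⁻¹' Set.range π := by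
  ext v
  constructor
  · rintro ⟨b, rfl⟩
    refine ⟨m b, ?_⟩
    rw [← Scheme.Hom.comp_apply, sq.w, Scheme.Hom.comp_apply]
  · rintro ⟨t, ht⟩
    obtain ⟨b, -, hb⟩ := Scheme.exists_preimage_of_isPullback sq t v ht
    exact ⟨b, hb⟩

/-- The open-map property of a base change of a quasi-finite separated morphism admitting a versal
family with open image. -/
theorem isOpenMap_of_versal {X Y Yu Uu X' Y' : Scheme.{u}} (f : X ⟶ Y) (π : Uu ⟶ Yu)
    (hvers : ∀ (V' B' : Scheme.{u}) (b : V' ⟶ Y) (u₁ : B' ⟶ X) (u₂ : B' ⟶ V'), IsAffine V' →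
      IsOpenPiece f b u₁ u₂ → IsFinite u₂ →
      ∃ (c : V' ⟶ Yu) (m : B' ⟶ Uu), IsPullback m u₂ π c)
    (hopen : IsOpen (Set.range π))
    (i₁ : X' ⟶ X) (f' : X' ⟶ Y') (i₂ : Y' ⟶ Y) (sq : IsPullback i₁ f' f i₂)
    [LocallyQuasiFinite f'] [LocallyOfFiniteType f'] [IsSeparated f'] : IsOpenMap f' := by
  intro W hW
  rw [isOpen_iff_forall_mem_open]
  rintro _ ⟨x', hx'W, rfl⟩
  obtain ⟨U, g, u, hg, hgu, -, V, W₀, v, hcompl, hfin, hv1, hv2, huniq⟩ :=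
    exists_etale_isCompl_unique f' (rfl : f' x' = f' x') (f'.quasiFiniteAt x')
  haveI := hg
  haveI := hfin
  obtain ⟨πV, hπV⟩ : ∃ πV : V.toScheme ⟶ U, πV = V.ι ≫ pullback.snd f' g := ⟨_, rfl⟩
  haveI : IsFinite πV := by rw [hπV]; exact hfin
  have hπVapp : ∀ z, πV z = pullback.snd f' g (V.ι z) := by
    intro z; rw [hπV]; rfl
  let W₁ : (pullback f' g).Opens := pullback.fst f' g ⁻¹ᵁ ⟨W, hW⟩
  let Z : Set V.toScheme := V.ι ⁻¹' (W₁ : Set ↥(pullback f' g))ᶜ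
  have hZ : IsClosed Z := (W₁.2.isClosed_compl).preimage V.ι.continuous
  have hZ' : IsClosed (πV '' Z) := πV.isClosedMap _ hZ
  have huZ : u ∉ πV '' Z := by
    rintro ⟨z, hz, hzu⟩
    have h1 : V.ι z ∈ V := by
      have := z.2
      exact this
    have h2 : pullback.snd f' g (V.ι z) = u := by
      rw [← hzu, hπV]; rfl
    have h3 := huniq _ h1 h2
    apply hz
    change pullback.fst f' g (V.ι z) ∈ W
    rw [h3, hv1]
    exact hx'W
  obtain ⟨_, ⟨(U₂ : U.Opens), hU₂, rfl⟩, huU₂, hU₂sub⟩ :=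
    U.isBasis_affineOpens.exists_subset_of_mem_open (show u ∈ (πV '' Z)ᶜ from huZ)
      hZ'.isOpen_compl
  haveI : IsAffine (U₂ : Scheme.{u}) := hU₂
  let r₁ : (πV ⁻¹ᵁ U₂).toScheme ⟶ V.toScheme := (πV ⁻¹ᵁ U₂).ι
  let r₂ : (πV ⁻¹ᵁ U₂).toScheme ⟶ (U₂ : Scheme.{u}) := πV ∣_ U₂
  have sq₁ : IsPullback r₁ r₂ πV U₂.ι := (isPullback_morphismRestrict πV U₂).flip
  haveI : IsFinite r₂ := MorphismProperty.of_isPullback (P := @IsFinite) sq₁ inferInstance
  have hpV : IsOpenPiece f' g (V.ι ≫ pullback.fst f' g) πV := by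
    rw [hπV]; exact isOpenPiece_opens f' g V
  have hp1 : IsOpenPiece f' (U₂.ι ≫ g) (r₁ ≫ V.ι ≫ pullback.fst f' g) r₂ :=
    hpV.baseChange U₂.ι r₁ r₂ sq₁
  have hp2 : IsOpenPiece f ((U₂.ι ≫ g) ≫ i₂) ((r₁ ≫ V.ι ≫ pullback.fst f' g) ≫ i₁) r₂ :=
    IsOpenPiece.ofBaseChange sq hp1
  obtain ⟨c, m, sqm⟩ := hvers _ _ _ _ _ inferInstance hp2 inferInstance
  have hrange : Set.range r₂ = c ⁻¹' Set.range π := range_of_isPullback sqm
  have hOopen : IsOpen (Set.range r₂) := by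
    rw [hrange]; exact hopen.preimage c.continuous
  have hO2 : IsOpen (U₂.ι '' Set.range r₂) := U₂.ι.isOpenEmbedding.isOpenMap _ hOopen
  have hO3 : IsOpen (g '' (U₂.ι '' Set.range r₂)) := g.isOpenMap _ hO2
  have hr : ∀ b, U₂.ι (r₂ b) = πV (r₁ b) := by
    intro b
    rw [← Scheme.Hom.comp_apply, ← Scheme.Hom.comp_apply, sq₁.w]
  refine ⟨g '' (U₂.ι '' Set.range r₂), ?_, hO3, ?_⟩
  · rintro _ ⟨_, ⟨_, ⟨b, rfl⟩, rfl⟩, rfl⟩
    refine ⟨pullback.fst f' g (V.ι (r₁ b)), ?_, ?_⟩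
    · by_contra hnot
      have hz : r₁ b ∈ Z := hnot
      have h1 : πV (r₁ b) ∈ πV '' Z := ⟨_, hz, rfl⟩
      have h2 : U₂.ι (r₂ b) ∈ (U₂ : Set U) := (r₂ b).2
      rw [hr b] at h2
      exact hU₂sub h2 h1
    · rw [hr b, hπVapp (r₁ b), ← Scheme.Hom.comp_apply, ← Scheme.Hom.comp_apply,
        pullback.condition]
      rfl
  · have hvV : πV v = u := by
      rw [hπV]; exact hv2
    have hvmem : v ∈ πV ⁻¹ᵁ U₂ := by
      change πV v ∈ U₂
      rw [hvV]; exact huU₂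
    let b₀ : (πV ⁻¹ᵁ U₂).toScheme := ⟨v, hvmem⟩
    have hb₀ : r₁ b₀ = v := rfl
    refine ⟨u, ⟨r₂ b₀, ⟨b₀, rfl⟩, ?_⟩, hgu⟩
    rw [hr b₀, hb₀, hvV]

/-- **Criterion for universal openness.** -/
theorem universallyOpen_of_versal {X Y Yu Uu : Scheme.{u}} (f : X ⟶ Y) [LocallyQuasiFinite f]
    [LocallyOfFiniteType f] [IsSeparated f] (π : Uu ⟶ Yu)
    (hvers : ∀ (V' B' : Scheme.{u}) (b : V' ⟶ Y) (u₁ : B' ⟶ X) (u₂ : B' ⟶ V'), IsAffine V' →
      IsOpenPiece f b u₁ u₂ → IsFinite u₂ →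
      ∃ (c : V' ⟶ Yu) (m : B' ⟶ Uu), IsPullback m u₂ π c)
    (hopen : IsOpen (Set.range π)) : UniversallyOpen f := by
  refine ⟨fun X' Y' i₁ i₂ f' sq => ?_⟩
  haveI : LocallyQuasiFinite f' :=
    MorphismProperty.of_isPullback (P := @LocallyQuasiFinite) sq.flip inferInstance
  haveI : LocallyOfFiniteType f' :=
    MorphismProperty.of_isPullback (P := @LocallyOfFiniteType) sq.flip inferInstance
  haveI : IsSeparated f' :=
    MorphismProperty.of_isPullback (P := @IsSeparated) sq.flip inferInstance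
  exact isOpenMap_of_versal f π hvers hopen i₁ f' i₂ sq.flip

end Groth.Agent.Helper15.UoLim
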