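import Groth.Agent.Lib.Helper15.Lcw5

/-!
# Open pieces: arbitrary base change, and the universal finite open piece
-/

set_option autoImplicit false
universe u
open CategoryTheory CategoryTheory.Limits AlgebraicGeometry

namespace Groth.Agent.Helper15.WtLim

open Groth.Agent.Helper15.Wt Groth.Agent.Helper15.Lcw Groth.Agent.Helper15.Ufo

/-- The weighting condition along an arbitrary (not necessarily étale) base change. -/
theorem flexGen {X Y V B : Scheme.{u}} {f : X ⟶ Y} [LocallyQuasiFinite f]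
    [LocallyOfFiniteType f] {w : X → ℤ} (hw : MoreMor.IsWeighting f w)
    (g : V ⟶ Y) (b₁ : B ⟶ X) (b₂ : B ⟶ V) (hp : IsOpenPiece f g b₁ b₂) [IsFinite b₂] :
    IsLocallyConstant (MoreMor.fibreIntegral b₂ (fun b => w (b₁ b))) := by
  obtain ⟨hcomm, hoi⟩ := hp
  haveI := hoi
  have hwu : MoreMor.IsWeighting (pullback.snd f g) (w ∘ ⇑(pullback.fst f g)) :=
    IsWeighting.baseChange f w hw (pullback.snd f g) (pullback.fst f g) g
      (IsPullback.of_hasPullback f g)
  set j := pullback.lift b₁ b₂ hcomm with hj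
  have hcomm' : j ≫ pullback.snd f g = b₂ ≫ 𝟙 V := by
    rw [hj, pullback.lift_snd, Category.comp_id]
  have hp' : IsOpenPiece (pullback.snd f g) (𝟙 V) j b₂ := by
    refine ⟨hcomm', ?_⟩
    haveI : IsOpenImmersion (pullback.lift j b₂ hcomm' ≫
        pullback.fst (pullback.snd f g) (𝟙 V)) := by
      rw [pullback.lift_fst]; infer_instance
    exact IsOpenImmersion.of_comp _ (pullback.fst (pullback.snd f g) (𝟙 V))
  have key := IsWeighting.flex'' hwu (𝟙 V) j b₂ hp'
  have hfun : (fun b => (w ∘ ⇑(pullback.fst f g)) (j b)) = fun b => w (b₁ b) := by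
    funext b
    change w (pullback.fst f g (j b)) = w (b₁ b)
    rw [← Scheme.Hom.comp_apply, hj, pullback.lift_fst]
  rw [hfun] at key
  exact key

section BaseChange

variable {X0 Y0 XB B V B' : Scheme.{u}} {f0 : X0 ⟶ Y0} {β : B ⟶ Y0} {pB : XB ⟶ X0}
  {fB : XB ⟶ B}

theorem lift_comp_iso (sq : IsPullback pB fB f0 β) {g : V ⟶ B} {b₁ : B' ⟶ XB} {b₂ : B' ⟶ V}
    (hcomm : b₁ ≫ fB = b₂ ≫ g) (hcomm' : (b₁ ≫ pB) ≫ f0 = b₂ ≫ g ≫ β) :
    pullback.lift b₁ b₂ hcomm ≫
      ((IsPullback.of_hasPullback fB g).paste_horiz sq).isoPullback.hom =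
      pullback.lift (b₁ ≫ pB) b₂ hcomm' := by
  apply pullback.hom_ext
  · rw [Category.assoc, IsPullback.isoPullback_hom_fst, pullback.lift_fst_assoc,
      pullback.lift_fst]
  · rw [Category.assoc, IsPullback.isoPullback_hom_snd, pullback.lift_snd, pullback.lift_snd]

/-- An open piece of a base change is an open piece of the original morphism. -/
theorem IsOpenPiece.ofBaseChange (sq : IsPullback pB fB f0 β) {g : V ⟶ B} {b₁ : B' ⟶ XB}
    {b₂ : B' ⟶ V} (hp : IsOpenPiece fB g b₁ b₂) : IsOpenPiece f0 (g ≫ β) (b₁ ≫ pB) b₂ := by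
  obtain ⟨hcomm, hoi⟩ := hp
  haveI := hoi
  have hcomm' : (b₁ ≫ pB) ≫ f0 = b₂ ≫ g ≫ β := by
    rw [Category.assoc, sq.w, reassoc_of% hcomm]
  refine ⟨hcomm', ?_⟩
  rw [← lift_comp_iso sq hcomm hcomm']
  infer_instance

/-- An open piece of the original morphism over a base change is an open piece of the base
change. -/
theorem IsOpenPiece.toBaseChange (sq : IsPullback pB fB f0 β) {g : V ⟶ B} {b₁ : B' ⟶ XB}
    {b₂ : B' ⟶ V} (hcomm : b₁ ≫ fB = b₂ ≫ g) (hp : IsOpenPiece f0 (g ≫ β) (b₁ ≫ pB) b₂) :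
    IsOpenPiece fB g b₁ b₂ := by
  obtain ⟨hcomm', hoi⟩ := hp
  haveI := hoi
  refine ⟨hcomm, ?_⟩
  haveI : IsOpenImmersion (pullback.lift b₁ b₂ hcomm ≫
      ((IsPullback.of_hasPullback fB g).paste_horiz sq).isoPullback.hom) := by
    rw [lift_comp_iso sq hcomm hcomm']; infer_instance
  exact IsOpenImmersion.of_comp _
    ((IsPullback.of_hasPullback fB g).paste_horiz sq).isoPullback.hom

end BaseChange

theorem exists_iso_opens {B' P : Scheme.{u}} (j : B' ⟶ P) [IsOpenImmersion j] (O : P.Opens)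
    (hO : O = j.opensRange) : ∃ e : B' ≅ O.toScheme, e.hom ≫ O.ι = j := by
  subst hO
  exact ⟨j.isoOpensRange, j.isoOpensRange_hom_ι⟩

/-- **The universal finite open piece** of a quasi-finite morphism of finite presentation between
affine schemes. -/
theorem exists_universal_piece {X Y : Scheme.{u}} (f : X ⟶ Y) [IsAffine X] [IsAffine Y]
    [LocallyQuasiFinite f] [LocallyOfFinitePresentation f] :
    ∃ (Yu Uu : Scheme.{u}) (a : Yu ⟶ Y) (q : Uu ⟶ X) (π : Uu ⟶ Yu),
      IsAffine Yu ∧ LocallyOfFinitePresentation a ∧ IsFinite π ∧ IsOpenPiece f a q π ∧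
      ∀ (V' B' : Scheme.{u}) (b : V' ⟶ Y) (u₁ : B' ⟶ X) (u₂ : B' ⟶ V'), IsAffine V' →
        IsOpenPiece f b u₁ u₂ → IsFinite u₂ →
        ∃ (c : V' ⟶ Yu) (m : B' ⟶ Uu), c ≫ a = b ∧ IsPullback m u₂ π c ∧ m ≫ q = u₁ := by
  obtain ⟨Yu, a, Uu, hYu, hlfp, hqc, hqs, hfin, hvers⟩ := universal_finite_open' f
  refine ⟨Yu, Uu.toScheme, a, Uu.ι ≫ pullback.fst f a, Uu.ι ≫ pullback.snd f a, hYu, hlfp, hfin,
    isOpenPiece_opens f a Uu, ?_⟩
  intro V' B' b u₁ u₂ hV' hp hu₂
  obtain ⟨hcomm, hoi⟩ := hp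
  haveI := hoi
  haveI := hu₂
  set j := pullback.lift u₁ u₂ hcomm with hj
  have hj1 : j ≫ pullback.fst f b = u₁ := pullback.lift_fst _ _ _
  have hj2 : j ≫ pullback.snd f b = u₂ := pullback.lift_snd _ _ _
  have hfinU' : IsFinite (j.opensRange.ι ≫ pullback.snd f b) := by
    have : j.opensRange.ι ≫ pullback.snd f b = j.isoOpensRange.inv ≫ u₂ := by
      rw [← hj2, ← Category.assoc, Scheme.Hom.isoOpensRange_inv_comp]
    rw [this]
    infer_instance
  obtain ⟨c, hc, hpre⟩ := hvers V' b j.opensRange hV' hfinU'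
  set m₀ : pullback f b ⟶ pullback f a := pullback.map f b f a (𝟙 X) c (𝟙 Y)
    ((Category.comp_id f).trans (Category.id_comp f).symm)
    ((Category.comp_id b).trans hc.symm) with hm₀
  have hm1 : m₀ ≫ pullback.fst f a = pullback.fst f b :=
    (pullback.lift_fst _ _ _).trans (Category.comp_id _)
  have hm2 : m₀ ≫ pullback.snd f a = pullback.snd f b ≫ c := pullback.lift_snd _ _ _
  have sqm : IsPullback m₀ (pullback.snd f b) (pullback.snd f a) c := by
    have big : IsPullback (m₀ ≫ pullback.fst f a) (pullback.snd f b) f (c ≫ a) := by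
      rw [hm1, hc]; exact IsPullback.of_hasPullback f b
    exact IsPullback.of_right big hm2 (IsPullback.of_hasPullback f a)
  have sqW : IsPullback (m₀ ∣_ Uu) ((m₀ ⁻¹ᵁ Uu).ι ≫ pullback.snd f b)
      (Uu.ι ≫ pullback.snd f a) c :=
    (isPullback_morphismRestrict m₀ Uu).paste_vert sqm
  obtain ⟨e, he⟩ := exists_iso_opens j (m₀ ⁻¹ᵁ Uu) hpre
  refine ⟨c, e.hom ≫ (m₀ ∣_ Uu), hc, ?_, ?_⟩
  · refine IsPullback.of_iso sqW e.symm (Iso.refl _) (Iso.refl _) (Iso.refl _) ?_ ?_ ?_ ?_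
    · simp
    · rw [Iso.refl_hom, Category.comp_id, Iso.symm_hom, ← hj2, ← he, Category.assoc,
        Iso.inv_hom_id_assoc]
    · simp
    · simp
  · rw [Category.assoc, ← Category.assoc (m₀ ∣_ Uu), morphismRestrict_ι, Category.assoc, hm1,
      reassoc_of% he, hj1]

end Groth.Agent.Helper15.WtLim
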