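import Groth.Agent.Lib.Helper15.WtLim2
import Groth.Agent.Lib.Helper15.WtLim3

/-!
# The base change of the universal family and the weighting criterion
-/

set_option autoImplicit false
universe u
open CategoryTheory CategoryTheory.Limits AlgebraicGeometry

namespace Groth.Agent.Helper15.WtLim

open Groth.Agent.Helper15.Wt Groth.Agent.Helper15.Lcw

variable {X0 Y0 Yu0 Uu0 : Scheme.{u}} (f0 : X0 ⟶ Y0) (a0 : Yu0 ⟶ Y0) (q0 : Uu0 ⟶ X0)
  (π0 : Uu0 ⟶ Yu0) (hq : q0 ≫ f0 = π0 ≫ a0)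

/-- The base change of the family `π0` to `Yu0 ×_{Y0} B`. -/
noncomputable def πB {B : Scheme.{u}} (β : B ⟶ Y0) :
    pullback π0 (pullback.fst a0 β) ⟶ pullback a0 β :=
  pullback.snd π0 (pullback.fst a0 β)

instance [IsFinite π0] {B : Scheme.{u}} (β : B ⟶ Y0) : IsFinite (πB a0 π0 β) := by
  unfold πB; infer_instance

include hq in
theorem qB_aux {B : Scheme.{u}} (β : B ⟶ Y0) :
    (pullback.fst π0 (pullback.fst a0 β) ≫ q0) ≫ f0 =
      (πB a0 π0 β ≫ pullback.snd a0 β) ≫ β := by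
  rw [Category.assoc, hq, ← Category.assoc, pullback.condition, Category.assoc,
    pullback.condition]
  rfl

/-- The map from the base changed family to `X0 ×_{Y0} B`. -/
noncomputable def qB {B : Scheme.{u}} (β : B ⟶ Y0) :
    pullback π0 (pullback.fst a0 β) ⟶ pullback f0 β :=
  pullback.lift (pullback.fst π0 (pullback.fst a0 β) ≫ q0) (πB a0 π0 β ≫ pullback.snd a0 β)
    (qB_aux f0 a0 q0 π0 hq β)

@[reassoc]
theorem qB_fst {B : Scheme.{u}} (β : B ⟶ Y0) :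
    qB f0 a0 q0 π0 hq β ≫ pullback.fst f0 β = pullback.fst π0 (pullback.fst a0 β) ≫ q0 :=
  pullback.lift_fst _ _ _

@[reassoc]
theorem qB_snd {B : Scheme.{u}} (β : B ⟶ Y0) :
    qB f0 a0 q0 π0 hq β ≫ pullback.snd f0 β = πB a0 π0 β ≫ pullback.snd a0 β :=
  pullback.lift_snd _ _ _

/-- The function on `Yu0 ×_{Y0} B` obtained by integrating `W` along the base changed universal
family. -/
noncomputable def Phi {B : Scheme.{u}} (β : B ⟶ Y0) (W : ↥(pullback f0 β) → ℤ) :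
    ↥(pullback a0 β) → ℤ :=
  MoreMor.fibreIntegral (πB a0 π0 β) (fun u => W (qB f0 a0 q0 π0 hq β u))

/-- Compatibility of `Phi` with base change. -/
theorem Phi_bcMap [IsFinite π0] {B B' : Scheme.{u}} (β : B ⟶ Y0) (β' : B' ⟶ Y0) (t : B ⟶ B')
    (ht : t ≫ β' = β) (W' : ↥(pullback f0 β') → ℤ) (y : ↥(pullback a0 β)) :
    Phi f0 a0 q0 π0 hq β (fun x => W' (bcMap f0 β β' t ht x)) y =
      Phi f0 a0 q0 π0 hq β' W' (bcMap a0 β β' t ht y) := by
  let Uut : pullback π0 (pullback.fst a0 β) ⟶ pullback π0 (pullback.fst a0 β') :=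
    bcMap π0 (pullback.fst a0 β) (pullback.fst a0 β') (bcMap a0 β β' t ht)
      (bcMap_fst a0 β β' t ht)
  have sq : IsPullback Uut (πB a0 π0 β) (πB a0 π0 β') (bcMap a0 β β' t ht) :=
    isPullback_bcMap π0 _ _ _ _
  have hcomp : Uut ≫ qB f0 a0 q0 π0 hq β' = qB f0 a0 q0 π0 hq β ≫ bcMap f0 β β' t ht := by
    apply pullback.hom_ext
    · rw [Category.assoc, qB_fst, Category.assoc, bcMap_fst, qB_fst]
      exact bcMap_fst_assoc π0 _ _ _ _ _
    · rw [Category.assoc, qB_snd, Category.assoc, bcMap_snd, qB_snd_assoc]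
      have h1 : Uut ≫ πB a0 π0 β' = πB a0 π0 β ≫ bcMap a0 β β' t ht := sq.w
      rw [reassoc_of% h1, bcMap_snd]
  have key := fibreIntegral_baseChange (πB a0 π0 β')
    (fun v => Scheme.Hom.finite_preimage_singleton _ v) (πB a0 π0 β) Uut (bcMap a0 β β' t ht) sq
    (fun u => W' (qB f0 a0 q0 π0 hq β' u)) y
  unfold Phi
  rw [← key]
  congr 1
  funext u
  change W' (bcMap f0 β β' t ht (qB f0 a0 q0 π0 hq β u)) = W' (qB f0 a0 q0 π0 hq β' (Uut u))
  rw [← Scheme.Hom.comp_apply, ← Scheme.Hom.comp_apply, hcomp]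

/-- The base changed family is an open piece. -/
theorem isOpenPiece_qB (hp0 : IsOpenPiece f0 a0 q0 π0) {B : Scheme.{u}} (β : B ⟶ Y0) :
    IsOpenPiece (pullback.snd f0 β) (pullback.snd a0 β) (qB f0 a0 q0 π0 hq β) (πB a0 π0 β) := by
  have h1 := hp0.baseChange (pullback.fst a0 β) (pullback.fst π0 (pullback.fst a0 β))
    (πB a0 π0 β) (IsPullback.of_hasPullback π0 (pullback.fst a0 β))
  rw [pullback.condition, ← qB_fst f0 a0 q0 π0 hq β] at h1
  exact IsOpenPiece.toBaseChange (IsPullback.of_hasPullback f0 β) (qB_snd f0 a0 q0 π0 hq β) h1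

/-- If `W` is a weighting of the base change of `f0`, its integral along the universal family is
locally constant. -/
theorem isLocallyConstant_Phi [LocallyQuasiFinite f0] [LocallyOfFiniteType f0] [IsFinite π0]
    (hp0 : IsOpenPiece f0 a0 q0 π0) {B : Scheme.{u}} (β : B ⟶ Y0) (W : ↥(pullback f0 β) → ℤ)
    (hW : MoreMor.IsWeighting (pullback.snd f0 β) W) :
    IsLocallyConstant (Phi f0 a0 q0 π0 hq β W) :=
  flexGen hW (pullback.snd a0 β) (qB f0 a0 q0 π0 hq β) (πB a0 π0 β)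
    (isOpenPiece_qB f0 a0 q0 π0 hq hp0 β)

/-- **The weighting criterion**: if the integral of `W` along the (versal) family is locally
constant, `W` is a weighting of the base change of `f0`. -/
theorem isWeighting_of_isLocallyConstant_Phi [IsFinite π0]
    (huniv : ∀ (V' B' : Scheme.{u}) (b : V' ⟶ Y0) (u₁ : B' ⟶ X0) (u₂ : B' ⟶ V'), IsAffine V' →
      IsOpenPiece f0 b u₁ u₂ → IsFinite u₂ →
      ∃ (c : V' ⟶ Yu0) (m : B' ⟶ Uu0), c ≫ a0 = b ∧ IsPullback m u₂ π0 c ∧ m ≫ q0 = u₁)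
    {B : Scheme.{u}} (β : B ⟶ Y0) (W : ↥(pullback f0 β) → ℤ)
    (hΦ : IsLocallyConstant (Phi f0 a0 q0 π0 hq β W)) :
    MoreMor.IsWeighting (pullback.snd f0 β) W := by
  intro V g _ U hU
  haveI := hU
  have hpU : IsOpenPiece (pullback.snd f0 β) g (U.ι ≫ pullback.fst (pullback.snd f0 β) g)
      (U.ι ≫ pullback.snd (pullback.snd f0 β) g) := isOpenPiece_opens (pullback.snd f0 β) g U
  rw [IsLocallyConstant.iff_exists_open]
  intro v
  obtain ⟨_, ⟨(V' : V.Opens), hV', rfl⟩, hvV', -⟩ :=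
    V.isBasis_affineOpens.exists_subset_of_mem_open (Set.mem_univ v) isOpen_univ
  haveI : IsAffine (V' : Scheme.{u}) := hV'
  obtain ⟨u₁, hu₁⟩ : ∃ u₁ : U.toScheme ⟶ pullback f0 β,
      u₁ = U.ι ≫ pullback.fst (pullback.snd f0 β) g := ⟨_, rfl⟩
  obtain ⟨u₂, hu₂⟩ : ∃ u₂ : U.toScheme ⟶ V,
      u₂ = U.ι ≫ pullback.snd (pullback.snd f0 β) g := ⟨_, rfl⟩
  rw [← hu₁, ← hu₂] at hpU
  haveI : IsFinite u₂ := by rw [hu₂]; exact hU
  let r₁ : (u₂ ⁻¹ᵁ V').toScheme ⟶ U.toScheme := (u₂ ⁻¹ᵁ V').ι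
  let r₂ : (u₂ ⁻¹ᵁ V').toScheme ⟶ (V' : Scheme.{u}) := u₂ ∣_ V'
  have sq₁ : IsPullback r₁ r₂ u₂ V'.ι := (isPullback_morphismRestrict u₂ V').flip
  haveI : IsFinite r₂ := MorphismProperty.of_isPullback (P := @IsFinite) sq₁ inferInstance
  have hp1 : IsOpenPiece (pullback.snd f0 β) (V'.ι ≫ g) (r₁ ≫ u₁) r₂ :=
    hpU.baseChange V'.ι r₁ r₂ sq₁
  have hp2 : IsOpenPiece f0 ((V'.ι ≫ g) ≫ β) ((r₁ ≫ u₁) ≫ pullback.fst f0 β) r₂ :=
    IsOpenPiece.ofBaseChange (IsPullback.of_hasPullback f0 β) hp1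
  obtain ⟨c, m, hc, sqm, hm⟩ := huniv _ _ _ _ _ inferInstance hp2 inferInstance
  let cB : (V' : Scheme.{u}) ⟶ pullback a0 β := pullback.lift c (V'.ι ≫ g) hc
  have hcB1 : cB ≫ pullback.fst a0 β = c := pullback.lift_fst _ _ _
  have hcB2 : cB ≫ pullback.snd a0 β = V'.ι ≫ g := pullback.lift_snd _ _ _
  let mB : (u₂ ⁻¹ᵁ V').toScheme ⟶ pullback π0 (pullback.fst a0 β) :=
    pullback.lift m (r₂ ≫ cB) (by rw [sqm.w, Category.assoc, hcB1])
  have hmB1 : mB ≫ pullback.fst π0 (pullback.fst a0 β) = m := pullback.lift_fst _ _ _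
  have hmB2 : mB ≫ πB a0 π0 β = r₂ ≫ cB := pullback.lift_snd _ _ _
  have sqB : IsPullback mB r₂ (πB a0 π0 β) cB := by
    have big : IsPullback (mB ≫ pullback.fst π0 (pullback.fst a0 β)) r₂ π0
        (cB ≫ pullback.fst a0 β) := by
      rw [hmB1, hcB1]; exact sqm
    exact IsPullback.of_right big hmB2 (IsPullback.of_hasPullback π0 (pullback.fst a0 β))
  have hmq : mB ≫ qB f0 a0 q0 π0 hq β = r₁ ≫ u₁ := by
    apply pullback.hom_ext
    · rw [Category.assoc, qB_fst, reassoc_of% hmB1, hm]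
    · have h1 : u₁ ≫ pullback.snd f0 β = u₂ ≫ g := hpU.1
      have h2 : r₁ ≫ u₂ = r₂ ≫ V'.ι := sq₁.w
      rw [Category.assoc, qB_snd, reassoc_of% hmB2, hcB2, Category.assoc, h1, reassoc_of% h2]
  -- the integral restricted to `V'`
  have hF : ∀ v' : (V' : Scheme.{u}),
      MoreMor.fibreIntegral u₂ (fun u => W (u₁ u)) (V'.ι v') =
        Phi f0 a0 q0 π0 hq β W (cB v') := by
    intro v'
    have k1 := fibreIntegral_baseChange u₂ (fun v => Scheme.Hom.finite_preimage_singleton _ v)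
      r₂ r₁ V'.ι sq₁ (fun u => W (u₁ u)) v'
    have k2 := fibreIntegral_baseChange (πB a0 π0 β)
      (fun v => Scheme.Hom.finite_preimage_singleton _ v) r₂ mB cB sqB
      (fun u => W (qB f0 a0 q0 π0 hq β u)) v'
    rw [← k1]
    unfold Phi
    rw [← k2]
    congr 1
    funext b
    change W (u₁ (r₁ b)) = W (qB f0 a0 q0 π0 hq β (mB b))
    rw [← Scheme.Hom.comp_apply mB, hmq]
    rfl
  have hG : IsLocallyConstant (fun v' : (V' : Scheme.{u}) => Phi f0 a0 q0 π0 hq β W (cB v')) :=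
    hΦ.comp_continuous cB.continuous
  let v₀ : (V' : Scheme.{u}) := ⟨v, hvV'⟩
  have hv₀ : V'.ι v₀ = v := rfl
  have hgoal : (fun u => W (pullback.fst (pullback.snd f0 β) g (U.ι u))) = fun u => W (u₁ u) := by
    funext u
    rw [hu₁]
    rfl
  rw [hgoal, ← hu₂]
  refine ⟨V'.ι '' ((fun v' : (V' : Scheme.{u}) => Phi f0 a0 q0 π0 hq β W (cB v')) ⁻¹'
      {Phi f0 a0 q0 π0 hq β W (cB v₀)}), ?_, ⟨v₀, rfl, hv₀⟩, ?_⟩
  · exact V'.ι.isOpenEmbedding.isOpenMap _ (hG.isOpen_fiber _)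
  · rintro _ ⟨v', hv', rfl⟩
    rw [hF v', ← hv₀, hF v₀]
    exact hv'

end Groth.Agent.Helper15.WtLim
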