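import Groth.Agent.Lib.Helper15.Lcw15
import Groth.Agent.Lib.Helper15.WtLim1
import Groth.Agent.Lib.Helper15.WtLim4

/-!
# Fibre integrals of functions with finite range and constructible level sets
-/

set_option autoImplicit false
universe u
open CategoryTheory CategoryTheory.Limits AlgebraicGeometry

namespace Groth.Agent.Helper15.WtLim

open Groth.Agent.Helper15.Wt Groth.Agent.Helper15.Lcw

theorem isWeighting_zero {X Y : Scheme.{u}} (f : X ⟶ Y) :
    MoreMor.IsWeighting f (fun _ => 0) := by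
  intro V g _ U hU
  have : MoreMor.fibreIntegral (U.ι ≫ pullback.snd f g)
      (fun u => (fun _ : X => (0 : ℤ)) (pullback.fst f g (U.ι u))) = fun _ => 0 := by
    funext v
    unfold MoreMor.fibreIntegral
    simp
  rw [this]
  exact IsLocallyConstant.const 0

/-- The fibre integral of a function with finite range and constructible level sets has finite
range and constructible level sets. -/
theorem isCF_fibreIntegral {X Y : Scheme.{u}} (f : X ⟶ Y) [LocallyQuasiFinite f]
    [LocallyOfFinitePresentation f] [QuasiCompact f] [QuasiSeparated f] [CompactSpace Y]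
    [QuasiSeparatedSpace Y] (w : X → ℤ) (hw : IsCF w) : IsCF (MoreMor.fibreIntegral f w) := by
  classical
  haveI : CompactSpace X := QuasiCompact.compactSpace_of_compactSpace f
  haveI : QuasiSeparatedSpace X := quasiSeparatedSpace_of_quasiSeparated f
  have hfin : ∀ y, (f ⁻¹' {y}).Finite := fun y => Scheme.Hom.finite_preimage_singleton f y
  obtain ⟨-, N, hN⟩ := exists_finite_range_and_bound f (fun _ => 0) (isWeighting_zero f)
  let K : Finset ℤ := hw.1.toFinset
  have hK : ∀ x, w x ∈ K := fun x => hw.1.mem_toFinset.2 ⟨x, rfl⟩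
  have hcon : ∀ k : ℤ, Topology.IsConstructible {x : X | w x = k} := hw.2
  let ν : ℤ → Y → ℤ := fun k y => nPts f {x | w x = k} y
  have hν0 : ∀ k y, 0 ≤ ν k y := fun k y => nPts_nonneg f _ hfin y
  have hνN : ∀ k y, ν k y ≤ N := fun k y => nPts_le f _ N hN hfin y
  have hsum : ∀ y, MoreMor.fibreIntegral f w y = ∑ k ∈ K, k * ν k y :=
    fun y => fibreIntegral_eq_sum_nPts f w K hK hfin y
  have hlt : ∀ y (k : K), (ν k.1 y).toNat < N + 1 := by
    intro y k
    have := hνN k.1 y
    have := hν0 k.1 y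
    omega
  let vy : Y → K → Fin (N + 1) := fun y k => ⟨(ν k.1 y).toNat, hlt y k⟩
  have hvy : ∀ y (k : K), (((vy y k : ℕ)) : ℤ) = ν k.1 y :=
    fun y k => Int.toNat_of_nonneg (hν0 k.1 y)
  have hval : ∀ y, MoreMor.fibreIntegral f w y = ∑ k : K, k.1 * ((vy y k : ℕ) : ℤ) := by
    intro y
    rw [hsum y, ← Finset.sum_coe_sort K]
    exact Finset.sum_congr rfl (fun k _ => by rw [hvy y k])
  refine ⟨?_, fun n => ?_⟩
  · refine (Set.finite_range (fun v : K → Fin (N + 1) => ∑ k : K, k.1 * ((v k : ℕ) : ℤ))).subset ?_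
    rintro _ ⟨y, rfl⟩
    exact ⟨vy y, (hval y).symm⟩
  · let Sv : (K → Fin (N + 1)) → Set Y := fun v => ⋂ k : K, {y | ν k.1 y = ((v k : ℕ) : ℤ)}
    have hSv : ∀ v, Topology.IsConstructible (Sv v) := fun v =>
      Topology.IsConstructible.iInter (fun k => isConstructible_nPts_eq f _ (hcon k.1) (v k))
    have hset : {y : Y | MoreMor.fibreIntegral f w y = n} =
        ⋃ v : {v : K → Fin (N + 1) // ∑ k : K, k.1 * ((v k : ℕ) : ℤ) = n}, Sv v.1 := by
      ext y
      simp only [Set.mem_ofPred_eq, Set.mem_iUnion]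
      constructor
      · intro hy
        refine ⟨⟨vy y, ?_⟩, ?_⟩
        · rw [← hy, hval y]
        · simp only [Sv, Set.mem_iInter, Set.mem_ofPred_eq]
          exact fun k => (hvy y k).symm
      · rintro ⟨⟨v, hv⟩, hy⟩
        simp only [Sv, Set.mem_iInter, Set.mem_ofPred_eq] at hy
        rw [hsum y, ← Finset.sum_coe_sort K, ← hv]
        exact Finset.sum_congr rfl (fun k _ => by rw [hy k])
    rw [hset]
    exact Topology.IsConstructible.iUnion (fun v => hSv v.1)

theorem IsOpenPiece.lfp {X Y V B : Scheme.{u}} {f : X ⟶ Y} {g : V ⟶ Y} {b₁ : B ⟶ X}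
    {b₂ : B ⟶ V} (hp : IsOpenPiece f g b₁ b₂) [LocallyOfFinitePresentation f] :
    LocallyOfFinitePresentation b₂ := by
  obtain ⟨hcomm, hoi⟩ := hp
  haveI := hoi
  rw [← pullback.lift_snd b₁ b₂ hcomm]
  infer_instance

variable {X0 Y0 Yu0 Uu0 : Scheme.{u}} (f0 : X0 ⟶ Y0) (a0 : Yu0 ⟶ Y0) (q0 : Uu0 ⟶ X0)
  (π0 : Uu0 ⟶ Yu0) (hq : q0 ≫ f0 = π0 ≫ a0)

theorem isCF_Phi [IsFinite π0] [LocallyOfFinitePresentation π0] {B : Scheme.{u}} (β : B ⟶ Y0)
    [CompactSpace ↥(pullback a0 β)] [QuasiSeparatedSpace ↥(pullback a0 β)]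
    (W : ↥(pullback f0 β) → ℤ) (hW : IsCF W) : IsCF (Phi f0 a0 q0 π0 hq β W) := by
  haveI : LocallyOfFinitePresentation (πB a0 π0 β) := by unfold πB; infer_instance
  exact isCF_fibreIntegral (πB a0 π0 β) _ (hW.comp_hom (qB f0 a0 q0 π0 hq β))

end Groth.Agent.Helper15.WtLim
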