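import Groth.Agent.Lib.Helper15.UoLim1
import Groth.Agent.Lib.Helper15.UoLim3
import Groth.Agent.Lib.Helper15.WtLim5

/-!
# Universal openness of quasi-finite morphisms descends along limits of affine schemes
-/

set_option autoImplicit false
universe u
open CategoryTheory CategoryTheory.Limits AlgebraicGeometry

namespace Groth.Agent.Helper15.UoLim

open Groth.Agent.Helper15.Wt Groth.Agent.Helper15.WtLim Groth.Agent.Helper15.QfMulti

/-- **Affine case**: if the base change of a quasi-finite, finitely presented morphism of affine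
schemes to a cofiltered limit of affine schemes is universally open, so is its base change to some
member of the system. -/
theorem exists_universallyOpen_stage {I : Type u} [Category.{u} I] [IsCofiltered I]
    (D : I ⥤ Scheme.{u}) [∀ i, IsAffine (D.obj i)] (s : Cocone D) [IsAffine s.pt] (c : Cone D)
    (hc : IsLimit c) (θ : c.pt ⟶ s.pt) (hθ : ∀ i, c.π.app i ≫ s.ι.app i = θ)
    {X0 : Scheme.{u}} [IsAffine X0] (f0 : X0 ⟶ s.pt) [LocallyQuasiFinite f0]
    [LocallyOfFinitePresentation f0] [UniversallyOpen (pullback.snd f0 θ)] :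
    ∃ i : I, UniversallyOpen (pullback.snd f0 (s.ι.app i)) := by
  haveI := IsCofiltered.isConnected I
  obtain ⟨Yu0, Uu0, a0, q0, π0, hYu, hlfp, hfin, hp0, huniv⟩ := exists_universal_piece f0
  haveI := hYu
  haveI := hfin
  have hq : q0 ≫ f0 = π0 ≫ a0 := hp0.1
  haveI : LocallyOfFinitePresentation π0 := IsOpenPiece.lfp hp0
  haveI hcpt : IsAffine c.pt := Scheme.isAffine_of_isLimit c hc
  have hlim := cbConeIsLimit D s c a0 θ hθ hc
  -- the image at the limit is open and closed
  have hopenInf : IsOpen (Set.range (πB a0 π0 θ)) := isOpen_range_πB f0 a0 q0 π0 hq hp0 θ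
  have hclosedInf : IsClosed (Set.range (πB a0 π0 θ)) := (πB a0 π0 θ).isClosedMap.isClosed_range
  obtain ⟨i1⟩ := IsCofiltered.nonempty (C := I)
  haveI : LocallyOfFinitePresentation (πB a0 π0 (s.ι.app i1)) := by unfold πB; infer_instance
  have hT1 : Topology.IsConstructible (Set.range (πB a0 π0 (s.ι.app i1))) := by
    rw [← Set.image_univ]
    exact Scheme.Hom.isConstructible_image _ Topology.IsConstructible.univ
  have hpre : (cbCone D s c a0 θ hθ).π.app i1 ⁻¹' Set.range (πB a0 π0 (s.ι.app i1)) =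
      Set.range (πB a0 π0 θ) :=
    (range_πB_bcMap a0 π0 θ (s.ι.app i1) (c.π.app i1) (hθ i1)).symm
  obtain ⟨j, φ, hj⟩ := exists_isOpen_preimage (cbDiag D s a0) (cbCone D s c a0 θ hθ) hlim
    (Set.range (πB a0 π0 (s.ι.app i1))) hT1 (by rw [hpre]; exact hopenInf)
    (by rw [hpre]; exact hclosedInf.isCompact)
  have hj' : IsOpen (Set.range (πB a0 π0 (s.ι.app j))) := by
    rw [range_πB_bcMap a0 π0 (s.ι.app j) (s.ι.app i1) (D.map φ) (s.w φ)]
    exact hj
  refine ⟨j, universallyOpen_of_versal (pullback.snd f0 (s.ι.app j)) (πB a0 π0 (s.ι.app j))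
    ?_ hj'⟩
  intro V' B' b u₁ u₂ hV' hp hu₂
  obtain ⟨c', m', -, sq', -⟩ := versal_baseChange f0 a0 q0 π0 hq huniv (s.ι.app j) V' B' b u₁ u₂
    hV' hp hu₂
  exact ⟨c', m', sq'⟩

end Groth.Agent.Helper15.UoLim
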