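import Mathlib

/-!
# Quasi-finiteness at a point and base change
-/

set_option autoImplicit false
universe u
open CategoryTheory CategoryTheory.Limits AlgebraicGeometry

namespace Groth.Agent.Helper15.UoLim

variable {X Y X' Y' : Scheme.{u}} {f : X ⟶ Y} {f' : X' ⟶ Y'} {h : X' ⟶ X} {g : Y' ⟶ Y}

/-- Quasi-finiteness at a point ascends along base change. -/
theorem quasiFiniteAt_asc (sq : IsPullback h f' f g) [LocallyOfFiniteType f]
    (x' : X') (hx : f.QuasiFiniteAt (h x')) : f'.QuasiFiniteAt x' := by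
  let U : X.Opens := f.quasiFiniteLocus
  haveI : LocallyOfFiniteType (U.ι ≫ f) := inferInstance
  haveI : LocallyQuasiFinite (U.ι ≫ f) := by
    rw [← Scheme.Hom.quasiFiniteLocus_eq_top_iff, Scheme.Hom.quasiFiniteLocus_comp]
    ext z
    simp only [TopologicalSpace.Opens.map_coe, Set.mem_preimage, SetLike.mem_coe,
      TopologicalSpace.Opens.coe_top, Set.mem_univ, iff_true]
    exact z.2
  have sq' : IsPullback (h ∣_ U) ((h ⁻¹ᵁ U).ι ≫ f') (U.ι ≫ f) g :=
    (isPullback_morphismRestrict h U).paste_vert sq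
  haveI : LocallyQuasiFinite ((h ⁻¹ᵁ U).ι ≫ f') :=
    MorphismProperty.of_isPullback (P := @LocallyQuasiFinite) sq' inferInstance
  have hx'U : x' ∈ h ⁻¹ᵁ U := hx
  have := Scheme.Hom.quasiFiniteAt ((h ⁻¹ᵁ U).ι ≫ f') (⟨x', hx'U⟩ : (h ⁻¹ᵁ U).toScheme)
  rw [Scheme.Hom.quasiFiniteAt_comp_iff_of_isOpenImmersion] at this
  exact this

theorem isOpen_singleton_asFiber_of [LocallyOfFiniteType f] {x : X} {y : Y} (hy : f x = y)
    (z : f.fiber y) (hz : f.fiberι y z = x) (hopen : IsOpen ({z} : Set (f.fiber y))) :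
    f.QuasiFiniteAt x := by
  subst hy
  rw [Scheme.Hom.quasiFiniteAt_iff_isOpen_singleton_asFiber]
  have : z = f.asFiber x := by
    apply (f.fiberι (f x)).isEmbedding.injective
    rw [hz, Scheme.Hom.fiberι_asFiber]
  rw [← this]
  exact hopen

instance universallyOpen_SpecMap_field {K L : Type u} [Field K] [Field L]
    (φ : CommRingCat.of K ⟶ CommRingCat.of L) : UniversallyOpen (Spec.map φ) := by
  haveI : Subsingleton ↥(Spec (CommRingCat.of K)) :=
    inferInstanceAs (Subsingleton (PrimeSpectrum K))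
  infer_instance

/-- Quasi-finiteness at a point descends along base change. -/
theorem quasiFiniteAt_desc (sq : IsPullback h f' f g) [LocallyOfFiniteType f]
    [LocallyOfFiniteType f'] (x' : X') (hx' : f'.QuasiFiniteAt x') : f.QuasiFiniteAt (h x') := by
  rw [Scheme.Hom.quasiFiniteAt_iff_isOpen_singleton_asFiber] at hx'
  have sqφ := isPullback_fiberToSpecResidueField_of_isPullback sq (f' x')
  set φ : f'.fiber (f' x') ⟶ f.fiber (g (f' x')) :=
    pullback.map _ _ _ _ h (Spec.map (g.residueFieldMap (f' x'))) g sq.w.symm (by simp) with hφ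
  haveI : UniversallyOpen (Spec.map (g.residueFieldMap (f' x'))) :=
    universallyOpen_SpecMap_field _
  haveI : UniversallyOpen φ :=
    MorphismProperty.of_isPullback (P := @UniversallyOpen) sqφ.flip inferInstance
  have hopen : IsOpen (φ '' {f'.asFiber x'}) := φ.isOpenMap _ hx'
  rw [Set.image_singleton] at hopen
  have hy : f (h x') = g (f' x') := by
    rw [← Scheme.Hom.comp_apply, sq.w, Scheme.Hom.comp_apply]
  refine isOpen_singleton_asFiber_of hy (φ (f'.asFiber x')) ?_ hopen
  have hcomp : φ ≫ f.fiberι (g (f' x')) = f'.fiberι (f' x') ≫ h := pullback.lift_fst _ _ _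
  rw [← Scheme.Hom.comp_apply, hcomp, Scheme.Hom.comp_apply, Scheme.Hom.fiberι_asFiber]

end Groth.Agent.Helper15.UoLim
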