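import Groth.Agent.Lib.Helper15.UoLim1
import Groth.Agent.Lib.Helper15.UoLim5

/-!
# Base change of a morphism over a base, and descent of local quasi-finiteness along limits
-/

set_option autoImplicit false
universe u
open CategoryTheory CategoryTheory.Limits AlgebraicGeometry

namespace Groth.Agent.Helper15.UoLim

open Groth.Agent.Helper15.WtLim

section fB

variable {X₀ Y₀ S0 : Scheme.{u}} (f₀ : X₀ ⟶ Y₀) (g₀ : Y₀ ⟶ S0)

/-- The base change of `f₀ : X₀ ⟶ Y₀` (over `S0`) along `β : B ⟶ S0`. -/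
noncomputable def fB {B : Scheme.{u}} (β : B ⟶ S0) : pullback (f₀ ≫ g₀) β ⟶ pullback g₀ β :=
  pullback.map (f₀ ≫ g₀) β g₀ β f₀ (𝟙 B) (𝟙 S0) (by simp) (by simp)

@[reassoc (attr := simp)]
theorem fB_fst {B : Scheme.{u}} (β : B ⟶ S0) :
    fB f₀ g₀ β ≫ pullback.fst g₀ β = pullback.fst (f₀ ≫ g₀) β ≫ f₀ :=
  pullback.lift_fst _ _ _

@[reassoc (attr := simp)]
theorem fB_snd {B : Scheme.{u}} (β : B ⟶ S0) :
    fB f₀ g₀ β ≫ pullback.snd g₀ β = pullback.snd (f₀ ≫ g₀) β :=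
  (pullback.lift_snd _ _ _).trans (Category.comp_id _)

theorem isPullback_fB {B : Scheme.{u}} (β : B ⟶ S0) :
    IsPullback (pullback.fst (f₀ ≫ g₀) β) (fB f₀ g₀ β) f₀ (pullback.fst g₀ β) := by
  refine IsPullback.of_bot ?_ (fB_fst f₀ g₀ β).symm (IsPullback.of_hasPullback g₀ β)
  rw [fB_snd]
  exact IsPullback.of_hasPullback (f₀ ≫ g₀) β

theorem isPullback_fB_bcMap {B B' : Scheme.{u}} (β : B ⟶ S0) (β' : B' ⟶ S0) (t : B ⟶ B')
    (ht : t ≫ β' = β) :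
    IsPullback (bcMap (f₀ ≫ g₀) β β' t ht) (fB f₀ g₀ β) (fB f₀ g₀ β') (bcMap g₀ β β' t ht) := by
  have hcomm : bcMap (f₀ ≫ g₀) β β' t ht ≫ fB f₀ g₀ β' = fB f₀ g₀ β ≫ bcMap g₀ β β' t ht := by
    apply pullback.hom_ext
    · simp
    · simp
  refine IsPullback.of_right ?_ hcomm (isPullback_fB f₀ g₀ β')
  rw [bcMap_fst, bcMap_fst]
  exact isPullback_fB f₀ g₀ β

instance [LocallyOfFiniteType f₀] {B : Scheme.{u}} (β : B ⟶ S0) :
    LocallyOfFiniteType (fB f₀ g₀ β) :=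
  MorphismProperty.of_isPullback (P := @LocallyOfFiniteType) (isPullback_fB f₀ g₀ β) inferInstance

instance [LocallyOfFinitePresentation f₀] {B : Scheme.{u}} (β : B ⟶ S0) :
    LocallyOfFinitePresentation (fB f₀ g₀ β) :=
  MorphismProperty.of_isPullback (P := @LocallyOfFinitePresentation) (isPullback_fB f₀ g₀ β)
    inferInstance

end fB

/-- **Local quasi-finiteness descends** along cofiltered limits with affine transition maps. -/
theorem exists_locallyQuasiFinite_stage {I : Type u} [Category.{u} I] [IsCofiltered I]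
    (D : I ⥤ Scheme.{u}) [∀ {i j : I} (φ : i ⟶ j), IsAffineHom (D.map φ)] (s : Cocone D)
    [∀ i, IsAffineHom (s.ι.app i)] (c : Cone D) (hc : IsLimit c) (θ : c.pt ⟶ s.pt)
    (hθ : ∀ i, c.π.app i ≫ s.ι.app i = θ) {X₀ Y₀ : Scheme.{u}} (f₀ : X₀ ⟶ Y₀) (g₀ : Y₀ ⟶ s.pt)
    [CompactSpace X₀] [LocallyOfFiniteType f₀] [LocallyQuasiFinite (fB f₀ g₀ θ)] :
    ∃ i : I, LocallyQuasiFinite (fB f₀ g₀ (s.ι.app i)) := by
  haveI := IsCofiltered.isConnected I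
  haveI : ∀ {i j : I} (φ : i ⟶ j), IsAffineHom ((cbDiag D s (f₀ ≫ g₀)).map φ) :=
    fun φ => isAffineHom_cbDiag_map D s (f₀ ≫ g₀) φ
  haveI : ∀ i, CompactSpace ↥((cbDiag D s (f₀ ≫ g₀)).obj i) := fun i => by
    rw [cbDiag_obj]
    exact QuasiCompact.compactSpace_of_compactSpace (pullback.fst (f₀ ≫ g₀) (s.ι.app i))
  have hlim := cbConeIsLimit D s c (f₀ ≫ g₀) θ hθ hc
  obtain ⟨i0⟩ := IsCofiltered.nonempty (C := I)
  let L : (pullback (f₀ ≫ g₀) (s.ι.app i0)).Opens := (fB f₀ g₀ (s.ι.app i0)).quasiFiniteLocus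
  have hL : (cbCone D s c (f₀ ≫ g₀) θ hθ).π.app i0 ⁻¹ᵁ L = ⊤ := by
    rw [eq_top_iff]
    intro x _
    exact quasiFiniteAt_desc (isPullback_fB_bcMap f₀ g₀ θ (s.ι.app i0) (c.π.app i0) (hθ i0)) x
      ((fB f₀ g₀ θ).quasiFiniteAt x)
  obtain ⟨j, φ, hj⟩ := exists_map_eq_top (cbDiag D s (f₀ ≫ g₀)) (cbCone D s c (f₀ ≫ g₀) θ hθ)
    hlim L hL
  refine ⟨j, ?_⟩
  rw [← Scheme.Hom.quasiFiniteLocus_eq_top_iff, eq_top_iff]
  intro x _
  refine quasiFiniteAt_asc (isPullback_fB_bcMap f₀ g₀ (s.ι.app j) (s.ι.app i0) (D.map φ) (s.w φ))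
    x ?_
  have : x ∈ (cbDiag D s (f₀ ≫ g₀)).map φ ⁻¹ᵁ L := by rw [hj]; trivial
  exact this

end Groth.Agent.Helper15.UoLim
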