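import Groth.Agent.Lib.Helper15.UoLim3

/-!
# Localizing a base change on source and target
-/

set_option autoImplicit false
universe u
open CategoryTheory CategoryTheory.Limits AlgebraicGeometry

namespace Groth.Agent.Helper15.UoLim

open Groth.Agent.Helper15.WtLim

/-- Cancelling a monomorphism on the right of a universally open morphism. -/
theorem universallyOpen_of_comp_mono {A B C : Scheme.{u}} (f : A ⟶ B) (g : B ⟶ C) [Mono g]
    [UniversallyOpen (f ≫ g)] : UniversallyOpen f := by
  have sq : IsPullback (pullback.fst f (𝟙 B)) (pullback.snd f (𝟙 B)) (f ≫ g) (𝟙 B ≫ g) :=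
    IsPullback.of_isLimit (pullbackIsPullbackOfCompMono f (𝟙 B) g)
  haveI : UniversallyOpen (pullback.snd f (𝟙 B)) :=
    MorphismProperty.of_isPullback (P := @UniversallyOpen) sq inferInstance
  have h : f = inv (pullback.fst f (𝟙 B)) ≫ pullback.snd f (𝟙 B) := by
    rw [IsIso.eq_inv_comp, pullback.condition, Category.comp_id]
  rw [h]
  infer_instance

/-- Base change of a universally open projection. -/
theorem universallyOpen_snd_of_comp {X Y B B' : Scheme.{u}} (f : X ⟶ Y) (β : B ⟶ Y)
    (β' : B' ⟶ Y) (t : B ⟶ B') (ht : t ≫ β' = β) [UniversallyOpen (pullback.snd f β')] :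
    UniversallyOpen (pullback.snd f β) :=
  MorphismProperty.of_isPullback (P := @UniversallyOpen) (isPullback_bcMap f β β' t ht)
    inferInstance

section Loc

variable {X Y X' Y' U V : Scheme.{u}} {f : X ⟶ Y} {f' : X' ⟶ Y'} {h : X' ⟶ X} {g : Y' ⟶ Y}
  (sq : IsPullback h f' f g) (u : U ⟶ X) (v : V ⟶ Y) (fP : U ⟶ V) (hP : u ≫ f = fP ≫ v)

include hP in
theorem locLift_aux : (pullback.fst fP (pullback.fst v g) ≫ u) ≫ f =
    (pullback.snd fP (pullback.fst v g) ≫ pullback.snd v g) ≫ g := by
  rw [Category.assoc, hP, ← Category.assoc, pullback.condition, Category.assoc, Category.assoc,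
    pullback.condition]

/-- The comparison map from the localized base change. -/
noncomputable def locLift : pullback fP (pullback.fst v g) ⟶ X' :=
  sq.lift (pullback.fst fP (pullback.fst v g) ≫ u)
    (pullback.snd fP (pullback.fst v g) ≫ pullback.snd v g) (locLift_aux u v fP hP)

@[reassoc]
theorem locLift_fst : locLift sq u v fP hP ≫ h = pullback.fst fP (pullback.fst v g) ≫ u :=
  sq.lift_fst _ _ _

@[reassoc]
theorem locLift_snd : locLift sq u v fP hP ≫ f' =
    pullback.snd fP (pullback.fst v g) ≫ pullback.snd v g :=
  sq.lift_snd _ _ _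

theorem isPullback_locLift :
    IsPullback (locLift sq u v fP hP) (pullback.fst fP (pullback.fst v g)) h u := by
  have A : IsPullback (pullback.snd fP (pullback.fst v g)) (pullback.fst fP (pullback.fst v g))
      (pullback.fst v g) fP := (IsPullback.of_hasPullback fP (pullback.fst v g)).flip
  have B : IsPullback (pullback.snd v g) (pullback.fst v g) g v :=
    (IsPullback.of_hasPullback v g).flip
  have big : IsPullback (locLift sq u v fP hP ≫ f') (pullback.fst fP (pullback.fst v g)) g
      (u ≫ f) := by
    rw [locLift_snd, hP]
    exact A.paste_horiz B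
  exact IsPullback.of_right big (locLift_fst sq u v fP hP) sq.flip

instance [IsOpenImmersion u] : IsOpenImmersion (locLift sq u v fP hP) :=
  MorphismProperty.of_isPullback (P := @IsOpenImmersion) (isPullback_locLift sq u v fP hP).flip
    inferInstance

theorem range_locLift : Set.range (locLift sq u v fP hP) = h ⁻¹' Set.range u :=
  range_of_isPullback (isPullback_locLift sq u v fP hP).flip

include sq hP in
/-- If `f'` is universally open, so is the localized base change. -/
theorem universallyOpen_loc [IsOpenImmersion u] [IsOpenImmersion v] [UniversallyOpen f'] :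
    UniversallyOpen (pullback.snd fP (pullback.fst v g)) := by
  haveI : UniversallyOpen (pullback.snd fP (pullback.fst v g) ≫ pullback.snd v g) := by
    rw [← locLift_snd sq u v fP hP]
    infer_instance
  exact universallyOpen_of_comp_mono _ (pullback.snd v g)

/-- If the localized base change is universally open, so is `f'` on the corresponding open. -/
theorem universallyOpen_locLift_comp [IsOpenImmersion v]
    [UniversallyOpen (pullback.snd fP (pullback.fst v g))] :
    UniversallyOpen (locLift sq u v fP hP ≫ f') := by
  rw [locLift_snd]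
  infer_instance

end Loc

/-- Universal openness can be checked on a family of open immersions covering the source. -/
theorem universallyOpen_of_cover {X Y : Scheme.{u}} (f : X ⟶ Y) {ι : Type u}
    (W : ι → Scheme.{u}) (j : ∀ t, W t ⟶ X) (hj : ∀ t, IsOpenImmersion (j t))
    (hcov : ∀ x : X, ∃ t, x ∈ Set.range (j t)) (H : ∀ t, UniversallyOpen (j t ≫ f)) :
    UniversallyOpen f := by
  haveI := hj
  refine IsZariskiLocalAtSource.of_iSup_eq_top (P := @UniversallyOpen)
    (fun t => (j t).opensRange) ?_ (fun t => ?_)
  · rw [eq_top_iff]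
    intro x _
    obtain ⟨t, ht⟩ := hcov x
    exact TopologicalSpace.Opens.mem_iSup.2 ⟨t, ht⟩
  · have : (j t).opensRange.ι ≫ f = (j t).isoOpensRange.inv ≫ (j t ≫ f) := by
      rw [← Category.assoc, Scheme.Hom.isoOpensRange_inv_comp]
    rw [this]
    haveI := H t
    infer_instance

end Groth.Agent.Helper15.UoLim
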