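import Groth.Agent.Lib.Helper15.UoLim4
import Groth.Agent.Lib.Helper15.UoLim6
import Groth.Agent.Lib.Helper15.UoLim7

/-!
# Universal openness and local quasi-finiteness descend along limits
-/

set_option autoImplicit false
universe u
open CategoryTheory CategoryTheory.Limits AlgebraicGeometry

namespace Groth.Agent.Helper15.UoLim

open Groth.Agent.Helper15.WtLim

/-- The cocone on the restriction of a functor to `Over i1` with vertex the value at `i1`. -/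
def overCocone {I : Type u} [Category.{u} I] (F : I ⥤ Scheme.{u}) (i1 : I) :
    Cocone (Over.forget i1 ⋙ F) where
  pt := F.obj i1
  ι :=
    { app := fun ψ => F.map ψ.hom
      naturality := fun ψ ψ' ρ => by
        change F.map ρ.left ≫ F.map ψ'.hom = F.map ψ.hom ≫ 𝟙 _
        rw [← F.map_comp, Over.w, Category.comp_id] }

/-- The cocone of first projections on `cbDiag`. -/
noncomputable def fstCocone {I : Type u} [Category.{u} I] (D : I ⥤ Scheme.{u}) (s : Cocone D)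
    {T0 : Scheme.{u}} (a0 : T0 ⟶ s.pt) : Cocone (cbDiag D s a0) where
  pt := T0
  ι :=
    { app := fun i => pullback.fst a0 (s.ι.app i)
      naturality := fun i j φ => by
        change bcMap a0 (s.ι.app i) (s.ι.app j) (D.map φ) (s.w φ) ≫ pullback.fst a0 (s.ι.app j) =
          pullback.fst a0 (s.ι.app i) ≫ 𝟙 _
        rw [bcMap_fst, Category.comp_id] }

variable {I : Type u} [Category.{u} I] [IsCofiltered I] (D : I ⥤ Scheme.{u})
  [∀ {i j : I} (φ : i ⟶ j), IsAffineHom (D.map φ)] (s : Cocone D) (c : Cone D) (hc : IsLimit c)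
  (θ : c.pt ⟶ s.pt) (hθ : ∀ i, c.π.app i ≫ s.ι.app i = θ) {X₀ Y₀ : Scheme.{u}} (f₀ : X₀ ⟶ Y₀)
  (g₀ : Y₀ ⟶ s.pt)

include hc hθ in
/-- Descent of universal openness for an affine chart of the morphism at stage `i1`. -/
theorem exists_universallyOpen_chart [LocallyOfFinitePresentation f₀]
    [UniversallyOpen (fB f₀ g₀ θ)] (i1 : I) {U V : Scheme.{u}} [IsAffine U] [IsAffine V]
    (u : U ⟶ pullback (f₀ ≫ g₀) (s.ι.app i1)) (v : V ⟶ pullback g₀ (s.ι.app i1))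
    [IsOpenImmersion u] [IsOpenImmersion v] (fP : U ⟶ V)
    (hP : u ≫ fB f₀ g₀ (s.ι.app i1) = fP ≫ v) [LocallyQuasiFinite fP]
    [LocallyOfFinitePresentation fP] :
    ∃ ψ : Over i1, UniversallyOpen
      (pullback.snd fP (pullback.fst v ((cbDiag D s g₀).map ψ.hom))) := by
  haveI : ∀ {i j : I} (φ : i ⟶ j), IsAffineHom ((cbDiag D s g₀).map φ) :=
    fun φ => isAffineHom_cbDiag_map D s g₀ φ
  haveI := IsCofiltered.isConnected I
  haveI := IsCofiltered.isConnected (Over i1)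
  let D₂ : Over i1 ⥤ Scheme.{u} := Over.forget i1 ⋙ cbDiag D s g₀
  let s₂ : Cocone D₂ := overCocone (cbDiag D s g₀) i1
  let c₂ : Cone D₂ := (cbCone D s c g₀ θ hθ).whisker (Over.forget i1)
  have hc₂ : IsLimit c₂ := (Functor.Initial.isLimitWhiskerEquiv (Over.forget i1) _).symm
    (cbConeIsLimit D s c g₀ θ hθ hc)
  let θ₂ : c₂.pt ⟶ s₂.pt := (cbCone D s c g₀ θ hθ).π.app i1
  have hθ₂ : ∀ ψ, c₂.π.app ψ ≫ s₂.ι.app ψ = θ₂ := fun ψ => (cbCone D s c g₀ θ hθ).w ψ.hom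
  let D₃ : Over i1 ⥤ Scheme.{u} := cbDiag D₂ s₂ v
  let s₃ : Cocone D₃ := fstCocone D₂ s₂ v
  let c₃ : Cone D₃ := cbCone D₂ s₂ c₂ v θ₂ hθ₂
  have hc₃ : IsLimit c₃ := cbConeIsLimit D₂ s₂ c₂ v θ₂ hθ₂ hc₂
  let θ₃ : c₃.pt ⟶ s₃.pt := pullback.fst v θ₂
  have hθ₃ : ∀ ψ, c₃.π.app ψ ≫ s₃.ι.app ψ = θ₃ := fun ψ =>
    bcMap_fst v θ₂ (s₂.ι.app ψ) (c₂.π.app ψ) (hθ₂ ψ)
  haveI : ∀ ψ, IsAffine (D₃.obj ψ) := fun ψ => by
    have h1 : IsAffineHom (s₂.ι.app ψ) := isAffineHom_cbDiag_map D s g₀ ψ.hom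
    haveI : IsAffineHom (pullback.fst v (s₂.ι.app ψ)) :=
      MorphismProperty.pullback_fst (P := @IsAffineHom) _ _ h1
    exact @isAffine_of_isAffineHom _ _ (pullback.fst v (s₂.ι.app ψ)) this ‹IsAffine V›
  have hD₃ : ∀ ψ, IsAffine (D₃.obj ψ) := this
  have sq := isPullback_fB_bcMap f₀ g₀ θ (s.ι.app i1) (c.π.app i1) (hθ i1)
  have huo : UniversallyOpen (pullback.snd fP θ₃) := universallyOpen_loc sq u v fP hP
  obtain ⟨ψ, hψ⟩ := @exists_universallyOpen_stage (Over i1) inferInstance inferInstance D₃ hD₃ s₃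
    ‹IsAffine V› c₃ hc₃ θ₃ hθ₃ U ‹IsAffine U› fP ‹LocallyQuasiFinite fP›
    ‹LocallyOfFinitePresentation fP› huo
  exact ⟨ψ, hψ⟩

include hc hθ in
/-- **Local quasi-finiteness together with universal openness descends** along cofiltered limits
with affine transition maps. -/
theorem exists_stage [∀ i, IsAffineHom (s.ι.app i)] [CompactSpace X₀]
    [LocallyOfFinitePresentation f₀] [LocallyQuasiFinite (fB f₀ g₀ θ)]
    [UniversallyOpen (fB f₀ g₀ θ)] :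
    ∃ i : I, LocallyQuasiFinite (fB f₀ g₀ (s.ι.app i)) ∧
      UniversallyOpen (fB f₀ g₀ (s.ι.app i)) := by
  classical
  obtain ⟨i1, hi1⟩ := exists_locallyQuasiFinite_stage D s c hc θ hθ f₀ g₀
  haveI := hi1
  -- affine charts
  have key : ∀ x : ↥(pullback (f₀ ≫ g₀) (s.ι.app i1)),
      ∃ (U : (pullback (f₀ ≫ g₀) (s.ι.app i1)).Opens) (V : (pullback g₀ (s.ι.app i1)).Opens),
        IsAffineOpen U ∧ IsAffineOpen V ∧ x ∈ U ∧ U ≤ fB f₀ g₀ (s.ι.app i1) ⁻¹ᵁ V := by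
    intro x
    obtain ⟨_, ⟨V, hV, rfl⟩, hxV, -⟩ :=
      (pullback g₀ (s.ι.app i1)).isBasis_affineOpens.exists_subset_of_mem_open
        (Set.mem_univ (fB f₀ g₀ (s.ι.app i1) x)) isOpen_univ
    obtain ⟨_, ⟨U, hU, rfl⟩, hxU, hUV⟩ :=
      (pullback (f₀ ≫ g₀) (s.ι.app i1)).isBasis_affineOpens.exists_subset_of_mem_open hxV
        (fB f₀ g₀ (s.ι.app i1) ⁻¹ᵁ V).2
    exact ⟨U, V, hU, hV, hxU, hUV⟩
  choose U V hU hV hxU hUV using key
  haveI : ∀ x, IsAffine ((U x : (pullback (f₀ ≫ g₀) (s.ι.app i1)).Opens) : Scheme.{u}) := hU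
  haveI : ∀ x, IsAffine ((V x : (pullback g₀ (s.ι.app i1)).Opens) : Scheme.{u}) := hV
  let fP : ∀ x, (U x).toScheme ⟶ (V x).toScheme :=
    fun x => (fB f₀ g₀ (s.ι.app i1)).resLE (V x) (U x) (hUV x)
  have hP : ∀ x, (U x).ι ≫ fB f₀ g₀ (s.ι.app i1) = fP x ≫ (V x).ι :=
    fun x => (Scheme.Hom.resLE_comp_ι _ (hUV x)).symm
  haveI : ∀ x, LocallyQuasiFinite (fP x) := fun x => inferInstance
  haveI : ∀ x, LocallyOfFinitePresentation (fP x) := fun x =>
    IsZariskiLocalAtSource.resLE (P := @LocallyOfFinitePresentation) (hUV x) inferInstance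
  have step3 := fun x => exists_universallyOpen_chart D s c hc θ hθ f₀ g₀ i1 (U x).ι (V x).ι
    (fP x) (hP x)
  choose ψ hψ using step3
  -- finite subcover
  haveI : CompactSpace ↥(pullback (f₀ ≫ g₀) (s.ι.app i1)) :=
    QuasiCompact.compactSpace_of_compactSpace (pullback.fst (f₀ ≫ g₀) (s.ι.app i1))
  obtain ⟨F, hF⟩ := isCompact_univ.elim_finite_subcover
    (fun x => ((U x : (pullback (f₀ ≫ g₀) (s.ι.app i1)).Opens) :
      Set ↥(pullback (f₀ ≫ g₀) (s.ι.app i1))))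
    (fun x => (U x).isOpen) (fun x _ => Set.mem_iUnion.2 ⟨x, hxU x⟩)
  -- common refinement
  obtain ⟨ψ₀, hψ₀⟩ := IsCofiltered.inf_objs_exists (F.image ψ)
  have hρ : ∀ x ∈ F, Nonempty (ψ₀ ⟶ ψ x) := fun x hx => hψ₀ (Finset.mem_image_of_mem ψ hx)
  refine ⟨ψ₀.left, ?_, ?_⟩
  · exact MorphismProperty.of_isPullback (P := @LocallyQuasiFinite)
      (isPullback_fB_bcMap f₀ g₀ (s.ι.app ψ₀.left) (s.ι.app i1) (D.map ψ₀.hom) (s.w ψ₀.hom))
      inferInstance
  · have sq₀ := isPullback_fB_bcMap f₀ g₀ (s.ι.app ψ₀.left) (s.ι.app i1) (D.map ψ₀.hom)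
      (s.w ψ₀.hom)
    obtain ⟨gψ, hgψ⟩ : ∃ gψ : pullback g₀ (s.ι.app ψ₀.left) ⟶ pullback g₀ (s.ι.app i1),
        gψ = bcMap g₀ (s.ι.app ψ₀.left) (s.ι.app i1) (D.map ψ₀.hom) (s.w ψ₀.hom) := ⟨_, rfl⟩
    rw [← hgψ] at sq₀
    have huo : ∀ x : F, UniversallyOpen
        (pullback.snd (fP x.1) (pullback.fst (V x.1).ι gψ)) := by
      intro x
      obtain ⟨ρ⟩ := hρ x.1 x.2
      haveI := hψ x.1
      have hρw : (cbDiag D s g₀).map ρ.left ≫ (cbDiag D s g₀).map (ψ x.1).hom = gψ := by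
        rw [← Functor.map_comp, Over.w, hgψ]
        rfl
      exact universallyOpen_snd_of_comp (fP x.1)
        (pullback.fst (V x.1).ι gψ)
        (pullback.fst (V x.1).ι ((cbDiag D s g₀).map (ψ x.1).hom))
        (bcMap (V x.1).ι gψ ((cbDiag D s g₀).map (ψ x.1).hom)
          ((cbDiag D s g₀).map ρ.left) hρw)
        (bcMap_fst _ _ _ _ _)
    have hoi : ∀ x : F, IsOpenImmersion (locLift sq₀ (U x.1).ι (V x.1).ι (fP x.1) (hP x.1)) :=
      fun x => inferInstance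
    refine universallyOpen_of_cover (fB f₀ g₀ (s.ι.app ψ₀.left))
      (fun x : F => pullback (fP x.1) (pullback.fst (V x.1).ι gψ))
      (fun x : F => locLift sq₀ (U x.1).ι (V x.1).ι (fP x.1) (hP x.1)) hoi ?_ ?_
    · intro z
      have hz := hF (Set.mem_univ (bcMap (f₀ ≫ g₀) (s.ι.app ψ₀.left) (s.ι.app i1)
        (D.map ψ₀.hom) (s.w ψ₀.hom) z))
      simp only [Set.mem_iUnion, exists_prop] at hz
      obtain ⟨x, hxF, hzx⟩ := hz
      refine ⟨⟨x, hxF⟩, ?_⟩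
      rw [range_locLift]
      change _ ∈ Set.range (U x).ι
      rw [Scheme.Opens.range_ι]
      exact hzx
    · intro x
      haveI := huo x
      exact universallyOpen_locLift_comp sq₀ (U x.1).ι (V x.1).ι (fP x.1) (hP x.1)

end Groth.Agent.Helper15.UoLim
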