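import Mathlib
import Groth.Agent.Lib.Helper15.ValExist
import Groth.Agent.Lib.Helper15.ResidualSp

set_option autoImplicit false
universe u
open CategoryTheory CategoryTheory.Limits AlgebraicGeometry Opposite MorphismProperty
open AlgSp IsLocalRing

namespace Groth.Agent.Helper15.ValFinSep

open Groth.Agent.Helper15 Groth.Agent.Helper15.ValLift Groth.Agent.Helper15.ValExist

variable {S : Scheme.{u}}

/-- The residue field of a point of a scheme etale over a field is a finite separable extension. -/
theorem finite_separable_residueField_of_etale_over_field {W : Scheme.{u}} {K : Type u} [Field K]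
    (h : W ⟶ Spec (CommRingCat.of K)) [Etale h] (w : W) (ψ : K →+* W.residueField w)
    (hψ : Spec.map (CommRingCat.ofHom ψ) = W.fromSpecResidueField w ≫ h) :
    letI := ψ.toAlgebra
    Module.Finite K (W.residueField w) ∧ Algebra.IsSeparable K (W.residueField w) := by
  haveI : LocallyQuasiFinite h := locallyQuasiFinite_of_etale h
  haveI : DiscreteTopology W := discreteTopology_of_etale_over_field h
  haveI : IsClosedImmersion (W.fromSpecResidueField w) :=
    isClosed_singleton_iff_isClosedImmersion.1 (isClosed_discrete _)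
  haveI : IsOpenImmersion (W.fromSpecResidueField w) :=
    ResidualSp.isOpenImmersion_of_isClosedImmersion_of_etale_over_field _ h
  haveI : Etale (Spec.map (CommRingCat.ofHom ψ)) := by rw [hψ]; infer_instance
  have h1 : ψ.Etale :=
    (HasRingHomProperty.Spec_iff (P := @Etale) (φ := CommRingCat.ofHom ψ)).1 inferInstance
  algebraize [ψ]
  exact ⟨Algebra.FormallyUnramified.finite_of_free K _, Algebra.FormallyUnramified.isSeparable K _⟩

/-- **Tail lemma.** Given an affine etale chart of the base change to the valuation ring, and a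
specialization `u ⤳ u'` in it with `u` over the given `K`-point and `u'` over the closed point, there
is a finite separable dominating extension over which the square has a lift. -/
theorem exists_finSep_domExt {X Y : Sp S} (f : X ⟶ Y) (sq : ValSq f)
    (U : Over S) (a : (yon S).obj U ⟶ pullback f sq.bot) (hae : RepWith @Etale a)
    (σ : (yon S).obj sq.ptK ⟶ pullback f sq.bot)
    (hσ1 : σ ≫ pullback.fst f sq.bot = sq.top)
    (hσ2 : σ ≫ pullback.snd f sq.bot = (yon S).map sq.j)
    (g : U ⟶ sq.ptA) (hg : (yon S).map g = a ≫ pullback.snd f sq.bot)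
    (u u' : U.left) (huu' : u ⤳ u')
    (huK : Points.ofPt a u = Points.ofPt σ (closedPoint sq.K))
    (hgu' : g.left u' = closedPoint sq.A) :
    ∃ e : sq.DomExt, (letI := e.ψ.toAlgebra
      Module.Finite sq.K e.K' ∧ Algebra.IsSeparable sq.K e.K') ∧ e.HasLift := by
  have pb : IsPullback (pullback.fst f sq.bot) (pullback.snd f sq.bot) f sq.bot :=
    IsPullback.of_hasPullback _ _
  let ptK : sq.ptK.left := closedPoint sq.K
  -- the point of the fibre product
  obtain ⟨W, pW, qW, sqW⟩ : ∃ (W : Over S) (pW : W ⟶ U) (qW : W ⟶ sq.ptK),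
      IsPullback ((yon S).map pW) ((yon S).map qW) a σ := ⟨_, _, _, hae.rep.isPullback' σ⟩
  have hqW : Etale qW.left := hae.property σ _ _ sqW
  obtain ⟨w, hw1, -⟩ := exists_of_ofPt_eq sqW u ptK huK
  subst hw1
  -- the valuation ring
  obtain ⟨A', β, hβ1, hβ2⟩ := exists_valuationRing_of_specializes_field huu'
    (L := W.left.residueField w) (pW.left.residueFieldMap w)
  rw [Scheme.Hom.SpecMap_residueFieldMap_fromSpecResidueField] at hβ2
  let φA : sq.A →+* A' :=
    (Spec.preimage (β ≫ g.left : Spec (.of A') ⟶ Spec (.of sq.A))).hom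
  have hφA : Spec.map (CommRingCat.ofHom φA) = β ≫ g.left := Spec.map_preimage _
  let ψ : sq.K →+* W.left.residueField w :=
    (Spec.preimage (W.left.fromSpecResidueField w ≫ qW.left :
      Spec (.of (W.left.residueField w)) ⟶ Spec (.of sq.K))).hom
  have hψ : Spec.map (CommRingCat.ofHom ψ) = W.left.fromSpecResidueField w ≫ qW.left :=
    Spec.map_preimage _
  -- compatibility of the two projections of `W` over `Spec A`
  have hWcomm : pW ≫ g = qW ≫ sq.j := by
    apply (yon S).map_injective
    rw [Functor.map_comp, Functor.map_comp, hg, ← hσ2, ← Category.assoc, ← Category.assoc, sqW.w]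
  have hWcomm' : pW.left ≫ g.left = qW.left ≫ sq.j.left := by
    rw [← Over.comp_left, ← Over.comp_left, hWcomm]
  have hcomm : (algebraMap A' (W.left.residueField w)).comp φA =
      ψ.comp (algebraMap sq.A sq.K) := by
    have h1 : CommRingCat.ofHom ((algebraMap A' (W.left.residueField w)).comp φA) =
        CommRingCat.ofHom (ψ.comp (algebraMap sq.A sq.K)) := by
      apply Spec.map_injective
      have e1 : CommRingCat.ofHom ((algebraMap A' (W.left.residueField w)).comp φA) =
          CommRingCat.ofHom φA ≫ CommRingCat.ofHom (algebraMap A' (W.left.residueField w)) := rfl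
      have e2 : CommRingCat.ofHom (ψ.comp (algebraMap sq.A sq.K)) =
          CommRingCat.ofHom (algebraMap sq.A sq.K) ≫ CommRingCat.ofHom ψ := rfl
      rw [e1, e2, Spec.map_comp, Spec.map_comp, hφA, hψ,
        ← Category.assoc, hβ2, Category.assoc, hWcomm', Category.assoc]
      rfl
    exact congrArg CommRingCat.Hom.hom h1
  have hloc : IsLocalHom φA := by
    apply isLocalHom_of_specMap_closedPoint
    rw [hφA, Scheme.Hom.comp_apply, hβ1, hgu']
  let e : sq.DomExt :=
    { A' := A', K' := W.left.residueField w, φ := φA, ψ := ψ, comm := hcomm, isLocalHom := hloc }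
  refine ⟨e, ?_, ?_⟩
  · haveI := hqW
    exact finite_separable_residueField_of_etale_over_field (K := sq.K) qW.left w ψ hψ
  -- the lift
  have hwβ : β ≫ U.hom = Spec.map (CommRingCat.ofHom φA) ≫ sq.str := by
    rw [← Over.w g, ← Category.assoc, hφA]
    rfl
  let β' : e.ptA' ⟶ U := Over.homMk β hwβ
  have hβ'g : β' ≫ g = (Over.homMk (Spec.map (CommRingCat.ofHom e.φ)) rfl : e.ptA' ⟶ sq.ptA) := by
    ext
    exact hφA.symm
  -- the point `Spec K' ⟶ W`
  have hwρ : W.left.fromSpecResidueField w ≫ W.hom = e.ptK'.hom := by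
    change _ = Spec.map (CommRingCat.ofHom (algebraMap A' (W.left.residueField w))) ≫
      Spec.map (CommRingCat.ofHom φA) ≫ sq.str
    rw [← Over.w pW, ← Category.assoc, ← hβ2, Category.assoc, hwβ]
  let ρ : e.ptK' ⟶ W := Over.homMk (W.left.fromSpecResidueField w) hwρ
  have hρ1 : (Over.homMk (Spec.map (CommRingCat.ofHom (algebraMap e.A' e.K'))) rfl :
      e.ptK' ⟶ e.ptA') ≫ β' = ρ ≫ pW := by
    ext
    exact hβ2
  have hρ2 : ∀ (pf : Spec.map (CommRingCat.ofHom e.ψ) ≫ sq.ptK.hom = e.ptK'.hom),
      ρ ≫ qW = (Over.homMk (Spec.map (CommRingCat.ofHom e.ψ)) pf : e.ptK' ⟶ sq.ptK) := by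
    intro pf
    ext
    exact hψ.symm
  refine ⟨(yon S).map β' ≫ a ≫ pullback.fst f sq.bot, ?_, ?_⟩
  · rw [← Category.assoc, ← Functor.map_comp, hρ1, Functor.map_comp, Category.assoc,
      ← Category.assoc ((yon S).map pW), sqW.w, Category.assoc, hσ1, ← Category.assoc,
      ← Functor.map_comp, hρ2]
  · rw [Category.assoc, Category.assoc, pb.w, ← Category.assoc a, ← hg, ← Category.assoc,
      ← Functor.map_comp, hβ'g]

/-- If a valuative square of a morphism of algebraic spaces has a lift after some dominating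
extension, then it has one after a finite separable one. -/
theorem exists_finSep_of_hasLiftExt {X Y : Sp S} (hX : IsAlgSpace X) (hY : IsAlgSpace Y)
    (f : X ⟶ Y) (sq : ValSq f) (h : sq.HasLiftExt) :
    ∃ e : sq.DomExt, (letI := e.ψ.toAlgebra
      Module.Finite sq.K e.K' ∧ Algebra.IsSeparable sq.K e.K') ∧ e.HasLift := by
  obtain ⟨e₀, l, hl1, hl2⟩ := h
  have pb : IsPullback (pullback.fst f sq.bot) (pullback.snd f sq.bot) f sq.bot :=
    IsPullback.of_hasPullback _ _
  have hP : IsAlgSpace (pullback f sq.bot) :=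
    isAlgSpace_of_isPullback hY.diag hX (IsAlgSpace.yon_obj _) pb
  let σ : (yon S).obj sq.ptK ⟶ pullback f sq.bot := pb.lift sq.top ((yon S).map sq.j) sq.comm
  have hσ1 : σ ≫ pullback.fst f sq.bot = sq.top := pb.lift_fst _ _ _
  have hσ2 : σ ≫ pullback.snd f sq.bot = (yon S).map sq.j := pb.lift_snd _ _ _
  -- the `A'`-point of the base change
  let φ' : e₀.ptA' ⟶ sq.ptA := Over.homMk (Spec.map (CommRingCat.ofHom e₀.φ)) rfl
  let lam : (yon S).obj e₀.ptA' ⟶ pullback f sq.bot := pb.lift l ((yon S).map φ') hl2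
  have hlam1 : lam ≫ pullback.fst f sq.bot = l := pb.lift_fst _ _ _
  have hlam2 : lam ≫ pullback.snd f sq.bot = (yon S).map φ' := pb.lift_snd _ _ _
  let jK' : e₀.ptK' ⟶ e₀.ptA' :=
    Over.homMk (Spec.map (CommRingCat.ofHom (algebraMap e₀.A' e₀.K'))) rfl
  have hSpec : Spec.map (CommRingCat.ofHom (algebraMap e₀.A' e₀.K')) ≫
      Spec.map (CommRingCat.ofHom e₀.φ) =
      Spec.map (CommRingCat.ofHom e₀.ψ) ≫ Spec.map (CommRingCat.ofHom (algebraMap sq.A sq.K)) := by
    rw [← Spec.map_comp, ← Spec.map_comp, ← CommRingCat.ofHom_comp, ← CommRingCat.ofHom_comp,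
      e₀.comm]
  have hwψ : Spec.map (CommRingCat.ofHom e₀.ψ) ≫ sq.ptK.hom = e₀.ptK'.hom := by
    change Spec.map _ ≫ Spec.map _ ≫ _ = Spec.map _ ≫ Spec.map _ ≫ _
    rw [← Category.assoc, ← hSpec, Category.assoc]
  let ψ' : e₀.ptK' ⟶ sq.ptK := Over.homMk (Spec.map (CommRingCat.ofHom e₀.ψ)) hwψ
  have hjψ : jK' ≫ φ' = ψ' ≫ sq.j := by
    ext
    exact hSpec
  have hlamK : (yon S).map jK' ≫ lam = (yon S).map ψ' ≫ σ := by
    apply pb.hom_ext
    · rw [Category.assoc, hlam1, Category.assoc, hσ1]
      exact hl1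
    · rw [Category.assoc, hlam2, Category.assoc, hσ2, ← Functor.map_comp, ← Functor.map_comp,
        hjψ]
  -- the image of the closed point and a chart through it
  obtain ⟨U, hU, a, u', hae, hu'⟩ := exists_affine_etale_nbhd hP
    (Points.ofPt lam (closedPoint e₀.A'))
  obtain ⟨g, hg⟩ := (yon S).map_surjective (a ≫ pullback.snd f sq.bot)
  haveI hlocφ : IsLocalHom e₀.φ := e₀.isLocalHom
  have hgu' : g.left u' = closedPoint sq.A := by
    have h1 : Points.ofPt ((yon S).map g) u' = Points.ofScheme sq.ptA (closedPoint sq.A) := by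
      rw [hg, ← Points.map_ofPt, hu', Points.map_ofPt, hlam2, ofPt_yon_map]
      congr 1
      exact comap_closedPoint e₀.φ
    have h2 := congrArg (Points.toScheme sq.ptA) h1
    rw [Points.toScheme_ofPt] at h2
    rw [h2]
    exact (Points.schemeEquiv sq.ptA).left_inv _
  -- the fibre product of the chart with `Spec A'`
  obtain ⟨V, pV, qV, sqV⟩ : ∃ (V : Over S) (pV : V ⟶ U) (qV : V ⟶ e₀.ptA'),
      IsPullback ((yon S).map pV) ((yon S).map qV) a lam := ⟨_, _, _, hae.rep.isPullback' lam⟩
  haveI hqV : Etale qV.left := hae.property lam _ _ sqV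
  obtain ⟨v', hv'1, hv'2⟩ := exists_of_ofPt_eq sqV u' (closedPoint e₀.A') hu'
  -- a generalization of `v'` over the generic point
  have hgen : GeneralizingMap qV.left := Flat.generalizingMap qV.left
  have hsp : genPt e₀.A' ⤳ qV.left v' := by
    rw [hv'2]
    exact genPt_specializes e₀.A' _
  obtain ⟨v, hv1, hv2⟩ := hgen hsp
  have huu' : pV.left v ⤳ u' := by
    rw [← hv'1]
    exact hv1.map pV.left.continuous
  have huK : Points.ofPt a (pV.left v) = Points.ofPt σ (closedPoint sq.K) := by
    rw [← ofPt_comp_yon_map, sqV.w, ofPt_comp_yon_map, hv2]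
    have h3 : genPt e₀.A' = jK'.left (closedPoint e₀.K') :=
      (specMap_eq_genPt _ (IsFractionRing.injective e₀.A' e₀.K') _).symm
    rw [h3, ← ofPt_comp_yon_map, hlamK, ofPt_comp_yon_map]
    congr 1
    exact @Subsingleton.elim (Spec (CommRingCat.of sq.K)) inferInstance _ _
  exact exists_finSep_domExt f sq U a hae σ hσ1 hσ2 g hg (pV.left v) u' huu' huK hgu'

end Groth.Agent.Helper15.ValFinSep
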