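import Mathlib
import Groth.Prelude.Def_MoreMor

/-!
# Weightings: the geometric-point formula for fibre integrals
-/

set_option autoImplicit false
universe u
open CategoryTheory CategoryTheory.Limits AlgebraicGeometry

namespace Groth.Agent.Helper15.Wt

/-- The residue field extensions of a locally quasi-finite morphism are finite. -/
theorem finite_residueFieldMap {U V : Scheme.{u}} (π : U ⟶ V) [LocallyQuasiFinite π] (u : U) :
    (π.residueFieldMap u).hom.Finite := by
  have hq : (π.stalkMap u).hom.QuasiFinite := π.quasiFiniteAt u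
  algebraize [(π.stalkMap u).hom]
  -- `R = O_{V,π u}`, `S = O_{U,u}`
  let R := V.presheaf.stalk (π u)
  let S := U.presheaf.stalk u
  haveI : IsLocalHom (algebraMap R S) := inferInstanceAs (IsLocalHom (π.stalkMap u).hom)
  haveI : IsScalarTower R (IsLocalRing.ResidueField R) (IsLocalRing.ResidueField S) :=
    IsScalarTower.of_algebraMap_eq (fun r => rfl)
  haveI : Algebra.QuasiFinite R (IsLocalRing.ResidueField S) :=
    inferInstanceAs (Algebra.QuasiFinite R (S ⧸ IsLocalRing.maximalIdeal S))
  haveI : Algebra.QuasiFinite (IsLocalRing.ResidueField R) (IsLocalRing.ResidueField S) :=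
    Algebra.QuasiFinite.of_restrictScalars R _ _
  have : Module.Finite (IsLocalRing.ResidueField R) (IsLocalRing.ResidueField S) :=
    Module.Finite.of_quasiFinite
  exact RingHom.finite_algebraMap.2 this

variable {U V : Scheme.{u}}

/-- The closed point of the spectrum of a field. -/
noncomputable abbrev pt (Ω : Type u) [Field Ω] : Spec (CommRingCat.of Ω) := IsLocalRing.closedPoint Ω

/-- The lifts of a field-valued point along `π`. -/
def Lifts (π : U ⟶ V) {Ω : Type u} [Field Ω] (vb : Spec (CommRingCat.of Ω) ⟶ V) : Type u :=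
  {ub : Spec (CommRingCat.of Ω) ⟶ U // ub ≫ π = vb}

/-- The sum of `w` over the lifts of a field-valued point. -/
noncomputable def gInt (π : U ⟶ V) (w : U → ℤ) {Ω : Type u} [Field Ω]
    (vb : Spec (CommRingCat.of Ω) ⟶ V) : ℤ :=
  ∑ᶠ ub : Lifts π vb, w (ub.1 (pt Ω))

/-- The field homomorphism of a field-valued point. -/
noncomputable abbrev fieldHom {X : Scheme.{u}} {Ω : Type u} [Field Ω]
    (xb : Spec (CommRingCat.of Ω) ⟶ X) : X.residueField (xb (pt Ω)) ⟶ CommRingCat.of Ω :=
  Scheme.descResidueField (Scheme.stalkClosedPointTo xb)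

theorem fieldHom_congr {X : Scheme.{u}} {Ω : Type u} [Field Ω]
    {a b : Spec (CommRingCat.of Ω) ⟶ X} (e : a = b) :
    fieldHom a = (X.residueFieldCongr (congrArg (fun f => f (pt Ω)) e)).hom ≫ fieldHom b := by
  subst e
  simp

theorem fieldHom_comp (π : U ⟶ V) {Ω : Type u} [Field Ω] (ub : Spec (CommRingCat.of Ω) ⟶ U) :
    fieldHom (ub ≫ π) = π.residueFieldMap (ub (pt Ω)) ≫ fieldHom ub :=
  Scheme.descResidueField_stalkClosedPointTo_comp π ub

theorem fieldHom_fromSpec {X : Scheme.{u}} {Ω : Type u} [Field Ω]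
    (xb : Spec (CommRingCat.of Ω) ⟶ X) :
    Spec.map (fieldHom xb) ≫ X.fromSpecResidueField (xb (pt Ω)) = xb :=
  Scheme.descResidueField_stalkClosedPointTo_fromSpecResidueField Ω X xb

/-- The key compatibility for a lift. -/
theorem lift_key (π : U ⟶ V) {Ω : Type u} [Field Ω] {vb : Spec (CommRingCat.of Ω) ⟶ V}
    (ub : Spec (CommRingCat.of Ω) ⟶ U) (h : ub ≫ π = vb) (hu : π (ub (pt Ω)) = vb (pt Ω)) :
    π.residueFieldMap (ub (pt Ω)) ≫ fieldHom ub =
      (V.residueFieldCongr hu).hom ≫ fieldHom vb := by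
  rw [← fieldHom_comp, fieldHom_congr h]
  rfl

end Groth.Agent.Helper15.Wt
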