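import Groth.Agent.Lib.Helper15.Wt9

/-!
# Weightings: open pieces of fibre products
-/

set_option autoImplicit false
universe u
open CategoryTheory CategoryTheory.Limits AlgebraicGeometry

namespace Groth.Agent.Helper15.Wt

variable {X Y V B : Scheme.{u}}

/-- `B` maps to the fibre product `X ×_Y V` by an open immersion. -/
def IsOpenPiece (f : X ⟶ Y) (g : V ⟶ Y) (b₁ : B ⟶ X) (b₂ : B ⟶ V) : Prop :=
  ∃ hcomm : b₁ ≫ f = b₂ ≫ g, IsOpenImmersion (pullback.lift b₁ b₂ hcomm)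

theorem IsWeighting.flex'' {f : X ⟶ Y} {w : X → ℤ} (hw : MoreMor.IsWeighting f w)
    (g : V ⟶ Y) [Etale g] (b₁ : B ⟶ X) (b₂ : B ⟶ V) (hp : IsOpenPiece f g b₁ b₂) [IsFinite b₂] :
    IsLocallyConstant (MoreMor.fibreIntegral b₂ (fun b => w (b₁ b))) := by
  obtain ⟨hcomm, hoi⟩ := hp
  haveI := hoi
  exact IsWeighting.flex' hw g b₁ b₂ hcomm

theorem isOpenPiece_opens (f : X ⟶ Y) (g : V ⟶ Y) (U : (pullback f g).Opens) :
    IsOpenPiece f g (U.ι ≫ pullback.fst f g) (U.ι ≫ pullback.snd f g) := by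
  refine ⟨by rw [Category.assoc, Category.assoc, pullback.condition], ?_⟩
  have : pullback.lift (U.ι ≫ pullback.fst f g) (U.ι ≫ pullback.snd f g)
      (by rw [Category.assoc, Category.assoc, pullback.condition]) = U.ι := by
    apply pullback.hom_ext
    · rw [pullback.lift_fst]
    · rw [pullback.lift_snd]
  rw [this]
  infer_instance

theorem IsOpenPiece.sub {f : X ⟶ Y} {g : V ⟶ Y} {b₁ : B ⟶ X} {b₂ : B ⟶ V}
    (hp : IsOpenPiece f g b₁ b₂) (A : B.Opens) : IsOpenPiece f g (A.ι ≫ b₁) (A.ι ≫ b₂) := by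
  obtain ⟨hcomm, hoi⟩ := hp
  haveI := hoi
  refine ⟨by rw [Category.assoc, Category.assoc, hcomm], ?_⟩
  have : pullback.lift (A.ι ≫ b₁) (A.ι ≫ b₂)
      (by rw [Category.assoc, Category.assoc, hcomm]) = A.ι ≫ pullback.lift b₁ b₂ hcomm := by
    apply pullback.hom_ext
    · rw [pullback.lift_fst, Category.assoc, pullback.lift_fst]
    · rw [pullback.lift_snd, Category.assoc, pullback.lift_snd]
  rw [this]
  infer_instance

theorem IsOpenPiece.baseChange {f : X ⟶ Y} {g : V ⟶ Y} {b₁ : B ⟶ X} {b₂ : B ⟶ V}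
    (hp : IsOpenPiece f g b₁ b₂) {T₁ B₁ : Scheme.{u}} (g₁ : T₁ ⟶ V) (r₁ : B₁ ⟶ B) (r₂ : B₁ ⟶ T₁)
    (sq₁ : IsPullback r₁ r₂ b₂ g₁) : IsOpenPiece f (g₁ ≫ g) (r₁ ≫ b₁) r₂ := by
  obtain ⟨hcomm, hoi⟩ := hp
  haveI := hoi
  have hcomm' : (r₁ ≫ b₁) ≫ f = r₂ ≫ g₁ ≫ g := by
    rw [Category.assoc, hcomm, ← Category.assoc, sq₁.w, Category.assoc]
  refine ⟨hcomm', ?_⟩
  set j := pullback.lift b₁ b₂ hcomm with hj
  set m := pullback.lift (r₁ ≫ b₁) r₂ hcomm' with hm
  let n : pullback f (g₁ ≫ g) ⟶ pullback f g :=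
    pullback.lift (pullback.fst f (g₁ ≫ g)) (pullback.snd f (g₁ ≫ g) ≫ g₁)
      (by rw [pullback.condition, Category.assoc])
  have hn1 : n ≫ pullback.fst f g = pullback.fst f (g₁ ≫ g) := pullback.lift_fst _ _ _
  have hn2 : n ≫ pullback.snd f g = pullback.snd f (g₁ ≫ g) ≫ g₁ := pullback.lift_snd _ _ _
  have S2 : IsPullback n (pullback.snd f (g₁ ≫ g)) (pullback.snd f g) g₁ := by
    refine IsPullback.of_right ?_ hn2 (IsPullback.of_hasPullback f g)
    rw [hn1]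
    exact IsPullback.of_hasPullback f (g₁ ≫ g)
  have hcomm3 : r₁ ≫ j = m ≫ n := by
    apply pullback.hom_ext
    · rw [Category.assoc, Category.assoc, hn1, hj, hm, pullback.lift_fst, pullback.lift_fst]
    · rw [Category.assoc, Category.assoc, hn2, hj, hm, pullback.lift_snd, pullback.lift_snd_assoc,
        sq₁.w]
  have S3 : IsPullback r₁ m j n := by
    refine IsPullback.of_bot ?_ hcomm3 S2
    rw [hm, pullback.lift_snd, hj, pullback.lift_snd]
    exact sq₁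
  exact MorphismProperty.of_isPullback (P := @IsOpenImmersion) S3 inferInstance

theorem IsOpenPiece.res {f : X ⟶ Y} {g : V ⟶ Y} {b₁ : B ⟶ X} {b₂ : B ⟶ V}
    (hp : IsOpenPiece f g b₁ b₂) (O : X.Opens) (b₁' : B ⟶ (O : Scheme.{u}))
    (h : b₁' ≫ O.ι = b₁) : IsOpenPiece (O.ι ≫ f) g b₁' b₂ := by
  obtain ⟨hcomm, hoi⟩ := hp
  haveI := hoi
  have hcomm' : b₁' ≫ O.ι ≫ f = b₂ ≫ g := by rw [← Category.assoc, h, hcomm]
  refine ⟨hcomm', ?_⟩
  haveI := isOpenImmersion_pullback_lift_opens f O g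
  have : pullback.lift b₁' b₂ hcomm' ≫
      (pullback.lift (pullback.fst (O.ι ≫ f) g ≫ O.ι) (pullback.snd (O.ι ≫ f) g)
        (by rw [Category.assoc, pullback.condition]) : pullback (O.ι ≫ f) g ⟶ pullback f g) =
      pullback.lift b₁ b₂ hcomm := by
    apply pullback.hom_ext
    · rw [Category.assoc, pullback.lift_fst, pullback.lift_fst_assoc, pullback.lift_fst, h]
    · rw [Category.assoc, pullback.lift_snd, pullback.lift_snd, pullback.lift_snd]
  haveI : IsOpenImmersion (pullback.lift b₁' b₂ hcomm' ≫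
      (pullback.lift (pullback.fst (O.ι ≫ f) g ≫ O.ι) (pullback.snd (O.ι ≫ f) g)
        (by rw [Category.assoc, pullback.condition]) : pullback (O.ι ≫ f) g ⟶ pullback f g)) := by
    rw [this]; infer_instance
  exact IsOpenImmersion.of_comp _ (pullback.lift (pullback.fst (O.ι ≫ f) g ≫ O.ι)
    (pullback.snd (O.ι ≫ f) g) (by rw [Category.assoc, pullback.condition]))

end Groth.Agent.Helper15.Wt
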