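import Groth.Agent.Lib.Helper15.Wt11

/-!
# Weightings: locality on the source
-/

set_option autoImplicit false
universe u
open CategoryTheory CategoryTheory.Limits AlgebraicGeometry

namespace Groth.Agent.Helper15.Wt

open Groth.Agent.Helper15.QfMulti

theorem isLocallyConstant_finset_sum {T : Type*} [TopologicalSpace T] {ι : Type*} (J : Finset ι)
    (c : ι → T → ℤ) (hc : ∀ j ∈ J, IsLocallyConstant (c j)) :
    IsLocallyConstant (fun t => ∑ j ∈ J, c j t) := by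
  classical
  induction J using Finset.induction_on with
  | empty =>
    simp only [Finset.sum_empty]
    exact IsLocallyConstant.const (0 : ℤ)
  | insert j J' hj IH =>
    have h1 := hc j (Finset.mem_insert_self _ _)
    have h2 := IH (fun i hi => hc i (Finset.mem_insert_of_mem hi))
    have : (fun t => ∑ i ∈ insert j J', c i t) = c j + fun t => ∑ i ∈ J', c i t := by
      funext t
      rw [Finset.sum_insert hj]; rfl
    rw [this]
    exact h1.add h2

variable {X Y : Scheme.{u}}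

/-- The integral over a finite morphism split into pieces. -/
theorem fibreIntegral_eq_sum_pieces {U V T₁ U₁ : Scheme.{u}} (π : U ⟶ V) [IsFinite π]
    (W : U → ℤ) (g₁ : T₁ ⟶ V) (r₁ : U₁ ⟶ U) (r₂ : U₁ ⟶ T₁) (sq₁ : IsPullback r₁ r₂ π g₁)
    {ι : Type*} (J : Finset ι) (Vs : ι → U₁.Opens) (hfin : ∀ a ∈ J, IsFinite ((Vs a).ι ≫ r₂))
    (hdisj : ∀ a ∈ J, ∀ b ∈ J, a ≠ b → Disjoint (Vs a) (Vs b))
    (hcov : ∀ p : U₁, ∃ a ∈ J, p ∈ Vs a) (t : T₁) :
    MoreMor.fibreIntegral π W (g₁ t) =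
      ∑ a ∈ J, MoreMor.fibreIntegral ((Vs a).ι ≫ r₂) (fun q => W (r₁ ((Vs a).ι q))) t := by
  classical
  obtain ⟨Ω, _, _, tb, rfl⟩ := exists_geomPt t
  have h1 : MoreMor.fibreIntegral π W (g₁ (tb (pt Ω))) = gInt π W (tb ≫ g₁) :=
    fibreIntegral_eq_gInt π W (tb ≫ g₁) (Scheme.Hom.finite_preimage_singleton π _)
  rw [h1, ← gInt_baseChange sq₁ W tb, ← gIntOn_univ]
  have h2 : gIntOn r₂ (W ∘ r₁) Set.univ tb = gIntOn r₂ (W ∘ r₁) (⋃ a ∈ J, (Vs a : Set U₁)) tb := by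
    refine gIntOn_congr r₂ _ tb (fun ub => ⟨fun _ => ?_, fun _ => trivial⟩)
    obtain ⟨a, ha, hpa⟩ := hcov (ub.1 (pt Ω))
    exact Set.mem_biUnion ha hpa
  rw [h2, gIntOn_biUnion r₂ (W ∘ r₁) J (fun a => (Vs a : Set U₁)) tb]
  · refine Finset.sum_congr rfl (fun a ha => ?_)
    haveI := hfin a ha
    exact (fibreIntegral_opens r₂ (W ∘ r₁) (Vs a) tb).symm
  · intro a ha
    haveI := hfin a ha
    exact finite_liftsIn r₂ (Vs a) tb
  · intro a ha b hb hab
    rw [Function.onFun, Set.disjoint_left]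
    intro ub hua hub
    have hd := hdisj a ha b hb hab
    rw [← TopologicalSpace.Opens.coe_disjoint] at hd
    exact (Set.disjoint_left.1 hd) hua hub

/-- **Locality on the source**: a function which restricts to a weighting on each member of an
open cover is a weighting. -/
theorem IsWeighting.of_cover {f : X ⟶ Y} {w : X → ℤ} {ι : Type*}
    (𝒪 : ι → X.Opens) (hcov : ∀ x, ∃ i, x ∈ 𝒪 i)
    (h : ∀ i, MoreMor.IsWeighting ((𝒪 i).ι ≫ f) (fun a => w ((𝒪 i).ι a))) :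
    MoreMor.IsWeighting f w := by
  classical
  intro V g _ U hU
  haveI := hU
  rw [IsLocallyConstant.iff_exists_open]
  intro v
  have hfibfin : ((U.ι ≫ pullback.snd f g) ⁻¹' {v}).Finite :=
    Scheme.Hom.finite_preimage_singleton _ v
  let Fv : Finset U.toScheme := hfibfin.toFinset
  have hFv : ∀ a, a ∈ Fv ↔ (U.ι ≫ pullback.snd f g) a = v := fun a => hfibfin.mem_toFinset
  choose idx hidx using hcov
  let O : U.toScheme → U.toScheme.Opens :=
    fun a => (U.ι ≫ pullback.fst f g) ⁻¹ᵁ (𝒪 (idx (pullback.fst f g (U.ι a))))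
  obtain ⟨T₁, g₁, t₁, hg₁, hgt₁, -, U₁, r₁, r₂, sq₁, Vs, hVs, hdisj, hcover⟩ :=
    exists_split_family_sub (U.ι ≫ pullback.snd f g) v Fv (fun a ha => (hFv a).1 ha) O
      (fun a _ => hidx _)
  haveI := hg₁
  have hcov' := hcover inferInstance (fun a ha => (hFv a).2 ha)
  let W : U.toScheme → ℤ := fun u => w (pullback.fst f g (U.ι u))
  have hpiece : ∀ a ∈ Fv, IsLocallyConstant
      (MoreMor.fibreIntegral ((Vs a).ι ≫ r₂) (fun q => W (r₁ ((Vs a).ι q)))) := by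
    intro a ha
    obtain ⟨-, hfin, -, hsub⟩ := hVs a ha
    haveI := hfin
    have hp2 := ((isOpenPiece_opens f g U).baseChange g₁ r₁ r₂ sq₁).sub (Vs a)
    have hrange : Set.range ((Vs a).ι ≫ r₁ ≫ U.ι ≫ pullback.fst f g) ⊆
        Set.range (𝒪 (idx (pullback.fst f g (U.ι a)))).ι := by
      rintro _ ⟨q, rfl⟩
      rw [Scheme.Opens.range_ι]
      exact hsub _ q.2
    have hb₁' := IsOpenImmersion.lift_fac (𝒪 (idx (pullback.fst f g (U.ι a)))).ι _ hrange
    have hp3 := hp2.res _ _ hb₁'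
    have key := IsWeighting.flex'' (h _) (g₁ ≫ g) _ ((Vs a).ι ≫ r₂) hp3
    convert key using 2
    funext q
    change w (pullback.fst f g (U.ι (r₁ ((Vs a).ι q)))) = _
    have := congrArg (fun φ : ((Vs a : U₁.Opens) : Scheme.{u}) ⟶ X => w (φ q)) hb₁'
    exact this.symm
  have hsum := isLocallyConstant_finset_sum Fv
    (fun a => MoreMor.fibreIntegral ((Vs a).ι ≫ r₂) (fun q => W (r₁ ((Vs a).ι q)))) hpiece
  obtain ⟨N₁, hN₁o, ht₁N₁, hN₁⟩ := (IsLocallyConstant.iff_exists_open _).1 hsum t₁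
  have hformula : ∀ t : T₁, MoreMor.fibreIntegral (U.ι ≫ pullback.snd f g) W (g₁ t) =
      ∑ a ∈ Fv, MoreMor.fibreIntegral ((Vs a).ι ≫ r₂) (fun q => W (r₁ ((Vs a).ι q))) t :=
    fun t => fibreIntegral_eq_sum_pieces _ W g₁ r₁ r₂ sq₁ Fv Vs (fun a ha => (hVs a ha).2.1)
      hdisj hcov' t
  refine ⟨g₁ '' N₁, g₁.isOpenMap _ hN₁o, ⟨t₁, ht₁N₁, hgt₁⟩, ?_⟩
  rintro _ ⟨t, ht, rfl⟩
  change MoreMor.fibreIntegral (U.ι ≫ pullback.snd f g) W (g₁ t) =
    MoreMor.fibreIntegral (U.ι ≫ pullback.snd f g) W v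
  rw [← hgt₁, hformula, hformula]
  exact hN₁ t ht

end Groth.Agent.Helper15.Wt
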