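import Groth.Agent.Lib.Helper15.Wt13

/-!
# Weightings: positive weightings give open maps
-/

set_option autoImplicit false
universe u
open CategoryTheory CategoryTheory.Limits AlgebraicGeometry

namespace Groth.Agent.Helper15.Wt

open Groth.Agent.Helper15.QfMulti

variable {X Y : Scheme.{u}}

theorem fibreIntegral_eq_zero_of_empty {U V : Scheme.{u}} (π : U ⟶ V) (W : U → ℤ) (v : V)
    (h : ∀ u, π u ≠ v) : MoreMor.fibreIntegral π W v = 0 := by
  haveI : IsEmpty {u : U // π u = v} := ⟨fun u => h u.1 u.2⟩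
  unfold MoreMor.fibreIntegral
  exact finsum_of_isEmpty _

/-- The range of a locally quasi-finite morphism with a positive weighting is open. -/
theorem isOpen_range_of_pos (f : X ⟶ Y) [LocallyQuasiFinite f] [LocallyOfFiniteType f]
    (w : X → ℤ) (hw : MoreMor.IsWeighting f w) (hpos : ∀ x, 0 < w x) :
    IsOpen (Set.range f) := by
  classical
  rw [isOpen_iff_mem_nhds]
  rintro _ ⟨x, rfl⟩
  obtain ⟨_, ⟨(X₀ : X.Opens), hX₀, rfl⟩, hxX₀, -⟩ := X.isBasis_affineOpens.exists_subset_of_mem_open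
    (Set.mem_univ x) isOpen_univ
  haveI : IsAffine (X₀ : Scheme.{u}) := hX₀
  have hw₀ := IsWeighting.restrict hw X₀
  let x₀ : (X₀ : Scheme.{u}) := ⟨x, hxX₀⟩
  obtain ⟨T₁, g, t₁, hg, hgt, -, E₁, p₁, p₂, sq, B, -, hBfin, hB⟩ :=
    exists_split (X₀.ι ≫ f) ((X₀.ι ≫ f) x₀) {x₀} (by
      intro y hy; rw [Finset.mem_singleton.1 hy])
  haveI := hg
  haveI := hBfin
  haveI : LocallyQuasiFinite p₂ :=
    MorphismProperty.of_isPullback (P := @LocallyQuasiFinite) sq inferInstance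
  obtain ⟨p, hp1, hp2⟩ := Scheme.exists_preimage_of_isPullback sq x₀ t₁ hgt.symm
  have hpB : p ∈ B := (hB p hp2).2 (by rw [hp1]; exact Finset.mem_singleton_self _)
  let W : E₁ → ℤ := fun e => w (X₀.ι (p₁ e))
  have hlc : IsLocallyConstant (MoreMor.fibreIntegral (B.ι ≫ p₂) (fun b => W (B.ι b))) :=
    IsWeighting.flex hw₀ g p₁ p₂ sq B
  have hposI : 0 < MoreMor.fibreIntegral (B.ι ≫ p₂) (fun b => W (B.ι b)) (p₂ p) :=
    lt_of_lt_of_le (hpos _) (le_fibreIntegral_opens p₂ W B (fun q _ => (hpos _).le) p hpB)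
  obtain ⟨N₁, hN₁o, hN₁p, hN₁⟩ := (IsLocallyConstant.iff_exists_open _).1 hlc (p₂ p)
  have hopen : IsOpen (g '' N₁) := g.isOpenMap _ hN₁o
  refine Filter.mem_of_superset (hopen.mem_nhds ⟨p₂ p, hN₁p, ?_⟩) ?_
  · rw [hp2, hgt]; rfl
  · rintro _ ⟨t, ht, rfl⟩
    have h1 : 0 < MoreMor.fibreIntegral (B.ι ≫ p₂) (fun b => W (B.ι b)) t := by
      rw [hN₁ t ht]; exact hposI
    by_contra hcon
    have h2 : MoreMor.fibreIntegral (B.ι ≫ p₂) (fun b => W (B.ι b)) t = 0 := by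
      apply fibreIntegral_eq_zero_of_empty
      intro e he
      apply hcon
      refine ⟨X₀.ι (p₁ (B.ι e)), ?_⟩
      rw [← he]
      change (X₀.ι ≫ f) (p₁ (B.ι e)) = g ((B.ι ≫ p₂) e)
      rw [← Scheme.Hom.comp_apply, sq.w]
      rfl
    omega

/-- A locally quasi-finite morphism with a positive weighting is open. -/
theorem isOpenMap_of_pos (f : X ⟶ Y) [LocallyQuasiFinite f] [LocallyOfFiniteType f]
    (w : X → ℤ) (hw : MoreMor.IsWeighting f w) (hpos : ∀ x, 0 < w x) : IsOpenMap f := by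
  intro O hO
  let O' : X.Opens := ⟨O, hO⟩
  have h1 := isOpen_range_of_pos (O'.ι ≫ f) _
    (IsWeighting.restrict hw O') (fun a => hpos _)
  have h2 : Set.range (O'.ι ≫ f) = f '' O := by
    ext y
    constructor
    · rintro ⟨a, rfl⟩
      exact ⟨a.1, a.2, rfl⟩
    · rintro ⟨x, hx, rfl⟩
      exact ⟨⟨x, hx⟩, rfl⟩
  rw [← h2]
  exact h1

end Groth.Agent.Helper15.Wt
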