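import Groth.Agent.Lib.Helper15.Wt14

/-!
# Weightings: fibre integrals along compositions
-/

set_option autoImplicit false
universe u
open CategoryTheory CategoryTheory.Limits AlgebraicGeometry

namespace Groth.Agent.Helper15.Wt

variable {A T S : Scheme.{u}}

/-- Lifts along a composition are pairs of successive lifts. -/
noncomputable def liftsCompEquiv (φ : A ⟶ T) (ψ : T ⟶ S) {Ω : Type u} [Field Ω]
    (sb : Spec (CommRingCat.of Ω) ⟶ S) :
    Lifts (φ ≫ ψ) sb ≃ Σ tb : Lifts ψ sb, Lifts φ tb.1 where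
  toFun ub := ⟨⟨ub.1 ≫ φ, by rw [Category.assoc]; exact ub.2⟩, ⟨ub.1, rfl⟩⟩
  invFun x := ⟨x.2.1, by rw [← Category.assoc, x.2.2]; exact x.1.2⟩
  left_inv ub := rfl
  right_inv x := by
    obtain ⟨⟨tb, htb⟩, ⟨ub, hub⟩⟩ := x
    have hub' : ub ≫ φ = tb := hub
    subst hub'
    rfl

theorem fibreIntegral_congr_fibre {U V : Scheme.{u}} (π : U ⟶ V) (W W' : U → ℤ) (v : V)
    (h : ∀ u, π u = v → W u = W' u) :
    MoreMor.fibreIntegral π W v = MoreMor.fibreIntegral π W' v := by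
  unfold MoreMor.fibreIntegral
  refine finsum_congr (fun u => ?_)
  rw [h u.1 u.2]

theorem fibreIntegral_const_mul {U V : Scheme.{u}} (π : U ⟶ V) (W : U → ℤ) (n : ℤ) (v : V) :
    MoreMor.fibreIntegral π (fun u => n * W u) v = n * MoreMor.fibreIntegral π W v := by
  unfold MoreMor.fibreIntegral
  rw [mul_finsum]
  refine finsum_congr (fun u => ?_)
  rw [mul_assoc]

/-- **Fubini** for fibre integrals along finite morphisms. -/
theorem fibreIntegral_comp (φ : A ⟶ T) (ψ : T ⟶ S) [IsFinite φ] [IsFinite ψ] (w₁ : A → ℤ)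
    (w₂ : T → ℤ) (s : S) :
    MoreMor.fibreIntegral (φ ≫ ψ) (fun a => w₁ a * w₂ (φ a)) s =
      MoreMor.fibreIntegral ψ (fun t => w₂ t * MoreMor.fibreIntegral φ w₁ t) s := by
  classical
  obtain ⟨Ω, _, _, sb, rfl⟩ := exists_geomPt s
  rw [fibreIntegral_eq_gInt (φ ≫ ψ) _ sb (Scheme.Hom.finite_preimage_singleton _ _),
    fibreIntegral_eq_gInt ψ _ sb (Scheme.Hom.finite_preimage_singleton _ _)]
  haveI : Finite (Lifts (φ ≫ ψ) sb) := finite_lifts _ sb (Scheme.Hom.finite_preimage_singleton _ _)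
  haveI : Finite (Lifts ψ sb) := finite_lifts _ sb (Scheme.Hom.finite_preimage_singleton _ _)
  haveI : ∀ tb : Lifts ψ sb, Finite (Lifts φ tb.1) :=
    fun tb => finite_lifts _ tb.1 (Scheme.Hom.finite_preimage_singleton _ _)
  letI := Fintype.ofFinite (Lifts (φ ≫ ψ) sb)
  letI := Fintype.ofFinite (Lifts ψ sb)
  letI : ∀ tb : Lifts ψ sb, Fintype (Lifts φ tb.1) := fun tb => Fintype.ofFinite _
  unfold gInt
  rw [finsum_eq_sum_of_fintype, finsum_eq_sum_of_fintype,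
    ← (liftsCompEquiv φ ψ sb).symm.sum_comp, Fintype.sum_sigma]
  refine Finset.sum_congr rfl (fun tb _ => ?_)
  change _ = w₂ (tb.1 (pt Ω)) * MoreMor.fibreIntegral φ w₁ (tb.1 (pt Ω))
  rw [fibreIntegral_eq_gInt φ w₁ tb.1 (Scheme.Hom.finite_preimage_singleton _ _)]
  unfold gInt
  rw [finsum_eq_sum_of_fintype, Finset.mul_sum]
  refine Finset.sum_congr rfl (fun ub _ => ?_)
  change w₁ (ub.1 (pt Ω)) * w₂ (φ (ub.1 (pt Ω))) = w₂ (tb.1 (pt Ω)) * w₁ (ub.1 (pt Ω))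
  have : φ (ub.1 (pt Ω)) = tb.1 (pt Ω) := by
    rw [← Scheme.Hom.comp_apply, ub.2]
  rw [this, mul_comm]

theorem gIntOn_const_mul {P V : Scheme.{u}} (π : P ⟶ V) (W : P → ℤ) (c : P → ℤ) (n : ℤ)
    (B : Set P) (hc : ∀ p ∈ B, c p = n) {Ω : Type u} [Field Ω]
    (vb : Spec (CommRingCat.of Ω) ⟶ V) :
    gIntOn π (fun p => W p * c p) B vb = n * gIntOn π W B vb := by
  unfold gIntOn
  rw [mul_finsum_mem]
  refine finsum_mem_congr rfl (fun ub hub => ?_)
  change W (ub.1 (pt Ω)) * c (ub.1 (pt Ω)) = _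
  rw [hc _ hub, mul_comm]

/-- Integrating the product of a function with a locally constant function along a finite
morphism. -/
theorem isLocallyConstant_fibreIntegral_mul (ψ : T ⟶ S) [IsFinite ψ] (w₂ : T → ℤ) (c : T → ℤ)
    (hc : IsLocallyConstant c)
    (hw₂ : ∀ T' : T.Opens, IsClosed (T' : Set T) →
      IsLocallyConstant (MoreMor.fibreIntegral (T'.ι ≫ ψ) (fun t => w₂ (T'.ι t)))) :
    IsLocallyConstant (MoreMor.fibreIntegral ψ (fun t => w₂ t * c t)) := by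
  classical
  rw [IsLocallyConstant.iff_exists_open]
  intro s₁
  have hfibfin : (ψ ⁻¹' {s₁}).Finite := Scheme.Hom.finite_preimage_singleton ψ s₁
  let M : Finset ℤ := hfibfin.toFinset.image c
  let Tn : ℤ → T.Opens := fun n => ⟨c ⁻¹' {n}, hc.isOpen_fiber n⟩
  have hTn_closed : ∀ n, IsClosed (Tn n : Set T) := fun n => hc.isClosed_fiber n
  haveI : IsIso (⊤ : T.Opens).ι := by
    rw [← Scheme.topIso_hom]; infer_instance
  haveI : IsFinite ((⊤ : T.Opens).ι ≫ ψ) := inferInstance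
  haveI hTn_fin : ∀ n, IsFinite ((Tn n).ι ≫ ψ) := fun n =>
    isFinite_of_le_of_isClosed ψ (Tn n) ⊤ le_top (hTn_closed n)
  have hRclosed : IsClosed (c ⁻¹' ((M : Set ℤ)ᶜ)) := by
    rw [← isOpen_compl_iff, ← Set.preimage_compl]
    exact hc _
  have hC : IsClosed (ψ '' (c ⁻¹' ((M : Set ℤ)ᶜ))) := ψ.isClosedMap _ hRclosed
  have hs₁C : s₁ ∉ ψ '' (c ⁻¹' ((M : Set ℤ)ᶜ)) := by
    rintro ⟨t, ht, hts⟩
    apply ht
    exact Finset.mem_image.2 ⟨t, hfibfin.mem_toFinset.2 hts, rfl⟩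
  have hsum_lc : IsLocallyConstant (fun s => ∑ n ∈ M,
      n * MoreMor.fibreIntegral ((Tn n).ι ≫ ψ) (fun t => w₂ ((Tn n).ι t)) s) := by
    refine isLocallyConstant_finset_sum M _ (fun n _ => ?_)
    have h1 := hw₂ (Tn n) (hTn_closed n)
    have : (fun s => n * MoreMor.fibreIntegral ((Tn n).ι ≫ ψ) (fun t => w₂ ((Tn n).ι t)) s) =
        (fun z : ℤ => n * z) ∘ MoreMor.fibreIntegral ((Tn n).ι ≫ ψ) (fun t => w₂ ((Tn n).ι t)) := rfl
    rw [this]
    exact h1.comp _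
  obtain ⟨N₂, hN₂o, hs₁N₂, hN₂⟩ := (IsLocallyConstant.iff_exists_open _).1 hsum_lc s₁
  have hformula : ∀ s, s ∉ ψ '' (c ⁻¹' ((M : Set ℤ)ᶜ)) →
      MoreMor.fibreIntegral ψ (fun t => w₂ t * c t) s = ∑ n ∈ M,
        n * MoreMor.fibreIntegral ((Tn n).ι ≫ ψ) (fun t => w₂ ((Tn n).ι t)) s := by
    intro s hs
    obtain ⟨Ω, _, _, sb, rfl⟩ := exists_geomPt s
    rw [fibreIntegral_eq_gInt ψ _ sb (Scheme.Hom.finite_preimage_singleton _ _), ← gIntOn_univ]
    have h2 : gIntOn ψ (fun t => w₂ t * c t) Set.univ sb =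
        gIntOn ψ (fun t => w₂ t * c t) (⋃ n ∈ M, (Tn n : Set T)) sb := by
      refine gIntOn_congr ψ _ sb (fun ub => ⟨fun _ => ?_, fun _ => trivial⟩)
      by_contra hcon
      apply hs
      refine ⟨ub.1 (pt Ω), ?_, (Lifts.point ub).2⟩
      intro hM
      exact hcon (Set.mem_biUnion hM rfl)
    rw [h2, gIntOn_biUnion ψ _ M (fun n => (Tn n : Set T)) sb]
    · refine Finset.sum_congr rfl (fun n _ => ?_)
      rw [gIntOn_const_mul ψ w₂ c n (Tn n : Set T) (fun p hp => hp) sb,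
        fibreIntegral_opens ψ w₂ (Tn n) sb]
    · intro n _
      exact finite_liftsIn ψ (Tn n) sb
    · intro n _ n' _ hne
      rw [Function.onFun, Set.disjoint_left]
      intro ub h1 h2
      exact hne ((show c (ub.1 (pt Ω)) = n from h1).symm.trans h2)
  refine ⟨N₂ ∩ (ψ '' (c ⁻¹' ((M : Set ℤ)ᶜ)))ᶜ, hN₂o.inter hC.isOpen_compl, ⟨hs₁N₂, hs₁C⟩, ?_⟩
  rintro s ⟨hs1, hs2⟩
  rw [hformula s hs2, hformula s₁ hs₁C]
  exact hN₂ s hs1

end Groth.Agent.Helper15.Wt
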