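import Groth.Agent.Lib.Helper15.Wt15

/-!
# Weightings: more on open pieces
-/

set_option autoImplicit false
universe u
open CategoryTheory CategoryTheory.Limits AlgebraicGeometry

namespace Groth.Agent.Helper15.Wt

variable {X Y Z B : Scheme.{u}}

/-- An open piece of `X ×_Z S'` is an open piece of `X ×_Y Y'` for `Y' = Y ×_Z S'`. -/
theorem IsOpenPiece.assoc {f : X ⟶ Y} {g : Y ⟶ Z} {S' Y' : Scheme.{u}} {γ' : S' ⟶ Z}
    {η : Y' ⟶ Y} {e : Y' ⟶ S'} (sqY' : IsPullback η e g γ') {b₁ : B ⟶ X} {b₂ : B ⟶ S'}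
    (hp : IsOpenPiece (f ≫ g) γ' b₁ b₂) (a : B ⟶ Y') (ha1 : a ≫ η = b₁ ≫ f) (ha2 : a ≫ e = b₂) :
    IsOpenPiece f η b₁ a := by
  obtain ⟨hcomm, hoi⟩ := hp
  haveI := hoi
  refine ⟨ha1.symm, ?_⟩
  have sq : IsPullback (pullback.fst f η) (pullback.snd f η ≫ e) (f ≫ g) γ' :=
    (IsPullback.of_hasPullback f η).paste_vert sqY'
  have h1 : pullback.lift b₁ a ha1.symm ≫ sq.isoPullback.hom = pullback.lift b₁ b₂ hcomm := by
    apply pullback.hom_ext
    · rw [Category.assoc, sq.isoPullback_hom_fst, pullback.lift_fst, pullback.lift_fst]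
    · rw [Category.assoc, sq.isoPullback_hom_snd, pullback.lift_snd_assoc, pullback.lift_snd, ha2]
  haveI : IsOpenImmersion (pullback.lift b₁ a ha1.symm ≫ sq.isoPullback.hom) := by
    rw [h1]; infer_instance
  exact IsOpenImmersion.of_comp _ sq.isoPullback.hom

/-- Restricting the base of an open piece to an open subscheme containing its image. -/
theorem IsOpenPiece.resTarget {f : X ⟶ Y} {Y' : Scheme.{u}} {η : Y' ⟶ Y} {b₁ : B ⟶ X}
    {a : B ⟶ Y'} (hp : IsOpenPiece f η b₁ a) (T : Y'.Opens) (β : B ⟶ (T : Scheme.{u}))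
    (hβ : β ≫ T.ι = a) : IsOpenPiece f (T.ι ≫ η) b₁ β := by
  obtain ⟨hcomm, hoi⟩ := hp
  haveI := hoi
  have hcomm' : b₁ ≫ f = β ≫ T.ι ≫ η := by rw [← Category.assoc, hβ, hcomm]
  refine ⟨hcomm', ?_⟩
  let κ : pullback f (T.ι ≫ η) ⟶ pullback f η :=
    pullback.lift (pullback.fst f (T.ι ≫ η)) (pullback.snd f (T.ι ≫ η) ≫ T.ι)
      (by rw [pullback.condition, Category.assoc])
  have hκ1 : κ ≫ pullback.fst f η = pullback.fst f (T.ι ≫ η) := pullback.lift_fst _ _ _
  have hκ2 : κ ≫ pullback.snd f η = pullback.snd f (T.ι ≫ η) ≫ T.ι := pullback.lift_snd _ _ _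
  have sqκ : IsPullback (pullback.snd f (T.ι ≫ η)) κ T.ι (pullback.snd f η) := by
    refine IsPullback.of_bot ?_ hκ2.symm (IsPullback.of_hasPullback f η).flip
    rw [hκ1]
    exact (IsPullback.of_hasPullback f (T.ι ≫ η)).flip
  haveI : IsOpenImmersion κ := MorphismProperty.of_isPullback (P := @IsOpenImmersion) sqκ
    inferInstance
  have h1 : pullback.lift b₁ β hcomm' ≫ κ = pullback.lift b₁ a hcomm := by
    apply pullback.hom_ext
    · rw [Category.assoc, hκ1, pullback.lift_fst, pullback.lift_fst]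
    · rw [Category.assoc, hκ2, pullback.lift_snd_assoc, pullback.lift_snd, hβ]
  haveI : IsOpenImmersion (pullback.lift b₁ β hcomm' ≫ κ) := by
    rw [h1]; infer_instance
  exact IsOpenImmersion.of_comp _ κ

/-- The fibre product itself is an open piece. -/
theorem isOpenPiece_self (f : X ⟶ Y) {V : Scheme.{u}} (g : V ⟶ Y) :
    IsOpenPiece f g (pullback.fst f g) (pullback.snd f g) := by
  refine ⟨pullback.condition, ?_⟩
  have : pullback.lift (pullback.fst f g) (pullback.snd f g) pullback.condition = 𝟙 _ := by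
    apply pullback.hom_ext
    · rw [pullback.lift_fst, Category.id_comp]
    · rw [pullback.lift_snd, Category.id_comp]
  rw [this]
  infer_instance

/-- Codomain restriction of a weighting along a monomorphism. -/
theorem IsWeighting.of_comp_mono {Y₀ : Scheme.{u}} {f₀ : X ⟶ Y₀} (j : Y₀ ⟶ Y) [Mono j]
    [Etale j] {w : X → ℤ} (hw : MoreMor.IsWeighting (f₀ ≫ j) w) : MoreMor.IsWeighting f₀ w := by
  intro V g _ U hU
  haveI := hU
  have sq : IsPullback (pullback.fst f₀ g) (pullback.snd f₀ g) (f₀ ≫ j) (g ≫ j) :=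
    IsPullback.of_isLimit (pullbackIsPullbackOfCompMono f₀ g j)
  exact IsWeighting.flex hw (g ≫ j) _ _ sq U

end Groth.Agent.Helper15.Wt
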