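import Groth.Agent.Lib.Helper15.Wt16

/-!
# Weightings: composition, separated case
-/

set_option autoImplicit false
universe u
open CategoryTheory CategoryTheory.Limits AlgebraicGeometry

namespace Groth.Agent.Helper15.Wt

open Groth.Agent.Helper15.QfMulti

variable {X Y Z : Scheme.{u}}

theorem comp_sep (f : X ⟶ Y) (g : Y ⟶ Z) [LocallyQuasiFinite f] [LocallyOfFiniteType f]
    [IsSeparated f] [LocallyQuasiFinite g] [LocallyOfFiniteType g] [IsSeparated g]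
    (wf : X → ℤ) (wg : Y → ℤ) (hf : MoreMor.IsWeighting f wf) (hg : MoreMor.IsWeighting g wg) :
    MoreMor.IsWeighting (f ≫ g) (fun x => wf x * wg (f x)) := by
  classical
  intro S γ _ A hA
  haveI := hA
  rw [IsLocallyConstant.iff_exists_open]
  intro s₀
  let π₁ := pullback.fst (f ≫ g) γ
  let π₂ := pullback.snd (f ≫ g) γ
  let η₁ := pullback.fst g γ
  let η₂ := pullback.snd g γ
  have hαcomm : (A.ι ≫ π₁ ≫ f) ≫ g = (A.ι ≫ π₂) ≫ γ := by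
    simp only [Category.assoc]
    rw [← pullback.condition]
  let α : (A : Scheme.{u}) ⟶ pullback g γ := pullback.lift (A.ι ≫ π₁ ≫ f) (A.ι ≫ π₂) hαcomm
  have hα1 : α ≫ η₁ = A.ι ≫ π₁ ≫ f := pullback.lift_fst _ _ _
  have hα2 : α ≫ η₂ = A.ι ≫ π₂ := pullback.lift_snd _ _ _
  have hfibfin : ((A.ι ≫ π₂) ⁻¹' {s₀}).Finite := Scheme.Hom.finite_preimage_singleton _ s₀
  let Fy : Finset ↑(pullback g γ) := hfibfin.toFinset.image α
  obtain ⟨S₁, γ₁, s₁, hγ₁, hγs₁, -, Y₁, e₁, e₂, sqY, T, hTclosed, hTfin, hTfib⟩ :=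
    exists_split η₂ s₀ Fy (by
      intro y hy
      obtain ⟨a, ha, rfl⟩ := Finset.mem_image.1 hy
      rw [← Scheme.Hom.comp_apply, hα2]
      exact hfibfin.mem_toFinset.1 ha)
  haveI := hγ₁
  haveI := hTfin
  -- the base change of `A`
  let ρ₁ := pullback.fst (A.ι ≫ π₂) γ₁
  let ρ₂ := pullback.snd (A.ι ≫ π₂) γ₁
  have sqA : IsPullback ρ₁ ρ₂ (A.ι ≫ π₂) γ₁ := IsPullback.of_hasPullback _ _
  haveI : IsFinite ρ₂ := MorphismProperty.of_isPullback (P := @IsFinite) sqA inferInstance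
  have hα₁comm : (ρ₁ ≫ α) ≫ η₂ = ρ₂ ≫ γ₁ := by
    rw [Category.assoc, hα2, sqA.w]
  let α₁ : pullback (A.ι ≫ π₂) γ₁ ⟶ Y₁ := sqY.lift (ρ₁ ≫ α) ρ₂ hα₁comm
  have hα₁1 : α₁ ≫ e₁ = ρ₁ ≫ α := sqY.lift_fst _ _ _
  have hα₁2 : α₁ ≫ e₂ = ρ₂ := sqY.lift_snd _ _ _
  let A'' : (pullback (A.ι ≫ π₂) γ₁).Opens := α₁ ⁻¹ᵁ T
  have hA''closed : IsClosed (A'' : Set ↑(pullback (A.ι ≫ π₂) γ₁)) :=
    hTclosed.preimage α₁.continuous
  haveI : IsIso (⊤ : (pullback (A.ι ≫ π₂) γ₁).Opens).ι := by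
    rw [← Scheme.topIso_hom]; infer_instance
  haveI : IsFinite ((⊤ : (pullback (A.ι ≫ π₂) γ₁).Opens).ι ≫ ρ₂) := inferInstance
  haveI hA''fin : IsFinite (A''.ι ≫ ρ₂) := isFinite_of_le_of_isClosed ρ₂ A'' ⊤ le_top hA''closed
  -- the map to `T`
  have hβrange : Set.range (A''.ι ≫ α₁) ⊆ Set.range T.ι := by
    rintro _ ⟨a, rfl⟩
    rw [Scheme.Opens.range_ι]
    exact a.2
  let β : (A'' : Scheme.{u}) ⟶ (T : Scheme.{u}) := IsOpenImmersion.lift T.ι (A''.ι ≫ α₁) hβrange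
  have hβ : β ≫ T.ι = A''.ι ≫ α₁ := IsOpenImmersion.lift_fac _ _ _
  have hβψ : β ≫ (T.ι ≫ e₂) = A''.ι ≫ ρ₂ := by
    rw [← Category.assoc, hβ, Category.assoc, hα₁2]
  haveI : IsSeparated e₂ := MorphismProperty.of_isPullback (P := @IsSeparated) sqY inferInstance
  haveI : IsFinite β := by
    haveI : IsFinite (β ≫ (T.ι ≫ e₂)) := by rw [hβψ]; infer_instance
    exact MorphismProperty.of_postcomp (W := @IsFinite) (W' := @IsSeparated) β (T.ι ≫ e₂)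
      inferInstance inferInstance
  -- étale maps to `Y`
  haveI : Etale η₁ := MorphismProperty.of_isPullback (P := @Etale)
    (IsPullback.of_hasPullback g γ).flip inferInstance
  haveI : Etale e₁ := MorphismProperty.of_isPullback (P := @Etale) sqY.flip inferInstance
  -- the weight functions
  let b₁ : (A'' : Scheme.{u}) ⟶ X := A''.ι ≫ ρ₁ ≫ A.ι ≫ π₁
  let w₁ : A''.toScheme → ℤ := fun a => wf (b₁ a)
  let w₂ : T.toScheme → ℤ := fun t => wg ((T.ι ≫ e₁ ≫ η₁) t)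
  have hb₁f : b₁ ≫ f = β ≫ T.ι ≫ e₁ ≫ η₁ := by
    rw [← Category.assoc β, hβ]
    simp only [b₁, Category.assoc]
    rw [reassoc_of% hα₁1, hα1]
  -- open pieces
  have sqY₁ : IsPullback (e₁ ≫ η₁) e₂ g (γ₁ ≫ γ) := sqY.paste_horiz (IsPullback.of_hasPullback g γ)
  have hp1 : IsOpenPiece (f ≫ g) (γ₁ ≫ γ) b₁ (A''.ι ≫ ρ₂) := by
    have := ((isOpenPiece_opens (f ≫ g) γ A).baseChange γ₁ ρ₁ ρ₂ sqA).sub A''
    simpa only [b₁, Category.assoc] using this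
  have hp2 : IsOpenPiece f (e₁ ≫ η₁) b₁ (A''.ι ≫ α₁) :=
    hp1.assoc sqY₁ (A''.ι ≫ α₁) (by rw [← hβ, Category.assoc, hb₁f]) (by rw [Category.assoc, hα₁2])
  have hp3 : IsOpenPiece f (T.ι ≫ e₁ ≫ η₁) b₁ β := hp2.resTarget T β hβ
  have hc_lc : IsLocallyConstant (MoreMor.fibreIntegral β w₁) :=
    IsWeighting.flex'' hf (T.ι ≫ e₁ ≫ η₁) b₁ β hp3
  have hw₂ : ∀ T' : (T : Scheme.{u}).Opens, IsClosed (T' : Set (T : Scheme.{u})) →
      IsLocallyConstant (MoreMor.fibreIntegral (T'.ι ≫ T.ι ≫ e₂) (fun t => w₂ (T'.ι t))) := by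
    intro T' hT'
    haveI : IsIso (⊤ : (T : Scheme.{u}).Opens).ι := by
      rw [← Scheme.topIso_hom]; infer_instance
    haveI : IsFinite ((⊤ : (T : Scheme.{u}).Opens).ι ≫ T.ι ≫ e₂) := inferInstance
    haveI : IsFinite (T'.ι ≫ T.ι ≫ e₂) :=
      isFinite_of_le_of_isClosed (T.ι ≫ e₂) T' ⊤ le_top hT'
    have hq := (((isOpenPiece_self g γ).baseChange γ₁ e₁ e₂ sqY).sub T).sub T'
    have key := IsWeighting.flex'' hg (γ₁ ≫ γ) _ _ hq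
    simp only [Category.assoc] at key
    exact key
  have hLC := isLocallyConstant_fibreIntegral_mul (T.ι ≫ e₂) w₂ (MoreMor.fibreIntegral β w₁)
    hc_lc hw₂
  -- the closed set to avoid
  have hC : IsClosed (ρ₂ '' ((A'' : Set ↑(pullback (A.ι ≫ π₂) γ₁))ᶜ)) :=
    ρ₂.isClosedMap _ A''.2.isClosed_compl
  have hs₁C : s₁ ∉ ρ₂ '' ((A'' : Set ↑(pullback (A.ι ≫ π₂) γ₁))ᶜ) := by
    rintro ⟨a₁, ha₁, ha₁s⟩
    apply ha₁
    change α₁ a₁ ∈ T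
    have h1 : e₂ (α₁ a₁) = s₁ := by rw [← Scheme.Hom.comp_apply, hα₁2]; exact ha₁s
    refine (hTfib _ h1).2 ?_
    rw [← Scheme.Hom.comp_apply, hα₁1, Scheme.Hom.comp_apply]
    refine Finset.mem_image.2 ⟨ρ₁ a₁, ?_, rfl⟩
    rw [hfibfin.mem_toFinset]
    change (A.ι ≫ π₂) (ρ₁ a₁) = s₀
    rw [← Scheme.Hom.comp_apply, sqA.w, Scheme.Hom.comp_apply, ha₁s, hγs₁]
  obtain ⟨N₂, hN₂o, hs₁N₂, hN₂⟩ := (IsLocallyConstant.iff_exists_open _).1 hLC s₁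
  let Wfun : X → ℤ := fun x => wf x * wg (f x)
  have hformula : ∀ s : S₁, s ∉ ρ₂ '' ((A'' : Set ↑(pullback (A.ι ≫ π₂) γ₁))ᶜ) →
      MoreMor.fibreIntegral (A.ι ≫ π₂) (fun a => Wfun (π₁ (A.ι a))) (γ₁ s) =
        MoreMor.fibreIntegral (T.ι ≫ e₂) (fun t => w₂ t * MoreMor.fibreIntegral β w₁ t) s := by
    intro s hs
    have h1 := fibreIntegral_baseChange (A.ι ≫ π₂)
      (fun v => Scheme.Hom.finite_preimage_singleton _ v) ρ₂ ρ₁ γ₁ sqA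
      (fun a => Wfun (π₁ (A.ι a))) s
    rw [← h1]
    have h2 : MoreMor.fibreIntegral ρ₂ ((fun a => Wfun (π₁ (A.ι a))) ∘ ρ₁) s =
        MoreMor.fibreIntegral (A''.ι ≫ ρ₂)
          (fun a => ((fun a => Wfun (π₁ (A.ι a))) ∘ ρ₁) (A''.ι a)) s := by
      obtain ⟨Ω, _, _, sb, rfl⟩ := exists_geomPt s
      rw [fibreIntegral_eq_gInt ρ₂ _ sb (Scheme.Hom.finite_preimage_singleton _ _), ← gIntOn_univ,
        fibreIntegral_opens ρ₂ _ A'' sb]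
      refine gIntOn_congr ρ₂ _ sb (fun ub => ⟨fun _ => ?_, fun _ => trivial⟩)
      by_contra hcon
      exact hs ⟨ub.1 (pt Ω), hcon, (Lifts.point ub).2⟩
    rw [h2, ← fibreIntegral_comp β (T.ι ≫ e₂) w₁ w₂ s, hβψ]
    congr 1
    funext a
    change wf (b₁ a) * wg (f (b₁ a)) = wf (b₁ a) * wg ((T.ι ≫ e₁ ≫ η₁) (β a))
    rw [← Scheme.Hom.comp_apply, hb₁f]
    rfl
  refine ⟨γ₁ '' (N₂ ∩ (ρ₂ '' ((A'' : Set ↑(pullback (A.ι ≫ π₂) γ₁))ᶜ))ᶜ),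
    γ₁.isOpenMap _ (hN₂o.inter hC.isOpen_compl), ⟨s₁, ⟨hs₁N₂, hs₁C⟩, hγs₁⟩, ?_⟩
  rintro _ ⟨s, ⟨hs1, hs2⟩, rfl⟩
  change MoreMor.fibreIntegral (A.ι ≫ π₂) (fun a => Wfun (π₁ (A.ι a))) (γ₁ s) =
    MoreMor.fibreIntegral (A.ι ≫ π₂) (fun a => Wfun (π₁ (A.ι a))) s₀
  rw [← hγs₁, hformula s hs2, hformula s₁ hs₁C]
  exact hN₂ s hs1

end Groth.Agent.Helper15.Wt
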