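import Groth.Agent.Lib.Helper15.Wt1

/-!
# Weightings: counting lifts over a point, and the geometric-point formula
-/

set_option autoImplicit false
universe u
open CategoryTheory CategoryTheory.Limits AlgebraicGeometry

namespace Groth.Agent.Helper15.Wt

variable {U V : Scheme.{u}}

/-- The number of lifts of an algebraically closed point through a given point is the separable
degree of the residue field extension. -/
theorem card_lifts_over (π : U ⟶ V) [LocallyQuasiFinite π] {Ω : Type u} [Field Ω] [IsAlgClosed Ω]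
    (vb : Spec (CommRingCat.of Ω) ⟶ V) (u₀ : U) (hu₀ : π u₀ = vb (pt Ω)) :
    Nat.card {ub : Spec (CommRingCat.of Ω) ⟶ U // ub ≫ π = vb ∧ ub (pt Ω) = u₀} =
      (letI := (π.residueFieldMap u₀).hom.toAlgebra
       Field.finSepDegree (V.residueField (π u₀)) (U.residueField u₀)) := by
  letI := (π.residueFieldMap u₀).hom.toAlgebra
  letI : Algebra (V.residueField (π u₀)) Ω :=
    ((V.residueFieldCongr hu₀).hom ≫ fieldHom vb).hom.toAlgebra
  haveI : Module.Finite (V.residueField (π u₀)) (U.residueField u₀) := finite_residueFieldMap π u₀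
  haveI : Algebra.IsAlgebraic (V.residueField (π u₀)) (U.residueField u₀) :=
    Algebra.IsAlgebraic.of_finite _ _
  rw [Field.finSepDegree_eq_of_isAlgClosed _ _ Ω]
  symm
  let Φ : (U.residueField u₀ →ₐ[V.residueField (π u₀)] Ω) →
      {ub : Spec (CommRingCat.of Ω) ⟶ U // ub ≫ π = vb ∧ ub (pt Ω) = u₀} := fun φ =>
    ⟨Spec.map (CommRingCat.ofHom φ.toRingHom) ≫ U.fromSpecResidueField u₀, by
      constructor
      · rw [Category.assoc, ← Scheme.Hom.SpecMap_residueFieldMap_fromSpecResidueField,
          ← Spec.map_comp_assoc]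
        have : π.residueFieldMap u₀ ≫ CommRingCat.ofHom φ.toRingHom =
            (V.residueFieldCongr hu₀).hom ≫ fieldHom vb := by
          ext r
          exact φ.commutes r
        refine (congrArg (fun t => Spec.map t ≫ V.fromSpecResidueField (π u₀)) this).trans ?_
        dsimp only
        rw [Spec.map_comp, Category.assoc, Scheme.residueFieldCongr_fromSpecResidueField,
          fieldHom_fromSpec]
      · rw [Scheme.Hom.comp_apply, Scheme.fromSpecResidueField_apply]⟩
  refine Nat.card_congr (Equiv.ofBijective Φ ⟨?_, ?_⟩)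
  · intro a b hab
    have h1 : Spec.map (CommRingCat.ofHom a.toRingHom) ≫ U.fromSpecResidueField u₀ =
        Spec.map (CommRingCat.ofHom b.toRingHom) ≫ U.fromSpecResidueField u₀ :=
      congrArg Subtype.val hab
    rw [cancel_mono] at h1
    have h2 := Spec.map_injective h1
    ext r
    exact congr(($h2).hom r)
  · rintro ⟨ub, h1, h2⟩
    subst h2
    refine ⟨{ toRingHom := (fieldHom ub).hom
              commutes' := fun r => congr(($(lift_key π ub h1 hu₀)).hom r) }, ?_⟩
    exact Subtype.ext (fieldHom_fromSpec ub)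

/-- The point of a lift. -/
noncomputable def Lifts.point {π : U ⟶ V} {Ω : Type u} [Field Ω] {vb : Spec (CommRingCat.of Ω) ⟶ V}
    (ub : Lifts π vb) : {u : U // π u = vb (pt Ω)} :=
  ⟨ub.1 (pt Ω), congrArg (fun f => f (pt Ω)) ub.2⟩

theorem card_lifts_point (π : U ⟶ V) [LocallyQuasiFinite π] {Ω : Type u} [Field Ω] [IsAlgClosed Ω]
    (vb : Spec (CommRingCat.of Ω) ⟶ V) (u : {u : U // π u = vb (pt Ω)}) :
    Nat.card {ub : Lifts π vb // ub.point = u} =
      (letI := (π.residueFieldMap u.1).hom.toAlgebra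
       Field.finSepDegree (V.residueField (π u.1)) (U.residueField u.1)) := by
  rw [← card_lifts_over π vb u.1 u.2]
  refine Nat.card_congr ⟨fun x => ⟨x.1.1, x.1.2, congrArg Subtype.val x.2⟩,
    fun x => ⟨⟨x.1, x.2.1⟩, Subtype.ext x.2.2⟩, fun x => rfl, fun x => rfl⟩

theorem finite_lifts (π : U ⟶ V) [LocallyQuasiFinite π] {Ω : Type u} [Field Ω] [IsAlgClosed Ω]
    (vb : Spec (CommRingCat.of Ω) ⟶ V) (hfin : (π ⁻¹' {vb (pt Ω)}).Finite) :
    Finite (Lifts π vb) := by
  haveI : Finite {u : U // π u = vb (pt Ω)} := hfin.to_subtype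
  haveI : ∀ u : {u : U // π u = vb (pt Ω)}, Finite {ub : Lifts π vb // ub.point = u} := by
    intro u
    apply Nat.finite_of_card_ne_zero
    rw [card_lifts_point]
    letI := (π.residueFieldMap u.1).hom.toAlgebra
    haveI : Module.Finite (V.residueField (π u.1)) (U.residueField u.1) :=
      finite_residueFieldMap π u.1
    exact NeZero.ne _
  exact Finite.of_equiv _ (Equiv.sigmaFiberEquiv (Lifts.point (π := π) (vb := vb)))

/-- **The geometric-point formula** for the fibre integral. -/
theorem fibreIntegral_eq_gInt (π : U ⟶ V) [LocallyQuasiFinite π] (w : U → ℤ) {Ω : Type u} [Field Ω]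
    [IsAlgClosed Ω] (vb : Spec (CommRingCat.of Ω) ⟶ V) (hfin : (π ⁻¹' {vb (pt Ω)}).Finite) :
    MoreMor.fibreIntegral π w (vb (pt Ω)) = gInt π w vb := by
  classical
  haveI : Finite {u : U // π u = vb (pt Ω)} := hfin.to_subtype
  haveI := finite_lifts π vb hfin
  letI := Fintype.ofFinite {u : U // π u = vb (pt Ω)}
  letI := Fintype.ofFinite (Lifts π vb)
  unfold MoreMor.fibreIntegral gInt
  rw [finsum_eq_sum_of_fintype, finsum_eq_sum_of_fintype,
    ← Fintype.sum_fiberwise (Lifts.point (π := π) (vb := vb)) (fun ub => w (ub.1 (pt Ω)))]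
  refine Finset.sum_congr rfl (fun u _ => ?_)
  have h1 : ∀ ub : {ub : Lifts π vb // ub.point = u}, w (ub.1.1 (pt Ω)) = w u.1 := by
    rintro ⟨ub, rfl⟩
    rfl
  rw [Finset.sum_congr rfl (fun ub _ => h1 ub), Finset.sum_const, Finset.card_univ,
    ← Nat.card_eq_fintype_card, card_lifts_point, nsmul_eq_mul, mul_comm]

end Groth.Agent.Helper15.Wt
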