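import Groth.Agent.Lib.Helper15.Wt2

/-!
# Weightings: geometric points, base change of fibre integrals
-/

set_option autoImplicit false
universe u
open CategoryTheory CategoryTheory.Limits AlgebraicGeometry

namespace Groth.Agent.Helper15.Wt

variable {U V : Scheme.{u}}

/-- Every point is the image of an algebraically closed point (in the same universe). -/
theorem exists_geomPt (v : V) : ∃ (Ω : Type u) (_ : Field Ω) (_ : IsAlgClosed Ω)
    (vb : Spec (CommRingCat.of Ω) ⟶ V), vb (pt Ω) = v := by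
  refine ⟨AlgebraicClosure (V.residueField v), inferInstance, inferInstance,
    Spec.map (CommRingCat.ofHom (algebraMap (V.residueField v)
      (AlgebraicClosure (V.residueField v)))) ≫ V.fromSpecResidueField v, ?_⟩
  rw [Scheme.Hom.comp_apply, Scheme.fromSpecResidueField_apply]

/-- Every point of the fibre over an algebraically closed point is hit by a lift. -/
theorem exists_lift_through (π : U ⟶ V) [LocallyQuasiFinite π] {Ω : Type u} [Field Ω]
    [IsAlgClosed Ω] (vb : Spec (CommRingCat.of Ω) ⟶ V) (u₀ : U) (hu₀ : π u₀ = vb (pt Ω)) :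
    ∃ ub : Lifts π vb, ub.1 (pt Ω) = u₀ := by
  have h := card_lifts_over π vb u₀ hu₀
  letI := (π.residueFieldMap u₀).hom.toAlgebra
  haveI : Module.Finite (V.residueField (π u₀)) (U.residueField u₀) := finite_residueFieldMap π u₀
  have hne : Nat.card {ub : Spec (CommRingCat.of Ω) ⟶ U // ub ≫ π = vb ∧ ub (pt Ω) = u₀} ≠ 0 := by
    rw [h]; exact NeZero.ne _
  obtain ⟨⟨ub, h1, h2⟩⟩ := (Nat.card_ne_zero.1 hne).1
  exact ⟨⟨ub, h1⟩, h2⟩

/-- If the set of lifts is finite then so is the fibre. -/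
theorem finite_fibre_of_finite_lifts (π : U ⟶ V) [LocallyQuasiFinite π] {Ω : Type u} [Field Ω]
    [IsAlgClosed Ω] (vb : Spec (CommRingCat.of Ω) ⟶ V) [Finite (Lifts π vb)] :
    (π ⁻¹' {vb (pt Ω)}).Finite := by
  have hs : Function.Surjective (Lifts.point (π := π) (vb := vb)) := by
    rintro ⟨u₀, hu₀⟩
    obtain ⟨ub, hub⟩ := exists_lift_through π vb u₀ hu₀
    exact ⟨ub, Subtype.ext hub⟩
  haveI : Finite {u : U // π u = vb (pt Ω)} := Finite.of_surjective _ hs
  exact Set.finite_coe_iff.1 (inferInstanceAs (Finite {u : U // π u = vb (pt Ω)}))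

/-- Lifts along a base change. -/
noncomputable def liftsEquivOfIsPullback {U' V' : Scheme.{u}} {π : U ⟶ V} {π' : U' ⟶ V'}
    {h : U' ⟶ U} {g : V' ⟶ V} (hc : IsPullback h π' π g) {Ω : Type u} [Field Ω]
    (vb' : Spec (CommRingCat.of Ω) ⟶ V') : Lifts π' vb' ≃ Lifts π (vb' ≫ g) where
  toFun ub' := ⟨ub'.1 ≫ h, by rw [Category.assoc, hc.w, ← Category.assoc, ub'.2]⟩
  invFun ub := ⟨hc.lift ub.1 vb' ub.2, hc.lift_snd _ _ _⟩
  left_inv ub' := Subtype.ext (hc.hom_ext (by simp) (by simp [ub'.2]))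
  right_inv ub := Subtype.ext (hc.lift_fst _ _ _)

theorem gInt_baseChange {U' V' : Scheme.{u}} {π : U ⟶ V} {π' : U' ⟶ V'}
    {h : U' ⟶ U} {g : V' ⟶ V} (hc : IsPullback h π' π g) (w : U → ℤ) {Ω : Type u} [Field Ω]
    (vb' : Spec (CommRingCat.of Ω) ⟶ V') :
    gInt π' (w ∘ h) vb' = gInt π w (vb' ≫ g) := by
  unfold gInt
  rw [← finsum_comp_equiv (liftsEquivOfIsPullback hc vb')]
  rfl

/-- **Base change of fibre integrals.** -/
theorem fibreIntegral_baseChange {U' V' : Scheme.{u}} (π : U ⟶ V) [LocallyQuasiFinite π]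
    (hfin : ∀ v : V, (π ⁻¹' {v}).Finite) (π' : U' ⟶ V') (h : U' ⟶ U) (g : V' ⟶ V)
    (hc : IsPullback h π' π g) (w : U → ℤ) (v' : V') :
    MoreMor.fibreIntegral π' (w ∘ h) v' = MoreMor.fibreIntegral π w (g v') := by
  haveI : LocallyQuasiFinite π' :=
    MorphismProperty.of_isPullback (P := @LocallyQuasiFinite) hc inferInstance
  obtain ⟨Ω, _, _, vb', rfl⟩ := exists_geomPt v'
  have e1 : g (vb' (pt Ω)) = (vb' ≫ g) (pt Ω) := rfl
  haveI : Finite (Lifts π (vb' ≫ g)) := finite_lifts π _ (hfin _)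
  haveI : Finite (Lifts π' vb') := Finite.of_equiv _ (liftsEquivOfIsPullback hc vb').symm
  rw [fibreIntegral_eq_gInt π' _ vb' (finite_fibre_of_finite_lifts π' vb'), e1,
    fibreIntegral_eq_gInt π w (vb' ≫ g) (hfin _), gInt_baseChange hc]

end Groth.Agent.Helper15.Wt
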