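import Groth.Agent.Lib.Helper15.Wt3

/-!
# Weightings: integrals over open subschemes via lifts of geometric points
-/

set_option autoImplicit false
universe u
open CategoryTheory CategoryTheory.Limits AlgebraicGeometry

namespace Groth.Agent.Helper15.Wt

variable {P V : Scheme.{u}}

theorem eq_pt {Ω : Type u} [Field Ω] (z : Spec (CommRingCat.of Ω)) : z = pt Ω := by
  haveI : Subsingleton (PrimeSpectrum Ω) := inferInstance
  exact Subsingleton.elim (α := PrimeSpectrum Ω) z (pt Ω)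

/-- The set of lifts landing in a given set of points. -/
def liftsIn (π : P ⟶ V) {Ω : Type u} [Field Ω] (vb : Spec (CommRingCat.of Ω) ⟶ V) (A : Set P) :
    Set (Lifts π vb) := {ub | ub.1 (pt Ω) ∈ A}

/-- The sum of `W` over the lifts landing in `A`. -/
noncomputable def gIntOn (π : P ⟶ V) (W : P → ℤ) (A : Set P) {Ω : Type u} [Field Ω]
    (vb : Spec (CommRingCat.of Ω) ⟶ V) : ℤ :=
  ∑ᶠ ub ∈ liftsIn π vb A, W (ub.1 (pt Ω))

/-- Lifts to an open subscheme. -/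
noncomputable def liftsOpenEquiv (π : P ⟶ V) (A : P.Opens) {Ω : Type u} [Field Ω]
    (vb : Spec (CommRingCat.of Ω) ⟶ V) :
    Lifts (A.ι ≫ π) vb ≃ liftsIn π vb (A : Set P) where
  toFun ub' := ⟨⟨ub'.1 ≫ A.ι, by rw [Category.assoc]; exact ub'.2⟩, by
    change A.ι (ub'.1 (pt Ω)) ∈ A
    exact (ub'.1 (pt Ω)).2⟩
  invFun x := ⟨IsOpenImmersion.lift A.ι x.1.1 (by
      rintro _ ⟨z, rfl⟩
      rw [eq_pt z, Scheme.Opens.range_ι]
      exact x.2), by
    rw [← Category.assoc, IsOpenImmersion.lift_fac]; exact x.1.2⟩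
  left_inv ub' := Subtype.ext (by
    rw [← cancel_mono A.ι]
    simp [IsOpenImmersion.lift_fac])
  right_inv x := Subtype.ext (Subtype.ext (IsOpenImmersion.lift_fac _ _ _))

theorem finite_liftsIn (π : P ⟶ V) (A : P.Opens) [IsFinite (A.ι ≫ π)] {Ω : Type u} [Field Ω]
    [IsAlgClosed Ω] (vb : Spec (CommRingCat.of Ω) ⟶ V) : (liftsIn π vb (A : Set P)).Finite := by
  have hfin : ((A.ι ≫ π) ⁻¹' {vb (pt Ω)}).Finite :=
    (Scheme.Hom.finite_preimage_singleton (A.ι ≫ π) (vb (pt Ω)))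
  haveI := finite_lifts (A.ι ≫ π) vb hfin
  exact Set.finite_coe_iff.1 (Finite.of_equiv _ (liftsOpenEquiv π A vb))

/-- The fibre integral over an open subscheme finite over the base, via lifts. -/
theorem fibreIntegral_opens (π : P ⟶ V) (W : P → ℤ) (A : P.Opens) [IsFinite (A.ι ≫ π)]
    {Ω : Type u} [Field Ω] [IsAlgClosed Ω] (vb : Spec (CommRingCat.of Ω) ⟶ V) :
    MoreMor.fibreIntegral (A.ι ≫ π) (fun a => W (A.ι a)) (vb (pt Ω)) = gIntOn π W (A : Set P) vb := by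
  have hfin : ((A.ι ≫ π) ⁻¹' {vb (pt Ω)}).Finite :=
    (Scheme.Hom.finite_preimage_singleton (A.ι ≫ π) (vb (pt Ω)))
  rw [fibreIntegral_eq_gInt (A.ι ≫ π) _ vb hfin]
  unfold gInt gIntOn
  rw [← finsum_set_coe_eq_finsum_mem, ← finsum_comp_equiv (liftsOpenEquiv π A vb)]
  rfl

end Groth.Agent.Helper15.Wt

namespace Groth.Agent.Helper15.Wt

variable {P V : Scheme.{u}}

theorem gIntOn_congr (π : P ⟶ V) (W : P → ℤ) {A A' : Set P} {Ω : Type u} [Field Ω]
    (vb : Spec (CommRingCat.of Ω) ⟶ V)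
    (h : ∀ ub : Lifts π vb, ub.1 (pt Ω) ∈ A ↔ ub.1 (pt Ω) ∈ A') :
    gIntOn π W A vb = gIntOn π W A' vb := by
  have : liftsIn π vb A = liftsIn π vb A' := Set.ext h
  unfold gIntOn
  rw [this]

theorem gIntOn_union (π : P ⟶ V) (W : P → ℤ) {A B : Set P} {Ω : Type u} [Field Ω]
    (vb : Spec (CommRingCat.of Ω) ⟶ V) (hA : (liftsIn π vb A).Finite)
    (hB : (liftsIn π vb B).Finite) (hd : Disjoint (liftsIn π vb A) (liftsIn π vb B)) :
    gIntOn π W (A ∪ B) vb = gIntOn π W A vb + gIntOn π W B vb := by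
  unfold gIntOn
  have : liftsIn π vb (A ∪ B) = liftsIn π vb A ∪ liftsIn π vb B := rfl
  rw [this, finsum_mem_union hd hA hB]

theorem gIntOn_biUnion (π : P ⟶ V) (W : P → ℤ) {ι : Type*} (J : Finset ι) (B : ι → Set P)
    {Ω : Type u} [Field Ω] (vb : Spec (CommRingCat.of Ω) ⟶ V)
    (hfin : ∀ j ∈ J, (liftsIn π vb (B j)).Finite)
    (hd : (J : Set ι).PairwiseDisjoint (fun j => liftsIn π vb (B j))) :
    gIntOn π W (⋃ j ∈ J, B j) vb = ∑ j ∈ J, gIntOn π W (B j) vb := by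
  unfold gIntOn
  have : liftsIn π vb (⋃ j ∈ J, B j) = ⋃ j ∈ (J : Set ι), liftsIn π vb (B j) := by
    ext ub
    simp [liftsIn]
  rw [this, finsum_mem_biUnion hd J.finite_toSet hfin, finsum_mem_coe_finset]

theorem gIntOn_empty_of_forall (π : P ⟶ V) (W : P → ℤ) {A : Set P} {Ω : Type u} [Field Ω]
    (vb : Spec (CommRingCat.of Ω) ⟶ V) (h : ∀ ub : Lifts π vb, ub.1 (pt Ω) ∉ A) :
    gIntOn π W A vb = 0 := by
  have : liftsIn π vb A = ∅ := Set.eq_empty_iff_forall_notMem.2 h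
  unfold gIntOn
  rw [this, finsum_mem_empty]

theorem gIntOn_univ (π : P ⟶ V) (W : P → ℤ) {Ω : Type u} [Field Ω]
    (vb : Spec (CommRingCat.of Ω) ⟶ V) : gIntOn π W Set.univ vb = gInt π W vb := by
  unfold gIntOn gInt
  have : liftsIn π vb Set.univ = Set.univ := rfl
  rw [this, finsum_mem_univ]

theorem gIntOn_baseChange {P' V' : Scheme.{u}} {π : P ⟶ V} {π' : P' ⟶ V'}
    {q : P' ⟶ P} {ρ : V' ⟶ V} (hc : IsPullback q π' π ρ) (W : P → ℤ) (A : Set P)
    {Ω : Type u} [Field Ω] (vb' : Spec (CommRingCat.of Ω) ⟶ V') :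
    gIntOn π' (W ∘ q) (q ⁻¹' A) vb' = gIntOn π W A (vb' ≫ ρ) := by
  unfold gIntOn
  rw [← finsum_set_coe_eq_finsum_mem, ← finsum_set_coe_eq_finsum_mem]
  let e : liftsIn π' vb' (q ⁻¹' A) ≃ liftsIn π (vb' ≫ ρ) A :=
    (liftsEquivOfIsPullback hc vb').subtypeEquiv (fun ub' => Iff.rfl)
  rw [← finsum_comp_equiv e]
  rfl

/-- Monotonicity of the integral for nonnegative integrands on the difference. -/
theorem gIntOn_le (π : P ⟶ V) (W : P → ℤ) {A B : Set P} {Ω : Type u} [Field Ω]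
    (vb : Spec (CommRingCat.of Ω) ⟶ V) (hB : (liftsIn π vb B).Finite)
    (hsub : liftsIn π vb A ⊆ liftsIn π vb B)
    (hpos : ∀ ub ∈ liftsIn π vb B, ub ∉ liftsIn π vb A → 0 ≤ W (ub.1 (pt Ω))) :
    gIntOn π W A vb ≤ gIntOn π W B vb := by
  unfold gIntOn
  have hA : (liftsIn π vb A).Finite := hB.subset hsub
  have hD : (liftsIn π vb B \ liftsIn π vb A).Finite := hB.subset Set.sdiff_subset
  have e : liftsIn π vb B = liftsIn π vb A ∪ (liftsIn π vb B \ liftsIn π vb A) :=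
    (Set.union_sdiff_cancel hsub).symm
  rw [e, finsum_mem_union Set.disjoint_sdiff_right hA hD]
  have : 0 ≤ ∑ᶠ ub ∈ liftsIn π vb B \ liftsIn π vb A, W (ub.1 (pt Ω)) :=
    finsum_nonneg (fun ub => finsum_nonneg (fun hub => hpos ub hub.1 hub.2))
  linarith

/-- If the integrals agree and the integrand is positive on the difference, there is no
difference. -/
theorem liftsIn_eq_of_gIntOn_eq (π : P ⟶ V) (W : P → ℤ) {A B : Set P} {Ω : Type u} [Field Ω]
    (vb : Spec (CommRingCat.of Ω) ⟶ V) (hB : (liftsIn π vb B).Finite)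
    (hsub : liftsIn π vb A ⊆ liftsIn π vb B)
    (hpos : ∀ ub ∈ liftsIn π vb B, ub ∉ liftsIn π vb A → 0 < W (ub.1 (pt Ω)))
    (heq : gIntOn π W B vb ≤ gIntOn π W A vb) :
    liftsIn π vb B ⊆ liftsIn π vb A := by
  classical
  intro ub₀ hub₀
  by_contra hnot
  unfold gIntOn at heq
  have hA : (liftsIn π vb A).Finite := hB.subset hsub
  have hD : (liftsIn π vb B \ liftsIn π vb A).Finite := hB.subset Set.sdiff_subset
  have e : liftsIn π vb B = liftsIn π vb A ∪ (liftsIn π vb B \ liftsIn π vb A) :=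
    (Set.union_sdiff_cancel hsub).symm
  rw [e, finsum_mem_union Set.disjoint_sdiff_right hA hD] at heq
  have h0 : 0 < ∑ᶠ ub ∈ liftsIn π vb B \ liftsIn π vb A, W (ub.1 (pt Ω)) := by
    rw [finsum_mem_eq_finite_toFinset_sum _ hD]
    refine Finset.sum_pos (fun ub hub => ?_) ⟨ub₀, by simpa using ⟨hub₀, hnot⟩⟩
    have := (Set.Finite.mem_toFinset hD).1 hub
    exact hpos ub this.1 this.2
  linarith

/-- An open subscheme finite over the base of a separated morphism is closed. -/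
theorem isClosed_of_isFinite (π : P ⟶ V) [IsSeparated π] (A : P.Opens) [IsFinite (A.ι ≫ π)] :
    IsClosed (A : Set P) := by
  haveI : UniversallyClosed A.ι := UniversallyClosed.of_comp_of_isSeparated A.ι π
  have := A.ι.isClosedMap.isClosed_range
  rwa [Scheme.Opens.range_ι] at this

/-- The closed-image trick: a closed subset of a finite piece with no point over `v₀` has no
point over a neighbourhood of `v₀`. -/
theorem exists_nbhd_avoiding (π : P ⟶ V) (A : P.Opens) [IsFinite (A.ι ≫ π)] (Z : Set P)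
    (hZ : IsClosed Z) (v₀ : V) (h : ∀ p ∈ A, p ∈ Z → π p ≠ v₀) :
    ∃ N : V.Opens, v₀ ∈ N ∧ ∀ p ∈ A, p ∈ Z → π p ∉ N := by
  have hC : IsClosed ((A.ι ≫ π) '' (A.ι ⁻¹' Z)) :=
    (A.ι ≫ π).isClosedMap _ (hZ.preimage A.ι.continuous)
  refine ⟨⟨_, hC.isOpen_compl⟩, ?_, ?_⟩
  · rintro ⟨a, ha, hav⟩
    exact h (A.ι a) a.2 ha hav
  · intro p hpA hpZ hpN
    exact hpN ⟨⟨p, hpA⟩, hpZ, rfl⟩

end Groth.Agent.Helper15.Wt
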