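import Groth.Agent.Lib.Helper15.Wt4
import Groth.Agent.Lib.Helper15.QfMulti3

/-!
# Weightings: flexible form of the definition; the splitting of a whole fibre
-/

set_option autoImplicit false
universe u
open CategoryTheory CategoryTheory.Limits AlgebraicGeometry

namespace Groth.Agent.Helper15.Wt

open Groth.Agent.Helper15.QfMulti

variable {X Y : Scheme.{u}}

/-- The weighting condition for an arbitrary pullback square. -/
theorem IsWeighting.flex {f : X ⟶ Y} {w : X → ℤ} (hw : MoreMor.IsWeighting f w)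
    {V E₁ : Scheme.{u}} (g : V ⟶ Y) [Etale g] (p₁ : E₁ ⟶ X) (p₂ : E₁ ⟶ V)
    (sq : IsPullback p₁ p₂ f g) (B : E₁.Opens) [IsFinite (B.ι ≫ p₂)] :
    IsLocallyConstant (MoreMor.fibreIntegral (B.ι ≫ p₂) (fun b => w (p₁ (B.ι b)))) := by
  let e := sq.isoPullback
  have he1 : e.inv ≫ p₁ = pullback.fst f g := sq.isoPullback_inv_fst
  have he2 : e.inv ≫ p₂ = pullback.snd f g := sq.isoPullback_inv_snd
  let U : (pullback f g).Opens := e.inv ⁻¹ᵁ B
  have sqe : IsPullback e.inv (pullback.snd f g) p₂ (𝟙 V) :=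
    IsPullback.of_horiz_isIso ⟨by rw [he2, Category.comp_id]⟩
  haveI : IsFinite (U.ι ≫ pullback.snd f g) :=
    MorphismProperty.of_isPullback (P := @IsFinite)
      ((isPullback_morphismRestrict e.inv B).paste_vert sqe) inferInstance
  have key := hw V g U inferInstance
  have hfun : MoreMor.fibreIntegral (B.ι ≫ p₂) (fun b => w (p₁ (B.ι b))) =
      MoreMor.fibreIntegral (U.ι ≫ pullback.snd f g)
        (fun u => w (pullback.fst f g (U.ι u))) := by
    funext v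
    obtain ⟨Ω, _, _, vb, rfl⟩ := exists_geomPt v
    rw [fibreIntegral_opens p₂ (fun p => w (p₁ p)) B vb,
      fibreIntegral_opens (pullback.snd f g) (fun p => w (pullback.fst f g p)) U vb]
    have := gIntOn_baseChange sqe (fun p => w (p₁ p)) (B : Set E₁) vb
    rw [Category.comp_id] at this
    rw [← this]
    have hW : ((fun p => w (p₁ p)) ∘ e.inv) = fun p => w (pullback.fst f g p) := by
      funext p
      change w (p₁ (e.inv p)) = _
      rw [← Scheme.Hom.comp_apply, he1]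
    rw [hW]
    rfl
  rw [hfun]
  exact key

/-- Local constancy at a point can be tested after an open map. -/
theorem exists_nbhd_of_open_map {V₁ V : Type*} [TopologicalSpace V₁] [TopologicalSpace V]
    (φ : V₁ → V) (hφ : IsOpenMap φ) (F : V → ℤ) (c : ℤ) (v₁ : V₁)
    (h : ∃ N₁ : Set V₁, IsOpen N₁ ∧ v₁ ∈ N₁ ∧ ∀ t ∈ N₁, F (φ t) = c) :
    ∃ N : Set V, IsOpen N ∧ φ v₁ ∈ N ∧ ∀ v ∈ N, F v = c := by
  obtain ⟨N₁, hN₁, hv₁, hF⟩ := h
  refine ⟨φ '' N₁, hφ N₁ hN₁, ⟨v₁, hv₁, rfl⟩, ?_⟩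
  rintro _ ⟨t, ht, rfl⟩
  exact hF t ht

/-- The étale-local splitting of a whole fibre of a separated locally quasi-finite morphism with
finite fibres carrying a positive weighting. -/
theorem split_fibre (f : X ⟶ Y) [LocallyQuasiFinite f] [LocallyOfFiniteType f] [IsSeparated f]
    (hfin : ∀ y : Y, (f ⁻¹' {y}).Finite) (w : X → ℤ) (hw : MoreMor.IsWeighting f w)
    (hpos : ∀ x, 0 < w x) (y₀ : Y) :
    ∃ (T₁ : Scheme.{u}) (g : T₁ ⟶ Y) (t₁ : T₁) (E₁ : Scheme.{u}) (p₁ : E₁ ⟶ X) (p₂ : E₁ ⟶ T₁)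
      (_ : IsPullback p₁ p₂ f g) (B : E₁.Opens) (N₁ : T₁.Opens),
      Etale g ∧ g t₁ = y₀ ∧ t₁ ∈ N₁ ∧ IsFinite (B.ι ≫ p₂) ∧
      (∀ t ∈ N₁, MoreMor.fibreIntegral f w y₀ ≤ MoreMor.fibreIntegral f w (g t)) ∧
      (∀ t ∈ N₁, MoreMor.fibreIntegral f w (g t) ≤ MoreMor.fibreIntegral f w y₀ →
        ∀ p : E₁, p₂ p = t → p ∈ B) := by
  classical
  obtain ⟨T₁, g, t₁, hg, hgt, -, E₁, p₁, p₂, sq, B, -, hBfin, hB⟩ :=
    exists_split f y₀ (hfin y₀).toFinset (fun x hx => (Set.Finite.mem_toFinset (hfin y₀)).1 hx)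
  haveI := hg
  haveI := hBfin
  haveI : LocallyQuasiFinite p₂ :=
    MorphismProperty.of_isPullback (P := @LocallyQuasiFinite) sq inferInstance
  -- the integral over `B`
  set IB := MoreMor.fibreIntegral (B.ι ≫ p₂) (fun b => w (p₁ (B.ι b))) with hIB
  have hlc : IsLocallyConstant IB := IsWeighting.flex hw g p₁ p₂ sq B
  -- general facts at a geometric point
  have hLfin : ∀ {Ω : Type u} [Field Ω] [IsAlgClosed Ω] (tb : Spec (CommRingCat.of Ω) ⟶ T₁),
      Finite (Lifts p₂ tb) := by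
    intro Ω _ _ tb
    haveI : Finite (Lifts f (tb ≫ g)) := finite_lifts f _ (hfin _)
    exact Finite.of_equiv _ (liftsEquivOfIsPullback sq tb).symm
  have hall : ∀ {Ω : Type u} [Field Ω] [IsAlgClosed Ω] (tb : Spec (CommRingCat.of Ω) ⟶ T₁),
      gIntOn p₂ (fun p => w (p₁ p)) Set.univ tb = MoreMor.fibreIntegral f w (g (tb (pt Ω))) := by
    intro Ω _ _ tb
    rw [gIntOn_univ]
    have h1 := gInt_baseChange sq w tb
    have h2 := fibreIntegral_eq_gInt f w (tb ≫ g) (hfin _)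
    change gInt p₂ (w ∘ p₁) tb = _
    rw [h1, ← h2]
    rfl
  have hIBeq : ∀ {Ω : Type u} [Field Ω] [IsAlgClosed Ω] (tb : Spec (CommRingCat.of Ω) ⟶ T₁),
      IB (tb (pt Ω)) = gIntOn p₂ (fun p => w (p₁ p)) (B : Set E₁) tb := by
    intro Ω _ _ tb
    exact fibreIntegral_opens p₂ (fun p => w (p₁ p)) B tb
  have hle : ∀ {Ω : Type u} [Field Ω] [IsAlgClosed Ω] (tb : Spec (CommRingCat.of Ω) ⟶ T₁),
      IB (tb (pt Ω)) ≤ MoreMor.fibreIntegral f w (g (tb (pt Ω))) := by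
    intro Ω _ _ tb
    haveI := hLfin tb
    rw [hIBeq, ← hall]
    exact gIntOn_le p₂ _ tb (Set.toFinite _) (fun _ _ => trivial)
      (fun ub _ _ => (hpos _).le)
  -- at `t₁`
  have hIBt₁ : IB t₁ = MoreMor.fibreIntegral f w y₀ := by
    obtain ⟨Ω, _, _, tb, rfl⟩ := exists_geomPt t₁
    rw [hIBeq, ← hgt, ← hall]
    refine gIntOn_congr p₂ _ tb (fun ub => ⟨fun _ => trivial, fun _ => ?_⟩)
    have hp2 : p₂ (ub.1 (pt Ω)) = tb (pt Ω) := (Lifts.point ub).2
    refine (hB _ hp2).2 ?_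
    rw [Set.Finite.mem_toFinset]
    change f (p₁ (ub.1 (pt Ω))) = y₀
    rw [← Scheme.Hom.comp_apply, sq.w, Scheme.Hom.comp_apply, hp2, hgt]
  obtain ⟨N₁, hN₁o, ht₁N₁, hN₁⟩ := (IsLocallyConstant.iff_exists_open IB).1 hlc t₁
  refine ⟨T₁, g, t₁, E₁, p₁, p₂, sq, B, ⟨N₁, hN₁o⟩, hg, hgt, ht₁N₁, hBfin, ?_, ?_⟩
  · intro t ht
    obtain ⟨Ω, _, _, tb, rfl⟩ := exists_geomPt t
    rw [← hIBt₁, ← hN₁ _ ht]
    exact hle tb
  · intro t ht hle' p hp
    obtain ⟨Ω, _, _, tb, rfl⟩ := exists_geomPt t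
    haveI := hLfin tb
    have h1 : gIntOn p₂ (fun p => w (p₁ p)) Set.univ tb ≤
        gIntOn p₂ (fun p => w (p₁ p)) (B : Set E₁) tb := by
      rw [hall, ← hIBeq, hN₁ _ ht, hIBt₁]
      exact hle'
    have h2 := liftsIn_eq_of_gIntOn_eq p₂ _ tb (A := (B : Set E₁)) (B := Set.univ)
      (Set.toFinite _) (fun _ _ => trivial) (fun ub _ _ => hpos _) h1
    obtain ⟨ub, hub⟩ := exists_lift_through p₂ tb p hp
    have := h2 (Set.mem_univ ub)
    rw [← hub]
    exact this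

end Groth.Agent.Helper15.Wt
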