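import Groth.Agent.Lib.Helper15.Wt5

/-!
# Weightings: the family version of the étale splitting
-/

set_option autoImplicit false
universe u
open CategoryTheory CategoryTheory.Limits AlgebraicGeometry

namespace Groth.Agent.Helper15.Wt

open Groth.Agent.Helper15.QfMulti

/-- A closed open subset of an open finite over the base is finite over the base. -/
theorem isFinite_of_le_of_isClosed {E T : Scheme.{u}} (q : E ⟶ T) (A B : E.Opens) (hAB : A ≤ B)
    (hA : IsClosed (A : Set E)) [IsFinite (B.ι ≫ q)] : IsFinite (A.ι ≫ q) := by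
  haveI : IsClosedImmersion (E.homOfLE hAB) := by
    apply IsClosedImmersion.of_isPreimmersion
    have : Set.range (E.homOfLE hAB) = B.ι ⁻¹' (A : Set E) := by
      ext b
      constructor
      · rintro ⟨a, rfl⟩
        change B.ι (E.homOfLE hAB a) ∈ A
        rw [← Scheme.Hom.comp_apply, Scheme.homOfLE_ι]
        exact a.2
      · intro hb
        refine ⟨⟨b.1, hb⟩, ?_⟩
        apply B.ι.isOpenEmbedding.injective
        rw [← Scheme.Hom.comp_apply, Scheme.homOfLE_ι]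
        rfl
    rw [this]
    exact hA.preimage B.ι.continuous
  have : A.ι ≫ q = E.homOfLE hAB ≫ (B.ι ≫ q) := by
    rw [← Category.assoc, Scheme.homOfLE_ι]
  rw [this]
  infer_instance

/-- The family version of `exists_split`: one closed and open piece per point, pairwise
disjoint. -/
theorem exists_split_family {E T : Scheme.{u}} (φ : E ⟶ T) [IsSeparated φ] [LocallyOfFiniteType φ]
    [LocallyQuasiFinite φ] (t : T) (F : Finset E) (hF : ∀ x ∈ F, φ x = t) :
    ∃ (T₁ : Scheme.{u}) (g : T₁ ⟶ T) (t₁ : T₁), Etale g ∧ g t₁ = t ∧ FibInj g t₁ ∧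
      ∃ (E₁ : Scheme.{u}) (p₁ : E₁ ⟶ E) (p₂ : E₁ ⟶ T₁), IsPullback p₁ p₂ φ g ∧
      ∃ Vs : E → E₁.Opens, (∀ x ∈ F, IsClosed (Vs x : Set E₁) ∧ IsFinite ((Vs x).ι ≫ p₂) ∧
        ∀ p : E₁, p₂ p = t₁ → (p ∈ Vs x ↔ p₁ p = x)) ∧
        (∀ x ∈ F, ∀ y ∈ F, x ≠ y → Disjoint (Vs x) (Vs y)) := by
  classical
  induction F using Finset.induction_on with
  | empty =>
    exact ⟨T, 𝟙 T, t, inferInstance, rfl, fibInj_of_isOpenImmersion _ _, E, 𝟙 E, φ,
      IsPullback.id_horiz φ, fun _ => ⊥, by simp, by simp⟩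
  | insert x F' hx IH =>
    obtain ⟨T₁, g₁, t₁, hg₁, hgt₁, hfib₁, E₁, p₁, p₂, sq₁, Vs₁, hVs₁, hdisj₁⟩ :=
      IH (fun y hy => hF y (Finset.mem_insert_of_mem hy))
    haveI := hg₁
    have hxt : φ x = g₁ t₁ := by rw [hgt₁]; exact hF x (Finset.mem_insert_self _ _)
    obtain ⟨x', hx'1, hx'2⟩ := Scheme.exists_preimage_of_isPullback sq₁ x t₁ hxt
    haveI : IsSeparated p₂ := MorphismProperty.of_isPullback (P := @IsSeparated) sq₁ inferInstance
    haveI : LocallyOfFiniteType p₂ :=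
      MorphismProperty.of_isPullback (P := @LocallyOfFiniteType) sq₁ inferInstance
    haveI : LocallyQuasiFinite p₂ :=
      MorphismProperty.of_isPullback (P := @LocallyQuasiFinite) sq₁ inferInstance
    obtain ⟨T₂, g₂, t₂, hg₂, hgt₂, hfib₂, V₂, W₂, v₂, hcompl, hfin₂, hv₂1, hv₂2, huniq⟩ :=
      exists_etale_isCompl_unique p₂ hx'2 (p₂.quasiFiniteAt x')
    haveI := hg₂
    haveI := hfin₂
    have sq₂ := IsPullback.of_hasPullback p₂ g₂
    have hV₂W₂ : (V₂ : Set ↑(pullback p₂ g₂)) = (↑W₂)ᶜ :=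
      eq_compl_iff_isCompl.mpr (hcompl.map TopologicalSpace.Opens.frameHom)
    have hW₂V₂ : (W₂ : Set ↑(pullback p₂ g₂)) = (↑V₂)ᶜ := by rw [hV₂W₂, compl_compl]
    have hV₂closed : IsClosed (V₂ : Set ↑(pullback p₂ g₂)) := by
      rw [hV₂W₂]; exact W₂.2.isClosed_compl
    have hW₂closed : IsClosed (W₂ : Set ↑(pullback p₂ g₂)) := by
      rw [hW₂V₂]; exact V₂.2.isClosed_compl
    have e2 : ∀ p : ↑(pullback p₂ g₂), pullback.snd p₂ g₂ p = t₂ →
        (p ∈ V₂ ↔ p₁ (pullback.fst p₂ g₂ p) = x) := by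
      intro p hp
      have hp1 : p₂ (pullback.fst p₂ g₂ p) = t₁ := by
        rw [← Scheme.Hom.comp_apply, pullback.condition, Scheme.Hom.comp_apply, hp, hgt₂]
      constructor
      · intro hpV
        rw [huniq p hpV hp, hv₂1, hx'1]
      · intro hpx
        have h3 : pullback.fst p₂ g₂ p = x' :=
          hfib₁ φ p₁ p₂ sq₁ _ _ hp1 hx'2 (by rw [hpx, hx'1])
        have h4 : p = v₂.1 := hfib₂ p₂ _ _ sq₂ p v₂.1 hp hv₂2 (by rw [h3, hv₂1])
        rw [h4]
        exact v₂.2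
    let Vs' : E → (pullback p₂ g₂).Opens :=
      fun y => if y = x then V₂ else (pullback.fst p₂ g₂) ⁻¹ᵁ (Vs₁ y) ⊓ W₂
    have hVs'x : Vs' x = V₂ := if_pos rfl
    have hVs'y : ∀ y, y ≠ x → Vs' y = (pullback.fst p₂ g₂) ⁻¹ᵁ (Vs₁ y) ⊓ W₂ := fun y hy => if_neg hy
    refine ⟨T₂, g₂ ≫ g₁, t₂, inferInstance, ?_, hfib₂.comp hfib₁ hgt₂, pullback p₂ g₂,
      pullback.fst p₂ g₂ ≫ p₁, pullback.snd p₂ g₂, sq₂.paste_horiz sq₁, Vs', ?_, ?_⟩
    · rw [Scheme.Hom.comp_apply, hgt₂, hgt₁]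
    · intro y hy
      rcases Finset.mem_insert.1 hy with rfl | hy'
      · rw [hVs'x]
        exact ⟨hV₂closed, hfin₂, e2⟩
      · have hyx : y ≠ x := fun h => hx (h ▸ hy')
        rw [hVs'y y hyx]
        obtain ⟨hc, hf, hfib⟩ := hVs₁ y hy'
        haveI := hf
        haveI : IsFinite (((pullback.fst p₂ g₂) ⁻¹ᵁ (Vs₁ y)).ι ≫ pullback.snd p₂ g₂) := by
          have h1 := (isPullback_morphismRestrict (pullback.fst p₂ g₂) (Vs₁ y)).paste_vert sq₂
          exact MorphismProperty.of_isPullback (P := @IsFinite) h1 hf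
        have hcl : IsClosed (((pullback.fst p₂ g₂) ⁻¹ᵁ (Vs₁ y) ⊓ W₂ :
            (pullback p₂ g₂).Opens) : Set ↑(pullback p₂ g₂)) := by
          rw [TopologicalSpace.Opens.coe_inf]
          exact (hc.preimage (pullback.fst p₂ g₂).continuous).inter hW₂closed
        refine ⟨hcl, isFinite_of_le_of_isClosed _ _ _ inf_le_left hcl, ?_⟩
        intro p hp
        have hp1 : p₂ (pullback.fst p₂ g₂ p) = t₁ := by
          rw [← Scheme.Hom.comp_apply, pullback.condition, Scheme.Hom.comp_apply, hp, hgt₂]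
        have h1 : p ∈ (pullback.fst p₂ g₂) ⁻¹ᵁ (Vs₁ y) ↔ p₁ (pullback.fst p₂ g₂ p) = y :=
          hfib _ hp1
        have h2 : p ∈ W₂ ↔ ¬ p₁ (pullback.fst p₂ g₂ p) = x := by
          rw [← e2 p hp]
          change p ∈ (W₂ : Set ↑(pullback p₂ g₂)) ↔ _
          rw [hW₂V₂]; rfl
        change p ∈ ((pullback.fst p₂ g₂) ⁻¹ᵁ (Vs₁ y) ⊓ W₂ : (pullback p₂ g₂).Opens) ↔
          p₁ (pullback.fst p₂ g₂ p) = y
        constructor
        · rintro ⟨h, -⟩
          exact h1.1 h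
        · intro h
          exact ⟨h1.2 h, h2.2 (by rw [h]; exact hyx)⟩
    · intro y hy y' hy' hne
      have hVW : Disjoint V₂ W₂ := hcompl.disjoint
      by_cases h1 : y = x
      · have h2 : y' ≠ x := fun h => hne (h1.trans h.symm)
        rw [h1, hVs'x, hVs'y y' h2]
        exact hVW.mono_right inf_le_right
      · by_cases h2 : y' = x
        · rw [h2, hVs'x, hVs'y y h1]
          exact hVW.symm.mono_left inf_le_right
        · rw [hVs'y y h1, hVs'y y' h2]
          have hy1 : y ∈ F' := (Finset.mem_insert.1 hy).resolve_left h1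
          have hy2 : y' ∈ F' := (Finset.mem_insert.1 hy').resolve_left h2
          have hd := hdisj₁ y hy1 y' hy2 hne
          rw [disjoint_iff] at hd ⊢
          have : (pullback.fst p₂ g₂) ⁻¹ᵁ (Vs₁ y) ⊓ W₂ ⊓ ((pullback.fst p₂ g₂) ⁻¹ᵁ (Vs₁ y') ⊓ W₂) ≤
              (pullback.fst p₂ g₂) ⁻¹ᵁ (Vs₁ y ⊓ Vs₁ y') := by
            intro p hp
            exact ⟨hp.1.1, hp.2.1⟩
          rw [hd] at this
          exact le_bot_iff.1 this

end Groth.Agent.Helper15.Wt
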