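import Groth.Agent.Lib.Helper15.Wt7

/-!
# Weightings: invariance under isomorphisms, the flexible form with open immersions,
restriction to opens
-/

set_option autoImplicit false
universe u
open CategoryTheory CategoryTheory.Limits AlgebraicGeometry

namespace Groth.Agent.Helper15.Wt

variable {X Y : Scheme.{u}}

theorem fibreIntegral_of_iso {U U' V : Scheme.{u}} (π : U ⟶ V) (π' : U' ⟶ V) (e : U' ⟶ U)
    [IsIso e] (he : e ≫ π = π') (W : U → ℤ) [IsFinite π] (v : V) :
    MoreMor.fibreIntegral π' (W ∘ e) v = MoreMor.fibreIntegral π W v := by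
  have := fibreIntegral_baseChange π (fun v => Scheme.Hom.finite_preimage_singleton π v) π' e
    (𝟙 V) (IsPullback.of_horiz_isIso ⟨by rw [he, Category.comp_id]⟩) W v
  simpa using this

/-- The weighting condition for a scheme mapping to the fibre product by an open immersion. -/
theorem IsWeighting.flex' {f : X ⟶ Y} {w : X → ℤ} (hw : MoreMor.IsWeighting f w)
    {V B : Scheme.{u}} (g : V ⟶ Y) [Etale g] (b₁ : B ⟶ X) (b₂ : B ⟶ V)
    (hcomm : b₁ ≫ f = b₂ ≫ g) [IsOpenImmersion (pullback.lift b₁ b₂ hcomm)] [IsFinite b₂] :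
    IsLocallyConstant (MoreMor.fibreIntegral b₂ (fun b => w (b₁ b))) := by
  set j := pullback.lift b₁ b₂ hcomm with hj
  let O := j.opensRange
  let e := j.isoOpensRange
  have he : e.hom ≫ (O.ι ≫ pullback.snd f g) = b₂ := by
    rw [← Category.assoc, Scheme.Hom.isoOpensRange_hom_ι, hj, pullback.lift_snd]
  haveI : IsFinite (O.ι ≫ pullback.snd f g) := by
    have : O.ι ≫ pullback.snd f g = e.inv ≫ b₂ := by
      rw [← he, Iso.inv_hom_id_assoc]
    rw [this]
    infer_instance
  have key := hw V g O inferInstance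
  have hfun : MoreMor.fibreIntegral b₂ (fun b => w (b₁ b)) =
      MoreMor.fibreIntegral (O.ι ≫ pullback.snd f g)
        (fun u => w (pullback.fst f g (O.ι u))) := by
    funext v
    rw [← fibreIntegral_of_iso (O.ι ≫ pullback.snd f g) b₂ e.hom he _ v]
    congr 1
    funext b
    change w (b₁ b) = w (pullback.fst f g (O.ι (e.hom b)))
    have h1 : O.ι (e.hom b) = j b := by
      rw [← Scheme.Hom.comp_apply]
      exact congrArg (fun φ : B ⟶ pullback f g => φ b) (Scheme.Hom.isoOpensRange_hom_ι j)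
    rw [h1, ← Scheme.Hom.comp_apply, hj, pullback.lift_fst]
  rw [hfun]
  exact key

/-- The comparison map between the fibre products of an open subscheme and of the scheme. -/
theorem isOpenImmersion_pullback_lift_opens (f : X ⟶ Y) (O : X.Opens) {V : Scheme.{u}}
    (g : V ⟶ Y) :
    IsOpenImmersion (pullback.lift (pullback.fst (O.ι ≫ f) g ≫ O.ι) (pullback.snd (O.ι ≫ f) g)
      (by rw [Category.assoc, pullback.condition]) : pullback (O.ι ≫ f) g ⟶ pullback f g) := by
  set k : pullback (O.ι ≫ f) g ⟶ pullback f g :=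
    pullback.lift (pullback.fst (O.ι ≫ f) g ≫ O.ι) (pullback.snd (O.ι ≫ f) g)
      (by rw [Category.assoc, pullback.condition]) with hk
  have h1 : k ≫ pullback.fst f g = pullback.fst (O.ι ≫ f) g ≫ O.ι := pullback.lift_fst _ _ _
  have h2 : k ≫ pullback.snd f g = pullback.snd (O.ι ≫ f) g := pullback.lift_snd _ _ _
  have big : IsPullback (pullback.fst (O.ι ≫ f) g) (k ≫ pullback.snd f g) (O.ι ≫ f) g := by
    rw [h2]; exact IsPullback.of_hasPullback _ _
  have top : IsPullback (pullback.fst (O.ι ≫ f) g) k O.ι (pullback.fst f g) :=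
    IsPullback.of_bot big h1.symm (IsPullback.of_hasPullback f g)
  exact MorphismProperty.of_isPullback (P := @IsOpenImmersion) top inferInstance

/-- A weighting restricts to open subschemes of the source. -/
theorem IsWeighting.restrict {f : X ⟶ Y} {w : X → ℤ} (hw : MoreMor.IsWeighting f w)
    (O : X.Opens) : MoreMor.IsWeighting (O.ι ≫ f) (fun a => w (O.ι a)) := by
  intro V g _ U' hU'
  haveI := hU'
  have hcomm : (U'.ι ≫ pullback.fst (O.ι ≫ f) g ≫ O.ι) ≫ f =
      (U'.ι ≫ pullback.snd (O.ι ≫ f) g) ≫ g := by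
    simp only [Category.assoc]
    rw [pullback.condition]
  haveI := isOpenImmersion_pullback_lift_opens f O g
  have hlift : pullback.lift (U'.ι ≫ pullback.fst (O.ι ≫ f) g ≫ O.ι)
      (U'.ι ≫ pullback.snd (O.ι ≫ f) g) hcomm =
      U'.ι ≫ pullback.lift (pullback.fst (O.ι ≫ f) g ≫ O.ι) (pullback.snd (O.ι ≫ f) g)
        (by rw [Category.assoc, pullback.condition]) := by
    apply pullback.hom_ext
    · rw [pullback.lift_fst, Category.assoc, pullback.lift_fst]
    · rw [pullback.lift_snd, Category.assoc, pullback.lift_snd]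
  haveI : IsOpenImmersion (pullback.lift (U'.ι ≫ pullback.fst (O.ι ≫ f) g ≫ O.ι)
      (U'.ι ≫ pullback.snd (O.ι ≫ f) g) hcomm) := by
    rw [hlift]; infer_instance
  exact IsWeighting.flex' hw g (U'.ι ≫ pullback.fst (O.ι ≫ f) g ≫ O.ι)
    (U'.ι ≫ pullback.snd (O.ι ≫ f) g) hcomm

end Groth.Agent.Helper15.Wt
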