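import Groth.Agent.Lib.Helper15.Wt8
import Groth.Agent.Lib.Helper15.WtPi5

/-!
# Weightings: integrals over geometrically unique pieces
-/

set_option autoImplicit false
universe u
open CategoryTheory CategoryTheory.Limits AlgebraicGeometry

namespace Groth.Agent.Helper15.Wt

open Groth.Agent.Helper15.WtPi

variable {P V : Scheme.{u}}

/-- The integral over a piece whose fibre is a single geometrically unique point. -/
theorem fibreIntegral_piece_at (π : P ⟶ V) [LocallyQuasiFinite π] (W : P → ℤ) (B : P.Opens)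
    [IsFinite (B.ι ≫ π)] (p : P) (hpB : p ∈ B) (hB : ∀ q ∈ B, π q = π p → q = p)
    (hGU : GeomUnique π p) :
    MoreMor.fibreIntegral (B.ι ≫ π) (fun a => W (B.ι a)) (π p) = W p := by
  obtain ⟨Ω, _, _, vb, hvb⟩ := exists_geomPt (π p)
  rw [← hvb, fibreIntegral_opens π W B vb]
  obtain ⟨ub₀, hub₀⟩ := exists_lift_through π vb p hvb.symm
  have hset : liftsIn π vb (B : Set P) = {ub₀} := by
    ext ub
    simp only [Set.mem_singleton_iff]
    constructor
    · intro hub
      have h1 : π (ub.1 (pt Ω)) = π p := by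
        rw [← hvb]
        exact congrArg (fun φ : Spec (CommRingCat.of Ω) ⟶ V => φ (pt Ω)) ub.2
      have h2 : ub.1 (pt Ω) = p := hB _ hub h1
      exact Subtype.ext (hGU Ω ub.1 ub₀.1 (ub.2.trans ub₀.2.symm) h2 hub₀)
    · rintro rfl
      change ub.1 (pt Ω) ∈ B
      rw [hub₀]; exact hpB
  unfold gIntOn
  rw [hset, finsum_mem_singleton, hub₀]

/-- A nonnegative function is bounded at each point of a finite piece by the integral. -/
theorem le_fibreIntegral_opens (π : P ⟶ V) [LocallyQuasiFinite π] (W : P → ℤ) (B : P.Opens)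
    [IsFinite (B.ι ≫ π)] (hW : ∀ q ∈ B, 0 ≤ W q) (e : P) (he : e ∈ B) :
    W e ≤ MoreMor.fibreIntegral (B.ι ≫ π) (fun a => W (B.ι a)) (π e) := by
  classical
  obtain ⟨Ω, _, _, vb, hvb⟩ := exists_geomPt (π e)
  rw [← hvb, fibreIntegral_opens π W B vb]
  obtain ⟨ub₀, hub₀⟩ := exists_lift_through π vb e hvb.symm
  have hfin := finite_liftsIn π B vb
  unfold gIntOn
  rw [finsum_mem_eq_finite_toFinset_sum _ hfin]
  have hmem : ub₀ ∈ hfin.toFinset := by
    rw [Set.Finite.mem_toFinset]
    change ub₀.1 (pt Ω) ∈ B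
    rw [hub₀]; exact he
  have := Finset.single_le_sum (f := fun ub : Lifts π vb => W (ub.1 (pt Ω)))
    (fun ub hub => hW _ ((Set.Finite.mem_toFinset hfin).1 hub)) hmem
  rw [← hub₀]
  exact this

end Groth.Agent.Helper15.Wt
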