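import Mathlib

/-!
# Base change of a cofiltered limit of schemes
-/

set_option autoImplicit false
universe u
open CategoryTheory CategoryTheory.Limits AlgebraicGeometry

namespace Groth.Agent.Helper15.WtLim

section bcMap

variable {T0 Y0 : Scheme.{u}} (a0 : T0 ⟶ Y0)

/-- The map `T0 ×_{Y0} B ⟶ T0 ×_{Y0} B'` induced by a morphism `t : B ⟶ B'` over `Y0`. -/
noncomputable def bcMap {B B' : Scheme.{u}} (β : B ⟶ Y0) (β' : B' ⟶ Y0) (t : B ⟶ B')
    (ht : t ≫ β' = β) : pullback a0 β ⟶ pullback a0 β' :=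
  pullback.map a0 β a0 β' (𝟙 _) t (𝟙 _) (by simp) (by simp [ht])

@[reassoc (attr := simp)]
theorem bcMap_fst {B B' : Scheme.{u}} (β : B ⟶ Y0) (β' : B' ⟶ Y0) (t : B ⟶ B')
    (ht : t ≫ β' = β) : bcMap a0 β β' t ht ≫ pullback.fst a0 β' = pullback.fst a0 β :=
  (pullback.lift_fst _ _ _).trans (Category.comp_id _)

@[reassoc (attr := simp)]
theorem bcMap_snd {B B' : Scheme.{u}} (β : B ⟶ Y0) (β' : B' ⟶ Y0) (t : B ⟶ B')
    (ht : t ≫ β' = β) : bcMap a0 β β' t ht ≫ pullback.snd a0 β' = pullback.snd a0 β ≫ t :=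
  pullback.lift_snd _ _ _

theorem isPullback_bcMap {B B' : Scheme.{u}} (β : B ⟶ Y0) (β' : B' ⟶ Y0) (t : B ⟶ B')
    (ht : t ≫ β' = β) :
    IsPullback (bcMap a0 β β' t ht) (pullback.snd a0 β) (pullback.snd a0 β') t := by
  have big : IsPullback (bcMap a0 β β' t ht ≫ pullback.fst a0 β') (pullback.snd a0 β) a0
      (t ≫ β') := by
    rw [bcMap_fst, ht]; exact IsPullback.of_hasPullback a0 β
  exact IsPullback.of_right big (bcMap_snd a0 β β' t ht) (IsPullback.of_hasPullback a0 β')

theorem bcMap_comp {B B' B'' : Scheme.{u}} (β : B ⟶ Y0) (β' : B' ⟶ Y0) (β'' : B'' ⟶ Y0)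
    (t : B ⟶ B') (ht : t ≫ β' = β) (t' : B' ⟶ B'') (ht' : t' ≫ β'' = β')
    (s : B ⟶ B'') (hs : s ≫ β'' = β) (hst : t ≫ t' = s) :
    bcMap a0 β β' t ht ≫ bcMap a0 β' β'' t' ht' = bcMap a0 β β'' s hs := by
  apply pullback.hom_ext
  · simp
  · simp [hst]

theorem bcMap_id {B : Scheme.{u}} (β : B ⟶ Y0) :
    bcMap a0 β β (𝟙 B) (Category.id_comp β) = 𝟙 _ := by
  apply pullback.hom_ext
  · simp
  · simp

end bcMap

variable {I : Type u} [Category.{u} I] (D : I ⥤ Scheme.{u}) (c : Cone D) (i0 : I)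
  {T0 : Scheme.{u}} (a0 : T0 ⟶ D.obj i0)

/-- The diagram `j ↦ T0 ×_{D i0} D j` indexed by `Over i0`. -/
noncomputable def pbDiag : Over i0 ⥤ Scheme.{u} where
  obj j := pullback a0 (D.map j.hom)
  map {j k} φ := bcMap a0 (D.map j.hom) (D.map k.hom) (D.map φ.left)
    (by rw [← D.map_comp, Over.w])
  map_id j := by
    apply pullback.hom_ext
    · simp
    · simp
  map_comp φ ψ := by
    apply pullback.hom_ext
    · simp
    · simp

/-- The cone over `pbDiag` with vertex `T0 ×_{D i0} lim D`. -/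
noncomputable def pbCone : Cone (pbDiag D i0 a0) where
  pt := pullback a0 (c.π.app i0)
  π :=
    { app := fun j => bcMap a0 (c.π.app i0) (D.map j.hom) (c.π.app j.left) (c.w j.hom)
      naturality := fun j k φ => by
        apply pullback.hom_ext
        · simp [pbDiag]
        · simp [pbDiag] }

attribute [local instance] CategoryTheory.isConnected_of_hasTerminal

/-- The projections `T0 ×_{D i0} D j ⟶ D j`. -/
noncomputable def pbDiagι : pbDiag D i0 a0 ⟶ Over.forget i0 ⋙ D where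
  app j := pullback.snd a0 (D.map j.hom)
  naturality j k φ := by
    exact bcMap_snd a0 (D.map j.hom) (D.map k.hom) (D.map φ.left)
      (by rw [← D.map_comp, Over.w])

/-- The base change of a limit cone is a limit cone. -/
noncomputable def pbConeIsLimit [IsCofiltered I] (hc : IsLimit c) :
    IsLimit (pbCone D c i0 a0) :=
  isLimitOfIsPullbackOfIsConnected (pbDiagι D i0 a0)
    (pbCone D c i0 a0) (c.whisker (Over.forget i0))
    { hom := pullback.snd a0 (c.π.app i0)
      w := fun j => by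
        change pullback.snd a0 (c.π.app i0) ≫ c.π.app j.left =
          bcMap a0 (c.π.app i0) (D.map j.hom) (c.π.app j.left) (c.w j.hom) ≫
            pullback.snd a0 (D.map j.hom)
        exact (bcMap_snd a0 (c.π.app i0) (D.map j.hom) (c.π.app j.left) (c.w j.hom)).symm }
    (fun j => isPullback_bcMap a0 (c.π.app i0) (D.map j.hom) (c.π.app j.left) (c.w j.hom))
    ((Functor.Initial.isLimitWhiskerEquiv (Over.forget i0) c).symm hc)

@[simp] theorem pbDiag_obj (j : Over i0) : (pbDiag D i0 a0).obj j = pullback a0 (D.map j.hom) := rfl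

@[simp] theorem pbDiag_map {j k : Over i0} (φ : j ⟶ k) : (pbDiag D i0 a0).map φ =
    bcMap a0 (D.map j.hom) (D.map k.hom) (D.map φ.left) (by rw [← D.map_comp, Over.w]) := rfl

@[simp] theorem pbCone_pt : (pbCone D c i0 a0).pt = pullback a0 (c.π.app i0) := rfl

@[simp] theorem pbCone_π_app (j : Over i0) : (pbCone D c i0 a0).π.app j =
    bcMap a0 (c.π.app i0) (D.map j.hom) (c.π.app j.left) (c.w j.hom) := rfl

instance [IsAffine T0] [∀ i, IsAffine (D.obj i)] (j : Over i0) :
    IsAffine ((pbDiag D i0 a0).obj j) := by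
  rw [pbDiag_obj]; infer_instance

instance [IsAffine T0] [∀ i, IsAffine (D.obj i)] {j k : Over i0} (φ : j ⟶ k) :
    IsAffineHom ((pbDiag D i0 a0).map φ) := inferInstance

end Groth.Agent.Helper15.WtLim
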