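import Groth.Agent.Lib.Helper15.WtLim5

/-!
# Weightings descend along cofiltered limits of affine schemes
-/

set_option autoImplicit false
universe u
open CategoryTheory CategoryTheory.Limits AlgebraicGeometry

namespace Groth.Agent.Helper15.WtLim

open Groth.Agent.Helper15.Wt Groth.Agent.Helper15.Lcw

/-- Descent of weightings along a cofiltered limit of affine schemes, in standard form. -/
theorem descend_std {I : Type u} [SmallCategory I] [IsCofiltered I] (D : I ⥤ Scheme.{u})
    (c : Cone D) (hc : IsLimit c) [∀ i, IsAffine (D.obj i)] (i0 : I) {X0 : Scheme.{u}}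
    [IsAffine X0] (f0 : X0 ⟶ D.obj i0) [LocallyQuasiFinite f0] [LocallyOfFinitePresentation f0]
    (w : ↥(pullback f0 (c.π.app i0)) → ℤ)
    (hw : MoreMor.IsWeighting (pullback.snd f0 (c.π.app i0)) w) :
    ∃ (j : Over i0) (W : ↥(pullback f0 (D.map j.hom)) → ℤ),
      MoreMor.IsWeighting (pullback.snd f0 (D.map j.hom)) W ∧
      ∀ x, W (bcMap f0 (c.π.app i0) (D.map j.hom) (c.π.app j.left) (c.w j.hom) x) = w x := by
  obtain ⟨Yu0, Uu0, a0, q0, π0, hYu, hlfp, hfin, hp0, huniv⟩ := exists_universal_piece f0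
  haveI := hYu
  haveI := hfin
  have hq : q0 ≫ f0 = π0 ≫ a0 := hp0.1
  haveI : LocallyOfFinitePresentation π0 := IsOpenPiece.lfp hp0
  haveI hcpt : IsAffine c.pt := Scheme.isAffine_of_isLimit c hc
  haveI : IsAffine (((Functor.const I).obj c.pt).obj i0) := hcpt
  -- `w` has finite range and constructible level sets
  have hwCF : IsCF w :=
    ⟨(exists_finite_range_and_bound (pullback.snd f0 (c.π.app i0)) w hw).1,
      fun k => (isLocallyConstructible_levelSet _ w hw k).isConstructible⟩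
  -- descend `w` to a finite stage
  obtain ⟨j1, W1, hW1, e1⟩ := exists_isCF_descent (pbDiag D i0 f0) (pbCone D c i0 f0)
    (pbConeIsLimit D c i0 f0 hc) w hwCF
  -- the integral of `w` along the universal family is locally constant
  have hΦinf : IsLocallyConstant (Phi f0 a0 q0 π0 hq (c.π.app i0) w) :=
    isLocallyConstant_Phi f0 a0 q0 π0 hq hp0 (c.π.app i0) w hw
  -- the integral of `W1`
  let F1 : ↥(pullback a0 (D.map j1.hom)) → ℤ := Phi f0 a0 q0 π0 hq (D.map j1.hom) W1
  have hF1 : IsCF F1 := isCF_Phi f0 a0 q0 π0 hq (D.map j1.hom) W1 hW1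
  have hcompat : ∀ y, F1 ((pbCone D c i0 a0).π.app j1 y) =
      Phi f0 a0 q0 π0 hq (c.π.app i0) w y := by
    intro y
    have h := Phi_bcMap f0 a0 q0 π0 hq (c.π.app i0) (D.map j1.hom) (c.π.app j1.left)
      (c.w j1.hom) W1 y
    have hfun : (fun x => W1 (bcMap f0 (c.π.app i0) (D.map j1.hom) (c.π.app j1.left)
        (c.w j1.hom) x)) = w := funext e1
    rw [hfun] at h
    exact h.symm
  have hlc : IsLocallyConstant (fun y => F1 ((pbCone D c i0 a0).π.app j1 y)) := by
    have : (fun y => F1 ((pbCone D c i0 a0).π.app j1 y)) =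
        Phi f0 a0 q0 π0 hq (c.π.app i0) w := funext hcompat
    rw [this]; exact hΦinf
  obtain ⟨j, φ, hj⟩ := exists_isLocallyConstant_of_isCF (pbDiag D i0 a0) (pbCone D c i0 a0)
    (pbConeIsLimit D c i0 a0 hc) F1 hF1 hlc
  have hφ : D.map φ.left ≫ D.map j1.hom = D.map j.hom := by rw [← D.map_comp, Over.w]
  let W : ↥(pullback f0 (D.map j.hom)) → ℤ :=
    fun x => W1 (bcMap f0 (D.map j.hom) (D.map j1.hom) (D.map φ.left) hφ x)
  refine ⟨j, W, ?_, fun x => ?_⟩
  · apply isWeighting_of_isLocallyConstant_Phi f0 a0 q0 π0 hq huniv (D.map j.hom) W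
    have : Phi f0 a0 q0 π0 hq (D.map j.hom) W =
        fun y => F1 ((pbDiag D i0 a0).map φ y) := by
      funext y
      exact Phi_bcMap f0 a0 q0 π0 hq (D.map j.hom) (D.map j1.hom) (D.map φ.left) hφ W1 y
    rw [this]
    exact hj
  · change W1 (bcMap f0 (D.map j.hom) (D.map j1.hom) (D.map φ.left) hφ
      (bcMap f0 (c.π.app i0) (D.map j.hom) (c.π.app j.left) (c.w j.hom) x)) = w x
    rw [← Scheme.Hom.comp_apply, bcMap_comp f0 _ _ _ _ _ _ _ (c.π.app j1.left) (c.w j1.hom)
      (c.w φ.left)]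
    exact e1 x

end Groth.Agent.Helper15.WtLim
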