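import Mathlib.FieldTheory.PurelyInseparable.Basic
import Mathlib.RingTheory.Polynomial.ScaleRoots
import Mathlib.Algebra.Polynomial.Lifts
import Mathlib.Algebra.Polynomial.FieldDivision
import Mathlib.FieldTheory.Separable

/-!
# Field-theoretic lemmas for the purely inseparable stage of the splitting
-/

set_option autoImplicit false
universe u
open Polynomial

namespace Groth.Agent.Helper15.WtPi

/-- Two distinct embeddings of an algebraic extension which agree on the base field differ on
a separable element. -/
theorem exists_separable_ne {k K Ω : Type*} [Field k] [Field K] [Field Ω] [Algebra k K]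
    [Algebra.IsAlgebraic k K] (σ σ' : K →+* Ω) (hne : σ ≠ σ') :
    ∃ α : K, IsSeparable k α ∧ σ α ≠ σ' α := by
  by_contra hcon
  push Not at hcon
  apply hne
  haveI : IsPurelyInseparable (separableClosure k K) K := separableClosure.isPurelyInseparable k K
  apply IsPurelyInseparable.injective_comp_algebraMap (separableClosure k K) K Ω
  ext ⟨α, hα⟩
  exact hcon α (mem_separableClosure_iff.1 hα)

/-- Clearing denominators in a monic polynomial over a field of fractions. -/
theorem exists_monic_lift_scaleRoots {R k : Type*} [CommRing R] [Field k] (ev : R →+* k)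
    (hfrac : ∀ x : k, ∃ a b : R, ev b ≠ 0 ∧ x * ev b = ev a) (m : k[X]) (hm : m.Monic) :
    ∃ s : R, ev s ≠ 0 ∧ ∃ F : R[X], F.Monic ∧ F.map ev = m.scaleRoots (ev s) := by
  classical
  -- common denominator
  have hden : ∀ T : Finset ℕ, ∃ s : R, ev s ≠ 0 ∧ ∀ i ∈ T, m.coeff i * ev s ∈ ev.range := by
    intro T
    induction T using Finset.induction_on with
    | empty => exact ⟨1, by simp, by simp⟩
    | insert i T hi IH =>
      obtain ⟨s, hs, hsT⟩ := IH
      obtain ⟨a, b, hb, hab⟩ := hfrac (m.coeff i)
      refine ⟨s * b, by rw [map_mul]; exact mul_ne_zero hs hb, ?_⟩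
      intro j hj
      rcases Finset.mem_insert.1 hj with rfl | hj
      · refine ⟨s * a, ?_⟩
        rw [map_mul, map_mul, ← hab]; ring
      · obtain ⟨c, hc⟩ := hsT j hj
        refine ⟨c * b, ?_⟩
        rw [map_mul, map_mul, hc]; ring
  obtain ⟨s, hs, hsT⟩ := hden (Finset.range m.natDegree)
  refine ⟨s, hs, ?_⟩
  have hlifts : m.scaleRoots (ev s) ∈ lifts ev := by
    rw [lifts_iff_coeff_lifts]
    intro n
    rw [coeff_scaleRoots]
    by_cases hn : n < m.natDegree
    · obtain ⟨c, hc⟩ := hsT n (Finset.mem_range.2 hn)
      have : m.natDegree - n = (m.natDegree - n - 1) + 1 := by omega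
      rw [this, pow_succ]
      refine ⟨c * s ^ (m.natDegree - n - 1), ?_⟩
      rw [map_mul, map_pow, hc]; ring
    · rcases Nat.lt_or_ge m.natDegree n with h | h
      · rw [coeff_eq_zero_of_natDegree_lt h, zero_mul]; exact ⟨0, map_zero _⟩
      · have : n = m.natDegree := le_antisymm h (not_lt.1 hn)
        subst this
        rw [coeff_natDegree, hm.leadingCoeff, Nat.sub_self, pow_zero, one_mul]
        exact ⟨1, map_one _⟩
  obtain ⟨F, hF1, -, hF3⟩ :=
    lifts_and_degree_eq_and_monic hlifts ((monic_scaleRoots_iff _).2 hm)
  exact ⟨F, hF3, hF1⟩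

/-- The scaled minimal polynomial of a separable element has the scaled element as a simple
root. -/
theorem scaleRoots_simple_root {k K : Type*} [Field k] [Field K] [Algebra k K] (α : K)
    (hα : IsSeparable k α) (c : k) (hc : c ≠ 0) :
    (((minpoly k α).scaleRoots c).map (algebraMap k K)).eval (algebraMap k K c * α) = 0 ∧
    (derivative (((minpoly k α).scaleRoots c).map (algebraMap k K))).eval
      (algebraMap k K c * α) ≠ 0 := by
  have hint : IsIntegral k α := hα.isIntegral
  have hmonic := minpoly.monic hint
  have hmap : ((minpoly k α).scaleRoots c).map (algebraMap k K) =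
      ((minpoly k α).map (algebraMap k K)).scaleRoots (algebraMap k K c) := by
    rw [map_scaleRoots]
    rw [hmonic.leadingCoeff, map_one]; exact one_ne_zero
  have hroot : ((minpoly k α).map (algebraMap k K)).eval α = 0 := by
    rw [eval_map_algebraMap, minpoly.aeval]
  have hc' : algebraMap k K c ≠ 0 := by
    rwa [Ne, map_eq_zero]
  rw [hmap]
  have h1 : (((minpoly k α).map (algebraMap k K)).scaleRoots (algebraMap k K c)).eval
      (algebraMap k K c * α) = 0 := by
    rw [scaleRoots_eval_mul, hroot, mul_zero]
  refine ⟨h1, ?_⟩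
  have hsep : ((minpoly k α).map (algebraMap k K)).Separable := Separable.map hα
  have hmult : rootMultiplicity (algebraMap k K c * α)
      (((minpoly k α).map (algebraMap k K)).scaleRoots (algebraMap k K c)) ≤ 1 := by
    rw [rootMultiplicity_scaleRoots _ (IsRegular.of_ne_zero hc').left]
    exact rootMultiplicity_le_one_of_separable hsep α
  intro hder
  have hne : ((minpoly k α).map (algebraMap k K)).scaleRoots (algebraMap k K c) ≠ 0 :=
    scaleRoots_ne_zero (by
      rw [Ne, Polynomial.map_eq_zero]; exact hmonic.ne_zero) _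
  have := (one_lt_rootMultiplicity_iff_isRoot hne).2 ⟨h1, hder⟩
  omega

end Groth.Agent.Helper15.WtPi
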