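import Groth.Agent.Lib.Helper15.Wt3

/-!
# Values of sections at field-valued points
-/

set_option autoImplicit false
universe u
open CategoryTheory CategoryTheory.Limits AlgebraicGeometry

namespace Groth.Agent.Helper15.WtPi

open Groth.Agent.Helper15.Wt

variable {X Y : Scheme.{u}} {Ω : Type u} [Field Ω]

/-- The value of a section at a field-valued point. -/
noncomputable def val (xb : Spec (CommRingCat.of Ω) ⟶ X) (O : X.Opens) (h : xb (pt Ω) ∈ O) :
    Γ(X, O) →+* Ω :=
  (X.evaluation O (xb (pt Ω)) h ≫ fieldHom xb).hom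

theorem val_apply (xb : Spec (CommRingCat.of Ω) ⟶ X) (O : X.Opens) (h : xb (pt Ω) ∈ O)
    (s : Γ(X, O)) : val xb O h s = (fieldHom xb).hom ((X.evaluation O (xb (pt Ω)) h).hom s) := rfl

theorem val_congr {xb xb' : Spec (CommRingCat.of Ω) ⟶ X} (e : xb = xb') (O : X.Opens)
    (h : xb (pt Ω) ∈ O) (s : Γ(X, O)) : val xb O h s = val xb' O (e ▸ h) s := by
  subst e; rfl

theorem val_eq_zero_iff (xb : Spec (CommRingCat.of Ω) ⟶ X) (O : X.Opens) (h : xb (pt Ω) ∈ O)
    (s : Γ(X, O)) : val xb O h s = 0 ↔ xb (pt Ω) ∉ X.basicOpen s := by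
  rw [val_apply, map_eq_zero, Scheme.evaluation_eq_zero_iff_notMem_basicOpen]

theorem val_comp (f : X ⟶ Y) (xb : Spec (CommRingCat.of Ω) ⟶ X) (O : Y.Opens) (O' : X.Opens)
    (e : O' ≤ f ⁻¹ᵁ O) (h' : xb (pt Ω) ∈ O') (s : Γ(Y, O)) :
    val xb O' h' ((f.appLE O O' e).hom s) = val (xb ≫ f) O (e h') s := by
  rw [val_apply, val_apply]
  have h1 : fieldHom (xb ≫ f) = f.residueFieldMap (xb (pt Ω)) ≫ fieldHom xb := fieldHom_comp f xb
  rw [h1]
  have h2 := Scheme.evaluation_naturality_apply f (V := O) (xb (pt Ω)) (e h') s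
  change (fieldHom xb).hom _ = (fieldHom xb).hom ((f.residueFieldMap (xb (pt Ω))).hom
    ((Y.evaluation O (f (xb (pt Ω))) (e h')).hom s))
  rw [h2]
  congr 1
  rw [Scheme.Hom.appLE]
  change (X.evaluation O' (xb (pt Ω)) h').hom ((X.presheaf.map (homOfLE e).op).hom
    ((f.app O).hom s)) = _
  rw [← Scheme.germ_residue, ← Scheme.germ_residue]
  change (X.residue _).hom ((X.presheaf.germ O' _ h').hom ((X.presheaf.map (homOfLE e).op).hom
    ((f.app O).hom s))) = (X.residue _).hom ((X.presheaf.germ (f ⁻¹ᵁ O) _ (e h')).hom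
    ((f.app O).hom s))
  rw [TopCat.Presheaf.germ_res_apply]

/-- The canonical point of the residue field via an affine open. -/
theorem fromSpecResidueField_eq {O : X.Opens} (hO : IsAffineOpen O) (x : X) (h : x ∈ O) :
    X.fromSpecResidueField x = Spec.map (X.evaluation O x h) ≫ hO.fromSpec := by
  rw [Scheme.fromSpecResidueField, ← hO.fromSpecStalk_eq_fromSpecStalk h,
    IsAffineOpen.fromSpecStalk, ← Category.assoc, ← Spec.map_comp, Scheme.germ_residue]

/-- A field-valued point landing in an affine open factors through it via its values. -/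
theorem factor (xb : Spec (CommRingCat.of Ω) ⟶ X) {O : X.Opens} (hO : IsAffineOpen O)
    (h : xb (pt Ω) ∈ O) :
    Spec.map (CommRingCat.ofHom (val xb O h)) ≫ hO.fromSpec = xb := by
  have h1 := fromSpecResidueField_eq hO (xb (pt Ω)) h
  have h2 : CommRingCat.ofHom (val xb O h) = X.evaluation O (xb (pt Ω)) h ≫ fieldHom xb := rfl
  rw [h2, Spec.map_comp, Category.assoc, ← h1]
  exact fieldHom_fromSpec xb

/-- Values at a point of an affine scheme given by a ring homomorphism. -/
theorem val_SpecMap {S : Type u} [CommRing S] (φ : S →+* Ω) (s : S) :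
    val (Spec.map (CommRingCat.ofHom φ)) ⊤ trivial
      ((Scheme.ΓSpecIso (CommRingCat.of S)).inv.hom s) = φ s := by
  have h := factor (Spec.map (CommRingCat.ofHom φ)) (isAffineOpen_top (Spec (CommRingCat.of S)))
    trivial
  rw [IsAffineOpen.fromSpec_top, Scheme.isoSpec_Spec_inv, ← Spec.map_comp] at h
  have h' := Spec.map_injective h
  have := congrArg (fun f => f.hom s) h'
  exact this

/-- Elements of the residue field are fractions of values of sections over an affine open. -/
theorem exists_frac {O : X.Opens} (hO : IsAffineOpen O) (x : X) (hx : x ∈ O)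
    (ξ : X.residueField x) :
    ∃ a b : Γ(X, O), (X.evaluation O x hx).hom b ≠ 0 ∧
      ξ * (X.evaluation O x hx).hom b = (X.evaluation O x hx).hom a := by
  obtain ⟨t, rfl⟩ := X.residue_surjective x ξ
  letI := X.presheaf.algebra_section_stalk ⟨x, hx⟩
  haveI := hO.isLocalization_stalk ⟨x, hx⟩
  obtain ⟨⟨a, b⟩, hab⟩ := IsLocalization.surj (hO.primeIdealOf ⟨x, hx⟩).asIdeal.primeCompl t
  refine ⟨a, b.1, ?_, ?_⟩
  · have hu : IsUnit (algebraMap Γ(X, O) (X.presheaf.stalk x) b.1) :=
      IsLocalization.map_units _ b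
    have := hu.map (X.residue x).hom
    exact this.ne_zero
  · rw [← Scheme.germ_residue]
    change (X.residue x).hom t * (X.residue x).hom ((X.presheaf.germ O x hx).hom b.1) =
      (X.residue x).hom ((X.presheaf.germ O x hx).hom a)
    rw [← map_mul]
    congr 1

theorem evaluation_congr (O : X.Opens) {x y : X} (e : y = x) (hy : y ∈ O) (a : Γ(X, O)) :
    (X.residueFieldCongr e).hom.hom ((X.evaluation O y hy).hom a) =
      (X.evaluation O x (e ▸ hy)).hom a := by
  subst e; rfl

/-- Values at the point given by an embedding of a residue field. -/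
theorem val_of_residue (x : X) (χ : X.residueField x ⟶ CommRingCat.of Ω) (O : X.Opens)
    (hx : x ∈ O) (h : (Spec.map χ ≫ X.fromSpecResidueField x) (pt Ω) ∈ O) (a : Γ(X, O)) :
    val (Spec.map χ ≫ X.fromSpecResidueField x) O h a = χ.hom ((X.evaluation O x hx).hom a) := by
  have h1 := (Scheme.SpecToEquivOfField Ω X).right_inv ⟨x, χ⟩
  obtain ⟨e, he⟩ := Scheme.SpecToEquivOfField_eq_iff.1 h1
  have e' : (Spec.map χ ≫ X.fromSpecResidueField x) (pt Ω) = x := e
  have he' : fieldHom (Spec.map χ ≫ X.fromSpecResidueField x) =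
      (X.residueFieldCongr e').hom ≫ χ := he
  rw [val_apply, he']
  exact congrArg χ.hom (evaluation_congr O e' h a)

end Groth.Agent.Helper15.WtPi
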