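import Groth.Agent.Lib.Helper15.WtPi1
import Groth.Agent.Lib.Helper15.WtPi2
import Mathlib.RingTheory.Etale.StandardEtale
import Mathlib.AlgebraicGeometry.Morphisms.Etale

/-!
# The étale neighbourhood separating two geometric points over the same point
-/

set_option autoImplicit false
universe u
open CategoryTheory CategoryTheory.Limits AlgebraicGeometry Polynomial

namespace Groth.Agent.Helper15.WtPi

open Groth.Agent.Helper15.Wt

variable {U V : Scheme.{u}} {Ω : Type u} [Field Ω]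

theorem core (π : U ⟶ V) [LocallyQuasiFinite π] (x : U)
    (χ χ' : U.residueField x ⟶ CommRingCat.of Ω) (hne : χ ≠ χ')
    (hagree : π.residueFieldMap x ≫ χ = π.residueFieldMap x ≫ χ') :
    ∃ (V₁ : Scheme.{u}) (g : V₁ ⟶ V) (_ : Etale g) (tb : Spec (CommRingCat.of Ω) ⟶ V₁)
      (h1 : (Spec.map χ ≫ U.fromSpecResidueField x) ≫ π = tb ≫ g)
      (h2 : (Spec.map χ' ≫ U.fromSpecResidueField x) ≫ π = tb ≫ g),
      (pullback.lift _ tb h1) (pt Ω) ≠ (pullback.lift _ tb h2) (pt Ω) := by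
  classical
  obtain ⟨_, ⟨W, hW, rfl⟩, hvW, -⟩ := V.isBasis_affineOpens.exists_subset_of_mem_open
    (Set.mem_univ (π x)) isOpen_univ
  obtain ⟨_, ⟨WU, hWU, rfl⟩, hxWU, hle⟩ := U.isBasis_affineOpens.exists_subset_of_mem_open
    (show x ∈ ((π ⁻¹ᵁ W : U.Opens) : Set U) from hvW) (π ⁻¹ᵁ W).2
  let k := V.residueField (π x)
  let K := U.residueField x
  letI : Algebra k K := (π.residueFieldMap x).hom.toAlgebra
  haveI : Module.Finite k K := finite_residueFieldMap π x
  haveI : Algebra.IsAlgebraic k K := inferInstance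
  obtain ⟨α, hαsep, hα⟩ := exists_separable_ne (k := k) χ.hom χ'.hom
    (fun h => hne (CommRingCat.hom_ext h))
  let evV : Γ(V, W) →+* k := (V.evaluation W (π x) hvW).hom
  let evU : Γ(U, WU) →+* K := (U.evaluation WU x hxWU).hom
  obtain ⟨s, hs, F, hFmonic, hFmap⟩ := exists_monic_lift_scaleRoots evV
    (fun ξ => exists_frac hW (π x) hvW ξ) (minpoly k α) (minpoly.monic hαsep.isIntegral)
  obtain ⟨hroot, hder⟩ := scaleRoots_simple_root α hαsep (evV s) hs
  set βK : K := algebraMap k K (evV s) * α with hβK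
  let τ : Γ(V, W) →+* Ω := (χ.hom.comp (algebraMap k K)).comp evV
  letI : Algebra Γ(V, W) Ω := τ.toAlgebra
  set β : Ω := χ.hom βK with hβ
  have hagree' : ∀ c : k, χ'.hom (algebraMap k K c) = χ.hom (algebraMap k K c) := by
    intro c
    exact (congrArg (fun f => f.hom c) hagree).symm
  have hβ' : χ'.hom βK ≠ β := by
    rw [hβ, hβK, map_mul, map_mul, hagree']
    intro h
    apply hα
    have hc : χ.hom (algebraMap k K (evV s)) ≠ 0 := by
      rw [Ne, map_eq_zero, map_eq_zero]; exact hs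
    exact (mul_left_cancel₀ hc h).symm
  let P : StandardEtalePair Γ(V, W) := ⟨F, hFmonic, derivative F, ⟨1, 0, 1, by simp⟩⟩
  have hmapτ : F.map τ = (((minpoly k α).scaleRoots (evV s)).map (algebraMap k K)).map χ.hom := by
    rw [Polynomial.map_map, ← hFmap, Polynomial.map_map]
  have hHas : P.HasMap β := by
    constructor
    · change Polynomial.aeval β F = 0
      rw [Polynomial.aeval_def, ← Polynomial.eval_map]
      change (F.map τ).eval β = 0
      rw [hmapτ, hβ, Polynomial.eval_map, Polynomial.eval₂_hom, hroot, map_zero]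
    · change IsUnit (Polynomial.aeval β (derivative F))
      rw [Polynomial.aeval_def, ← Polynomial.eval_map]
      change IsUnit ((derivative F).map τ |>.eval β)
      rw [← Polynomial.derivative_map, hmapτ, Polynomial.derivative_map, hβ, Polynomial.eval_map,
        Polynomial.eval₂_hom]
      rw [isUnit_iff_ne_zero, Ne, map_eq_zero]
      exact hder
  let ψ : P.Ring →ₐ[Γ(V, W)] Ω := P.lift β hHas
  have hψX : ψ P.X = β := P.lift_X β hHas
  let V₁ : Scheme.{u} := Spec (CommRingCat.of P.Ring)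
  let g : V₁ ⟶ V := Spec.map (CommRingCat.ofHom (algebraMap Γ(V, W) P.Ring)) ≫ hW.fromSpec
  let tb : Spec (CommRingCat.of Ω) ⟶ V₁ := Spec.map (CommRingCat.ofHom ψ.toRingHom)
  have htbg : tb ≫ g = Spec.map (CommRingCat.ofHom τ) ≫ hW.fromSpec := by
    rw [← Category.assoc, ← Spec.map_comp]
    congr 2
    ext r
    exact ψ.commutes r
  have hτ : CommRingCat.ofHom τ = V.evaluation W (π x) hvW ≫ π.residueFieldMap x ≫ χ := rfl
  have hub : ∀ χ₀ : U.residueField x ⟶ CommRingCat.of Ω,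
      π.residueFieldMap x ≫ χ₀ = π.residueFieldMap x ≫ χ →
      (Spec.map χ₀ ≫ U.fromSpecResidueField x) ≫ π = tb ≫ g := by
    intro χ₀ h₀
    rw [htbg, Category.assoc, ← Scheme.Hom.SpecMap_residueFieldMap_fromSpecResidueField,
      fromSpecResidueField_eq hW (π x) hvW, ← Spec.map_comp_assoc, ← Spec.map_comp_assoc, hτ,
      h₀]
  haveI : Etale g := by
    haveI : Etale (Spec.map (CommRingCat.ofHom (algebraMap Γ(V, W) P.Ring))) := by
      rw [HasRingHomProperty.Spec_iff (P := @Etale)]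
      exact RingHom.etale_algebraMap.2 inferInstance
    infer_instance
  refine ⟨V₁, g, inferInstance, tb, hub χ rfl, hub χ' hagree.symm, ?_⟩
  -- the separating function
  obtain ⟨a, b, hb, hab⟩ := exists_frac hWU x hxWU βK
  let q₁ := pullback.fst π g
  let q₂ := pullback.snd π g
  let OZ : (pullback π g).Opens := q₁ ⁻¹ᵁ WU
  let Xs : Γ(V₁, ⊤) := (Scheme.ΓSpecIso (CommRingCat.of P.Ring)).inv.hom P.X
  let z : Γ(pullback π g, OZ) := (q₁.appLE WU OZ le_rfl).hom a -
    (q₁.appLE WU OZ le_rfl).hom b * (q₂.appLE ⊤ OZ le_top).hom Xs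
  have hcomp : ∀ (χ₀ : U.residueField x ⟶ CommRingCat.of Ω)
      (h₀ : (Spec.map χ₀ ≫ U.fromSpecResidueField x) ≫ π = tb ≫ g)
      (hm : (pullback.lift _ tb h₀) (pt Ω) ∈ OZ),
      val (pullback.lift _ tb h₀) OZ hm z =
        χ₀.hom (evU a) - χ₀.hom (evU b) * β := by
    intro χ₀ h₀ hm
    have hx₀ : (Spec.map χ₀ ≫ U.fromSpecResidueField x) (pt Ω) ∈ WU := by
      rw [Scheme.Hom.comp_apply, Scheme.fromSpecResidueField_apply]; exact hxWU
    have e1 : ∀ c : Γ(U, WU), val (pullback.lift _ tb h₀) OZ hm ((q₁.appLE WU OZ le_rfl).hom c) =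
        χ₀.hom (evU c) := by
      intro c
      rw [val_comp q₁ _ WU OZ le_rfl hm c,
        val_congr (pullback.lift_fst _ tb h₀) WU _ c]
      exact val_of_residue x χ₀ WU hxWU hx₀ c
    have e2 : val (pullback.lift _ tb h₀) OZ hm ((q₂.appLE ⊤ OZ le_top).hom Xs) = β := by
      rw [val_comp q₂ _ ⊤ OZ le_top hm Xs,
        val_congr (pullback.lift_snd _ tb h₀) ⊤ _ Xs]
      rw [← hψX]
      exact val_SpecMap ψ.toRingHom P.X
    rw [map_sub, map_mul, e1, e1, e2]
  have hm1 : (pullback.lift _ tb (hub χ rfl)) (pt Ω) ∈ OZ := by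
    change q₁ ((pullback.lift _ tb (hub χ rfl)) (pt Ω)) ∈ WU
    rw [← Scheme.Hom.comp_apply, pullback.lift_fst, Scheme.Hom.comp_apply,
      Scheme.fromSpecResidueField_apply]
    exact hxWU
  have hm2 : (pullback.lift _ tb (hub χ' hagree.symm)) (pt Ω) ∈ OZ := by
    change q₁ ((pullback.lift _ tb (hub χ' hagree.symm)) (pt Ω)) ∈ WU
    rw [← Scheme.Hom.comp_apply, pullback.lift_fst, Scheme.Hom.comp_apply,
      Scheme.fromSpecResidueField_apply]
    exact hxWU
  have hv1 : val (pullback.lift _ tb (hub χ rfl)) OZ hm1 z = 0 := by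
    rw [hcomp χ _ hm1, hβ, ← map_mul, ← map_sub, mul_comm, hab, sub_self, map_zero]
  have hv2 : val (pullback.lift _ tb (hub χ' hagree.symm)) OZ hm2 z ≠ 0 := by
    rw [hcomp χ' _ hm2]
    have : χ'.hom (evU a) = χ'.hom (evU b) * χ'.hom βK := by
      rw [← map_mul, mul_comm, hab]
    rw [this, ← mul_sub]
    refine mul_ne_zero ?_ (sub_ne_zero.2 hβ')
    rw [Ne, map_eq_zero]; exact hb
  rw [val_eq_zero_iff] at hv1
  rw [Ne, val_eq_zero_iff, not_not] at hv2
  intro heq
  rw [heq] at hv1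
  exact hv1 hv2

theorem lift_transfer {Z : Scheme.{u}} {π : U ⟶ V} {V₁ : Scheme.{u}} {g : V₁ ⟶ V}
    {a a' b b' : Z ⟶ U} (ea : a = a') (eb : b = b') (tb : Z ⟶ V₁) (z : Z)
    (h1 : a ≫ π = tb ≫ g) (h2 : b ≫ π = tb ≫ g)
    (h1' : a' ≫ π = tb ≫ g) (h2' : b' ≫ π = tb ≫ g)
    (hne : (pullback.lift a' tb h1') z ≠ (pullback.lift b' tb h2') z) :
    (pullback.lift a tb h1) z ≠ (pullback.lift b tb h2) z := by
  subst ea eb; exact hne

/-- Two distinct geometric points over the same point and the same geometric point of the base are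
separated after a suitable étale base change. -/
theorem exists_etale_separating (π : U ⟶ V) [LocallyQuasiFinite π]
    (ub ub' : Spec (CommRingCat.of Ω) ⟶ U) (hπ : ub ≫ π = ub' ≫ π)
    (hpt : ub' (pt Ω) = ub (pt Ω)) (hne : ub ≠ ub') :
    ∃ (V₁ : Scheme.{u}) (g : V₁ ⟶ V) (_ : Etale g) (tb : Spec (CommRingCat.of Ω) ⟶ V₁)
      (h1 : ub ≫ π = tb ≫ g) (h2 : ub' ≫ π = tb ≫ g),
      (pullback.lift ub tb h1) (pt Ω) ≠ (pullback.lift ub' tb h2) (pt Ω) := by
  set x := ub (pt Ω) with hx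
  let χ : U.residueField x ⟶ CommRingCat.of Ω := fieldHom ub
  let χ' : U.residueField x ⟶ CommRingCat.of Ω := (U.residueFieldCongr hpt.symm).hom ≫ fieldHom ub'
  have e1 : ub = Spec.map χ ≫ U.fromSpecResidueField x := (fieldHom_fromSpec ub).symm
  have e2 : ub' = Spec.map χ' ≫ U.fromSpecResidueField x := by
    rw [Spec.map_comp, Category.assoc, Scheme.residueFieldCongr_fromSpecResidueField]
    exact (fieldHom_fromSpec ub').symm
  have hχ : χ ≠ χ' := by
    intro h
    apply hne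
    rw [e1, e2, h]
  have hagree : π.residueFieldMap x ≫ χ = π.residueFieldMap x ≫ χ' := by
    apply Spec.map_injective
    rw [← cancel_mono (V.fromSpecResidueField (π x)), Spec.map_comp, Spec.map_comp,
      Category.assoc, Category.assoc, Scheme.Hom.SpecMap_residueFieldMap_fromSpecResidueField,
      ← Category.assoc, ← Category.assoc, ← e1, ← e2]
    exact hπ
  obtain ⟨V₁, g, hg, tb, h1, h2, hne'⟩ := core π x χ χ' hχ hagree
  refine ⟨V₁, g, hg, tb, by rw [e1]; exact h1, by rw [e2]; exact h2, ?_⟩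
  exact lift_transfer e1 e2 tb (pt Ω) _ _ h1 h2 hne'

end Groth.Agent.Helper15.WtPi
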