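import Mathlib
import Groth.Prelude
import Groth.Agent.Lib.Helper15.AlgSpBasic
import Groth.Agent.Lib.Helper15.FppfBridge4

set_option autoImplicit false
set_option backward.isDefEq.respectTransparency false
universe u v
open CategoryTheory CategoryTheory.Limits AlgebraicGeometry MorphismProperty Opposite
open AlgSp

namespace Groth.Agent.Helper15.ZarFppf

variable {S : Scheme.{u}}

/-- The big Zariski topology on schemes over `S`. -/
abbrev Jz (S : Scheme.{u}) : GrothendieckTopology (Over S) :=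
  QuotSh.J Scheme.zariskiPrecoverage S

theorem jz_le_J : Jz S ≤ J S :=
  BigSite.J_mono Scheme.zariskiPrecoverage_le_fppfPrecoverage S

/-- A jointly surjective family of open immersions generates a Zariski covering sieve. -/
theorem ofArrows_mem_Jz {T : Over S} {ι : Type*} (V : ι → Over S) (g : ∀ i, V i ⟶ T)
    (hopen : ∀ i, IsOpenImmersion (g i).left)
    (hsurj : ∀ x : T.left, ∃ i y, (g i).left y = x) :
    Sieve.ofArrows V g ∈ (Jz S) T := by
  rw [GrothendieckTopology.mem_over_iff, Sieve.overEquiv_ofArrows]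
  let 𝒰 : T.left.Cover (Scheme.precoverage @IsOpenImmersion) :=
    Scheme.Cover.mkOfCovers ι (fun i => (V i).left) (fun i => (g i).left) hsurj
      (fun i => hopen i)
  exact Precoverage.generate_mem_toGrothendieck 𝒰.mem₀

/-- Factorization of a flat, locally finitely presented morphism through its open image. -/
theorem exists_open_image {T'' T : Over S} (h : T'' ⟶ T) (hf : Flat h.left)
    (hp : LocallyOfFinitePresentation h.left) :
    ∃ (W : Over S) (k : W ⟶ T) (h' : T'' ⟶ W), IsOpenImmersion k.left ∧ h' ≫ k = h ∧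
      Flat h'.left ∧ LocallyOfFinitePresentation h'.left ∧ Surjective h'.left ∧
      Set.range k.left = Set.range h.left := by
  let U : T.left.Opens := ⟨Set.range h.left, h.left.isOpenMap.isOpen_range⟩
  let W : Over S := Over.mk (U.ι ≫ T.hom)
  let k : W ⟶ T := Over.homMk U.ι rfl
  have hrange : Set.range h.left ⊆ Set.range U.ι := by
    rw [Scheme.Opens.range_ι]
    exact subset_rfl
  let l : T''.left ⟶ U.toScheme := IsOpenImmersion.lift U.ι h.left hrange
  have hl : l ≫ U.ι = h.left := IsOpenImmersion.lift_fac _ _ _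
  let h' : T'' ⟶ W := Over.homMk l (by
    change l ≫ U.ι ≫ T.hom = T''.hom
    rw [← Category.assoc, hl, CategoryTheory.Over.w])
  have hk : h' ≫ k = h := by
    apply Over.OverMorphism.ext
    exact hl
  have hpb : IsPullback l (𝟙 T''.left) U.ι h.left :=
    ⟨⟨by rw [hl, Category.id_comp]⟩, ⟨PullbackCone.IsLimit.mk _ (fun s => s.snd)
      (fun s => by
        rw [← cancel_mono U.ι, Category.assoc, hl]
        exact s.condition.symm)
      (fun s => Category.comp_id _)
      (fun s m _ h2 => by rw [← h2, Category.comp_id])⟩⟩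
  refine ⟨W, k, h', inferInstanceAs (IsOpenImmersion U.ι), hk, ?_, ?_, ?_, ?_⟩
  · exact MorphismProperty.of_isPullback (P := @Flat) hpb.flip hf
  · exact MorphismProperty.of_isPullback (P := @LocallyOfFinitePresentation) hpb.flip hp
  · refine ⟨fun w => ?_⟩
    have hw : U.ι w ∈ Set.range h.left := by
      have := Set.mem_range_self (f := U.ι) w
      rwa [Scheme.Opens.range_ι] at this
    obtain ⟨t', ht'⟩ := hw
    refine ⟨t', ?_⟩
    apply U.ι.isOpenEmbedding.injective
    change (l ≫ U.ι) t' = _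
    rw [hl]
    exact ht'
  · change Set.range U.ι = _
    rw [Scheme.Opens.range_ι]
    rfl

theorem map_comp' (F : PSp S) {A B C : Over S} (f : A ⟶ B) (g : B ⟶ C) (x : F.obj (op C)) :
    F.map (f ≫ g).op x = F.map f.op (F.map g.op x) := by
  rw [op_comp, Functor.map_comp]
  rfl

section Main

variable {F : PSp S} {ι : Type v} {Fi : ι → PSp S} (m : ∀ i, Fi i ⟶ F)

/-- The section `x` of `F` lies in the subfunctor `F_i`. -/
def InF (i : ι) {T : Over S} (x : F.obj (op T)) : Prop :=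
  x ∈ Set.range ((m i).app (op T))

variable {m}

theorem InF.map {i : ι} {T T' : Over S} {x : F.obj (op T)} (h : InF m i x) (f : T' ⟶ T) :
    InF m i (F.map f.op x) := by
  obtain ⟨a, rfl⟩ := h
  exact ⟨(Fi i).map f.op a, NatTrans.naturality_apply (m i) f.op a⟩

variable (m) in
theorem m_injective [∀ i, Mono (m i)] (i : ι) (T : Over S) :
    Function.Injective ((m i).app (op T)) := by
  have := (NatTrans.mono_iff_mono_app (m i)).1 inferInstance (op T)
  exact (mono_iff_injective _).1 this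

/-- Membership in `F_i` can be checked fppf locally. -/
theorem inF_of_local [∀ i, Mono (m i)] {i : ι} (hb : RepBySp (m i)) {T : Over S}
    (x : F.obj (op T)) (R : Sieve T) (hR : R ∈ (J S) T)
    (h : ∀ ⦃T' : Over S⦄ (f : T' ⟶ T), R f → InF m i (F.map f.op x)) : InF m i x := by
  let ξ : (pyon S).obj T ⟶ F := uliftYonedaEquiv.{u + 1}.symm x
  have hξ : ∀ {T' : Over S} (f : T' ⟶ T), ξ.app (op T') (ULift.up f) = F.map f.op x :=
    fun f => rfl
  have sq := IsPullback.of_hasPullback (m i) ξ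
  obtain ⟨hP, -⟩ := hb ξ _ _ sq
  have sqT : ∀ T' : Over S, IsPullback ((pullback.fst (m i) ξ).app (op T'))
      ((pullback.snd (m i) ξ).app (op T')) ((m i).app (op T')) (ξ.app (op T')) :=
    fun T' => sq.app (op T')
  have hsnd_inj : ∀ T' : Over S, Function.Injective ((pullback.snd (m i) ξ).app (op T')) := by
    intro T' p p' hpp
    refine Types.ext_of_isPullback (sqT T') ?_ hpp
    apply m_injective m i T'
    have e1 : (m i).app (op T') ((pullback.fst (m i) ξ).app (op T') p) =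
        ξ.app (op T') ((pullback.snd (m i) ξ).app (op T') p) :=
      ConcreteCategory.congr_hom (sqT T').w p
    have e2 : (m i).app (op T') ((pullback.fst (m i) ξ).app (op T') p') =
        ξ.app (op T') ((pullback.snd (m i) ξ).app (op T') p') :=
      ConcreteCategory.congr_hom (sqT T').w p'
    rw [e1, e2, hpp]
  -- local sections of the pullback
  have hex : ∀ ⦃T' : Over S⦄ (f : T' ⟶ T), R f →
      ∃ p : (pullback (m i) ξ).obj (op T'), (pullback.snd (m i) ξ).app (op T') p = ULift.up f := by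
    intro T' f hf
    obtain ⟨a, ha⟩ := h f hf
    obtain ⟨p, -, hp2⟩ := Types.exists_of_isPullback (sqT T') a (ULift.up f) (by rw [ha, hξ])
    exact ⟨p, hp2⟩
  choose pf hpf using hex
  have hPs : Presieve.IsSheafFor (pullback (m i) ξ) R.arrows :=
    ((isSheaf_iff_isSheaf_of_type _ _).1 hP) R hR
  have hcompat : Presieve.FamilyOfElements.Compatible (fun T' f hf => pf f hf :
      Presieve.FamilyOfElements (pullback (m i) ξ) R.arrows) := by
    rw [Presieve.compatible_iff_sieveCompatible]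
    intro Y Z f g hf
    apply hsnd_inj
    rw [hpf]
    have := NatTrans.naturality_apply (pullback.snd (m i) ξ) g.op (pf f hf)
    rw [this, hpf]
    rfl
  obtain ⟨p, hp, -⟩ := hPs _ hcompat
  have : ∃ hh : T ⟶ T, (pullback.snd (m i) ξ).app (op T) p = ULift.up hh :=
    ⟨((pullback.snd (m i) ξ).app (op T) p).down, rfl⟩
  obtain ⟨hh, hhh⟩ := this
  have hfix : ∀ ⦃T' : Over S⦄ (f : T' ⟶ T), R f → f ≫ hh = f := by
    intro T' f hf
    have e1 := NatTrans.naturality_apply (pullback.snd (m i) ξ) f.op p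
    rw [hp f hf, hpf, hhh] at e1
    exact (congrArg ULift.down e1).symm
  have hsep : Presieve.IsSeparatedFor ((pyon S).obj T) R.arrows :=
    (((isSheaf_iff_isSheaf_of_type _ _).1 ((yon S).obj T).property) R hR).isSeparatedFor
  have hid : (ULift.up hh : ((pyon S).obj T).obj (op T)) = ULift.up (𝟙 T) := by
    refine hsep (fun T' f _ => ULift.up f) _ _ ?_ ?_
    · intro T' f hf
      exact ULift.ext _ _ (hfix f hf)
    · intro T' f hf
      exact ULift.ext _ _ (Category.comp_id f)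
  refine ⟨(pullback.fst (m i) ξ).app (op T) p, ?_⟩
  have e1 : (m i).app (op T) ((pullback.fst (m i) ξ).app (op T) p) =
      ξ.app (op T) ((pullback.snd (m i) ξ).app (op T) p) :=
    ConcreteCategory.congr_hom (sqT T).w p
  rw [e1, hhh, hid, hξ]
  simp

/-- Zariski locally a section lies in one of the subfunctors. -/
theorem exists_open_inF [∀ i, Mono (m i)] (hb : ∀ i, RepBySp (m i))
    (hc : ∀ (T : Over S) (x : F.obj (op T)), ∃ R ∈ (J S) T,
      ∀ ⦃T' : Over S⦄ (f : T' ⟶ T), R.arrows f → ∃ i, InF m i (F.map f.op x))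
    {T : Over S} (x : F.obj (op T)) (t : T.left) :
    ∃ (W : Over S) (k : W ⟶ T), IsOpenImmersion k.left ∧ t ∈ Set.range k.left ∧
      ∃ i, InF m i (F.map k.op x) := by
  obtain ⟨R, hR, hRi⟩ := hc T x
  obtain ⟨T', c, hcR, hcf, hcp, hcs⟩ := Bridge.exists_family_of_mem_J R hR
  obtain ⟨i₀, y, hy⟩ := hcs t
  obtain ⟨i, hi⟩ := hRi (c i₀) (hcR i₀)
  obtain ⟨W, k, h', hk1, hk2, hk3, hk4, hk5, hk6⟩ := exists_open_image (c i₀) (hcf i₀) (hcp i₀)
  refine ⟨W, k, hk1, hk6 ▸ ⟨y, hy⟩, i, ?_⟩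
  apply inF_of_local (hb i) _ (Sieve.ofArrows (fun _ : PUnit.{1} => T' i₀) (fun _ => h'))
    (singleton_mem_J h' hk3 hk4 hk5)
  rintro T'' f ⟨Z, e, _, ⟨_⟩, rfl⟩
  rw [← map_comp', Category.assoc, hk2, map_comp']
  exact InF.map hi e

/-- `F` is separated for the fppf topology. -/
theorem eq_of_local [∀ i, Mono (m i)] (h1 : Presheaf.IsSheaf (Jz S) F)
    (ha : ∀ i, Presheaf.IsSheaf (J S) (Fi i)) (hb : ∀ i, RepBySp (m i))
    (hc : ∀ (T : Over S) (x : F.obj (op T)), ∃ R ∈ (J S) T,
      ∀ ⦃T' : Over S⦄ (f : T' ⟶ T), R.arrows f → ∃ i, InF m i (F.map f.op x))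
    {T : Over S} (R : Sieve T) (hR : R ∈ (J S) T) (x y : F.obj (op T))
    (hxy : ∀ ⦃T' : Over S⦄ (f : T' ⟶ T), R f → F.map f.op x = F.map f.op y) : x = y := by
  -- the case where both sections lie in subfunctors
  have key : ∀ {W : Over S} (R' : Sieve W) (_ : R' ∈ (J S) W) (x' y' : F.obj (op W))
      (i i' : ι) (_ : InF m i x') (_ : InF m i' y')
      (_ : ∀ ⦃T' : Over S⦄ (f : T' ⟶ W), R' f → F.map f.op x' = F.map f.op y'), x' = y' := by
    intro W R' hR' x' y' i i' _ hy' hxy'
    have hx'' : InF m i' x' := by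
      apply inF_of_local (hb i') x' R' hR'
      intro T' f hf
      rw [hxy' f hf]
      exact hy'.map f
    obtain ⟨a, rfl⟩ := hx''
    obtain ⟨b, rfl⟩ := hy'
    have hsep : Presieve.IsSeparatedFor (Fi i') R'.arrows :=
      (((isSheaf_iff_isSheaf_of_type _ _).1 (ha i')) R' hR').isSeparatedFor
    have hab : a = b := by
      refine hsep (fun T' f _ => (Fi i').map f.op a) _ _ (fun T' f _ => rfl) ?_
      intro T' f hf
      apply m_injective m i' T'
      have e1 := NatTrans.naturality_apply (m i') f.op a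
      have e2 := NatTrans.naturality_apply (m i') f.op b
      rw [e1, e2]
      exact (hxy' f hf).symm
    rw [hab]
  -- Zariski localization
  have hloc : ∀ t : T.left, ∃ (W : Over S) (k : W ⟶ T), IsOpenImmersion k.left ∧
      t ∈ Set.range k.left ∧ F.map k.op x = F.map k.op y := by
    intro t
    obtain ⟨W, k, hk1, ⟨w, hw⟩, i, hi⟩ := exists_open_inF hb hc x t
    obtain ⟨W', k', hk1', ⟨w', hw'⟩, i', hi'⟩ := exists_open_inF hb hc (F.map k.op y) w
    refine ⟨W', k' ≫ k, ?_, ⟨w', ?_⟩, ?_⟩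
    · haveI := hk1
      haveI := hk1'
      change IsOpenImmersion (k'.left ≫ k.left)
      infer_instance
    · change (k'.left ≫ k.left) w' = t
      rw [Scheme.Hom.comp_apply, hw', hw]
    · rw [map_comp', map_comp']
      refine key (R.pullback (k' ≫ k)) ((J S).pullback_stable _ hR) _ _ i i' (hi.map k') hi' ?_
      intro T' f hf
      rw [← map_comp', ← map_comp', ← map_comp', ← map_comp']
      exact hxy _ hf
  choose W k hk1 hk2 hk3 using hloc
  have hcov : Sieve.ofArrows W k ∈ (Jz S) T :=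
    ofArrows_mem_Jz W k hk1 (fun t => by
      obtain ⟨w, hw⟩ := hk2 t
      exact ⟨t, w, hw⟩)
  have hsep : Presieve.IsSeparatedFor F (Sieve.ofArrows W k).arrows :=
    (((isSheaf_iff_isSheaf_of_type _ _).1 h1) _ hcov).isSeparatedFor
  refine hsep (fun T' f _ => F.map f.op x) _ _ (fun T' f _ => rfl) ?_
  rintro T' f ⟨Z, e, _, ⟨t⟩, rfl⟩
  change F.map (e ≫ k t).op y = F.map (e ≫ k t).op x
  rw [map_comp', map_comp', hk3]

/-- `z` is a local amalgamation over `g` of the family `x` on the sieve `R`. -/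
def IsLocAmalg {T : Over S} (R : Sieve T) (x : Presieve.FamilyOfElements F R.arrows)
    {W : Over S} (g : W ⟶ T) (z : F.obj (op W)) : Prop :=
  ∀ ⦃T' : Over S⦄ (f : T' ⟶ W) (hf : R (f ≫ g)), F.map f.op z = x (f ≫ g) hf

/-- Zariski locally a compatible family for an fppf covering sieve has an amalgamation. -/
theorem exists_open_locAmalg [∀ i, Mono (m i)] (h1 : Presheaf.IsSheaf (Jz S) F)
    (ha : ∀ i, Presheaf.IsSheaf (J S) (Fi i)) (hb : ∀ i, RepBySp (m i))
    (hc : ∀ (T : Over S) (x : F.obj (op T)), ∃ R ∈ (J S) T,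
      ∀ ⦃T' : Over S⦄ (f : T' ⟶ T), R.arrows f → ∃ i, InF m i (F.map f.op x))
    {T : Over S} (R : Sieve T) (hR : R ∈ (J S) T) (x : Presieve.FamilyOfElements F R.arrows)
    (hx : x.Compatible) (t : T.left) :
    ∃ (W : Over S) (k : W ⟶ T), IsOpenImmersion k.left ∧ t ∈ Set.range k.left ∧
      ∃ z : F.obj (op W), IsLocAmalg R x k z := by
  obtain ⟨T₀, c, hcR, hcf, hcp, hcs⟩ := Bridge.exists_family_of_mem_J R hR
  obtain ⟨i₀, y₀, hy₀⟩ := hcs t
  obtain ⟨R₁, hR₁, hR₁i⟩ := hc _ (x (c i₀) (hcR i₀))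
  obtain ⟨T₁, c₁, hc₁R, hc₁f, hc₁p, hc₁s⟩ := Bridge.exists_family_of_mem_J R₁ hR₁
  obtain ⟨i₁, y₁, hy₁⟩ := hc₁s y₀
  obtain ⟨i, a, ha'⟩ := hR₁i (c₁ i₁) (hc₁R i₁)
  have hRh : R (c₁ i₁ ≫ c i₀) := R.downward_closed (hcR i₀) (c₁ i₁)
  have hxh : x (c₁ i₁ ≫ c i₀) hRh = F.map (c₁ i₁).op (x (c i₀) (hcR i₀)) :=
    (Presieve.compatible_iff_sieveCompatible x).1 hx (c i₀) (c₁ i₁) (hcR i₀)
  have hflat : Flat (c₁ i₁ ≫ c i₀).left := by
    haveI := hcf i₀
    haveI := hc₁f i₁
    change Flat ((c₁ i₁).left ≫ (c i₀).left)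
    infer_instance
  have hlfp : LocallyOfFinitePresentation (c₁ i₁ ≫ c i₀).left := by
    haveI := hcp i₀
    haveI := hc₁p i₁
    change LocallyOfFinitePresentation ((c₁ i₁).left ≫ (c i₀).left)
    infer_instance
  obtain ⟨W, k, h', hk1, hk2, hk3, hk4, hk5, hk6⟩ := exists_open_image _ hflat hlfp
  have hSv : Sieve.ofArrows (fun _ : PUnit.{1} => T₁ i₁) (fun _ => h') ∈ (J S) W :=
    singleton_mem_J h' hk3 hk4 hk5
  have hsh : Presieve.IsSheafFor (Fi i)
      (Presieve.ofArrows (fun _ : PUnit.{1} => T₁ i₁) (fun _ => h')) := by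
    rw [Presieve.isSheafFor_iff_generate]
    exact ((isSheaf_iff_isSheaf_of_type _ _).1 (ha i)) _ hSv
  rw [Presieve.isSheafFor_arrows_iff] at hsh
  obtain ⟨b, hb', -⟩ := hsh (fun _ => a) (by
    intro _ _ Z gi gj hg
    apply m_injective m i Z
    have e1 := NatTrans.naturality_apply (m i) gi.op a
    have e2 := NatTrans.naturality_apply (m i) gj.op a
    rw [e1, e2, ha', ← hxh]
    refine hx gi gj hRh hRh ?_
    rw [← hk2, ← Category.assoc, ← Category.assoc, hg])
  have hz : F.map h'.op ((m i).app (op W) b) = x (c₁ i₁ ≫ c i₀) hRh := by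
    have e1 := NatTrans.naturality_apply (m i) h'.op b
    rw [← e1, hb' PUnit.unit, ha', hxh]
  refine ⟨W, k, hk1, ?_, (m i).app (op W) b, ?_⟩
  · rw [hk6]
    refine ⟨y₁, ?_⟩
    change ((c₁ i₁).left ≫ (c i₀).left) y₁ = t
    rw [Scheme.Hom.comp_apply, hy₁, hy₀]
  · intro T'' f hf
    refine eq_of_local h1 ha hb hc (Sieve.pullback f (Sieve.ofArrows _ (fun _ => h')))
      ((J S).pullback_stable f hSv) _ _ ?_
    rintro T''' l ⟨Z, e, _, ⟨_⟩, he⟩
    rw [← map_comp', ← he, map_comp', hz]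
    refine (hx l e hf hRh ?_).symm
    rw [← hk2, ← Category.assoc, ← Category.assoc, he]

theorem fam_congr {T : Over S} {R : Sieve T} (x : Presieve.FamilyOfElements F R.arrows)
    {Y : Over S} {f₁ f₂ : Y ⟶ T} (h : f₁ = f₂) (h₁ : R f₁) (h₂ : R f₂) : x f₁ h₁ = x f₂ h₂ := by
  subst h
  rfl

/-- **A Zariski sheaf covered by fppf subsheaves with inclusions representable by algebraic
spaces is an fppf sheaf.** -/
theorem isSheaf_of_zariski [∀ i, Mono (m i)] (h1 : Presheaf.IsSheaf (Jz S) F)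
    (ha : ∀ i, Presheaf.IsSheaf (J S) (Fi i)) (hb : ∀ i, RepBySp (m i))
    (hc : ∀ (T : Over S) (x : F.obj (op T)), ∃ R ∈ (J S) T,
      ∀ ⦃T' : Over S⦄ (f : T' ⟶ T), R.arrows f → ∃ i, InF m i (F.map f.op x)) :
    Presheaf.IsSheaf (J S) F := by
  rw [isSheaf_iff_isSheaf_of_type]
  intro T R hR
  rw [← Presieve.isSeparatedFor_and_exists_isAmalgamation_iff_isSheafFor]
  refine ⟨?_, ?_⟩
  · intro x t₁ t₂ ht₁ ht₂
    exact eq_of_local h1 ha hb hc R hR t₁ t₂ (fun T' f hf => (ht₁ f hf).trans (ht₂ f hf).symm)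
  · intro x hx
    choose W k hk1 hk2 z hz using exists_open_locAmalg h1 ha hb hc R hR x hx
    have hcov : Sieve.ofArrows W k ∈ (Jz S) T :=
      ofArrows_mem_Jz W k hk1 (fun t => by
        obtain ⟨w, hw⟩ := hk2 t
        exact ⟨t, w, hw⟩)
    have huniq : ∀ {W' : Over S} (g : W' ⟶ T) (z₁ z₂ : F.obj (op W')),
        IsLocAmalg R x g z₁ → IsLocAmalg R x g z₂ → z₁ = z₂ := by
      intro W' g z₁ z₂ h₁ h₂
      exact eq_of_local h1 ha hb hc (R.pullback g) ((J S).pullback_stable g hR) z₁ z₂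
        (fun T' f hf => (h₁ f hf).trans (h₂ f hf).symm)
    have hres : ∀ {W' W'' : Over S} (g : W' ⟶ T) (e : W'' ⟶ W') (z' : F.obj (op W')),
        IsLocAmalg R x g z' → IsLocAmalg R x (e ≫ g) (F.map e.op z') := by
      intro W' W'' g e z' h T' f hf
      rw [← map_comp']
      have hf' : R ((f ≫ e) ≫ g) := by rwa [Category.assoc]
      rw [h (f ≫ e) hf']
      exact fam_congr x (Category.assoc _ _ _) _ _
    have hex : ∀ ⦃W' : Over S⦄ (g : W' ⟶ T), (Sieve.ofArrows W k) g →
        ∃ z' : F.obj (op W'), IsLocAmalg R x g z' := by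
      rintro W' g ⟨Z, e, _, ⟨t⟩, rfl⟩
      exact ⟨_, hres (k t) e (z t) (hz t)⟩
    choose zz hzz using hex
    have hcompat : Presieve.FamilyOfElements.Compatible (fun W' g hg => zz g hg :
        Presieve.FamilyOfElements F (Sieve.ofArrows W k).arrows) := by
      rw [Presieve.compatible_iff_sieveCompatible]
      intro Y Z g e hg
      exact huniq (e ≫ g) _ _ (hzz _ _) (hres g e _ (hzz g hg))
    obtain ⟨y, hy, -⟩ := ((isSheaf_iff_isSheaf_of_type _ _).1 h1 _ hcov) _ hcompat
    refine ⟨y, ?_⟩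
    intro T' f hf
    refine eq_of_local h1 ha hb hc (Sieve.pullback f (Sieve.ofArrows W k))
      ((J S).pullback_stable f (jz_le_J _ hcov)) _ _ ?_
    intro T'' l hl
    rw [← map_comp', hy (l ≫ f) hl]
    have hR' : R (𝟙 T'' ≫ l ≫ f) := by
      rw [Category.id_comp]
      exact R.downward_closed hf l
    have e1 := hzz (l ≫ f) hl (𝟙 T'') hR'
    rw [op_id, F.map_id] at e1
    change zz (l ≫ f) hl = _ at e1
    change zz (l ≫ f) hl = _
    rw [e1, fam_congr x (Category.id_comp _) hR' (R.downward_closed hf l)]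
    exact (Presieve.compatible_iff_sieveCompatible x).1 hx f l hf

end Main

end Groth.Agent.Helper15.ZarFppf
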