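import Mathlib
import Groth.Agent.Lib.Helper15.SoberDecent
import Groth.Agent.Lib.Helper15.AlgSpOpen
import Groth.Agent.Lib.Helper15.AlgSpUniv

/-!
# Open immersions of spaces are open embeddings on points; Zariski-local sobriety
-/

set_option autoImplicit false
universe u
open CategoryTheory CategoryTheory.Limits AlgebraicGeometry Opposite MorphismProperty
open AlgSp

namespace Groth.Agent.Helper15.ZarSober

open Groth.Agent.Helper15 Groth.Agent.Helper15.SoberDecent

variable {S : Scheme.{u}}

/-- An open immersion into an algebraic space is an open embedding on points. -/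
theorem isOpenEmbedding_points_of_openImmersion {Z X : Sp S} (hX : IsAlgSpace X) (j : Z ⟶ X)
    (hj : RepWith @IsOpenImmersion j) : Topology.IsOpenEmbedding (Points.map j) := by
  have hji : RepWith @IsImmersion j :=
    repWith_mono (P := @IsOpenImmersion) (P' := @IsImmersion)
      (fun _ _ f hf => by haveI : IsOpenImmersion f := hf; infer_instance) hj
  obtain ⟨U, p, hpe, hps⟩ := hX.atlas
  have hopen : IsOpenMap (Points.map j) :=
    isOpenMor_of_repWith j (P := @IsOpenImmersion)
      (fun φ hφ => by haveI : IsOpenImmersion φ := hφ; exact φ.isOpenEmbedding.isOpenMap)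
      hj p hpe hps
  exact Topology.IsOpenEmbedding.of_isEmbedding_isOpenMap
    (isEmbedding_points_of_immersion hX j hji).1 hopen

/-- Sobriety and the Kolmogorov property for a space with a Zariski covering by decent spaces. -/
theorem quasiSober_t0_of_isZarCover_decent {X : Sp S} (hX : IsAlgSpace X) {ι : Type u}
    (Xi : ι → Sp S) (j : ∀ i, Xi i ⟶ X) (hXi : ∀ i, IsAlgSpace (Xi i))
    (hcov : IsZarCover Xi j) (hd : ∀ i, IsDecent (Xi i)) :
    QuasiSober (Points X) ∧ T0Space (Points X) := by
  have hemb : ∀ i, Topology.IsOpenEmbedding (Points.map (j i)) := fun i =>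
    isOpenEmbedding_points_of_openImmersion hX (j i) (hcov.1 i)
  have hqs : ∀ i, QuasiSober (Set.range (Points.map (j i))) := by
    intro i
    haveI := quasiSober_points_of_isDecent (hXi i) (hd i)
    exact ((hemb i).isEmbedding.toHomeomorph).symm.isOpenEmbedding.quasiSober
  have ht0 : ∀ i, T0Space (Set.range (Points.map (j i))) := by
    intro i
    haveI := t0Space_points_of_isDecent (hXi i) (hd i)
    exact ((hemb i).isEmbedding.toHomeomorph).symm.isEmbedding.t0Space
  constructor
  · haveI : ∀ s : (Set.range fun i => Set.range (Points.map (j i))), QuasiSober s := by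
      rintro ⟨_, i, rfl⟩
      exact hqs i
    refine quasiSober_of_open_cover (Set.range fun i => Set.range (Points.map (j i))) ?_ ?_
    · rintro ⟨_, i, rfl⟩
      exact (hemb i).isOpen_range
    · apply Set.eq_univ_of_forall
      intro x
      obtain ⟨i, hi⟩ := hcov.2 x
      exact ⟨_, ⟨i, rfl⟩, hi⟩
  · refine T0Space.of_open_cover fun x => ?_
    obtain ⟨i, hi⟩ := hcov.2 x
    exact ⟨_, hi, (hemb i).isOpen_range, ht0 i⟩

end Groth.Agent.Helper15.ZarSober
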