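import Mathlib
import Groth.Prelude
import Groth.Agent.Lib.Helper15.ZeroDim2
import Groth.Agent.Lib.Helper15.AlgSpLim36

/-!
# Algebraic spaces locally of finite type over a field of dimension zero
-/

set_option autoImplicit false
universe u
open CategoryTheory CategoryTheory.Limits AlgebraicGeometry MorphismProperty Opposite
open AlgSp Groth.Agent.Helper16.AS

namespace Groth.Agent.Helper15.ZeroDim

open Groth.Agent.Helper15 Groth.Agent.Helper15.Strat Groth.Agent.Helper15.MaxPts
  Groth.Agent.Helper15.GenFin Groth.Agent.Helper15.Bir Groth.Agent.Helper15.C0Sch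

/-- Compact subsets of the source of a locally quasi-finite morphism to a discrete scheme are
finite. -/
theorem finite_of_isCompact_of_locallyQuasiFinite {P U : Scheme.{u}} (π : P ⟶ U)
    [LocallyQuasiFinite π] [DiscreteTopology U] (A : Set P) (hA : IsCompact A) : A.Finite := by
  refine Set.Finite.of_finite_fibers π ?_ ?_
  · exact (hA.image π.continuous).finite (IsDiscrete.univ.mono (Set.subset_univ _))
  · intro u _
    have hcl : IsClosed (π ⁻¹' {u}) := (isClosed_discrete {u}).preimage π.continuous
    exact (hA.inter_right hcl).finite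
      ((π.isDiscrete_preimage_singleton u).mono Set.inter_subset_right)

theorem isQuasiSeparatedSp_of_lft_field_dim_zero (k : Type u) [Field k]
    {X : Sp (Spec (CommRingCat.of k))} (hX : IsAlgSpace X)
    (p : X ⟶ (yon (Spec (CommRingCat.of k))).obj (Over.mk (𝟙 _)))
    (hp : LocP @LocallyOfFiniteType p) (hd : AlgSp.dim X = 0) : IsQuasiSeparatedSp X := by
  obtain ⟨U, q, hqe, hqs⟩ := hX.atlas
  have hUlft : LocallyOfFiniteType U.hom :=
    hp q (𝟙 _) (Over.homMk U.hom (by simp)) hqe (repWith_id _ _)
      (AlgSpLim.isTerminalYonBase.hom_ext _ _)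
  have hUdim : topologicalKrullDim ↥U.left ≤ 0 := by
    rw [← hd]
    exact le_iSup_of_le U (le_iSup_of_le q (le_iSup_of_le hqe le_rfl))
  haveI : IsLocallyNoetherian U.left := LocallyOfFiniteType.isLocallyNoetherian U.hom
  haveI : IsLocallyArtinian U.left := .of_topologicalKrullDim_le_zero hUdim
  haveI : DiscreteTopology ↥U.left := inferInstance
  haveI : LocallyQuasiFinite U.hom :=
    locallyQuasiFinite_iff_isDiscrete_preimage_singleton.2
      (fun x => IsDiscrete.univ.mono (Set.subset_univ _))
  have sq := hqe.rep.isPullback' q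
  set R := hqe.rep.pullback q
  set t := hqe.rep.fst' q
  set s := hqe.rep.snd q
  refine repWith_diag_of_chart hX.diag q hqe hqs s t sq @QuasiCompact ?_
  rw [quasiCompact_iff_forall_isAffineOpen]
  intro A hA
  let π₁ : (U ⨯ U).left ⟶ U.left := (prod.fst : U ⨯ U ⟶ U).left
  haveI : LocallyQuasiFinite π₁ := by
    have : π₁ = (Over.prodLeftIsoPullback U U).hom ≫ pullback.fst U.hom U.hom :=
      (Over.prodLeftIsoPullback_hom_fst (Y := U) (Z := U)).symm
    rw [this]
    infer_instance
  have hAfin : (A : Set (U ⨯ U).left).Finite :=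
    finite_of_isCompact_of_locallyQuasiFinite π₁ _ hA.isCompact
  haveI : Mono (prod.lift t s) := by
    refine ⟨fun {Z} a b hab => ?_⟩
    apply (yon _).map_injective
    apply sq.hom_ext
    · rw [← Functor.map_comp, ← Functor.map_comp]
      have := congrArg (fun φ => φ ≫ prod.fst) hab
      simpa only [Category.assoc, prod.lift_fst] using congrArg (yon _).map this
    · rw [← Functor.map_comp, ← Functor.map_comp]
      have := congrArg (fun φ => φ ≫ prod.snd) hab
      simpa only [Category.assoc, prod.lift_snd] using congrArg (yon _).map this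
  haveI : Mono (prod.lift t s).left := inferInstance
  exact (hAfin.preimage (prod.lift t s).left.injective.injOn).isCompact

end Groth.Agent.Helper15.ZeroDim
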